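import Mathlib
import Cfsg.Prelude.Def_PLocal
import Cfsg.Agent.Lead.ThompsonPQ
import Cfsg.Agent.Lead.CoprimeFrattini
import Cfsg.Agent.Helper9.NormalSeries

set_option autoImplicit false

namespace Cfsg.Agent.Helper26

open Cfsg Subgroup
open scoped commutatorElement

variable {L : Type*} [Group L]

theorem le_normalizer_inf' {A B K : Subgroup L} (hA : K ≤ normalizer (A : Set L))
    (hB : K ≤ normalizer (B : Set L)) : K ≤ normalizer ((A ⊓ B : Subgroup L) : Set L) := by
  rw [le_normalizer_iff] at hA hB ⊢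
  intro g hg x hx
  exact ⟨hA g hg x hx.1, hB g hg x hx.2⟩

/-- One step up: a proper `G`-invariant subgroup `H` of the `p`-group `N` (with `G` a `p`-group
normalizing `N`) is contained with index `p` in a `G`-invariant subgroup `K ≤ N` with
`[K, G] ≤ H`. -/
theorem exists_invariant_step [Finite L] {p : ℕ} [Fact p.Prime] {N G H : Subgroup L}
    (hN : IsPGroup p N) (hG : IsPGroup p G) (hGN : G ≤ normalizer (N : Set L)) (hHN : H < N)
    (hGH : G ≤ normalizer (H : Set L)) :
    ∃ K : Subgroup L, H ≤ K ∧ K ≤ N ∧ G ≤ normalizer (K : Set L) ∧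
      Nat.card K = p * Nat.card H ∧ ⁅K, G⁆ ≤ H := by
  have hp : p.Prime := Fact.out
  -- M = N_N(H)
  set M : Subgroup L := N ⊓ normalizer (H : Set L) with hM
  have hHM : H ≤ M := le_inf hHN.le le_normalizer
  have hMN : M ≤ N := inf_le_left
  have hHltM : H < M := by
    have hnil : Group.IsNilpotent N := hN.isNilpotent
    have hnc := Group.normalizerCondition_of_isNilpotent (G := N)
    have h1 : H.subgroupOf N < ⊤ := by
      rw [lt_top_iff_ne_top]
      intro h
      rw [subgroupOf_eq_top] at h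
      exact (not_le_of_gt hHN) h
    have h2 := hnc _ h1
    rw [← subgroupOf_normalizer_eq hHN.le] at h2
    obtain ⟨x, hx1, hx2⟩ := SetLike.exists_of_lt h2
    refine lt_of_le_of_ne hHM (fun heq => hx2 ?_)
    have : (x : L) ∈ M := ⟨x.2, hx1⟩
    rw [← heq] at this
    exact this
  have hGM : G ≤ normalizer (M : Set L) :=
    le_normalizer_inf' hGN (hGH.trans le_normalizer)
  set Γ : Subgroup L := G ⊔ M with hΓ
  have hMp : IsPGroup p M := hN.to_le hMN
  have hΓp : IsPGroup p Γ := IsPGroup.to_sup_of_normal_right' hG hMp hGM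
  have hGΓ : G ≤ Γ := le_sup_left
  have hMΓ : M ≤ Γ := le_sup_right
  have hHΓ : H ≤ Γ := hHM.trans hMΓ
  have hΓH : Γ ≤ normalizer (H : Set L) := sup_le hGH inf_le_right
  have hΓM : Γ ≤ normalizer (M : Set L) := sup_le hGM le_normalizer
  have hH'n : (H.subgroupOf Γ).Normal := normal_subgroupOf_of_le_normalizer hΓH
  have hM'n : (M.subgroupOf Γ).Normal := normal_subgroupOf_of_le_normalizer hΓM
  have hRp : IsPGroup p (Γ ⧸ H.subgroupOf Γ) := hΓp.to_quotient _
  set π := QuotientGroup.mk' (H.subgroupOf Γ) with hπ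
  have hπs : Function.Surjective π := QuotientGroup.mk'_surjective _
  have hMbn : ((M.subgroupOf Γ).map π).Normal := Subgroup.Normal.map hM'n π hπs
  have hMb_ne : (M.subgroupOf Γ).map π ≠ ⊥ := by
    intro h
    rw [Subgroup.map_eq_bot_iff, QuotientGroup.ker_mk'] at h
    apply not_le_of_gt hHltM
    intro x hx
    exact h (show (⟨x, hMΓ hx⟩ : Γ) ∈ M.subgroupOf Γ from hx)
  have hMb_card : p ^ 1 ≤ Nat.card ((M.subgroupOf Γ).map π) := by
    obtain ⟨k, hk⟩ := IsPGroup.iff_card.mp (hRp.to_subgroup ((M.subgroupOf Γ).map π))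
    rw [hk]
    apply Nat.pow_le_pow_right hp.pos
    rcases Nat.eq_zero_or_pos k with h0 | h0
    · exfalso
      rw [h0, pow_zero] at hk
      exact hMb_ne ((Subgroup.card_eq_one).mp hk)
    · exact h0
  obtain ⟨B, hBn, hBM, hBcard⟩ :=
    Cfsg.Agent.Helper9.exists_normal_le_card_eq hRp ((M.subgroupOf Γ).map π) 1 hMb_card
  rw [pow_one] at hBcard
  -- `B` is central
  have hBne : B ≠ ⊥ := by
    intro h
    rw [h, Subgroup.card_bot] at hBcard
    exact hp.one_lt.ne hBcard
  have hBcomm : ⁅B, (⊤ : Subgroup (Γ ⧸ H.subgroupOf Γ))⁆ = ⊥ := by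
    have hlt := Cfsg.Agent.Lead.commutator_lt_of_isPGroup (hRp.to_subgroup B)
      (hRp.to_subgroup ⊤) (by
        intro x _
        exact (normalizer_eq_top (H := B)) ▸ Subgroup.mem_top x) hBne
    have hdvd := Subgroup.card_dvd_of_le hlt.le
    rw [hBcard] at hdvd
    rcases (Nat.dvd_prime hp).mp hdvd with h1 | h1
    · exact (Subgroup.card_eq_one).mp h1
    · exfalso
      have hfin : Finite B := inferInstance
      have := Subgroup.eq_of_le_of_card_ge hlt.le (by rw [h1, hBcard])
      exact hlt.ne this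
  set K' : Subgroup Γ := B.comap π with hK'
  have hK'n : K'.Normal := Subgroup.Normal.comap hBn π
  refine ⟨K'.map Γ.subtype, ?_, ?_, ?_, ?_, ?_⟩
  · intro x hx
    refine ⟨⟨x, hHΓ hx⟩, ?_, rfl⟩
    show π ⟨x, hHΓ hx⟩ ∈ B
    have : π ⟨x, hHΓ hx⟩ = 1 := by
      rw [hπ, QuotientGroup.mk'_apply, QuotientGroup.eq_one_iff]
      exact hx
    rw [this]
    exact B.one_mem
  · rintro _ ⟨x, hx, rfl⟩
    have h1 : π x ∈ (M.subgroupOf Γ).map π := hBM hx
    obtain ⟨m, hm, hmx⟩ := h1
    have h2 : m⁻¹ * x ∈ H.subgroupOf Γ := by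
      rw [← QuotientGroup.eq]
      exact hmx
    have h3 : (m⁻¹ * x : Γ) ∈ M.subgroupOf Γ := by
      have : ((m⁻¹ * x : Γ) : L) ∈ H := h2
      exact hHM this
    have h4 : x ∈ M.subgroupOf Γ := by
      have := (M.subgroupOf Γ).mul_mem hm h3
      simpa using this
    exact hMN h4
  · rw [le_normalizer_iff]
    rintro g hg _ ⟨x, hx, rfl⟩
    refine ⟨⟨g, hGΓ hg⟩ * x * ⟨g, hGΓ hg⟩⁻¹, hK'n.conj_mem x hx _, rfl⟩
  · have h1 : Nat.card (K'.map Γ.subtype) = Nat.card K' :=
      Nat.card_congr (K'.equivMapOfInjective Γ.subtype Γ.subtype_injective).symm.toEquiv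
    have h2 : Nat.card K' = Nat.card B * Nat.card (H.subgroupOf Γ) :=
      Cfsg.Agent.Helper9.card_comap_mk' (H.subgroupOf Γ) B
    have h3 : Nat.card (H.subgroupOf Γ) = Nat.card H :=
      Nat.card_congr (Subgroup.subgroupOfEquivOfLe hHΓ).toEquiv
    rw [h1, h2, h3, hBcard]
  · rw [commutator_le]
    rintro _ ⟨x, hx, rfl⟩ g hg
    have h1 : ⁅π x, π ⟨g, hGΓ hg⟩⁆ ∈ ⁅B, (⊤ : Subgroup (Γ ⧸ H.subgroupOf Γ))⁆ :=
      commutator_mem_commutator hx (Subgroup.mem_top _)
    rw [hBcomm, Subgroup.mem_bot, ← map_commutatorElement] at h1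
    have h2 : ⁅x, (⟨g, hGΓ hg⟩ : Γ)⁆ ∈ H.subgroupOf Γ := by
      rw [← QuotientGroup.eq_one_iff]
      exact h1
    have h3 : ((⁅x, (⟨g, hGΓ hg⟩ : Γ)⁆ : Γ) : L) ∈ H := h2
    have e : ((⁅x, (⟨g, hGΓ hg⟩ : Γ)⁆ : Γ) : L) = ⁅Γ.subtype x, g⁆ := by
      simp [commutatorElement_def]
    rwa [e] at h3

section Chain

variable [Finite L] {p : ℕ} [Fact p.Prime] {N G : Subgroup L}

omit [Finite L] in
theorem le_normalizer_commutator {A B K : Subgroup L} (hA : K ≤ normalizer (A : Set L))
    (hB : K ≤ normalizer (B : Set L)) : K ≤ normalizer ((⁅A, B⁆ : Subgroup L) : Set L) := by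
  rw [le_normalizer_iff] at hA hB ⊢
  intro g hg x hx
  have hmap : (⁅A, B⁆).map (MulAut.conj g).toMonoidHom ≤ ⁅A, B⁆ := by
    rw [Subgroup.map_commutator, commutator_le]
    rintro _ ⟨a, ha, rfl⟩ _ ⟨b, hb, rfl⟩
    exact commutator_mem_commutator (hA g hg a ha) (hB g hg b hb)
  exact hmap ⟨x, hx, rfl⟩

theorem iter_props (hGN : G ≤ normalizer (N : Set L)) :
    ∀ i, iterCommutator N G i ≤ N ∧ G ≤ normalizer (iterCommutator N G i : Set L) := by
  intro i
  induction i with
  | zero => exact ⟨le_rfl, hGN⟩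
  | succ i ih =>
    refine ⟨?_, ?_⟩
    · show ⁅iterCommutator N G i, G⁆ ≤ N
      exact (Cfsg.Agent.Lead.commutator_le_of_le_normalizer ih.2).trans ih.1
    · show G ≤ normalizer ((⁅iterCommutator N G i, G⁆ : Subgroup L) : Set L)
      exact le_normalizer_commutator ih.2 le_normalizer

theorem iter_succ_le (hGN : G ≤ normalizer (N : Set L)) (i : ℕ) :
    iterCommutator N G (i + 1) ≤ iterCommutator N G i :=
  Cfsg.Agent.Lead.commutator_le_of_le_normalizer (iter_props hGN i).2

theorem iter_antitone (hGN : G ≤ normalizer (N : Set L)) : Antitone (iterCommutator N G) :=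
  antitone_nat_of_succ_le (iter_succ_le hGN)

theorem iter_succ_lt (hN : IsPGroup p N) (hG : IsPGroup p G) (hGN : G ≤ normalizer (N : Set L))
    (i : ℕ) (hne : iterCommutator N G i ≠ ⊥) :
    iterCommutator N G (i + 1) < iterCommutator N G i :=
  Cfsg.Agent.Lead.commutator_lt_of_isPGroup (hN.to_le (iter_props hGN i).1) hG
    (iter_props hGN i).2 hne

/-- Strict inclusion of subgroups of a `p`-group multiplies the order by at least `p`. -/
theorem card_mul_le_of_lt {A B : Subgroup L} (hB : IsPGroup p B) (hAB : A < B) :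
    p * Nat.card A ≤ Nat.card B := by
  have hp : p.Prime := Fact.out
  obtain ⟨b, hb⟩ := IsPGroup.iff_card.mp hB
  have hdvd : Nat.card A ∣ Nat.card B := Subgroup.card_dvd_of_le hAB.le
  rw [hb] at hdvd
  obtain ⟨a, hab, ha⟩ := (Nat.dvd_prime_pow hp).mp hdvd
  have hlt : Nat.card A < Nat.card B := by
    have hle : Nat.card A ≤ Nat.card B := Subgroup.card_le_of_le hAB.le
    refine lt_of_le_of_ne hle (fun h => ?_)
    exact hAB.ne (Subgroup.eq_of_le_of_card_ge hAB.le h.ge)
  rw [hb, ha] at hlt ⊢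
  have hab' : a < b := (Nat.pow_lt_pow_iff_right hp.one_lt).mp hlt
  rw [← pow_succ']
  exact Nat.pow_le_pow_right hp.pos hab'

omit [Finite L] in
theorem card_eq_card_mul_relIndex {A B : Subgroup L} (hAB : A ≤ B) :
    Nat.card B = Nat.card A * A.relIndex B := by
  have h1 := Subgroup.card_mul_index (A.subgroupOf B)
  have h2 : Nat.card (A.subgroupOf B) = Nat.card A :=
    Nat.card_congr (Subgroup.subgroupOfEquivOfLe hAB).toEquiv
  rw [h2] at h1
  exact h1.symm

/-- The uniserial condition. -/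
def UniserialCond (p : ℕ) (N G : Subgroup L) : Prop :=
  ∀ H : Subgroup L, H ≤ N → G ≤ Subgroup.normalizer (H : Set L) → H ≠ ⊥ →
    (⁅H, G⁆).relIndex H = p

/-- The chain condition: the `i`-th iterated commutator has order `p^(n-i)`. -/
def ChainCond (p : ℕ) (N G : Subgroup L) (n : ℕ) : Prop :=
  ∀ i ≤ n, Nat.card (iterCommutator N G i) = p ^ (n - i)

theorem chainCond_of_uniserial (hGN : G ≤ normalizer (N : Set L)) (n : ℕ)
    (hn : Nat.card N = p ^ n) (hU : UniserialCond p N G) : ChainCond p N G n := by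
  have hp : p.Prime := Fact.out
  intro i
  induction i with
  | zero => intro _; exact hn
  | succ i ih =>
    intro hi
    have hci := ih (by omega)
    have hne : iterCommutator N G i ≠ ⊥ := by
      intro h
      rw [h, Subgroup.card_bot] at hci
      have : 1 < p ^ (n - i) := Nat.one_lt_pow (by omega) hp.one_lt
      omega
    have hr := hU _ (iter_props hGN i).1 (iter_props hGN i).2 hne
    have hc := card_eq_card_mul_relIndex (iter_succ_le hGN i)
    have hr' : (iterCommutator N G (i + 1)).relIndex (iterCommutator N G i) = p := hr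
    rw [hr', hci] at hc
    have e : n - i = (n - (i + 1)) + 1 := by omega
    rw [e, pow_succ] at hc
    exact (Nat.eq_of_mul_eq_mul_right hp.pos hc).symm

theorem chainCond_of_ne_bot (hN : IsPGroup p N) (hG : IsPGroup p G)
    (hGN : G ≤ normalizer (N : Set L)) (n : ℕ) (hn : Nat.card N = p ^ n) (hn1 : 1 ≤ n)
    (hne : iterCommutator N G (n - 1) ≠ ⊥) : ChainCond p N G n := by
  have hp : p.Prime := Fact.out
  have hne' : ∀ i ≤ n - 1, iterCommutator N G i ≠ ⊥ := by
    intro i hi h
    apply hne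
    rw [eq_bot_iff, ← h]
    exact iter_antitone hGN hi
  have hstep : ∀ i ≤ n - 1,
      p * Nat.card (iterCommutator N G (i + 1)) ≤ Nat.card (iterCommutator N G i) := by
    intro i hi
    exact card_mul_le_of_lt (hN.to_le (iter_props hGN i).1) (iter_succ_lt hN hG hGN i (hne' i hi))
  -- upper bound
  have hupper : ∀ i ≤ n, Nat.card (iterCommutator N G i) * p ^ i ≤ p ^ n := by
    intro i
    induction i with
    | zero => intro _; rw [pow_zero, mul_one]; exact hn.le
    | succ i ih =>
      intro hi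
      have h1 := ih (by omega)
      have h2 := hstep i (by omega)
      calc Nat.card (iterCommutator N G (i + 1)) * p ^ (i + 1)
          = (p * Nat.card (iterCommutator N G (i + 1))) * p ^ i := by rw [pow_succ]; ring
        _ ≤ Nat.card (iterCommutator N G i) * p ^ i := Nat.mul_le_mul_right _ h2
        _ ≤ p ^ n := h1
  -- lower bound
  have hlower : ∀ d, d ≤ n - 1 → p ^ (d + 1) ≤ Nat.card (iterCommutator N G (n - 1 - d)) := by
    intro d
    induction d with
    | zero =>
      intro _
      rw [Nat.sub_zero, zero_add, pow_one]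
      obtain ⟨k, hk⟩ := IsPGroup.iff_card.mp (hN.to_le (iter_props hGN (n - 1)).1)
      rw [hk]
      rcases Nat.eq_zero_or_pos k with h0 | h0
      · exfalso
        rw [h0, pow_zero] at hk
        exact hne ((Subgroup.card_eq_one).mp hk)
      · calc p = p ^ 1 := (pow_one p).symm
          _ ≤ p ^ k := Nat.pow_le_pow_right hp.pos h0
    | succ d ih =>
      intro hd
      have h1 := ih (by omega)
      have h2 := hstep (n - 1 - (d + 1)) (by omega)
      have e : n - 1 - (d + 1) + 1 = n - 1 - d := by omega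
      rw [e] at h2
      calc p ^ (d + 1 + 1) = p * p ^ (d + 1) := by rw [pow_succ']
        _ ≤ p * Nat.card (iterCommutator N G (n - 1 - d)) := Nat.mul_le_mul_left _ h1
        _ ≤ _ := h2
  intro i hi
  have hu := hupper i hi
  rcases Nat.lt_or_ge i n with hlt | hge
  · have hl := hlower (n - 1 - i) (by omega)
    have e1 : n - 1 - (n - 1 - i) = i := by omega
    have e2 : n - 1 - i + 1 = n - i := by omega
    rw [e1, e2] at hl
    apply le_antisymm _ hl
    have e3 : p ^ n = p ^ (n - i) * p ^ i := by rw [← pow_add]; congr 1; omega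
    rw [e3] at hu
    exact Nat.le_of_mul_le_mul_right hu (pow_pos hp.pos i)
  · have hin : i = n := le_antisymm hi hge
    rw [hin] at hu ⊢
    rw [Nat.sub_self, pow_zero]
    have hpos : 0 < p ^ n := pow_pos hp.pos n
    have h1 : Nat.card (iterCommutator N G n) * p ^ n ≤ 1 * p ^ n := by rw [one_mul]; exact hu
    have h2 := Nat.le_of_mul_le_mul_right h1 hpos
    have h3 : 0 < Nat.card (iterCommutator N G n) := Nat.card_pos
    omega

/-- Under the chain condition every `G`-invariant subgroup of order `p^(n-c)` is the `c`-th term. -/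
theorem eq_iter_of_chainCond (hN : IsPGroup p N) (hG : IsPGroup p G)
    (hGN : G ≤ normalizer (N : Set L)) (n : ℕ) (hCC : ChainCond p N G n) :
    ∀ c ≤ n, ∀ H : Subgroup L, H ≤ N → G ≤ normalizer (H : Set L) →
      Nat.card H = p ^ (n - c) → H = iterCommutator N G c := by
  have hp : p.Prime := Fact.out
  have hn : Nat.card N = p ^ n := hCC 0 (Nat.zero_le n)
  intro c
  induction c with
  | zero =>
    intro _ H hHN _ hcard
    exact Subgroup.eq_of_le_of_card_ge hHN (by rw [hcard]; exact hn.le)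
  | succ c ih =>
    intro hc H hHN hGH hcard
    have hlt : H < N := by
      refine lt_of_le_of_ne hHN (fun h => ?_)
      rw [h, hn] at hcard
      have := Nat.pow_right_injective hp.two_le hcard
      omega
    obtain ⟨K, hHK, hKN, hGK, hKcard, hKG⟩ := exists_invariant_step hN hG hGN hlt hGH
    have hKc : Nat.card K = p ^ (n - c) := by
      rw [hKcard, hcard, ← pow_succ']
      congr 1
      omega
    have hK := ih (by omega) K hKN hGK hKc
    have hle : iterCommutator N G (c + 1) ≤ H := by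
      show ⁅iterCommutator N G c, G⁆ ≤ H
      rw [← hK]
      exact hKG
    have := Subgroup.eq_of_le_of_card_ge hle (by rw [hcard, hCC (c + 1) hc])
    exact this.symm

theorem exists_eq_iter_of_chainCond (hN : IsPGroup p N) (hG : IsPGroup p G)
    (hGN : G ≤ normalizer (N : Set L)) (n : ℕ) (hCC : ChainCond p N G n)
    (H : Subgroup L) (hHN : H ≤ N) (hGH : G ≤ normalizer (H : Set L)) :
    ∃ c ≤ n, H = iterCommutator N G c ∧ Nat.card H = p ^ (n - c) := by
  have hp : p.Prime := Fact.out
  have hn : Nat.card N = p ^ n := hCC 0 (Nat.zero_le n)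
  have hdvd : Nat.card H ∣ p ^ n := hn ▸ Subgroup.card_dvd_of_le hHN
  obtain ⟨k, hk, hcard⟩ := (Nat.dvd_prime_pow hp).mp hdvd
  have e : n - (n - k) = k := by omega
  exact ⟨n - k, by omega, eq_iter_of_chainCond hN hG hGN n hCC (n - k) (by omega) H hHN hGH
    (by rw [e]; exact hcard), by rw [e]; exact hcard⟩

theorem uniserial_of_chainCond (hN : IsPGroup p N) (hG : IsPGroup p G)
    (hGN : G ≤ normalizer (N : Set L)) (n : ℕ) (hCC : ChainCond p N G n) :
    UniserialCond p N G := by
  have hp : p.Prime := Fact.out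
  intro H hHN hGH hne
  obtain ⟨c, hc, hHc, hcard⟩ := exists_eq_iter_of_chainCond hN hG hGN n hCC H hHN hGH
  have hcn : c < n := by
    rcases Nat.lt_or_ge c n with h | h
    · exact h
    · exfalso
      have : c = n := le_antisymm hc h
      rw [this, Nat.sub_self, pow_zero] at hcard
      exact hne ((Subgroup.card_eq_one).mp hcard)
  have h1 : (⁅H, G⁆ : Subgroup L) = iterCommutator N G (c + 1) := by
    rw [hHc]; rfl
  have h2 := card_eq_card_mul_relIndex (Cfsg.Agent.Lead.commutator_le_of_le_normalizer hGH)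
  rw [hcard, h1, hCC (c + 1) hcn] at h2
  rw [h1]
  have e : n - c = (n - (c + 1)) + 1 := by omega
  rw [e, pow_succ] at h2
  exact (Nat.eq_of_mul_eq_mul_left (pow_pos hp.pos _) h2).symm

omit [Finite L] in
theorem commutator_ucs_map_le (Q : Subgroup L) (i : ℕ) :
    ⁅Q, (Subgroup.upperCentralSeries Q (i + 1)).map Q.subtype⁆ ≤
      (Subgroup.upperCentralSeries Q i).map Q.subtype := by
  rw [Subgroup.commutator_le]
  rintro q hq _ ⟨z, hz, rfl⟩
  have h1 : ⁅z, (⟨q, hq⟩ : Q)⁆ ∈ Subgroup.upperCentralSeries Q i :=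
    Subgroup.mem_upperCentralSeries_succ_iff.mp hz ⟨q, hq⟩
  have h2 : ⁅(⟨q, hq⟩ : Q), z⁆ ∈ Subgroup.upperCentralSeries Q i := by
    rw [← commutatorElement_inv]
    exact inv_mem h1
  exact ⟨_, h2, by simp [commutatorElement_def]⟩

/-- Under the chain condition every `G`-invariant subgroup of `N` is normalized by `N`. -/
theorem le_normalizer_of_chainCond (hN : IsPGroup p N) (hG : IsPGroup p G)
    (hGN : G ≤ normalizer (N : Set L)) (n : ℕ) (hCC : ChainCond p N G n)
    (H : Subgroup L) (hHN : H ≤ N) (hGH : G ≤ normalizer (H : Set L)) :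
    N ≤ normalizer (H : Set L) := by
  have hnil : Group.IsNilpotent N := hN.isNilpotent
  obtain ⟨m, hm⟩ := hnil.nilpotent'
  -- comparability of invariant subgroups
  have hcomp : ∀ H₁ H₂ : Subgroup L, H₁ ≤ N → G ≤ normalizer (H₁ : Set L) → H₂ ≤ N →
      G ≤ normalizer (H₂ : Set L) → H₁ ≤ H₂ ∨ H₂ ≤ H₁ := by
    intro H₁ H₂ h₁ g₁ h₂ g₂
    obtain ⟨c₁, -, e₁, -⟩ := exists_eq_iter_of_chainCond hN hG hGN n hCC H₁ h₁ g₁
    obtain ⟨c₂, -, e₂, -⟩ := exists_eq_iter_of_chainCond hN hG hGN n hCC H₂ h₂ g₂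
    rw [e₁, e₂]
    rcases le_total c₁ c₂ with h | h
    · exact Or.inr (iter_antitone hGN h)
    · exact Or.inl (iter_antitone hGN h)
  let Z : ℕ → Subgroup L := fun j => (Subgroup.upperCentralSeries N j).map N.subtype
  have hZN : ∀ j, Z j ≤ N := by
    rintro j _ ⟨z, -, rfl⟩
    exact z.2
  have hZG : ∀ j, G ≤ normalizer (Z j : Set L) := fun j =>
    hGN.trans (Cfsg.Agent.Lead.normalizer_le_normalizer_map_of_characteristic N _)
  by_cases hall : ∀ j, Z j ≤ H
  · have hNH : N ≤ H := by
      have h1 := hall m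
      have h2 : Z m = N := by
        show (Subgroup.upperCentralSeries N m).map N.subtype = N
        rw [hm, ← MonoidHom.range_eq_map, Subgroup.range_subtype]
      rwa [h2] at h1
    have : H = N := le_antisymm hHN hNH
    rw [this]
    exact le_normalizer
  · push Not at hall
    classical
    have hj0 : Nat.find hall ≠ 0 := by
      intro h0
      have := Nat.find_spec hall
      rw [h0] at this
      apply this
      show (Subgroup.upperCentralSeries N 0).map N.subtype ≤ H
      rw [Subgroup.upperCentralSeries_zero, Subgroup.map_bot]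
      exact bot_le
    obtain ⟨j, hj⟩ := Nat.exists_eq_succ_of_ne_zero hj0
    have hjH : Z j ≤ H := by
      by_contra h
      have := Nat.find_min' hall h
      omega
    have hj1 : ¬ Z (j + 1) ≤ H := by
      have := Nat.find_spec hall
      rw [hj] at this
      exact this
    have hHZ : H ≤ Z (j + 1) := by
      rcases hcomp H (Z (j + 1)) hHN hGH (hZN _) (hZG _) with h | h
      · exact h
      · exact absurd h hj1
    rw [le_normalizer_iff]
    intro x hx a ha
    have h1 : ⁅x, a⁆ ∈ ⁅N, Z (j + 1)⁆ := commutator_mem_commutator hx (hHZ ha)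
    have h2 : ⁅x, a⁆ ∈ H := hjH (commutator_ucs_map_le N j h1)
    have e : x * a * x⁻¹ = ⁅x, a⁆ * a := by
      rw [commutatorElement_def]; group
    rw [e]
    exact H.mul_mem h2 ha

end Chain

end Cfsg.Agent.Helper26
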