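import Mathlib
import Cfsg.Agent.Helper26.Uniserial

set_option autoImplicit false

namespace Cfsg.Agent.Helper26

open Subgroup
open scoped commutatorElement

variable {G : Type*} [Group G]

theorem commutator_self_le (B : Subgroup G) : ⁅B, B⁆ ≤ B := by
  rw [commutator_le]
  intro x hx y hy
  exact B.mul_mem (B.mul_mem (B.mul_mem hx hy) (B.inv_mem hx)) (B.inv_mem hy)

/-- If `A` normalizes `B` and centralizes `B'`, then `[B,A]` centralizes `B'` and `[B,A]'` is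
central in `B`. -/
theorem commutator_operator_central (A B : Subgroup G)
    (hAB : A ≤ normalizer (B : Set G)) (hc : ⁅⁅B, B⁆, A⁆ = ⊥) :
    ⁅⁅B, A⁆, ⁅B, B⁆⁆ = ⊥ ∧ ⁅⁅⁅B, A⁆, ⁅B, A⁆⁆, B⁆ = ⊥ := by
  have hD_le : ⁅B, A⁆ ≤ B := Cfsg.Agent.Lead.commutator_le_of_le_normalizer hAB
  have h1 : ⁅⁅B, A⁆, ⁅B, B⁆⁆ = ⊥ := by
    apply commutator_commutator_eq_bot_of_rotate
    · rw [commutator_comm A, hc, commutator_bot_left]
    · rw [eq_bot_iff, ← hc]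
      exact commutator_mono (commutator_mono (commutator_self_le B) le_rfl) le_rfl
  refine ⟨h1, ?_⟩
  have h2 : ⁅⁅⁅B, A⁆, B⁆, ⁅B, A⁆⁆ = ⊥ := by
    rw [eq_bot_iff, ← h1, commutator_comm ⁅B, A⁆ ⁅B, B⁆]
    exact commutator_mono (commutator_mono hD_le le_rfl) le_rfl
  apply commutator_commutator_eq_bot_of_rotate
  · exact h2
  · rw [commutator_comm B]
    exact h2

/-- Second part: for abelian `A` and `b ∈ B` with `[[b,A],A,A] = 1`, the derived subgroup of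
`[b,A]` has exponent dividing `2`. -/
theorem commutator_operator_exponent_two (A B : Subgroup G)
    (hAB : A ≤ normalizer (B : Set G)) (hc : ⁅⁅B, B⁆, A⁆ = ⊥)
    (hAcomm : ∀ a ∈ A, ∀ c ∈ A, a * c = c * a) (b : G) (hb : b ∈ B)
    (hX : ⁅⁅(closure {g : G | ∃ a ∈ A, g = b⁻¹ * a * b * a⁻¹}), A⁆, A⁆ = ⊥) :
    ∀ w ∈ ⁅(closure {g : G | ∃ a ∈ A, g = b⁻¹ * a * b * a⁻¹}),
      (closure {g : G | ∃ a ∈ A, g = b⁻¹ * a * b * a⁻¹})⁆, w ^ 2 = 1 := by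
  set X : Subgroup G := closure {g : G | ∃ a ∈ A, g = b⁻¹ * a * b * a⁻¹} with hXdef
  obtain ⟨hDB', hD'B⟩ := commutator_operator_central A B hAB hc
  set D : Subgroup G := ⁅B, A⁆ with hDdef
  have hD_le : D ≤ B := Cfsg.Agent.Lead.commutator_le_of_le_normalizer hAB
  have hAD : A ≤ normalizer (D : Set G) := le_normalizer_commutator hAB le_normalizer
  -- the generators
  have hu : ∀ a ∈ A, b⁻¹ * a * b * a⁻¹ ∈ X := fun a ha => subset_closure ⟨a, ha, rfl⟩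
  have hXD : X ≤ D := by
    rw [hXdef, closure_le]
    rintro _ ⟨a, ha, rfl⟩
    have : b⁻¹ * a * b * a⁻¹ = ⁅b⁻¹, a⁆ := by rw [commutatorElement_def, inv_inv]
    rw [this]
    exact commutator_mem_commutator (B.inv_mem hb) ha
  have hXB : X ≤ B := hXD.trans hD_le
  -- centralizing facts
  have hcentral : ∀ z ∈ ⁅D, D⁆, ∀ x ∈ B, x * z * x⁻¹ = z := by
    intro z hz x hx
    have h1 : ⁅D, D⁆ ≤ centralizer (B : Set G) := commutator_eq_bot_iff_le_centralizer.mp hD'B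
    have h2 := (mem_centralizer_iff.mp (h1 hz)) x hx
    rw [h2, mul_inv_cancel_right]
  have hDcentB' : ∀ d ∈ D, ∀ z ∈ ⁅B, B⁆, d * z * d⁻¹ = z := by
    intro d hd z hz
    have h1 : D ≤ centralizer ((⁅B, B⁆ : Subgroup G) : Set G) := commutator_eq_bot_iff_le_centralizer.mp hDB'
    have h2 := (mem_centralizer_iff.mp (h1 hd)) z hz
    rw [← h2, mul_inv_cancel_right]
  have hAcentB' : ∀ a ∈ A, ∀ z ∈ ⁅B, B⁆, a * z * a⁻¹ = z := by
    intro a ha z hz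
    have h1 : ⁅B, B⁆ ≤ centralizer (A : Set G) := commutator_eq_bot_iff_le_centralizer.mp hc
    have h2 := (mem_centralizer_iff.mp (h1 hz)) a ha
    rw [h2, mul_inv_cancel_right]
  have hAcentY : ∀ a ∈ A, ∀ w ∈ ⁅X, A⁆, a * w * a⁻¹ = w := by
    intro a ha w hw
    have h1 : ⁅X, A⁆ ≤ centralizer (A : Set G) := commutator_eq_bot_iff_le_centralizer.mp hX
    have h2 := (mem_centralizer_iff.mp (h1 hw)) a ha
    rw [h2, mul_inv_cancel_right]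
  have hYD : ⁅X, A⁆ ≤ D := commutator_mono hXB le_rfl
  have hAconjD : ∀ a ∈ A, ∀ d ∈ D, a * d * a⁻¹ ∈ D := fun a ha d hd =>
    (le_normalizer_iff.mp hAD) a ha d hd
  -- the basic relation (R)
  have hR : ∀ a ∈ A, ∀ d ∈ D,
      ⁅b, d⁆ = ⁅b⁻¹ * a * b * a⁻¹, a * d * a⁻¹⁆ * ⁅b, a * d * a⁻¹⁆ := by
    intro a ha d hd
    have h1 : a * ⁅b, d⁆ * a⁻¹ = ⁅b, d⁆ :=
      hAcentB' a ha _ (commutator_mem_commutator hb (hD_le hd))
    have h2 : a * ⁅b, d⁆ * a⁻¹ =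
        b * ⁅b⁻¹ * a * b * a⁻¹, a * d * a⁻¹⁆ * b⁻¹ * ⁅b, a * d * a⁻¹⁆ := by
      simp only [commutatorElement_def]
      group
    have h5 : b * ⁅b⁻¹ * a * b * a⁻¹, a * d * a⁻¹⁆ * b⁻¹ = ⁅b⁻¹ * a * b * a⁻¹, a * d * a⁻¹⁆ :=
      hcentral _ (commutator_mem_commutator (hXD (hu a ha)) (hAconjD a ha d hd)) b hb
    rw [← h1, h2, h5]
  -- (E2): `Y` commutes with the generators
  have hE2 : ∀ a ∈ A, ∀ w ∈ ⁅X, A⁆, ⁅b⁻¹ * a * b * a⁻¹, w⁆ = 1 := by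
    intro a ha w hw
    have h1 := hR a ha w (hYD hw)
    rw [hAcentY a ha w hw] at h1
    exact (mul_eq_right.mp h1.symm)
  have hwY : ∀ a ∈ A, ∀ c ∈ A, ⁅a, b⁻¹ * c * b * c⁻¹⁆ ∈ ⁅X, A⁆ := by
    intro a ha c hc'
    rw [commutator_comm]
    exact commutator_mem_commutator ha (hu c hc')
  -- (E3)
  have hE3 : ∀ a ∈ A, ∀ c ∈ A,
      ⁅b⁻¹ * a * b * a⁻¹, b⁻¹ * c * b * c⁻¹⁆ * ⁅b, ⁅a, b⁻¹ * c * b * c⁻¹⁆⁆ = 1 := by
    intro a ha c hc'
    set v := b⁻¹ * c * b * c⁻¹ with hv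
    set w := ⁅a, v⁆ with hw
    have hvX : v ∈ X := hu c hc'
    have hwYm : w ∈ ⁅X, A⁆ := hwY a ha c hc'
    have hwB : w ∈ B := hD_le (hYD hwYm)
    have h1 := hR a ha v (hXD hvX)
    have e1 : a * v * a⁻¹ = w * v := by
      rw [hw, commutatorElement_def]; group
    rw [e1] at h1
    have e2 : ⁅b⁻¹ * a * b * a⁻¹, w * v⁆ =
        ⁅b⁻¹ * a * b * a⁻¹, w⁆ * (w * ⁅b⁻¹ * a * b * a⁻¹, v⁆ * w⁻¹) := by
      simp only [commutatorElement_def]; group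
    have e3 : ⁅b, w * v⁆ = ⁅b, w⁆ * (w * ⁅b, v⁆ * w⁻¹) := by
      simp only [commutatorElement_def]; group
    have e4 : w * ⁅b⁻¹ * a * b * a⁻¹, v⁆ * w⁻¹ = ⁅b⁻¹ * a * b * a⁻¹, v⁆ :=
      hcentral _ (commutator_mem_commutator (hXD (hu a ha)) (hXD hvX)) w hwB
    have e5 : w * ⁅b, v⁆ * w⁻¹ = ⁅b, v⁆ :=
      hDcentB' w (hYD hwYm) _ (commutator_mem_commutator hb (hXB hvX))
    rw [e2, e3, e4, e5, hE2 a ha w hwYm, one_mul, ← mul_assoc] at h1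
    exact (mul_eq_right.mp h1.symm)
  -- (E4)
  have hE4 : ∀ a ∈ A, ∀ c ∈ A,
      ⁅b⁻¹ * a * b * a⁻¹, b⁻¹ * c * b * c⁻¹⁆ =
        ⁅a, b⁻¹ * c * b * c⁻¹⁆⁻¹ * ⁅c, b⁻¹ * a * b * a⁻¹⁆ := by
    intro a ha c hc'
    set ua := b⁻¹ * a * b * a⁻¹ with hua
    set uc := b⁻¹ * c * b * c⁻¹ with huc
    have hcoc1 : b⁻¹ * (a * c) * b * (a * c)⁻¹ = ua * ⁅a, uc⁆ * uc := by
      rw [hua, huc, commutatorElement_def]; group
    have hcoc2 : b⁻¹ * (c * a) * b * (c * a)⁻¹ = uc * ⁅c, ua⁆ * ua := by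
      rw [hua, huc, commutatorElement_def]; group
    have heq : ua * ⁅a, uc⁆ * uc = uc * ⁅c, ua⁆ * ua := by
      rw [← hcoc1, ← hcoc2, hAcomm a ha c hc']
    have hc1 : ua * ⁅a, uc⁆ = ⁅a, uc⁆ * ua := by
      have := hE2 a ha _ (hwY a ha c hc')
      rw [commutatorElement_eq_one_iff_mul_comm] at this
      exact this
    have hc2 : uc * ⁅c, ua⁆ = ⁅c, ua⁆ * uc := by
      have := hE2 c hc' _ (hwY c hc' a ha)
      rw [commutatorElement_eq_one_iff_mul_comm] at this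
      exact this
    rw [hc1, hc2] at heq
    -- ⁅a,uc⁆ * ua * uc = ⁅c,ua⁆ * uc * ua
    have : ⁅ua, uc⁆ = ⁅a, uc⁆⁻¹ * (⁅a, uc⁆ * ua * uc) * (uc * ua)⁻¹ := by
      rw [commutatorElement_def]; group
    rw [this, heq]
    group
  -- (E5)
  have hE5 : ∀ a ∈ A, ∀ c ∈ A,
      ⁅b⁻¹ * a * b * a⁻¹, b⁻¹ * c * b * c⁻¹⁆ ^ 2 = 1 := by
    intro a ha c hc'
    set ua := b⁻¹ * a * b * a⁻¹ with hua
    set uc := b⁻¹ * c * b * c⁻¹ with huc
    set γ := ⁅ua, uc⁆ with hγ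
    set w := ⁅a, uc⁆ with hw
    set w' := ⁅c, ua⁆ with hw'
    have hγmem : γ ∈ ⁅D, D⁆ := commutator_mem_commutator (hXD (hu a ha)) (hXD (hu c hc'))
    have hwB : w ∈ B := hD_le (hYD (hwY a ha c hc'))
    have h3 : γ * ⁅b, w⁆ = 1 := hE3 a ha c hc'
    have h3' : ⁅uc, ua⁆ * ⁅b, w'⁆ = 1 := hE3 c hc' a ha
    have hγinv : ⁅uc, ua⁆ = γ⁻¹ := by rw [hγ, commutatorElement_inv]
    have hbw : ⁅b, w⁆ = γ⁻¹ := (eq_inv_of_mul_eq_one_right h3)
    have hbw' : ⁅b, w'⁆ = γ := by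
      rw [hγinv] at h3'
      have := eq_inv_of_mul_eq_one_right h3'
      rw [inv_inv] at this
      exact this
    have h4 : γ = w⁻¹ * w' := hE4 a ha c hc'
    have hbγ : ⁅b, γ⁆ = 1 := by
      rw [commutatorElement_def, hcentral γ hγmem b hb, mul_inv_cancel]
    have e1 : ⁅b, w⁻¹ * w'⁆ = (w⁻¹ * ⁅b, w⁆⁻¹ * w) * (w⁻¹ * ⁅b, w'⁆ * w) := by
      simp only [commutatorElement_def]; group
    rw [h4] at hbγ
    rw [e1, hbw, hbw', inv_inv] at hbγ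
    have e2 : w⁻¹ * γ * w = γ := by
      have := hcentral γ hγmem w⁻¹ (B.inv_mem hwB)
      rw [inv_inv] at this
      exact this
    rw [e2] at hbγ
    rw [sq]
    exact hbγ
  -- the subgroup of central elements of exponent 2
  let E : Subgroup G :=
    { carrier := {w | w ∈ ⁅D, D⁆ ∧ w ^ 2 = 1}
      one_mem' := ⟨Subgroup.one_mem _, one_pow 2⟩
      mul_mem' := by
        rintro x y ⟨hx, hx2⟩ ⟨hy, hy2⟩
        refine ⟨Subgroup.mul_mem _ hx hy, ?_⟩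
        have hyB : y ∈ B := hD_le (commutator_self_le D hy)
        have hcomm : Commute x y := by
          have := hcentral x hx y hyB
          show x * y = y * x
          calc x * y = (y * x * y⁻¹) * y := by rw [this]
            _ = y * x := by group
        rw [hcomm.mul_pow, hx2, hy2, one_mul]
      inv_mem' := by
        rintro x ⟨hx, hx2⟩
        exact ⟨Subgroup.inv_mem _ hx, by rw [inv_pow, hx2, inv_one]⟩ }
  have hEmem : ∀ w, w ∈ E ↔ (w ∈ ⁅D, D⁆ ∧ w ^ 2 = 1) := fun w => Iff.rfl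
  have hEcentral : ∀ z ∈ E, ∀ x ∈ B, x * z * x⁻¹ = z := fun z hz x hx => hcentral z hz.1 x hx
  suffices hle : ⁅X, X⁆ ≤ E from fun w hw => (hle hw).2
  rw [commutator_le]
  -- first: generators against all of X
  have hgen : ∀ a ∈ A, ∀ y ∈ X, ⁅b⁻¹ * a * b * a⁻¹, y⁆ ∈ E := by
    intro a ha y hy
    induction hy using closure_induction with
    | mem y hy =>
      obtain ⟨c, hc', rfl⟩ := hy
      exact ⟨commutator_mem_commutator (hXD (hu a ha)) (hXD (hu c hc')), hE5 a ha c hc'⟩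
    | one =>
      rw [commutatorElement_one_right]
      exact E.one_mem
    | mul y y' hy hy' ihy ihy' =>
      have e : ⁅b⁻¹ * a * b * a⁻¹, y * y'⁆ =
          ⁅b⁻¹ * a * b * a⁻¹, y⁆ * (y * ⁅b⁻¹ * a * b * a⁻¹, y'⁆ * y⁻¹) := by
        simp only [commutatorElement_def]; group
      rw [e, hEcentral _ ihy' y (hXB hy)]
      exact E.mul_mem ihy ihy'
    | inv y hy ihy =>
      have e : ⁅b⁻¹ * a * b * a⁻¹, y⁻¹⁆ = y⁻¹ * ⁅b⁻¹ * a * b * a⁻¹, y⁆⁻¹ * y⁻¹⁻¹ := by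
        simp only [commutatorElement_def]; group
      rw [e, hEcentral _ (E.inv_mem ihy) y⁻¹ (B.inv_mem (hXB hy))]
      exact E.inv_mem ihy
  intro x hx y hy
  induction hx using closure_induction with
  | mem x hx =>
    obtain ⟨a, ha, rfl⟩ := hx
    exact hgen a ha y hy
  | one =>
    rw [commutatorElement_one_left]
    exact E.one_mem
  | mul x x' hx hx' ihx ihx' =>
    have e : ⁅x * x', y⁆ = (x * ⁅x', y⁆ * x⁻¹) * ⁅x, y⁆ := by
      simp only [commutatorElement_def]; group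
    rw [e, hEcentral _ ihx' x (hXB hx)]
    exact E.mul_mem ihx' ihx
  | inv x hx ihx =>
    have e : ⁅x⁻¹, y⁆ = x⁻¹ * ⁅x, y⁆⁻¹ * x⁻¹⁻¹ := by
      simp only [commutatorElement_def]; group
    rw [e, hEcentral _ (E.inv_mem ihx) x⁻¹ (B.inv_mem (hXB hx))]
    exact E.inv_mem ihx

end Cfsg.Agent.Helper26
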