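import Mathlib
import Cfsg.Agent.Helper26.CommOperator
import Cfsg.Agent.Helper23.OmegaOne

set_option autoImplicit false

namespace Cfsg.Agent.Helper26

open Subgroup
open scoped commutatorElement

variable {S : Type*} [Group S]

/-- Hypotheses of the Glauberman replacement theorem (without finiteness). -/
structure ReplHyp (A B : Subgroup S) (b : S) : Prop where
  comm : ∀ x ∈ A, ∀ y ∈ A, x * y = y * x
  normalB : ∀ g : S, ∀ x ∈ B, g * x * g⁻¹ ∈ B
  derived : ⁅B, B⁆ ≤ A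
  hb : b ∈ B
  hbN : b ∈ normalizer ((normalizer (A : Set S) : Subgroup S) : Set S)

/-- `A^b = b⁻¹ A b` -/
def conjSub (A : Subgroup S) (b : S) : Subgroup S := A.map (MulAut.conj b⁻¹).toMonoidHom

theorem mem_conjSub {A : Subgroup S} {b y : S} : y ∈ conjSub A b ↔ ∃ a ∈ A, y = b⁻¹ * a * b := by
  unfold conjSub
  constructor
  · rintro ⟨a, ha, rfl⟩
    exact ⟨a, ha, by simp⟩
  · rintro ⟨a, ha, rfl⟩
    exact ⟨a, ha, by simp⟩

/-- `Z₀ = A ∩ A^b` -/
def replZ (A : Subgroup S) (b : S) : Subgroup S := A ⊓ conjSub A b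

/-- `X₁ = [A, b⁻¹]` -/
def replX (A : Subgroup S) (b : S) : Subgroup S :=
  closure {g : S | ∃ a ∈ A, g = a * b⁻¹ * a⁻¹ * b}

/-- `A* = (A ∩ A^b) [A, b]` -/
def replStar (A : Subgroup S) (b : S) : Subgroup S := replZ A b ⊔ replX A b

variable {A B : Subgroup S} {b : S}

theorem ReplHyp.conj_mem_NA (h : ReplHyp A B b) {g : S} (hg : g ∈ normalizer (A : Set S)) :
    b * g * b⁻¹ ∈ normalizer (A : Set S) ∧ b⁻¹ * g * b ∈ normalizer (A : Set S) := by
  have h1 := mem_normalizer_iff.mp h.hbN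
  refine ⟨(h1 g).mp hg, ?_⟩
  apply (h1 (b⁻¹ * g * b)).mpr
  have e : b * (b⁻¹ * g * b) * b⁻¹ = g := by group
  rw [e]
  exact hg

theorem ReplHyp.conjSub_le_NA (h : ReplHyp A B b) : conjSub A b ≤ normalizer (A : Set S) := by
  intro y hy
  obtain ⟨a, ha, rfl⟩ := mem_conjSub.mp hy
  exact (h.conj_mem_NA (le_normalizer ha)).2

/-- `N(A)` normalizes `A^b`. -/
theorem ReplHyp.NA_conj_conjSub (h : ReplHyp A B b) {g : S} (hg : g ∈ normalizer (A : Set S))
    {y : S} (hy : y ∈ conjSub A b) : g * y * g⁻¹ ∈ conjSub A b := by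
  obtain ⟨a, ha, rfl⟩ := mem_conjSub.mp hy
  have h1 := (h.conj_mem_NA hg).1
  have h2 : (b * g * b⁻¹) * a * (b * g * b⁻¹)⁻¹ ∈ A := (mem_normalizer_iff.mp h1 a).mp ha
  refine mem_conjSub.mpr ⟨_, h2, ?_⟩
  group

theorem ReplHyp.comm_mem_replZ (h : ReplHyp A B b) {a y : S} (ha : a ∈ A) (hy : y ∈ conjSub A b) :
    ⁅a, y⁆ ∈ replZ A b := by
  refine ⟨?_, ?_⟩
  · have hyN := h.conjSub_le_NA hy
    have h1 : y * a⁻¹ * y⁻¹ ∈ A := (mem_normalizer_iff.mp hyN a⁻¹).mp (A.inv_mem ha)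
    have e : ⁅a, y⁆ = a * (y * a⁻¹ * y⁻¹) := by rw [commutatorElement_def]; group
    rw [e]
    exact A.mul_mem ha h1
  · have h1 : a * y * a⁻¹ ∈ conjSub A b := h.NA_conj_conjSub (le_normalizer ha) hy
    have e : ⁅a, y⁆ = (a * y * a⁻¹) * y⁻¹ := by rw [commutatorElement_def]
    rw [e]
    exact (conjSub A b).mul_mem h1 ((conjSub A b).inv_mem hy)

theorem ReplHyp.conjSub_comm (h : ReplHyp A B b) {x y : S} (hx : x ∈ conjSub A b)
    (hy : y ∈ conjSub A b) : x * y = y * x := by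
  obtain ⟨a, ha, rfl⟩ := mem_conjSub.mp hx
  obtain ⟨c, hc, rfl⟩ := mem_conjSub.mp hy
  have := h.comm a ha c hc
  calc b⁻¹ * a * b * (b⁻¹ * c * b) = b⁻¹ * (a * c) * b := by group
    _ = b⁻¹ * (c * a) * b := by rw [this]
    _ = b⁻¹ * c * b * (b⁻¹ * a * b) := by group

/-- the generators of `X₁` -/
theorem replX_gen_eq (a : S) : a * b⁻¹ * a⁻¹ * b = a * (b⁻¹ * a⁻¹ * b) := by group

theorem ReplHyp.gen_mem_B (h : ReplHyp A B b) (a : S) : a * b⁻¹ * a⁻¹ * b ∈ B := by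
  have h1 : a * b⁻¹ * a⁻¹ ∈ B := h.normalB a _ (B.inv_mem h.hb)
  exact B.mul_mem h1 h.hb

theorem ReplHyp.replX_le_B (h : ReplHyp A B b) : replX A b ≤ B := by
  unfold replX
  rw [closure_le]
  rintro _ ⟨a, -, rfl⟩
  exact h.gen_mem_B a

theorem ReplHyp.replX_le_sup (h : ReplHyp A B b) : replX A b ≤ A ⊔ conjSub A b := by
  unfold replX
  rw [closure_le]
  rintro _ ⟨a, ha, rfl⟩
  rw [replX_gen_eq]
  exact mul_mem (mem_sup_left ha) (mem_sup_right (mem_conjSub.mpr ⟨a⁻¹, A.inv_mem ha, rfl⟩))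

theorem ReplHyp.sup_le_NA (h : ReplHyp A B b) : A ⊔ conjSub A b ≤ normalizer (A : Set S) :=
  sup_le le_normalizer h.conjSub_le_NA

theorem ReplHyp.replStar_le_NA (h : ReplHyp A B b) : replStar A b ≤ normalizer (A : Set S) :=
  (sup_le (inf_le_left.trans le_sup_left) h.replX_le_sup).trans h.sup_le_NA

/-- elements of `Z₀` commute with `A` and with `A^b` -/
theorem ReplHyp.replZ_comm_A (h : ReplHyp A B b) {z a : S} (hz : z ∈ replZ A b) (ha : a ∈ A) :
    z * a = a * z := h.comm z hz.1 a ha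

theorem ReplHyp.replZ_comm_conjSub (h : ReplHyp A B b) {z y : S} (hz : z ∈ replZ A b)
    (hy : y ∈ conjSub A b) : z * y = y * z := h.conjSub_comm hz.2 hy

theorem ReplHyp.replZ_comm_gen (h : ReplHyp A B b) {z a : S} (hz : z ∈ replZ A b) (ha : a ∈ A) :
    z * (a * b⁻¹ * a⁻¹ * b) = (a * b⁻¹ * a⁻¹ * b) * z := by
  rw [replX_gen_eq]
  have hy : b⁻¹ * a⁻¹ * b ∈ conjSub A b := mem_conjSub.mpr ⟨a⁻¹, A.inv_mem ha, rfl⟩
  rw [← mul_assoc, h.replZ_comm_A hz ha, mul_assoc, h.replZ_comm_conjSub hz hy, ← mul_assoc]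

/-- `B' ≤ Z₀` -/
theorem ReplHyp.derived_le_replZ (h : ReplHyp A B b) : ⁅B, B⁆ ≤ replZ A b := by
  refine le_inf h.derived ?_
  intro z hz
  have hnorm : ∀ g : S, ∀ x ∈ ⁅B, B⁆, g * x * g⁻¹ ∈ ⁅B, B⁆ := by
    intro g x hx
    have hmap : (⁅B, B⁆).map (MulAut.conj g).toMonoidHom ≤ ⁅B, B⁆ := by
      rw [Subgroup.map_commutator, commutator_le]
      rintro _ ⟨x, hx, rfl⟩ _ ⟨y, hy, rfl⟩
      exact commutator_mem_commutator (h.normalB g x hx) (h.normalB g y hy)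
    exact hmap ⟨x, hx, rfl⟩
  refine mem_conjSub.mpr ⟨b * z * b⁻¹, h.derived (hnorm b z hz), ?_⟩
  group

/-- `A ∩ B ≤ Z₀` -/
theorem ReplHyp.inf_B_le_replZ (h : ReplHyp A B b) : A ⊓ B ≤ replZ A b := by
  rintro x ⟨hxA, hxB⟩
  refine ⟨hxA, mem_conjSub.mpr ⟨b * x * b⁻¹, ?_, by group⟩⟩
  have h1 : ⁅b, x⁆ ∈ ⁅B, B⁆ := commutator_mem_commutator h.hb hxB
  have e : b * x * b⁻¹ = ⁅b, x⁆ * x := by rw [commutatorElement_def]; group
  rw [e]
  exact A.mul_mem (h.derived h1) hxA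

theorem comm_of_closure (T : Set S) (hT : ∀ x ∈ T, ∀ y ∈ T, x * y = y * x) :
    ∀ x ∈ closure T, ∀ y ∈ closure T, x * y = y * x := by
  have h1 : closure T ≤ centralizer T :=
    (closure_le _).mpr (fun x hx => mem_centralizer_iff.mpr (fun y hy => hT y hy x hx))
  have h2 : T ⊆ centralizer (closure T : Set S) := fun y hy =>
    mem_centralizer_iff.mpr (fun x hx => ((mem_centralizer_iff.mp (h1 hx)) y hy).symm)
  have h3 : closure T ≤ centralizer (closure T : Set S) := (closure_le _).mpr h2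
  intro x hx y hy
  exact (mem_centralizer_iff.mp (h3 hy)) x hx

theorem mem_normalizer_of_map_conj_le (K : Subgroup S) [Finite K] (g : S)
    (h : K.map (MulAut.conj g).toMonoidHom ≤ K) : g ∈ normalizer (K : Set S) := by
  have hcard : Nat.card (K.map (MulAut.conj g).toMonoidHom) = Nat.card K :=
    Nat.card_congr (K.equivMapOfInjective _ (MulAut.conj g).injective).symm.toEquiv
  have heq : K.map (MulAut.conj g).toMonoidHom = K :=
    Subgroup.eq_of_le_of_card_ge h hcard.ge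
  rw [mem_normalizer_iff]
  intro x
  constructor
  · intro hx
    have : g * x * g⁻¹ ∈ K.map (MulAut.conj g).toMonoidHom := ⟨x, hx, by simp [MulAut.conj_apply]⟩
    rwa [heq] at this
  · intro hx
    rw [← heq] at hx
    obtain ⟨k, hk, hkx⟩ := hx
    have : k = x := by
      have h1 : g * k * g⁻¹ = g * x * g⁻¹ := by simpa [MulAut.conj_apply] using hkx
      exact mul_left_cancel (mul_right_cancel h1)
    rwa [← this]

theorem ReplHyp.replZ_comm_replX (h : ReplHyp A B b) {z x : S} (hz : z ∈ replZ A b)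
    (hx : x ∈ replX A b) : z * x = x * z := by
  have hle : replX A b ≤ centralizer ({z} : Set S) := by
    unfold replX
    rw [closure_le]
    rintro _ ⟨a, ha, rfl⟩
    rw [SetLike.mem_coe, mem_centralizer_iff]
    intro y hy
    rw [Set.mem_singleton_iff] at hy
    rw [hy]
    exact h.replZ_comm_gen hz ha
  exact (mem_centralizer_iff.mp (hle hx)) z rfl

/-- if `X₁` is abelian then so is `A*` -/
theorem ReplHyp.replStar_comm (h : ReplHyp A B b)
    (hX : ∀ x ∈ replX A b, ∀ y ∈ replX A b, x * y = y * x) :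
    ∀ x ∈ replStar A b, ∀ y ∈ replStar A b, x * y = y * x := by
  have e : replStar A b = closure ((replZ A b : Set S) ∪ (replX A b : Set S)) := by
    rw [Subgroup.closure_union, closure_eq, closure_eq]
    rfl
  rw [e]
  apply comm_of_closure
  rintro x (hx | hx) y (hy | hy)
  · exact h.comm x hx.1 y hy.1
  · exact h.replZ_comm_replX hx hy
  · exact (h.replZ_comm_replX hy hx).symm
  · exact hX x hx y hy

theorem replX_eq_closure_inv (A : Subgroup S) (b : S) :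
    closure {g : S | ∃ a ∈ A, g = b⁻¹ * a * b * a⁻¹} = replX A b := by
  unfold replX
  rw [← closure_inv]
  congr 1
  ext g
  simp only [Set.mem_inv, Set.mem_ofPred_eq]
  constructor
  · rintro ⟨a, ha, hg⟩
    refine ⟨a, ha, ?_⟩
    rw [← inv_inv g, hg]
    group
  · rintro ⟨a, ha, rfl⟩
    exact ⟨a, ha, by group⟩

/-- `X₁` is abelian. -/
theorem ReplHyp.replX_comm [Finite S] {p : ℕ} [Fact p.Prime] (hS : IsPGroup p S)
    (h : ReplHyp A B b) (hB2 : p = 2 → ∀ x ∈ B, ∀ y ∈ B, x * y = y * x) :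
    ∀ x ∈ replX A b, ∀ y ∈ replX A b, x * y = y * x := by
  have hp : p.Prime := Fact.out
  by_cases hp2 : p = 2
  · intro x hx y hy
    exact hB2 hp2 x (h.replX_le_B hx) y (h.replX_le_B hy)
  · have hAB : A ≤ normalizer (B : Set S) := by
      rw [le_normalizer_iff]
      intro a _ x hx
      exact h.normalB a x hx
    have hc : ⁅⁅B, B⁆, A⁆ = ⊥ := by
      rw [commutator_eq_bot_iff_le_centralizer]
      intro z hz
      rw [mem_centralizer_iff]
      intro a ha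
      exact h.comm a ha z (h.derived hz)
    have hXA : ⁅⁅closure {g : S | ∃ a ∈ A, g = b⁻¹ * a * b * a⁻¹}, A⁆, A⁆ = ⊥ := by
      rw [replX_eq_closure_inv, eq_bot_iff]
      have h1 : ⁅replX A b, A⁆ ≤ A := by
        rw [commutator_le]
        intro x hx a ha
        have hxN : x ∈ normalizer (A : Set S) := h.sup_le_NA (h.replX_le_sup hx)
        have h2 : x * a * x⁻¹ ∈ A := (mem_normalizer_iff.mp hxN a).mp ha
        have e : ⁅x, a⁆ = (x * a * x⁻¹) * a⁻¹ := by rw [commutatorElement_def]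
        rw [e]
        exact A.mul_mem h2 (A.inv_mem ha)
      refine (commutator_mono h1 le_rfl).trans ?_
      rw [commutator_le]
      intro x hx y hy
      rw [commutatorElement_eq_one_iff_mul_comm.mpr (h.comm x hx y hy)]
      exact Subgroup.one_mem _
    have hexp := commutator_operator_exponent_two A B hAB hc h.comm b h.hb hXA
    rw [replX_eq_closure_inv] at hexp
    intro x hx y hy
    have h2 := hexp ⁅x, y⁆ (commutator_mem_commutator hx hy)
    obtain ⟨k, hk⟩ := hS ⁅x, y⁆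
    have hord1 : orderOf ⁅x, y⁆ ∣ 2 := orderOf_dvd_of_pow_eq_one h2
    have hord2 : orderOf ⁅x, y⁆ ∣ p ^ k := orderOf_dvd_of_pow_eq_one hk
    have hcop : Nat.Coprime 2 (p ^ k) := by
      apply Nat.Coprime.pow_right
      rw [Nat.coprime_primes Nat.prime_two hp]
      exact fun h => hp2 h.symm
    have h1 : orderOf ⁅x, y⁆ = 1 := Nat.eq_one_of_dvd_coprimes hcop hord1 hord2
    rw [orderOf_eq_one_iff] at h1
    exact commutatorElement_eq_one_iff_mul_comm.mp h1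

/-- `X₁ ≰ A` when `b ∉ N(A)`. -/
theorem ReplHyp.replX_not_le [Finite S] (h : ReplHyp A B b)
    (hbA : b ∉ normalizer (A : Set S)) : ¬ replX A b ≤ A := by
  intro hle
  apply hbA
  have h1 : A.map (MulAut.conj b⁻¹).toMonoidHom ≤ A := by
    rintro _ ⟨a, ha, rfl⟩
    have hg : a⁻¹ * b⁻¹ * a⁻¹⁻¹ * b ∈ A := hle (subset_closure ⟨a⁻¹, A.inv_mem ha, rfl⟩)
    have h2 := A.mul_mem ha hg
    have e : a * (a⁻¹ * b⁻¹ * a⁻¹⁻¹ * b) = (MulAut.conj b⁻¹).toMonoidHom a := by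
      simp only [MulEquiv.coe_toMonoidHom, MulAut.conj_apply]
      group
    rwa [e] at h2
  have h3 := mem_normalizer_of_map_conj_le A b⁻¹ h1
  have := (normalizer (A : Set S)).inv_mem h3
  rwa [inv_inv] at this

theorem ReplHyp.inf_B_lt [Finite S] (h : ReplHyp A B b) (hbA : b ∉ normalizer (A : Set S)) :
    A ⊓ B < replStar A b ⊓ B := by
  have hle : A ⊓ B ≤ replStar A b ⊓ B :=
    le_inf (h.inf_B_le_replZ.trans le_sup_left) inf_le_right
  refine lt_of_le_of_ne hle (fun heq => h.replX_not_le hbA ?_)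
  intro x hx
  have : x ∈ replStar A b ⊓ B := ⟨mem_sup_right hx, h.replX_le_B hx⟩
  rw [← heq] at this
  exact this.1

theorem ReplHyp.star_inf_B_lt (h : ReplHyp A B b) (hnot : ¬ B ≤ normalizer (A : Set S)) :
    replStar A b ⊓ B < B := by
  refine lt_of_le_of_ne inf_le_right (fun heq => hnot ?_)
  rw [← heq]
  exact inf_le_left.trans h.replStar_le_NA

/-- `A ≤ N(A*)` -/
theorem ReplHyp.le_normalizer_star (h : ReplHyp A B b) :
    A ≤ normalizer (replStar A b : Set S) := by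
  rw [le_normalizer_iff]
  intro a ha
  have hmap : (replStar A b).map (MulAut.conj a).toMonoidHom ≤ replStar A b := by
    unfold replStar
    rw [Subgroup.map_sup]
    apply sup_le
    · rintro _ ⟨z, hz, rfl⟩
      have : (MulAut.conj a).toMonoidHom z = z := by
        simp only [MulEquiv.coe_toMonoidHom, MulAut.conj_apply]
        rw [← h.replZ_comm_A hz ha, mul_inv_cancel_right]
      rw [this]
      exact mem_sup_left hz
    · unfold replX
      rw [MonoidHom.map_closure, closure_le]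
      rintro _ ⟨_, ⟨a', ha', rfl⟩, rfl⟩
      have hy : b⁻¹ * a'⁻¹ * b ∈ conjSub A b := mem_conjSub.mpr ⟨a'⁻¹, A.inv_mem ha', rfl⟩
      have hk := h.comm_mem_replZ ha hy
      have e : (MulAut.conj a).toMonoidHom (a' * b⁻¹ * a'⁻¹ * b) =
          ⁅a, b⁻¹ * a'⁻¹ * b⁆ * (a' * b⁻¹ * a'⁻¹ * b) := by
        simp only [MulEquiv.coe_toMonoidHom, MulAut.conj_apply]
        have hc := h.comm a ha a' ha'
        have hk' : a' * ⁅a, b⁻¹ * a'⁻¹ * b⁆ = ⁅a, b⁻¹ * a'⁻¹ * b⁆ * a' :=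
          (h.replZ_comm_A hk ha').symm
        calc a * (a' * b⁻¹ * a'⁻¹ * b) * a⁻¹ = (a * a') * (b⁻¹ * a'⁻¹ * b) * a⁻¹ := by group
          _ = (a' * a) * (b⁻¹ * a'⁻¹ * b) * a⁻¹ := by rw [hc]
          _ = (a' * ⁅a, b⁻¹ * a'⁻¹ * b⁆) * (b⁻¹ * a'⁻¹ * b) := by group
          _ = (⁅a, b⁻¹ * a'⁻¹ * b⁆ * a') * (b⁻¹ * a'⁻¹ * b) := by rw [hk']
          _ = ⁅a, b⁻¹ * a'⁻¹ * b⁆ * (a' * b⁻¹ * a'⁻¹ * b) := by group
      rw [SetLike.mem_coe, e]
      exact mul_mem (mem_sup_left hk) (mem_sup_right (subset_closure ⟨a', ha', rfl⟩))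
  intro x hx
  have := hmap ⟨x, hx, rfl⟩
  simpa [MulAut.conj_apply] using this

/-- `b ∈ N(A*)` -/
theorem ReplHyp.b_mem_normalizer_star [Finite S] (h : ReplHyp A B b) :
    b ∈ normalizer (replStar A b : Set S) := by
  have hmap : (replStar A b).map (MulAut.conj b⁻¹).toMonoidHom ≤ replStar A b := by
    unfold replStar
    rw [Subgroup.map_sup]
    apply sup_le
    · rintro _ ⟨z, hz, rfl⟩
      have e : (MulAut.conj b⁻¹).toMonoidHom z = z * (z⁻¹ * b⁻¹ * z⁻¹⁻¹ * b) := by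
        simp only [MulEquiv.coe_toMonoidHom, MulAut.conj_apply]
        group
      rw [e]
      exact mul_mem (mem_sup_left hz)
        (mem_sup_right (subset_closure ⟨z⁻¹, A.inv_mem hz.1, rfl⟩))
    · rintro _ ⟨x, hx, rfl⟩
      have hxB : x ∈ B := h.replX_le_B hx
      have e : (MulAut.conj b⁻¹).toMonoidHom x = x * ⁅x⁻¹, b⁻¹⁆ := by
        simp only [MulEquiv.coe_toMonoidHom, MulAut.conj_apply, commutatorElement_def]
        group
      rw [e]
      exact mul_mem (mem_sup_right hx) (mem_sup_left (h.derived_le_replZ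
        (commutator_mem_commutator (B.inv_mem hxB) (B.inv_mem h.hb))))
  have h3 := mem_normalizer_of_map_conj_le (replStar A b) b⁻¹ hmap
  have := (normalizer (replStar A b : Set S)).inv_mem h3
  rwa [inv_inv] at this


/-- `N(A) ≤ N(A*)` -/
theorem ReplHyp.NA_le_normalizer_star [Finite S] (h : ReplHyp A B b) :
    normalizer (A : Set S) ≤ normalizer (replStar A b : Set S) := by
  intro g hg
  have hmap : (replStar A b).map (MulAut.conj g).toMonoidHom ≤ replStar A b := by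
    unfold replStar
    rw [Subgroup.map_sup]
    apply sup_le
    · rintro _ ⟨z, hz, rfl⟩
      refine mem_sup_left ⟨?_, ?_⟩
      · simp only [MulEquiv.coe_toMonoidHom, MulAut.conj_apply]
        exact (mem_normalizer_iff.mp hg z).mp hz.1
      · simp only [MulEquiv.coe_toMonoidHom, MulAut.conj_apply]
        exact h.NA_conj_conjSub hg hz.2
    · unfold replX
      rw [MonoidHom.map_closure, closure_le]
      rintro _ ⟨_, ⟨a, ha, rfl⟩, rfl⟩
      have ha₁A : g * a * g⁻¹ ∈ A := (mem_normalizer_iff.mp hg a).mp ha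
      have hcB : g * b⁻¹ * g⁻¹ * b ∈ B := B.mul_mem (h.normalB g _ (B.inv_mem h.hb)) h.hb
      have hcN : g * b⁻¹ * g⁻¹ * b ∈ normalizer (A : Set S) := by
        have h1 := (h.conj_mem_NA ((normalizer (A : Set S)).inv_mem hg)).2
        have e : g * b⁻¹ * g⁻¹ * b = g * (b⁻¹ * g⁻¹ * b) := by group
        rw [e]
        exact mul_mem hg h1
      have hk1 : ⁅g * a * g⁻¹, g * b⁻¹ * g⁻¹ * b⁆ ∈ replZ A b := by
        apply h.inf_B_le_replZ
        refine ⟨?_, ?_⟩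
        · have h2 : (g * b⁻¹ * g⁻¹ * b) * (g * a * g⁻¹)⁻¹ * (g * b⁻¹ * g⁻¹ * b)⁻¹ ∈ A :=
            (mem_normalizer_iff.mp hcN _).mp (A.inv_mem ha₁A)
          have e : ⁅g * a * g⁻¹, g * b⁻¹ * g⁻¹ * b⁆ = (g * a * g⁻¹) *
              ((g * b⁻¹ * g⁻¹ * b) * (g * a * g⁻¹)⁻¹ * (g * b⁻¹ * g⁻¹ * b)⁻¹) := by
            rw [commutatorElement_def]; group
          rw [e]
          exact A.mul_mem ha₁A h2
        · have h2 : (g * a * g⁻¹) * (g * b⁻¹ * g⁻¹ * b) * (g * a * g⁻¹)⁻¹ ∈ B :=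
            h.normalB _ _ hcB
          have e : ⁅g * a * g⁻¹, g * b⁻¹ * g⁻¹ * b⁆ =
              ((g * a * g⁻¹) * (g * b⁻¹ * g⁻¹ * b) * (g * a * g⁻¹)⁻¹) *
                (g * b⁻¹ * g⁻¹ * b)⁻¹ := by
            rw [commutatorElement_def]
          rw [e]
          exact B.mul_mem h2 (B.inv_mem hcB)
      have hxB : (g * a * g⁻¹) * b⁻¹ * (g * a * g⁻¹)⁻¹ * b ∈ B := h.gen_mem_B _
      have hk2 : ⁅g * b⁻¹ * g⁻¹ * b, (g * a * g⁻¹) * b⁻¹ * (g * a * g⁻¹)⁻¹ * b⁆ ∈ replZ A b :=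
        h.derived_le_replZ (commutator_mem_commutator hcB hxB)
      have e : (MulAut.conj g).toMonoidHom (a * b⁻¹ * a⁻¹ * b) =
          ⁅g * a * g⁻¹, g * b⁻¹ * g⁻¹ * b⁆ *
            ⁅g * b⁻¹ * g⁻¹ * b, (g * a * g⁻¹) * b⁻¹ * (g * a * g⁻¹)⁻¹ * b⁆ *
              ((g * a * g⁻¹) * b⁻¹ * (g * a * g⁻¹)⁻¹ * b) := by
        simp only [MulEquiv.coe_toMonoidHom, MulAut.conj_apply, commutatorElement_def]
        group
      rw [SetLike.mem_coe, e]
      exact mul_mem (mem_sup_left (mul_mem hk1 hk2))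
        (mem_sup_right (subset_closure ⟨_, ha₁A, rfl⟩))
  exact mem_normalizer_of_map_conj_le (replStar A b) g hmap

theorem ReplHyp.NA_lt_normalizer_star [Finite S] (h : ReplHyp A B b)
    (hbA : b ∉ normalizer (A : Set S)) :
    normalizer (A : Set S) < normalizer (replStar A b : Set S) := by
  refine lt_of_le_of_ne h.NA_le_normalizer_star (fun heq => hbA ?_)
  rw [heq]
  exact h.b_mem_normalizer_star

/-- elements of `A` have order dividing the exponent -/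
theorem pow_exponent_of_mem (A : Subgroup S) {a : S} (ha : a ∈ A) :
    a ^ Monoid.exponent A = 1 := by
  have := Monoid.pow_exponent_eq_one (⟨a, ha⟩ : A)
  have h2 := congrArg (Subtype.val) this
  simpa using h2

/-- exponent of `A*` divides exponent of `A` for odd exponent -/
theorem ReplHyp.pow_eq_one_star (h : ReplHyp A B b)
    (hXc : ∀ x ∈ replX A b, ∀ y ∈ replX A b, x * y = y * x)
    (n : ℕ) (hn : ∀ a ∈ A, a ^ n = 1) (hodd : Odd n) :
    ∀ x ∈ replStar A b, x ^ n = 1 := by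
  have hcomm := h.replStar_comm hXc
  have e : replStar A b = closure ((replZ A b : Set S) ∪ {g : S | ∃ a ∈ A, g = a * b⁻¹ * a⁻¹ * b}) := by
    rw [Subgroup.closure_union, closure_eq]
    rfl
  intro x hx
  have hx' := hx
  rw [e] at hx'
  induction hx' using closure_induction with
  | mem x hx1 =>
    rcases hx1 with hz | ⟨a, ha, rfl⟩
    · exact hn x hz.1
    · rw [replX_gen_eq]
      have hy : b⁻¹ * a⁻¹ * b ∈ conjSub A b := mem_conjSub.mpr ⟨a⁻¹, A.inv_mem ha, rfl⟩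
      have hyn : (b⁻¹ * a⁻¹ * b) ^ n = 1 := by
        have : (b⁻¹ * a⁻¹ * b) ^ n = b⁻¹ * (a⁻¹) ^ n * b := by
          have := conj_pow (a := b⁻¹) (b := a⁻¹) (i := n)
          simpa using this
        rw [this, hn _ (A.inv_mem ha)]
        group
      have hcZ : ⁅(b⁻¹ * a⁻¹ * b)⁻¹, a⁻¹⁆ ∈ replZ A b := by
        have h1 := h.comm_mem_replZ (A.inv_mem ha) ((conjSub A b).inv_mem hy)
        have e2 : ⁅(b⁻¹ * a⁻¹ * b)⁻¹, a⁻¹⁆ = (⁅a⁻¹, (b⁻¹ * a⁻¹ * b)⁻¹⁆)⁻¹ := by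
          rw [commutatorElement_inv]
        rw [e2]
        exact (replZ A b).inv_mem h1
      have hc1 : (b⁻¹ * a⁻¹ * b) * a = a * (b⁻¹ * a⁻¹ * b) * ⁅(b⁻¹ * a⁻¹ * b)⁻¹, a⁻¹⁆ := by
        rw [commutatorElement_def]; group
      have hc2 : Commute ⁅(b⁻¹ * a⁻¹ * b)⁻¹, a⁻¹⁆ a := h.replZ_comm_A hcZ ha
      have hc3 : Commute ⁅(b⁻¹ * a⁻¹ * b)⁻¹, a⁻¹⁆ (b⁻¹ * a⁻¹ * b) := h.replZ_comm_conjSub hcZ hy
      rw [Cfsg.Agent.Helper23.mul_pow_of_central_comm a (b⁻¹ * a⁻¹ * b) _ hc1 hc2 hc3 n,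
        hn a ha, hyn, one_mul, one_mul]
      obtain ⟨k, hk⟩ := hodd
      have e3 : n * (n - 1) / 2 = n * k := by
        rw [hk]
        have : (2 * k + 1) * (2 * k + 1 - 1) = 2 * ((2 * k + 1) * k) := by
          rw [Nat.add_sub_cancel]; ring
        rw [this, Nat.mul_div_cancel_left _ (by norm_num : 0 < 2)]
      rw [e3, pow_mul, hn _ hcZ.1, one_pow]
  | one => exact one_pow n
  | mul x y hx1 hy1 ihx ihy =>
    have hxS : x ∈ replStar A b := by rw [e]; exact hx1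
    have hyS : y ∈ replStar A b := by rw [e]; exact hy1
    have hc : Commute x y := hcomm x hxS y hyS
    rw [hc.mul_pow, ihx hxS, ihy hyS, one_mul]
  | inv x hx1 ih =>
    have hxS : x ∈ replStar A b := by rw [e]; exact hx1
    rw [inv_pow, ih hxS, inv_one]


/-- for `x ∈ Z₀`, the generator `[x, b⁻¹]` lies in `Z₀` -/
theorem ReplHyp.gen_mem_of_replZ (h : ReplHyp A B b) {x : S} (hx : x ∈ replZ A b) :
    x * b⁻¹ * x⁻¹ * b ∈ replZ A b := by
  apply h.inf_B_le_replZ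
  obtain ⟨a₀, ha₀, hxa⟩ := mem_conjSub.mp hx.2
  have hkA : b * x * b⁻¹ * x⁻¹ ∈ A := by
    have e : b * x * b⁻¹ = a₀ := by rw [hxa]; group
    rw [e]
    exact A.mul_mem ha₀ (A.inv_mem hx.1)
  have hkB : b * x * b⁻¹ * x⁻¹ ∈ B := by
    have e : b * x * b⁻¹ * x⁻¹ = b * (x * b⁻¹ * x⁻¹) := by group
    rw [e]
    exact B.mul_mem h.hb (h.normalB x _ (B.inv_mem h.hb))
  have hc : ⁅b⁻¹, b * x * b⁻¹ * x⁻¹⁆ ∈ ⁅B, B⁆ :=
    commutator_mem_commutator (B.inv_mem h.hb) hkB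
  have e : x * b⁻¹ * x⁻¹ * b = ⁅b⁻¹, b * x * b⁻¹ * x⁻¹⁆ * (b * x * b⁻¹ * x⁻¹) := by
    rw [commutatorElement_def]; group
  rw [e]
  exact ⟨A.mul_mem (h.derived hc) hkA, B.mul_mem (commutator_self_le B hc) hkB⟩

/-- `[a, b⁻¹] ∈ Z₀` implies `a ∈ Z₀` -/
theorem ReplHyp.mem_replZ_of_gen_mem (h : ReplHyp A B b) {a : S} (ha : a ∈ A)
    (hg : a * b⁻¹ * a⁻¹ * b ∈ replZ A b) : a ∈ replZ A b := by
  refine ⟨ha, ?_⟩
  have hy : b⁻¹ * a⁻¹ * b ∈ conjSub A b := mem_conjSub.mpr ⟨a⁻¹, A.inv_mem ha, rfl⟩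
  have e : a = (a * b⁻¹ * a⁻¹ * b) * (b⁻¹ * a⁻¹ * b)⁻¹ := by group
  rw [e]
  exact (conjSub A b).mul_mem hg.2 ((conjSub A b).inv_mem hy)

/-- multiplicativity of `a ↦ [a, b⁻¹]` modulo `Z₀` -/
theorem ReplHyp.gen_mul (h : ReplHyp A B b) {a a' : S} (ha : a ∈ A) (ha' : a' ∈ A) :
    ∃ k ∈ replZ A b, (a * a') * b⁻¹ * (a * a')⁻¹ * b =
      k * ((a * b⁻¹ * a⁻¹ * b) * (a' * b⁻¹ * a'⁻¹ * b)) := by
  have hy : b⁻¹ * a⁻¹ * b ∈ conjSub A b := mem_conjSub.mpr ⟨a⁻¹, A.inv_mem ha, rfl⟩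
  have hy' : b⁻¹ * a'⁻¹ * b ∈ conjSub A b := mem_conjSub.mpr ⟨a'⁻¹, A.inv_mem ha', rfl⟩
  have hk := h.comm_mem_replZ ha' hy
  refine ⟨⁅a', b⁻¹ * a⁻¹ * b⁆, hk, ?_⟩
  have hyy := h.conjSub_comm hy' hy
  have hka : ⁅a', b⁻¹ * a⁻¹ * b⁆ * a = a * ⁅a', b⁻¹ * a⁻¹ * b⁆ := h.replZ_comm_A hk ha
  calc (a * a') * b⁻¹ * (a * a')⁻¹ * b
      = a * a' * ((b⁻¹ * a'⁻¹ * b) * (b⁻¹ * a⁻¹ * b)) := by group
    _ = a * a' * ((b⁻¹ * a⁻¹ * b) * (b⁻¹ * a'⁻¹ * b)) := by rw [hyy]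
    _ = (a * ⁅a', b⁻¹ * a⁻¹ * b⁆) * (b⁻¹ * a⁻¹ * b) * a' * (b⁻¹ * a'⁻¹ * b) := by
        rw [commutatorElement_def]; group
    _ = (⁅a', b⁻¹ * a⁻¹ * b⁆ * a) * (b⁻¹ * a⁻¹ * b) * a' * (b⁻¹ * a'⁻¹ * b) := by rw [hka]
    _ = ⁅a', b⁻¹ * a⁻¹ * b⁆ * ((a * b⁻¹ * a⁻¹ * b) * (a' * b⁻¹ * a'⁻¹ * b)) := by group

theorem ReplHyp.card_star [Finite S] (h : ReplHyp A B b)
    (hXc : ∀ x ∈ replX A b, ∀ y ∈ replX A b, x * y = y * x) :
    Nat.card (replStar A b) = Nat.card A := by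
  classical
  have hcomm := h.replStar_comm hXc
  let N : Subgroup (replStar A b) := (replZ A b).subgroupOf (replStar A b)
  have hN : N.Normal := ⟨fun n hn g => by
    have : g * n * g⁻¹ = n := by
      apply Subtype.ext
      have := hcomm g g.2 n n.2
      simp only [Subgroup.coe_mul, InvMemClass.coe_inv]
      rw [this, mul_inv_cancel_right]
    rw [this]; exact hn⟩
  have hgen : ∀ a ∈ A, a * b⁻¹ * a⁻¹ * b ∈ replStar A b := fun a ha =>
    mem_sup_right (subset_closure ⟨a, ha, rfl⟩)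
  let θ : A →* (replStar A b) ⧸ N := MonoidHom.mk'
    (fun a => QuotientGroup.mk ⟨a.1 * b⁻¹ * a.1⁻¹ * b, hgen a.1 a.2⟩) (by
      intro a a'
      obtain ⟨k, hk, hke⟩ := h.gen_mul a.2 a'.2
      have hkS : k ∈ replStar A b := mem_sup_left hk
      have e : (⟨(a * a' : A).1 * b⁻¹ * (a * a' : A).1⁻¹ * b, hgen _ (a * a').2⟩ : replStar A b) =
          ⟨k, hkS⟩ * (⟨a.1 * b⁻¹ * a.1⁻¹ * b, hgen a.1 a.2⟩ *
            ⟨a'.1 * b⁻¹ * a'.1⁻¹ * b, hgen a'.1 a'.2⟩) := by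
        apply Subtype.ext
        simp only [Subgroup.coe_mul]
        exact hke
      rw [e, QuotientGroup.mk_mul, QuotientGroup.mk_mul]
      have : (QuotientGroup.mk (⟨k, hkS⟩ : replStar A b) : (replStar A b) ⧸ N) = 1 := by
        rw [QuotientGroup.eq_one_iff]
        exact mem_subgroupOf.mpr hk
      rw [this, one_mul])
  have hθ : ∀ a : A, θ a = QuotientGroup.mk ⟨a.1 * b⁻¹ * a.1⁻¹ * b, hgen a.1 a.2⟩ := fun a => rfl
  have hker : θ.ker = (replZ A b).subgroupOf A := by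
    ext a
    rw [MonoidHom.mem_ker, mem_subgroupOf, hθ, QuotientGroup.eq_one_iff]
    constructor
    · intro hm
      exact h.mem_replZ_of_gen_mem a.2 (mem_subgroupOf.mp hm)
    · intro hm
      exact mem_subgroupOf.mpr (h.gen_mem_of_replZ hm)
  have hsurj : Function.Surjective θ := by
    intro q
    obtain ⟨x, rfl⟩ := QuotientGroup.mk_surjective q
    suffices hx : ∀ (x : S) (hx : x ∈ replStar A b),
        (QuotientGroup.mk (⟨x, hx⟩ : replStar A b) : (replStar A b) ⧸ N) ∈ θ.range by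
      exact MonoidHom.mem_range.mp (hx x.1 x.2)
    intro x hx
    have e : replStar A b =
        closure ((replZ A b : Set S) ∪ {g : S | ∃ a ∈ A, g = a * b⁻¹ * a⁻¹ * b}) := by
      rw [Subgroup.closure_union, closure_eq]
      rfl
    have hx' := hx
    rw [e] at hx'
    induction hx' using closure_induction with
    | mem x hx1 =>
      rcases hx1 with hz | ⟨a, ha, rfl⟩
      · have : (QuotientGroup.mk (⟨x, hx⟩ : replStar A b) : (replStar A b) ⧸ N) = 1 := by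
          rw [QuotientGroup.eq_one_iff]
          exact mem_subgroupOf.mpr hz
        rw [this]
        exact one_mem _
      · exact ⟨⟨a, ha⟩, rfl⟩
    | one => exact one_mem _
    | mul x y hx1 hy1 ihx ihy =>
      have hxS : x ∈ replStar A b := by rw [e]; exact hx1
      have hyS : y ∈ replStar A b := by rw [e]; exact hy1
      have := mul_mem (ihx hxS) (ihy hyS)
      rwa [← QuotientGroup.mk_mul] at this
    | inv x hx1 ih =>
      have hxS : x ∈ replStar A b := by rw [e]; exact hx1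
      have := inv_mem (ih hxS)
      rwa [← QuotientGroup.mk_inv] at this
  have e1 := QuotientGroup.quotientKerEquivOfSurjective θ hsurj
  have c1 : Nat.card A = Nat.card (A ⧸ θ.ker) * Nat.card θ.ker :=
    Subgroup.card_eq_card_quotient_mul_card_subgroup _
  have c2 : Nat.card (replStar A b) = Nat.card ((replStar A b) ⧸ N) * Nat.card N :=
    Subgroup.card_eq_card_quotient_mul_card_subgroup _
  have c3 : Nat.card θ.ker = Nat.card (replZ A b) := by
    rw [hker]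
    exact Nat.card_congr (subgroupOfEquivOfLe (inf_le_left : replZ A b ≤ A)).toEquiv
  have c4 : Nat.card N = Nat.card (replZ A b) :=
    Nat.card_congr (subgroupOfEquivOfLe (le_sup_left : replZ A b ≤ replStar A b)).toEquiv
  rw [c1, c2, c3, c4, Nat.card_congr e1.toEquiv]

end Cfsg.Agent.Helper26
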