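import Mathlib

set_option autoImplicit false

namespace Cfsg.Agent.Helper26

variable {G : Type*} [Group G]

theorem card_subgroupOf_eq_card_inf (H K : Subgroup G) :
    Nat.card (H.subgroupOf K) = Nat.card ↥(H ⊓ K) := by
  rw [← Subgroup.inf_subgroupOf_right]
  exact Nat.card_congr (Subgroup.subgroupOfEquivOfLe inf_le_right).toEquiv

theorem card_inf_mul_relIndex (H K : Subgroup G) :
    Nat.card ↥(H ⊓ K) * H.relIndex K = Nat.card K := by
  rw [← card_subgroupOf_eq_card_inf, Subgroup.relIndex, Subgroup.card_mul_index]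

theorem card_mul_relIndex_of_le {H K : Subgroup G} (h : H ≤ K) :
    Nat.card H * H.relIndex K = Nat.card K := by
  have := card_inf_mul_relIndex H K
  rwa [inf_of_le_left h] at this

theorem relIndex_sup_of_le_normalizer {H N : Subgroup G} (hLE : H ≤ Subgroup.normalizer (N : Set G)) :
    N.relIndex (H ⊔ N) = N.relIndex H := by
  have hLE' : H ≤ Subgroup.normalizer N := hLE
  letI := Subgroup.normal_subgroupOf_of_le_normalizer hLE'
  letI := Subgroup.normal_subgroupOf_sup_of_le_normalizer hLE'
  exact Nat.card_congr (QuotientGroup.quotientInfEquivProdNormalizerQuotient H N hLE').toEquiv.symm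

/-- product formula -/
theorem card_sup_mul_card_inf {H N : Subgroup G} (hLE : H ≤ Subgroup.normalizer (N : Set G)) :
    Nat.card ↥(H ⊔ N) * Nat.card ↥(H ⊓ N) = Nat.card H * Nat.card N := by
  have h1 := card_mul_relIndex_of_le (le_sup_right : N ≤ H ⊔ N)
  have h2 := card_inf_mul_relIndex N H
  rw [relIndex_sup_of_le_normalizer hLE] at h1
  rw [inf_comm] at h2
  rw [← h1, ← h2]
  ring

end Cfsg.Agent.Helper26
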