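import Mathlib
import Cfsg.Prelude.Def_Transfer
import Cfsg.Prelude.Def_PLocal
import Cfsg.Agent.Helper26.Basic

set_option autoImplicit false

namespace Cfsg.Agent.Helper26

open Cfsg
open scoped commutatorElement

variable {G : Type*} [Group G]

theorem isElementaryAbelian_bot (p : ℕ) : IsElementaryAbelian p (⊥ : Subgroup G) := by
  refine ⟨⟨⟨?_⟩⟩, ?_⟩
  · rintro ⟨a, ha⟩ ⟨b, hb⟩
    rw [Subgroup.mem_bot] at ha hb
    subst ha; subst hb; rfl
  · intro a ha
    rw [Subgroup.mem_bot] at ha
    subst ha; simp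

theorem isElementaryAbelian_of_le {p : ℕ} {A B : Subgroup G} (hB : IsElementaryAbelian p B) (h : A ≤ B) :
    IsElementaryAbelian p A := by
  obtain ⟨⟨⟨hc⟩⟩, hp⟩ := hB
  refine ⟨⟨⟨?_⟩⟩, fun a ha => hp a (h ha)⟩
  rintro ⟨a, ha⟩ ⟨b, hb⟩
  have := hc ⟨a, h ha⟩ ⟨b, h hb⟩
  apply Subtype.ext
  simpa using congrArg Subtype.val this

theorem isElementaryAbelian_map {H : Type*} [Group H] {p : ℕ} (f : G →* H) {A : Subgroup G}
    (hA : IsElementaryAbelian p A) : IsElementaryAbelian p (A.map f) := by
  obtain ⟨⟨⟨hc⟩⟩, hp⟩ := hA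
  refine ⟨⟨⟨?_⟩⟩, ?_⟩
  · rintro ⟨_, a, ha, rfl⟩ ⟨_, b, hb, rfl⟩
    apply Subtype.ext
    have := congrArg Subtype.val (hc ⟨a, ha⟩ ⟨b, hb⟩)
    simp only [Subgroup.coe_mul] at this ⊢
    rw [← map_mul, ← map_mul, this]
  · rintro _ ⟨a, ha, rfl⟩
    rw [← map_pow, hp a ha, map_one]

theorem exists_mem_maxElementaryAbelianSubgroups [Finite G] (p : ℕ) :
    ∃ A : Subgroup G, A ∈ maxElementaryAbelianSubgroups p G := by
  classical
  have hfin : (Set.univ : Set (Subgroup G)).Finite := Set.toFinite _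
  have hne : {A : Subgroup G | IsElementaryAbelian p A}.Nonempty := ⟨⊥, isElementaryAbelian_bot p⟩
  obtain ⟨A, hA, hmax⟩ := Set.exists_max_image {A : Subgroup G | IsElementaryAbelian p A}
    (fun A => Nat.card A) (Set.toFinite _) hne
  exact ⟨A, hA, fun B hB => hmax B hB⟩

theorem exists_le_mem_maxElementaryAbelianSubgroups_card [Finite G] (p : ℕ) {B : Subgroup G}
    (hB : IsElementaryAbelian p B) :
    ∃ A : Subgroup G, A ∈ maxElementaryAbelianSubgroups p G ∧ Nat.card B ≤ Nat.card A := by
  obtain ⟨A, hA⟩ := exists_mem_maxElementaryAbelianSubgroups (G := G) p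
  exact ⟨A, hA, hA.2 B hB⟩

theorem map_mem_maxElementaryAbelianSubgroups {H : Type*} [Group H] {p : ℕ} (e : G ≃* H) {A : Subgroup G}
    (hA : A ∈ maxElementaryAbelianSubgroups p G) :
    A.map e.toMonoidHom ∈ maxElementaryAbelianSubgroups p H := by
  refine ⟨isElementaryAbelian_map _ hA.1, fun B hB => ?_⟩
  have h1 : Nat.card (B.map e.symm.toMonoidHom) ≤ Nat.card A :=
    hA.2 _ (isElementaryAbelian_map _ hB)
  have h2 : Nat.card (B.map e.symm.toMonoidHom) = Nat.card B :=
    Nat.card_congr (e.symm.subgroupMap B).symm.toEquiv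
  have h3 : Nat.card (A.map e.toMonoidHom) = Nat.card A :=
    Nat.card_congr (e.subgroupMap A).symm.toEquiv
  omega

theorem thompsonSubgroup_map_equiv {H : Type*} [Group H] (p : ℕ) (e : G ≃* H) :
    (thompsonSubgroup p G).map e.toMonoidHom = thompsonSubgroup p H := by
  unfold thompsonSubgroup
  apply le_antisymm
  · rw [Subgroup.map_le_iff_le_comap]
    apply sSup_le
    intro A hA
    rw [← Subgroup.map_le_iff_le_comap]
    exact le_sSup (map_mem_maxElementaryAbelianSubgroups e hA)
  · apply sSup_le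
    intro B hB
    have h1 := map_mem_maxElementaryAbelianSubgroups e.symm hB
    have h2 : B = (B.map e.symm.toMonoidHom).map e.toMonoidHom := by
      rw [Subgroup.map_map]
      have : e.toMonoidHom.comp e.symm.toMonoidHom = MonoidHom.id H := by
        ext x; simp
      rw [this, Subgroup.map_id]
    rw [h2]
    exact Subgroup.map_mono (le_sSup h1)

theorem thompsonSubgroup_characteristic (p : ℕ) : (thompsonSubgroup p G).Characteristic := by
  rw [Subgroup.characteristic_iff_map_eq]
  intro ϕ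
  exact thompsonSubgroup_map_equiv p ϕ

theorem isElementaryAbelian_zpowers_of_orderOf_eq {p : ℕ} {x : G} (hx : x ^ p = 1) :
    IsElementaryAbelian p (Subgroup.zpowers x) := by
  refine ⟨⟨⟨?_⟩⟩, ?_⟩
  · rintro ⟨_, i, rfl⟩ ⟨_, j, rfl⟩
    apply Subtype.ext
    simp only [Subgroup.coe_mul]
    rw [← zpow_add, ← zpow_add, add_comm]
  · rintro _ ⟨i, rfl⟩
    rw [← zpow_natCast, ← zpow_mul, mul_comm, zpow_mul, zpow_natCast, hx, one_zpow]

theorem thompsonSubgroup_ne_bot [Finite G] {p : ℕ} [hp : Fact p.Prime] (h : p ∣ Nat.card G) :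
    thompsonSubgroup p G ≠ ⊥ := by
  obtain ⟨x, hx⟩ := exists_prime_orderOf_dvd_card' p h
  have hxp : x ^ p = 1 := by rw [← hx]; exact pow_orderOf_eq_one x
  obtain ⟨A, hA, hcard⟩ := exists_le_mem_maxElementaryAbelianSubgroups_card p
    (isElementaryAbelian_zpowers_of_orderOf_eq hxp)
  have hc : Nat.card (Subgroup.zpowers x) = p := by rw [Nat.card_zpowers, hx]
  intro hbot
  have hle : A ≤ thompsonSubgroup p G := le_sSup hA
  rw [hbot, le_bot_iff] at hle
  subst hle
  rw [hc, Subgroup.card_bot] at hcard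
  exact absurd hcard (by have := hp.out.two_le; omega)

theorem isElementaryAbelian_subgroupOf {p : ℕ} {A : Subgroup G} (U : Subgroup G)
    (hA : IsElementaryAbelian p A) : IsElementaryAbelian p (A.subgroupOf U) := by
  obtain ⟨⟨⟨hc⟩⟩, hp⟩ := hA
  refine ⟨⟨⟨?_⟩⟩, ?_⟩
  · rintro ⟨a, ha⟩ ⟨b, hb⟩
    rw [Subgroup.mem_subgroupOf] at ha hb
    apply Subtype.ext
    apply Subtype.ext
    have := congrArg Subtype.val (hc ⟨a, ha⟩ ⟨b, hb⟩)
    simpa using this
  · intro a ha
    rw [Subgroup.mem_subgroupOf] at ha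
    apply Subtype.ext
    simpa using hp _ ha

theorem card_subgroupOf_of_le {A U : Subgroup G} (h : A ≤ U) :
    Nat.card (A.subgroupOf U) = Nat.card A :=
  Nat.card_congr (Subgroup.subgroupOfEquivOfLe h).toEquiv

theorem card_map_subtype {U : Subgroup G} (B : Subgroup U) :
    Nat.card (B.map U.subtype) = Nat.card B :=
  Nat.card_congr (B.equivMapOfInjective U.subtype U.subtype_injective).symm.toEquiv

/-- If `U` contains one elementary abelian subgroup of largest order of `G`, the ones of `U` map to ones of `G`. -/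
theorem map_subtype_mem_maxElementaryAbelianSubgroups [Finite G] {p : ℕ} {U : Subgroup G} {A₀ : Subgroup G}
    (hA₀ : A₀ ∈ maxElementaryAbelianSubgroups p G) (hA₀U : A₀ ≤ U) {B : Subgroup U}
    (hB : B ∈ maxElementaryAbelianSubgroups p U) :
    B.map U.subtype ∈ maxElementaryAbelianSubgroups p G := by
  refine ⟨isElementaryAbelian_map _ hB.1, fun C hC => ?_⟩
  have h1 : Nat.card (A₀.subgroupOf U) ≤ Nat.card B := hB.2 _ (isElementaryAbelian_subgroupOf U hA₀.1)
  rw [card_subgroupOf_of_le hA₀U] at h1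
  rw [card_map_subtype]
  exact (hA₀.2 C hC).trans h1

theorem subgroupOf_mem_maxElementaryAbelianSubgroups {p : ℕ} {U : Subgroup G} {A : Subgroup G}
    (hA : A ∈ maxElementaryAbelianSubgroups p G) (hAU : A ≤ U) :
    A.subgroupOf U ∈ maxElementaryAbelianSubgroups p U := by
  refine ⟨isElementaryAbelian_subgroupOf U hA.1, fun B hB => ?_⟩
  rw [card_subgroupOf_of_le hAU, ← card_map_subtype]
  exact hA.2 _ (isElementaryAbelian_map _ hB)

theorem thompsonSubgroupOf_le_thompsonSubgroup [Finite G] {p : ℕ} {U : Subgroup G} {A₀ : Subgroup G}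
    (hA₀ : A₀ ∈ maxElementaryAbelianSubgroups p G) (hA₀U : A₀ ≤ U) :
    thompsonSubgroupOf p U ≤ thompsonSubgroup p G := by
  unfold thompsonSubgroupOf thompsonSubgroup
  rw [Subgroup.map_le_iff_le_comap]
  apply sSup_le
  intro B hB
  rw [← Subgroup.map_le_iff_le_comap]
  exact le_sSup (map_subtype_mem_maxElementaryAbelianSubgroups hA₀ hA₀U hB)

theorem le_thompsonSubgroupOf {p : ℕ} {U : Subgroup G} {A : Subgroup G}
    (hA : A ∈ maxElementaryAbelianSubgroups p G) (hAU : A ≤ U) :
    A ≤ thompsonSubgroupOf p U := by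
  unfold thompsonSubgroupOf thompsonSubgroup
  have h1 : A.subgroupOf U ≤ sSup (maxElementaryAbelianSubgroups p U) :=
    le_sSup (subgroupOf_mem_maxElementaryAbelianSubgroups hA hAU)
  have h2 := Subgroup.map_mono (f := U.subtype) h1
  rwa [Subgroup.map_subgroupOf_eq_of_le hAU] at h2

theorem thompsonSubgroupOf_eq_of_le [Finite G] {p : ℕ} (U : Subgroup G) (hU : thompsonSubgroup p G ≤ U) :
    thompsonSubgroupOf p U = thompsonSubgroup p G := by
  obtain ⟨A₀, hA₀⟩ := exists_mem_maxElementaryAbelianSubgroups (G := G) p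
  have hA₀U : A₀ ≤ U := (le_sSup hA₀).trans hU
  apply le_antisymm (thompsonSubgroupOf_le_thompsonSubgroup hA₀ hA₀U)
  apply sSup_le
  intro A hA
  exact le_thompsonSubgroupOf hA ((le_sSup hA).trans hU)

theorem isPGroup_of_isElementaryAbelian {p : ℕ} {A : Subgroup G} (hA : IsElementaryAbelian p A) :
    IsPGroup p A := by
  intro a
  refine ⟨1, ?_⟩
  apply Subtype.ext
  simpa using hA.2 a a.2

open Pointwise in
theorem exists_mem_maxElementaryAbelianSubgroups_le_sylow [Finite G] {p : ℕ} [Fact p.Prime] (S : Sylow p G) :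
    ∃ A : Subgroup G, A ∈ maxElementaryAbelianSubgroups p G ∧ A ≤ S := by
  obtain ⟨A₀, hA₀⟩ := exists_mem_maxElementaryAbelianSubgroups (G := G) p
  obtain ⟨Q, hQ⟩ := (isPGroup_of_isElementaryAbelian hA₀.1).exists_le_sylow
  obtain ⟨g, rfl⟩ := MulAction.exists_smul_eq G Q S
  refine ⟨A₀.map (MulAut.conj g).toMonoidHom, map_mem_maxElementaryAbelianSubgroups _ hA₀, ?_⟩
  rw [Sylow.coe_subgroup_smul, Subgroup.pointwise_smul_def]
  exact Subgroup.map_mono hQ

theorem thompsonSubgroup_eq_iSup_sylow [Finite G] {p : ℕ} [Fact p.Prime] :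
    thompsonSubgroup p G = ⨆ S : Sylow p G, thompsonSubgroupOf p (S : Subgroup G) := by
  apply le_antisymm
  · apply sSup_le
    intro A hA
    obtain ⟨Q, hQ⟩ := (isPGroup_of_isElementaryAbelian hA.1).exists_le_sylow
    exact (le_thompsonSubgroupOf hA hQ).trans (le_iSup (fun S : Sylow p G => thompsonSubgroupOf p (S : Subgroup G)) Q)
  · apply iSup_le
    intro S
    obtain ⟨A, hA, hAS⟩ := exists_mem_maxElementaryAbelianSubgroups_le_sylow S
    exact thompsonSubgroupOf_le_thompsonSubgroup hA hAS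

theorem isElementaryAbelian_commute {p : ℕ} {A : Subgroup G} (hA : IsElementaryAbelian p A)
    {a b : G} (ha : a ∈ A) (hb : b ∈ A) : a * b = b * a := by
  obtain ⟨⟨⟨hc⟩⟩, -⟩ := hA
  simpa using congrArg Subtype.val (hc ⟨a, ha⟩ ⟨b, hb⟩)

theorem isElementaryAbelian_iff {p : ℕ} {A : Subgroup G} :
    IsElementaryAbelian p A ↔ (∀ a ∈ A, ∀ b ∈ A, a * b = b * a) ∧ ∀ a ∈ A, a ^ p = 1 := by
  constructor
  · intro h
    exact ⟨fun a ha b hb => isElementaryAbelian_commute h ha hb, h.2⟩
  · rintro ⟨hc, hp⟩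
    refine ⟨⟨⟨?_⟩⟩, hp⟩
    rintro ⟨a, ha⟩ ⟨b, hb⟩
    exact Subtype.ext (hc a ha b hb)

/-- the join of two elementary abelian subgroups that commute elementwise is elementary abelian -/
theorem isElementaryAbelian_sup {p : ℕ} {A B : Subgroup G} (hA : IsElementaryAbelian p A)
    (hB : IsElementaryAbelian p B) (hAB : ∀ a ∈ A, ∀ b ∈ B, a * b = b * a) :
    IsElementaryAbelian p (A ⊔ B) := by
  rw [isElementaryAbelian_iff] at hA hB ⊢
  -- the subgroup of elements of A ⊔ B centralizing A ⊔ B with p-th power 1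
  let T : Subgroup G :=
    { carrier := {g | g ∈ Subgroup.centralizer ((A ⊔ B : Subgroup G) : Set G) ∧ g ∈ A ⊔ B ∧ g ^ p = 1}
      one_mem' := ⟨Subgroup.one_mem _, Subgroup.one_mem _, one_pow p⟩
      mul_mem' := by
        rintro g h ⟨hg1, hg2, hg3⟩ ⟨hh1, hh2, hh3⟩
        refine ⟨Subgroup.mul_mem _ hg1 hh1, Subgroup.mul_mem _ hg2 hh2, ?_⟩
        have hcomm : Commute g h := (Subgroup.mem_centralizer_iff.mp hg1 h hh2).symm
        rw [hcomm.mul_pow, hg3, hh3, one_mul]
      inv_mem' := by
        rintro g ⟨hg1, hg2, hg3⟩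
        exact ⟨Subgroup.inv_mem _ hg1, Subgroup.inv_mem _ hg2, by rw [inv_pow, hg3, inv_one]⟩ }
  have hAT : A ≤ T := by
    intro a ha
    refine ⟨?_, Subgroup.mem_sup_left ha, hA.2 a ha⟩
    rw [Subgroup.mem_centralizer_iff]
    intro x hx
    have hle : A ⊔ B ≤ Subgroup.centralizer ({a} : Set G) := by
      apply sup_le
      · intro y hy
        rw [Subgroup.mem_centralizer_iff]
        rintro _ rfl
        exact hA.1 _ ha _ hy
      · intro y hy
        rw [Subgroup.mem_centralizer_iff]
        rintro _ rfl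
        exact hAB _ ha _ hy
    have := Subgroup.mem_centralizer_iff.mp (hle hx) a rfl
    exact this.symm
  have hBT : B ≤ T := by
    intro b hb
    refine ⟨?_, Subgroup.mem_sup_right hb, hB.2 b hb⟩
    rw [Subgroup.mem_centralizer_iff]
    intro x hx
    have hle : A ⊔ B ≤ Subgroup.centralizer ({b} : Set G) := by
      apply sup_le
      · intro y hy
        rw [Subgroup.mem_centralizer_iff]
        rintro _ rfl
        exact (hAB _ hy _ hb).symm
      · intro y hy
        rw [Subgroup.mem_centralizer_iff]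
        rintro _ rfl
        exact hB.1 _ hb _ hy
    have := Subgroup.mem_centralizer_iff.mp (hle hx) b rfl
    exact this.symm
  have hT : A ⊔ B ≤ T := sup_le hAT hBT
  refine ⟨fun a ha b hb => ?_, fun a ha => (hT ha).2.2⟩
  exact (Subgroup.mem_centralizer_iff.mp (hT ha).1 b hb).symm

theorem mem_of_mem_maxElementaryAbelianSubgroups_of_commute [Finite G] {p : ℕ} {A : Subgroup G}
    (hA : A ∈ maxElementaryAbelianSubgroups p G) {x : G} (hx : x ^ p = 1)
    (hc : ∀ a ∈ A, a * x = x * a) : x ∈ A := by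
  have hEA : IsElementaryAbelian p (A ⊔ Subgroup.zpowers x) := by
    apply isElementaryAbelian_sup hA.1 (isElementaryAbelian_zpowers_of_orderOf_eq hx)
    rintro a ha _ ⟨i, rfl⟩
    exact ((Commute.zpow_right (hc a ha) i) : Commute a (x ^ i)).eq
  have hcard := hA.2 _ hEA
  have hle : A ≤ A ⊔ Subgroup.zpowers x := le_sup_left
  have heq : A = A ⊔ Subgroup.zpowers x := by
    apply Subgroup.eq_of_le_of_card_ge hle
    exact hcard
  rw [heq]
  exact Subgroup.mem_sup_right (Subgroup.mem_zpowers x)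

theorem mem_thompsonSubgroup_of_centralizing [Finite G] {p : ℕ} {x : G}
    (hx : x ∈ Subgroup.centralizer (thompsonSubgroup p G : Set G)) (hxp : x ^ p = 1) :
    x ∈ thompsonSubgroup p G := by
  obtain ⟨A, hA⟩ := exists_mem_maxElementaryAbelianSubgroups (G := G) p
  have hAJ : A ≤ thompsonSubgroup p G := le_sSup hA
  apply hAJ
  apply mem_of_mem_maxElementaryAbelianSubgroups_of_commute hA hxp
  intro a ha
  exact Subgroup.mem_centralizer_iff.mp hx a (hAJ ha)

/-- An elementary abelian subgroup of largest order is a best offender on every elementary abelian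
subgroup it normalizes. -/
theorem isBestOffenderOn_of_mem_maxElementaryAbelianSubgroups [Finite G] {p : ℕ} {V A : Subgroup G}
    (hV : IsElementaryAbelian p V) (hA : A ∈ maxElementaryAbelianSubgroups p G) :
    IsBestOffenderOn p V A := by
  have hAc := (isElementaryAbelian_iff.mp hA.1).1
  refine ⟨fun B hBA => ?_, ?_, ?_⟩
  · -- B * C_V(B) is elementary abelian
    set C := V ⊓ Subgroup.centralizer (B : Set G) with hC
    have hBEA : IsElementaryAbelian p B := isElementaryAbelian_of_le hA.1 hBA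
    have hCEA : IsElementaryAbelian p C := isElementaryAbelian_of_le hV inf_le_left
    have hcomm : ∀ b ∈ B, ∀ c ∈ C, b * c = c * b := by
      intro b hb c hc
      exact (Subgroup.mem_centralizer_iff.mp hc.2 b hb)
    have hEA : IsElementaryAbelian p (B ⊔ C) := isElementaryAbelian_sup hBEA hCEA hcomm
    have h1 : Nat.card ↥(B ⊔ C) ≤ Nat.card A := hA.2 _ hEA
    have hnorm : B ≤ Subgroup.normalizer (C : Set G) := by
      intro b hb
      rw [Subgroup.mem_normalizer_iff]
      intro c
      constructor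
      · intro hc
        have : b * c * b⁻¹ = c := by rw [hcomm b hb c hc]; group
        rwa [this]
      · intro hc
        have hc' : b⁻¹ * (b * c * b⁻¹) * b = b * c * b⁻¹ := by
          have := hcomm b hb _ hc
          calc b⁻¹ * (b * c * b⁻¹) * b = b⁻¹ * ((b * c * b⁻¹) * b) := by group
            _ = b⁻¹ * (b * (b * c * b⁻¹)) := by rw [this]
            _ = b * c * b⁻¹ := by group
        have : c = b * c * b⁻¹ := by
          rw [← hc']; group
        rwa [this]
    have h2 := card_sup_mul_card_inf hnorm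
    -- B ⊓ C ≤ A ⊓ V ≤ V ⊓ C(A)
    have h3 : B ⊓ C ≤ V ⊓ Subgroup.centralizer (A : Set G) := by
      intro x hx
      refine Subgroup.mem_inf.mpr ⟨hx.2.1, ?_⟩
      rw [Subgroup.mem_centralizer_iff]
      intro a ha
      exact hAc a ha x (hBA hx.1)
    have h4 : Nat.card ↥(B ⊓ C) ≤ Nat.card ↥(V ⊓ Subgroup.centralizer (A : Set G)) :=
      Subgroup.card_le_of_le h3
    calc Nat.card B * Nat.card C = Nat.card ↥(B ⊔ C) * Nat.card ↥(B ⊓ C) := h2.symm
      _ ≤ Nat.card A * Nat.card ↥(V ⊓ Subgroup.centralizer (A : Set G)) := Nat.mul_le_mul h1 h4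
  · rw [Subgroup.commutator_le]
    intro a ha b hb
    have : ⁅a, b⁆ = 1 := by
      rw [commutatorElement_eq_one_iff_mul_comm]
      exact hAc a ha b hb
    rw [this]
    exact Subgroup.one_mem _
  · intro a ha
    rw [hA.1.2 a ha]
    exact Subgroup.one_mem _

/-- The subgroup generated by pairwise commuting elements of order dividing `p` is elementary abelian. -/
theorem isElementaryAbelian_closure {p : ℕ} {X : Set G} (hc : ∀ a ∈ X, ∀ b ∈ X, a * b = b * a)
    (hp : ∀ a ∈ X, a ^ p = 1) : IsElementaryAbelian p (Subgroup.closure X) := by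
  have h1 : Subgroup.closure X ≤ Subgroup.centralizer (Subgroup.closure X : Set G) := by
    rw [Subgroup.centralizer_closure, Subgroup.closure_le]
    intro a ha
    have : Subgroup.closure X ≤ Subgroup.centralizer ({a} : Set G) := by
      rw [Subgroup.closure_le]
      intro b hb
      rw [SetLike.mem_coe, Subgroup.mem_centralizer_iff]
      intro y hy
      have hy' : y = a := hy
      rw [hy']
      exact hc a ha b hb
    rw [SetLike.mem_coe, Subgroup.mem_centralizer_iff]
    intro b hb
    have hb' : b ∈ Subgroup.closure X := Subgroup.subset_closure hb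
    exact (Subgroup.mem_centralizer_iff.mp (this hb') a rfl).symm
  rw [isElementaryAbelian_iff]
  refine ⟨fun a ha b hb => (Subgroup.mem_centralizer_iff.mp (h1 ha) b hb).symm, ?_⟩
  intro a ha
  induction ha using Subgroup.closure_induction with
  | mem x hx => exact hp x hx
  | one => exact one_pow p
  | mul x y hx hy ihx ihy =>
    have hcomm : Commute x y := (Subgroup.mem_centralizer_iff.mp (h1 hx) y hy).symm
    rw [hcomm.mul_pow, ihx, ihy, one_mul]
  | inv x hx ih => rw [inv_pow, ih, inv_one]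

/-- `J(P)` is weakly closed in `P`: a conjugate of `J(P)` inside `P` is `J(P)`. -/
theorem thompsonSubgroupOf_map_conj_eq [Finite G] {p : ℕ} (P : Subgroup G) (u : G)
    (h : (thompsonSubgroupOf p P).map (MulAut.conj u).toMonoidHom ≤ P) :
    (thompsonSubgroupOf p P).map (MulAut.conj u).toMonoidHom = thompsonSubgroupOf p P := by
  have hle : (thompsonSubgroupOf p P).map (MulAut.conj u).toMonoidHom ≤ thompsonSubgroupOf p P := by
    unfold thompsonSubgroupOf thompsonSubgroup at h ⊢
    rw [Subgroup.map_map] at h ⊢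
    rw [Subgroup.map_le_iff_le_comap]
    apply sSup_le
    intro A hA
    rw [← Subgroup.map_le_iff_le_comap]
    -- A' = u A u⁻¹ as a subgroup of G
    set A' : Subgroup G := A.map ((MulAut.conj u).toMonoidHom.comp P.subtype) with hA'
    have hA'P : A' ≤ P := (Subgroup.map_mono (le_sSup hA)).trans h
    have hinj : Function.Injective ((MulAut.conj u).toMonoidHom.comp P.subtype) :=
      (MulAut.conj u).injective.comp P.subtype_injective
    have hcard : Nat.card A' = Nat.card A :=
      Nat.card_congr (A.equivMapOfInjective _ hinj).symm.toEquiv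
    have hA'EA : IsElementaryAbelian p A' := isElementaryAbelian_map _ hA.1
    have hmem : A'.subgroupOf P ∈ maxElementaryAbelianSubgroups p P := by
      refine ⟨isElementaryAbelian_subgroupOf P hA'EA, fun B hB => ?_⟩
      rw [card_subgroupOf_of_le hA'P, hcard]
      exact hA.2 B hB
    have h2 := Subgroup.map_mono (f := P.subtype) (le_sSup hmem)
    rwa [Subgroup.map_subgroupOf_eq_of_le hA'P] at h2
  have : Nat.card ((thompsonSubgroupOf p P).map (MulAut.conj u).toMonoidHom) =
      Nat.card (thompsonSubgroupOf p P) :=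
    Nat.card_congr ((MulAut.conj u).subgroupMap _).symm.toEquiv
  exact Subgroup.eq_of_le_of_card_ge hle (by rw [this])

end Cfsg.Agent.Helper26
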