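import Mathlib
import Cfsg.Prelude.Def_PLocal
import Cfsg.Prelude.Def_Transfer
import Cfsg.Agent.Helper26.GlaubermanRepl
import Cfsg.Agent.Helper26.Thompson

set_option autoImplicit false

namespace Cfsg.Agent.Helper26

open Subgroup
open scoped commutatorElement

variable {S : Type*} [Group S]

/-- In a finite `p`-group, a normal subgroup `B` not contained in `N` has an element
normalizing `N` outside `N`. -/
theorem exists_mem_normalizer_not_mem [Finite S] {p : ℕ} [Fact p.Prime] (hS : IsPGroup p S)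
    (N B : Subgroup S) [B.Normal] (hnot : ¬ B ≤ N) :
    ∃ b ∈ B, b ∈ normalizer (N : Set S) ∧ b ∉ N := by
  have hM : IsPGroup p (N ⊔ B : Subgroup S) := hS.to_subgroup _
  haveI : Group.IsNilpotent (N ⊔ B : Subgroup S) := hM.isNilpotent
  have hlt : N.subgroupOf (N ⊔ B) < ⊤ := by
    rw [lt_top_iff_ne_top, Ne, subgroupOf_eq_top]
    intro hle
    exact hnot (le_sup_right.trans hle)
  have hnc := normalizerCondition_of_isNilpotent (G := (N ⊔ B : Subgroup S)) _ hlt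
  obtain ⟨g, hgN, hgH⟩ := SetLike.exists_of_lt hnc
  have hg := g.2
  rw [← SetLike.mem_coe, mul_normal, Set.mem_mul] at hg
  obtain ⟨n, hn, b, hb, hnb⟩ := hg
  have hbe : b = n⁻¹ * g.1 := by rw [← hnb]; group
  refine ⟨b, hb, ?_, ?_⟩
  · apply mem_normalizer_of_map_conj_le N b
    rintro _ ⟨x, hx, rfl⟩
    simp only [MulEquiv.coe_toMonoidHom, MulAut.conj_apply]
    have hxM : x ∈ N ⊔ B := mem_sup_left hx
    have h1 : (⟨x, hxM⟩ : (N ⊔ B : Subgroup S)) ∈ N.subgroupOf (N ⊔ B) := mem_subgroupOf.mpr hx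
    have h2 := (mem_normalizer_iff.mp hgN ⟨x, hxM⟩).mp h1
    rw [mem_subgroupOf] at h2
    have h3 : g.1 * x * g.1⁻¹ ∈ N := by simpa using h2
    have e : b * x * b⁻¹ = n⁻¹ * (g.1 * x * g.1⁻¹) * n := by rw [hbe]; group
    rw [e]
    exact N.mul_mem (N.mul_mem (N.inv_mem hn) h3) hn
  · intro hbN
    apply hgH
    rw [mem_subgroupOf, ← hnb]
    exact N.mul_mem hn hbN

/-- Generic replacement property for a family `𝒜` of abelian subgroups closed under the
Glauberman replacement. -/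
theorem replacement_family [Finite S] {p : ℕ} [Fact p.Prime] (hS : IsPGroup p S) (hp : p ≠ 2)
    (𝒜 : Set (Subgroup S))
    (hcomm : ∀ A ∈ 𝒜, ∀ x ∈ A, ∀ y ∈ A, x * y = y * x)
    (hstar : ∀ A ∈ 𝒜, ∀ (b : S) (A' : Subgroup S), (∀ x ∈ A', ∀ y ∈ A', x * y = y * x) →
      Nat.card A' = Nat.card A → A' ≤ A ⊔ conjSub A b →
      (∀ n : ℕ, Odd n → (∀ a ∈ A, a ^ n = 1) → ∀ x ∈ A', x ^ n = 1) → A' ∈ 𝒜)
    (B : Subgroup S) [B.Normal] (U : Subgroup S) (hU : U ∈ 𝒜) (hBU : ⁅B, B⁆ ≤ U)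
    (hnB : ¬ B ≤ U) :
    ∃ A ∈ 𝒜, ⁅B, B⁆ ≤ A ∧ ¬ B ≤ A ∧ B ≤ normalizer (A : Set S) := by
  classical
  let C : Set (Subgroup S) := {A | A ∈ 𝒜 ∧ ⁅B, B⁆ ≤ A ∧ ¬ B ≤ A}
  have hCne : C.Nonempty := ⟨U, hU, hBU, hnB⟩
  obtain ⟨A, ⟨hA𝒜, hBA, hnBA⟩, hmax⟩ := Set.exists_max_image C
    (fun A => Nat.card (A ⊓ B : Subgroup S)) (Set.toFinite C) hCne
  refine ⟨A, hA𝒜, hBA, hnBA, ?_⟩
  by_contra hnot
  obtain ⟨b, hb, hbN, hbA⟩ := exists_mem_normalizer_not_mem hS (normalizer (A : Set S)) B hnot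
  have h : ReplHyp A B b :=
    { comm := hcomm A hA𝒜
      normalB := fun g x hx => (inferInstance : B.Normal).conj_mem x hx g
      derived := hBA
      hb := hb
      hbN := hbN }
  have hXc := h.replX_comm hS (fun h2 => absurd h2 hp)
  have hstarmem : replStar A b ∈ 𝒜 := hstar A hA𝒜 b (replStar A b) (h.replStar_comm hXc)
    (h.card_star hXc) (sup_le (inf_le_left.trans le_sup_left) h.replX_le_sup)
    (fun n hodd hn => h.pow_eq_one_star hXc n hn hodd)
  have hlt := h.inf_B_lt hbA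
  have hlt2 := h.star_inf_B_lt hnot
  have hC : replStar A b ∈ C :=
    ⟨hstarmem, h.derived_le_replZ.trans le_sup_left, fun hle => hlt2.ne (inf_eq_right.mpr hle)⟩
  have h1 : Nat.card (replStar A b ⊓ B : Subgroup S) ≤ Nat.card (A ⊓ B : Subgroup S) := hmax _ hC
  have h2 := Subgroup.eq_of_le_of_card_ge hlt.le h1
  exact hlt.ne h2

/-- the abelian subgroups of `D` of largest order, as subgroups of `S` -/
def famAb (D : Subgroup S) : Set (Subgroup S) :=
  {X | X ≤ D ∧ (∀ x ∈ X, ∀ y ∈ X, x * y = y * x) ∧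
    ∀ Y : Subgroup S, Y ≤ D → (∀ x ∈ Y, ∀ y ∈ Y, x * y = y * x) → Nat.card Y ≤ Nat.card X}

/-- the elementary abelian subgroups of `D` of largest order, as subgroups of `S` -/
def famEl (p : ℕ) (D : Subgroup S) : Set (Subgroup S) :=
  {X | X ≤ D ∧ ((∀ x ∈ X, ∀ y ∈ X, x * y = y * x) ∧ ∀ x ∈ X, x ^ p = 1) ∧
    ∀ Y : Subgroup S, Y ≤ D → ((∀ x ∈ Y, ∀ y ∈ Y, x * y = y * x) ∧ ∀ x ∈ Y, x ^ p = 1) →
      Nat.card Y ≤ Nat.card X}

theorem isMulCommutative_iff_forall {X : Subgroup S} :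
    IsMulCommutative X ↔ ∀ x ∈ X, ∀ y ∈ X, x * y = y * x := by
  constructor
  · intro h x hx y hy
    exact congrArg Subtype.val (h.is_comm.comm (⟨x, hx⟩ : X) ⟨y, hy⟩)
  · intro h
    exact ⟨⟨fun x y => Subtype.ext (h x.1 x.2 y.1 y.2)⟩⟩

theorem comm_map_subtype {D : Subgroup S} {A : Subgroup D}
    (h : ∀ x ∈ A, ∀ y ∈ A, x * y = y * x) :
    ∀ x ∈ A.map D.subtype, ∀ y ∈ A.map D.subtype, x * y = y * x := by
  rintro _ ⟨x, hx, rfl⟩ _ ⟨y, hy, rfl⟩
  have := h x hx y hy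
  exact congrArg Subtype.val this

theorem comm_subgroupOf {D X : Subgroup S} (h : ∀ x ∈ X, ∀ y ∈ X, x * y = y * x) :
    ∀ x ∈ X.subgroupOf D, ∀ y ∈ X.subgroupOf D, x * y = y * x := by
  intro x hx y hy
  exact Subtype.ext (h x.1 (mem_subgroupOf.mp hx) y.1 (mem_subgroupOf.mp hy))

theorem image_maxAbelian_eq (D : Subgroup S) :
    Set.image (fun A : Subgroup D => A.map D.subtype) (Cfsg.maxAbelianSubgroups D) = famAb D := by
  ext X
  constructor
  · rintro ⟨A₀, ⟨hc, hmax⟩, rfl⟩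
    refine ⟨map_subtype_le _, comm_map_subtype (isMulCommutative_iff_forall.mp hc), ?_⟩
    intro Y hY hYc
    have := hmax (Y.subgroupOf D) (isMulCommutative_iff_forall.mpr (comm_subgroupOf hYc))
    rw [card_subgroupOf_of_le hY] at this
    show Nat.card Y ≤ Nat.card (A₀.map D.subtype)
    rw [card_map_subtype]
    exact this
  · rintro ⟨hXD, hXc, hmax⟩
    refine ⟨X.subgroupOf D, ⟨isMulCommutative_iff_forall.mpr (comm_subgroupOf hXc), ?_⟩, ?_⟩
    · intro B' hB'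
      have := hmax (B'.map D.subtype) (map_subtype_le _)
        (comm_map_subtype (isMulCommutative_iff_forall.mp hB'))
      rw [card_map_subtype] at this
      rw [card_subgroupOf_of_le hXD]
      exact this
    · exact map_subgroupOf_eq_of_le hXD

theorem isElementaryAbelian_iff_forall {p : ℕ} {X : Subgroup S} :
    Cfsg.IsElementaryAbelian p X ↔ (∀ x ∈ X, ∀ y ∈ X, x * y = y * x) ∧ ∀ x ∈ X, x ^ p = 1 := by
  unfold Cfsg.IsElementaryAbelian
  rw [isMulCommutative_iff_forall]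

theorem image_maxElementaryAbelian_eq (p : ℕ) (D : Subgroup S) :
    Set.image (fun A : Subgroup D => A.map D.subtype) (Cfsg.maxElementaryAbelianSubgroups p D) =
      famEl p D := by
  ext X
  constructor
  · rintro ⟨A₀, ⟨hc, hmax⟩, rfl⟩
    refine ⟨map_subtype_le _, isElementaryAbelian_iff_forall.mp (isElementaryAbelian_map _ hc), ?_⟩
    intro Y hY hYc
    have := hmax (Y.subgroupOf D)
      (isElementaryAbelian_subgroupOf D (isElementaryAbelian_iff_forall.mpr hYc))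
    rw [card_subgroupOf_of_le hY] at this
    show Nat.card Y ≤ Nat.card (A₀.map D.subtype)
    rw [card_map_subtype]
    exact this
  · rintro ⟨hXD, hXc, hmax⟩
    refine ⟨X.subgroupOf D,
      ⟨isElementaryAbelian_subgroupOf D (isElementaryAbelian_iff_forall.mpr hXc), ?_⟩, ?_⟩
    · intro B' hB'
      have := hmax (B'.map D.subtype) (map_subtype_le _)
        (isElementaryAbelian_iff_forall.mp (isElementaryAbelian_map _ hB'))
      rw [card_map_subtype] at this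
      rw [card_subgroupOf_of_le hXD]
      exact this
    · exact map_subgroupOf_eq_of_le hXD

theorem conjSub_le_of_normal {D A : Subgroup S} [D.Normal] (hA : A ≤ D) (b : S) :
    conjSub A b ≤ D := by
  intro y hy
  obtain ⟨a, ha, rfl⟩ := mem_conjSub.mp hy
  have := (inferInstance : D.Normal).conj_mem a (hA ha) b⁻¹
  simpa using this

theorem replacement_famAb [Finite S] {p : ℕ} [Fact p.Prime] (hS : IsPGroup p S) (hp : p ≠ 2)
    (D : Subgroup S) [D.Normal] (B : Subgroup S) [B.Normal] (U : Subgroup S) (hU : U ∈ famAb D)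
    (hBU : ⁅B, B⁆ ≤ U) (hnB : ¬ B ≤ U) :
    ∃ A ∈ famAb D, ⁅B, B⁆ ≤ A ∧ ¬ B ≤ A ∧ B ≤ normalizer (A : Set S) := by
  refine replacement_family hS hp (famAb D) (fun A hA => hA.2.1) ?_ B U hU hBU hnB
  intro A hA b A' hA'c hcard hle _
  refine ⟨hle.trans (sup_le hA.1 (conjSub_le_of_normal hA.1 b)), hA'c, ?_⟩
  intro Y hY hYc
  rw [hcard]
  exact hA.2.2 Y hY hYc

theorem replacement_famEl [Finite S] {p : ℕ} [Fact p.Prime] (hS : IsPGroup p S) (hp : p ≠ 2)
    (D : Subgroup S) [D.Normal] (B : Subgroup S) [B.Normal] (U : Subgroup S) (hU : U ∈ famEl p D)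
    (hBU : ⁅B, B⁆ ≤ U) (hnB : ¬ B ≤ U) :
    ∃ A ∈ famEl p D, ⁅B, B⁆ ≤ A ∧ ¬ B ≤ A ∧ B ≤ normalizer (A : Set S) := by
  have hpp : p.Prime := Fact.out
  refine replacement_family hS hp (famEl p D) (fun A hA => hA.2.1.1) ?_ B U hU hBU hnB
  intro A hA b A' hA'c hcard hle hexp
  refine ⟨hle.trans (sup_le hA.1 (conjSub_le_of_normal hA.1 b)),
    ⟨hA'c, hexp p (hpp.odd_of_ne_two hp) hA.2.1.2⟩, ?_⟩
  intro Y hY hYc
  rw [hcard]
  exact hA.2.2 Y hY hYc

end Cfsg.Agent.Helper26
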