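import Mathlib
import Cfsg.Prelude.Def_PLocal
import Cfsg.Agent.Helper14.PCore
import Cfsg.Agent.Helper3.SylowSubnormal
import Cfsg.Agent.Lead.ThompsonPQ
import Cfsg.Agent.Helper26.ReplFamily

set_option autoImplicit false

namespace Cfsg.Agent.Helper26

open Subgroup
open scoped commutatorElement

variable {G : Type*} [Group G]

/-- A family of abelian subgroups attached to each subgroup, with the properties needed for
the ZJ-theorem. -/
structure ZJFamily (p : ℕ) (𝒜 : Subgroup G → Set (Subgroup G)) : Prop where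
  le : ∀ T A, A ∈ 𝒜 T → A ≤ T
  comm : ∀ T A, A ∈ 𝒜 T → ∀ x ∈ A, ∀ y ∈ A, x * y = y * x
  nonempty : ∀ T, (𝒜 T).Nonempty
  equiv : ∀ (φ : G ≃* G) T A, A ∈ 𝒜 T → A.map φ.toMonoidHom ∈ 𝒜 (T.map φ.toMonoidHom)
  restrict : ∀ S T A, A ∈ 𝒜 S → A ≤ T → T ≤ S → A ∈ 𝒜 T ∧ 𝒜 T ⊆ 𝒜 S
  repl : ∀ S B : Subgroup G, IsPGroup p S → B ≤ S → S ≤ normalizer (B : Set G) →
    ∀ A ∈ 𝒜 S, ⁅B, B⁆ ≤ A → ¬ B ≤ A →
      ∃ A' ∈ 𝒜 S, ⁅B, B⁆ ≤ A' ∧ ¬ B ≤ A' ∧ B ≤ normalizer (A' : Set G)

variable {p : ℕ} {𝒜 : Subgroup G → Set (Subgroup G)}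

theorem map_map_symm (φ : G ≃* G) (T : Subgroup G) :
    (T.map φ.toMonoidHom).map φ.symm.toMonoidHom = T := by
  ext x
  constructor
  · rintro ⟨_, ⟨y, hy, rfl⟩, rfl⟩
    simpa using hy
  · intro hx
    exact ⟨φ x, ⟨x, hx, rfl⟩, by simp⟩

theorem ZJFamily.map_sInf_le (h : ZJFamily p 𝒜) (φ : G ≃* G) (T : Subgroup G) :
    (sInf (𝒜 T)).map φ.toMonoidHom ≤ sInf (𝒜 (T.map φ.toMonoidHom)) := by
  rintro _ ⟨x, hx, rfl⟩
  rw [SetLike.mem_coe, mem_sInf] at hx
  rw [mem_sInf]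
  intro A' hA'
  have h1 := h.equiv φ.symm _ A' hA'
  rw [map_map_symm] at h1
  obtain ⟨y, hy, hyx⟩ := hx _ h1
  have : φ.toMonoidHom x = y := by
    have h2 : φ.symm y = x := hyx
    rw [← h2]
    simp
  rw [this]
  exact hy

theorem ZJFamily.map_sInf (h : ZJFamily p 𝒜) (φ : G ≃* G) (T : Subgroup G) :
    (sInf (𝒜 T)).map φ.toMonoidHom = sInf (𝒜 (T.map φ.toMonoidHom)) := by
  apply le_antisymm (h.map_sInf_le φ T)
  have h1 := h.map_sInf_le φ.symm (T.map φ.toMonoidHom)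
  rw [map_map_symm] at h1
  intro y hy
  have h2 : φ.symm.toMonoidHom y ∈ sInf (𝒜 T) := h1 ⟨y, hy, rfl⟩
  exact ⟨_, h2, by simp⟩

theorem map_conj_eq_of_mem_normalizer [Finite G] {T : Subgroup G} {g : G}
    (hg : g ∈ normalizer (T : Set G)) : T.map (MulAut.conj g).toMonoidHom = T := by
  have hle : T.map (MulAut.conj g).toMonoidHom ≤ T := by
    rintro _ ⟨x, hx, rfl⟩
    simp only [MulEquiv.coe_toMonoidHom, MulAut.conj_apply]
    exact (mem_normalizer_iff.mp hg x).mp hx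
  have hcard : Nat.card (T.map (MulAut.conj g).toMonoidHom) = Nat.card T :=
    Nat.card_congr (T.equivMapOfInjective _ (MulAut.conj g).injective).symm.toEquiv
  exact Subgroup.eq_of_le_of_card_ge hle hcard.ge

theorem ZJFamily.mem_normalizer_sInf [Finite G] (h : ZJFamily p 𝒜) {T : Subgroup G} {g : G}
    (hg : g ∈ normalizer (T : Set G)) : g ∈ normalizer ((sInf (𝒜 T) : Subgroup G) : Set G) := by
  apply mem_normalizer_of_map_conj_le
  rw [h.map_sInf, map_conj_eq_of_mem_normalizer hg]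

theorem commutator_normalClosure_le {V B K : Subgroup G} [hB : B.Normal] [hK : K.Normal]
    (h : ⁅V, B⁆ ≤ K) : ⁅normalClosure (V : Set G), B⁆ ≤ K := by
  rw [commutator_le]
  intro x hx
  unfold normalClosure at hx
  induction hx using closure_induction with
  | mem x hx1 =>
    intro y hy
    rw [Group.mem_conjugatesOfSet_iff] at hx1
    obtain ⟨v, hv, hvx⟩ := hx1
    rw [isConj_iff] at hvx
    obtain ⟨c, rfl⟩ := hvx
    have h1 : c⁻¹ * y * c⁻¹⁻¹ ∈ B := hB.conj_mem y hy c⁻¹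
    have h2 : ⁅v, c⁻¹ * y * c⁻¹⁻¹⁆ ∈ K := h (commutator_mem_commutator hv h1)
    have h3 := hK.conj_mem _ h2 c
    have e : ⁅c * v * c⁻¹, y⁆ = c * ⁅v, c⁻¹ * y * c⁻¹⁻¹⁆ * c⁻¹ := by
      simp only [commutatorElement_def]; group
    rw [e]
    exact h3
  | one =>
    intro y _
    rw [commutatorElement_one_left]
    exact K.one_mem
  | mul x₁ x₂ _ _ ih₁ ih₂ =>
    intro y hy
    have h1 := hK.conj_mem _ (ih₂ y hy) x₁
    have e : ⁅x₁ * x₂, y⁆ = (x₁ * ⁅x₂, y⁆ * x₁⁻¹) * ⁅x₁, y⁆ := by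
      simp only [commutatorElement_def]; group
    rw [e]
    exact K.mul_mem h1 (ih₁ y hy)
  | inv x _ ih =>
    intro y hy
    have h1 := hK.conj_mem _ (K.inv_mem (ih y hy)) x⁻¹
    have e : ⁅x⁻¹, y⁆ = x⁻¹ * (⁅x, y⁆)⁻¹ * x⁻¹⁻¹ := by
      simp only [commutatorElement_def]; group
    rw [e]
    exact h1

/-- Frattini-type factorization: if `L` is normal, `C ≤ L` is normal and `L/C` is a `p`-group
then `G = N_G(S ∩ L) C`. -/
theorem normalizer_sylow_inf_sup_eq_top [Finite G] [Fact p.Prime] (S : Sylow p G)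
    (L C : Subgroup G) [hL : L.Normal] [hC : C.Normal] (hCL : C ≤ L)
    (hpow : ∀ x ∈ L, ∃ k : ℕ, x ^ (p ^ k) ∈ C) :
    normalizer (((S : Subgroup G) ⊓ L : Subgroup G) : Set G) ⊔ C = ⊤ := by
  have hp : p.Prime := Fact.out
  have hcardT : Nat.card (((S : Subgroup G) ⊓ L).subgroupOf L) =
      p ^ (Nat.card L).factorization p := by
    rw [card_subgroupOf_of_le inf_le_right]
    exact Cfsg.Agent.Helper3.card_sylow_inf_normal S L
  let P : Sylow p L := Sylow.ofCard _ hcardT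
  have hP : (P : Subgroup L) = ((S : Subgroup G) ⊓ L).subgroupOf L := Sylow.coe_ofCard _ hcardT
  have hfr := Sylow.normalizer_sup_eq_top P
  rw [hP, subgroupOf_map_subtype, inf_assoc, inf_idem] at hfr
  have hnd : ¬ p ∣ ((S : Subgroup G) ⊓ L).relIndex L := by
    have := P.not_dvd_index
    rwa [hP] at this
  -- `L/C` is a `p`-group
  have hquot : IsPGroup p (L ⧸ C.subgroupOf L) := by
    intro q
    obtain ⟨x, rfl⟩ := QuotientGroup.mk_surjective q
    obtain ⟨k, hk⟩ := hpow x.1 x.2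
    refine ⟨k, ?_⟩
    rw [← QuotientGroup.mk_pow, QuotientGroup.eq_one_iff, mem_subgroupOf]
    simpa using hk
  obtain ⟨n, hn⟩ := IsPGroup.iff_card.mp hquot
  have hCrel : C.relIndex L = p ^ n := by
    rw [← hn]
    exact (Subgroup.index_eq_card _)
  have hM1 : (C ⊔ ((S : Subgroup G) ⊓ L)).relIndex L ∣ p ^ n := by
    rw [← hCrel]
    exact relIndex_dvd_of_le_left L le_sup_left
  have hM2 : (C ⊔ ((S : Subgroup G) ⊓ L)).relIndex L ∣ ((S : Subgroup G) ⊓ L).relIndex L :=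
    relIndex_dvd_of_le_left L le_sup_right
  obtain ⟨j, _, hj⟩ := (Nat.dvd_prime_pow hp).mp hM1
  have hj0 : j = 0 := by
    by_contra hne
    apply hnd
    refine dvd_trans ?_ hM2
    rw [hj]
    exact dvd_pow_self p hne
  rw [hj0, pow_zero, relIndex_eq_one] at hj
  rw [eq_top_iff, ← hfr]
  apply sup_le (le_sup_left)
  refine hj.trans (sup_le le_sup_right ?_)
  exact le_normalizer.trans le_sup_left


/-- the hypothesis of `p`-stability on normal `p`-subgroups in quotient-free form -/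
def StabHyp (p : ℕ) (G : Type*) [Group G] : Prop :=
  ∀ (P : Subgroup G), P.Normal → IsPGroup p P → ∃ L : Subgroup G, L.Normal ∧
    centralizer (P : Set G) ≤ L ∧ (∀ x ∈ L, ∃ k : ℕ, x ^ (p ^ k) ∈ centralizer (P : Set G)) ∧
    ∀ a : G, ⁅⁅P, zpowers a⁆, zpowers a⁆ = ⊥ → a ∈ L

/-- weaker form of `StabHyp`: only quadratically acting `p`-subgroups are required to lie in `L` -/
def StabHypSub (p : ℕ) (G : Type*) [Group G] : Prop :=
  ∀ (P : Subgroup G), P.Normal → IsPGroup p P → ∃ L : Subgroup G, L.Normal ∧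
    centralizer (P : Set G) ≤ L ∧ (∀ x ∈ L, ∃ k : ℕ, x ^ (p ^ k) ∈ centralizer (P : Set G)) ∧
    ∀ A : Subgroup G, IsPGroup p A → ⁅⁅P, A⁆, A⁆ = ⊥ → A ≤ L

theorem StabHyp.toSub {p : ℕ} {G : Type*} [Group G] (h : StabHyp p G) : StabHypSub p G := by
  intro P hPn hPp
  obtain ⟨L, hLn, hCL, hLpow, hLq⟩ := h P hPn hPp
  refine ⟨L, hLn, hCL, hLpow, fun A _ hA a ha => hLq a ?_⟩
  rw [eq_bot_iff, ← hA]
  exact commutator_mono (commutator_mono le_rfl (zpowers_le.mpr ha)) (zpowers_le.mpr ha)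

theorem ZJFamily.inf_normal_aux' [Finite G] [Fact p.Prime] (h : ZJFamily p 𝒜) (hst : StabHypSub p G)
    (S : Sylow p G) :
    ∀ n : ℕ, ∀ B : Subgroup G, B.Normal → IsPGroup p B → Nat.card B = n →
      (sInf (𝒜 (S : Subgroup G)) ⊓ B).Normal := by
  intro n
  induction n using Nat.strong_induction_on with
  | _ n ih =>
  intro B hBn hBp hcard
  by_contra hV
  have := hBn
  have hBS : B ≤ S := (Cfsg.Agent.Helper14.le_pCore p hBn hBp).trans
    (Cfsg.Agent.Helper14.pCore_le_sylow p S)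
  have hSW : (S : Subgroup G) ≤ normalizer ((sInf (𝒜 (S : Subgroup G)) : Subgroup G) : Set G) :=
    fun s hs => h.mem_normalizer_sInf (le_normalizer hs)
  have hWle : ∀ A ∈ 𝒜 (S : Subgroup G), sInf (𝒜 (S : Subgroup G)) ≤ A := fun A hA => sInf_le hA
  -- (iii)
  have hB1 : normalClosure ((sInf (𝒜 (S : Subgroup G)) ⊓ B : Subgroup G) : Set G) = B := by
    by_contra hne
    have hle : normalClosure ((sInf (𝒜 (S : Subgroup G)) ⊓ B : Subgroup G) : Set G) ≤ B :=
      normalClosure_le_normal inf_le_right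
    have hlt := lt_of_le_of_ne hle hne
    have hcardlt : Nat.card
        (normalClosure ((sInf (𝒜 (S : Subgroup G)) ⊓ B : Subgroup G) : Set G)) < n := by
      rw [← hcard]
      exact lt_of_not_ge (fun hge => hlt.ne (Subgroup.eq_of_le_of_card_ge hlt.le hge))
    have := ih _ hcardlt _ normalClosure_normal (hBp.to_le hle) rfl
    have e : sInf (𝒜 (S : Subgroup G)) ⊓
        normalClosure ((sInf (𝒜 (S : Subgroup G)) ⊓ B : Subgroup G) : Set G) =
          sInf (𝒜 (S : Subgroup G)) ⊓ B :=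
      le_antisymm (le_inf inf_le_left (inf_le_right.trans hle))
        (le_inf inf_le_left subset_normalClosure)
    rw [e] at this
    exact hV this
  -- (iv)
  have hBne : B ≠ ⊥ := by
    rintro rfl
    apply hV
    rw [inf_bot_eq]
    infer_instance
  have hB'lt : ⁅B, B⁆ < B :=
    Cfsg.Agent.Lead.commutator_lt_of_isPGroup hBp hBp le_normalizer hBne
  have hB'n : (⁅B, B⁆).Normal := inferInstance
  have hcardlt' : Nat.card (⁅B, B⁆ : Subgroup G) < n := by
    rw [← hcard]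
    exact lt_of_not_ge (fun hge => hB'lt.ne (Subgroup.eq_of_le_of_card_ge hB'lt.le hge))
  have hV'n : (sInf (𝒜 (S : Subgroup G)) ⊓ ⁅B, B⁆).Normal :=
    ih _ hcardlt' _ hB'n (hBp.to_le hB'lt.le) rfl
  -- (v)
  have hVB : ⁅sInf (𝒜 (S : Subgroup G)) ⊓ B, B⁆ ≤ sInf (𝒜 (S : Subgroup G)) ⊓ ⁅B, B⁆ := by
    apply le_inf
    · rw [commutator_le]
      intro v hv y hy
      have hyN := hSW (hBS hy)
      have h1 : y * v⁻¹ * y⁻¹ ∈ sInf (𝒜 (S : Subgroup G)) :=
        (mem_normalizer_iff.mp hyN _).mp (inv_mem hv.1)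
      have e : ⁅v, y⁆ = v * (y * v⁻¹ * y⁻¹) := by rw [commutatorElement_def]; group
      rw [e]
      exact mul_mem hv.1 h1
    · exact commutator_mono inf_le_right le_rfl
  -- (vi)
  have hB'W : ⁅B, B⁆ ≤ sInf (𝒜 (S : Subgroup G)) := by
    have := commutator_normalClosure_le (hK := hV'n) hVB
    rw [hB1] at this
    exact this.trans inf_le_left
  -- (viii)
  have hex : ∃ A ∈ 𝒜 (S : Subgroup G), ¬ B ≤ A := by
    by_contra hall
    push Not at hall
    apply hV
    have : B ≤ sInf (𝒜 (S : Subgroup G)) := le_sInf hall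
    rw [inf_eq_right.mpr this]
    exact hBn
  obtain ⟨A, hA, hBA⟩ := hex
  -- (ix)
  obtain ⟨A', hA', hB'A', hBA', hBNA'⟩ := h.repl S B S.isPGroup' hBS
    (by rw [normalizer_eq_top]; exact le_top) A hA (hB'W.trans (hWle A hA)) hBA
  -- (x), (xi)
  obtain ⟨L, hLn, hCL, hLpow, hLq⟩ := hst B hBn hBp
  have hA'L : A' ≤ L := by
    apply hLq A' (S.isPGroup'.to_le (h.le _ _ hA'))
    rw [eq_bot_iff]
    have h1 : ⁅B, A'⁆ ≤ A' := by
      rw [commutator_le]
      intro y hy z hzA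
      have hyN := hBNA' hy
      have h2 : y * z * y⁻¹ ∈ A' := (mem_normalizer_iff.mp hyN z).mp hzA
      rw [commutatorElement_def]
      exact mul_mem h2 (inv_mem hzA)
    refine (commutator_mono h1 le_rfl).trans ?_
    rw [commutator_le]
    intro x hx y hy
    rw [commutatorElement_eq_one_iff_mul_comm.mpr (h.comm _ A' hA' x hx y hy)]
    exact one_mem _
  -- (xii)
  have := hLn
  have hA'T : A' ≤ (S : Subgroup G) ⊓ L := le_inf (h.le _ _ hA') hA'L
  obtain ⟨hA'memT, hsub⟩ := h.restrict S ((S : Subgroup G) ⊓ L) A' hA' hA'T inf_le_left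
  have hfr := normalizer_sylow_inf_sup_eq_top S L (centralizer (B : Set G)) hCL hLpow
  have hXn : (sInf (𝒜 ((S : Subgroup G) ⊓ L)) ⊓ B).Normal := by
    rw [← normalizer_eq_top_iff, eq_top_iff, ← hfr]
    apply sup_le
    · intro g hg
      have h1 := h.mem_normalizer_sInf hg
      apply mem_normalizer_of_map_conj_le
      rintro _ ⟨x, hx, rfl⟩
      simp only [MulEquiv.coe_toMonoidHom, MulAut.conj_apply]
      exact ⟨(mem_normalizer_iff.mp h1 x).mp hx.1, hBn.conj_mem x hx.2 g⟩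
    · intro c hc
      apply mem_normalizer_of_map_conj_le
      rintro _ ⟨x, hx, rfl⟩
      simp only [MulEquiv.coe_toMonoidHom, MulAut.conj_apply]
      have h1 : x * c = c * x := (mem_centralizer_iff.mp hc) x hx.2
      have e : c * x * c⁻¹ = x := by rw [← h1, mul_inv_cancel_right]
      rw [e]
      exact hx
  have hVX : sInf (𝒜 (S : Subgroup G)) ⊓ B ≤ sInf (𝒜 ((S : Subgroup G) ⊓ L)) ⊓ B :=
    le_inf (inf_le_left.trans (sInf_le_sInf hsub)) inf_le_right
  have hBX : B ≤ sInf (𝒜 ((S : Subgroup G) ⊓ L)) ⊓ B := by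
    have := normalClosure_le_normal (N := sInf (𝒜 ((S : Subgroup G) ⊓ L)) ⊓ B) hVX
    rwa [hB1] at this
  exact hBA' ((hBX.trans inf_le_left).trans (sInf_le hA'memT))

theorem ZJFamily.sInf_le_pCore' [Finite G] [Fact p.Prime] (h : ZJFamily p 𝒜) (hst : StabHypSub p G)
    (hc : centralizer (pCore p G : Set G) ≤ pCore p G) (S : Sylow p G) :
    sInf (𝒜 (S : Subgroup G)) ≤ pCore p G := by
  obtain ⟨L, hLn, hCL, hLpow, hLq⟩ := hst (pCore p G) inferInstance
    (Cfsg.Agent.Helper14.pCore_isPGroup p)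
  have hLp : IsPGroup p L := by
    intro x
    obtain ⟨k, hk⟩ := hLpow x.1 x.2
    obtain ⟨m, hm⟩ := (Cfsg.Agent.Helper14.pCore_isPGroup (G := G) p) ⟨_, hc hk⟩
    refine ⟨k + m, ?_⟩
    apply Subtype.ext
    have h2 := congrArg Subtype.val hm
    simp only [SubmonoidClass.coe_pow, OneMemClass.coe_one] at h2 ⊢
    rw [pow_add, pow_mul]
    exact h2
  have hLQ : L ≤ pCore p G := Cfsg.Agent.Helper14.le_pCore p hLn hLp
  have hSW : (S : Subgroup G) ≤ normalizer ((sInf (𝒜 (S : Subgroup G)) : Subgroup G) : Set G) :=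
    fun s hs => h.mem_normalizer_sInf (le_normalizer hs)
  obtain ⟨A₀, hA₀⟩ := h.nonempty (S : Subgroup G)
  have hle0 : sInf (𝒜 (S : Subgroup G)) ≤ A₀ := sInf_le hA₀
  refine (hLq (sInf (𝒜 (S : Subgroup G)))
    (S.isPGroup'.to_le (hle0.trans (h.le _ _ hA₀))) ?_).trans hLQ
  rw [eq_bot_iff]
  have h1 : ⁅pCore p G, sInf (𝒜 (S : Subgroup G))⁆ ≤ sInf (𝒜 (S : Subgroup G)) := by
    rw [commutator_le]
    intro y hy z hzW
    have hyN := hSW (Cfsg.Agent.Helper14.pCore_le_sylow p S hy)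
    have h2 : y * z * y⁻¹ ∈ sInf (𝒜 (S : Subgroup G)) := (mem_normalizer_iff.mp hyN z).mp hzW
    rw [commutatorElement_def]
    exact mul_mem h2 (inv_mem hzW)
  refine (commutator_mono h1 le_rfl).trans ?_
  rw [commutator_le]
  intro x hx y hy
  have hle : sInf (𝒜 (S : Subgroup G)) ≤ A₀ := sInf_le hA₀
  rw [commutatorElement_eq_one_iff_mul_comm.mpr (h.comm _ A₀ hA₀ x (hle hx) y (hle hy))]
  exact one_mem _

/-- Generic ZJ-theorem. -/
theorem ZJFamily.normal_sInf' [Finite G] [Fact p.Prime] (h : ZJFamily p 𝒜) (hst : StabHypSub p G)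
    (hc : centralizer (pCore p G : Set G) ≤ pCore p G) (S : Sylow p G) :
    (sInf (𝒜 (S : Subgroup G))).Normal := by
  have := h.inf_normal_aux' hst S _ (pCore p G) inferInstance
    (Cfsg.Agent.Helper14.pCore_isPGroup p) rfl
  rwa [inf_eq_left.mpr (h.sInf_le_pCore' hst hc S)] at this

/-- Generic ZJ-theorem, characteristic form. -/
theorem ZJFamily.characteristic_sInf' [Finite G] [Fact p.Prime] (h : ZJFamily p 𝒜)
    (hst : StabHypSub p G) (hc : centralizer (pCore p G : Set G) ≤ pCore p G) (S : Sylow p G) :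
    (sInf (𝒜 (S : Subgroup G))).Characteristic := by
  have hn := h.normal_sInf' hst hc S
  rw [characteristic_iff_map_le]
  intro φ
  rw [h.map_sInf]
  -- `S.map φ` is a Sylow subgroup, conjugate to `S`
  obtain ⟨g, hg⟩ := MulAction.exists_smul_eq G S (φ • S)
  have hS' : (S : Subgroup G).map φ.toMonoidHom = (S : Subgroup G).map (MulAut.conj g).toMonoidHom := by
    have h1 : ((φ • S : Sylow p G) : Subgroup G) = (S : Subgroup G).map φ.toMonoidHom := rfl
    have h2 : ((g • S : Sylow p G) : Subgroup G) = (S : Subgroup G).map (MulAut.conj g).toMonoidHom := rfl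
    rw [← h1, ← h2, hg]
  rw [hS', ← h.map_sInf]
  rintro _ ⟨x, hx, rfl⟩
  simp only [MulEquiv.coe_toMonoidHom, MulAut.conj_apply]
  exact hn.conj_mem x hx g


theorem ZJFamily.inf_normal_aux [Finite G] [Fact p.Prime] (h : ZJFamily p 𝒜) (hst : StabHyp p G)
    (S : Sylow p G) :
    ∀ n : ℕ, ∀ B : Subgroup G, B.Normal → IsPGroup p B → Nat.card B = n →
      (sInf (𝒜 (S : Subgroup G)) ⊓ B).Normal :=
  h.inf_normal_aux' hst.toSub S

theorem ZJFamily.sInf_le_pCore [Finite G] [Fact p.Prime] (h : ZJFamily p 𝒜) (hst : StabHyp p G)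
    (hc : centralizer (pCore p G : Set G) ≤ pCore p G) (S : Sylow p G) :
    sInf (𝒜 (S : Subgroup G)) ≤ pCore p G :=
  h.sInf_le_pCore' hst.toSub hc S

/-- Generic ZJ-theorem. -/
theorem ZJFamily.normal_sInf [Finite G] [Fact p.Prime] (h : ZJFamily p 𝒜) (hst : StabHyp p G)
    (hc : centralizer (pCore p G : Set G) ≤ pCore p G) (S : Sylow p G) :
    (sInf (𝒜 (S : Subgroup G))).Normal :=
  h.normal_sInf' hst.toSub hc S

/-- Generic ZJ-theorem, characteristic form. -/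
theorem ZJFamily.characteristic_sInf [Finite G] [Fact p.Prime] (h : ZJFamily p 𝒜)
    (hst : StabHyp p G) (hc : centralizer (pCore p G : Set G) ≤ pCore p G) (S : Sylow p G) :
    (sInf (𝒜 (S : Subgroup G))).Characteristic :=
  h.characteristic_sInf' hst.toSub hc S

end Cfsg.Agent.Helper26
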