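import Mathlib
import Cfsg.Agent.Helper26.ZJ

set_option autoImplicit false

namespace Cfsg.Agent.Helper26

open Subgroup
open scoped commutatorElement

section repl

variable {S : Type*} [Group S]

theorem replacement_famEl' [Finite S] {p : ℕ} [Fact p.Prime] (hS : IsPGroup p S) (hp : p ≠ 2)
    (e : ℕ) (he : e = 0 ∨ Odd e)
    (D : Subgroup S) [D.Normal] (B : Subgroup S) [B.Normal] (U : Subgroup S) (hU : U ∈ famEl e D)
    (hBU : ⁅B, B⁆ ≤ U) (hnB : ¬ B ≤ U) :
    ∃ A ∈ famEl e D, ⁅B, B⁆ ≤ A ∧ ¬ B ≤ A ∧ B ≤ normalizer (A : Set S) := by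
  refine replacement_family hS hp (famEl e D) (fun A hA => hA.2.1.1) ?_ B U hU hBU hnB
  intro A hA b A' hA'c hcard hle hexp
  refine ⟨hle.trans (sup_le hA.1 (conjSub_le_of_normal hA.1 b)), ⟨hA'c, ?_⟩, ?_⟩
  · rcases he with he | he
    · intro x _
      rw [he, pow_zero]
    · exact hexp e he hA.2.1.2
  · intro Y hY hYc
    rw [hcard]
    exact hA.2.2 Y hY hYc

end repl

variable {G : Type*} [Group G]

theorem card_map_mulEquiv (φ : G ≃* G) (X : Subgroup G) :
    Nat.card (X.map φ.toMonoidHom) = Nat.card X :=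
  Nat.card_congr (X.equivMapOfInjective _ φ.injective).symm.toEquiv

theorem mem_famEl_of_commute [Finite G] {e : ℕ} {T A : Subgroup G} (hA : A ∈ famEl e T) {x : G}
    (hxT : x ∈ T) (hxe : x ^ e = 1) (hc : ∀ a ∈ A, a * x = x * a) : x ∈ A := by
  have hY : Cfsg.IsElementaryAbelian e (closure ((A : Set G) ∪ {x})) := by
    apply isElementaryAbelian_closure
    · rintro a (ha | ha) b (hb | hb)
      · exact hA.2.1.1 a ha b hb
      · rw [Set.mem_singleton_iff] at hb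
        rw [hb]
        exact hc a ha
      · rw [Set.mem_singleton_iff] at ha
        rw [ha]
        exact (hc b hb).symm
      · rw [Set.mem_singleton_iff] at ha hb
        rw [ha, hb]
    · rintro a (ha | ha)
      · exact hA.2.1.2 a ha
      · rw [Set.mem_singleton_iff] at ha
        rw [ha]
        exact hxe
  have hYT : closure ((A : Set G) ∪ {x}) ≤ T := by
    rw [closure_le]
    rintro a (ha | ha)
    · exact hA.1 ha
    · rw [Set.mem_singleton_iff] at ha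
      rw [ha]
      exact hxT
  have hcard := hA.2.2 _ hYT (isElementaryAbelian_iff_forall.mp hY)
  have hle : A ≤ closure ((A : Set G) ∪ {x}) := fun a ha => subset_closure (Or.inl ha)
  have heq := Subgroup.eq_of_le_of_card_ge hle hcard
  rw [heq]
  exact subset_closure (Or.inr rfl)

theorem famEl_nonempty [Finite G] (e : ℕ) (T : Subgroup G) : (famEl e T).Nonempty := by
  classical
  let C : Set (Subgroup G) :=
    {X | X ≤ T ∧ ((∀ x ∈ X, ∀ y ∈ X, x * y = y * x) ∧ ∀ x ∈ X, x ^ e = 1)}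
  have hC : C.Nonempty := by
    refine ⟨⊥, bot_le, ?_, ?_⟩
    · intro x hx y hy
      rw [mem_bot] at hx hy
      rw [hx, hy]
    · intro x hx
      rw [mem_bot] at hx
      rw [hx, one_pow]
  obtain ⟨X, hX, hmax⟩ := Set.exists_max_image C (fun X => Nat.card X) (Set.toFinite C) hC
  exact ⟨X, hX.1, hX.2, fun Y hY hYc => hmax Y ⟨hY, hYc⟩⟩

theorem famEl_equiv {e : ℕ} (φ : G ≃* G) {T X : Subgroup G} (hX : X ∈ famEl e T) :
    X.map φ.toMonoidHom ∈ famEl e (T.map φ.toMonoidHom) := by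
  refine ⟨map_mono hX.1, ⟨?_, ?_⟩, ?_⟩
  · rintro _ ⟨a, ha, rfl⟩ _ ⟨b, hb, rfl⟩
    rw [← map_mul, ← map_mul, hX.2.1.1 a ha b hb]
  · rintro _ ⟨a, ha, rfl⟩
    rw [← map_pow, hX.2.1.2 a ha, map_one]
  · intro Y hY hYc
    have h1 : Y.map φ.symm.toMonoidHom ≤ T := by
      have := map_mono (f := φ.symm.toMonoidHom) hY
      rwa [map_map_symm] at this
    have h2 : (∀ x ∈ Y.map φ.symm.toMonoidHom, ∀ y ∈ Y.map φ.symm.toMonoidHom, x * y = y * x) ∧
        ∀ x ∈ Y.map φ.symm.toMonoidHom, x ^ e = 1 := by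
      constructor
      · rintro _ ⟨a, ha, rfl⟩ _ ⟨b, hb, rfl⟩
        rw [← map_mul, ← map_mul, hYc.1 a ha b hb]
      · rintro _ ⟨a, ha, rfl⟩
        rw [← map_pow, hYc.2 a ha, map_one]
    have := hX.2.2 _ h1 h2
    rw [card_map_mulEquiv] at this
    rw [card_map_mulEquiv]
    exact this

theorem famEl_restrict {e : ℕ} {S T A : Subgroup G} (hA : A ∈ famEl e S) (hAT : A ≤ T)
    (hTS : T ≤ S) : A ∈ famEl e T ∧ famEl e T ⊆ famEl e S := by
  have h1 : A ∈ famEl e T := ⟨hAT, hA.2.1, fun Y hY hYc => hA.2.2 Y (hY.trans hTS) hYc⟩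
  refine ⟨h1, ?_⟩
  intro X hX
  refine ⟨hX.1.trans hTS, hX.2.1, fun Y hY hYc => ?_⟩
  exact (hA.2.2 Y hY hYc).trans (hX.2.2 A hAT hA.2.1)

theorem famEl_repl [Finite G] {p : ℕ} [Fact p.Prime] (hp : p ≠ 2) (e : ℕ) (he : e = 0 ∨ Odd e)
    (S B : Subgroup G) (hS : IsPGroup p S) (hBS : B ≤ S) (hSB : S ≤ normalizer (B : Set G))
    (A : Subgroup G) (hA : A ∈ famEl e S) (hBA : ⁅B, B⁆ ≤ A) (hnBA : ¬ B ≤ A) :
    ∃ A' ∈ famEl e S, ⁅B, B⁆ ≤ A' ∧ ¬ B ≤ A' ∧ B ≤ normalizer (A' : Set G) := by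
  have hB₀n : (B.subgroupOf S).Normal := (normal_subgroupOf_iff_le_normalizer hBS).mpr hSB
  have hcomm_eq : (⁅B.subgroupOf S, B.subgroupOf S⁆).map S.subtype = ⁅B, B⁆ := by
    rw [map_commutator, subgroupOf_map_subtype, inf_eq_left.mpr hBS]
  have hA₀ : A.subgroupOf S ∈ famEl e (⊤ : Subgroup S) := by
    refine ⟨le_top, ⟨comm_subgroupOf hA.2.1.1, ?_⟩, ?_⟩
    · intro x hx
      apply Subtype.ext
      rw [SubmonoidClass.coe_pow, OneMemClass.coe_one]
      exact hA.2.1.2 x.1 (mem_subgroupOf.mp hx)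
    · intro Y _ hYc
      have h1 : (∀ x ∈ Y.map S.subtype, ∀ y ∈ Y.map S.subtype, x * y = y * x) ∧
          ∀ x ∈ Y.map S.subtype, x ^ e = 1 := by
        refine ⟨comm_map_subtype hYc.1, ?_⟩
        rintro _ ⟨y, hy, rfl⟩
        have := congrArg Subtype.val (hYc.2 y hy)
        simpa using this
      have := hA.2.2 _ (map_subtype_le Y) h1
      rw [card_map_subtype] at this
      rw [card_subgroupOf_of_le hA.1]
      exact this
  have h1 : ⁅B.subgroupOf S, B.subgroupOf S⁆ ≤ A.subgroupOf S := by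
    intro x hx
    rw [mem_subgroupOf]
    apply hBA
    rw [← hcomm_eq]
    exact ⟨x, hx, rfl⟩
  have h2 : ¬ B.subgroupOf S ≤ A.subgroupOf S := by
    intro hle
    apply hnBA
    intro b hb
    have : (⟨b, hBS hb⟩ : S) ∈ A.subgroupOf S := hle (mem_subgroupOf.mpr hb)
    exact mem_subgroupOf.mp this
  obtain ⟨A₁, hA₁, hBA₁, hnBA₁, hNA₁⟩ := replacement_famEl' hS hp e he (⊤ : Subgroup S)
    (B.subgroupOf S) (A.subgroupOf S) hA₀ h1 h2
  refine ⟨A₁.map S.subtype, ?_, ?_, ?_, ?_⟩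
  · refine ⟨map_subtype_le A₁, ⟨comm_map_subtype hA₁.2.1.1, ?_⟩, ?_⟩
    · rintro _ ⟨y, hy, rfl⟩
      have := congrArg Subtype.val (hA₁.2.1.2 y hy)
      simpa using this
    · intro Y hY hYc
      have h3 : (∀ x ∈ Y.subgroupOf S, ∀ y ∈ Y.subgroupOf S, x * y = y * x) ∧
          ∀ x ∈ Y.subgroupOf S, x ^ e = 1 := by
        refine ⟨comm_subgroupOf hYc.1, ?_⟩
        intro x hx
        apply Subtype.ext
        rw [SubmonoidClass.coe_pow, OneMemClass.coe_one]
        exact hYc.2 x.1 (mem_subgroupOf.mp hx)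
      have := hA₁.2.2 _ le_top h3
      rw [card_subgroupOf_of_le hY] at this
      rw [card_map_subtype]
      exact this
  · rw [← hcomm_eq]
    exact map_mono hBA₁
  · intro hle
    apply hnBA₁
    intro x hx
    obtain ⟨y, hy, hyx⟩ := hle (mem_subgroupOf.mp hx)
    have : y = x := Subtype.ext hyx
    rwa [← this]
  · intro b hb
    have hbN : (⟨b, hBS hb⟩ : S) ∈ normalizer (A₁ : Set S) := hNA₁ (mem_subgroupOf.mpr hb)
    apply mem_normalizer_of_map_conj_le
    rintro _ ⟨_, ⟨y, hy, rfl⟩, rfl⟩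
    have h3 := (mem_normalizer_iff.mp hbN y).mp hy
    refine ⟨_, h3, ?_⟩
    simp [MulAut.conj_apply]

theorem zjFamily_famEl [Finite G] {p : ℕ} [Fact p.Prime] (hp : p ≠ 2) (e : ℕ)
    (he : e = 0 ∨ Odd e) : ZJFamily p (fun T : Subgroup G => famEl e T) where
  le := fun _ _ hA => hA.1
  comm := fun _ _ hA => hA.2.1.1
  nonempty := fun T => famEl_nonempty e T
  equiv := fun φ _ _ hA => famEl_equiv φ hA
  restrict := fun _ _ _ hA hAT hTS => famEl_restrict hA hAT hTS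
  repl := fun S B hS hBS hSB A hA hBA hnBA => famEl_repl hp e he S B hS hBS hSB A hA hBA hnBA

theorem stabHyp_of_isPStableOn {p : ℕ} [Fact p.Prime]
    (hst : ∀ (P : Subgroup G) [P.Normal], IsPGroup p P → Cfsg.IsPStableOn p P) : StabHyp p G := by
  intro P hPn hPp
  have := hPn
  refine ⟨(Cfsg.pCore p (G ⧸ centralizer (P : Set G))).comap
    (QuotientGroup.mk' (centralizer (P : Set G))), ?_, ?_, ?_, ?_⟩
  · exact Subgroup.Normal.comap (Cfsg.Agent.Helper14.pCore_normal p) _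
  · intro c hc
    rw [mem_comap]
    have : (QuotientGroup.mk' (centralizer (P : Set G))) c = 1 :=
      (QuotientGroup.eq_one_iff c).mpr hc
    rw [this]
    exact one_mem _
  · intro x hx
    rw [mem_comap] at hx
    obtain ⟨k, hk⟩ := (Cfsg.Agent.Helper14.pCore_isPGroup p) ⟨_, hx⟩
    refine ⟨k, ?_⟩
    have h2 := congrArg Subtype.val hk
    simp only [SubmonoidClass.coe_pow, OneMemClass.coe_one] at h2
    rw [← map_pow, QuotientGroup.mk'_apply, QuotientGroup.eq_one_iff] at h2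
    exact h2
  · intro a ha
    exact hst P hPp a ha


theorem famAb_eq_famEl_zero (T : Subgroup G) : famAb T = famEl 0 T := by
  ext X
  constructor
  · rintro ⟨h1, h2, h3⟩
    exact ⟨h1, ⟨h2, fun _ _ => pow_zero _⟩, fun Y hY hYc => h3 Y hY hYc.1⟩
  · rintro ⟨h1, h2, h3⟩
    exact ⟨h1, h2.1, fun Y hY hYc => h3 Y hY ⟨hYc, fun _ _ => pow_zero _⟩⟩

theorem thompsonSubgroupAOf_eq (T : Subgroup G) :
    Cfsg.thompsonSubgroupAOf T = sSup (famEl 0 T) := by
  unfold Cfsg.thompsonSubgroupAOf Cfsg.thompsonSubgroupA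
  rw [← famAb_eq_famEl_zero, ← image_maxAbelian_eq, sSup_image]
  exact (Subgroup.gc_map_comap T.subtype).l_sSup

theorem mem_sInf_famEl_of_mem [Finite G] {e : ℕ} {T : Subgroup G} {x : G}
    (h1 : x ∈ sSup (famEl e T)) (h2 : x ∈ centralizer ((sSup (famEl e T) : Subgroup G) : Set G))
    (h3 : x ^ e = 1) : x ∈ sInf (famEl e T) := by
  rw [mem_sInf]
  intro A hA
  have hJT : sSup (famEl e T) ≤ T := sSup_le (fun A hA => hA.1)
  apply mem_famEl_of_commute hA (hJT h1) h3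
  intro a ha
  exact (mem_centralizer_iff.mp h2) a (le_sSup hA ha)

theorem mem_of_mem_sInf_famEl [Finite G] {e : ℕ} {T : Subgroup G} {x : G}
    (hx : x ∈ sInf (famEl e T)) :
    x ∈ sSup (famEl e T) ∧ x ∈ centralizer ((sSup (famEl e T) : Subgroup G) : Set G) ∧
      x ^ e = 1 := by
  rw [mem_sInf] at hx
  obtain ⟨A₀, hA₀⟩ := famEl_nonempty e T
  refine ⟨le_sSup hA₀ (hx A₀ hA₀), ?_, hA₀.2.1.2 x (hx A₀ hA₀)⟩
  have hle : sSup (famEl e T) ≤ centralizer ({x} : Set G) := by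
    apply sSup_le
    intro A hA a ha
    rw [mem_centralizer_iff]
    intro z hz
    rw [Set.mem_singleton_iff] at hz
    rw [hz]
    exact hA.2.1.1 x (hx A hA) a ha
  rw [mem_centralizer_iff]
  intro y hy
  exact ((mem_centralizer_iff.mp (hle hy)) x rfl).symm

theorem centerThompsonAOf_eq [Finite G] (T : Subgroup G) :
    Cfsg.centerThompsonAOf T = sInf (famEl 0 T) := by
  unfold Cfsg.centerThompsonAOf
  rw [thompsonSubgroupAOf_eq]
  ext x
  constructor
  · rintro ⟨h1, h2⟩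
    exact mem_sInf_famEl_of_mem h1 h2 (pow_zero x)
  · intro hx
    obtain ⟨h1, h2, _⟩ := mem_of_mem_sInf_famEl hx
    exact ⟨h1, h2⟩

theorem omegaCenterThompson_map_eq [Finite G] (p : ℕ) (T : Subgroup G) :
    (Cfsg.omegaCenterThompson p T).map T.subtype = sInf (famEl p T) := by
  apply le_antisymm
  · rw [map_le_iff_le_comap]
    unfold Cfsg.omegaCenterThompson Cfsg.omegaOne
    rw [closure_le]
    rintro x ⟨⟨hx1, hx2⟩, hxp⟩
    rw [SetLike.mem_coe, mem_comap, mem_sInf]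
    intro A hA
    rw [← image_maxElementaryAbelian_eq] at hA
    obtain ⟨A₁, hA₁, rfl⟩ := hA
    refine ⟨x, ?_, rfl⟩
    apply mem_of_mem_maxElementaryAbelianSubgroups_of_commute hA₁ hxp
    intro a ha
    exact (mem_centralizer_iff.mp hx2) a (le_sSup hA₁ ha)
  · intro y hy
    have hy' := hy
    rw [mem_sInf] at hy'
    obtain ⟨A₀, hA₀⟩ := famEl_nonempty p T
    have hyT : y ∈ T := hA₀.1 (hy' A₀ hA₀)
    have hyp : y ^ p = 1 := hA₀.2.1.2 y (hy' A₀ hA₀)
    have hmem : ∀ A₁ ∈ Cfsg.maxElementaryAbelianSubgroups p T, (⟨y, hyT⟩ : T) ∈ A₁ := by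
      intro A₁ hA₁
      have h1 : A₁.map T.subtype ∈ famEl p T := by
        rw [← image_maxElementaryAbelian_eq]
        exact ⟨A₁, hA₁, rfl⟩
      obtain ⟨x', hx', hx'y⟩ := hy' _ h1
      have : x' = ⟨y, hyT⟩ := Subtype.ext hx'y
      rwa [← this]
    refine ⟨⟨y, hyT⟩, ?_, rfl⟩
    unfold Cfsg.omegaCenterThompson Cfsg.omegaOne
    apply Subgroup.subset_closure
    refine ⟨⟨?_, ?_⟩, ?_⟩
    · have h0 := hA₀
      rw [← image_maxElementaryAbelian_eq] at h0
      obtain ⟨A₁, hA₁, _⟩ := h0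
      exact le_sSup hA₁ (hmem A₁ hA₁)
    · have hle : Cfsg.thompsonSubgroup p T ≤ centralizer ({(⟨y, hyT⟩ : T)} : Set T) := by
        apply sSup_le
        intro A₁ hA₁ a ha
        rw [mem_centralizer_iff]
        intro z hz
        rw [Set.mem_singleton_iff] at hz
        rw [hz]
        exact congrArg Subtype.val (congrArg Subtype.val
          (hA₁.1.1.is_comm.comm ⟨⟨y, hyT⟩, hmem A₁ hA₁⟩ ⟨a, ha⟩)) |> fun h => Subtype.ext h
      show (⟨y, hyT⟩ : T) ∈ centralizer ((Cfsg.thompsonSubgroup p T : Subgroup T) : Set T)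
      rw [mem_centralizer_iff]
      intro z hz
      exact ((mem_centralizer_iff.mp (hle hz)) _ rfl).symm
    · apply Subtype.ext
      rw [SubmonoidClass.coe_pow, OneMemClass.coe_one]
      exact hyp

end Cfsg.Agent.Helper26
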