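import Mathlib
import Cfsg.Agent.Helper26.Basic

set_option autoImplicit false

namespace Cfsg.Agent.Helper26

open scoped Pointwise

variable {G : Type*} [Group G]

theorem mem_map_conj_iff {H : Subgroup G} {g y : G} :
    y ∈ H.map (MulAut.conj g).toMonoidHom ↔ g⁻¹ * y * g ∈ H := by
  constructor
  · rintro ⟨x, hx, rfl⟩
    have : g⁻¹ * ((MulAut.conj g).toMonoidHom x) * g = x := by
      simp [MulAut.conj_apply]; group
    rwa [this]
  · intro h
    refine ⟨g⁻¹ * y * g, h, ?_⟩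
    simp [MulAut.conj_apply]; group

theorem mem_sylow_smul_iff {p : ℕ} {P : Sylow p G} {g y : G} :
    y ∈ ((g • P : Sylow p G) : Subgroup G) ↔ g⁻¹ * y * g ∈ (P : Subgroup G) := by
  rw [Sylow.coe_subgroup_smul, Subgroup.mem_pointwise_smul_iff_inv_smul_mem]
  simp [MulAut.smul_def]

theorem card_map_conj (H : Subgroup G) (g : G) :
    Nat.card (H.map (MulAut.conj g).toMonoidHom) = Nat.card H :=
  Nat.card_congr ((MulAut.conj g).subgroupMap H).symm.toEquiv

/-- Two `p`-subgroups of a finite subgroup `C`: after conjugating the second by an element of `C` both lie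
in one conjugate of a given Sylow `p`-subgroup of `G`. -/
theorem exists_conj_le_sylow_pair [Finite G] {p : ℕ} [Fact p.Prime] (P : Sylow p G) {C A B : Subgroup G}
    (hA : A ≤ C) (hB : B ≤ C) (hAp : IsPGroup p A) (hBp : IsPGroup p B) :
    ∃ c ∈ C, ∃ h : G, A ≤ ((h • P : Sylow p G) : Subgroup G) ∧
      B.map (MulAut.conj c).toMonoidHom ≤ ((h • P : Sylow p G) : Subgroup G) := by
  have hA'p : IsPGroup p (A.subgroupOf C) := hAp.comap_of_injective C.subtype C.subtype_injective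
  have hB'p : IsPGroup p (B.subgroupOf C) := hBp.comap_of_injective C.subtype C.subtype_injective
  obtain ⟨R₁, hR₁⟩ := hA'p.exists_le_sylow
  obtain ⟨R₂, hR₂⟩ := hB'p.exists_le_sylow
  obtain ⟨c, hc⟩ := MulAction.exists_smul_eq C R₂ R₁
  -- R₁ mapped to G is a p-group, inside some Sylow of G
  have hR₁p : IsPGroup p ((R₁ : Subgroup C).map C.subtype) := R₁.isPGroup'.map _
  obtain ⟨T, hT⟩ := hR₁p.exists_le_sylow
  obtain ⟨h, hh⟩ := MulAction.exists_smul_eq G P T
  refine ⟨c, c.2, h, ?_, ?_⟩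
  · intro a ha
    rw [hh]
    exact hT ⟨⟨a, hA ha⟩, hR₁ (Subgroup.mem_subgroupOf.mpr ha), rfl⟩
  · rintro _ ⟨b, hb, rfl⟩
    rw [hh]
    apply hT
    refine ⟨c * ⟨b, hB hb⟩ * c⁻¹, ?_, by simp [MulAut.conj_apply]⟩
    rw [← hc]
    show c * ⟨b, hB hb⟩ * c⁻¹ ∈ ((c • R₂ : Sylow p C) : Subgroup C)
    rw [mem_sylow_smul_iff]
    have : c⁻¹ * (c * ⟨b, hB hb⟩ * c⁻¹) * c = ⟨b, hB hb⟩ := by group
    rw [this]
    exact hR₂ (Subgroup.mem_subgroupOf.mpr hb)

end Cfsg.Agent.Helper26
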