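import Mathlib
import Cfsg.Agent.Helper26.Thompson
import Cfsg.Agent.Helper26.SylowConj

set_option autoImplicit false

/-! Control of fusion by `N(J(P))` inside a subgroup containing `J(P)` and a conjugate of it. -/

namespace Cfsg.Agent.Helper26

variable {G : Type*} [Group G]

theorem thompsonSubgroupOf_le (p : ℕ) (P : Subgroup G) : Cfsg.thompsonSubgroupOf p P ≤ P := by
  unfold Cfsg.thompsonSubgroupOf; exact Subgroup.map_subtype_le _

/-- If `J = J(P)` and `g J g⁻¹` both lie in a subgroup `C`, then `c * g` normalizes `J` for some `c ∈ C`. -/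
theorem exists_mul_mem_normalizer_thompson [Finite G] {p : ℕ} [Fact p.Prime] (P : Sylow p G)
    {C : Subgroup G} (g : G) (hJC : Cfsg.thompsonSubgroupOf p (P : Subgroup G) ≤ C)
    (hBC : (Cfsg.thompsonSubgroupOf p (P : Subgroup G)).map (MulAut.conj g).toMonoidHom ≤ C) :
    ∃ c ∈ C, c * g ∈ Subgroup.normalizer (Cfsg.thompsonSubgroupOf p (P : Subgroup G) : Set G) := by
  have hJP := thompsonSubgroupOf_le p (P : Subgroup G)
  have hJp : IsPGroup p (Cfsg.thompsonSubgroupOf p (P : Subgroup G)) := P.isPGroup'.to_le hJP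
  have hBp : IsPGroup p ((Cfsg.thompsonSubgroupOf p (P : Subgroup G)).map (MulAut.conj g).toMonoidHom) :=
    hJp.map _
  obtain ⟨c, hc, h, hA, hB⟩ := exists_conj_le_sylow_pair P hJC hBC hJp hBp
  have h1 : (Cfsg.thompsonSubgroupOf p (P : Subgroup G)).map (MulAut.conj h⁻¹).toMonoidHom ≤ P := by
    rintro _ ⟨j, hj, rfl⟩
    have := hA hj
    rw [mem_sylow_smul_iff] at this
    simpa [MulAut.conj_apply] using this
  have h2 : (Cfsg.thompsonSubgroupOf p (P : Subgroup G)).map (MulAut.conj (h⁻¹ * (c * g))).toMonoidHom ≤ P := by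
    rintro _ ⟨j, hj, rfl⟩
    have : (MulAut.conj c).toMonoidHom ((MulAut.conj g).toMonoidHom j) ∈
        ((h • P : Sylow p G) : Subgroup G) := hB ⟨_, ⟨j, hj, rfl⟩, rfl⟩
    rw [mem_sylow_smul_iff] at this
    simp only [MulEquiv.coe_toMonoidHom, MulAut.conj_apply] at this ⊢
    convert this using 1
    group
  have e1 := thompsonSubgroupOf_map_conj_eq (P : Subgroup G) _ h1
  have e2 := thompsonSubgroupOf_map_conj_eq (P : Subgroup G) _ h2
  refine ⟨c, hc, ?_⟩
  rw [Subgroup.mem_normalizer_iff_map_conj_eq]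
  have e3 : ((Cfsg.thompsonSubgroupOf p (P : Subgroup G)).map (MulAut.conj (c * g)).toMonoidHom).map
      (MulAut.conj h⁻¹).toMonoidHom =
      (Cfsg.thompsonSubgroupOf p (P : Subgroup G)).map (MulAut.conj h⁻¹).toMonoidHom := by
    rw [e1, Subgroup.map_map, ← e2]
    congr 1
    ext t
    simp [MulAut.conj_apply, mul_assoc]
  exact Subgroup.map_injective (MulAut.conj h⁻¹).injective e3

end Cfsg.Agent.Helper26
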