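import Mathlib

set_option autoImplicit false
set_option linter.unusedSectionVars false
set_option linter.unusedVariables false
set_option linter.style.haveILetI false

/-! # Finite subgroups of `GL₂(K)`, `char K = p` odd: centralizers of semisimple elements,
Burnside transfer, and the consequence that a finite linear group of degree two generated by
`p`-elements with abelian Sylow `2`-subgroups is a `p`-group. -/

namespace Cfsg.Agent.Helper26

open Matrix

section Mat2

variable {K : Type*} [Field K]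

/-- The commutant of a non-scalar `2 × 2` matrix `z` is `K[z]`. -/
theorem mat2_commutant (z w : Matrix (Fin 2) (Fin 2) K)
    (hz : ¬ ∃ c : K, z = c • (1 : Matrix (Fin 2) (Fin 2) K)) (h : w * z = z * w) :
    ∃ α β : K, w = α • (1 : Matrix (Fin 2) (Fin 2) K) + β • z := by
  have e00 := congrFun (congrFun h 0) 0
  have e01 := congrFun (congrFun h 0) 1
  have e10 := congrFun (congrFun h 1) 0
  have e11 := congrFun (congrFun h 1) 1
  simp only [Matrix.mul_apply, Fin.sum_univ_two] at e00 e01 e10 e11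
  by_cases hb : z 0 1 = 0
  · by_cases hc : z 1 0 = 0
    · have had : z 0 0 ≠ z 1 1 := by
        intro had
        apply hz
        refine ⟨z 0 0, ?_⟩
        ext i j
        fin_cases i <;> fin_cases j <;> simp [hb, hc, had]
      have had' : z 0 0 - z 1 1 ≠ 0 := sub_ne_zero.mpr had
      rw [hb] at e01
      rw [hc] at e10
      have hf : w 0 1 = 0 := by
        have : w 0 1 * (z 0 0 - z 1 1) = 0 := by linear_combination -e01
        rcases mul_eq_zero.mp this with h | h
        · exact h
        · exact absurd h had'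
      have hg : w 1 0 = 0 := by
        have : w 1 0 * (z 0 0 - z 1 1) = 0 := by linear_combination e10
        rcases mul_eq_zero.mp this with h | h
        · exact h
        · exact absurd h had'
      refine ⟨w 0 0 - (w 0 0 - w 1 1) / (z 0 0 - z 1 1) * z 0 0, (w 0 0 - w 1 1) / (z 0 0 - z 1 1), ?_⟩
      ext i j
      fin_cases i <;> fin_cases j
      · simp
      · simp [hb, hf]
      · simp [hc, hg]
      · simp
        field_simp
        ring
    · refine ⟨w 0 0 - w 1 0 / z 1 0 * z 0 0, w 1 0 / z 1 0, ?_⟩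
      ext i j
      fin_cases i <;> fin_cases j
      · simp
      · simp
        field_simp
        linear_combination e00
      · simp
        field_simp
      · simp
        field_simp
        linear_combination e10
  · refine ⟨w 0 0 - w 0 1 / z 0 1 * z 0 0, w 0 1 / z 0 1, ?_⟩
    ext i j
    fin_cases i <;> fin_cases j
    · simp
    · simp
      field_simp
    · simp
      field_simp
      linear_combination -e00
    · simp
      field_simp
      linear_combination -e01

/-- An element of `K[z]` with the same trace and determinant as `z` is `z` or its conjugate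
`tr z - z`, when the discriminant of `z` is nonzero. -/
theorem mat2_trace_det_cases (h2 : (2 : K) ≠ 0) (z w : Matrix (Fin 2) (Fin 2) K)
    (hd : (z 0 0 + z 1 1) ^ 2 ≠ 4 * (z 0 0 * z 1 1 - z 0 1 * z 1 0))
    (α β : K) (hw : w = α • (1 : Matrix (Fin 2) (Fin 2) K) + β • z)
    (htr : w 0 0 + w 1 1 = z 0 0 + z 1 1)
    (hdet : w 0 0 * w 1 1 - w 0 1 * w 1 0 = z 0 0 * z 1 1 - z 0 1 * z 1 0) :
    w = z ∨ w = (z 0 0 + z 1 1) • (1 : Matrix (Fin 2) (Fin 2) K) - z := by
  subst hw
  simp only [Matrix.add_apply, Matrix.smul_apply, Matrix.one_apply_eq, smul_eq_mul, mul_one,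
    Matrix.one_apply_ne (show (0 : Fin 2) ≠ 1 by decide),
    Matrix.one_apply_ne (show (1 : Fin 2) ≠ 0 by decide), mul_zero, zero_add] at htr hdet
  have key : (1 - β) * (1 + β) * ((z 0 0 + z 1 1) ^ 2 - 4 * (z 0 0 * z 1 1 - z 0 1 * z 1 0)) = 0 := by
    linear_combination 4 * hdet - (2 * α + (z 0 0 + z 1 1) * (1 + β)) * htr
  have hd' : (z 0 0 + z 1 1) ^ 2 - 4 * (z 0 0 * z 1 1 - z 0 1 * z 1 0) ≠ 0 := sub_ne_zero.mpr hd
  rcases mul_eq_zero.mp key with h | h
  · rcases mul_eq_zero.mp h with h | h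
    · have hβ : β = 1 := by linear_combination -h
      subst hβ
      have hα : α = 0 := by
        have : 2 * α = 0 := by linear_combination htr
        rcases mul_eq_zero.mp this with h | h
        · exact absurd h h2
        · exact h
      left
      subst hα
      simp
    · have hβ : β = -1 := by linear_combination h
      subst hβ
      have hα : α = z 0 0 + z 1 1 := by
        have : 2 * (α - (z 0 0 + z 1 1)) = 0 := by linear_combination htr
        rcases mul_eq_zero.mp this with h | h
        · exact absurd h h2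
        · linear_combination h
      right
      subst hα
      simp [sub_eq_add_neg]
  · exact absurd h hd'

/-- A non-scalar `2 × 2` matrix of finite order prime to the characteristic has nonzero
discriminant. -/
theorem mat2_disc_ne_zero (h2 : (2 : K) ≠ 0) (z : Matrix (Fin 2) (Fin 2) K) (n : ℕ)
    (hn : (n : K) ≠ 0) (hzn : z ^ n = 1)
    (hz : ¬ ∃ c : K, z = c • (1 : Matrix (Fin 2) (Fin 2) K)) :
    (z 0 0 + z 1 1) ^ 2 ≠ 4 * (z 0 0 * z 1 1 - z 0 1 * z 1 0) := by
  intro hd
  set l : K := (z 0 0 + z 1 1) / 2 with hl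
  set N : Matrix (Fin 2) (Fin 2) K := z - l • (1 : Matrix (Fin 2) (Fin 2) K) with hN
  have hNN : N * N = 0 := by
    ext i j
    fin_cases i <;> fin_cases j
    · simp [hN, Matrix.mul_apply, Fin.sum_univ_two, hl]
      field_simp
      linear_combination hd
    · simp [hN, Matrix.mul_apply, Fin.sum_univ_two, hl]
      field_simp
      ring
    · simp [hN, Matrix.mul_apply, Fin.sum_univ_two, hl]
      field_simp
      ring
    · simp [hN, Matrix.mul_apply, Fin.sum_univ_two, hl]
      field_simp
      linear_combination hd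
  have hzN : z = l • (1 : Matrix (Fin 2) (Fin 2) K) + N := by rw [hN]; abel
  have hpow : ∀ k : ℕ, z ^ (k + 1) = (l ^ (k + 1)) • (1 : Matrix (Fin 2) (Fin 2) K) +
      (((k : K) + 1) * l ^ k) • N := by
    intro k
    induction k with
    | zero => simpa using hzN
    | succ k ih =>
      rw [pow_succ, ih]
      have hz' : (l ^ (k + 1) • (1 : Matrix (Fin 2) (Fin 2) K) + (((k : K) + 1) * l ^ k) • N) * z =
          (l ^ (k + 1) • (1 : Matrix (Fin 2) (Fin 2) K) + (((k : K) + 1) * l ^ k) • N) *
            (l • (1 : Matrix (Fin 2) (Fin 2) K) + N) := by rw [← hzN]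
      rw [hz']
      simp only [add_mul, mul_add, Matrix.smul_mul, Matrix.mul_smul, Matrix.one_mul, Matrix.mul_one,
        hNN, smul_zero, add_zero, smul_smul]
      rw [add_assoc, ← add_smul]
      congr 1
      · congr 1
        ring
      · congr 1
        push_cast
        ring
  have hN0 : N ≠ 0 := by
    intro h0
    apply hz
    refine ⟨l, ?_⟩
    rw [hzN, h0, add_zero]
  obtain ⟨k, rfl⟩ : ∃ k, n = k + 1 := by
    rcases n with _ | k
    · simp at hn
    · exact ⟨k, rfl⟩
  have h1 := hpow k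
  rw [hzn] at h1
  have h3 : (1 - l ^ (k + 1)) • N = 0 := by
    have := congrArg (fun M => M * N) h1
    simp only [Matrix.one_mul, add_mul, Matrix.smul_mul, hNN, smul_zero, add_zero] at this
    rw [sub_smul, one_smul, ← this, sub_self]
  have h4 : l ^ (k + 1) = 1 := by
    rcases smul_eq_zero.mp h3 with h | h
    · linear_combination -h
    · exact absurd h hN0
  rw [h4, one_smul] at h1
  have h5 : (((k : K) + 1) * l ^ k) • N = 0 := by
    have : (1 : Matrix (Fin 2) (Fin 2) K) = 1 + (((k : K) + 1) * l ^ k) • N := h1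
    simpa using this.symm
  rcases smul_eq_zero.mp h5 with h | h
  · rcases mul_eq_zero.mp h with h | h
    · apply hn
      push_cast
      exact h
    · have hl0 : l = 0 := by
        by_contra hl0
        exact (pow_ne_zero k hl0) h
      rw [hl0] at h4
      simp at h4
  · exact absurd h hN0

end Mat2

section Grp

variable {K : Type*} [Field K] {L : Type*} [Group L]

/-- If `g z g⁻¹` commutes with the semisimple element `z`, then `g²` commutes with `z`. -/
theorem sq_commute_of_conj_commute (ψ : L →* Matrix (Fin 2) (Fin 2) K)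
    (hψ : Function.Injective ψ) (h2 : (2 : K) ≠ 0) (g z : L) (n : ℕ) (hn : (n : K) ≠ 0)
    (hzn : z ^ n = 1) (hc : Commute (g * z * g⁻¹) z) : Commute (g ^ 2) z := by
  by_cases hs : ∃ c : K, ψ z = c • (1 : Matrix (Fin 2) (Fin 2) K)
  · obtain ⟨c, hc'⟩ := hs
    have : Commute g z := by
      apply hψ
      rw [map_mul, map_mul, hc']
      simp
    exact this.pow_left 2
  · have hGG : ψ g * ψ g⁻¹ = 1 := by rw [← map_mul, mul_inv_cancel, map_one]
    have hGG' : ψ g⁻¹ * ψ g = 1 := by rw [← map_mul, inv_mul_cancel, map_one]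
    have hW : ψ g * ψ z * ψ g⁻¹ = ψ (g * z * g⁻¹) := by simp [map_mul]
    have hWZ : (ψ g * ψ z * ψ g⁻¹) * ψ z = ψ z * (ψ g * ψ z * ψ g⁻¹) := by
      rw [hW, ← map_mul, ← map_mul, hc.eq]
    have htr : (ψ g * ψ z * ψ g⁻¹).trace = (ψ z).trace := by
      rw [Matrix.trace_mul_comm, ← mul_assoc, hGG', one_mul]
    have hdet : (ψ g * ψ z * ψ g⁻¹).det = (ψ z).det := by
      rw [det_mul, det_mul, mul_right_comm, ← det_mul, hGG, det_one, one_mul]
    obtain ⟨α, β, hαβ⟩ := mat2_commutant (ψ z) (ψ g * ψ z * ψ g⁻¹) hs hWZ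
    have hZn : (ψ z) ^ n = 1 := by rw [← map_pow, hzn, map_one]
    have hd := mat2_disc_ne_zero h2 (ψ z) n hn hZn hs
    rw [Matrix.trace_fin_two, Matrix.trace_fin_two] at htr
    rw [Matrix.det_fin_two, Matrix.det_fin_two] at hdet
    rcases mat2_trace_det_cases h2 (ψ z) (ψ g * ψ z * ψ g⁻¹) hd α β hαβ htr hdet with h | h
    · have h1 : g * z * g⁻¹ = z := hψ (by rw [← hW, h])
      have : Commute g z := by
        show g * z = z * g
        calc g * z = (g * z * g⁻¹) * g := by group
          _ = z * g := by rw [h1]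
      exact this.pow_left 2
    · have h1 : ψ (g ^ 2 * z * (g ^ 2)⁻¹) = ψ z := by
        have e : g ^ 2 * z * (g ^ 2)⁻¹ = g * (g * z * g⁻¹) * g⁻¹ := by
          simp only [pow_two, _root_.mul_inv_rev, mul_assoc]
        rw [e, map_mul, map_mul, ← hW, h]
        rw [Matrix.mul_sub, Matrix.sub_mul, Matrix.mul_smul, Matrix.smul_mul, Matrix.mul_one, hGG, h]
        abel
      have h2' : g ^ 2 * z * (g ^ 2)⁻¹ = z := hψ h1
      show g ^ 2 * z = z * g ^ 2
      calc g ^ 2 * z = (g ^ 2 * z * (g ^ 2)⁻¹) * g ^ 2 := by group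
        _ = z * g ^ 2 := by rw [h2']

/-- An element `g` of odd order such that `g z g⁻¹` commutes with the semisimple `z`
commutes with `z`. -/
theorem commute_of_conj_commute_odd (ψ : L →* Matrix (Fin 2) (Fin 2) K)
    (hψ : Function.Injective ψ) (h2 : (2 : K) ≠ 0) (g z : L) (n : ℕ) (hn : (n : K) ≠ 0)
    (hzn : z ^ n = 1) (hc : Commute (g * z * g⁻¹) z) (hodd : Odd (orderOf g)) : Commute g z := by
  have h := sq_commute_of_conj_commute ψ hψ h2 g z n hn hzn hc
  obtain ⟨m, hm⟩ := hodd
  have : g = (g ^ 2) ^ (m + 1) := by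
    rw [← pow_mul, show 2 * (m + 1) = orderOf g + 1 by omega, pow_succ, pow_orderOf_eq_one, one_mul]
  rw [this]
  exact h.pow_left _

end Grp

section Fin

variable {K : Type*} [Field K] {L : Type*} [Group L] [Finite L]

theorem natCast_ne_zero_of_coprime (p : ℕ) [CharP K p] [hp : Fact p.Prime] (n : ℕ)
    (hn : n.Coprime p) : (n : K) ≠ 0 := by
  intro h
  rw [CharP.cast_eq_zero_iff K p] at h
  have := Nat.eq_one_of_dvd_coprimes hn h (dvd_refl p)
  exact hp.out.one_lt.ne' this

/-- In a finite group of odd order of `2 × 2` matrices in characteristic `p`, Sylow `r`-subgroups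
(`r ≠ p`) are abelian. -/
theorem sylow_commute_of_odd (ψ : L →* Matrix (Fin 2) (Fin 2) K) (hψ : Function.Injective ψ)
    (p : ℕ) [CharP K p] [hp : Fact p.Prime] (hp2 : p ≠ 2) (hodd : Odd (Nat.card L))
    (r : ℕ) [hr : Fact r.Prime] (hrp : r ≠ p) (R : Sylow r L) :
    ∀ x ∈ (R : Subgroup L), ∀ y ∈ (R : Subgroup L), Commute x y := by
  have h2 : (2 : K) ≠ 0 := by
    have := natCast_ne_zero_of_coprime (K := K) p 2
      ((Nat.coprime_primes Nat.prime_two hp.out).mpr (Ne.symm hp2))
    simpa using this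
  have hoddg : ∀ g : L, Odd (orderOf g) := fun g =>
    Odd.of_dvd_nat hodd (orderOf_dvd_natCard g)
  have hcop : ∀ z ∈ (R : Subgroup L), ((orderOf z : ℕ) : K) ≠ 0 := by
    intro z hz
    obtain ⟨k, hk⟩ := (IsPGroup.iff_orderOf.mp R.2) ⟨z, hz⟩
    rw [Subgroup.orderOf_mk] at hk
    rw [hk]
    apply natCast_ne_zero_of_coprime p
    apply Nat.Coprime.pow_left
    exact (Nat.coprime_primes hr.out hp.out).mpr hrp
  have key : ∀ i : ℕ, Subgroup.upperCentralSeries (R : Subgroup L) i ≤
      Subgroup.center (R : Subgroup L) := by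
    intro i
    induction i with
    | zero => rw [Subgroup.upperCentralSeries_zero]; exact bot_le
    | succ i ih =>
      intro z hz
      rw [Subgroup.mem_upperCentralSeries_succ_iff] at hz
      simp only [commutatorElement_def] at hz
      rw [Subgroup.mem_center_iff]
      intro g
      have hc := ih (hz g)
      rw [Subgroup.mem_center_iff] at hc
      -- `g z g⁻¹ = c⁻¹ z` with `c = z g z⁻¹ g⁻¹` central
      have hcomm : Commute ((g : L) * (z : L) * (g : L)⁻¹) (z : L) := by
        have e : (g : L) * (z : L) * (g : L)⁻¹ =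
            (((z * g * z⁻¹ * g⁻¹ : (R : Subgroup L))⁻¹ : (R : Subgroup L)) : L) * (z : L) := by
          push_cast
          group
        rw [e]
        have h4 : Commute ((z * g * z⁻¹ * g⁻¹ : (R : Subgroup L))⁻¹) z :=
          (show Commute z (z * g * z⁻¹ * g⁻¹) from hc z).symm.inv_left
        have h5 := h4.map (Subgroup.subtype (R : Subgroup L))
        exact h5.mul_left (Commute.refl _)
      have := commute_of_conj_commute_odd ψ hψ h2 (g : L) (z : L) (orderOf (z : L))
        (hcop _ z.2) (pow_orderOf_eq_one _) hcomm (hoddg _)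
      apply Subtype.ext
      push_cast
      exact this.eq
  obtain ⟨n, hn⟩ := (R.2.isNilpotent : Group.IsNilpotent (R : Subgroup L)).nilpotent'
  have htop : Subgroup.center (R : Subgroup L) = ⊤ := top_le_iff.mp (hn ▸ key n)
  intro x hx y hy
  have : (⟨x, hx⟩ : (R : Subgroup L)) ∈ Subgroup.center (R : Subgroup L) := by
    rw [htop]; trivial
  rw [Subgroup.mem_center_iff] at this
  have := congrArg Subtype.val (this ⟨y, hy⟩)
  exact this.symm

theorem two_ne_zero_of_charP (p : ℕ) [CharP K p] [hp : Fact p.Prime] (hp2 : p ≠ 2) :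
    (2 : K) ≠ 0 := by
  have := natCast_ne_zero_of_coprime (K := K) p 2
    ((Nat.coprime_primes Nat.prime_two hp.out).mpr (Ne.symm hp2))
  simpa using this

/-- In odd order: the normalizer of a Sylow `r`-subgroup (`r ≠ p`) centralizes it. -/
theorem sylow_normalizer_le_centralizer_of_odd (ψ : L →* Matrix (Fin 2) (Fin 2) K)
    (hψ : Function.Injective ψ)
    (p : ℕ) [CharP K p] [hp : Fact p.Prime] (hp2 : p ≠ 2) (hodd : Odd (Nat.card L))
    (r : ℕ) [hr : Fact r.Prime] (hrp : r ≠ p) (R : Sylow r L) :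
    Subgroup.normalizer ((R : Subgroup L) : Set L) ≤ Subgroup.centralizer ((R : Subgroup L) : Set L) := by
  have h2 : (2 : K) ≠ 0 := two_ne_zero_of_charP p hp2
  have hab := sylow_commute_of_odd ψ hψ p hp2 hodd r hrp R
  intro g hg
  rw [Subgroup.mem_centralizer_iff]
  intro z hz
  have hz' : z ∈ (R : Subgroup L) := hz
  have hgz : g * z * g⁻¹ ∈ (R : Subgroup L) := (Subgroup.mem_normalizer_iff.mp hg z).mp hz'
  have hcop : ((orderOf z : ℕ) : K) ≠ 0 := by
    obtain ⟨k, hk⟩ := (IsPGroup.iff_orderOf.mp R.2) ⟨z, hz'⟩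
    rw [Subgroup.orderOf_mk] at hk
    rw [hk]
    apply natCast_ne_zero_of_coprime p
    apply Nat.Coprime.pow_left
    exact (Nat.coprime_primes hr.out hp.out).mpr hrp
  have := commute_of_conj_commute_odd ψ hψ h2 g z (orderOf z) hcop (pow_orderOf_eq_one _)
    (hab _ hgz _ hz') (Odd.of_dvd_nat hodd (orderOf_dvd_natCard g))
  exact this.eq.symm

/-- An abelian Sylow `2`-subgroup is centralized by its normalizer (characteristic `p` odd,
degree two). -/
theorem sylow_two_normalizer_le_centralizer (ψ : L →* Matrix (Fin 2) (Fin 2) K)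
    (hψ : Function.Injective ψ)
    (p : ℕ) [CharP K p] [hp : Fact p.Prime] (hp2 : p ≠ 2) (T : Sylow 2 L)
    (hT : ∀ x ∈ (T : Subgroup L), ∀ y ∈ (T : Subgroup L), Commute x y) :
    Subgroup.normalizer ((T : Subgroup L) : Set L) ≤ Subgroup.centralizer ((T : Subgroup L) : Set L) := by
  have h2 : (2 : K) ≠ 0 := two_ne_zero_of_charP p hp2
  intro g hg
  rw [Subgroup.mem_centralizer_iff]
  intro z hz
  have hz' : z ∈ (T : Subgroup L) := hz
  have hcop : ((orderOf z : ℕ) : K) ≠ 0 := by
    obtain ⟨k, hk⟩ := (IsPGroup.iff_orderOf.mp T.2) ⟨z, hz'⟩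
    rw [Subgroup.orderOf_mk] at hk
    rw [hk]
    apply natCast_ne_zero_of_coprime p
    apply Nat.Coprime.pow_left
    exact (Nat.coprime_primes Nat.prime_two hp.out).mpr (Ne.symm hp2)
  obtain ⟨k, m, hm, hkm⟩ := Nat.exists_eq_two_pow_mul_odd (orderOf_pos g).ne'
  -- odd part
  have h1 : Commute (g ^ 2 ^ k) z := by
    have hgk : g ^ 2 ^ k ∈ Subgroup.normalizer ((T : Subgroup L) : Set L) := Subgroup.pow_mem _ hg _
    have hgz : g ^ 2 ^ k * z * (g ^ 2 ^ k)⁻¹ ∈ (T : Subgroup L) :=
      (Subgroup.mem_normalizer_iff.mp hgk z).mp hz'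
    have hoddk : Odd (orderOf (g ^ 2 ^ k)) := by
      apply Odd.of_dvd_nat hm
      apply orderOf_dvd_of_pow_eq_one
      rw [← pow_mul, ← hkm, pow_orderOf_eq_one]
    exact commute_of_conj_commute_odd ψ hψ h2 _ z (orderOf z) hcop (pow_orderOf_eq_one _)
      (hT _ hgz _ hz') hoddk
  -- 2-part
  have h3 : Commute (g ^ m) z := by
    have hgm : g ^ m ∈ Subgroup.normalizer ((T : Subgroup L) : Set L) := Subgroup.pow_mem _ hg _
    have hP : IsPGroup 2 (Subgroup.zpowers (g ^ m)) := by
      rw [IsPGroup.iff_card]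
      have hdvd : orderOf (g ^ m) ∣ 2 ^ k := by
        apply orderOf_dvd_of_pow_eq_one
        rw [← pow_mul, mul_comm, ← hkm, pow_orderOf_eq_one]
      obtain ⟨j, hj, hj'⟩ := (Nat.dvd_prime_pow Nat.prime_two).mp hdvd
      exact ⟨j, by rw [Nat.card_zpowers, hj']⟩
    have hmem : g ^ m ∈ (T : Subgroup L) := by
      have := hP.inf_normalizer_sylow T
      have h' : g ^ m ∈ Subgroup.zpowers (g ^ m) ⊓ Subgroup.normalizer ((T : Subgroup L) : Set L) :=
        ⟨Subgroup.mem_zpowers _, hgm⟩
      exact (this.le h').2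
    exact hT _ hmem _ hz'
  -- combine
  have hcop2 : IsCoprime ((2 ^ k : ℕ) : ℤ) (m : ℤ) := by
    rw [Nat.isCoprime_iff_coprime]
    exact Nat.Coprime.pow_left k (Nat.coprime_two_left.mpr hm)
  obtain ⟨u, v, huv⟩ := hcop2
  have hg1 : g = (g ^ 2 ^ k) ^ u * (g ^ m) ^ v := by
    rw [← zpow_natCast, ← zpow_natCast, ← _root_.zpow_mul, ← _root_.zpow_mul, ← _root_.zpow_add]
    have : ((2 ^ k : ℕ) : ℤ) * u + (m : ℤ) * v = 1 := by linear_combination huv
    rw [this, zpow_one]
  have hfin : Commute g z := by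
    rw [hg1]
    exact (h1.zpow_left u).mul_left (h3.zpow_left v)
  exact hfin.eq.symm

/-- A finite group of odd order of `2 × 2` matrices in odd characteristic `p` has a normal
Sylow `p`-subgroup. -/
theorem sylow_normal_of_odd (ψ : L →* Matrix (Fin 2) (Fin 2) K)
    (hψ : Function.Injective ψ)
    (p : ℕ) [CharP K p] [hp : Fact p.Prime] (hp2 : p ≠ 2) (hodd : Odd (Nat.card L))
    (P : Sylow p L) : (P : Subgroup L).Normal := by
  classical
  have hcomp : ∀ r : ℕ, r.Prime → r ≠ p →
      ∃ N : Subgroup L, N.Normal ∧ ¬ r ∣ Nat.card N ∧ (P : Subgroup L) ≤ N := by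
    intro r hr hrp
    haveI : Fact r.Prime := ⟨hr⟩
    obtain ⟨R⟩ : Nonempty (Sylow r L) := inferInstance
    have hN := sylow_normalizer_le_centralizer_of_odd ψ hψ p hp2 hodd r hrp R
    refine ⟨(MonoidHom.transferSylow R hN).ker, inferInstance,
      MonoidHom.not_dvd_card_ker_transferSylow R hN, ?_⟩
    intro x hx
    rw [MonoidHom.mem_ker]
    have h1 : orderOf (MonoidHom.transferSylow R hN x) ∣ orderOf x := orderOf_map_dvd _ x
    obtain ⟨k, hk⟩ := IsPGroup.iff_orderOf.mp P.2 ⟨x, hx⟩
    rw [Subgroup.orderOf_mk] at hk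
    obtain ⟨j, hj⟩ := IsPGroup.iff_orderOf.mp R.2 (MonoidHom.transferSylow R hN x)
    have hcop : (r ^ j).Coprime (p ^ k) :=
      Nat.Coprime.pow _ _ ((Nat.coprime_primes hr hp.out).mpr hrp)
    have h3 : orderOf (MonoidHom.transferSylow R hN x) = 1 := by
      rw [hk, hj] at h1
      rw [hj]
      exact Nat.eq_one_of_dvd_coprimes hcop (dvd_refl _) h1
    exact orderOf_eq_one_iff.mp h3
  let U : Subgroup L := ⨅ r : {r : ℕ // r.Prime ∧ r ≠ p},
    Classical.choose (hcomp r.1 r.2.1 r.2.2)
  have hUn : U.Normal :=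
    Subgroup.normal_iInf_normal (fun r => (Classical.choose_spec (hcomp r.1 r.2.1 r.2.2)).1)
  have hPU : (P : Subgroup L) ≤ U :=
    le_iInf (fun r => (Classical.choose_spec (hcomp r.1 r.2.1 r.2.2)).2.2)
  have hUp : IsPGroup p U := by
    have hall : ∀ {r : ℕ}, r.Prime → r ∣ Nat.card U → r = p := by
      intro r hr hdvd
      by_contra hrp
      have h1 := (Classical.choose_spec (hcomp r hr hrp)).2.1
      apply h1
      exact hdvd.trans (Subgroup.card_dvd_of_le (iInf_le _ (⟨r, hr, hrp⟩ : {r : ℕ // r.Prime ∧ r ≠ p})))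
    exact IsPGroup.of_card (Nat.eq_prime_pow_of_unique_prime_dvd Nat.card_pos.ne' hall)
  have hUP : U = (P : Subgroup L) := P.3 hUp hPU
  rw [← hUP]
  exact hUn

/-- A finite group of `2 × 2` matrices in odd characteristic `p`, generated by `p`-elements and
with an abelian Sylow `2`-subgroup, is a `p`-group. -/
theorem isPGroup_of_abelian_sylow_two (ψ : L →* Matrix (Fin 2) (Fin 2) K)
    (hψ : Function.Injective ψ)
    (p : ℕ) [CharP K p] [hp : Fact p.Prime] (hp2 : p ≠ 2)
    (S : Set L) (hS : Subgroup.closure S = ⊤) (hSp : ∀ s ∈ S, ∃ k : ℕ, s ^ p ^ k = 1)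
    (T : Sylow 2 L)
    (hT : ∀ x ∈ (T : Subgroup L), ∀ y ∈ (T : Subgroup L), Commute x y) : IsPGroup p L := by
  have hN := sylow_two_normalizer_le_centralizer ψ hψ p hp2 T hT
  have hcompl := MonoidHom.ker_transferSylow_isComplement' T hN
  have hSker : S ⊆ (MonoidHom.transferSylow T hN).ker := by
    intro s hs
    show s ∈ (MonoidHom.transferSylow T hN).ker
    rw [MonoidHom.mem_ker]
    obtain ⟨k, hk⟩ := hSp s hs
    have h1 : orderOf (MonoidHom.transferSylow T hN s) ∣ p ^ k := by
      apply orderOf_dvd_of_pow_eq_one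
      rw [← map_pow, hk, map_one]
    obtain ⟨j, hj⟩ := IsPGroup.iff_orderOf.mp T.2 (MonoidHom.transferSylow T hN s)
    have hcop : (2 ^ j).Coprime (p ^ k) :=
      Nat.Coprime.pow _ _ ((Nat.coprime_primes Nat.prime_two hp.out).mpr (Ne.symm hp2))
    have h3 : orderOf (MonoidHom.transferSylow T hN s) = 1 := by
      rw [hj] at h1 ⊢
      exact Nat.eq_one_of_dvd_coprimes hcop (dvd_refl _) h1
    exact orderOf_eq_one_iff.mp h3
  have hker : (MonoidHom.transferSylow T hN).ker = ⊤ := by
    rw [eq_top_iff, ← hS, Subgroup.closure_le]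
    exact hSker
  have hcard := hcompl.card_mul_card
  rw [hker, Subgroup.card_top] at hcard
  have hT1 : Nat.card (T : Subgroup L) = 1 := by
    have hpos : 0 < Nat.card L := Nat.card_pos
    have : Nat.card L * Nat.card (T : Subgroup L) = Nat.card L * 1 := by rw [hcard, mul_one]
    exact Nat.eq_of_mul_eq_mul_left hpos this
  have hodd : Odd (Nat.card L) := by
    rw [← Nat.not_even_iff_odd, even_iff_two_dvd]
    intro h2
    have := T.card_eq_multiplicity
    rw [hT1] at this
    have hf : (Nat.card L).factorization 2 = 0 := by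
      by_contra h0
      have : 1 < 2 ^ (Nat.card L).factorization 2 := Nat.one_lt_two_pow h0
      omega
    have := (Nat.factorization_eq_zero_iff (Nat.card L) 2).mp hf
    rcases this with h | h | h
    · exact h Nat.prime_two
    · exact h h2
    · exact Nat.card_pos.ne' h
  obtain ⟨P⟩ : Nonempty (Sylow p L) := inferInstance
  have hPn := sylow_normal_of_odd ψ hψ p hp2 hodd P
  have hSP : S ⊆ (P : Subgroup L) := by
    intro s hs
    obtain ⟨k, hk⟩ := hSp s hs
    have hz : IsPGroup p (Subgroup.zpowers s) := by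
      rw [IsPGroup.iff_card]
      have hdvd : orderOf s ∣ p ^ k := orderOf_dvd_of_pow_eq_one hk
      obtain ⟨j, hj, hj'⟩ := (Nat.dvd_prime_pow hp.out).mp hdvd
      exact ⟨j, by rw [Nat.card_zpowers, hj']⟩
    obtain ⟨Q, hQ⟩ := hz.exists_le_sylow
    letI := Sylow.unique_of_normal P hPn
    have : Q = P := Subsingleton.elim _ _
    rw [← this]
    exact hQ (Subgroup.mem_zpowers s)
  have hPtop : (P : Subgroup L) = ⊤ := by
    rw [eq_top_iff, ← hS, Subgroup.closure_le]
    exact hSP
  intro g
  have hg : g ∈ (P : Subgroup L) := hPtop ▸ Subgroup.mem_top g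
  obtain ⟨k, hk⟩ := P.2 ⟨g, hg⟩
  refine ⟨k, ?_⟩
  have := congrArg Subtype.val hk
  simpa using this

end Fin

end Cfsg.Agent.Helper26
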