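import Mathlib
import Cfsg.Prelude.Def_Local
import Cfsg.Agent.Helper7.PConstrained
import Cfsg.Agent.Helper26.ZJInst
import Cfsg.Agent.Lead.TNC11

set_option autoImplicit false
set_option linter.style.haveILetI false
set_option linter.unusedSectionVars false
set_option linter.unusedVariables false

/-! # `p`-stability and the quotient by a normal `p'`-subgroup -/

namespace Cfsg.Agent.Helper26

open Subgroup
open scoped commutatorElement

universe u

section PSQ

variable {G : Type u} [Group G] [Finite G] {p : ℕ} [hp : Fact p.Prime]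

/-- a `p`-subgroup meets a `p'`-subgroup trivially -/
theorem psq_inf_eq_bot {K P : Subgroup G} (hK : (Nat.card K).Coprime p) (hP : IsPGroup p P) :
    P ⊓ K = ⊥ := by
  apply Disjoint.eq_bot
  apply disjoint_of_coprime_natCard
  obtain ⟨k, hk⟩ := IsPGroup.iff_card.1 hP
  rw [hk]
  exact Nat.Coprime.pow_left _ hK.symm

theorem psq_injOn {K P : Subgroup G} [K.Normal] (hK : (Nat.card K).Coprime p)
    (hP : IsPGroup p P) : Set.InjOn (QuotientGroup.mk' K) (P : Set G) := by
  intro x hx y hy hxy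
  have h1 : x⁻¹ * y ∈ P ⊓ K := ⟨P.mul_mem (P.inv_mem hx) hy, QuotientGroup.eq.mp hxy⟩
  rw [psq_inf_eq_bot hK hP, mem_bot] at h1
  exact inv_mul_eq_one.mp h1

theorem psq_card_sup {K P : Subgroup G} [K.Normal] (hK : (Nat.card K).Coprime p)
    (hP : IsPGroup p P) : Nat.card (K ⊔ P : Subgroup G) = Nat.card K * Nat.card P := by
  have h1 := Cfsg.Agent.Helper17.card_sup_mul_card_inf_of_normal K P
  rwa [inf_comm, psq_inf_eq_bot hK hP, card_bot, mul_one] at h1

/-- Frattini argument for a `p`-subgroup `P` with `KP` normal, `K` a normal `p'`-subgroup. -/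
theorem psq_frattini {K P : Subgroup G} [K.Normal] (hK : (Nat.card K).Coprime p)
    (hP : IsPGroup p P) (hn : (K ⊔ P).Normal) : K ⊔ normalizer (P : Set G) = ⊤ := by
  haveI := hn
  have hPN : P ≤ K ⊔ P := le_sup_right
  have hcard : Nat.card (P.subgroupOf (K ⊔ P)) = Nat.card P :=
    Nat.card_congr (subgroupOfEquivOfLe hPN).toEquiv
  have hidx : ¬ p ∣ (P.subgroupOf (K ⊔ P)).index := by
    have h1 := (P.subgroupOf (K ⊔ P)).card_mul_index
    rw [hcard, psq_card_sup hK hP, mul_comm] at h1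
    have h2 : (P.subgroupOf (K ⊔ P)).index = Nat.card K :=
      Nat.eq_of_mul_eq_mul_right Nat.card_pos h1
    rw [h2]
    exact fun h => hp.out.one_lt.ne' (Nat.Coprime.eq_one_of_dvd hK.symm h)
  have hP' : IsPGroup p (P.subgroupOf (K ⊔ P)) := hP.comap_subtype
  have h3 := Sylow.normalizer_sup_eq_top (hP'.toSylow hidx)
  have h4 : ((hP'.toSylow hidx : Sylow p (K ⊔ P : Subgroup G)) : Subgroup (K ⊔ P : Subgroup G)).map
      (K ⊔ P).subtype = P := by
    rw [IsPGroup.toSylow_coe, subgroupOf_map_subtype, inf_eq_left.mpr hPN]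
  rw [h4] at h3
  rw [eq_top_iff, ← h3]
  apply sup_le le_sup_right
  exact sup_le le_sup_left (le_normalizer.trans le_sup_right)

/-- the kernel of the action of `N_G(P)` on the image of `P` modulo `K` is `C_G(P)` -/
theorem psq_mem_centralizer_iff {K P : Subgroup G} [K.Normal] (hK : (Nat.card K).Coprime p)
    (hP : IsPGroup p P) {n : G} (hn : n ∈ normalizer (P : Set G)) :
    QuotientGroup.mk' K n ∈ centralizer ((P.map (QuotientGroup.mk' K) : Subgroup (G ⧸ K)) : Set (G ⧸ K)) ↔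
      n ∈ centralizer (P : Set G) := by
  constructor
  · intro h
    rw [mem_centralizer_iff] at h ⊢
    intro x hx
    have h1 := h _ (mem_map_of_mem _ hx)
    -- `x * n = n * x` modulo `K`
    have h2 : n * x * n⁻¹ ∈ P := (mem_normalizer_iff.mp hn x).mp hx
    have h3 : QuotientGroup.mk' K (n * x * n⁻¹) = QuotientGroup.mk' K x := by
      rw [map_mul, map_mul, ← h1, map_inv, mul_inv_cancel_right]
    have h4 := psq_injOn hK hP h2 hx h3
    calc x * n = (n * x * n⁻¹) * n := by rw [h4]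
      _ = n * x := by group
  · intro h
    rw [mem_centralizer_iff] at h ⊢
    rintro _ ⟨x, hx, rfl⟩
    rw [← map_mul, ← map_mul, h x hx]

/-- A Sylow `p`-subgroup of the preimage of a `p`-subgroup `U` of `G/K` maps onto `U`. -/
theorem psq_sylow_comap_map {K : Subgroup G} [K.Normal] (hK : (Nat.card K).Coprime p)
    (U : Subgroup (G ⧸ K)) (hU : IsPGroup p U) (M : Subgroup G)
    (hM : M = U.comap (QuotientGroup.mk' K)) (P : Sylow p M) :
    ((P : Subgroup M).map M.subtype).map (QuotientGroup.mk' K) = U := by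
  set P' := (P : Subgroup M).map M.subtype with hP'
  have hP'M : P' ≤ M := map_subtype_le _
  have hP'p : IsPGroup p P' := P.isPGroup'.map _
  have hcardM : Nat.card M = Nat.card K * Nat.card U := by
    rw [hM]
    exact QuotientGroup.card_preimage_mk K (U : Set (G ⧸ K))
  obtain ⟨k, hk⟩ := IsPGroup.iff_card.1 hU
  have hcardP' : Nat.card P' = Nat.card U := by
    have h1 : Nat.card P' = Nat.card (P : Subgroup M) :=
      (Nat.card_congr ((P : Subgroup M).equivMapOfInjective _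
        (subtype_injective M)).toEquiv).symm
    rw [h1, Sylow.card_eq_multiplicity, hcardM, hk]
    have hO0 : Nat.card K ≠ 0 := Nat.card_pos.ne'
    have hp0 : p ^ k ≠ 0 := pow_ne_zero _ hp.out.ne_zero
    rw [Nat.factorization_mul hO0 hp0, Finsupp.add_apply,
      Nat.factorization_eq_zero_of_not_dvd
        ((Nat.Prime.coprime_iff_not_dvd hp.out).1 hK.symm),
      Nat.Prime.factorization_pow hp.out, Finsupp.single_eq_same, zero_add]
  have hle : P'.map (QuotientGroup.mk' K) ≤ U := by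
    rw [map_le_iff_le_comap, ← hM]
    exact hP'M
  apply eq_of_le_of_card_ge hle
  have hinj := psq_injOn hK hP'p
  have hbij : Function.Bijective ((QuotientGroup.mk' K).subgroupMap P') := by
    refine ⟨?_, (QuotientGroup.mk' K).subgroupMap_surjective P'⟩
    intro x y hxy
    have h1 : QuotientGroup.mk' K x = QuotientGroup.mk' K y :=
      congrArg (fun z : P'.map (QuotientGroup.mk' K) => (z : G ⧸ K)) hxy
    exact Subtype.ext (hinj x.2 y.2 h1)
  rw [← hcardP']
  exact (Nat.card_congr (Equiv.ofBijective _ hbij)).le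

/-- Lifting a `p`-subgroup of `G/K` to a `p`-subgroup of `N_G(P)`. -/
theorem psq_exists_lift {K P : Subgroup G} [K.Normal] (hK : (Nat.card K).Coprime p)
    (hP : IsPGroup p P) (hn : (K ⊔ P).Normal) (Abar : Subgroup (G ⧸ K)) (hA : IsPGroup p Abar) :
    ∃ A : Subgroup G, A ≤ normalizer (P : Set G) ∧ IsPGroup p A ∧
      A.map (QuotientGroup.mk' K) = Abar := by
  set π := QuotientGroup.mk' K with hπ
  set H := Abar.comap π ⊓ normalizer (P : Set G) with hH
  have hHmap : H.map π = Abar := by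
    apply le_antisymm
    · rw [map_le_iff_le_comap]
      exact inf_le_left
    · intro y hy
      obtain ⟨g, rfl⟩ := QuotientGroup.mk'_surjective K y
      have hg : g ∈ K ⊔ normalizer (P : Set G) := by
        rw [psq_frattini hK hP hn]
        exact mem_top g
      rw [← SetLike.mem_coe, normal_mul] at hg
      obtain ⟨k, hk, n, hn', rfl⟩ := hg
      have hkn : π (k * n) = π n := by
        rw [map_mul]
        have : π k = 1 := (QuotientGroup.eq_one_iff k).mpr hk
        rw [this, one_mul]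
      refine ⟨n, ⟨?_, hn'⟩, hkn.symm⟩
      show π n ∈ Abar
      rw [← hkn]
      exact hy
  have A₀ : Sylow p H := default
  refine ⟨(A₀ : Subgroup H).map H.subtype, ?_, A₀.isPGroup'.map _, ?_⟩
  · exact (map_subtype_le _).trans inf_le_right
  · -- the image of `A₀` in `H.map π` is a Sylow subgroup, hence everything
    have hsurj : Function.Surjective (π.subgroupMap H) := π.subgroupMap_surjective H
    have hpg : IsPGroup p (H.map π) := by rw [hHmap]; exact hA
    have htop : ((A₀.mapSurjective hsurj : Sylow p (H.map π)) : Subgroup (H.map π)) = ⊤ :=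
      ((A₀.mapSurjective hsurj).is_maximal' (hpg.to_subgroup ⊤) le_top).symm
    rw [Sylow.coe_mapSurjective] at htop
    have hcomp : π.comp H.subtype = (H.map π).subtype.comp (π.subgroupMap H) := by
      ext x; rfl
    rw [map_map, hcomp, ← map_map, htop, ← MonoidHom.range_eq_map, range_subtype, hHmap]

theorem mem_pCore_equiv {X Y : Type*} [Group X] [Group Y] (q : ℕ) (e : X ≃* Y) (x : X) :
    e x ∈ Cfsg.pCore q Y ↔ x ∈ Cfsg.pCore q X := by
  constructor
  · intro h
    have h1 := (Cfsg.Agent.Helper14.pCore_map_equiv q e.symm).le ⟨e x, h, rfl⟩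
    simpa using h1
  · intro h
    exact (Cfsg.Agent.Helper14.pCore_map_equiv q e).le ⟨x, h, rfl⟩

/-- the homomorphism `N_G(P) → N_{G/K}(PK/K)` -/
def psqNormHom (K P : Subgroup G) [K.Normal] :
    ↥(normalizer (P : Set G)) →*
      ↥(normalizer ((P.map (QuotientGroup.mk' K) : Subgroup (G ⧸ K)) : Set (G ⧸ K))) :=
  ((QuotientGroup.mk' K).comp (normalizer (P : Set G)).subtype).codRestrict _ (by
    intro n
    exact (le_normalizer_map (QuotientGroup.mk' K)) (mem_map_of_mem _ n.2))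

theorem psqNormHom_coe (K P : Subgroup G) [K.Normal] (n : normalizer (P : Set G)) :
    ((psqNormHom K P n : normalizer ((P.map (QuotientGroup.mk' K) : Subgroup (G ⧸ K)) : Set (G ⧸ K))) :
      G ⧸ K) = QuotientGroup.mk' K (n : G) := rfl

theorem psqNormHom_surjective {K P : Subgroup G} [K.Normal] (hK : (Nat.card K).Coprime p)
    (hP : IsPGroup p P) (hn : (K ⊔ P).Normal) : Function.Surjective (psqNormHom K P) := by
  intro y
  obtain ⟨g, hg⟩ := QuotientGroup.mk'_surjective K (y : G ⧸ K)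
  have hg' : g ∈ K ⊔ normalizer (P : Set G) := by
    rw [psq_frattini hK hP hn]
    exact mem_top g
  rw [← SetLike.mem_coe, normal_mul] at hg'
  obtain ⟨k, hk, n, hn', rfl⟩ := hg'
  refine ⟨⟨n, hn'⟩, ?_⟩
  apply Subtype.ext
  rw [psqNormHom_coe, ← hg]
  show QuotientGroup.mk' K n = QuotientGroup.mk' K (k * n)
  rw [map_mul]
  have : QuotientGroup.mk' K k = 1 := (QuotientGroup.eq_one_iff k).mpr hk
  rw [this, one_mul]

theorem psq_comap_centralizer {K P : Subgroup G} [K.Normal] (hK : (Nat.card K).Coprime p)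
    (hP : IsPGroup p P) :
    ((centralizer ((P.map (QuotientGroup.mk' K) : Subgroup (G ⧸ K)) : Set (G ⧸ K))).subgroupOf
      (normalizer ((P.map (QuotientGroup.mk' K) : Subgroup (G ⧸ K)) : Set (G ⧸ K)))).comap
        (psqNormHom K P) = (centralizer (P : Set G)).subgroupOf (normalizer (P : Set G)) := by
  ext n
  rw [mem_comap, mem_subgroupOf, mem_subgroupOf, psqNormHom_coe]
  exact psq_mem_centralizer_iff hK hP n.2

/-- the isomorphism `N_G(P)/C_G(P) ≃ N_{G/K}(PK/K)/C_{G/K}(PK/K)` -/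
theorem psq_exists_equiv {K P : Subgroup G} [K.Normal] (hK : (Nat.card K).Coprime p)
    (hP : IsPGroup p P) (hn : (K ⊔ P).Normal) :
    ∃ e : (↥(normalizer (P : Set G)) ⧸ (centralizer (P : Set G)).subgroupOf (normalizer (P : Set G))) ≃*
      (↥(normalizer ((P.map (QuotientGroup.mk' K) : Subgroup (G ⧸ K)) : Set (G ⧸ K))) ⧸
        (centralizer ((P.map (QuotientGroup.mk' K) : Subgroup (G ⧸ K)) : Set (G ⧸ K))).subgroupOf
          (normalizer ((P.map (QuotientGroup.mk' K) : Subgroup (G ⧸ K)) : Set (G ⧸ K)))),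
      ∀ n : normalizer (P : Set G),
        e (QuotientGroup.mk' _ n) = QuotientGroup.mk' _ (psqNormHom K P n) := by
  set Cb := (centralizer ((P.map (QuotientGroup.mk' K) : Subgroup (G ⧸ K)) : Set (G ⧸ K))).subgroupOf
      (normalizer ((P.map (QuotientGroup.mk' K) : Subgroup (G ⧸ K)) : Set (G ⧸ K))) with hCb
  set φ := (QuotientGroup.mk' Cb).comp (psqNormHom K P) with hφ
  have hsurj : Function.Surjective φ :=
    (QuotientGroup.mk'_surjective Cb).comp (psqNormHom_surjective hK hP hn)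
  have hker : (centralizer (P : Set G)).subgroupOf (normalizer (P : Set G)) = φ.ker := by
    rw [hφ, ← MonoidHom.comap_ker, QuotientGroup.ker_mk', hCb, psq_comap_centralizer hK hP]
  refine ⟨(QuotientGroup.quotientMulEquivOfEq hker).trans
    (QuotientGroup.quotientKerEquivOfSurjective φ hsurj), ?_⟩
  intro n
  rfl


/-- transfer of the `p`-stability conclusion between `(A, P)` and `(AK/K, PK/K)` -/
theorem psq_transfer {K P A : Subgroup G} [K.Normal] (hK : (Nat.card K).Coprime p)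
    (hP : IsPGroup p P) (hn : (K ⊔ P).Normal) (hAN : A ≤ normalizer (P : Set G)) :
    ((A.subgroupOf (normalizer (P : Set G))).map
      (QuotientGroup.mk' ((centralizer (P : Set G)).subgroupOf (normalizer (P : Set G))))
        ≤ Cfsg.pCore p _) ↔
    (((A.map (QuotientGroup.mk' K)).subgroupOf
      (normalizer ((P.map (QuotientGroup.mk' K) : Subgroup (G ⧸ K)) : Set (G ⧸ K)))).map
      (QuotientGroup.mk' ((centralizer ((P.map (QuotientGroup.mk' K) : Subgroup (G ⧸ K)) : Set (G ⧸ K))).subgroupOf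
        (normalizer ((P.map (QuotientGroup.mk' K) : Subgroup (G ⧸ K)) : Set (G ⧸ K)))))
        ≤ Cfsg.pCore p _) := by
  obtain ⟨e, he⟩ := psq_exists_equiv hK hP hn
  constructor
  · intro h
    rintro _ ⟨y, hy, rfl⟩
    rw [SetLike.mem_coe, mem_subgroupOf] at hy
    obtain ⟨a, ha, hay⟩ := hy
    have hy' : y = psqNormHom K P ⟨a, hAN ha⟩ := by
      apply Subtype.ext
      rw [psqNormHom_coe]
      exact hay.symm
    rw [hy', ← he, mem_pCore_equiv]
    apply h
    refine mem_map_of_mem _ ?_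
    rw [mem_subgroupOf]
    exact ha
  · intro h
    rintro _ ⟨n, hn', rfl⟩
    rw [SetLike.mem_coe, mem_subgroupOf] at hn'
    rw [← mem_pCore_equiv p e, he]
    apply h
    refine mem_map_of_mem _ ?_
    rw [mem_subgroupOf, psqNormHom_coe]
    exact mem_map_of_mem _ hn'

theorem psq_exists_pLift {K : Subgroup G} [K.Normal] (hK : (Nat.card K).Coprime p)
    (U : Subgroup (G ⧸ K)) (hU : IsPGroup p U) :
    ∃ P : Subgroup G, IsPGroup p P ∧ P.map (QuotientGroup.mk' K) = U := by
  have P₀ : Sylow p (U.comap (QuotientGroup.mk' K)) := default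
  exact ⟨_, P₀.isPGroup'.map _, psq_sylow_comap_map hK U hU _ rfl P₀⟩

theorem psq_sup_eq_comap (K P : Subgroup G) [K.Normal] :
    K ⊔ P = (P.map (QuotientGroup.mk' K)).comap (QuotientGroup.mk' K) := by
  rw [comap_map_eq, QuotientGroup.ker_mk', sup_comm]

theorem psq_commutator_le {P A : Subgroup G} (hAN : A ≤ normalizer (P : Set G)) {Q : Subgroup G}
    (hQ : Q ≤ P) : ⁅Q, A⁆ ≤ P := by
  rw [commutator_le]
  intro x hx a ha
  have h1 : a * x⁻¹ * a⁻¹ ∈ P := (mem_normalizer_iff.mp (hAN ha) x⁻¹).mp (P.inv_mem (hQ hx))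
  have h2 : ⁅x, a⁆ = x * (a * x⁻¹ * a⁻¹) := by
    rw [commutatorElement_def]; group
  rw [h2]
  exact P.mul_mem (hQ hx) h1

/-- The conclusion of `p`-stability holds in `G/O_{p'}(G)` for normal `p`-subgroups. -/
theorem psq_core (hs : Cfsg.IsPStable p G) (Pb Ab : Subgroup (G ⧸ Cfsg.pPrimeCore p G))
    (hPn : Pb.Normal) (hPb : IsPGroup p Pb) (hAb : IsPGroup p Ab) (hq : ⁅⁅Pb, Ab⁆, Ab⁆ = ⊥) :
    (Ab.subgroupOf (normalizer (Pb : Set (G ⧸ Cfsg.pPrimeCore p G)))).map
      (QuotientGroup.mk' ((centralizer (Pb : Set (G ⧸ Cfsg.pPrimeCore p G))).subgroupOf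
        (normalizer (Pb : Set (G ⧸ Cfsg.pPrimeCore p G))))) ≤ Cfsg.pCore p _ := by
  have hK : (Nat.card (Cfsg.pPrimeCore p G)).Coprime p := Cfsg.Agent.Helper19.pPrimeCore_coprime p
  obtain ⟨P, hP, rfl⟩ := psq_exists_pLift hK Pb hPb
  have hn : (Cfsg.pPrimeCore p G ⊔ P).Normal := by
    rw [psq_sup_eq_comap]
    exact hPn.comap _
  obtain ⟨A, hAN, hA, rfl⟩ := psq_exists_lift hK hP hn Ab hAb
  rw [← psq_transfer hK hP hn hAN]
  apply hs.2.2 A P hA hP
  · exact fun a ha x hx => (mem_normalizer_iff.mp (hAN ha) x).mp hx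
  · show P ≤ (Cfsg.pCore p (G ⧸ Cfsg.pPrimeCore p G)).comap (QuotientGroup.mk' _)
    rw [← map_le_iff_le_comap]
    exact Cfsg.Agent.Helper14.le_pCore p hPn hPb
  · exact hn
  · have h0 : ⁅P, A⁆ ≤ P := psq_commutator_le hAN le_rfl
    have h1 : ⁅⁅P, A⁆, A⁆ ≤ P := psq_commutator_le hAN h0
    have h2 : ⁅⁅P, A⁆, A⁆ ≤ Cfsg.pPrimeCore p G := by
      have h3 : (⁅⁅P, A⁆, A⁆).map (QuotientGroup.mk' (Cfsg.pPrimeCore p G)) = ⊥ := by
        rw [map_commutator, map_commutator, hq]
      rw [Subgroup.map_eq_bot_iff, QuotientGroup.ker_mk'] at h3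
      exact h3
    rw [eq_bot_iff, ← psq_inf_eq_bot hK hP]
    exact le_inf h1 h2


/-- `G/O_{p'}(G)` satisfies the `p`-stability hypothesis of the generic `ZJ`-theorem. -/
theorem stabHypSub_quotient (hs : Cfsg.IsPStable p G) :
    StabHypSub p (G ⧸ Cfsg.pPrimeCore p G) := by
  intro Pb hPn hPb
  have hNtop : normalizer (Pb : Set (G ⧸ Cfsg.pPrimeCore p G)) = ⊤ :=
    normalizer_eq_top_iff.mpr hPn
  refine ⟨((Cfsg.pCore p _).comap (QuotientGroup.mk'
    ((centralizer (Pb : Set (G ⧸ Cfsg.pPrimeCore p G))).subgroupOf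
      (normalizer (Pb : Set (G ⧸ Cfsg.pPrimeCore p G)))))).map
        (normalizer (Pb : Set (G ⧸ Cfsg.pPrimeCore p G))).subtype, ?_, ?_, ?_, ?_⟩
  · constructor
    rintro _ ⟨y, hy, rfl⟩ g
    have hg : g ∈ normalizer (Pb : Set (G ⧸ Cfsg.pPrimeCore p G)) := hNtop ▸ mem_top g
    refine ⟨⟨g, hg⟩ * y * ⟨g, hg⟩⁻¹, ?_, rfl⟩
    have hnorm : ((Cfsg.pCore p _).comap (QuotientGroup.mk'
      ((centralizer (Pb : Set (G ⧸ Cfsg.pPrimeCore p G))).subgroupOf
        (normalizer (Pb : Set (G ⧸ Cfsg.pPrimeCore p G)))))).Normal :=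
      (Cfsg.Agent.Helper14.pCore_normal p).comap _
    exact hnorm.conj_mem y hy ⟨g, hg⟩
  · intro c hc
    have hcN : c ∈ normalizer (Pb : Set (G ⧸ Cfsg.pPrimeCore p G)) :=
      centralizer_le_normalizer _ hc
    refine ⟨⟨c, hcN⟩, ?_, rfl⟩
    rw [SetLike.mem_coe, mem_comap]
    have h1 : QuotientGroup.mk' ((centralizer (Pb : Set (G ⧸ Cfsg.pPrimeCore p G))).subgroupOf
        (normalizer (Pb : Set (G ⧸ Cfsg.pPrimeCore p G)))) ⟨c, hcN⟩ = 1 := by
      rw [QuotientGroup.mk'_apply, QuotientGroup.eq_one_iff, mem_subgroupOf]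
      exact hc
    rw [h1]
    exact one_mem _
  · rintro _ ⟨y, hy, rfl⟩
    rw [SetLike.mem_coe, mem_comap] at hy
    obtain ⟨k, hk⟩ := (Cfsg.Agent.Helper14.pCore_isPGroup p) ⟨_, hy⟩
    refine ⟨k, ?_⟩
    have h2 := congrArg Subtype.val hk
    simp only [SubmonoidClass.coe_pow, OneMemClass.coe_one] at h2
    rw [← map_pow, QuotientGroup.mk'_apply, QuotientGroup.eq_one_iff, mem_subgroupOf] at h2
    simpa using h2
  · intro Ab hAb hq a ha
    have haN : a ∈ normalizer (Pb : Set (G ⧸ Cfsg.pPrimeCore p G)) := hNtop ▸ mem_top a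
    refine ⟨⟨a, haN⟩, ?_, rfl⟩
    rw [SetLike.mem_coe, mem_comap]
    apply psq_core hs Pb Ab hPn hPb hAb hq
    refine mem_map_of_mem _ ?_
    rw [mem_subgroupOf]
    exact ha

theorem centralizer_pCore_quotient_le_of_isPConstrained (hc : Cfsg.IsPConstrained p G) :
    centralizer (Cfsg.pCore p (G ⧸ Cfsg.pPrimeCore p G) : Set (G ⧸ Cfsg.pPrimeCore p G)) ≤
      Cfsg.pCore p (G ⧸ Cfsg.pPrimeCore p G) := by
  rw [← Cfsg.Agent.Helper7.layer_quotient_eq_bot_iff, ← Cfsg.Agent.Helper7.pLayer_eq_bot_iff,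
    ← Cfsg.Agent.Helper7.isPConstrained_iff]
  exact hc

/-- Glauberman's `ZJ`-theorem for `p`-constrained `p`-stable groups: the factorization. -/
theorem zj_factorization (hp2 : p ≠ 2) (hc : Cfsg.IsPConstrained p G) (hs : Cfsg.IsPStable p G)
    (S : Sylow p G) :
    Cfsg.pPrimeCore p G ⊔ normalizer (Cfsg.centerThompsonAOf (S : Subgroup G) : Set G) = ⊤ := by
  have hK : (Nat.card (Cfsg.pPrimeCore p G)).Coprime p := Cfsg.Agent.Helper19.pPrimeCore_coprime p
  have hnorm : (sInf (famEl 0 ((S.mapSurjective (QuotientGroup.mk'_surjective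
      (Cfsg.pPrimeCore p G)) : Sylow p (G ⧸ Cfsg.pPrimeCore p G)) :
        Subgroup (G ⧸ Cfsg.pPrimeCore p G)))).Normal :=
    (zjFamily_famEl hp2 0 (Or.inl rfl)).normal_sInf' (stabHypSub_quotient hs)
      (centralizer_pCore_quotient_le_of_isPConstrained hc) _
  have hmap : Cfsg.centerThompsonAOf ((S : Subgroup G).map (QuotientGroup.mk' (Cfsg.pPrimeCore p G)))
      = (Cfsg.centerThompsonAOf (S : Subgroup G)).map (QuotientGroup.mk' (Cfsg.pPrimeCore p G)) :=
    (Cfsg.Agent.Lead.TNC.zjAFunctor p).map (QuotientGroup.mk' (Cfsg.pPrimeCore p G)) S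
      (psq_injOn hK S.isPGroup')
  rw [← centerThompsonAOf_eq, Sylow.coe_mapSurjective, hmap] at hnorm
  have hZ : IsPGroup p (Cfsg.centerThompsonAOf (S : Subgroup G)) :=
    S.isPGroup'.to_le ((Cfsg.Agent.Lead.TNC.zjAFunctor p).le (S : Subgroup G))
  apply psq_frattini hK hZ
  rw [psq_sup_eq_comap]
  exact hnorm.comap _

/-- `p`-stability passes to `G/O_{p'}(G)`. -/
theorem isPStable_quotient (hs : Cfsg.IsPStable p G) :
    Cfsg.IsPStable p (G ⧸ Cfsg.pPrimeCore p G) := by
  have hK : (Nat.card (Cfsg.pPrimeCore p G)).Coprime p := Cfsg.Agent.Helper19.pPrimeCore_coprime p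
  refine ⟨hs.1, ?_, ?_⟩
  · intro h0
    apply hs.2.1
    have h1 : (Cfsg.pCore p G).map (QuotientGroup.mk' (Cfsg.pPrimeCore p G)) ≤
        Cfsg.pCore p (G ⧸ Cfsg.pPrimeCore p G) :=
      Cfsg.Agent.Helper14.le_pCore p
        ((Cfsg.Agent.Helper14.pCore_normal p).map _ (QuotientGroup.mk'_surjective _))
        ((Cfsg.Agent.Helper14.pCore_isPGroup p).map _)
    rw [h0, le_bot_iff, Subgroup.map_eq_bot_iff, QuotientGroup.ker_mk'] at h1
    rw [eq_bot_iff, ← psq_inf_eq_bot hK (Cfsg.Agent.Helper14.pCore_isPGroup (G := G) p)]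
    exact le_inf le_rfl h1
  · intro Ab Pb hAb hPb _ _ hnormal hq
    rw [Cfsg.Agent.Helper7.pPrimeCore_quotient_eq_bot, bot_sup_eq] at hnormal
    exact psq_core hs Pb Ab hnormal hPb hAb hq

/-- `p`-stability lifts from `G/O_{p'}(G)`. -/
theorem isPStable_of_quotient (hO : Cfsg.pCore p G ≠ ⊥)
    (hsb : Cfsg.IsPStable p (G ⧸ Cfsg.pPrimeCore p G)) : Cfsg.IsPStable p G := by
  have hK : (Nat.card (Cfsg.pPrimeCore p G)).Coprime p := Cfsg.Agent.Helper19.pPrimeCore_coprime p
  refine ⟨hsb.1, hO, ?_⟩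
  intro A P hA hP hnorm hle hnormal hq
  have hAN : A ≤ normalizer (P : Set G) := by
    intro a ha
    rw [mem_normalizer_iff]
    intro x
    constructor
    · exact hnorm a ha x
    · intro hx
      have h1 := hnorm a⁻¹ (A.inv_mem ha) _ hx
      have h2 : a⁻¹ * (a * x * a⁻¹) * a⁻¹⁻¹ = x := by group
      rwa [h2] at h1
  have hPbn : (P.map (QuotientGroup.mk' (Cfsg.pPrimeCore p G))).Normal := by
    have h1 := hnormal.map (QuotientGroup.mk' (Cfsg.pPrimeCore p G)) (QuotientGroup.mk'_surjective _)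
    have h2 : (Cfsg.pPrimeCore p G).map (QuotientGroup.mk' (Cfsg.pPrimeCore p G)) = ⊥ := by
      rw [Subgroup.map_eq_bot_iff, QuotientGroup.ker_mk']
    rwa [Subgroup.map_sup, h2, bot_sup_eq] at h1
  rw [psq_transfer hK hP hnormal hAN]
  apply hsb.2.2 _ _ (hA.map _) (hP.map _)
  · rintro _ ⟨a, ha, rfl⟩ _ ⟨x, hx, rfl⟩
    exact ⟨a * x * a⁻¹, hnorm a ha x hx, by simp⟩
  · show P.map (QuotientGroup.mk' (Cfsg.pPrimeCore p G)) ≤
      (Cfsg.pCore p _).comap (QuotientGroup.mk' _)
    rw [← map_le_iff_le_comap]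
    exact Cfsg.Agent.Helper14.le_pCore p (hPbn.map _ (QuotientGroup.mk'_surjective _))
      ((hP.map _).map _)
  · rw [Cfsg.Agent.Helper7.pPrimeCore_quotient_eq_bot, bot_sup_eq]
    exact hPbn
  · rw [← map_commutator, ← map_commutator, hq, Subgroup.map_bot]


end PSQ

end Cfsg.Agent.Helper26
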