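import Mathlib

set_option autoImplicit false
set_option linter.unusedSectionVars false
set_option linter.unusedVariables false
set_option linter.style.haveILetI false

/-! # Two quadratically acting generators: the two-dimensional section

A group `H = ⟨a, b⟩` acting on a finite-dimensional space over a field `K` of characteristic `p`
with `a, b` acting quadratically, not acting as a `p`-group, and such that `X ^ n - 1` splits over
`K` for some `n` with `(a b) ^ n = 1`, has a homomorphism to `SL₂(K)` whose image is not a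
`p`-group. -/

namespace Cfsg.Agent.Helper26

open Polynomial

universe v

section Defs

variable {K : Type*} [Field K] {H : Type*} [Group H]
variable {W : Type v} [AddCommGroup W] [Module K W]

/-- `A` acts quadratically: `(A - 1)² = 0`, elementwise. -/
def IsQuadEnd (A : Module.End K W) : Prop := ∀ w : W, A (A w - w) = A w - w

/-- the representation is `p`-group valued -/
def IsPRep (p : ℕ) (ρ : H →* Module.End K W) : Prop := ∀ h : H, ∃ k : ℕ, ρ (h ^ p ^ k) = 1

theorem IsQuadEnd.pow_apply {A : Module.End K W} (hA : IsQuadEnd A) (k : ℕ) (w : W) :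
    (A ^ k) w = w + (k : K) • (A w - w) := by
  induction k with
  | zero => simp
  | succ k ih =>
    rw [pow_succ', Module.End.mul_apply, ih, map_add, map_smul, hA w]
    push_cast
    rw [add_smul, one_smul]
    abel

theorem IsQuadEnd.pow_char {A : Module.End K W} (hA : IsQuadEnd A) (p : ℕ) [CharP K p] :
    A ^ p = 1 := by
  ext w
  rw [hA.pow_apply, CharP.cast_eq_zero, zero_smul, add_zero, Module.End.one_apply]

/-- restriction of a representation to an invariant subspace -/
def subRep (ρ : H →* Module.End K W) (W' : Submodule K W)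
    (hinv : ∀ h : H, ∀ w ∈ W', ρ h w ∈ W') : H →* Module.End K W' where
  toFun h := (ρ h).restrict (hinv h)
  map_one' := by
    ext w
    simp
  map_mul' g h := by
    ext w
    simp

@[simp] theorem subRep_apply (ρ : H →* Module.End K W) (W' : Submodule K W)
    (hinv : ∀ h : H, ∀ w ∈ W', ρ h w ∈ W') (h : H) (w : W') :
    ((subRep ρ W' hinv h) w : W) = ρ h (w : W) := rfl

/-- the representation on the quotient by an invariant subspace -/
def quotRep (ρ : H →* Module.End K W) (W' : Submodule K W)
    (hinv : ∀ h : H, ∀ w ∈ W', ρ h w ∈ W') : H →* Module.End K (W ⧸ W') where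
  toFun h := W'.mapQ W' (ρ h) (fun w hw => hinv h w hw)
  map_one' := by
    apply Submodule.linearMap_qext
    ext w
    simp
  map_mul' g h := by
    apply Submodule.linearMap_qext
    ext w
    simp

@[simp] theorem quotRep_apply (ρ : H →* Module.End K W) (W' : Submodule K W)
    (hinv : ∀ h : H, ∀ w ∈ W', ρ h w ∈ W') (h : H) (w : W) :
    (quotRep ρ W' hinv h) (Submodule.Quotient.mk w) = Submodule.Quotient.mk (ρ h w) := rfl

theorem isQuadEnd_of_sub_quot_trivial (ρ : H →* Module.End K W) (W' : Submodule K W)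
    (hinv : ∀ h : H, ∀ w ∈ W', ρ h w ∈ W') (g : H) (hg1 : subRep ρ W' hinv g = 1)
    (hg2 : quotRep ρ W' hinv g = 1) : IsQuadEnd (ρ g) := by
  intro w
  have hw : ρ g w - w ∈ W' := by
    have := congrArg (fun f => f (Submodule.Quotient.mk w)) hg2
    simp only [quotRep_apply, Module.End.one_apply] at this
    exact (Submodule.Quotient.eq W').mp this
  have := congrArg (fun f => ((f ⟨ρ g w - w, hw⟩ : W') : W)) hg1
  simp only [subRep_apply, Module.End.one_apply] at this
  exact this

theorem isPRep_of_sub_quot (p : ℕ) [CharP K p] (ρ : H →* Module.End K W) (W' : Submodule K W)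
    (hinv : ∀ h : H, ∀ w ∈ W', ρ h w ∈ W') (h1 : IsPRep p (subRep ρ W' hinv))
    (h2 : IsPRep p (quotRep ρ W' hinv)) : IsPRep p ρ := by
  intro h
  obtain ⟨k1, hk1⟩ := h1 h
  obtain ⟨k2, hk2⟩ := h2 h
  have hg1 : subRep ρ W' hinv (h ^ p ^ (k1 + k2)) = 1 := by
    rw [pow_add, pow_mul, map_pow, hk1, one_pow]
  have hg2 : quotRep ρ W' hinv (h ^ p ^ (k1 + k2)) = 1 := by
    rw [pow_add, mul_comm, pow_mul, map_pow, hk2, one_pow]
  have hq := isQuadEnd_of_sub_quot_trivial ρ W' hinv _ hg1 hg2
  refine ⟨k1 + k2 + 1, ?_⟩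
  rw [pow_succ, pow_mul, map_pow]
  exact hq.pow_char p

theorem IsQuadEnd.sq_apply {A : Module.End K W} (hA : IsQuadEnd A) (v : W) :
    A (A v) = (2 : K) • A v - v := by
  have := hA v
  rw [map_sub] at this
  rw [two_smul]
  have h2 : A (A v) = A v - v + A v := by rw [← this]; abel
  rw [h2]; abel

theorem IsQuadEnd.inv_apply (ρ : H →* Module.End K W) {a : H} (hA : IsQuadEnd (ρ a)) (v : W) :
    ρ a⁻¹ v = (2 : K) • v - ρ a v := by
  have h1 : ρ a ((2 : K) • v - ρ a v) = v := by
    rw [map_sub, map_smul, hA.sq_apply]; abel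
  have h2 : ρ a⁻¹ (ρ a ((2 : K) • v - ρ a v)) = (2 : K) • v - ρ a v := by
    rw [← Module.End.mul_apply, ← map_mul, inv_mul_cancel, map_one, Module.End.one_apply]
  rw [h1] at h2
  exact h2

/-- the subgroup of elements preserving (together with their inverses) a subspace -/
def stabSub (ρ : H →* Module.End K W) (W₀ : Submodule K W) : Subgroup H where
  carrier := {h | ∀ v ∈ W₀, ρ h v ∈ W₀ ∧ ρ h⁻¹ v ∈ W₀}
  one_mem' := by
    intro v hv
    simp [hv]
  mul_mem' := by
    intro g h hg hh v hv
    constructor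
    · rw [map_mul, Module.End.mul_apply]
      exact (hg _ (hh v hv).1).1
    · rw [mul_inv_rev, map_mul, Module.End.mul_apply]
      exact (hh _ (hg v hv).2).2
  inv_mem' := by
    intro g hg v hv
    rw [inv_inv]
    exact ⟨(hg v hv).2, (hg v hv).1⟩

theorem mem_stabSub_of_quad (ρ : H →* Module.End K W) (W₀ : Submodule K W) {a : H}
    (hA : IsQuadEnd (ρ a)) (h : ∀ v ∈ W₀, ρ a v ∈ W₀) : a ∈ stabSub ρ W₀ := by
  intro v hv
  refine ⟨h v hv, ?_⟩
  rw [hA.inv_apply]
  exact W₀.sub_mem (W₀.smul_mem _ hv) (h v hv)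

theorem eq_one_of_closure (ρ : H →* Module.End K W) (a b : H)
    (hab : Subgroup.closure ({a, b} : Set H) = ⊤) (ha : ρ a = 1) (hb : ρ b = 1) (h : H) :
    ρ h = 1 := by
  have : Subgroup.closure ({a, b} : Set H) ≤ ρ.ker := by
    rw [Subgroup.closure_le]
    intro x hx
    rcases hx with rfl | hx
    · exact ha
    · rw [Set.mem_singleton_iff] at hx
      subst hx
      exact hb
  rw [hab] at this
  exact this (Subgroup.mem_top h)

/-- In the irreducible case with an eigenvector for `a b`, the dimension is two. -/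
theorem finrank_eq_two_of_irreducible (p : ℕ) (ρ : H →* Module.End K W) (a b : H)
    (hab : Subgroup.closure ({a, b} : Set H) = ⊤)
    (hA : IsQuadEnd (ρ a)) (hB : IsQuadEnd (ρ b))
    (hirr : ∀ W' : Submodule K W, (∀ h : H, ∀ w ∈ W', ρ h w ∈ W') → W' = ⊥ ∨ W' = ⊤)
    (μ : K) (w : W) (hw : w ≠ 0) (hμ : ρ (a * b) w = μ • w)
    (hnp : ¬ IsPRep p ρ) : Module.finrank K W = 2 := by
  have hμ0 : μ ≠ 0 := by
    intro h0
    rw [h0, zero_smul] at hμ
    apply hw
    have : ρ (a * b)⁻¹ (ρ (a * b) w) = w := by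
      rw [← Module.End.mul_apply, ← map_mul, inv_mul_cancel, map_one, Module.End.one_apply]
    rw [hμ, map_zero] at this
    exact this.symm
  have hBw : ρ b w = μ • ((2 : K) • w - ρ a w) := by
    have h1 : ρ a (ρ b w) = μ • w := by
      rw [← Module.End.mul_apply, ← map_mul]; exact hμ
    have h2 : ρ a⁻¹ (ρ a (ρ b w)) = ρ b w := by
      rw [← Module.End.mul_apply, ← map_mul, inv_mul_cancel, map_one, Module.End.one_apply]
    rw [h1, map_smul, hA.inv_apply] at h2
    exact h2.symm
  have hAw : ρ a w = (2 : K) • w - μ⁻¹ • ρ b w := by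
    rw [hBw, smul_smul, inv_mul_cancel₀ hμ0, one_smul]; abel
  set W₀ : Submodule K W := Submodule.span K {w, ρ a w} with hW₀
  have hw0 : w ∈ W₀ := Submodule.subset_span (Set.mem_insert _ _)
  have haw0 : ρ a w ∈ W₀ := Submodule.subset_span (Set.mem_insert_of_mem _ rfl)
  have hbw0 : ρ b w ∈ W₀ := by
    rw [hBw]
    exact W₀.smul_mem _ (W₀.sub_mem (W₀.smul_mem _ hw0) haw0)
  have hainv : ∀ v ∈ W₀, ρ a v ∈ W₀ := by
    intro v hv
    have : W₀ ≤ W₀.comap (ρ a) := by
      rw [hW₀, Submodule.span_le]
      intro x hx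
      rcases hx with rfl | hx
      · exact haw0
      · rw [Set.mem_singleton_iff] at hx
        subst hx
        show ρ a (ρ a w) ∈ W₀
        rw [hA.sq_apply]
        exact W₀.sub_mem (W₀.smul_mem _ haw0) hw0
    exact this hv
  have hbinv : ∀ v ∈ W₀, ρ b v ∈ W₀ := by
    intro v hv
    have : W₀ ≤ W₀.comap (ρ b) := by
      rw [hW₀, Submodule.span_le]
      intro x hx
      rcases hx with rfl | hx
      · exact hbw0
      · rw [Set.mem_singleton_iff] at hx
        subst hx
        show ρ b (ρ a w) ∈ W₀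
        rw [hAw, map_sub, map_smul, map_smul, hB.sq_apply]
        exact W₀.sub_mem (W₀.smul_mem _ hbw0)
          (W₀.smul_mem _ (W₀.sub_mem (W₀.smul_mem _ hbw0) hw0))
    exact this hv
  have hstab : stabSub ρ W₀ = ⊤ := by
    rw [eq_top_iff, ← hab, Subgroup.closure_le]
    intro x hx
    rcases hx with rfl | hx
    · exact mem_stabSub_of_quad ρ W₀ hA hainv
    · rw [Set.mem_singleton_iff] at hx
      subst hx
      exact mem_stabSub_of_quad ρ W₀ hB hbinv
  have hinv : ∀ h : H, ∀ v ∈ W₀, ρ h v ∈ W₀ := by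
    intro h v hv
    have : h ∈ stabSub ρ W₀ := hstab ▸ Subgroup.mem_top h
    exact (this v hv).1
  have htop : W₀ = ⊤ := by
    rcases hirr W₀ hinv with h | h
    · exfalso
      apply hw
      have := hw0
      rw [h] at this
      exact (Submodule.mem_bot K).mp this
    · exact h
  by_cases hdep : ρ a w ∈ Submodule.span K {w}
  · exfalso
    obtain ⟨l, hl⟩ := Submodule.mem_span_singleton.mp hdep
    have hspan : Submodule.span K {w} = ⊤ := by
      rw [eq_top_iff, ← htop, hW₀, Submodule.span_le]
      intro x hx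
      rcases hx with rfl | hx
      · exact Submodule.subset_span rfl
      · rw [Set.mem_singleton_iff] at hx
        subst hx
        exact hdep
    have hsq : ∀ c : K, ((c - 1) * c) • w = (c - 1) • w → c = 1 := by
      intro c hc
      have h1 : ((c - 1) * (c - 1)) • w = 0 := by
        have : ((c - 1) * (c - 1)) • w = ((c - 1) * c) • w - (c - 1) • w := by
          rw [← sub_smul]; congr 1; ring
        rw [this, hc, sub_self]
      rcases smul_eq_zero.mp h1 with h | h
      · rcases mul_self_eq_zero.mp h with h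
        linear_combination h
      · exact absurd h hw
    have hl1 : l = 1 := by
      apply hsq
      have h1 := hA w
      have e : ρ a w - w = (l - 1) • w := by rw [← hl, sub_smul, one_smul]
      rw [e, map_smul, ← hl, smul_smul] at h1
      exact h1
    rw [hl1, one_smul] at hl
    have hBw' : ρ b w = μ • w := by
      rw [hBw, ← hl, two_smul]; congr 1; abel
    have hμ1 : μ = 1 := by
      apply hsq
      have h1 := hB w
      have e : ρ b w - w = (μ - 1) • w := by rw [hBw', sub_smul, one_smul]
      rw [e, map_smul, hBw', smul_smul] at h1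
      exact h1
    rw [hμ1, one_smul] at hBw'
    have hall : ∀ (A : Module.End K W), A w = w → A = 1 := by
      intro A hAw
      ext v
      have hv : v ∈ Submodule.span K {w} := hspan ▸ Submodule.mem_top
      obtain ⟨c, rfl⟩ := Submodule.mem_span_singleton.mp hv
      rw [map_smul, hAw, Module.End.one_apply]
    have ha1 := hall (ρ a) hl.symm
    have hb1 := hall (ρ b) hBw'
    apply hnp
    intro h
    exact ⟨0, eq_one_of_closure ρ a b hab ha1 hb1 _⟩
  · have hli : LinearIndependent K ![ρ a w, w] := by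
      rw [linearIndependent_fin2]
      refine ⟨hw, ?_⟩
      intro c hc
      apply hdep
      exact Submodule.mem_span_singleton.mpr ⟨c, hc⟩
    have hsp : ⊤ ≤ Submodule.span K (Set.range ![ρ a w, w]) := by
      rw [← htop, hW₀, Submodule.span_le]
      intro x hx
      rcases hx with rfl | hx
      · exact Submodule.subset_span ⟨1, rfl⟩
      · rw [Set.mem_singleton_iff] at hx
        subst hx
        exact Submodule.subset_span ⟨0, rfl⟩
    have := Module.finrank_eq_card_basis (Module.Basis.mk hli hsp)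
    rw [this]
    simp

/-- A two-dimensional representation generated by two quadratic elements maps to `SL₂(K)`. -/
theorem exists_hom_sl2_of_finrank_two (p : ℕ) [hp : Fact p.Prime] [CharP K p]
    (ρ : H →* Module.End K W) (a b : H)
    (hab : Subgroup.closure ({a, b} : Set H) = ⊤)
    (hA : IsQuadEnd (ρ a)) (hB : IsQuadEnd (ρ b)) (h2 : Module.finrank K W = 2)
    (hnp : ¬ IsPRep p ρ) :
    ∃ φ : H →* Matrix.SpecialLinearGroup (Fin 2) K, ¬ IsPGroup p φ.range := by
  classical
  haveI : Module.Finite K W := Module.finite_of_finrank_eq_succ h2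
  let 𝔟 := Module.finBasisOfFinrankEq K W h2
  let E := LinearMap.toMatrixAlgEquiv 𝔟
  let φ₀ : H →* Matrix (Fin 2) (Fin 2) K :=
    { toFun := fun h => E (ρ h)
      map_one' := by rw [map_one, map_one]
      map_mul' := fun g h => by rw [map_mul, map_mul] }
  have hdetq : ∀ x : H, IsQuadEnd (ρ x) → (φ₀ x).det = 1 := by
    intro x hx
    have h1 : (φ₀ x) ^ p = 1 := by
      show (E (ρ x)) ^ p = 1
      rw [← map_pow, hx.pow_char p, map_one]
    have h3 : (φ₀ x).det ^ p = 1 := by rw [← Matrix.det_pow, h1, Matrix.det_one]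
    have h4 : ((φ₀ x).det - 1) ^ p = 0 := by rw [sub_pow_char, h3, one_pow, sub_self]
    have := pow_eq_zero_iff (hp.out.ne_zero) |>.mp h4
    linear_combination this
  have hdet : ∀ h : H, (φ₀ h).det = 1 := by
    let D : H →* K := Matrix.detMonoidHom.comp φ₀
    have : Subgroup.closure ({a, b} : Set H) ≤ D.ker := by
      rw [Subgroup.closure_le]
      intro x hx
      rcases hx with rfl | hx
      · exact hdetq _ hA
      · rw [Set.mem_singleton_iff] at hx
        subst hx
        exact hdetq _ hB
    rw [hab] at this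
    intro h
    exact this (Subgroup.mem_top h)
  let φ : H →* Matrix.SpecialLinearGroup (Fin 2) K :=
    { toFun := fun h => ⟨φ₀ h, hdet h⟩
      map_one' := by
        apply Subtype.ext
        show φ₀ 1 = 1
        exact map_one φ₀
      map_mul' := fun g h => by
        apply Subtype.ext
        show φ₀ (g * h) = φ₀ g * φ₀ h
        exact map_mul φ₀ g h }
  refine ⟨φ, ?_⟩
  intro hP
  apply hnp
  intro h
  obtain ⟨k, hk⟩ := hP ⟨φ h, ⟨h, rfl⟩⟩
  refine ⟨k, ?_⟩
  have h1 : φ (h ^ p ^ k) = 1 := by
    have := congrArg Subtype.val hk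
    simpa using this
  have h3 : φ₀ (h ^ p ^ k) = 1 := by
    have := congrArg Subtype.val h1
    exact this
  have h4 : E (ρ (h ^ p ^ k)) = E 1 := by rw [map_one]; exact h3
  exact E.injective h4

theorem isQuadEnd_subRep (ρ : H →* Module.End K W) (W' : Submodule K W)
    (hinv : ∀ h : H, ∀ w ∈ W', ρ h w ∈ W') {a : H} (hA : IsQuadEnd (ρ a)) :
    IsQuadEnd (subRep ρ W' hinv a) := by
  intro w
  apply Subtype.ext
  simp only [subRep_apply, Submodule.coe_sub]
  exact hA w

theorem isQuadEnd_quotRep (ρ : H →* Module.End K W) (W' : Submodule K W)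
    (hinv : ∀ h : H, ∀ w ∈ W', ρ h w ∈ W') {a : H} (hA : IsQuadEnd (ρ a)) :
    IsQuadEnd (quotRep ρ W' hinv a) := by
  intro w
  induction w using Submodule.Quotient.induction_on with
  | H w =>
    rw [quotRep_apply, ← Submodule.Quotient.mk_sub, quotRep_apply, hA w]

/-- **The two-dimensional section.** -/
theorem exists_hom_sl2 (p : ℕ) [hp : Fact p.Prime] [CharP K p] (a b : H)
    (hab : Subgroup.closure ({a, b} : Set H) = ⊤) (n : ℕ) (hn : 0 < n) (habn : (a * b) ^ n = 1)
    (hsplit : (X ^ n - 1 : K[X]).Splits) :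
    ∀ (d : ℕ) (W : Type v) [AddCommGroup W] [Module K W] [FiniteDimensional K W]
      (ρ : H →* Module.End K W), Module.finrank K W = d → IsQuadEnd (ρ a) → IsQuadEnd (ρ b) →
      ¬ IsPRep p ρ → ∃ φ : H →* Matrix.SpecialLinearGroup (Fin 2) K, ¬ IsPGroup p φ.range := by
  intro d
  induction d using Nat.strong_induction_on with
  | _ d ih =>
    intro W _ _ _ ρ hd hA hB hnp
    by_cases hred : ∃ W' : Submodule K W, (∀ h : H, ∀ w ∈ W', ρ h w ∈ W') ∧ W' ≠ ⊥ ∧ W' ≠ ⊤
    · obtain ⟨W', hinv, hbot, htop⟩ := hred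
      by_cases h1 : IsPRep p (subRep ρ W' hinv)
      · have h2 : ¬ IsPRep p (quotRep ρ W' hinv) :=
          fun h2 => hnp (isPRep_of_sub_quot p ρ W' hinv h1 h2)
        have hlt : Module.finrank K (W ⧸ W') < d := by
          rw [← hd]
          have h3 := Submodule.finrank_quotient_add_finrank W'
          have hpos : 0 < Module.finrank K W' := by
            rw [Module.finrank_pos_iff]
            exact Submodule.nontrivial_iff_ne_bot.mpr hbot
          omega
        exact ih _ hlt (W ⧸ W') (quotRep ρ W' hinv) rfl (isQuadEnd_quotRep ρ W' hinv hA)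
          (isQuadEnd_quotRep ρ W' hinv hB) h2
      · have hlt : Module.finrank K W' < d := by
          rw [← hd]
          exact Submodule.finrank_lt htop
        exact ih _ hlt W' (subRep ρ W' hinv) rfl (isQuadEnd_subRep ρ W' hinv hA)
          (isQuadEnd_subRep ρ W' hinv hB) h1
    · push Not at hred
      have hirr : ∀ W' : Submodule K W, (∀ h : H, ∀ w ∈ W', ρ h w ∈ W') → W' = ⊥ ∨ W' = ⊤ := by
        intro W' hinv
        by_contra hcon
        push Not at hcon
        exact hcon.2 (hred W' hinv hcon.1)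
      haveI : Nontrivial W := by
        by_contra hnt
        rw [not_nontrivial_iff_subsingleton] at hnt
        apply hnp
        intro h
        refine ⟨0, ?_⟩
        ext w
        exact Subsingleton.elim _ _
      have hcn : (ρ (a * b)) ^ n = 1 := by rw [← map_pow, habn, map_one]
      have hdvd : minpoly K (ρ (a * b)) ∣ X ^ n - 1 := by
        apply minpoly.dvd
        rw [map_sub, map_pow, aeval_X, map_one, hcn, sub_self]
      have hne : (X ^ n - 1 : K[X]) ≠ 0 := by
        have := X_pow_sub_C_ne_zero hn (1 : K)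
        simpa using this
      have hsp : (minpoly K (ρ (a * b))).Splits := hsplit.of_dvd hne hdvd
      have hdeg : (minpoly K (ρ (a * b))).degree ≠ 0 :=
        (minpoly.degree_pos (Algebra.IsIntegral.isIntegral _)).ne'
      obtain ⟨μ, hμ⟩ := hsp.exists_eval_eq_zero hdeg
      have hev : (ρ (a * b)).HasEigenvalue μ := Module.End.hasEigenvalue_of_isRoot hμ
      obtain ⟨w, hw⟩ := hev.exists_hasEigenvector
      have h2 := finrank_eq_two_of_irreducible p ρ a b hab hA hB hirr μ w hw.2
        hw.apply_eq_smul hnp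
      exact exists_hom_sl2_of_finrank_two p ρ a b hab hA hB h2 hnp

/-- `p`-group valued on a subgroup -/
def IsPRepOn (p : ℕ) (ρ : H →* Module.End K W) (Q : Subgroup H) : Prop :=
  ∀ h ∈ Q, ∃ k : ℕ, ρ (h ^ p ^ k) = 1

theorem isPRepOn_of_sub_quot (p : ℕ) [CharP K p] (ρ : H →* Module.End K W) (W' : Submodule K W)
    (hinv : ∀ h : H, ∀ w ∈ W', ρ h w ∈ W') (Q : Subgroup H)
    (h1 : IsPRepOn p (subRep ρ W' hinv) Q)
    (h2 : IsPRepOn p (quotRep ρ W' hinv) Q) : IsPRepOn p ρ Q := by
  intro h hh
  obtain ⟨k1, hk1⟩ := h1 h hh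
  obtain ⟨k2, hk2⟩ := h2 h hh
  have hg1 : subRep ρ W' hinv (h ^ p ^ (k1 + k2)) = 1 := by
    rw [pow_add, pow_mul, map_pow, hk1, one_pow]
  have hg2 : quotRep ρ W' hinv (h ^ p ^ (k1 + k2)) = 1 := by
    rw [pow_add, mul_comm, pow_mul, map_pow, hk2, one_pow]
  have hq := isQuadEnd_of_sub_quot_trivial ρ W' hinv _ hg1 hg2
  refine ⟨k1 + k2 + 1, ?_⟩
  rw [pow_succ, pow_mul, map_pow]
  exact hq.pow_char p

/-- Two-dimensional case, with control of the kernel and of quadratic elements. -/
theorem exists_hom_sl2_of_finrank_two' (p : ℕ) [hp : Fact p.Prime] [CharP K p]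
    (ρ : H →* Module.End K W) (a b : H)
    (hab : Subgroup.closure ({a, b} : Set H) = ⊤)
    (hA : IsQuadEnd (ρ a)) (hB : IsQuadEnd (ρ b)) (h2 : Module.finrank K W = 2) :
    ∃ φ : H →* Matrix.SpecialLinearGroup (Fin 2) K,
      (∀ x : H, IsQuadEnd (ρ x) → φ x ^ p = 1) ∧ ∀ h : H, φ h = 1 → ρ h = 1 := by
  classical
  haveI : Module.Finite K W := Module.finite_of_finrank_eq_succ h2
  let 𝔟 := Module.finBasisOfFinrankEq K W h2
  let E := LinearMap.toMatrixAlgEquiv 𝔟
  let φ₀ : H →* Matrix (Fin 2) (Fin 2) K :=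
    { toFun := fun h => E (ρ h)
      map_one' := by rw [map_one, map_one]
      map_mul' := fun g h => by rw [map_mul, map_mul] }
  have hpowq : ∀ x : H, IsQuadEnd (ρ x) → (φ₀ x) ^ p = 1 := by
    intro x hx
    show (E (ρ x)) ^ p = 1
    rw [← map_pow, hx.pow_char p, map_one]
  have hdetq : ∀ x : H, IsQuadEnd (ρ x) → (φ₀ x).det = 1 := by
    intro x hx
    have h1 : (φ₀ x) ^ p = 1 := hpowq x hx
    have h3 : (φ₀ x).det ^ p = 1 := by rw [← Matrix.det_pow, h1, Matrix.det_one]
    have h4 : ((φ₀ x).det - 1) ^ p = 0 := by rw [sub_pow_char, h3, one_pow, sub_self]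
    have := pow_eq_zero_iff (hp.out.ne_zero) |>.mp h4
    linear_combination this
  have hdet : ∀ h : H, (φ₀ h).det = 1 := by
    let D : H →* K := Matrix.detMonoidHom.comp φ₀
    have : Subgroup.closure ({a, b} : Set H) ≤ D.ker := by
      rw [Subgroup.closure_le]
      intro x hx
      rcases hx with rfl | hx
      · exact hdetq _ hA
      · rw [Set.mem_singleton_iff] at hx
        subst hx
        exact hdetq _ hB
    rw [hab] at this
    intro h
    exact this (Subgroup.mem_top h)
  let φ : H →* Matrix.SpecialLinearGroup (Fin 2) K :=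
    { toFun := fun h => ⟨φ₀ h, hdet h⟩
      map_one' := by
        apply Subtype.ext
        show φ₀ 1 = 1
        exact map_one φ₀
      map_mul' := fun g h => by
        apply Subtype.ext
        show φ₀ (g * h) = φ₀ g * φ₀ h
        exact map_mul φ₀ g h }
  refine ⟨φ, ?_, ?_⟩
  · intro x hx
    apply Subtype.ext
    rw [Matrix.SpecialLinearGroup.coe_pow]
    exact hpowq x hx
  · intro h hh
    have h3 : φ₀ h = 1 := by
      have := congrArg Subtype.val hh
      exact this
    have h4 : E (ρ h) = E 1 := by rw [map_one]; exact h3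
    exact E.injective h4

/-- **The two-dimensional section**, relative to a subgroup `Q`. -/
theorem exists_hom_sl2' (p : ℕ) [hp : Fact p.Prime] [CharP K p] (a b : H)
    (hab : Subgroup.closure ({a, b} : Set H) = ⊤) (n : ℕ) (hn : 0 < n) (habn : (a * b) ^ n = 1)
    (hsplit : (X ^ n - 1 : K[X]).Splits) (Q : Subgroup H) :
    ∀ (d : ℕ) (W : Type v) [AddCommGroup W] [Module K W] [FiniteDimensional K W]
      (ρ : H →* Module.End K W), Module.finrank K W = d → IsQuadEnd (ρ a) → IsQuadEnd (ρ b) →
      ¬ IsPRepOn p ρ Q → ∃ φ : H →* Matrix.SpecialLinearGroup (Fin 2) K,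
        (∀ x : H, IsQuadEnd (ρ x) → φ x ^ p = 1) ∧ ¬ IsPGroup p (Q.map φ) := by
  intro d
  induction d using Nat.strong_induction_on with
  | _ d ih =>
    intro W _ _ _ ρ hd hA hB hnp
    by_cases hred : ∃ W' : Submodule K W, (∀ h : H, ∀ w ∈ W', ρ h w ∈ W') ∧ W' ≠ ⊥ ∧ W' ≠ ⊤
    · obtain ⟨W', hinv, hbot, htop⟩ := hred
      by_cases h1 : IsPRepOn p (subRep ρ W' hinv) Q
      · have h2 : ¬ IsPRepOn p (quotRep ρ W' hinv) Q :=
          fun h2 => hnp (isPRepOn_of_sub_quot p ρ W' hinv Q h1 h2)
        have hlt : Module.finrank K (W ⧸ W') < d := by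
          rw [← hd]
          have h3 := Submodule.finrank_quotient_add_finrank W'
          have hpos : 0 < Module.finrank K W' := by
            rw [Module.finrank_pos_iff]
            exact Submodule.nontrivial_iff_ne_bot.mpr hbot
          omega
        obtain ⟨φ, hφ1, hφ2⟩ := ih _ hlt (W ⧸ W') (quotRep ρ W' hinv) rfl
          (isQuadEnd_quotRep ρ W' hinv hA) (isQuadEnd_quotRep ρ W' hinv hB) h2
        exact ⟨φ, fun x hx => hφ1 x (isQuadEnd_quotRep ρ W' hinv hx), hφ2⟩
      · have hlt : Module.finrank K W' < d := by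
          rw [← hd]
          exact Submodule.finrank_lt htop
        obtain ⟨φ, hφ1, hφ2⟩ := ih _ hlt W' (subRep ρ W' hinv) rfl
          (isQuadEnd_subRep ρ W' hinv hA) (isQuadEnd_subRep ρ W' hinv hB) h1
        exact ⟨φ, fun x hx => hφ1 x (isQuadEnd_subRep ρ W' hinv hx), hφ2⟩
    · push Not at hred
      have hirr : ∀ W' : Submodule K W, (∀ h : H, ∀ w ∈ W', ρ h w ∈ W') → W' = ⊥ ∨ W' = ⊤ := by
        intro W' hinv
        by_contra hcon
        push Not at hcon
        exact hcon.2 (hred W' hinv hcon.1)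
      have hnp' : ¬ IsPRep p ρ := fun hP => hnp (fun h _ => hP h)
      haveI : Nontrivial W := by
        by_contra hnt
        rw [not_nontrivial_iff_subsingleton] at hnt
        apply hnp'
        intro h
        refine ⟨0, ?_⟩
        ext w
        exact Subsingleton.elim _ _
      have hcn : (ρ (a * b)) ^ n = 1 := by rw [← map_pow, habn, map_one]
      have hdvd : minpoly K (ρ (a * b)) ∣ X ^ n - 1 := by
        apply minpoly.dvd
        rw [map_sub, map_pow, aeval_X, map_one, hcn, sub_self]
      have hne : (X ^ n - 1 : K[X]) ≠ 0 := by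
        have := X_pow_sub_C_ne_zero hn (1 : K)
        simpa using this
      have hsp : (minpoly K (ρ (a * b))).Splits := hsplit.of_dvd hne hdvd
      have hdeg : (minpoly K (ρ (a * b))).degree ≠ 0 :=
        (minpoly.degree_pos (Algebra.IsIntegral.isIntegral _)).ne'
      obtain ⟨μ, hμ⟩ := hsp.exists_eval_eq_zero hdeg
      have hev : (ρ (a * b)).HasEigenvalue μ := Module.End.hasEigenvalue_of_isRoot hμ
      obtain ⟨w, hw⟩ := hev.exists_hasEigenvector
      have h2 := finrank_eq_two_of_irreducible p ρ a b hab hA hB hirr μ w hw.2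
        hw.apply_eq_smul hnp'
      obtain ⟨φ, hφ1, hφ2⟩ := exists_hom_sl2_of_finrank_two' p ρ a b hab hA hB h2
      refine ⟨φ, hφ1, ?_⟩
      intro hP
      apply hnp
      intro h hh
      obtain ⟨k, hk⟩ := hP ⟨φ h, ⟨h, hh, rfl⟩⟩
      refine ⟨k, ?_⟩
      apply hφ2
      have := congrArg Subtype.val hk
      rw [map_pow]
      simpa using this

end Defs

end Cfsg.Agent.Helper26
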