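import Mathlib
import Cfsg.Agent.Helper26.QuadCore
import Cfsg.Agent.Helper26.SL2Odd
import Cfsg.Agent.Helper16.BaerSuzuki

set_option autoImplicit false
set_option linter.unusedSectionVars false
set_option linter.unusedVariables false
set_option linter.style.haveILetI false

/-! # Quadratic action and `p`-stability for groups with abelian Sylow `2`-subgroups -/

namespace Cfsg.Agent.Helper26

open Polynomial

section Ab2

variable {G : Type*} [Group G]

/-- every `2`-subgroup is abelian -/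
def Ab2 (G : Type*) [Group G] : Prop :=
  ∀ Q : Subgroup G, IsPGroup 2 Q → ∀ x ∈ Q, ∀ y ∈ Q, Commute x y

theorem ab2_of_sylow [Finite G] (T : Sylow 2 G)
    (hT : ∀ x ∈ (T : Subgroup G), ∀ y ∈ (T : Subgroup G), Commute x y) : Ab2 G := by
  intro Q hQ x hx y hy
  obtain ⟨T', hT'⟩ := hQ.exists_le_sylow
  obtain ⟨g, hg⟩ := MulAction.exists_smul_eq G T' T
  have hx' : g * x * g⁻¹ ∈ (T : Subgroup G) := by
    rw [← hg, Sylow.coe_subgroup_smul]
    have := Subgroup.smul_mem_pointwise_smul x (MulAut.conj g) (T' : Subgroup G) (hT' hx)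
    simpa [MulAut.smul_def] using this
  have hy' : g * y * g⁻¹ ∈ (T : Subgroup G) := by
    rw [← hg, Sylow.coe_subgroup_smul]
    have := Subgroup.smul_mem_pointwise_smul y (MulAut.conj g) (T' : Subgroup G) (hT' hy)
    simpa [MulAut.smul_def] using this
  have h := hT _ hx' _ hy'
  have h1 : g * (x * y) * g⁻¹ = g * (y * x) * g⁻¹ := by
    calc g * (x * y) * g⁻¹ = (g * x * g⁻¹) * (g * y * g⁻¹) := by group
      _ = (g * y * g⁻¹) * (g * x * g⁻¹) := h.eq
      _ = g * (y * x) * g⁻¹ := by group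
  exact mul_left_cancel (mul_right_cancel h1)

theorem Ab2.subgroup (h : Ab2 G) (H : Subgroup G) : Ab2 H := by
  intro Q hQ x hx y hy
  have := h (Q.map H.subtype) (hQ.map _) x (Subgroup.mem_map_of_mem _ hx) y
    (Subgroup.mem_map_of_mem _ hy)
  apply Subtype.ext
  exact this.eq

theorem Ab2.of_surjective [Finite G] (h : Ab2 G) {G' : Type*} [Group G'] (f : G →* G')
    (hf : Function.Surjective f) : Ab2 G' := by
  intro Q hQ x hx y hy
  obtain ⟨T', hT'⟩ := hQ.exists_le_sylow
  obtain ⟨T, rfl⟩ := Sylow.mapSurjective_surjective hf 2 T'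
  rw [Sylow.coe_mapSurjective] at hT'
  obtain ⟨x', hx', rfl⟩ := hT' hx
  obtain ⟨y', hy', rfl⟩ := hT' hy
  exact (h T T.2 x' hx' y' hy').map f

theorem ab2_of_odd [Finite G] (hodd : Odd (Nat.card G)) : Ab2 G := by
  intro Q hQ x hx y hy
  obtain ⟨k, hk⟩ := IsPGroup.iff_card.mp hQ
  have hdvd : Nat.card Q ∣ Nat.card G := Subgroup.card_subgroup_dvd_card Q
  have hk0 : k = 0 := by
    by_contra hk0
    have : 2 ∣ Nat.card G := (dvd_pow_self 2 hk0).trans (hk ▸ hdvd)
    exact (Nat.not_even_iff_odd.mpr hodd) (even_iff_two_dvd.mpr this)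
  rw [hk0, pow_zero] at hk
  have hbot : Q = ⊥ := Subgroup.card_eq_one.mp hk
  rw [hbot, Subgroup.mem_bot] at hx hy
  rw [hx, hy]

end Ab2

section Lin

variable {K : Type*} [Field K] {W : Type*} [AddCommGroup W] [Module K W]

theorem isQuadEnd_iff (A : Module.End K W) : IsQuadEnd A ↔ (A - 1) * (A - 1) = 0 := by
  constructor
  · intro h
    ext w
    simp only [Module.End.mul_apply, LinearMap.sub_apply, Module.End.one_apply,
      LinearMap.zero_apply]
    rw [h w, sub_self]
  · intro h w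
    have := congrArg (fun f => f w) h
    simp only [Module.End.mul_apply, LinearMap.sub_apply, Module.End.one_apply,
      LinearMap.zero_apply] at this
    exact sub_eq_zero.mp this

theorem IsQuadEnd.conj {H : Type*} [Group H] (ρ : H →* Module.End K W) {a : H}
    (hA : IsQuadEnd (ρ a)) (g : H) : IsQuadEnd (ρ (g * a * g⁻¹)) := by
  intro w
  have hgi : ∀ v, ρ g⁻¹ (ρ g v) = v := by
    intro v
    rw [← Module.End.mul_apply, ← map_mul, inv_mul_cancel, map_one, Module.End.one_apply]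
  have hgi' : ∀ v, ρ g (ρ g⁻¹ v) = v := by
    intro v
    rw [← Module.End.mul_apply, ← map_mul, mul_inv_cancel, map_one, Module.End.one_apply]
  have e : ∀ v, ρ (g * a * g⁻¹) v = ρ g (ρ a (ρ g⁻¹ v)) := by
    intro v
    rw [map_mul, map_mul, Module.End.mul_apply, Module.End.mul_apply]
  simp only [e, map_sub, hgi]
  rw [hA.sq_apply, map_sub, map_smul, hgi', two_smul]
  abel

end Lin

section LinearForm

variable {p : ℕ} [hp : Fact p.Prime] {H : Type*} [Group H] [Finite H]
variable {V : Type*} [AddCommGroup V] [Module (ZMod p) V] [Finite V]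

/-- Linear form, pair version: two quadratic generators, abelian `2`-subgroups: the group acts as
a `p`-group. -/
theorem isPRep_of_quad_pair (hp2 : p ≠ 2) (ρ : H →* Module.End (ZMod p) V) (a b : H)
    (hab : Subgroup.closure ({a, b} : Set H) = ⊤) (hA : IsQuadEnd (ρ a)) (hB : IsQuadEnd (ρ b))
    (h2 : Ab2 H) : IsPRep p ρ := by
  classical
  by_contra hnp
  let K := AlgebraicClosure (ZMod p)
  haveI : CharP K p := charP_of_injective_algebraMap (algebraMap (ZMod p) K).injective p
  let 𝔟 := Module.finBasis (ZMod p) V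
  let θ : Module.End (ZMod p) V →+* Module.End K (Fin (Module.finrank (ZMod p) V) → K) :=
    ((Matrix.toLinAlgEquiv' : Matrix (Fin (Module.finrank (ZMod p) V))
        (Fin (Module.finrank (ZMod p) V)) K ≃ₐ[K] _).toRingEquiv.toRingHom).comp
      (((algebraMap (ZMod p) K).mapMatrix).comp
        ((LinearMap.toMatrixAlgEquiv 𝔟 : Module.End (ZMod p) V ≃ₐ[ZMod p] _).toRingEquiv.toRingHom))
  have hθ : Function.Injective θ := by
    intro x y hxy
    have h1 : (algebraMap (ZMod p) K).mapMatrix (LinearMap.toMatrixAlgEquiv 𝔟 x) =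
        (algebraMap (ZMod p) K).mapMatrix (LinearMap.toMatrixAlgEquiv 𝔟 y) :=
      (Matrix.toLinAlgEquiv' : Matrix (Fin (Module.finrank (ZMod p) V))
        (Fin (Module.finrank (ZMod p) V)) K ≃ₐ[K] _).injective hxy
    have h3 : LinearMap.toMatrixAlgEquiv 𝔟 x = LinearMap.toMatrixAlgEquiv 𝔟 y :=
      Matrix.map_injective (algebraMap (ZMod p) K).injective h1
    exact (LinearMap.toMatrixAlgEquiv 𝔟).injective h3
  let ρK : H →* Module.End K (Fin (Module.finrank (ZMod p) V) → K) :=
    (θ : _ →* _).comp ρ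
  have hquad : ∀ x : H, IsQuadEnd (ρ x) → IsQuadEnd (ρK x) := by
    intro x hx
    rw [isQuadEnd_iff] at hx ⊢
    show (θ (ρ x) - 1) * (θ (ρ x) - 1) = 0
    rw [← map_one θ, ← map_sub, ← map_mul, hx, map_zero]
  have hnpK : ¬ IsPRepOn p ρK ⊤ := by
    intro hP
    apply hnp
    intro h
    obtain ⟨k, hk⟩ := hP h (Subgroup.mem_top h)
    refine ⟨k, ?_⟩
    apply hθ
    rw [map_one]
    exact hk
  have hn0 : 0 < orderOf (a * b) := orderOf_pos _
  obtain ⟨φ, hφ1, hφ2⟩ := exists_hom_sl2' (K := K) p a b hab (orderOf (a * b)) hn0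
    (pow_orderOf_eq_one _) (IsAlgClosed.splits _) ⊤ _ _ ρK rfl (hquad a hA) (hquad b hB) hnpK
  apply hφ2
  -- the image is a `p`-group
  let ψ : φ.range →* Matrix (Fin 2) (Fin 2) K :=
    { toFun := fun x => ((x : Matrix.SpecialLinearGroup (Fin 2) K) : Matrix (Fin 2) (Fin 2) K)
      map_one' := rfl
      map_mul' := fun x y => rfl }
  have hψ : Function.Injective ψ := by
    intro x y hxy
    apply Subtype.ext
    apply Subtype.ext
    exact hxy
  have hsurj : Function.Surjective φ.rangeRestrict := φ.rangeRestrict_surjective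
  haveI : Finite φ.range := Finite.of_surjective φ.rangeRestrict hsurj
  have hgen : Subgroup.closure ({φ.rangeRestrict a, φ.rangeRestrict b} : Set φ.range) = ⊤ := by
    have := MonoidHom.map_closure φ.rangeRestrict ({a, b} : Set H)
    rw [hab, Subgroup.map_top_of_surjective _ hsurj] at this
    rw [this]
    congr 1
    ext x
    simp [Set.image_insert_eq, Set.image_singleton]
  have hSp : ∀ s ∈ ({φ.rangeRestrict a, φ.rangeRestrict b} : Set φ.range),
      ∃ k : ℕ, s ^ p ^ k = 1 := by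
    intro s hs
    rcases hs with rfl | hs
    · refine ⟨1, ?_⟩
      apply Subtype.ext
      rw [pow_one]
      exact hφ1 a (hquad a hA)
    · rw [Set.mem_singleton_iff] at hs
      subst hs
      refine ⟨1, ?_⟩
      apply Subtype.ext
      rw [pow_one]
      exact hφ1 b (hquad b hB)
  have hab2 : Ab2 φ.range := h2.of_surjective φ.rangeRestrict hsurj
  obtain ⟨T⟩ : Nonempty (Sylow 2 φ.range) := inferInstance
  have hP := isPGroup_of_abelian_sylow_two ψ hψ p hp2 _ hgen hSp T (hab2 T T.2)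
  rw [← MonoidHom.range_eq_map]
  exact hP

/-- Linear form: a quadratic element lies in a normal subgroup acting as a `p`-group. -/
theorem exists_normal_of_quad (hp2 : p ≠ 2) (ρ : H →* Module.End (ZMod p) V) (h2 : Ab2 H) (a : H)
    (hA : IsQuadEnd (ρ a)) :
    ∃ D : Subgroup H, D.Normal ∧ ρ.ker ≤ D ∧ (∀ d ∈ D, ∃ k : ℕ, d ^ p ^ k ∈ ρ.ker) ∧ a ∈ D := by
  classical
  let ρb : H ⧸ ρ.ker →* Module.End (ZMod p) V := QuotientGroup.lift ρ.ker ρ le_rfl
  have hρb : ∀ x : H ⧸ ρ.ker, ρb x = 1 → x = 1 := by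
    intro x hx
    induction x using QuotientGroup.induction_on with
    | H x =>
      have : ρ x = 1 := hx
      exact (QuotientGroup.eq_one_iff x).mpr this
  let I : Subgroup (H ⧸ ρ.ker) := ⨅ P : Sylow p (H ⧸ ρ.ker), (P : Subgroup (H ⧸ ρ.ker))
  have hIn : I.Normal := Cfsg.Agent.Helper16.iInf_sylow_normal p
  have hIp : IsPGroup p I := Cfsg.Agent.Helper16.iInf_sylow_isPGroup p
  refine ⟨I.comap (QuotientGroup.mk' ρ.ker), hIn.comap _, ?_, ?_, ?_⟩
  · intro x hx
    rw [Subgroup.mem_comap]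
    have : QuotientGroup.mk' ρ.ker x = 1 := (QuotientGroup.eq_one_iff x).mpr hx
    rw [this]
    exact Subgroup.one_mem _
  · intro d hd
    rw [Subgroup.mem_comap] at hd
    obtain ⟨k, hk⟩ := hIp ⟨_, hd⟩
    refine ⟨k, ?_⟩
    have h1 := congrArg Subtype.val hk
    simp only [Subgroup.coe_pow, Subgroup.coe_one] at h1
    rw [← map_pow] at h1
    exact (QuotientGroup.eq_one_iff _).mp h1
  · rw [Subgroup.mem_comap]
    apply Cfsg.Agent.Helper16.baer_suzuki_elt p
    intro g
    by_contra hnp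
    set ab : H ⧸ ρ.ker := QuotientGroup.mk' ρ.ker a with hab
    set H₀ : Subgroup (H ⧸ ρ.ker) := Subgroup.closure ({ab, g * ab * g⁻¹} : Set (H ⧸ ρ.ker))
      with hH₀
    have ha0 : ab ∈ H₀ := Subgroup.subset_closure (Set.mem_insert _ _)
    have hb0 : g * ab * g⁻¹ ∈ H₀ := Subgroup.subset_closure (Set.mem_insert_of_mem _ rfl)
    let ρ₀ : H₀ →* Module.End (ZMod p) V := ρb.comp H₀.subtype
    have hgen : Subgroup.closure ({(⟨ab, ha0⟩ : H₀), ⟨g * ab * g⁻¹, hb0⟩} : Set H₀) = ⊤ := by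
      have := Subgroup.closure_closure_coe_preimage (k := ({ab, g * ab * g⁻¹} : Set (H ⧸ ρ.ker)))
      rw [← this]
      congr 1
      ext x
      simp only [Set.mem_insert_iff, Set.mem_singleton_iff, Set.mem_preimage]
      constructor
      · rintro (h | h)
        · left; rw [h]
        · right; rw [h]
      · rintro (h | h)
        · left; exact Subtype.ext h
        · right; exact Subtype.ext h
    have hqa : IsQuadEnd (ρb ab) := hA
    have hqb : IsQuadEnd (ρb (g * ab * g⁻¹)) := hqa.conj ρb g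
    have hab2 : Ab2 H₀ :=
      (h2.of_surjective (QuotientGroup.mk' ρ.ker) (QuotientGroup.mk'_surjective _)).subgroup H₀
    have hP := isPRep_of_quad_pair hp2 ρ₀ ⟨ab, ha0⟩ ⟨g * ab * g⁻¹, hb0⟩ hgen hqa hqb hab2
    apply hnp
    intro x
    obtain ⟨k, hk⟩ := hP x
    refine ⟨k, ?_⟩
    apply Subtype.ext
    have : ρb ((x ^ p ^ k : H₀) : H ⧸ ρ.ker) = 1 := hk
    have h3 := hρb _ this
    exact h3

end LinearForm

section MulForm

variable {p : ℕ} [hp : Fact p.Prime] {H : Type*} [Group H] [Finite H]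
variable {V : Type*} [CommGroup V] [Finite V]

theorem exists_normal_of_quad_mul_aux [Module (ZMod p) (Additive V)] (hp2 : p ≠ 2)
    (ρ : H →* MulAut V)
    (h2 : Ab2 H) (a : H) (ha : ∀ v : V, ρ a (ρ a v / v) = ρ a v / v) :
    ∃ D : Subgroup H, D.Normal ∧ ρ.ker ≤ D ∧ (∀ d ∈ D, ∃ k : ℕ, d ^ p ^ k ∈ ρ.ker) ∧ a ∈ D := by
  let ρL : H →* Module.End (ZMod p) (Additive V) :=
    { toFun := fun h => (MonoidHom.toAdditive ((ρ h : V ≃* V) : V →* V)).toZModLinearMap p
      map_one' := by
        ext x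
        rw [map_one ρ]
        rfl
      map_mul' := fun g h => by
        ext x
        rw [map_mul ρ]
        rfl }
  have hker : ρL.ker = ρ.ker := by
    ext h
    rw [MonoidHom.mem_ker, MonoidHom.mem_ker]
    constructor
    · intro hh
      ext v
      have := congrArg (fun f => f (Additive.ofMul v)) hh
      exact congrArg Additive.toMul this
    · intro hh
      ext x
      show (ρ h x.toMul) = x.toMul
      rw [hh]
      rfl
  have hA : IsQuadEnd (ρL a) := by
    intro w
    exact congrArg Additive.ofMul (ha w.toMul)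
  obtain ⟨D, hDn, hD1, hD2, hD3⟩ := exists_normal_of_quad hp2 ρL h2 a hA
  refine ⟨D, hDn, hker ▸ hD1, fun d hd => ?_, hD3⟩
  rw [← hker]
  exact hD2 d hd

/-- Multiplicative form: `H` acts on the elementary abelian `p`-group `V`; a quadratically acting
element lies in a normal subgroup acting as a `p`-group, when the `2`-subgroups of `H` are
abelian. -/
theorem exists_normal_of_quad_mul (hp2 : p ≠ 2) (hV : ∀ v : V, v ^ p = 1) (ρ : H →* MulAut V)
    (h2 : Ab2 H) (a : H) (ha : ∀ v : V, ρ a (ρ a v / v) = ρ a v / v) :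
    ∃ D : Subgroup H, D.Normal ∧ ρ.ker ≤ D ∧ (∀ d ∈ D, ∃ k : ℕ, d ^ p ^ k ∈ ρ.ker) ∧ a ∈ D :=
  @exists_normal_of_quad_mul_aux p hp H _ _ V _ _ (AddCommGroup.zmodModule (by
    intro x
    exact congrArg Additive.ofMul (hV x.toMul))) hp2 ρ h2 a ha

end MulForm

section SubgroupForm

open scoped IsMulCommutative
open scoped commutatorElement

variable {G : Type*} [Group G] [Finite G] {p : ℕ} [hp : Fact p.Prime]

/-- the conjugation action of `H ≤ N_G(V)` on `V` -/
def conjRep (V H : Subgroup G) (hHV : H ≤ Subgroup.normalizer (V : Set G)) : H →* MulAut V :=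
  V.normalizerMonoidHom.comp (Subgroup.inclusion hHV)

theorem conjRep_apply (V H : Subgroup G) (hHV : H ≤ Subgroup.normalizer (V : Set G)) (h : H)
    (v : V) : ((conjRep V H hHV h v : V) : G) = (h : G) * (v : G) * (h : G)⁻¹ := rfl

theorem mem_conjRep_ker (V H : Subgroup G) (hHV : H ≤ Subgroup.normalizer (V : Set G)) (h : H) :
    h ∈ (conjRep V H hHV).ker ↔ (h : G) ∈ Subgroup.centralizer (V : Set G) := by
  rw [MonoidHom.mem_ker, Subgroup.mem_centralizer_iff]
  constructor
  · intro hh v hv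
    have := congrArg (fun f : MulAut V => ((f ⟨v, hv⟩ : V) : G)) hh
    simp only [conjRep_apply, MulAut.one_apply] at this
    calc v * (h : G) = ((h : G) * v * (h : G)⁻¹) * (h : G) := by rw [this]
      _ = (h : G) * v := by group
  · intro hh
    ext v
    rw [conjRep_apply, MulAut.one_apply, ← hh v v.2]
    group

theorem exists_normal_of_quad_sub (hp2 : p ≠ 2) (V H : Subgroup G) [IsMulCommutative V]
    (hVp : ∀ a ∈ V, a ^ p = 1) (hHV : H ≤ Subgroup.normalizer (V : Set G)) (h2 : Ab2 H)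
    (a : G) (haH : a ∈ H) (hq : ⁅⁅V, Subgroup.zpowers a⁆, Subgroup.zpowers a⁆ = ⊥) :
    ∃ D : Subgroup H, D.Normal ∧ (Subgroup.centralizer (V : Set G)).subgroupOf H ≤ D ∧
      (∀ d ∈ D, ∃ k : ℕ, (d : G) ^ p ^ k ∈ Subgroup.centralizer (V : Set G)) ∧
      (⟨a, haH⟩ : H) ∈ D := by
  have hV' : ∀ v : V, v ^ p = 1 := by
    intro v
    apply Subtype.ext
    rw [Subgroup.coe_pow]
    exact hVp v v.2
  have ha : ∀ v : V, conjRep V H hHV ⟨a, haH⟩ (conjRep V H hHV ⟨a, haH⟩ v / v) =
      conjRep V H hHV ⟨a, haH⟩ v / v := by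
    intro v
    apply Subtype.ext
    rw [conjRep_apply]
    have e : ((conjRep V H hHV ⟨a, haH⟩ v / v : V) : G) = a * (v : G) * a⁻¹ * (v : G)⁻¹ := by
      rw [Subgroup.coe_div, conjRep_apply, div_eq_mul_inv]
    rw [e]
    -- `u = [v, a]` commutes with `a`
    have hu : ⁅(v : G), a⁆ ∈ ⁅V, Subgroup.zpowers a⁆ :=
      Subgroup.commutator_mem_commutator v.2 (Subgroup.mem_zpowers a)
    have huu : ⁅⁅(v : G), a⁆, a⁆ ∈ ⁅⁅V, Subgroup.zpowers a⁆, Subgroup.zpowers a⁆ :=
      Subgroup.commutator_mem_commutator hu (Subgroup.mem_zpowers a)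
    rw [hq, Subgroup.mem_bot, commutatorElement_def, commutatorElement_def] at huu
    show a * (a * (v : G) * a⁻¹ * (v : G)⁻¹) * a⁻¹ = a * (v : G) * a⁻¹ * (v : G)⁻¹
    have h3 : (v : G) * a * (v : G)⁻¹ * a⁻¹ * a = a * ((v : G) * a * (v : G)⁻¹ * a⁻¹) := by
      have := congrArg (fun x => x * a * ((v : G) * a * (v : G)⁻¹ * a⁻¹)) huu
      simp only [one_mul] at this
      rw [← this]
      group
    have h4 : a * (v : G) * a⁻¹ * (v : G)⁻¹ = ((v : G) * a * (v : G)⁻¹ * a⁻¹)⁻¹ := by group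
    rw [h4]
    have h5 : Commute a ((v : G) * a * (v : G)⁻¹ * a⁻¹) := h3.symm
    have h6 := h5.inv_right
    rw [h6.eq]
    group
  obtain ⟨D, hDn, hD1, hD2, hD3⟩ := exists_normal_of_quad_mul hp2 hV' (conjRep V H hHV) h2
    ⟨a, haH⟩ ha
  refine ⟨D, hDn, ?_, ?_, hD3⟩
  · intro x hx
    apply hD1
    rw [mem_conjRep_ker]
    exact Subgroup.mem_subgroupOf.mp hx
  · intro d hd
    obtain ⟨k, hk⟩ := hD2 d hd
    refine ⟨k, ?_⟩
    rw [mem_conjRep_ker] at hk
    simpa using hk

theorem closure_pair_subtype_eq_top (H : Subgroup G) (a b : G)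
    (hab : H = Subgroup.closure ({a, b} : Set G)) (haH : a ∈ H) (hbH : b ∈ H) :
    Subgroup.closure ({(⟨a, haH⟩ : H), ⟨b, hbH⟩} : Set H) = ⊤ := by
  subst hab
  have := Subgroup.closure_closure_coe_preimage (k := ({a, b} : Set G))
  rw [← this]
  congr 1
  ext x
  simp only [Set.mem_insert_iff, Set.mem_singleton_iff, Set.mem_preimage]
  constructor
  · rintro (h | h)
    · left; rw [h]
    · right; rw [h]
  · rintro (h | h)
    · left; exact Subtype.ext h
    · right; exact Subtype.ext h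

/-- in the faithful case the normal subgroup `D` is a `p`-group -/
theorem isPGroup_of_pow_mem_centralizer (V H : Subgroup G)
    (hf : H ⊓ Subgroup.centralizer (V : Set G) = ⊥) (D : Subgroup H)
    (hD : ∀ d ∈ D, ∃ k : ℕ, (d : G) ^ p ^ k ∈ Subgroup.centralizer (V : Set G)) :
    IsPGroup p D := by
  rintro ⟨d, hd⟩
  obtain ⟨k, hk⟩ := hD d hd
  refine ⟨k, ?_⟩
  apply Subtype.ext
  apply Subtype.ext
  have h1 : (d : G) ^ p ^ k ∈ H ⊓ Subgroup.centralizer (V : Set G) :=
    ⟨H.pow_mem d.2 _, hk⟩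
  rw [hf, Subgroup.mem_bot] at h1
  simpa using h1

end SubgroupForm

end Cfsg.Agent.Helper26
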