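import Mathlib
import Cfsg.Agent.Helper26.QuadStable
import Cfsg.Agent.Helper14.FratStab
import Cfsg.Agent.Helper14.PCore
import Cfsg.Agent.Helper1.PGroup

set_option autoImplicit false
set_option linter.unusedSectionVars false
set_option linter.unusedVariables false
set_option linter.style.haveILetI false

/-! # Quadratic action on a normal `p`-subgroup, via its Frattini quotient -/

namespace Cfsg.Agent.Helper26

open scoped IsMulCommutative
open scoped commutatorElement

section CharQuot

variable {A : Type*} [Group A]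

/-- automorphisms act on the quotient by a characteristic subgroup -/
def charQuotHom (K : Subgroup A) [hK : K.Characteristic] : MulAut A →* MulAut (A ⧸ K) where
  toFun φ := QuotientGroup.congr K K φ (Subgroup.characteristic_iff_map_eq.mp hK φ)
  map_one' := by
    ext x
    induction x using QuotientGroup.induction_on with
    | H x => rfl
  map_mul' φ ψ := by
    ext x
    induction x using QuotientGroup.induction_on with
    | H x => rfl

@[simp] theorem charQuotHom_mk (K : Subgroup A) [hK : K.Characteristic] (φ : MulAut A) (x : A) :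
    charQuotHom K φ (QuotientGroup.mk x) = QuotientGroup.mk (φ x) := rfl

end CharQuot

section FratSection

variable {L : Type*} [Group L] [Finite L] {p : ℕ} [hp : Fact p.Prime]

/-- the action of `L` on `A/Φ(A)` for a normal subgroup `A` -/
def fratRep (A : Subgroup L) [A.Normal] : L →* MulAut (↥A ⧸ frattini ↥A) :=
  (charQuotHom (frattini ↥A)).comp (MulAut.conjNormal (H := A))

theorem fratRep_mk (A : Subgroup L) [A.Normal] (g : L) (x : A) :
    fratRep A g (QuotientGroup.mk x) = QuotientGroup.mk (MulAut.conjNormal g x) := rfl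

theorem fratRep_ker (A : Subgroup L) [A.Normal] :
    (fratRep A).ker = Cfsg.Agent.Helper14.fratStab A := by
  ext g
  rw [MonoidHom.mem_ker, Cfsg.Agent.Helper14.mem_fratStab]
  constructor
  · intro hg a ha
    have h1 := congrArg (fun f : MulAut (↥A ⧸ frattini ↥A) =>
      f (QuotientGroup.mk (⟨a, ha⟩ : A))) hg
    simp only [fratRep_mk, MulAut.one_apply] at h1
    rw [QuotientGroup.eq] at h1
    -- `(g a g⁻¹)⁻¹ a ∈ Φ`, so `g a g⁻¹ a⁻¹ ∈ Φ`
    have h2 : (⟨a, ha⟩ : A) * ((MulAut.conjNormal g (⟨a, ha⟩ : A))⁻¹ * ⟨a, ha⟩)⁻¹ * (⟨a, ha⟩ : A)⁻¹ ∈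
        frattini ↥A :=
      (inferInstance : (frattini ↥A).Normal).conj_mem _ (Subgroup.inv_mem _ h1) _
    refine ⟨_, h2, ?_⟩
    simp only [Subgroup.subtype_apply, Subgroup.coe_mul, Subgroup.coe_inv,
      MulAut.conjNormal_apply]
    group
  · intro hg
    ext x
    induction x using QuotientGroup.induction_on with
    | H x =>
      rw [fratRep_mk, MulAut.one_apply, QuotientGroup.eq]
      obtain ⟨y, hy, hyx⟩ := hg x x.2
      have h2 : x⁻¹ * y⁻¹ * x⁻¹⁻¹ ∈ frattini ↥A :=
        (inferInstance : (frattini ↥A).Normal).conj_mem _ (Subgroup.inv_mem _ hy) _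
      have e : (MulAut.conjNormal g x)⁻¹ * x = x⁻¹ * y⁻¹ * x⁻¹⁻¹ := by
        apply Subtype.ext
        simp only [Subgroup.coe_mul, Subgroup.coe_inv, MulAut.conjNormal_apply]
        have : (y : L) = g * (x : L) * g⁻¹ * (x : L)⁻¹ := hyx
        rw [this]
        group
      rw [e]
      exact h2

theorem exists_normal_of_quad_frat_aux (hp2 : p ≠ 2) (A : Subgroup L) [A.Normal]
    [IsMulCommutative (↥A ⧸ frattini ↥A)] (hAp : IsPGroup p A) (h2 : Ab2 L) (a : L)
    (hq : ∀ x ∈ A, ⁅⁅x, a⁆, a⁆ ∈ (frattini ↥A).map A.subtype) :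
    ∃ D : Subgroup L, D.Normal ∧ Cfsg.Agent.Helper14.fratStab A ≤ D ∧
      (∀ d ∈ D, ∃ k : ℕ, d ^ p ^ k ∈ Cfsg.Agent.Helper14.fratStab A) ∧ a ∈ D := by
  have hV : ∀ v : ↥A ⧸ frattini ↥A, v ^ p = 1 := by
    intro v
    induction v using QuotientGroup.induction_on with
    | H x =>
      rw [← QuotientGroup.mk_pow, QuotientGroup.eq_one_iff]
      exact Cfsg.Agent.Helper1.IsPGroup.pow_mem_frattini hAp x
  have ha : ∀ v : ↥A ⧸ frattini ↥A, fratRep A a (fratRep A a v / v) = fratRep A a v / v := by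
    intro v
    induction v using QuotientGroup.induction_on with
    | H x =>
      rw [fratRep_mk, ← QuotientGroup.mk_div, fratRep_mk, QuotientGroup.eq]
      obtain ⟨y, hy, hyx⟩ := hq x x.2
      have e : (MulAut.conjNormal a (MulAut.conjNormal a x / x))⁻¹ * (MulAut.conjNormal a x / x)
          = y⁻¹ := by
        apply Subtype.ext
        simp only [Subgroup.coe_mul, Subgroup.coe_inv, MulAut.conjNormal_apply, Subgroup.coe_div]
        have : (y : L) = ⁅⁅(x : L), a⁆, a⁆ := hyx
        rw [this, commutatorElement_def, commutatorElement_def]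
        simp only [div_eq_mul_inv]
        group
      rw [e]
      exact Subgroup.inv_mem _ hy
  obtain ⟨D, hDn, hD1, hD2, hD3⟩ := exists_normal_of_quad_mul hp2 hV (fratRep A) h2 a ha
  rw [fratRep_ker] at hD1 hD2
  exact ⟨D, hDn, hD1, hD2, hD3⟩

/-- **Quadratic action on a normal `p`-subgroup** (`p` odd, abelian `2`-subgroups): an element `a`
with `[A, a, a] ≤ Φ(A)` lies in a normal subgroup `D` of `L` with `D/C_L(A/Φ(A))` a `p`-group. -/
theorem exists_normal_of_quad_frat (hp2 : p ≠ 2) (A : Subgroup L) [A.Normal]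
    (hAp : IsPGroup p A) (h2 : Ab2 L) (a : L)
    (hq : ∀ x ∈ A, ⁅⁅x, a⁆, a⁆ ∈ (frattini ↥A).map A.subtype) :
    ∃ D : Subgroup L, D.Normal ∧ Cfsg.Agent.Helper14.fratStab A ≤ D ∧
      (∀ d ∈ D, ∃ k : ℕ, d ^ p ^ k ∈ Cfsg.Agent.Helper14.fratStab A) ∧ a ∈ D := by
  have hc : IsMulCommutative (↥A ⧸ frattini ↥A) := by
    refine ⟨⟨?_⟩⟩
    intro u v
    induction u using QuotientGroup.induction_on with
    | H x =>
      induction v using QuotientGroup.induction_on with
      | H y =>
        rw [← QuotientGroup.mk_mul, ← QuotientGroup.mk_mul, QuotientGroup.eq]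
        have h1 : ⁅y⁻¹, x⁻¹⁆ ∈ frattini ↥A :=
          Cfsg.Agent.Helper1.IsPGroup.commutator_le_frattini hAp
            (Subgroup.commutator_mem_commutator (Subgroup.mem_top _) (Subgroup.mem_top _))
        have e : (x * y)⁻¹ * (y * x) = ⁅y⁻¹, x⁻¹⁆ := by
          rw [commutatorElement_def]; group
        rw [e]
        exact h1
  exact exists_normal_of_quad_frat_aux hp2 A hAp h2 a hq

/-- the same, with the centralizer of `A`: every element of `D` has a `p`-power in `C_L(A)`. -/
theorem exists_normal_of_quad_frat' (hp2 : p ≠ 2) (A : Subgroup L) [A.Normal]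
    (hAp : IsPGroup p A) (h2 : Ab2 L) (a : L)
    (hq : ∀ x ∈ A, ⁅⁅x, a⁆, a⁆ ∈ (frattini ↥A).map A.subtype) :
    ∃ D : Subgroup L, D.Normal ∧ Subgroup.centralizer (A : Set L) ≤ D ∧
      (∀ d ∈ D, ∃ k : ℕ, d ^ p ^ k ∈ Subgroup.centralizer (A : Set L)) ∧ a ∈ D := by
  obtain ⟨D, hDn, hD1, hD2, hD3⟩ := exists_normal_of_quad_frat hp2 A hAp h2 a hq
  refine ⟨D, hDn, (Cfsg.Agent.Helper14.centralizer_le_fratStab A).trans hD1, ?_, hD3⟩
  intro d hd
  obtain ⟨k, hk⟩ := hD2 d hd
  obtain ⟨n, hn⟩ := Cfsg.Agent.Helper14.exists_pow_mem_centralizer_of_mem_fratStab A hAp _ hk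
  refine ⟨k + n, ?_⟩
  rw [pow_add, pow_mul]
  exact hn

end FratSection

section Stable

variable {G : Type*} [Group G] [Finite G] {p : ℕ} [hp : Fact p.Prime]

/-- **`p`-stability for groups with abelian `2`-subgroups** (`p` odd): if `A ≤ N_G(P)` acts
quadratically on the `p`-subgroup `P`, the image of `A` in `N_G(P)/C_G(P)` lies in `O_p`. -/
theorem quad_image_le_pCore (hp2 : p ≠ 2) (h2 : Ab2 G) (P A : Subgroup G) (hP : IsPGroup p P)
    (hAN : A ≤ Subgroup.normalizer (P : Set G)) (hquad : ⁅⁅P, A⁆, A⁆ = ⊥) :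
    (A.subgroupOf (Subgroup.normalizer (P : Set G))).map
        (QuotientGroup.mk' ((Subgroup.centralizer (P : Set G)).subgroupOf
          (Subgroup.normalizer (P : Set G))))
      ≤ Cfsg.pCore p _ := by
  haveI hA'n : (P.subgroupOf (Subgroup.normalizer (P : Set G))).Normal :=
    Subgroup.normal_in_normalizer
  have hA'p : IsPGroup p (P.subgroupOf (Subgroup.normalizer (P : Set G))) :=
    hP.comap_of_injective _ (Subgroup.subtype_injective _)
  have h2' : Ab2 (Subgroup.normalizer (P : Set G)) := h2.subgroup _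
  rintro _ ⟨n, hn, rfl⟩
  have hnA : (n : G) ∈ A := Subgroup.mem_subgroupOf.mp hn
  have hq : ∀ x ∈ P.subgroupOf (Subgroup.normalizer (P : Set G)), ⁅⁅x, n⁆, n⁆ ∈
      (frattini ↥(P.subgroupOf (Subgroup.normalizer (P : Set G)))).map
        (P.subgroupOf (Subgroup.normalizer (P : Set G))).subtype := by
    intro x hx
    have hxP : (x : G) ∈ P := Subgroup.mem_subgroupOf.mp hx
    have h1 : ⁅⁅(x : G), (n : G)⁆, (n : G)⁆ ∈ ⁅⁅P, A⁆, A⁆ :=
      Subgroup.commutator_mem_commutator (Subgroup.commutator_mem_commutator hxP hnA) hnA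
    rw [hquad, Subgroup.mem_bot] at h1
    have h3 : ⁅⁅x, n⁆, n⁆ = 1 := by
      apply Subtype.ext
      simpa [commutatorElement_def] using h1
    rw [h3]
    exact Subgroup.one_mem _
  obtain ⟨D, hDn, hD1, hD2, hD3⟩ := exists_normal_of_quad_frat' hp2
    (P.subgroupOf (Subgroup.normalizer (P : Set G))) hA'p h2' n hq
  have hmapn : (D.map (QuotientGroup.mk' ((Subgroup.centralizer (P : Set G)).subgroupOf
      (Subgroup.normalizer (P : Set G))))).Normal :=
    hDn.map _ (QuotientGroup.mk'_surjective _)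
  have hmapp : IsPGroup p (D.map (QuotientGroup.mk' ((Subgroup.centralizer (P : Set G)).subgroupOf
      (Subgroup.normalizer (P : Set G))))) := by
    rintro ⟨_, d, hd, rfl⟩
    obtain ⟨k, hk⟩ := hD2 d hd
    refine ⟨k, ?_⟩
    apply Subtype.ext
    simp only [Subgroup.coe_pow, Subgroup.coe_one]
    rw [← map_pow, QuotientGroup.mk'_apply, QuotientGroup.eq_one_iff, Subgroup.mem_subgroupOf,
      Subgroup.mem_centralizer_iff]
    intro y hy
    have hy' : (⟨y, Subgroup.le_normalizer hy⟩ : Subgroup.normalizer (P : Set G)) ∈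
        P.subgroupOf (Subgroup.normalizer (P : Set G)) := Subgroup.mem_subgroupOf.mpr hy
    have := (Subgroup.mem_centralizer_iff.mp hk) _ hy'
    exact congrArg Subtype.val this
  exact Cfsg.Agent.Helper14.le_pCore p hmapn hmapp (Subgroup.mem_map_of_mem _ hD3)

end Stable

end Cfsg.Agent.Helper26
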