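import Mathlib
import Cfsg.Agent.Helper26.PStableQuot
import Cfsg.Agent.Helper19.OmegaOne
import Cfsg.Agent.Lead.TNC8
import Cfsg.Agent.Helper26.QuadStable2

set_option autoImplicit false
set_option linter.style.haveILetI false
set_option linter.unusedSectionVars false
set_option linter.unusedVariables false

/-! # Glauberman's `ZJ`-theorem for the elementary abelian version of the Thompson subgroup

For `p` odd and a `p`-stable group `G` (in the quotient-free form `StabHypSub`), the full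
centre `Z(J_e(S))` of the Thompson subgroup defined by elementary abelian subgroups of largest
order meets every normal `p`-subgroup of `G` in a normal subgroup of `G`. The new ingredient
compared to the generic theorem (which yields `Ω₁ Z(J_e(S))`) is the `Ω₁`-lemma for odd `p`. -/

namespace Cfsg.Agent.Helper26

open Subgroup
open scoped commutatorElement

universe u

section aux

variable {G : Type u} [Group G]

/-- set version of `commutator_normalClosure_le` -/
theorem commutator_normalClosure_set_le {E : Set G} {B K : Subgroup G} [hB : B.Normal]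
    [hK : K.Normal] (h : ∀ x ∈ E, ∀ y ∈ B, ⁅x, y⁆ ∈ K) : ⁅normalClosure E, B⁆ ≤ K := by
  rw [commutator_le]
  intro x hx
  unfold normalClosure at hx
  induction hx using closure_induction with
  | mem x hx1 =>
    intro y hy
    rw [Group.mem_conjugatesOfSet_iff] at hx1
    obtain ⟨v, hv, hvx⟩ := hx1
    rw [isConj_iff] at hvx
    obtain ⟨c, rfl⟩ := hvx
    have h1 : c⁻¹ * y * c⁻¹⁻¹ ∈ B := hB.conj_mem y hy c⁻¹
    have h2 : ⁅v, c⁻¹ * y * c⁻¹⁻¹⁆ ∈ K := h v hv _ h1
    have h3 := hK.conj_mem _ h2 c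
    have e : ⁅c * v * c⁻¹, y⁆ = c * ⁅v, c⁻¹ * y * c⁻¹⁻¹⁆ * c⁻¹ := by
      simp only [commutatorElement_def]; group
    rw [e]
    exact h3
  | one =>
    intro y _
    rw [commutatorElement_one_left]
    exact K.one_mem
  | mul x₁ x₂ _ _ ih₁ ih₂ =>
    intro y hy
    have h1 := hK.conj_mem _ (ih₂ y hy) x₁
    have e : ⁅x₁ * x₂, y⁆ = (x₁ * ⁅x₂, y⁆ * x₁⁻¹) * ⁅x₁, y⁆ := by
      simp only [commutatorElement_def]; group
    rw [e]
    exact K.mul_mem h1 (ih₁ y hy)
  | inv x _ ih =>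
    intro y hy
    have h1 := hK.conj_mem _ (K.inv_mem (ih y hy)) x⁻¹
    have e : ⁅x⁻¹, y⁆ = x⁻¹ * (⁅x, y⁆)⁻¹ * x⁻¹⁻¹ := by
      simp only [commutatorElement_def]; group
    rw [e]
    exact h1

/-- the normal closure of a conjugation-invariant set is its closure -/
theorem normalClosure_eq_closure_of_conj_mem {E : Set G}
    (h : ∀ x ∈ E, ∀ c : G, c * x * c⁻¹ ∈ E) : normalClosure E = closure E := by
  apply le_antisymm
  · unfold normalClosure
    apply Subgroup.closure_mono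
    intro a ha
    rw [Group.mem_conjugatesOfSet_iff] at ha
    obtain ⟨b, hb, hba⟩ := ha
    rw [isConj_iff] at hba
    obtain ⟨c, rfl⟩ := hba
    exact h b hb c
  · exact closure_le_normalClosure

/-- in a group where `⁅x, y⁆` commutes with `x`: `⁅x ^ n, y⁆ = ⁅x, y⁆ ^ n` -/
theorem commutatorElement_pow_left_of_commute {x y : G} (h : x * ⁅x, y⁆ = ⁅x, y⁆ * x) (n : ℕ) :
    ⁅x ^ n, y⁆ = ⁅x, y⁆ ^ n := by
  induction n with
  | zero => simp
  | succ n ih =>
    have e : ⁅x ^ (n + 1), y⁆ = x * ⁅x ^ n, y⁆ * x⁻¹ * ⁅x, y⁆ := by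
      rw [pow_succ']
      simp only [commutatorElement_def]; group
    rw [e, ih]
    have hc : Commute x (⁅x, y⁆ ^ n) := Commute.pow_right h n
    rw [hc.eq, mul_inv_cancel_right, pow_succ]

variable [Finite G] {p : ℕ} [hp : Fact p.Prime]

/-- the largest normal subgroup that is a `p`-group modulo the normal subgroup `C` -/
theorem exists_max_pQuot (C : Subgroup G) [C.Normal] :
    ∃ L₀ : Subgroup G, L₀.Normal ∧ C ≤ L₀ ∧ (∀ x ∈ L₀, ∃ k : ℕ, x ^ (p ^ k) ∈ C) ∧
      ∀ M : Subgroup G, M.Normal → (∀ x ∈ M, ∃ k : ℕ, x ^ (p ^ k) ∈ C) → M ≤ L₀ := by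
  refine ⟨(Cfsg.pCore p (G ⧸ C)).comap (QuotientGroup.mk' C), inferInstance, ?_, ?_, ?_⟩
  · intro c hc
    rw [mem_comap]
    have : QuotientGroup.mk' C c = 1 := (QuotientGroup.eq_one_iff c).mpr hc
    rw [this]
    exact one_mem _
  · intro x hx
    rw [mem_comap] at hx
    obtain ⟨k, hk⟩ := (Cfsg.Agent.Helper14.pCore_isPGroup (G := G ⧸ C) p) ⟨_, hx⟩
    refine ⟨k, ?_⟩
    have h2 := congrArg Subtype.val hk
    simp only [SubmonoidClass.coe_pow, OneMemClass.coe_one] at h2
    rw [← map_pow] at h2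
    exact (QuotientGroup.eq_one_iff _).mp h2
  · intro M hMn hM x hx
    rw [mem_comap]
    have hmn : (M.map (QuotientGroup.mk' C)).Normal :=
      hMn.map _ (QuotientGroup.mk'_surjective C)
    have hmp : IsPGroup p (M.map (QuotientGroup.mk' C)) := by
      rintro ⟨y, hy⟩
      obtain ⟨m, hm, rfl⟩ := mem_map.mp hy
      obtain ⟨k, hk⟩ := hM m hm
      refine ⟨k, ?_⟩
      apply Subtype.ext
      simp only [SubmonoidClass.coe_pow, OneMemClass.coe_one]
      rw [← map_pow]
      exact (QuotientGroup.eq_one_iff _).mpr hk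
    exact Cfsg.Agent.Helper14.le_pCore p hmn hmp (mem_map_of_mem _ hx)

/-- `Ω₁`-lemma in quotient-free form: an element centralizing all elements of order dividing `p`
of the normal `p`-subgroup `B` (`p` odd) has a `p`-power centralizing `B`. -/
theorem exists_pow_mem_centralizer_of_omega (hp2 : p ≠ 2) (B : Subgroup G) [hBn : B.Normal]
    (hBp : IsPGroup p B) (g : G) (hg : ∀ x ∈ B, x ^ p = 1 → g * x = x * g) :
    ∃ k : ℕ, g ^ (p ^ k) ∈ centralizer (B : Set G) := by
  have hpp : p.Prime := hp.out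
  have hn0 : orderOf g ≠ 0 := (orderOf_pos g).ne'
  obtain ⟨k, m, hm, hkm⟩ := Nat.exists_eq_pow_mul_and_not_dvd hn0 p hpp.ne_one
  refine ⟨k, ?_⟩
  set h := g ^ (p ^ k) with hh
  have hord : orderOf h = m := by
    rw [hh, orderOf_pow_of_dvd (pow_ne_zero _ hpp.ne_zero) (hkm ▸ Dvd.intro _ rfl), hkm,
      Nat.mul_div_cancel_left _ (pow_pos hpp.pos k)]
  have hcop : (Nat.card (zpowers h)).Coprime p := by
    rw [Nat.card_zpowers, hord]
    exact ((Nat.Prime.coprime_iff_not_dvd hpp).mpr hm).symm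
  have hAN : zpowers h ≤ normalizer (B : Set G) := by
    rw [normalizer_eq_top]; exact le_top
  have hΩ : ∀ x ∈ B, x ^ p = 1 → ∀ a ∈ zpowers h, a * x = x * a := by
    intro x hx hxp a ha
    have h1 : Commute g x := hg x hx hxp
    have h2 : Commute h x := h1.pow_left _
    obtain ⟨i, rfl⟩ := ha
    exact (h2.zpow_left i).eq
  have hcomm := Cfsg.Agent.Helper19.commutator_eq_bot_of_centralizes_omega_one hp2 B (zpowers h)
    hBp hAN hcop hΩ
  rw [mem_centralizer_iff]
  intro x hx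
  have h3 : ⁅x, h⁆ ∈ ⁅B, zpowers h⁆ := commutator_mem_commutator hx (mem_zpowers h)
  rw [hcomm, mem_bot, commutatorElement_eq_one_iff_mul_comm] at h3
  exact h3

end aux

section main

variable {G : Type u} [Group G] [Finite G] {p : ℕ} [hp : Fact p.Prime]

theorem normalizer_le_normalizer_centerThompsonOf (T : Subgroup G) :
    normalizer (T : Set G) ≤ normalizer (Cfsg.centerThompsonOf p T : Set G) :=
  ((Cfsg.Agent.Lead.TNC.jFunctor p).normalizer_le T).trans
    ((Cfsg.Agent.Lead.TNC.zFunctor p).normalizer_le (Cfsg.thompsonSubgroupOf p T))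

theorem normalizer_le_normalizer_centralizer' (H : Subgroup G) :
    normalizer (H : Set G) ≤ normalizer ((centralizer (H : Set G) : Subgroup G) : Set G) := by
  intro g hg
  apply mem_normalizer_of_map_conj_le
  rintro _ ⟨c, hc, rfl⟩
  simp only [MulEquiv.coe_toMonoidHom, MulAut.conj_apply]
  have hc' : c ∈ centralizer (H : Set G) := hc
  rw [mem_centralizer_iff] at hc' ⊢
  intro y hy
  have hg' : g⁻¹ ∈ normalizer (H : Set G) := inv_mem hg
  have h1 : g⁻¹ * y * g⁻¹⁻¹ ∈ H := (mem_normalizer_iff.mp hg' y).mp hy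
  have h2 := hc' _ h1
  calc y * (g * c * g⁻¹) = g * ((g⁻¹ * y * g⁻¹⁻¹) * c) * g⁻¹ := by group
    _ = g * (c * (g⁻¹ * y * g⁻¹⁻¹)) * g⁻¹ := by rw [h2]
    _ = g * c * g⁻¹ * y := by group

theorem inf_mem_normalizer {X Y : Subgroup G} {g : G} (hX : g ∈ normalizer (X : Set G))
    (hY : g ∈ normalizer (Y : Set G)) : g ∈ normalizer ((X ⊓ Y : Subgroup G) : Set G) := by
  apply mem_normalizer_of_map_conj_le
  rintro _ ⟨x, hx, rfl⟩
  simp only [MulEquiv.coe_toMonoidHom, MulAut.conj_apply]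
  exact ⟨(mem_normalizer_iff.mp hX x).mp hx.1, (mem_normalizer_iff.mp hY x).mp hx.2⟩

/-- **`ZJ`-theorem for the elementary abelian Thompson subgroup**, inductive form: `Z(J_e(S))`
meets every normal `p`-subgroup in a normal subgroup. -/
theorem centerThompsonOf_inf_normal_aux (hp2 : p ≠ 2) (hst : StabHypSub p G) (S : Sylow p G) :
    ∀ n : ℕ, ∀ B : Subgroup G, B.Normal → IsPGroup p B → Nat.card B = n →
      (Cfsg.centerThompsonOf p (S : Subgroup G) ⊓ B).Normal := by
  have hodd : Odd p := hp.out.odd_of_ne_two hp2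
  have hfam := zjFamily_famEl (G := G) hp2 p (Or.inr hodd)
  intro n
  induction n using Nat.strong_induction_on with
  | _ n ih =>
  intro B hBn hBp hcard
  by_contra hV
  have := hBn
  obtain ⟨J, hJ⟩ : ∃ J : Subgroup G, J = Cfsg.thompsonSubgroupOf p (S : Subgroup G) := ⟨_, rfl⟩
  have hJe : J = sSup (famEl p (S : Subgroup G)) := by
    rw [hJ]; exact Cfsg.Agent.Lead.TNC.thompsonSubgroupOf_eq_sSup p _
  obtain ⟨Z, hZ⟩ : ∃ Z : Subgroup G, Z = Cfsg.centerThompsonOf p (S : Subgroup G) := ⟨_, rfl⟩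
  rw [← hZ] at hV
  have hZdef : Z = J ⊓ centralizer (J : Set G) := by rw [hZ, hJ]; rfl
  have hJS : J ≤ S := by rw [hJe]; exact sSup_le (fun A hA => hA.1)
  have hZS : Z ≤ S := by rw [hZdef]; exact inf_le_left.trans hJS
  have hBS : B ≤ S := (Cfsg.Agent.Helper14.le_pCore p hBn hBp).trans
    (Cfsg.Agent.Helper14.pCore_le_sylow p S)
  have hSZ : (S : Subgroup G) ≤ normalizer (Z : Set G) := by
    rw [hZ]
    exact le_normalizer.trans (normalizer_le_normalizer_centerThompsonOf _)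
  have hZcomm : ∀ x ∈ Z, ∀ y ∈ Z, x * y = y * x := by
    intro x hx y hy
    rw [hZdef] at hx hy
    exact mem_centralizer_iff.mp hy.2 x hx.1
  -- elements of order `p` of `Z` lie in `W`
  have hZW : ∀ c ∈ Z, c ^ p = 1 → c ∈ sInf (famEl p (S : Subgroup G)) := by
    intro c hc hcp
    rw [hZdef, hJe] at hc
    exact mem_sInf_famEl_of_mem hc.1 hc.2 hcp
  -- (iii)
  have hB1 : normalClosure ((Z ⊓ B : Subgroup G) : Set G) = B := by
    by_contra hne
    have hle : normalClosure ((Z ⊓ B : Subgroup G) : Set G) ≤ B :=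
      normalClosure_le_normal inf_le_right
    have hlt := lt_of_le_of_ne hle hne
    have hcardlt : Nat.card (normalClosure ((Z ⊓ B : Subgroup G) : Set G)) < n := by
      rw [← hcard]
      exact lt_of_not_ge (fun hge => hlt.ne (Subgroup.eq_of_le_of_card_ge hlt.le hge))
    have := ih _ hcardlt _ normalClosure_normal (hBp.to_le hle) rfl
    rw [← hZ] at this
    have e : Z ⊓ normalClosure ((Z ⊓ B : Subgroup G) : Set G) = Z ⊓ B :=
      le_antisymm (le_inf inf_le_left (inf_le_right.trans hle))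
        (le_inf inf_le_left subset_normalClosure)
    rw [e] at this
    exact hV this
  -- (iv)
  have hBne : B ≠ ⊥ := by
    rintro rfl
    apply hV
    rw [inf_bot_eq]
    infer_instance
  have hB'lt : ⁅B, B⁆ < B :=
    Cfsg.Agent.Lead.commutator_lt_of_isPGroup hBp hBp le_normalizer hBne
  have hB'n : (⁅B, B⁆).Normal := inferInstance
  have hcardlt' : Nat.card (⁅B, B⁆ : Subgroup G) < n := by
    rw [← hcard]
    exact lt_of_not_ge (fun hge => hB'lt.ne (Subgroup.eq_of_le_of_card_ge hB'lt.le hge))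
  have hV'n : (Z ⊓ ⁅B, B⁆).Normal := by
    have := ih _ hcardlt' _ hB'n (hBp.to_le hB'lt.le) rfl
    rwa [← hZ] at this
  -- (v)
  have hVB : ⁅Z ⊓ B, B⁆ ≤ Z ⊓ ⁅B, B⁆ := by
    apply le_inf
    · rw [commutator_le]
      intro v hv y hy
      have hyN := hSZ (hBS hy)
      have h1 : y * v⁻¹ * y⁻¹ ∈ Z := (mem_normalizer_iff.mp hyN _).mp (inv_mem hv.1)
      have e : ⁅v, y⁆ = v * (y * v⁻¹ * y⁻¹) := by rw [commutatorElement_def]; group
      rw [e]
      exact mul_mem hv.1 h1
    · exact commutator_mono inf_le_right le_rfl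
  -- (vi)
  have hB'Z : ⁅B, B⁆ ≤ Z := by
    have := commutator_normalClosure_le (hK := hV'n) hVB
    rw [hB1] at this
    exact this.trans inf_le_left
  -- (vii) class at most two
  have hcl2 : ∀ x ∈ B, ∀ c ∈ ⁅B, B⁆, x * c = c * x := by
    have h0 : ⁅Z ⊓ B, ⁅B, B⁆⁆ ≤ (⊥ : Subgroup G) := by
      rw [commutator_le]
      intro x hx y hy
      rw [commutatorElement_eq_one_iff_mul_comm.mpr (hZcomm x hx.1 y (hB'Z hy))]
      exact one_mem _
    have h1 := commutator_normalClosure_le (B := ⁅B, B⁆) (K := ⊥) h0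
    rw [hB1] at h1
    intro x hx c hc
    have h2 := h1 (commutator_mem_commutator hx hc)
    rw [mem_bot, commutatorElement_eq_one_iff_mul_comm] at h2
    exact h2
  -- the subgroup generated by the elements of order `p`
  obtain ⟨E, hE⟩ : ∃ E : Set G, E = {x | x ∈ B ∧ x ^ p = 1} := ⟨_, rfl⟩
  have hEmem : ∀ x, x ∈ E ↔ x ∈ B ∧ x ^ p = 1 := by intro x; rw [hE]; rfl
  have hEconj : ∀ x ∈ E, ∀ c : G, c * x * c⁻¹ ∈ E := by
    intro x hx c
    rw [hEmem] at hx ⊢
    refine ⟨hBn.conj_mem x hx.1 c, ?_⟩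
    rw [conj_pow, hx.2, mul_one, mul_inv_cancel]
  obtain ⟨B₁, hB₁def⟩ : ∃ B₁ : Subgroup G, B₁ = normalClosure E := ⟨_, rfl⟩
  have hB₁n : B₁.Normal := by rw [hB₁def]; exact normalClosure_normal
  have hB₁cl : B₁ = closure E := by
    rw [hB₁def]; exact normalClosure_eq_closure_of_conj_mem hEconj
  have hEB₁ : E ⊆ B₁ := by rw [hB₁def]; exact subset_normalClosure
  have hB₁B : B₁ ≤ B := by
    rw [hB₁def]
    exact normalClosure_le_normal (fun x hx => ((hEmem x).mp hx).1)
  have hKn : (sInf (famEl p (S : Subgroup G)) ⊓ ⁅B, B⁆).Normal :=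
    hfam.inf_normal_aux' hst S _ ⁅B, B⁆ hB'n (hBp.to_le hB'lt.le) rfl
  have hEK : ∀ x ∈ E, ∀ y ∈ B, ⁅x, y⁆ ∈ sInf (famEl p (S : Subgroup G)) ⊓ ⁅B, B⁆ := by
    intro x hx y hy
    rw [hEmem] at hx
    have hc : ⁅x, y⁆ ∈ ⁅B, B⁆ := commutator_mem_commutator hx.1 hy
    refine ⟨hZW _ (hB'Z hc) ?_, hc⟩
    rw [← commutatorElement_pow_left_of_commute (hcl2 x hx.1 _ hc), hx.2,
      commutatorElement_one_left]
  have hB₁comm : ⁅B₁, B₁⁆ ≤ sInf (famEl p (S : Subgroup G)) := by
    refine (commutator_mono le_rfl hB₁B).trans ?_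
    rw [hB₁def]
    exact (commutator_normalClosure_set_le (hK := hKn) hEK).trans inf_le_left
  -- the subgroup `L₀`
  obtain ⟨L₀, hL₀n, hCL₀, hL₀pow, hL₀max⟩ := exists_max_pQuot (p := p) (centralizer (B : Set G))
  have hC₁n : (centralizer (B₁ : Set G)).Normal := inferInstance
  have hC₁pow : ∀ g ∈ centralizer (B₁ : Set G), ∃ k : ℕ, g ^ (p ^ k) ∈ centralizer (B : Set G) := by
    intro g hg
    apply exists_pow_mem_centralizer_of_omega hp2 B hBp g
    intro x hx hxp
    exact (mem_centralizer_iff.mp hg x (hEB₁ ((hEmem x).mpr ⟨hx, hxp⟩))).symm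
  have hML : ∀ M : Subgroup G, M.Normal →
      (∀ x ∈ M, ∃ k : ℕ, x ^ (p ^ k) ∈ centralizer (B₁ : Set G)) → M ≤ L₀ := by
    intro M hMn hM
    apply hL₀max M hMn
    intro x hx
    obtain ⟨k, hk⟩ := hM x hx
    obtain ⟨k', hk'⟩ := hC₁pow _ hk
    exact ⟨k + k', by rw [pow_add, pow_mul]; exact hk'⟩
  have hfr := normalizer_sylow_inf_sup_eq_top S L₀ (centralizer (B : Set G)) hCL₀ hL₀pow
  have hnormal_of : ∀ X : Subgroup G, X ≤ B →
      normalizer (((S : Subgroup G) ⊓ L₀ : Subgroup G) : Set G) ≤ normalizer (X : Set G) →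
      X.Normal := by
    intro X hXB hN
    rw [← normalizer_eq_top_iff, eq_top_iff, ← hfr]
    apply sup_le hN
    intro c hc
    apply mem_normalizer_of_map_conj_le
    rintro _ ⟨x, hx, rfl⟩
    simp only [MulEquiv.coe_toMonoidHom, MulAut.conj_apply]
    have h1 : x * c = c * x := (mem_centralizer_iff.mp hc) x (hXB hx)
    have e : c * x * c⁻¹ = x := by rw [← h1, mul_inv_cancel_right]
    rw [e]
    exact hx
  by_cases hcase : ∀ x ∈ E, x ∈ sInf (famEl p (S : Subgroup G))
  · -- every member of the family centralizes `B₁`, hence lies in `L₀`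
    have hC₁L : centralizer (B₁ : Set G) ≤ L₀ :=
      hML _ hC₁n (fun x hx => ⟨0, by simpa using hx⟩)
    have hAT : ∀ A ∈ famEl p (S : Subgroup G), A ≤ (S : Subgroup G) ⊓ L₀ := by
      intro A hA
      refine le_inf hA.1 (le_trans ?_ hC₁L)
      rw [le_centralizer_iff, hB₁cl, closure_le]
      intro x hx
      rw [SetLike.mem_coe, mem_centralizer_iff]
      intro a ha
      exact hA.2.1.1 a ha x (sInf_le hA (hcase x hx))
    obtain ⟨A₀, hA₀⟩ := famEl_nonempty p (S : Subgroup G)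
    have heq : famEl p ((S : Subgroup G) ⊓ L₀) = famEl p (S : Subgroup G) := by
      apply Set.Subset.antisymm
      · exact (hfam.restrict S _ A₀ hA₀ (hAT A₀ hA₀) inf_le_left).2
      · intro A hA
        exact (hfam.restrict S _ A hA (hAT A hA) inf_le_left).1
    have hZT : Cfsg.centerThompsonOf p ((S : Subgroup G) ⊓ L₀) = Z := by
      rw [hZ]
      unfold Cfsg.centerThompsonOf
      rw [Cfsg.Agent.Lead.TNC.thompsonSubgroupOf_eq_sSup,
        Cfsg.Agent.Lead.TNC.thompsonSubgroupOf_eq_sSup, heq]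
    apply hV
    apply hnormal_of _ inf_le_right
    intro g hg
    have h1 := normalizer_le_normalizer_centerThompsonOf (p := p) _ hg
    rw [hZT] at h1
    exact inf_mem_normalizer h1 (by rw [normalizer_eq_top]; exact mem_top g)
  · push Not at hcase
    obtain ⟨x₀, hx₀E, hx₀W⟩ := hcase
    rw [mem_sInf] at hx₀W
    push Not at hx₀W
    obtain ⟨A, hA, hx₀A⟩ := hx₀W
    have hnB₁A : ¬ B₁ ≤ A := fun h => hx₀A (h (hEB₁ hx₀E))
    obtain ⟨A', hA', _, hnB₁A', hB₁NA'⟩ := hfam.repl S B₁ S.isPGroup' (hB₁B.trans hBS)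
      (by rw [normalizer_eq_top]; exact le_top) A hA (hB₁comm.trans (sInf_le hA)) hnB₁A
    obtain ⟨L₁, hL₁n, hCL₁, hL₁pow, hL₁q⟩ := hst B₁ hB₁n (hBp.to_le hB₁B)
    have hA'L₁ : A' ≤ L₁ := by
      apply hL₁q A' (S.isPGroup'.to_le (hfam.le _ _ hA'))
      rw [eq_bot_iff]
      have h1 : ⁅B₁, A'⁆ ≤ A' := by
        rw [commutator_le]
        intro y hy z hzA
        have hyN := hB₁NA' hy
        have h2 : y * z * y⁻¹ ∈ A' := (mem_normalizer_iff.mp hyN z).mp hzA
        rw [commutatorElement_def]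
        exact mul_mem h2 (inv_mem hzA)
      refine (commutator_mono h1 le_rfl).trans ?_
      rw [commutator_le]
      intro x hx y hy
      rw [commutatorElement_eq_one_iff_mul_comm.mpr (hfam.comm _ A' hA' x hx y hy)]
      exact one_mem _
    have hA'T : A' ≤ (S : Subgroup G) ⊓ L₀ :=
      le_inf (hfam.le _ _ hA') (hA'L₁.trans (hML L₁ hL₁n hL₁pow))
    obtain ⟨hA'memT, hsub⟩ := hfam.restrict S ((S : Subgroup G) ⊓ L₀) A' hA' hA'T inf_le_left
    obtain ⟨JT, hJT⟩ : ∃ JT : Subgroup G, JT = sSup (famEl p ((S : Subgroup G) ⊓ L₀)) := ⟨_, rfl⟩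
    have hJTJ : JT ≤ J := by rw [hJT, hJe]; exact sSup_le_sSup hsub
    have hXn : (centralizer (JT : Set G) ⊓ B).Normal := by
      apply hnormal_of _ inf_le_right
      intro g hg
      have h1 := (Cfsg.Agent.Lead.TNC.jFunctor p).normalizer_le _ hg
      have h2 : g ∈ normalizer (JT : Set G) := by
        rw [hJT, ← Cfsg.Agent.Lead.TNC.thompsonSubgroupOf_eq_sSup]
        exact h1
      exact inf_mem_normalizer (normalizer_le_normalizer_centralizer' JT h2)
        (by rw [normalizer_eq_top]; exact mem_top g)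
    have hZX : Z ⊓ B ≤ centralizer (JT : Set G) ⊓ B := by
      refine le_inf ?_ inf_le_right
      intro x hx
      have h1 : x ∈ centralizer (J : Set G) := by
        have := hx.1
        rw [hZdef] at this
        exact this.2
      exact centralizer_le (by exact_mod_cast hJTJ) h1
    have hBX : B ≤ centralizer (JT : Set G) ⊓ B := by
      have := normalClosure_le_normal (N := centralizer (JT : Set G) ⊓ B) hZX
      rwa [hB1] at this
    have hEA' : ∀ x ∈ E, x ∈ A' := by
      intro x hx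
      rw [hEmem] at hx
      apply mem_famEl_of_commute hA' (hBS hx.1) hx.2
      intro a ha
      have h1 : x ∈ centralizer (JT : Set G) := (hBX hx.1).1
      have h2 : a ∈ JT := by rw [hJT]; exact le_sSup hA'memT ha
      exact mem_centralizer_iff.mp h1 a h2
    apply hnB₁A'
    rw [hB₁cl, closure_le]
    exact hEA'

end main

section corollaries

variable {G : Type u} [Group G] [Finite G] {p : ℕ} [hp : Fact p.Prime]

theorem centerThompsonOf_le_pCore (hp2 : p ≠ 2) (hst : StabHypSub p G)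
    (hc : centralizer (Cfsg.pCore p G : Set G) ≤ Cfsg.pCore p G) (S : Sylow p G) :
    Cfsg.centerThompsonOf p (S : Subgroup G) ≤ Cfsg.pCore p G := by
  obtain ⟨L, hLn, hCL, hLpow, hLq⟩ := hst (Cfsg.pCore p G) inferInstance
    (Cfsg.Agent.Helper14.pCore_isPGroup p)
  have hLp : IsPGroup p L := by
    intro x
    obtain ⟨k, hk⟩ := hLpow x.1 x.2
    obtain ⟨m, hm⟩ := (Cfsg.Agent.Helper14.pCore_isPGroup (G := G) p) ⟨_, hc hk⟩
    refine ⟨k + m, ?_⟩
    apply Subtype.ext
    have h2 := congrArg Subtype.val hm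
    simp only [SubmonoidClass.coe_pow, OneMemClass.coe_one] at h2 ⊢
    rw [pow_add, pow_mul]
    exact h2
  have hLQ : L ≤ Cfsg.pCore p G := Cfsg.Agent.Helper14.le_pCore p hLn hLp
  obtain ⟨Z, hZ⟩ : ∃ Z : Subgroup G, Z = Cfsg.centerThompsonOf p (S : Subgroup G) := ⟨_, rfl⟩
  rw [← hZ]
  have hZdef : Z = Cfsg.thompsonSubgroupOf p (S : Subgroup G) ⊓
      centralizer (Cfsg.thompsonSubgroupOf p (S : Subgroup G) : Set G) := by rw [hZ]; rfl
  have hZS : Z ≤ S := by
    rw [hZdef]
    exact inf_le_left.trans ((Cfsg.Agent.Lead.TNC.jFunctor p).le _)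
  have hSZ : (S : Subgroup G) ≤ normalizer (Z : Set G) := by
    rw [hZ]
    exact le_normalizer.trans (normalizer_le_normalizer_centerThompsonOf _)
  have hZcomm : ∀ x ∈ Z, ∀ y ∈ Z, x * y = y * x := by
    intro x hx y hy
    rw [hZdef] at hx hy
    exact mem_centralizer_iff.mp hy.2 x hx.1
  refine (hLq Z (S.isPGroup'.to_le hZS) ?_).trans hLQ
  rw [eq_bot_iff]
  have h1 : ⁅Cfsg.pCore p G, Z⁆ ≤ Z := by
    rw [commutator_le]
    intro y hy z hzW
    have hyN := hSZ (Cfsg.Agent.Helper14.pCore_le_sylow p S hy)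
    have h2 : y * z * y⁻¹ ∈ Z := (mem_normalizer_iff.mp hyN z).mp hzW
    rw [commutatorElement_def]
    exact mul_mem h2 (inv_mem hzW)
  refine (commutator_mono h1 le_rfl).trans ?_
  rw [commutator_le]
  intro x hx y hy
  rw [commutatorElement_eq_one_iff_mul_comm.mpr (hZcomm x hx y hy)]
  exact one_mem _

/-- **Glauberman's `ZJ`-theorem for the elementary abelian Thompson subgroup** (`p` odd):
if `G` is `p`-stable and `C_G(O_p(G)) ≤ O_p(G)` then `Z(J_e(S)) ⊴ G`. -/
theorem centerThompsonOf_normal (hp2 : p ≠ 2) (hst : StabHypSub p G)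
    (hc : centralizer (Cfsg.pCore p G : Set G) ≤ Cfsg.pCore p G) (S : Sylow p G) :
    (Cfsg.centerThompsonOf p (S : Subgroup G)).Normal := by
  have := centerThompsonOf_inf_normal_aux hp2 hst S _ (Cfsg.pCore p G) inferInstance
    (Cfsg.Agent.Helper14.pCore_isPGroup p) rfl
  rwa [inf_eq_left.mpr (centerThompsonOf_le_pCore hp2 hst hc S)] at this

/-- groups all of whose `2`-subgroups are abelian are `p`-stable for odd `p` -/
theorem stabHypSub_of_ab2 (hp2 : p ≠ 2) (h2 : Ab2 G) : StabHypSub p G := by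
  intro P hPn hPp
  haveI := hPn
  obtain ⟨L₀, hL₀n, hCL₀, hL₀pow, hL₀max⟩ := exists_max_pQuot (p := p) (centralizer (P : Set G))
  refine ⟨L₀, hL₀n, hCL₀, hL₀pow, ?_⟩
  intro A hA hq a ha
  have hq' : ∀ x ∈ P, ⁅⁅x, a⁆, a⁆ ∈ (frattini ↥P).map P.subtype := by
    intro x hx
    have h1 : ⁅⁅x, a⁆, a⁆ ∈ ⁅⁅P, A⁆, A⁆ :=
      commutator_mem_commutator (commutator_mem_commutator hx ha) ha
    rw [hq, mem_bot] at h1
    rw [h1]
    exact one_mem _
  obtain ⟨D, hDn, hD1, hD2, hD3⟩ := exists_normal_of_quad_frat' hp2 P hPp h2 a hq'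
  exact hL₀max D hDn hD2 hD3

theorem centerThompsonOf_map_of_injOn {G H : Type u} [Group G] [Group H] (p : ℕ) [Fact p.Prime]
    (f : G →* H) (P : Subgroup G) (hinj : Set.InjOn f (P : Set G)) :
    Cfsg.centerThompsonOf p (P.map f) = (Cfsg.centerThompsonOf p P).map f := by
  unfold Cfsg.centerThompsonOf
  have h1 : Cfsg.thompsonSubgroupOf p (P.map f) = (Cfsg.thompsonSubgroupOf p P).map f :=
    (Cfsg.Agent.Lead.TNC.jFunctor p).map f P hinj
  rw [h1]
  exact (Cfsg.Agent.Lead.TNC.zFunctor p).map f (Cfsg.thompsonSubgroupOf p P)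
    (hinj.mono ((Cfsg.Agent.Lead.TNC.jFunctor p).le P))

/-- `Z(J_e(S)) O_{p'}(G) ⊴ G` for `p` odd, `G` `p`-constrained with abelian `2`-subgroups. -/
theorem centerThompsonOf_sup_pPrimeCore_normal (hp2 : p ≠ 2) (h2 : Ab2 G)
    (hc : Cfsg.IsPConstrained p G) (S : Sylow p G) :
    (Cfsg.centerThompsonOf p (S : Subgroup G) ⊔ Cfsg.pPrimeCore p G).Normal := by
  have hK : (Nat.card (Cfsg.pPrimeCore p G)).Coprime p := Cfsg.Agent.Helper19.pPrimeCore_coprime p
  have hπs := QuotientGroup.mk'_surjective (Cfsg.pPrimeCore p G)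
  have h2q : Ab2 (G ⧸ Cfsg.pPrimeCore p G) := h2.of_surjective _ hπs
  have hnorm := centerThompsonOf_normal hp2 (stabHypSub_of_ab2 hp2 h2q)
    (centralizer_pCore_quotient_le_of_isPConstrained hc) (S.mapSurjective hπs)
  rw [Sylow.coe_mapSurjective,
    centerThompsonOf_map_of_injOn p _ _ (psq_injOn hK S.isPGroup')] at hnorm
  rw [sup_comm, psq_sup_eq_comap]
  exact hnorm.comap _

end corollaries

end Cfsg.Agent.Helper26
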