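import Mathlib
import Cfsg.Agent.Helper26.ZJe
import Cfsg.Agent.Lead.TNC11

set_option autoImplicit false
set_option linter.style.haveILetI false
set_option linter.unusedSectionVars false
set_option linter.unusedVariables false

/-! # The Glauberman–Thompson normal `p`-complement theorem for `Z(J_e(P))` -/

namespace Cfsg.Agent.Helper26

open Subgroup
open Cfsg.Agent.Lead.TNC

universe u

variable {p : ℕ} [Fact p.Prime]

/-- the functor `P ↦ Z(J_e(P))`, with `J_e` the elementary abelian version Thompson subgroup -/
def zjEFunctor (p : ℕ) [Fact p.Prime] : CharFunctor.{u} p where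
  W P := Cfsg.centerThompsonOf p P
  le P := inf_le_left.trans ((jFunctor p).le P)
  map := by
    intro G H _ _ f P hinj
    exact centerThompsonOf_map_of_injOn p f P hinj
  ne_bot := by
    intro G _ _ P hP hne
    have hJp : IsPGroup p (Cfsg.thompsonSubgroupOf p P) := hP.to_le ((jFunctor p).le P)
    have hJne : Cfsg.thompsonSubgroupOf p P ≠ ⊥ := (jFunctor p).ne_bot P hP hne
    exact (zFunctor p).ne_bot (Cfsg.thompsonSubgroupOf p P) hJp hJne

/-- the hypothesis of the Glauberman–Thompson normal `p`-complement theorem -/
def glaubermanEHyp (p : ℕ) [Fact p.Prime] : ControlHyp.{u} p :=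
  ControlHyp.ofNormalizer (zjEFunctor p)

theorem glaubermanE_endgame (hp2 : p ≠ 2) (G : Type u) [Group G] [Finite G] (P : Sylow p G)
    (hH : (glaubermanEHyp p).Hyp G P) (hS : MinStructure p G P) : False := by
  have hst := stabHypSub_of_minStructure hp2 hS
  have hn : (Cfsg.centerThompsonOf p (P : Subgroup G)).Normal :=
    centerThompsonOf_normal hp2 hst hS.centralizer_le P
  have htop : normalizer (Cfsg.centerThompsonOf p (P : Subgroup G) : Set G) = ⊤ :=
    Subgroup.normalizer_eq_top_iff.mpr hn
  exact hS.not_npc (npc_of_top (npc_of_eq htop hH))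

/-- **The Glauberman–Thompson normal `p`-complement theorem** for the elementary abelian
version Thompson subgroup. -/
theorem glaubermanE_npc (hp2 : p ≠ 2) (G : Type u) [Group G] [Finite G] (P : Sylow p G)
    (hN : Cfsg.HasNormalPComplement p
      (normalizer (Cfsg.centerThompsonOf p (P : Subgroup G) : Set G))) :
    Cfsg.HasNormalPComplement p G :=
  (glaubermanEHyp p).npc (glaubermanE_endgame hp2) G P hN

end Cfsg.Agent.Helper26
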