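import Mathlib
import Cfsg.Prelude.Def_LocalEven
import Cfsg.Agent.Helper25.SylowIn

set_option autoImplicit false

namespace Cfsg.Agent.Helper26

open Cfsg

universe u v w

/-- A surjection from a subgroup of `G` onto `H` shows that `H` is involved in `G`. -/
theorem involves_of_surjective {H : Type u} [Group H] {G : Type v} [Group G] (K : Subgroup G)
    (f : K →* H) (hf : Function.Surjective f) : Involves H G := by
  have e : (f.ker.map K.subtype).subgroupOf K = f.ker :=
    Subgroup.comap_map_eq_self_of_injective K.subtype_injective f.ker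
  have hn : ((f.ker.map K.subtype).subgroupOf K).Normal := by
    rw [e]
    infer_instance
  exact ⟨K, f.ker.map K.subtype, hn,
    ⟨(QuotientGroup.quotientMulEquivOfEq e).trans (QuotientGroup.quotientKerEquivOfSurjective f hf)⟩⟩

theorem exists_surjective_of_involves {H : Type u} [Group H] {G : Type v} [Group G]
    (h : Involves H G) : ∃ (K : Subgroup G) (f : K →* H), Function.Surjective f := by
  obtain ⟨K, R, hn, ⟨e⟩⟩ := h
  exact ⟨K, e.toMonoidHom.comp (QuotientGroup.mk' (R.subgroupOf K)),
    e.surjective.comp (QuotientGroup.mk'_surjective _)⟩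

theorem involves_of_surjective_top {H : Type u} [Group H] {G : Type v} [Group G]
    (f : G →* H) (hf : Function.Surjective f) : Involves H G :=
  involves_of_surjective ⊤ (f.comp (⊤ : Subgroup G).subtype) (fun y => by
    obtain ⟨x, rfl⟩ := hf y
    exact ⟨⟨x, Subgroup.mem_top x⟩, rfl⟩)

/-- Involvement passes along injective homomorphisms of the big group. -/
theorem involves_of_injective {H : Type u} [Group H] {A : Type v} [Group A] {B : Type w} [Group B]
    (φ : A →* B) (hφ : Function.Injective φ) (h : Involves H A) : Involves H B := by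
  obtain ⟨K, f, hf⟩ := exists_surjective_of_involves h
  exact involves_of_surjective (K.map φ)
    (f.comp (K.equivMapOfInjective φ hφ).symm.toMonoidHom)
    (hf.comp (K.equivMapOfInjective φ hφ).symm.surjective)

/-- A subgroup of an involved group is involved. -/
theorem involves_subgroup {H : Type u} [Group H] {G : Type v} [Group G] (Q : Subgroup H)
    (h : Involves H G) : Involves Q G := by
  obtain ⟨K, f, hf⟩ := exists_surjective_of_involves h
  exact involves_of_surjective ((Q.comap f).map K.subtype)
    ((f.subgroupComap Q).comp
      ((Q.comap f).equivMapOfInjective K.subtype K.subtype_injective).symm.toMonoidHom)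
    ((f.subgroupComap_surjective_of_surjective Q hf).comp
      ((Q.comap f).equivMapOfInjective K.subtype K.subtype_injective).symm.surjective)

/-- A `p`-group involved in a finite group is involved in each of its Sylow `p`-subgroups. -/
theorem involves_sylow {H : Type u} [Group H] {G : Type v} [Group G] [Finite G] (p : ℕ)
    [Fact p.Prime] (hH : IsPGroup p H) (T : Sylow p G) (h : Involves H G) :
    Involves H (T : Subgroup G) := by
  obtain ⟨K, f, hf⟩ := exists_surjective_of_involves h
  have hfinH : Finite H := Finite.of_surjective f hf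
  obtain ⟨P⟩ : Nonempty (Sylow p K) := inferInstance
  -- `f` restricted to `P` is surjective
  have htop : (P : Subgroup K).map f = ⊤ := by
    rw [← Subgroup.index_eq_one]
    have h1 : ((P : Subgroup K).map f).index ∣ (P : Subgroup K).index := Subgroup.index_map_dvd _ hf
    obtain ⟨n, hn⟩ := hH.index ((P : Subgroup K).map f)
    have h2 : ¬ p ∣ (P : Subgroup K).index := P.not_dvd_index
    cases n with
    | zero => rw [hn, pow_zero]
    | succ n =>
      exfalso
      apply h2
      refine dvd_trans ?_ h1
      rw [hn]
      exact dvd_pow_self p (Nat.succ_ne_zero n)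
  have hsurj : Function.Surjective (f.comp (P : Subgroup K).subtype) := by
    intro y
    have hy : y ∈ (P : Subgroup K).map f := htop ▸ Subgroup.mem_top y
    obtain ⟨x, hx, rfl⟩ := hy
    exact ⟨⟨x, hx⟩, rfl⟩
  have hinv : Involves H (P : Subgroup K) := involves_of_surjective_top _ hsurj
  -- embed `P` into `T`
  have hAp : IsPGroup p ((P : Subgroup K).map K.subtype) := P.2.map _
  obtain ⟨g, hg⟩ := Cfsg.Agent.Helper25.exists_conj_le_sylow p T hAp
  let ψ₀ : (P : Subgroup K) →* G :=
    (MulAut.conj g).toMonoidHom.comp (K.subtype.comp (P : Subgroup K).subtype)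
  have hψ₀ : ∀ x, ψ₀ x ∈ (T : Subgroup G) := fun x => hg ⟨_, ⟨x, x.2, rfl⟩, rfl⟩
  have hψ₀inj : Function.Injective ψ₀ :=
    (MulAut.conj g).injective.comp (K.subtype_injective.comp (P : Subgroup K).subtype_injective)
  refine involves_of_injective (ψ₀.codRestrict (T : Subgroup G) hψ₀) ?_ hinv
  intro x y hxy
  apply hψ₀inj
  exact congrArg Subtype.val hxy

end Cfsg.Agent.Helper26
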