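import Mathlib
import Cfsg.Agent.Lead.RelQuot
import Cfsg.Agent.Lead.CoprimeAbelian
import Cfsg.Agent.Lead.Coprime2
import Cfsg.Agent.Lead.Coprime3
import Cfsg.Agent.Helper26.Basic

set_option autoImplicit false
set_option linter.style.haveILetI false
set_option linter.unusedSectionVars false

/-! General tools for the nonabelian endgame of B&G Theorem 3.6. -/

namespace Cfsg.Agent.Helper26.BG36L3

open Subgroup Cfsg.Agent.Lead
open scoped commutatorElement

variable {X : Type*} [Group X]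

theorem centralizer_sup_eq (A B : Subgroup X) :
    centralizer ((A ⊔ B : Subgroup X) : Set X) =
      centralizer (A : Set X) ⊓ centralizer (B : Set X) := by
  apply le_antisymm
  · exact le_inf (centralizer_le (SetLike.coe_subset_coe.mpr le_sup_left))
      (centralizer_le (SetLike.coe_subset_coe.mpr le_sup_right))
  · rw [le_centralizer_iff]
    apply sup_le
    · rw [le_centralizer_iff]
      exact inf_le_left
    · rw [le_centralizer_iff]
      exact inf_le_right

theorem mem_normalizer_of_conj_mem [Finite X] (K : Subgroup X) (g : X)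
    (h : ∀ x ∈ K, g * x * g⁻¹ ∈ K) : g ∈ normalizer (K : Set X) := by
  have hcard : Nat.card (K.map (MulAut.conj g).toMonoidHom) = Nat.card K :=
    Nat.card_congr (K.equivMapOfInjective _ (MulAut.conj g).injective).symm.toEquiv
  have hle : K.map (MulAut.conj g).toMonoidHom ≤ K := by
    rintro _ ⟨x, hx, rfl⟩
    simpa [MulAut.conj_apply] using h x hx
  have heq : K.map (MulAut.conj g).toMonoidHom = K :=
    Subgroup.eq_of_le_of_card_ge hle hcard.ge
  rw [mem_normalizer_iff]
  intro x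
  constructor
  · exact h x
  · intro hx
    rw [← heq] at hx
    obtain ⟨y, hy, hyx⟩ := hx
    have e : y = x := by
      have : g * y * g⁻¹ = g * x * g⁻¹ := by simpa [MulAut.conj_apply] using hyx
      exact mul_left_cancel (mul_right_cancel this)
    rw [← e]
    exact hy

theorem le_normalizer_of_conj_mem [Finite X] (A K : Subgroup X)
    (h : ∀ a ∈ A, ∀ x ∈ K, a * x * a⁻¹ ∈ K) : A ≤ normalizer (K : Set X) :=
  fun a ha => mem_normalizer_of_conj_mem K a (h a ha)

theorem conj_mem_of_le_normalizer {A K : Subgroup X} (h : A ≤ normalizer (K : Set X)) {a x : X}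
    (ha : a ∈ A) (hx : x ∈ K) : a * x * a⁻¹ ∈ K :=
  (mem_normalizer_iff.mp (h ha) x).mp hx

/-- Relative form of `C_V(A) ∩ [V,A] = 1` for coprime action on an abelian section `K/D`. -/
theorem rel_coprime_abelian [Finite X] (D K A : Subgroup X)
    (hKD : K ≤ normalizer (D : Set X)) (hAD : A ≤ normalizer (D : Set X))
    (hAK : A ≤ normalizer (K : Set X)) (hKK : ⁅K, K⁆ ≤ D)
    (hcop : (Nat.card A).Coprime (Nat.card K)) :
    ∀ x ∈ ⁅K, A⁆, (∀ a ∈ A, ⁅x, a⁆ ∈ D) → x ∈ D := by
  intro x hx hxa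
  have hxK : x ∈ K := commutator_le_of_le_normalizer hAK hx
  have hker : ∀ (y : X) (hy : y ∈ normalizer (D : Set X)), relMk D ⟨y, hy⟩ = 1 ↔ y ∈ D := by
    intro y hy
    rw [← MonoidHom.mem_ker, ker_relMk, mem_subgroupOf]
  have hcomm : ∀ a ∈ bar D K, ∀ b ∈ bar D K, a * b = b * a := by
    rintro _ ⟨a, ha, rfl⟩ _ ⟨b, hb, rfl⟩
    rw [SetLike.mem_coe, mem_subgroupOf] at ha hb
    rw [← commutatorElement_eq_one_iff_mul_comm, ← map_commutatorElement]
    have h1 : ⁅(a : X), (b : X)⁆ ∈ D := hKK (commutator_mem_commutator ha hb)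
    have h2 : ⁅a, b⁆ = ⟨⁅(a : X), (b : X)⁆, (normalizer (D : Set X)).mul_mem
        ((normalizer (D : Set X)).mul_mem ((normalizer (D : Set X)).mul_mem a.2 b.2)
          ((normalizer (D : Set X)).inv_mem a.2)) ((normalizer (D : Set X)).inv_mem b.2)⟩ :=
      Subtype.ext rfl
    rw [h2, hker]
    exact h1
  haveI : IsMulCommutative ↥(bar D K) :=
    ⟨⟨fun a b => Subtype.ext (hcomm a a.2 b b.2)⟩⟩
  have hnorm : bar D A ≤ normalizer (bar D K : Set (RelQ D)) := bar_le_normalizer_bar D hAK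
  have hcop' : (Nat.card (bar D A)).Coprime (Nat.card (bar D K)) :=
    Nat.Coprime.coprime_dvd_left (card_bar_dvd D A)
      (Nat.Coprime.coprime_dvd_right (card_bar_dvd D K) hcop)
  have hinf := coprime_abelian_inf (bar D A) (bar D K) hnorm hcop'
  have hcl : ⁅K, A⁆ ≤ lift D ⁅bar D K, bar D A⁆ := by
    rw [commutator_le]
    intro k hk a ha
    rw [mem_lift_iff]
    have hkN := hKD hk
    have haN := hAD ha
    refine ⟨(normalizer (D : Set X)).mul_mem
        ((normalizer (D : Set X)).mul_mem ((normalizer (D : Set X)).mul_mem hkN haN)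
          ((normalizer (D : Set X)).inv_mem hkN)) ((normalizer (D : Set X)).inv_mem haN), ?_⟩
    have h2 : (⟨⁅k, a⁆, (normalizer (D : Set X)).mul_mem
        ((normalizer (D : Set X)).mul_mem ((normalizer (D : Set X)).mul_mem hkN haN)
          ((normalizer (D : Set X)).inv_mem hkN)) ((normalizer (D : Set X)).inv_mem haN)⟩ :
        ↥(normalizer (D : Set X))) = ⁅(⟨k, hkN⟩ : ↥(normalizer (D : Set X))), ⟨a, haN⟩⁆ :=
      Subtype.ext rfl
    rw [h2, map_commutatorElement]
    have hk' : relMk D ⟨k, hkN⟩ ∈ bar D K := ⟨⟨k, hkN⟩, hk, rfl⟩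
    have ha' : relMk D ⟨a, haN⟩ ∈ bar D A := ⟨⟨a, haN⟩, ha, rfl⟩
    exact commutator_mem_commutator hk' ha'
  have hx' := hcl hx
  rw [mem_lift_iff] at hx'
  obtain ⟨hxN, hxc⟩ := hx'
  have hxbar : relMk D ⟨x, hxN⟩ ∈ bar D K := ⟨⟨x, hxN⟩, hxK, rfl⟩
  have hxcent : relMk D ⟨x, hxN⟩ ∈ centralizer ((bar D A : Subgroup (RelQ D)) : Set (RelQ D)) := by
    rw [mem_centralizer_iff]
    rintro _ ⟨a, ha, rfl⟩
    rw [SetLike.mem_coe, mem_subgroupOf] at ha
    symm
    rw [← commutatorElement_eq_one_iff_mul_comm, ← map_commutatorElement]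
    have h2 : ⁅(⟨x, hxN⟩ : ↥(normalizer (D : Set X))), a⁆ = ⟨⁅x, (a : X)⁆,
        (normalizer (D : Set X)).mul_mem
        ((normalizer (D : Set X)).mul_mem ((normalizer (D : Set X)).mul_mem hxN a.2)
          ((normalizer (D : Set X)).inv_mem hxN)) ((normalizer (D : Set X)).inv_mem a.2)⟩ :=
      Subtype.ext rfl
    rw [h2, hker]
    exact hxa _ ha
  have h1 : relMk D ⟨x, hxN⟩ ∈ (bar D K ⊓ centralizer ((bar D A : Subgroup (RelQ D)) :
      Set (RelQ D))) ⊓ ⁅bar D K, bar D A⁆ := ⟨⟨hxbar, hxcent⟩, hxc⟩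
  rw [hinf, mem_bot, hker] at h1
  exact h1

end Cfsg.Agent.Helper26.BG36L3
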