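import Mathlib
import Cfsg.Agent.Helper29.BG36Cfg
import Cfsg.Agent.Helper5.FrobModH
import Cfsg.Agent.Helper26.BG36L3a

set_option autoImplicit false
set_option linter.style.haveILetI false
set_option linter.unusedSectionVars false

/-! The nonabelian endgame of B&G Theorem 3.6, part 1: the Frobenius formula and irreducibility
of `Q / Z(Q)`. -/

namespace Cfsg.Agent.Helper26.BG36L3

open Subgroup Cfsg.Agent.Lead Cfsg.Agent.Helper29.BG36
open scoped commutatorElement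

variable {X : Type*} [Group X] [Finite X]

/-- the centre of `Q` as a subgroup of the ambient group -/
def zQ (Q : Subgroup X) : Subgroup X := Q ⊓ centralizer (Q : Set X)

theorem zQ_le (Q : Subgroup X) : zQ Q ≤ Q := inf_le_left

theorem zQ_comm {Q : Subgroup X} {z y : X} (hz : z ∈ zQ Q) (hy : y ∈ Q) : y * z = z * y :=
  (mem_centralizer_iff.mp hz.2) y hy

theorem normalizer_le_normalizer_zQ (Q : Subgroup X) :
    normalizer (Q : Set X) ≤ normalizer (zQ Q : Set X) := by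
  apply le_normalizer_of_conj_mem
  intro a ha z hz
  refine ⟨conj_mem_of_le_normalizer le_rfl ha hz.1, ?_⟩
  show a * z * a⁻¹ ∈ centralizer (Q : Set X)
  rw [mem_centralizer_iff]
  intro y hy
  have hy' : a⁻¹ * y * a⁻¹⁻¹ ∈ Q :=
    conj_mem_of_le_normalizer le_rfl ((normalizer (Q : Set X)).inv_mem ha) hy
  have h := zQ_comm hz hy'
  have e1 : y * (a * z * a⁻¹) = a * ((a⁻¹ * y * a⁻¹⁻¹) * z) * a⁻¹ := by group
  have e2 : a * z * a⁻¹ * y = a * (z * (a⁻¹ * y * a⁻¹⁻¹)) * a⁻¹ := by group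
  rw [e1, e2, h]

theorem mem_centralizer_of_prime_card {R : Subgroup X} {r : ℕ} (hr : r.Prime)
    (hR : Nat.card R = r) {e : X} (he : e ∈ R) (he1 : e ≠ 1) {u : X} (hu : e * u = u * e) :
    u ∈ centralizer (R : Set X) := by
  have h1 : zpowers e ≤ R := zpowers_le.mpr he
  have h2 : Nat.card (zpowers e) ∣ r := hR ▸ card_dvd_of_le h1
  have h3 : Nat.card (zpowers e) ≠ 1 := by
    rw [Nat.card_zpowers]
    intro h
    exact he1 (orderOf_eq_one_iff.mp h)
  have h4 : Nat.card (zpowers e) = r := by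
    rcases (Nat.dvd_prime hr).mp h2 with h | h
    · exact absurd h h3
    · exact h
  have h5 : zpowers e = R := eq_of_le_of_card_ge h1 (by rw [h4, hR])
  rw [mem_centralizer_iff]
  intro s hs
  rw [← h5] at hs
  have h6 : zpowers e ≤ centralizer ({u} : Set X) := by
    rw [zpowers_le, mem_centralizer_iff]
    intro x hx
    rw [Set.mem_singleton_iff] at hx
    rw [hx]
    exact hu.symm
  have := (mem_centralizer_iff.mp (h6 hs)) u (Set.mem_singleton u)
  exact this.symm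

/-- The hypotheses of the nonabelian endgame. -/
structure Ctx (V Q P R₀ : Subgroup X) (p q r : ℕ) : Prop where
  cfg : EndCfg V Q P R₀ p q r
  Qnc : ¬ ∀ a ∈ Q, ∀ b ∈ Q, a * b = b * a
  PZ : P ≤ centralizer ((zQ Q : Subgroup X) : Set X)
  Qcl : ⁅Q, Q⁆ ≤ centralizer (Q : Set X)
  Qpow : ∀ x ∈ Q, x ^ q ∈ centralizer (Q : Set X)

namespace Ctx

variable {V Q P R₀ : Subgroup X} {p q r : ℕ} (c : Ctx V Q P R₀ p q r)

include c

theorem comm_le_zQ : ⁅Q, Q⁆ ≤ zQ Q :=
  le_inf (commutator_le_of_le_normalizer le_normalizer) c.Qcl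

theorem pow_mem_zQ {x : X} (hx : x ∈ Q) : x ^ q ∈ zQ Q :=
  ⟨Q.pow_mem hx q, c.Qpow x hx⟩

theorem P_le_normalizer_zQ : P ≤ normalizer (zQ Q : Set X) :=
  c.cfg.PQ.trans (normalizer_le_normalizer_zQ Q)

theorem R_le_normalizer_zQ : R₀ ≤ normalizer (zQ Q : Set X) :=
  c.cfg.RQ.trans (normalizer_le_normalizer_zQ Q)

theorem Q_le_normalizer_zQ : Q ≤ normalizer (zQ Q : Set X) :=
  le_normalizer.trans (normalizer_le_normalizer_zQ Q)

theorem zQ_le_centralizer_P : zQ Q ≤ centralizer (P : Set X) :=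
  le_centralizer_iff.mp c.PZ

/-- `C_Q(P) = Z(Q)` -/
theorem cent_P : Q ⊓ centralizer (P : Set X) = zQ Q := by
  apply le_antisymm
  · refine le_inf inf_le_left ?_
    have h1 : ⁅⁅P, Q ⊓ centralizer (P : Set X)⁆, Q⁆ = ⊥ := by
      have : ⁅P, Q ⊓ centralizer (P : Set X)⁆ = ⊥ := by
        rw [commutator_eq_bot_iff_le_centralizer, le_centralizer_iff]
        exact inf_le_right
      rw [this, commutator_bot_left]
    have h2 : ⁅⁅Q ⊓ centralizer (P : Set X), Q⁆, P⁆ = ⊥ := by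
      rw [commutator_eq_bot_iff_le_centralizer]
      exact (commutator_mono inf_le_left le_rfl).trans (c.comm_le_zQ.trans c.zQ_le_centralizer_P)
    have h3 := commutator_commutator_eq_bot_of_rotate h1 h2
    rw [c.cfg.QP, commutator_eq_bot_iff_le_centralizer, le_centralizer_iff] at h3
    exact h3
  · exact le_inf (zQ_le Q) c.zQ_le_centralizer_P

theorem hUn : ∀ e ∈ R₀, ∀ u ∈ P, e * u * e⁻¹ ∈ P :=
  fun _ he _ hu => conj_mem_of_le_normalizer c.cfg.RP he hu

theorem hfpf : ∀ e ∈ R₀, e ≠ 1 → ∀ u ∈ P, e * u = u * e → u = 1 := by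
  intro e he he1 u hu hcomm
  have h1 := mem_centralizer_of_prime_card c.cfg.hr c.cfg.hR₀ he he1 hcomm
  have h2 : u ∈ P ⊓ centralizer (R₀ : Set X) := ⟨hu, h1⟩
  rw [c.cfg.CPR, mem_bot] at h2
  exact h2

theorem card_PR_dvd : Nat.card ↥(P ⊔ R₀) ∣ Nat.card P * Nat.card R₀ := by
  have h := Cfsg.Agent.Helper26.card_sup_mul_card_inf c.cfg.RP
  rw [sup_comm] at h
  rw [mul_comm (Nat.card P)]
  exact Dvd.intro _ h

theorem coprime_q_p : Nat.Coprime q p := (Nat.coprime_primes c.cfg.hq c.cfg.hp).mpr c.cfg.hpq.symm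
theorem coprime_q_r : Nat.Coprime q r := (Nat.coprime_primes c.cfg.hq c.cfg.hr).mpr c.cfg.hqr

theorem coprime_q_card_P : Nat.Coprime q (Nat.card P) := by
  haveI : Fact p.Prime := ⟨c.cfg.hp⟩
  obtain ⟨n, hn⟩ := c.cfg.hP.exists_card_eq
  rw [hn]
  exact Nat.Coprime.pow_right n c.coprime_q_p

theorem coprime_card_PR {M : Subgroup X} (hMQ : M ≤ Q) :
    Nat.Coprime (Nat.card M) (Nat.card ↥(P ⊔ R₀)) := by
  haveI : Fact q.Prime := ⟨c.cfg.hq⟩
  obtain ⟨n, hn⟩ := (c.cfg.hQ.to_le hMQ).exists_card_eq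
  rw [hn]
  apply Nat.Coprime.pow_left
  apply Nat.Coprime.coprime_dvd_right c.card_PR_dvd
  apply Nat.Coprime.mul_right c.coprime_q_card_P
  rw [c.cfg.hR₀]
  exact c.coprime_q_r

theorem isSolvable_of_le_Q {M : Subgroup X} (hMQ : M ≤ Q) : Group.IsSolvable M := by
  haveI : Fact q.Prime := ⟨c.cfg.hq⟩
  haveI := (c.cfg.hQ.to_le hMQ).isNilpotent
  infer_instance

/-- The Frobenius formula for `P R₀` acting on an invariant `M` between `Z(Q)` and `Q`. -/
theorem formula {M : Subgroup X} (hZM : zQ Q ≤ M) (hMQ : M ≤ Q)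
    (hPM : P ≤ normalizer (M : Set X)) (hRM : R₀ ≤ normalizer (M : Set X)) :
    Nat.card ↥(zQ Q ⊓ centralizer (R₀ : Set X)) ^ r * Nat.card M =
      Nat.card ↥(M ⊓ centralizer (R₀ : Set X)) ^ r * Nat.card (zQ Q) := by
  have h := Cfsg.Agent.Helper5.FrobMod.frobenius_fixed_point_formula P R₀ c.hUn c.hfpf M
    (fun x hx m hm => conj_mem_of_le_normalizer (sup_le hPM hRM) hx hm)
    (c.isSolvable_of_le_Q hMQ) (c.coprime_card_PR hMQ)
  have e1 : M ⊓ centralizer (P : Set X) = zQ Q := by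
    apply le_antisymm
    · rw [← c.cent_P]
      exact inf_le_inf_right _ hMQ
    · exact le_inf hZM c.zQ_le_centralizer_P
  have e2 : M ⊓ centralizer ((P ⊔ R₀ : Subgroup X) : Set X) =
      zQ Q ⊓ centralizer (R₀ : Set X) := by
    rw [centralizer_sup_eq, ← inf_assoc, e1]
  rw [e2, e1, c.cfg.hR₀] at h
  exact h

end Ctx

end Cfsg.Agent.Helper26.BG36L3
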