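import Mathlib
import Cfsg.Agent.Helper26.BG36L3b

set_option autoImplicit false
set_option linter.style.haveILetI false
set_option linter.unusedSectionVars false

/-! The nonabelian endgame of B&G Theorem 3.6, part 2: `|Q : Z(Q)| = q ^ r` and irreducibility. -/

namespace Cfsg.Agent.Helper26.BG36L3

open Subgroup Cfsg.Agent.Lead Cfsg.Agent.Helper29.BG36
open scoped commutatorElement

variable {X : Type*} [Group X] [Finite X]

namespace Ctx

variable {V Q P R₀ : Subgroup X} {p q r : ℕ} (c : Ctx V Q P R₀ p q r)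

include c

theorem zQ_ne_Q : zQ Q ≠ Q := by
  intro h
  apply c.Qnc
  intro a ha b hb
  have ha' : a ∈ zQ Q := by rw [h]; exact ha
  exact (zQ_comm ha' hb).symm

theorem card_zQ_lt : Nat.card (zQ Q) < Nat.card Q := by
  have hle := card_le_of_le (zQ_le Q)
  rcases hle.lt_or_eq with h | h
  · exact h
  · exact absurd (eq_of_le_of_card_ge (zQ_le Q) h.ge) c.zQ_ne_Q

theorem card_centQ_le : Nat.card ↥(Q ⊓ centralizer (R₀ : Set X)) ≤
    q * Nat.card ↥(zQ Q ⊓ centralizer (R₀ : Set X)) := by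
  obtain ⟨g, hg⟩ := c.cfg.CQR.exists_generator
  have hK : Q ⊓ centralizer (R₀ : Set X) = zpowers (g : X) := by
    apply le_antisymm
    · intro x hx
      obtain ⟨k, hk⟩ := mem_zpowers_iff.mp (hg ⟨x, hx⟩)
      refine mem_zpowers_iff.mpr ⟨k, ?_⟩
      have := congrArg Subtype.val hk
      simpa using this
    · exact zpowers_le.mpr g.2
  have hcard : Nat.card ↥(Q ⊓ centralizer (R₀ : Set X)) = orderOf (g : X) := by
    have h0 := Nat.card_zpowers (g : X)
    rw [← hK] at h0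
    exact h0
  have hpow : (g : X) ^ q ∈ zQ Q ⊓ centralizer (R₀ : Set X) :=
    ⟨c.pow_mem_zQ g.2.1, (centralizer (R₀ : Set X)).pow_mem g.2.2 q⟩
  have h1 : zpowers ((g : X) ^ q) ≤ zQ Q ⊓ centralizer (R₀ : Set X) := zpowers_le.mpr hpow
  have h2 := card_le_of_le h1
  rw [Nat.card_zpowers, orderOf_pow] at h2
  have h3 : Nat.gcd (orderOf (g : X)) q ∣ orderOf (g : X) := Nat.gcd_dvd_left _ _
  have h4 : Nat.gcd (orderOf (g : X)) q ≤ q := Nat.le_of_dvd c.cfg.hq.pos (Nat.gcd_dvd_right _ _)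
  calc Nat.card ↥(Q ⊓ centralizer (R₀ : Set X)) = orderOf (g : X) := hcard
    _ = (orderOf (g : X) / Nat.gcd (orderOf (g : X)) q) * Nat.gcd (orderOf (g : X)) q :=
      (Nat.div_mul_cancel h3).symm
    _ ≤ Nat.card ↥(zQ Q ⊓ centralizer (R₀ : Set X)) * q := Nat.mul_le_mul h2 h4
    _ = q * Nat.card ↥(zQ Q ⊓ centralizer (R₀ : Set X)) := mul_comm _ _

theorem exists_pow_card {M : Subgroup X} (hMQ : M ≤ Q) : ∃ n, Nat.card M = q ^ n := by
  haveI : Fact q.Prime := ⟨c.cfg.hq⟩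
  exact (c.cfg.hQ.to_le hMQ).exists_card_eq

theorem card_centQ : Nat.card ↥(Q ⊓ centralizer (R₀ : Set X)) =
    q * Nat.card ↥(zQ Q ⊓ centralizer (R₀ : Set X)) := by
  have hq1 : 1 < q := c.cfg.hq.one_lt
  obtain ⟨i, hi⟩ := c.exists_pow_card (inf_le_left.trans (zQ_le Q) :
    zQ Q ⊓ centralizer (R₀ : Set X) ≤ Q)
  obtain ⟨k, hk⟩ := c.exists_pow_card (inf_le_left : Q ⊓ centralizer (R₀ : Set X) ≤ Q)
  have hf := c.formula (zQ_le Q) le_rfl c.cfg.PQ c.cfg.RQ
  have hle := c.card_centQ_le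
  have hlt := c.card_zQ_lt
  rw [hi, hk] at hf hle
  rw [hi, hk]
  have h1 : i < k := by
    by_contra hcon'
    have hcon : k ≤ i := Nat.le_of_not_lt hcon'
    have h2 : q ^ k ≤ q ^ i := Nat.pow_le_pow_right c.cfg.hq.pos hcon
    have h3 : (q ^ k) ^ r ≤ (q ^ i) ^ r := Nat.pow_le_pow_left h2 r
    have h4 : (q ^ k) ^ r * Nat.card (zQ Q) ≤ (q ^ i) ^ r * Nat.card (zQ Q) :=
      Nat.mul_le_mul_right _ h3
    have h5 : (q ^ i) ^ r * Nat.card (zQ Q) < (q ^ i) ^ r * Nat.card Q :=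
      Nat.mul_lt_mul_of_pos_left hlt (Nat.pos_of_ne_zero (by positivity))
    omega
  have h2 : k ≤ i + 1 := by
    rw [← pow_succ'] at hle
    exact (Nat.pow_le_pow_iff_right hq1).mp hle
  have h3 : k = i + 1 := by omega
  rw [h3, pow_succ']

theorem card_Q : Nat.card Q = q ^ r * Nat.card (zQ Q) := by
  have hf := c.formula (zQ_le Q) le_rfl c.cfg.PQ c.cfg.RQ
  rw [c.card_centQ, mul_pow] at hf
  have hpos : 0 < Nat.card ↥(zQ Q ⊓ centralizer (R₀ : Set X)) ^ r :=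
    pow_pos Nat.card_pos r
  apply Nat.eq_of_mul_eq_mul_left hpos
  rw [hf]
  ring

/-- `P R₀` acts irreducibly on `Q / Z(Q)`. -/
theorem irr {M : Subgroup X} (hZM : zQ Q ≤ M) (hMQ : M ≤ Q)
    (hPM : P ≤ normalizer (M : Set X)) (hRM : R₀ ≤ normalizer (M : Set X)) :
    M = zQ Q ∨ M = Q := by
  have hq1 : 1 < q := c.cfg.hq.one_lt
  obtain ⟨i, hi⟩ := c.exists_pow_card (inf_le_left.trans (zQ_le Q) :
    zQ Q ⊓ centralizer (R₀ : Set X) ≤ Q)
  obtain ⟨j, hj⟩ := c.exists_pow_card (inf_le_left.trans hMQ :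
    M ⊓ centralizer (R₀ : Set X) ≤ Q)
  have hk := c.card_centQ
  have hf := c.formula hZM hMQ hPM hRM
  have h1 : Nat.card ↥(zQ Q ⊓ centralizer (R₀ : Set X)) ≤
      Nat.card ↥(M ⊓ centralizer (R₀ : Set X)) := card_le_of_le (inf_le_inf_right _ hZM)
  have h2 : Nat.card ↥(M ⊓ centralizer (R₀ : Set X)) ≤
      Nat.card ↥(Q ⊓ centralizer (R₀ : Set X)) := card_le_of_le (inf_le_inf_right _ hMQ)
  rw [hk] at h2
  rw [hi, hj] at h1 h2 hf
  have h3 : i ≤ j := (Nat.pow_le_pow_iff_right hq1).mp h1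
  have h4 : j ≤ i + 1 := by
    rw [← pow_succ'] at h2
    exact (Nat.pow_le_pow_iff_right hq1).mp h2
  have hpos : 0 < (q ^ i) ^ r := by positivity
  rcases Nat.lt_or_ge i j with h5 | h5
  · right
    have h6 : j = i + 1 := by omega
    have hQ := c.card_Q
    rw [h6, pow_succ', mul_pow] at hf
    have h7 : Nat.card M = Nat.card Q := by
      apply Nat.eq_of_mul_eq_mul_left hpos
      rw [hf, hQ]
      ring
    exact eq_of_le_of_card_ge hMQ h7.ge
  · left
    have h6 : j = i := by omega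
    rw [h6] at hf
    have h7 : Nat.card M = Nat.card (zQ Q) := Nat.eq_of_mul_eq_mul_left hpos hf
    exact (eq_of_le_of_card_ge hZM h7.le).symm

end Ctx

end Cfsg.Agent.Helper26.BG36L3
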