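import Mathlib
import Cfsg.Agent.Helper26.BG36L3c

set_option autoImplicit false
set_option linter.style.haveILetI false
set_option linter.unusedSectionVars false

/-! The nonabelian endgame of B&G Theorem 3.6, part 3: `Q' ≤ [Z(Q), R₀]`. -/

namespace Cfsg.Agent.Helper26.BG36L3

open Subgroup Cfsg.Agent.Lead Cfsg.Agent.Helper29.BG36
open scoped commutatorElement

variable {X : Type*} [Group X] [Finite X]

theorem comm_mul_left' (a b x : X) (h : a * ⁅b, x⁆ = ⁅b, x⁆ * a) :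
    ⁅a * b, x⁆ = ⁅b, x⁆ * ⁅a, x⁆ := by
  have e : ⁅a * b, x⁆ = a * ⁅b, x⁆ * a⁻¹ * ⁅a, x⁆ := by
    simp only [commutatorElement_def]
    group
  rw [e, h]
  group

theorem comm_inv_left' (a x : X) (h : a * ⁅a, x⁆ = ⁅a, x⁆ * a) :
    ⁅a⁻¹, x⁆ = ⁅a, x⁆⁻¹ := by
  have e : ⁅a⁻¹, x⁆ = a⁻¹ * ⁅a, x⁆⁻¹ * a := by
    simp only [commutatorElement_def]
    group
  have h' : a⁻¹ * ⁅a, x⁆⁻¹ = ⁅a, x⁆⁻¹ * a⁻¹ := by
    rw [← mul_inv_rev, ← mul_inv_rev, h]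
  rw [e, h']
  group

/-- the elements of `Q` whose commutators with the elements of `T` lie in `D` -/
def cSub (Q D : Subgroup X) (T : Set X) (hT : T ⊆ Q)
    (hcl : ∀ a ∈ Q, ∀ b ∈ Q, ∀ x ∈ Q, a * ⁅b, x⁆ = ⁅b, x⁆ * a) : Subgroup X where
  carrier := {x | x ∈ Q ∧ ∀ y ∈ T, ⁅x, y⁆ ∈ D}
  one_mem' := ⟨Q.one_mem, fun y _ => by rw [commutatorElement_one_left]; exact D.one_mem⟩
  mul_mem' := by
    rintro a b ⟨ha, ha'⟩ ⟨hb, hb'⟩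
    refine ⟨Q.mul_mem ha hb, fun y hy => ?_⟩
    rw [comm_mul_left' a b y (hcl a ha b hb y (hT hy))]
    exact D.mul_mem (hb' y hy) (ha' y hy)
  inv_mem' := by
    rintro a ⟨ha, ha'⟩
    refine ⟨Q.inv_mem ha, fun y hy => ?_⟩
    rw [comm_inv_left' a y (hcl a ha a ha y (hT hy))]
    exact D.inv_mem (ha' y hy)

theorem mem_cSub {Q D : Subgroup X} {T : Set X} {hT : T ⊆ Q}
    {hcl : ∀ a ∈ Q, ∀ b ∈ Q, ∀ x ∈ Q, a * ⁅b, x⁆ = ⁅b, x⁆ * a} {x : X} :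
    x ∈ cSub Q D T hT hcl ↔ x ∈ Q ∧ ∀ y ∈ T, ⁅x, y⁆ ∈ D := Iff.rfl

namespace Ctx

variable {V Q P R₀ : Subgroup X} {p q r : ℕ} (c : Ctx V Q P R₀ p q r)

include c

theorem hcl : ∀ a ∈ Q, ∀ b ∈ Q, ∀ x ∈ Q, a * ⁅b, x⁆ = ⁅b, x⁆ * a := by
  intro a ha b hb x hx
  have h1 : ⁅b, x⁆ ∈ zQ Q := c.comm_le_zQ (commutator_mem_commutator hb hx)
  exact zQ_comm h1 ha

theorem coprime_R_Q : (Nat.card R₀).Coprime (Nat.card Q) := by
  obtain ⟨n, hn⟩ := c.exists_pow_card (le_refl Q)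
  rw [hn, c.cfg.hR₀]
  exact (Nat.Coprime.pow_left n c.coprime_q_r).symm

theorem coprime_P_Q : (Nat.card P).Coprime (Nat.card Q) := by
  obtain ⟨n, hn⟩ := c.exists_pow_card (le_refl Q)
  rw [hn]
  exact (Nat.Coprime.pow_left n c.coprime_q_card_P).symm

theorem dQ_le : ⁅zQ Q, R₀⁆ ≤ zQ Q := commutator_le_of_le_normalizer c.R_le_normalizer_zQ

theorem Q_le_centralizer_dQ : Q ≤ centralizer ((⁅zQ Q, R₀⁆ : Subgroup X) : Set X) := by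
  intro y hy
  rw [mem_centralizer_iff]
  intro d hd
  exact (zQ_comm (c.dQ_le hd) hy).symm

theorem P_le_centralizer_dQ : P ≤ centralizer ((⁅zQ Q, R₀⁆ : Subgroup X) : Set X) :=
  c.PZ.trans (centralizer_le (SetLike.coe_subset_coe.mpr c.dQ_le))

theorem Q_le_normalizer_dQ : Q ≤ normalizer ((⁅zQ Q, R₀⁆ : Subgroup X) : Set X) :=
  c.Q_le_centralizer_dQ.trans (centralizer_le_normalizer _)

theorem P_le_normalizer_dQ : P ≤ normalizer ((⁅zQ Q, R₀⁆ : Subgroup X) : Set X) :=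
  c.P_le_centralizer_dQ.trans (centralizer_le_normalizer _)

theorem R_le_normalizer_dQ : R₀ ≤ normalizer ((⁅zQ Q, R₀⁆ : Subgroup X) : Set X) :=
  le_normalizer_commutator_right _ _

theorem centQ_comm {x y : X} (hx : x ∈ Q ⊓ centralizer (R₀ : Set X))
    (hy : y ∈ Q ⊓ centralizer (R₀ : Set X)) : x * y = y * x := by
  haveI := c.cfg.CQR
  letI := IsCyclic.commGroup (α := ↥(Q ⊓ centralizer (R₀ : Set X)))
  have := mul_comm (⟨x, hx⟩ : ↥(Q ⊓ centralizer (R₀ : Set X))) ⟨y, hy⟩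
  exact congrArg Subtype.val this

/-- `[Q, x₀] ≤ [Z(Q), R₀]` for `x₀ ∈ C_Q(R₀)` -/
theorem comm_fix_mem {x₀ : X} (hx₀ : x₀ ∈ Q ⊓ centralizer (R₀ : Set X)) :
    ∀ y ∈ Q, ⁅y, x₀⁆ ∈ ⁅zQ Q, R₀⁆ := by
  have hT : ({x₀} : Set X) ⊆ Q := by
    intro t ht
    rw [Set.mem_singleton_iff] at ht
    rw [ht]
    exact hx₀.1
  have hU : ⁅Q, R₀⁆ ≤ cSub Q ⁅zQ Q, R₀⁆ {x₀} hT c.hcl := by
    rw [commutator_le]
    intro y hy e he
    have hyQ : ⁅y, e⁆ ∈ Q := commutator_le_of_le_normalizer c.cfg.RQ (commutator_mem_commutator hy he)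
    refine mem_cSub.mpr ⟨hyQ, ?_⟩
    intro t ht
    rw [Set.mem_singleton_iff] at ht
    rw [ht]
    -- `⁅⁅y, e⁆, x₀⁆ = ⁅e, z⁻¹⁆` with `z = ⁅y, x₀⁆`
    have hz : ⁅y, x₀⁆ ∈ zQ Q := c.comm_le_zQ (commutator_mem_commutator hy hx₀.1)
    have hy'' : e * y⁻¹ * e⁻¹ ∈ Q := conj_mem_of_le_normalizer c.cfg.RQ he (Q.inv_mem hy)
    have e1 : ⁅y, e⁆ = y * (e * y⁻¹ * e⁻¹) := by
      rw [commutatorElement_def]; group
    have hex : e * x₀ = x₀ * e := ((mem_centralizer_iff.mp hx₀.2) e he)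
    have e2 : ⁅e * y⁻¹ * e⁻¹, x₀⁆ = e * ⁅y⁻¹, x₀⁆ * e⁻¹ := by
      rw [conjugate_commutatorElement]
      have : e * x₀ * e⁻¹ = x₀ := by rw [hex]; group
      rw [this]
    have e3 : ⁅y⁻¹, x₀⁆ = ⁅y, x₀⁆⁻¹ := comm_inv_left' y x₀ (c.hcl y hy y hy x₀ hx₀.1)
    rw [e1, comm_mul_left' y _ x₀ (c.hcl y hy _ hy'' x₀ hx₀.1), e2, e3]
    have e4 : e * ⁅y, x₀⁆⁻¹ * e⁻¹ * ⁅y, x₀⁆ = ⁅e, ⁅y, x₀⁆⁻¹⁆ := by
      rw [commutatorElement_def e, inv_inv]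
    rw [e4, commutator_comm]
    exact commutator_mem_commutator he ((zQ Q).inv_mem hz)
  have hC : Q ⊓ centralizer (R₀ : Set X) ≤ cSub Q ⁅zQ Q, R₀⁆ {x₀} hT c.hcl := by
    intro y hy
    refine mem_cSub.mpr ⟨hy.1, ?_⟩
    intro t ht
    rw [Set.mem_singleton_iff] at ht
    rw [ht, commutatorElement_eq_one_iff_mul_comm.mpr (c.centQ_comm hy hx₀)]
    exact Subgroup.one_mem _
  have hsup := coprime_commutator_sup_centralizer R₀ Q c.cfg.RQ c.coprime_R_Q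
    (Or.inr (c.isSolvable_of_le_Q le_rfl))
  intro y hy
  have hy' : y ∈ cSub Q ⁅zQ Q, R₀⁆ {x₀} hT c.hcl := by
    have : Q ≤ cSub Q ⁅zQ Q, R₀⁆ {x₀} hT c.hcl := by
      calc Q = ⁅Q, R₀⁆ ⊔ (Q ⊓ centralizer (R₀ : Set X)) := hsup.symm
        _ ≤ _ := sup_le hU hC
    exact this hy
  exact (mem_cSub.mp hy').2 x₀ (Set.mem_singleton x₀)

/-- `Q' ≤ [Z(Q), R₀]` -/
theorem comm_le_dQ : ⁅Q, Q⁆ ≤ ⁅zQ Q, R₀⁆ := by
  have hT : ((Q : Subgroup X) : Set X) ⊆ Q := le_refl _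
  -- the subgroup `Z_D`
  obtain ⟨M, hM⟩ : ∃ M : Subgroup X, M = cSub Q ⁅zQ Q, R₀⁆ (Q : Set X) hT c.hcl := ⟨_, rfl⟩
  have hmem : ∀ x, x ∈ M ↔ x ∈ Q ∧ ∀ y ∈ Q, ⁅x, y⁆ ∈ ⁅zQ Q, R₀⁆ := by
    intro x
    rw [hM]
    exact mem_cSub
  have hMQ : M ≤ Q := fun x hx => ((hmem x).mp hx).1
  have hZM : zQ Q ≤ M := by
    intro z hz
    refine (hmem z).mpr ⟨zQ_le Q hz, fun y hy => ?_⟩
    rw [commutatorElement_eq_one_iff_mul_comm.mpr (zQ_comm hz hy).symm]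
    exact Subgroup.one_mem _
  have hCM : Q ⊓ centralizer (R₀ : Set X) ≤ M := by
    intro x hx
    refine (hmem x).mpr ⟨hx.1, fun y hy => ?_⟩
    rw [← commutatorElement_inv]
    exact Subgroup.inv_mem _ (c.comm_fix_mem hx y hy)
  have hinv : ∀ g ∈ normalizer (Q : Set X) ⊓ normalizer ((⁅zQ Q, R₀⁆ : Subgroup X) : Set X),
      ∀ x ∈ M, g * x * g⁻¹ ∈ M := by
    intro g hg x hx
    obtain ⟨hxQ, hxc⟩ := (hmem x).mp hx
    refine (hmem _).mpr ⟨conj_mem_of_le_normalizer le_rfl hg.1 hxQ, fun y hy => ?_⟩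
    have hy' : g⁻¹ * y * g⁻¹⁻¹ ∈ Q :=
      conj_mem_of_le_normalizer le_rfl ((normalizer (Q : Set X)).inv_mem hg.1) hy
    have e : ⁅g * x * g⁻¹, y⁆ = g * ⁅x, g⁻¹ * y * g⁻¹⁻¹⁆ * g⁻¹ := by
      rw [conjugate_commutatorElement]
      congr 1
      group
    rw [e]
    exact conj_mem_of_le_normalizer le_rfl hg.2 (hxc _ hy')
  have hPM : P ≤ normalizer (M : Set X) :=
    le_normalizer_of_conj_mem P M (fun g hg => hinv g ⟨c.cfg.PQ hg, c.P_le_normalizer_dQ hg⟩)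
  have hRM : R₀ ≤ normalizer (M : Set X) :=
    le_normalizer_of_conj_mem R₀ M (fun g hg => hinv g ⟨c.cfg.RQ hg, c.R_le_normalizer_dQ hg⟩)
  rcases c.irr hZM hMQ hPM hRM with h | h
  · exfalso
    have h1 : Q ⊓ centralizer (R₀ : Set X) ≤ zQ Q ⊓ centralizer (R₀ : Set X) :=
      le_inf (h ▸ hCM) inf_le_right
    have h2 := card_le_of_le h1
    rw [c.card_centQ] at h2
    have hpos : 0 < Nat.card ↥(zQ Q ⊓ centralizer (R₀ : Set X)) := Nat.card_pos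
    have hq1 : 1 < q := c.cfg.hq.one_lt
    nlinarith
  · rw [commutator_le]
    intro x hx y hy
    have hx' : x ∈ M := h ▸ hx
    exact ((hmem x).mp hx').2 y hy

end Ctx

end Cfsg.Agent.Helper26.BG36L3
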