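import Mathlib
import Cfsg.Agent.Helper5.FrobModJ
import Cfsg.Agent.Helper26.BG36L3d

set_option autoImplicit false
set_option linter.style.haveILetI false
set_option linter.unusedSectionVars false

/-! The nonabelian endgame of B&G Theorem 3.6, part 4: the abelian normal subgroup
`A = [Q, R₀] Z(Q)` of index at most `q`, and the contradiction. -/

namespace Cfsg.Agent.Helper26.BG36L3

open Subgroup Cfsg.Agent.Lead Cfsg.Agent.Helper29.BG36
open scoped commutatorElement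

variable {X : Type*} [Group X] [Finite X]

theorem le_normalizer_sup' {A U Z : Subgroup X} (hU : A ≤ normalizer (U : Set X))
    (hZ : A ≤ normalizer (Z : Set X)) : A ≤ normalizer ((U ⊔ Z : Subgroup X) : Set X) := by
  apply le_normalizer_of_conj_mem
  intro a ha x hx
  have hle : U ⊔ Z ≤ (U ⊔ Z).comap (MulAut.conj a).toMonoidHom := by
    apply sup_le
    · intro u hu
      rw [mem_comap]
      simp only [MulEquiv.coe_toMonoidHom, MulAut.conj_apply]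
      exact (le_sup_left : U ≤ U ⊔ Z) (conj_mem_of_le_normalizer hU ha hu)
    · intro u hu
      rw [mem_comap]
      simp only [MulEquiv.coe_toMonoidHom, MulAut.conj_apply]
      exact (le_sup_right : Z ≤ U ⊔ Z) (conj_mem_of_le_normalizer hZ ha hu)
  have := hle hx
  rw [mem_comap] at this
  simpa [MulAut.conj_apply] using this

namespace Ctx

variable {V Q P R₀ : Subgroup X} {p q r : ℕ} (c : Ctx V Q P R₀ p q r)

include c

theorem zQ_isMulCommutative : IsMulCommutative ↥(zQ Q) :=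
  ⟨⟨fun a b => Subtype.ext (zQ_comm b.2 (zQ_le Q a.2))⟩⟩

/-- `Z(Q) = [Z(Q), R₀]` -/
theorem zQ_le_dQ : zQ Q ≤ ⁅zQ Q, R₀⁆ := by
  intro z hz
  apply rel_coprime_abelian ⁅zQ Q, R₀⁆ Q P c.Q_le_normalizer_dQ c.P_le_normalizer_dQ c.cfg.PQ
    c.comm_le_dQ c.coprime_P_Q z
  · rw [c.cfg.QP]
    exact zQ_le Q hz
  · intro a ha
    have : z * a = a * z := (mem_centralizer_iff.mp (c.PZ ha)) z hz
    rw [commutatorElement_eq_one_iff_mul_comm.mpr this]
    exact Subgroup.one_mem _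

theorem cent_zQ_R : zQ Q ⊓ centralizer (R₀ : Set X) = ⊥ := by
  haveI := c.zQ_isMulCommutative
  have hcop : (Nat.card R₀).Coprime (Nat.card (zQ Q)) :=
    Nat.Coprime.coprime_dvd_right (card_dvd_of_le (zQ_le Q)) c.coprime_R_Q
  have h := coprime_abelian_inf R₀ (zQ Q) c.R_le_normalizer_zQ hcop
  rw [eq_bot_iff, ← h]
  exact le_inf le_rfl (inf_le_left.trans c.zQ_le_dQ)

theorem card_centQ' : Nat.card ↥(Q ⊓ centralizer (R₀ : Set X)) = q := by
  rw [c.card_centQ, c.cent_zQ_R, Subgroup.card_bot, mul_one]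

/-- `R₀` acts without fixed points on `[Q, R₀]` -/
theorem cent_U_R : ⁅Q, R₀⁆ ⊓ centralizer (R₀ : Set X) = ⊥ := by
  rw [eq_bot_iff]
  intro x hx
  have hxa : ∀ a ∈ R₀, ⁅x, a⁆ ∈ zQ Q := by
    intro a ha
    have : x * a = a * x := ((mem_centralizer_iff.mp hx.2) a ha).symm
    rw [commutatorElement_eq_one_iff_mul_comm.mpr this]
    exact Subgroup.one_mem _
  have h := rel_coprime_abelian (zQ Q) Q R₀ c.Q_le_normalizer_zQ c.R_le_normalizer_zQ c.cfg.RQ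
    c.comm_le_zQ c.coprime_R_Q x hx.1 hxa
  have h2 : x ∈ zQ Q ⊓ centralizer (R₀ : Set X) := ⟨h, hx.2⟩
  rw [c.cent_zQ_R] at h2
  exact h2

theorem U_le_Q : ⁅Q, R₀⁆ ≤ Q := commutator_le_of_le_normalizer c.cfg.RQ

/-- `[Q, R₀]` is abelian -/
theorem U_comm : ∀ a ∈ ⁅Q, R₀⁆, ∀ b ∈ ⁅Q, R₀⁆, a * b = b * a := by
  haveI : Fact p.Prime := ⟨c.cfg.hp⟩
  have hUn' : ∀ e ∈ R₀, ∀ u ∈ ⁅Q, R₀⁆, e * u * e⁻¹ ∈ ⁅Q, R₀⁆ := fun e he u hu =>
    conj_mem_of_le_normalizer (le_normalizer_commutator_right Q R₀) he hu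
  have hfpf' : ∀ e ∈ R₀, e ≠ 1 → ∀ u ∈ ⁅Q, R₀⁆, e * u = u * e → u = 1 := by
    intro e he he1 u hu hcomm
    have h1 := mem_centralizer_of_prime_card c.cfg.hr c.cfg.hR₀ he he1 hcomm
    have h2 : u ∈ ⁅Q, R₀⁆ ⊓ centralizer (R₀ : Set X) := ⟨hu, h1⟩
    rw [c.cent_U_R, mem_bot] at h2
    exact h2
  have hAV : ∀ x ∈ ⁅Q, R₀⁆ ⊔ R₀, ∀ v ∈ V, x * v * x⁻¹ ∈ V := fun x hx v hv =>
    conj_mem_of_le_normalizer (sup_le (c.U_le_Q.trans c.cfg.QV) c.cfg.RV) hx hv
  have hcop : ¬ p ∣ Nat.card ↥(⁅Q, R₀⁆ ⊔ R₀) := by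
    have h := Cfsg.Agent.Helper26.card_sup_mul_card_inf (le_normalizer_commutator_right Q R₀)
    rw [sup_comm] at h
    intro hdvd
    have h1 : p ∣ Nat.card R₀ * Nat.card ↥⁅Q, R₀⁆ := hdvd.trans (Dvd.intro _ h)
    rcases (Nat.Prime.dvd_mul c.cfg.hp).mp h1 with h2 | h2
    · rw [c.cfg.hR₀] at h2
      exact c.cfg.hpr ((Nat.prime_dvd_prime_iff_eq c.cfg.hp c.cfg.hr).mp h2)
    · obtain ⟨n, hn⟩ := c.exists_pow_card c.U_le_Q
      rw [hn] at h2
      exact c.cfg.hpq ((Nat.prime_dvd_prime_iff_eq c.cfg.hp c.cfg.hq).mp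
        (c.cfg.hp.dvd_of_dvd_pow h2))
  have hfix : Nat.card ↥(V ⊓ centralizer (R₀ : Set X)) ≤ p := c.cfg.CVR.le
  have h := Cfsg.Agent.Helper5.FrobMod.commutator_centralizes ⁅Q, R₀⁆ R₀ V hUn' hfpf' p
    c.cfg.Vcomm c.cfg.Vexp hAV hcop hfix
  intro a ha b hb
  have h1 : a * b * a⁻¹ * b⁻¹ ∈ Q ⊓ centralizer (V : Set X) := by
    refine ⟨Q.mul_mem (Q.mul_mem (Q.mul_mem (c.U_le_Q ha) (c.U_le_Q hb))
      (Q.inv_mem (c.U_le_Q ha))) (Q.inv_mem (c.U_le_Q hb)), ?_⟩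
    show a * b * a⁻¹ * b⁻¹ ∈ centralizer (V : Set X)
    rw [mem_centralizer_iff]
    intro v hv
    exact (h a ha b hb v hv).symm
  rw [c.cfg.CQV, mem_bot] at h1
  have h2 : ⁅a, b⁆ = 1 := by rw [commutatorElement_def]; exact h1
  exact commutatorElement_eq_one_iff_mul_comm.mp h2

theorem A_le_Q : ⁅Q, R₀⁆ ⊔ zQ Q ≤ Q := sup_le c.U_le_Q (zQ_le Q)

theorem A_comm : ⁅Q, R₀⁆ ⊔ zQ Q ≤ centralizer ((⁅Q, R₀⁆ ⊔ zQ Q : Subgroup X) : Set X) := by
  rw [centralizer_sup_eq]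
  apply sup_le
  · apply le_inf
    · intro a ha
      rw [mem_centralizer_iff]
      intro b hb
      exact c.U_comm b hb a ha
    · intro a ha
      rw [mem_centralizer_iff]
      intro z hz
      exact (zQ_comm hz (c.U_le_Q ha)).symm
  · apply le_inf
    · intro z hz
      rw [mem_centralizer_iff]
      intro a ha
      exact zQ_comm hz (c.U_le_Q ha)
    · intro z hz
      rw [mem_centralizer_iff]
      intro z' hz'
      exact zQ_comm hz (zQ_le Q hz')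

theorem R_le_normalizer_A : R₀ ≤ normalizer ((⁅Q, R₀⁆ ⊔ zQ Q : Subgroup X) : Set X) :=
  le_normalizer_sup' (le_normalizer_commutator_right Q R₀) c.R_le_normalizer_zQ

theorem Q_le_normalizer_A : Q ≤ normalizer ((⁅Q, R₀⁆ ⊔ zQ Q : Subgroup X) : Set X) := by
  apply le_normalizer_of_conj_mem
  intro y hy a ha
  have e : y * a * y⁻¹ = ⁅y, a⁆ * a := by
    rw [commutatorElement_def]
    group
  rw [e]
  exact Subgroup.mul_mem _
    ((le_sup_right : zQ Q ≤ ⁅Q, R₀⁆ ⊔ zQ Q)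
      (c.comm_le_zQ (commutator_mem_commutator hy (c.A_le_Q ha)))) ha

theorem card_Q_le : Nat.card Q ≤ q * Nat.card ↥(⁅Q, R₀⁆ ⊔ zQ Q) := by
  have hsup := coprime_commutator_sup_centralizer R₀ Q c.cfg.RQ c.coprime_R_Q
    (Or.inr (c.isSolvable_of_le_Q le_rfl))
  have hQle : Q ≤ (Q ⊓ centralizer (R₀ : Set X)) ⊔ (⁅Q, R₀⁆ ⊔ zQ Q) := by
    calc Q = ⁅Q, R₀⁆ ⊔ (Q ⊓ centralizer (R₀ : Set X)) := hsup.symm
      _ ≤ _ := sup_le (le_sup_left.trans le_sup_right) le_sup_left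
  have h := Cfsg.Agent.Helper26.card_sup_mul_card_inf (H := Q ⊓ centralizer (R₀ : Set X))
    (N := ⁅Q, R₀⁆ ⊔ zQ Q) (inf_le_left.trans c.Q_le_normalizer_A)
  have h1 : Nat.card ↥((Q ⊓ centralizer (R₀ : Set X)) ⊔ (⁅Q, R₀⁆ ⊔ zQ Q)) ≤
      Nat.card ↥(Q ⊓ centralizer (R₀ : Set X)) * Nat.card ↥(⁅Q, R₀⁆ ⊔ zQ Q) := by
    rw [← h]
    exact Nat.le_mul_of_pos_right _ Nat.card_pos
  rw [c.card_centQ'] at h1
  exact (card_le_of_le hQle).trans h1

theorem P_le_normalizer_A : P ≤ normalizer ((⁅Q, R₀⁆ ⊔ zQ Q : Subgroup X) : Set X) := by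
  obtain ⟨A, hA⟩ : ∃ A : Subgroup X, A = ⁅Q, R₀⁆ ⊔ zQ Q := ⟨_, rfl⟩
  rw [← hA]
  have hAQ : A ≤ Q := hA ▸ c.A_le_Q
  have hAcomm : A ≤ centralizer (A : Set X) := by rw [hA]; exact c.A_comm
  have hQA : Q ≤ normalizer (A : Set X) := by rw [hA]; exact c.Q_le_normalizer_A
  have hcardQle : Nat.card Q ≤ q * Nat.card A := by rw [hA]; exact c.card_Q_le
  intro y hy
  by_contra hny
  obtain ⟨Ay, hAy⟩ : ∃ Ay : Subgroup X, Ay = A.map (MulAut.conj y).toMonoidHom := ⟨_, rfl⟩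
  have hcardAy : Nat.card Ay = Nat.card A := by
    rw [hAy]
    exact Nat.card_congr (A.equivMapOfInjective _ (MulAut.conj y).injective).symm.toEquiv
  have hAyQ : Ay ≤ Q := by
    rw [hAy]
    rintro _ ⟨a, ha, rfl⟩
    simp only [MulEquiv.coe_toMonoidHom, MulAut.conj_apply]
    exact conj_mem_of_le_normalizer c.cfg.PQ hy (hAQ ha)
  have hAyne : ¬ Ay ≤ A := by
    intro hle
    apply hny
    apply mem_normalizer_of_conj_mem
    intro x hx
    apply hle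
    rw [hAy]
    exact ⟨x, hx, by simp [MulAut.conj_apply]⟩
  have hAycomm : Ay ≤ centralizer (Ay : Set X) := by
    rw [hAy]
    rintro _ ⟨a, ha, rfl⟩
    rw [mem_centralizer_iff]
    rintro _ ⟨b, hb, rfl⟩
    simp only [MulEquiv.coe_toMonoidHom, MulAut.conj_apply]
    have hab : b * a = a * b := (mem_centralizer_iff.mp (hAcomm ha)) b hb
    calc y * b * y⁻¹ * (y * a * y⁻¹) = y * (b * a) * y⁻¹ := by group
      _ = y * (a * b) * y⁻¹ := by rw [hab]
      _ = y * a * y⁻¹ * (y * b * y⁻¹) := by group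
  have hBQ : A ⊔ Ay ≤ Q := sup_le hAQ hAyQ
  have hq1 : 1 < q := c.cfg.hq.one_lt
  have hB : A ⊔ Ay = Q := by
    obtain ⟨α, hα⟩ := c.exists_pow_card hAQ
    obtain ⟨β, hβ⟩ := c.exists_pow_card hBQ
    obtain ⟨γ, hγ⟩ := c.exists_pow_card (le_refl Q)
    have h1 : α < β := by
      have hlt : Nat.card A < Nat.card ↥(A ⊔ Ay) := by
        rcases (card_le_of_le (le_sup_left : A ≤ A ⊔ Ay)).lt_or_eq with h | h
        · exact h
        · exfalso
          have h' : A = A ⊔ Ay := eq_of_le_of_card_ge le_sup_left h.ge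
          apply hAyne
          rw [h']
          exact le_sup_right
      rw [hα, hβ] at hlt
      exact (Nat.pow_lt_pow_iff_right hq1).mp hlt
    have h2 : β ≤ γ := by
      have := card_le_of_le hBQ
      rw [hβ, hγ] at this
      exact (Nat.pow_le_pow_iff_right hq1).mp this
    have h3 : γ ≤ α + 1 := by
      have := hcardQle
      rw [hγ, hα, ← pow_succ'] at this
      exact (Nat.pow_le_pow_iff_right hq1).mp this
    have h4 : β = γ := by omega
    exact eq_of_le_of_card_ge hBQ (by rw [hβ, hγ, h4])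
  have hinf : A ⊓ Ay ≤ zQ Q := by
    refine le_inf (inf_le_left.trans hAQ) ?_
    rw [← hB, centralizer_sup_eq]
    exact le_inf (inf_le_left.trans hAcomm) (inf_le_right.trans hAycomm)
  have hprod := Cfsg.Agent.Helper26.card_sup_mul_card_inf (H := Ay) (N := A) (hAyQ.trans hQA)
  rw [sup_comm, hB, inf_comm, hcardAy] at hprod
  have h5 : Nat.card ↥(A ⊓ Ay) ≤ Nat.card (zQ Q) := card_le_of_le hinf
  have h7 := c.card_Q
  have hQpos : 0 < Nat.card Q := Nat.card_pos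
  have hZpos : 0 < Nat.card (zQ Q) := Nat.card_pos
  have h8 : Nat.card Q * Nat.card Q ≤ q * q * (Nat.card Q * Nat.card (zQ Q)) := by
    calc Nat.card Q * Nat.card Q ≤ (q * Nat.card A) * (q * Nat.card A) :=
          Nat.mul_le_mul hcardQle hcardQle
      _ = q * q * (Nat.card A * Nat.card A) := by ring
      _ = q * q * (Nat.card Q * Nat.card ↥(A ⊓ Ay)) := by rw [hprod]
      _ ≤ q * q * (Nat.card Q * Nat.card (zQ Q)) :=
          Nat.mul_le_mul_left _ (Nat.mul_le_mul_left _ h5)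
  have h9 : Nat.card Q ≤ q * q * Nat.card (zQ Q) := by
    have : Nat.card Q * Nat.card Q ≤ Nat.card Q * (q * q * Nat.card (zQ Q)) := by
      rw [show Nat.card Q * (q * q * Nat.card (zQ Q)) =
        q * q * (Nat.card Q * Nat.card (zQ Q)) by ring]
      exact h8
    exact Nat.le_of_mul_le_mul_left this hQpos
  rw [h7] at h9
  have h10 : q ^ r ≤ q * q := Nat.le_of_mul_le_mul_right h9 hZpos
  have h11 : q ^ 3 ≤ q ^ r := Nat.pow_le_pow_right c.cfg.hq.pos c.cfg.hr3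
  have h12 : q * q < q ^ 3 := by
    have : q ^ 3 = q * q * q := by ring
    rw [this]
    have hqq : 0 < q * q := Nat.mul_pos c.cfg.hq.pos c.cfg.hq.pos
    nlinarith
  omega

theorem false_of_ctx : False := by
  have hZA : zQ Q ≤ ⁅Q, R₀⁆ ⊔ zQ Q := le_sup_right
  rcases c.irr hZA c.A_le_Q c.P_le_normalizer_A c.R_le_normalizer_A with h | h
  · have h6 := c.card_Q_le
    rw [h, c.card_Q] at h6
    have hZpos : 0 < Nat.card (zQ Q) := Nat.card_pos
    have h10 : q ^ r ≤ q := Nat.le_of_mul_le_mul_right h6 hZpos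
    have h11 : q ^ 3 ≤ q ^ r := Nat.pow_le_pow_right c.cfg.hq.pos c.cfg.hr3
    have hq1 : 1 < q := c.cfg.hq.one_lt
    have h12 : q < q ^ 3 := by
      have : q ^ 3 = q * q * q := by ring
      rw [this]
      have hqq : 1 < q * q := by nlinarith
      nlinarith
    omega
  · apply c.Qnc
    intro a ha b hb
    have ha' : a ∈ ⁅Q, R₀⁆ ⊔ zQ Q := by rw [h]; exact ha
    have hb' : b ∈ ⁅Q, R₀⁆ ⊔ zQ Q := by rw [h]; exact hb
    exact (mem_centralizer_iff.mp (c.A_comm hb')) a ha'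

end Ctx

/-- The nonabelian endgame of B&G Theorem 3.6 (lemma L3 of helper29's plan for S1444). -/
theorem endCfg_nonabelian_false (V Q P R₀ : Subgroup X) (p q r : ℕ)
    (h : EndCfg V Q P R₀ p q r) (Qnc : ¬ ∀ a ∈ Q, ∀ b ∈ Q, a * b = b * a)
    (PZ : P ≤ centralizer ((Q ⊓ centralizer (Q : Set X) : Subgroup X) : Set X))
    (Qcl : ⁅Q, Q⁆ ≤ centralizer (Q : Set X))
    (Qpow : ∀ x ∈ Q, x ^ q ∈ centralizer (Q : Set X)) : False :=
  Ctx.false_of_ctx ⟨h, Qnc, PZ, Qcl, Qpow⟩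

end Cfsg.Agent.Helper26.BG36L3
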