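import Mathlib
import Cfsg.Agent.Lead.CoprimeAbelian

set_option autoImplicit false

/-! Maschke's theorem for coprime action on an abelian group (Kurzweil–Stellmacher 8.4.6). -/

namespace Cfsg.Agent.Helper26

open scoped IsMulCommutative
open Cfsg.Agent.Lead

variable {G : Type*} [Group G]

/-- Projection of an abelian group `V = U × W` onto `U`, as an endomorphism of `V`. -/
theorem exists_projection (V U W : Subgroup G) [IsMulCommutative V] (hUV : U ≤ V) (hWV : W ≤ V)
    (hUW : U ⊓ W = ⊥) (hUWV : U ⊔ W = V) :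
    ∃ π : V →* V, (∀ v : V, ((π v : V) : G) ∈ U) ∧ (∀ v : V, (v : G) ∈ U → π v = v) := by
  set U' : Subgroup V := U.subgroupOf V with hU'
  set W' : Subgroup V := W.subgroupOf V with hW'
  have hinf : U' ⊓ W' = ⊥ := by
    rw [eq_bot_iff]
    intro x hx
    rw [Subgroup.mem_bot]
    have hx1 : (x : G) ∈ U := Subgroup.mem_subgroupOf.mp hx.1
    have hx2 : (x : G) ∈ W := Subgroup.mem_subgroupOf.mp hx.2
    have : (x : G) ∈ U ⊓ W := ⟨hx1, hx2⟩
    rw [hUW, Subgroup.mem_bot] at this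
    exact Subtype.ext this
  have hsup : U' ⊔ W' = ⊤ := by
    rw [hU', hW', ← Subgroup.subgroupOf_sup hUV hWV, hUWV, Subgroup.subgroupOf_self]
  let f : U' × W' →* V := (U'.subtype).coprod (W'.subtype)
  have hf_inj : Function.Injective f := by
    rw [injective_iff_map_eq_one]
    rintro ⟨u, w⟩ h
    have h' : (u : V) * (w : V) = 1 := by simpa [f, MonoidHom.coprod_apply] using h
    have hu : (u : V) ∈ U' ⊓ W' := by
      refine ⟨u.2, ?_⟩
      have : (u : V) = (w : V)⁻¹ := eq_inv_of_mul_eq_one_left h'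
      rw [this]; exact W'.inv_mem w.2
    rw [hinf, Subgroup.mem_bot] at hu
    have hw : (w : V) = 1 := by rw [hu, one_mul] at h'; exact h'
    exact Prod.ext (Subtype.ext hu) (Subtype.ext hw)
  have hf_surj : Function.Surjective f := by
    intro v
    have hv : v ∈ U' ⊔ W' := by rw [hsup]; trivial
    obtain ⟨u, hu, w, hw, rfl⟩ := Subgroup.mem_sup.mp hv
    exact ⟨(⟨u, hu⟩, ⟨w, hw⟩), by simp [f, MonoidHom.coprod_apply]⟩
  let e : U' × W' ≃* V := MulEquiv.ofBijective f ⟨hf_inj, hf_surj⟩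
  refine ⟨U'.subtype.comp ((MonoidHom.fst U' W').comp e.symm.toMonoidHom), ?_, ?_⟩
  · intro v
    exact Subgroup.mem_subgroupOf.mp (e.symm v).1.2
  · intro v hv
    have hvU : v ∈ U' := Subgroup.mem_subgroupOf.mpr hv
    have : e.symm v = (⟨v, hvU⟩, 1) := by
      rw [MulEquiv.symm_apply_eq]
      show v = f (⟨v, hvU⟩, 1)
      simp [f, MonoidHom.coprod_apply]
    simp [this]

theorem maschke_abelian [Finite G] (V A U W : Subgroup G) [IsMulCommutative V]
    (hAV : A ≤ Subgroup.normalizer (V : Set G)) (hcop : (Nat.card A).Coprime (Nat.card V))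
    (hUV : U ≤ V) (hAU : A ≤ Subgroup.normalizer (U : Set G)) (hWV : W ≤ V) (hUW : U ⊓ W = ⊥)
    (hUWV : U ⊔ W = V) :
    ∃ W' : Subgroup G, W' ≤ V ∧ A ≤ Subgroup.normalizer (W' : Set G) ∧ U ⊓ W' = ⊥ ∧ U ⊔ W' = V := by
  classical
  have := Fintype.ofFinite A
  obtain ⟨π, hπU, hπid⟩ := exists_projection V U W hUV hWV hUW hUWV
  -- conjugation by `a`
  let c : A → (V →* V) := fun a => conjEnd V (Subgroup.inclusion hAV a)
  have hc_mul : ∀ a b : A, ∀ v : V, c (a * b) v = c a (c b v) := by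
    intro a b v
    simp only [c, map_mul]
    exact conjEnd_mul V _ _ v
  have hc_coe : ∀ (a : A) (v : V), ((c a v : V) : G) = (a : G) * v * (a : G)⁻¹ := fun a v => rfl
  have hc_one : ∀ v : V, c 1 v = v := by
    intro v; apply Subtype.ext; rw [hc_coe]; simp
  have hc_U : ∀ (a : A) (v : V), (v : G) ∈ U → ((c a v : V) : G) ∈ U := by
    intro a v hv
    rw [hc_coe]
    exact (Subgroup.mem_normalizer_iff.mp (hAU a.2) v).mp hv
  let θ : V →* V := ∏ a : A, (c a).comp (π.comp (c a⁻¹))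
  have hθ_apply : ∀ v : V, θ v = ∏ a : A, c a (π (c a⁻¹ v)) := by
    intro v
    simp only [θ, MonoidHom.finsetProd_apply, MonoidHom.comp_apply]
  have hθ_U : ∀ v : V, ((θ v : V) : G) ∈ U := by
    intro v
    rw [hθ_apply]
    have : (∏ a : A, c a (π (c a⁻¹ v))) ∈ U.subgroupOf V := by
      apply Subgroup.prod_mem
      intro a _
      exact Subgroup.mem_subgroupOf.mpr (hc_U a _ (hπU _))
    exact Subgroup.mem_subgroupOf.mp this
  have hθ_pow : ∀ v : V, (v : G) ∈ U → θ v = v ^ Nat.card A := by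
    intro v hv
    rw [hθ_apply]
    have : ∀ a : A, c a (π (c a⁻¹ v)) = v := by
      intro a
      rw [hπid _ (hc_U a⁻¹ v hv), ← hc_mul, mul_inv_cancel, hc_one]
    simp only [this, Finset.prod_const, Finset.card_univ, Nat.card_eq_fintype_card]
  have hθ_eqv : ∀ (b : A) (v : V), θ (c b v) = c b (θ v) := by
    intro b v
    rw [hθ_apply, hθ_apply, map_prod]
    refine Fintype.prod_equiv (Equiv.mulLeft b⁻¹) _ _ (fun a => ?_)
    simp only [Equiv.coe_mulLeft]
    rw [← hc_mul, ← hc_mul]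
    have e1 : b * (b⁻¹ * a) = a := by group
    have e2 : (b⁻¹ * a)⁻¹ = a⁻¹ * b := by group
    rw [e1, e2]
  refine ⟨θ.ker.map V.subtype, Subgroup.map_subtype_le _, ?_, ?_, ?_⟩
  · rw [Subgroup.le_normalizer_iff]
    rintro b hb _ ⟨w, hw, rfl⟩
    refine ⟨c ⟨b, hb⟩ w, ?_, rfl⟩
    rw [SetLike.mem_coe, MonoidHom.mem_ker] at hw ⊢
    rw [hθ_eqv, hw, map_one]
  · rw [eq_bot_iff]
    rintro x ⟨hxU, w, hw, rfl⟩
    rw [Subgroup.mem_bot]
    rw [SetLike.mem_coe, MonoidHom.mem_ker, hθ_pow w hxU] at hw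
    have h1 : orderOf w ∣ Nat.card A := orderOf_dvd_of_pow_eq_one hw
    have h2 : orderOf w ∣ Nat.card V := orderOf_dvd_natCard w
    have h3 : orderOf w = 1 := Nat.eq_one_of_dvd_coprimes hcop h1 h2
    rw [orderOf_eq_one_iff] at h3
    rw [h3]; rfl
  · apply le_antisymm (sup_le hUV (Subgroup.map_subtype_le _))
    intro v hv
    -- u := an `|A|`-th root of θ v in U
    have hcopU : (Nat.card (U.subgroupOf V)).Coprime (Nat.card A) := by
      have : Nat.card (U.subgroupOf V) ∣ Nat.card V := Subgroup.card_subgroup_dvd_card _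
      exact (Nat.Coprime.coprime_dvd_right this hcop).symm
    obtain ⟨u, hu⟩ := (powCoprime hcopU).surjective ⟨θ ⟨v, hv⟩, Subgroup.mem_subgroupOf.mpr (hθ_U _)⟩
    have hu' : (u : V) ^ Nat.card A = θ ⟨v, hv⟩ := by
      have := congrArg (fun z : U.subgroupOf V => (z : V)) hu
      simpa [powCoprime] using this
    have huU : ((u : V) : G) ∈ U := Subgroup.mem_subgroupOf.mp u.2
    have hker : (u : V)⁻¹ * ⟨v, hv⟩ ∈ θ.ker := by
      rw [MonoidHom.mem_ker, map_mul, map_inv, hθ_pow _ huU, hu', inv_mul_cancel]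
    have hv_eq : v = ((u : V) : G) * (((u : V)⁻¹ * ⟨v, hv⟩ : V) : G) := by
      simp
    rw [hv_eq]
    exact Subgroup.mul_mem _ (Subgroup.mem_sup_left huU)
      (Subgroup.mem_sup_right ⟨_, hker, rfl⟩)

end Cfsg.Agent.Helper26
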