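import Mathlib
import Cfsg.Agent.Helper2.RGD.Defs

set_option autoImplicit false
set_option linter.unusedSectionVars false
set_option linter.unusedVariables false

/-! Generic Bruhat decomposition, piece GROOTP: the elements of `N̂` permute the root subgroups. -/

namespace Cfsg.Agent.RGD

variable {M : Type*} [Group M] {R : Type*} {D : Datum M R}

namespace GROOTP

/-- the two-sided version of `RootP` used in the induction -/
def Q (D : Datum M R) (g : M) : Prop :=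
  ∃ σ : Equiv.Perm R, (∀ r, σ (D.neg r) = D.neg (σ r)) ∧ (∀ r, σ (D.alt r) = D.alt (σ r)) ∧
    (∀ r, ∀ x ∈ D.U r, g * x * g⁻¹ ∈ D.U (σ r)) ∧ ∀ r, ∀ x ∈ D.U r, g⁻¹ * x * g ∈ D.U (σ⁻¹ r)

theorem inv_comm {σ : Equiv.Perm R} {f : R → R} (h : ∀ r, σ (f r) = f (σ r)) (r : R) :
    σ⁻¹ (f r) = f (σ⁻¹ r) := by
  rw [Equiv.Perm.inv_eq_iff_eq, h]
  congr 1
  exact (Equiv.apply_symm_apply σ r).symm

theorem Q_of_mem_Nh (hD : IsRGD D) {g : M} (hg : g ∈ D.Nh) : Q D g := by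
  unfold Datum.Nh at hg
  induction hg using Subgroup.closure_induction with
  | mem g hg =>
    rcases hg with ht | ⟨s, hs, hn⟩
    · refine ⟨1, fun r => rfl, fun r => rfl, fun r x hx => hD.T_conj g ht r x hx, fun r x hx => ?_⟩
      have := hD.T_conj g⁻¹ (D.T.inv_mem ht) r x hx
      rwa [inv_inv] at this
    · refine ⟨D.refl s, hD.refl_neg s hs, hD.refl_alt s hs,
        fun r x hx => hD.nS_conj s hs g hn r x hx, fun r x hx => ?_⟩
      have h1 := hD.nS_conj s hs g⁻¹ (hD.nS_inv s hs g hn) r x hx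
      rw [inv_inv] at h1
      have h2 : (D.refl s)⁻¹ r = D.refl s r := by
        rw [Equiv.Perm.inv_eq_iff_eq, hD.refl_refl s hs]
      rw [h2]
      exact h1
  | one =>
    refine ⟨1, fun r => rfl, fun r => rfl, fun r x hx => ?_, fun r x hx => ?_⟩
    · simpa using hx
    · simpa using hx
  | mul a b ha hb iha ihb =>
    obtain ⟨σ₁, hn1, ha1, hc1, hi1⟩ := iha
    obtain ⟨σ₂, hn2, ha2, hc2, hi2⟩ := ihb
    refine ⟨σ₁ * σ₂, fun r => ?_, fun r => ?_, fun r x hx => ?_, fun r x hx => ?_⟩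
    · rw [Equiv.Perm.mul_apply, Equiv.Perm.mul_apply, hn2, hn1]
    · rw [Equiv.Perm.mul_apply, Equiv.Perm.mul_apply, ha2, ha1]
    · have h1 := hc1 _ _ (hc2 r x hx)
      rw [Equiv.Perm.mul_apply]
      have : a * b * x * (a * b)⁻¹ = a * (b * x * b⁻¹) * a⁻¹ := by group
      rw [this]
      exact h1
    · have h1 := hi2 _ _ (hi1 r x hx)
      have h2 : (σ₁ * σ₂)⁻¹ r = σ₂⁻¹ (σ₁⁻¹ r) := by
        rw [mul_inv_rev, Equiv.Perm.mul_apply]
      rw [h2]
      have : (a * b)⁻¹ * x * (a * b) = b⁻¹ * (a⁻¹ * x * a) * b := by group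
      rw [this]
      exact h1
  | inv a ha iha =>
    obtain ⟨σ, hn, hal, hc, hi⟩ := iha
    refine ⟨σ⁻¹, inv_comm hn, inv_comm hal, fun r x hx => ?_, fun r x hx => ?_⟩
    · rw [inv_inv]
      exact hi r x hx
    · rw [inv_inv, inv_inv]
      exact hc r x hx

end GROOTP

/-- GROOTP -/
theorem rootP_of_mem_Nh (hD : IsRGD D) {g : M} (hg : g ∈ D.Nh) : D.RootP g := by
  obtain ⟨σ, h1, h2, h3, -⟩ := GROOTP.Q_of_mem_Nh hD hg
  exact ⟨σ, h1, h2, h3⟩

end Cfsg.Agent.RGD
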