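import Mathlib
import Cfsg.Agent.Helper2.RGD.Defs

set_option autoImplicit false
set_option linter.unusedSectionVars false
set_option linter.unusedVariables false

/-! Generic Bruhat decomposition, piece GUNORM: `Û_s ≤ Û`, and `n_s(u)`, `U_s` normalize `Û_s`. -/

namespace Cfsg.Agent.RGD

variable {M : Type*} [Group M] {R : Type*} {D : Datum M R}

namespace GUNORM

/-- a conjugation maps `Û_s` into itself as soon as it does so on the generators -/
theorem conj_mem_UhE_of_gen (D : Datum M R) (s : R) (g : M)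
    (h : ∀ r, D.Pos r → r ≠ s → r ≠ D.alt s → ∀ x ∈ D.U r, g * x * g⁻¹ ∈ D.UhE s) {y : M}
    (hy : y ∈ D.UhE s) : g * y * g⁻¹ ∈ D.UhE s := by
  have hle : D.UhE s ≤ (D.UhE s).comap (MulAut.conj g).toMonoidHom := by
    unfold Datum.UhE
    rw [Subgroup.closure_le]
    rintro x ⟨r, hr, hrs, hra, hx⟩
    show (MulAut.conj g) x ∈ Subgroup.closure
      {g | ∃ r, D.Pos r ∧ r ≠ s ∧ r ≠ D.alt s ∧ g ∈ D.U r}
    rw [MulAut.conj_apply]
    exact h r hr hrs hra x hx
  have := hle hy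
  rw [Subgroup.mem_comap] at this
  simpa [MulAut.conj_apply] using this

end GUNORM

/-- GUNORM -/
theorem UhE_le_Uh (D : Datum M R) (s : R) : D.UhE s ≤ D.Uh := by
  unfold Datum.UhE Datum.Uh
  apply Subgroup.closure_mono
  rintro g ⟨r, hr, -, -, hg⟩
  exact ⟨r, hr, hg⟩

theorem nS_conj_mem_UhE (hD : IsRGD D) {s : R} (hs : D.Simple s) {n : M} (hn : n ∈ D.nS s) {y : M}
    (hy : y ∈ D.UhE s) : n * y * n⁻¹ ∈ D.UhE s := by
  refine GUNORM.conj_mem_UhE_of_gen D s n (fun r hr hrs hra x hx => ?_) hy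
  have h1 := hD.nS_conj s hs n hn r x hx
  have hpos : D.Pos (D.refl s r) := hD.refl_pos s hs r hr hrs hra
  have hne1 : D.refl s r ≠ s := by
    intro h
    have h2 : r = D.neg s := by
      rw [← hD.refl_refl s hs r, h, hD.refl_self s hs]
    rw [h2, hD.pos_neg] at hr
    exact hr (hD.simple_pos s hs)
  have hne2 : D.refl s r ≠ D.alt s := by
    intro h
    have h2 : r = D.alt (D.neg s) := by
      rw [← hD.refl_refl s hs r, h, hD.refl_alt s hs, hD.refl_self s hs]
    rw [h2, hD.pos_alt, hD.pos_neg] at hr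
    exact hr (hD.simple_pos s hs)
  exact Subgroup.subset_closure ⟨D.refl s r, hpos, hne1, hne2, h1⟩

theorem U_conj_mem_UhE (hD : IsRGD D) {s : R} (hs : D.Simple s) {z : M} (hz : z ∈ D.U s) {y : M}
    (hy : y ∈ D.UhE s) : z * y * z⁻¹ ∈ D.UhE s :=
  GUNORM.conj_mem_UhE_of_gen D s z (fun r hr hrs hra x hx => hD.comm s hs z hz r hr hrs hra x hx) hy

end Cfsg.Agent.RGD
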