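import Mathlib
import Cfsg.Agent.Helper2.RGD.Defs
import Cfsg.Agent.Helper26.RGDGUNORM

set_option autoImplicit false
set_option linter.unusedSectionVars false
set_option linter.unusedVariables false

/-! Generic Bruhat decomposition, piece GUDECOMP: `Û = Û_s U_s`. -/

namespace Cfsg.Agent.RGD

variable {M : Type*} [Group M] {R : Type*} {D : Datum M R}

/-- GUDECOMP -/
theorem exists_of_mem_Uh (hD : IsRGD D) {s : R} (hs : D.Simple s) {u : M} (hu : u ∈ D.Uh) :
    ∃ y ∈ D.UhE s, ∃ z ∈ D.U s, u = y * z := by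
  classical
  unfold Datum.Uh at hu
  induction hu using Subgroup.closure_induction with
  | mem g hg =>
    obtain ⟨r, hr, hgr⟩ := hg
    by_cases h1 : r = s
    · subst h1
      exact ⟨1, (D.UhE r).one_mem, g, hgr, (one_mul g).symm⟩
    · by_cases h2 : r = D.alt s
      · subst h2
        rw [hD.U_alt] at hgr
        exact ⟨1, (D.UhE s).one_mem, g, hgr, (one_mul g).symm⟩
      · exact ⟨g, Subgroup.subset_closure ⟨r, hr, h1, h2, hgr⟩, 1, (D.U s).one_mem,
          (mul_one g).symm⟩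
  | one => exact ⟨1, (D.UhE s).one_mem, 1, (D.U s).one_mem, (one_mul 1).symm⟩
  | mul a b ha hb iha ihb =>
    obtain ⟨y, hy, z, hz, rfl⟩ := iha
    obtain ⟨y', hy', z', hz', rfl⟩ := ihb
    refine ⟨y * (z * y' * z⁻¹), (D.UhE s).mul_mem hy (U_conj_mem_UhE hD hs hz hy'), z * z',
      (D.U s).mul_mem hz hz', ?_⟩
    group
  | inv a ha iha =>
    obtain ⟨y, hy, z, hz, rfl⟩ := iha
    have h1 := U_conj_mem_UhE hD hs ((D.U s).inv_mem hz) ((D.UhE s).inv_mem hy)
    rw [inv_inv] at h1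
    refine ⟨z⁻¹ * y⁻¹ * z, h1, z⁻¹, (D.U s).inv_mem hz, ?_⟩
    group

end Cfsg.Agent.RGD
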