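import Mathlib
import Cfsg.Agent.Helper29.S2264Defs

/-! S2264 piece RECIP2 (driver helper29): the reciprocal of an irreducible polynomial is irreducible,
and a unit root `u` of `f` (in any `F`-algebra) gives the root `u⁻¹` of `recip f`.
Self-contained (only Mathlib's `Polynomial.reverse` API). -/

set_option autoImplicit false

namespace Cfsg.Agent.S2264P

open Polynomial
open scoped Classical

noncomputable section

variable {F : Type*} [Field F]

namespace RECIP2

/-- `reverse` is an involution on polynomials with nonzero constant coefficient -/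
lemma reverse_reverse_of_coeff_zero_ne {f : F[X]} (h0 : f.coeff 0 ≠ 0) :
    f.reverse.reverse = f := by
  have htr : f.natTrailingDegree = 0 := by
    rw [natTrailingDegree_eq_zero]; exact Or.inr h0
  have hdeg : f.reverse.natDegree = f.natDegree := by
    rw [reverse_natDegree, htr, Nat.sub_zero]
  unfold reverse at hdeg ⊢
  rw [hdeg]
  ext n
  rw [coeff_reflect, coeff_reflect, revAt_invol]

lemma natDegree_reverse_of_coeff_zero_ne {f : F[X]} (h0 : f.coeff 0 ≠ 0) :
    f.reverse.natDegree = f.natDegree := by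
  have htr : f.natTrailingDegree = 0 := by
    rw [natTrailingDegree_eq_zero]; exact Or.inr h0
  rw [reverse_natDegree, htr, Nat.sub_zero]

lemma reverse_irreducible {f : F[X]} (hf : Irreducible f) (h0 : f.coeff 0 ≠ 0) :
    Irreducible f.reverse := by
  have hf0 : f ≠ 0 := hf.ne_zero
  have hdeg : 1 ≤ f.natDegree := by
    have := Polynomial.natDegree_pos_iff_degree_pos.mpr (Polynomial.degree_pos_of_irreducible hf)
    omega
  rw [irreducible_iff]
  constructor
  · intro hu
    have := Polynomial.natDegree_eq_zero_of_isUnit hu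
    rw [natDegree_reverse_of_coeff_zero_ne h0] at this
    omega
  · intro a b hab
    have hrr : f = a.reverse * b.reverse := by
      rw [← reverse_mul_of_domain, ← hab, reverse_reverse_of_coeff_zero_ne h0]
    have hc0 : a.coeff 0 * b.coeff 0 ≠ 0 := by
      rw [← mul_coeff_zero, ← hab, coeff_zero_reverse]
      exact leadingCoeff_ne_zero.mpr hf0
    have ha0 : a.coeff 0 ≠ 0 := left_ne_zero_of_mul hc0
    have hb0 : b.coeff 0 ≠ 0 := right_ne_zero_of_mul hc0
    have hunit : ∀ g : F[X], g.coeff 0 ≠ 0 → IsUnit g.reverse → IsUnit g := by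
      intro g hg0 hu
      have h1 := Polynomial.natDegree_eq_zero_of_isUnit hu
      rw [natDegree_reverse_of_coeff_zero_ne hg0] at h1
      rw [Polynomial.isUnit_iff]
      refine ⟨g.coeff 0, isUnit_iff_ne_zero.mpr hg0, ?_⟩
      exact (Polynomial.eq_C_of_natDegree_eq_zero h1).symm
    rcases hf.isUnit_or_isUnit hrr with h | h
    · exact Or.inl (hunit a ha0 h)
    · exact Or.inr (hunit b hb0 h)

end RECIP2

open RECIP2 in
theorem recip_irreducible {f : F[X]} (hf : Irreducible f) (h0 : f.coeff 0 ≠ 0) :
    Irreducible (recip f) := by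
  unfold recip
  have hu : IsUnit (C (f.coeff 0)⁻¹ : F[X]) :=
    Polynomial.isUnit_C.mpr (isUnit_iff_ne_zero.mpr (inv_ne_zero h0))
  exact (irreducible_isUnit_mul hu).mpr (reverse_irreducible hf h0)

set_option linter.unusedVariables false in
theorem aeval_inv_recip {R : Type*} [Ring R] [Algebra F R] {f : F[X]} (h0 : f.coeff 0 ≠ 0)
    (u : Rˣ) (h : aeval (u : R) f = 0) : aeval ((u⁻¹ : Rˣ) : R) (recip f) = 0 := by
  unfold recip
  rw [map_mul, aeval_C]
  suffices hs : aeval ((u⁻¹ : Rˣ) : R) f.reverse = 0 by rw [hs, mul_zero]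
  obtain ⟨N, hN⟩ : ∃ N, N = f.natDegree := ⟨_, rfl⟩
  have key : ∀ i, i ≤ N → (((u⁻¹ : Rˣ) : R)) ^ i * (u : R) ^ N = (u : R) ^ (N - i) := by
    intro i hi
    rw [← Units.val_pow_eq_pow_val, ← Units.val_pow_eq_pow_val, ← Units.val_mul,
      ← Units.val_pow_eq_pow_val]
    congr 1
    rw [inv_pow, inv_mul_eq_iff_eq_mul, ← pow_add]
    congr 1
    omega
  have hlt : f.reverse.natDegree < N + 1 := by
    have := reverse_natDegree_le f
    omega
  have h1 : aeval ((u⁻¹ : Rˣ) : R) f.reverse * (u : R) ^ N = aeval (u : R) f := by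
    rw [aeval_eq_sum_range' hlt, aeval_eq_sum_range' (show f.natDegree < N + 1 by omega),
      Finset.sum_mul, ← Finset.sum_range_reflect (fun j => f.coeff j • (u : R) ^ j)]
    apply Finset.sum_congr rfl
    intro i hi
    have hi' : i ≤ N := by
      have := Finset.mem_range.mp hi; omega
    rw [smul_mul_assoc, key i hi', coeff_reverse, ← hN, revAt_le hi']
    have e : N + 1 - 1 - i = N - i := by omega
    rw [e]
  rw [h] at h1
  have h2 : aeval ((u⁻¹ : Rˣ) : R) f.reverse * ((u ^ N : Rˣ) : R) = 0 := by
    rw [Units.val_pow_eq_pow_val]; exact h1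
  exact (Units.mul_left_eq_zero (u ^ N)).mp h2

end

end Cfsg.Agent.S2264P
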