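import Mathlib
import Cfsg.Prelude.Def_LieClassical
import Cfsg.Agent.Helper13.S2263Defs

/-! S2263, piece KFORM: `Hk(x, y) = Tr_{K/F}(x · y^(q^m))` on `K`, `[K : F] = m` odd, is a
nondegenerate Hermitian form w.r.t. `σ = (·)^q` on `F` (`|F| = q²`). -/

set_option autoImplicit false
set_option linter.unusedSectionVars false

namespace Cfsg.Agent.S2263P

open Cfsg.Agent.S2496P

section ext

variable {F K : Type*} [Field F] [Fintype F] [Field K] [Algebra F K] [Finite K] {p : ℕ}
  [Fact p.Prime] [CharP F p] [CharP K p] {f q : ℕ}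

namespace KFORM

/-- `c^(q^m) = c^q` for `c ∈ F`, `m` odd -/
theorem pow_q_pow (hF : Fintype.card F = q ^ 2) (c : F) (k : ℕ) :
    c ^ (q ^ (2 * k + 1)) = c ^ q := by
  induction k with
  | zero => simp
  | succ k ih =>
    have : q ^ (2 * (k + 1) + 1) = q ^ 2 * q ^ (2 * k + 1) := by ring
    rw [this, pow_mul, ← hF, FiniteField.pow_card, ih]

/-- `τ (algebraMap c) = algebraMap (σ c)` -/
theorem tau_algebraMap (hq : q = p ^ f) (hF : Fintype.card F = q ^ 2) {m : ℕ} (hm : Odd m)
    (c : F) : frob K p (f * m) (algebraMap F K c) = algebraMap F K (frob F p f c) := by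
  rw [frob_apply, frob_apply, ← map_pow]
  congr 1
  obtain ⟨k, rfl⟩ := hm
  rw [pow_mul, ← hq, pow_q_pow hF]

/-- `τ τ = id` -/
theorem tau_tau (hq : q = p ^ f) (hF : Fintype.card F = q ^ 2) {m : ℕ}
    (hK : Module.finrank F K = m) (y : K) : frob K p (f * m) (frob K p (f * m) y) = y := by
  have := Fintype.ofFinite K
  rw [frob_apply, frob_apply, ← pow_mul, ← pow_add]
  have hcard : Fintype.card K = p ^ (f * m + f * m) := by
    rw [Module.card_eq_pow_finrank (K := F) (V := K), hK, hF, hq]
    ring
  rw [← hcard]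
  exact FiniteField.pow_card y

/-- the trace commutes with `τ` / `σ` -/
theorem trace_tau (hq : q = p ^ f) (hF : Fintype.card F = q ^ 2) {m : ℕ} (hm : Odd m) (z : K) :
    Algebra.trace F K (frob K p (f * m) z) = frob F p f (Algebra.trace F K z) := by
  apply (algebraMap F K).injective
  rw [← tau_algebraMap hq hF hm, FiniteField.algebraMap_trace_eq_sum_pow,
    FiniteField.algebraMap_trace_eq_sum_pow, map_sum]
  refine Finset.sum_congr rfl (fun i _ => ?_)
  rw [map_pow]

theorem eq_zero_of_trace (x : K) (h : ∀ y, Algebra.trace F K (x * y) = 0) : x = 0 := by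
  apply (traceForm_nondegenerate F K).1 x
  intro y
  rw [Algebra.traceForm_apply]
  exact h y

end KFORM

open KFORM in
/-- KFORM -/
theorem isHerm_Hk (hq : q = p ^ f) (hF : Fintype.card F = q ^ 2) {m : ℕ}
    (hK : Module.finrank F K = m) (hm : Odd m) : IsHerm (frob F p f) (Hk F K p f m) := by
  refine ⟨?_, ?_, ?_, ?_⟩
  · intro u u' v
    simp only [Hk_apply, add_mul, map_add]
  · intro c u v
    simp only [Hk_apply]
    rw [smul_mul_assoc, map_smul, smul_eq_mul]
  · intro u v
    simp only [Hk_apply]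
    rw [← trace_tau hq hF hm, RingHom.map_mul, tau_tau hq hF hK, mul_comm]
  · intro u hu
    apply eq_zero_of_trace (F := F)
    intro y
    obtain ⟨z, rfl⟩ : ∃ z, frob K p (f * m) z = y :=
      Finite.surjective_of_injective (frob K p (f * m)).injective y
    exact hu z

end ext

end Cfsg.Agent.S2263P
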