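import Mathlib
import Cfsg.Prelude.Def_PLocal
import Cfsg.Agent.Helper26.Basic
import Cfsg.Agent.Helper26.Thompson
import Cfsg.Agent.Helper10.KMax

set_option autoImplicit false

/-! Thompson / Timmesfeld replacement (Kurzweil–Stellmacher 9.2.1, 9.2.3). -/

namespace Cfsg.Agent.Helper26

open scoped commutatorElement

variable {G : Type*} [Group G]

theorem centralizer_sup_eq (H K : Subgroup G) :
    Subgroup.centralizer ((H ⊔ K : Subgroup G) : Set G) =
      Subgroup.centralizer (H : Set G) ⊓ Subgroup.centralizer (K : Set G) := by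
  apply le_antisymm
  · exact le_inf (Subgroup.centralizer_le (by exact_mod_cast (le_sup_left : H ≤ H ⊔ K)))
      (Subgroup.centralizer_le (by exact_mod_cast (le_sup_right : K ≤ H ⊔ K)))
  · rw [Subgroup.le_centralizer_iff]
    apply sup_le
    · rw [Subgroup.le_centralizer_iff]; exact inf_le_left
    · rw [Subgroup.le_centralizer_iff]; exact inf_le_right

/-- `|B| |D| ≤ |B ⊓ D| |B ⊔ D|`. -/
theorem card_mul_card_le_inf_sup [Finite G] (B D : Subgroup G) :
    Nat.card B * Nat.card D ≤ Nat.card ↥(B ⊓ D) * Nat.card ↥(B ⊔ D) := by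
  have h1 := card_inf_mul_relIndex D B
  have h2 := card_mul_relIndex_of_le (le_sup_right : D ≤ B ⊔ D)
  have h3 : D.relIndex B ≤ D.relIndex (B ⊔ D) :=
    Subgroup.relIndex_le_of_le_right le_sup_left Subgroup.index_ne_zero_of_finite
  rw [inf_comm] at h1
  calc Nat.card B * Nat.card D = Nat.card ↥(B ⊓ D) * D.relIndex B * Nat.card D := by rw [h1]
    _ ≤ Nat.card ↥(B ⊓ D) * D.relIndex (B ⊔ D) * Nat.card D := by gcongr
    _ = Nat.card ↥(B ⊓ D) * (Nat.card D * D.relIndex (B ⊔ D)) := by ring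
    _ = Nat.card ↥(B ⊓ D) * Nat.card ↥(B ⊔ D) := by rw [h2]

/-- Counting lemma: a map whose "fibres modulo `M`" lie in cosets of `N`. -/
theorem card_mul_card_le_of_fiber {H K : Type*} [Group H] [Group K] [Finite H] [Finite K]
    (N : Subgroup H) (M : Subgroup K) (φ : H → K)
    (hφ : ∀ a b, (φ a)⁻¹ * φ b ∈ M → a⁻¹ * b ∈ N) :
    Nat.card H * Nat.card M ≤ Nat.card N * Nat.card K := by
  classical
  let Φ : H → K ⧸ M := fun a => QuotientGroup.mk (φ a)
  let r : K ⧸ M → H := fun q => if h : ∃ a, Φ a = q then h.choose else 1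
  have hr : ∀ a, Φ (r (Φ a)) = Φ a := by
    intro a
    have h : ∃ a', Φ a' = Φ a := ⟨a, rfl⟩
    simp only [r, dif_pos h]
    exact h.choose_spec
  have hmem : ∀ a, (r (Φ a))⁻¹ * a ∈ N := fun a => hφ _ _ (QuotientGroup.eq.mp (hr a))
  have hinj : Function.Injective (fun a : H => ((Φ a, ⟨(r (Φ a))⁻¹ * a, hmem a⟩) : (K ⧸ M) × N)) := by
    intro a b hab
    have h1 : Φ a = Φ b := congrArg Prod.fst hab
    have h2 : (r (Φ a))⁻¹ * a = (r (Φ b))⁻¹ * b := congrArg (fun z => (z.2 : H)) hab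
    rw [h1] at h2
    exact mul_left_cancel h2
  have h1 := Nat.card_le_card_of_injective _ hinj
  rw [Nat.card_prod] at h1
  have h2 := Subgroup.card_eq_card_quotient_mul_card_subgroup M
  calc Nat.card H * Nat.card M ≤ Nat.card (K ⧸ M) * Nat.card N * Nat.card M := by gcongr
    _ = Nat.card N * (Nat.card (K ⧸ M) * Nat.card M) := by ring
    _ = Nat.card N * Nat.card K := by rw [h2]

/-- Ambient version of the counting lemma. -/
theorem card_mul_card_le_of_fiber' [Finite G] {A N W M : Subgroup G} (hN : N ≤ A) (hM : M ≤ W)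
    (φ : G → G) (hφW : ∀ a ∈ A, φ a ∈ W)
    (hφ : ∀ a ∈ A, ∀ b ∈ A, (φ a)⁻¹ * φ b ∈ M → a⁻¹ * b ∈ N) :
    Nat.card A * Nat.card M ≤ Nat.card N * Nat.card W := by
  have h := card_mul_card_le_of_fiber (N.subgroupOf A) (M.subgroupOf W)
    (fun a : A => (⟨φ a, hφW a a.2⟩ : W)) (by
      intro a b hab
      rw [Subgroup.mem_subgroupOf] at hab ⊢
      exact hφ a a.2 b b.2 hab)
  rw [card_subgroupOf_eq_card_inf, card_subgroupOf_eq_card_inf, inf_of_le_left hN,
    inf_of_le_left hM] at h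
  exact h


/-- The product `|B| |C_V(B)|`. -/
noncomputable def fval (V B : Subgroup G) : ℕ :=
  Nat.card B * Nat.card ↥(V ⊓ Subgroup.centralizer (B : Set G))

theorem fval_pos [Finite G] (V B : Subgroup G) : 0 < fval V B :=
  Nat.mul_pos Nat.card_pos Nat.card_pos

theorem inf_centralizer_le_normalizer {V : Subgroup G}
    (hVab : V ≤ Subgroup.centralizer (V : Set G)) (X Y : Subgroup G) (hX : X ≤ V) (hY : Y ≤ V) :
    X ≤ Subgroup.normalizer (Y : Set G) := by
  have h1 : X ≤ Subgroup.centralizer (Y : Set G) :=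
    hX.trans (hVab.trans (Subgroup.centralizer_le (by exact_mod_cast hY)))
  intro x hx
  have := h1 hx
  rw [Subgroup.mem_centralizer_iff] at this
  rw [Subgroup.mem_normalizer_iff]
  intro y
  have e : ∀ y ∈ Y, x * y * x⁻¹ = y := fun y hy => by rw [← this y hy]; group
  constructor
  · intro hy; rw [e y hy]; exact hy
  · intro hy
    have h2 := e _ hy
    have : x * y * x⁻¹ = y := by
      have h3 : x * (x * y * x⁻¹) * x⁻¹ = x * y * x⁻¹ := h2
      calc x * y * x⁻¹ = x⁻¹ * (x * (x * y * x⁻¹) * x⁻¹) * x := by group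
        _ = x⁻¹ * (x * y * x⁻¹) * x := by rw [h3]
        _ = y := by group
    rw [← this]; exact hy

/-- lattice inequality for `fval`, with its equality case. -/
theorem fval_mul_fval_le [Finite G] {V : Subgroup G}
    (hVab : V ≤ Subgroup.centralizer (V : Set G)) (B D : Subgroup G) :
    fval V B * fval V D ≤ fval V (B ⊓ D) * fval V (B ⊔ D) ∧
    (fval V B * fval V D = fval V (B ⊓ D) * fval V (B ⊔ D) →
      V ⊓ Subgroup.centralizer ((B ⊓ D : Subgroup G) : Set G) =
        (V ⊓ Subgroup.centralizer (B : Set G)) ⊔ (V ⊓ Subgroup.centralizer (D : Set G))) := by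
  have h1 := card_mul_card_le_inf_sup B D
  have hinf : (V ⊓ Subgroup.centralizer (B : Set G)) ⊓ (V ⊓ Subgroup.centralizer (D : Set G)) =
      V ⊓ Subgroup.centralizer ((B ⊔ D : Subgroup G) : Set G) := by
    rw [centralizer_sup_eq]
    ext x; simp only [Subgroup.mem_inf]; tauto
  have hsup : (V ⊓ Subgroup.centralizer (B : Set G)) ⊔ (V ⊓ Subgroup.centralizer (D : Set G)) ≤
      V ⊓ Subgroup.centralizer ((B ⊓ D : Subgroup G) : Set G) := by
    apply sup_le
    · exact inf_le_inf_left _ (Subgroup.centralizer_le (by exact_mod_cast (inf_le_left : B ⊓ D ≤ B)))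
    · exact inf_le_inf_left _ (Subgroup.centralizer_le (by exact_mod_cast (inf_le_right : B ⊓ D ≤ D)))
  have h2 := card_sup_mul_card_inf (inf_centralizer_le_normalizer hVab
    (V ⊓ Subgroup.centralizer (B : Set G)) (V ⊓ Subgroup.centralizer (D : Set G)) inf_le_left inf_le_left)
  rw [hinf] at h2
  have h3 : Nat.card ↥((V ⊓ Subgroup.centralizer (B : Set G)) ⊔ (V ⊓ Subgroup.centralizer (D : Set G))) ≤
      Nat.card ↥(V ⊓ Subgroup.centralizer ((B ⊓ D : Subgroup G) : Set G)) :=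
    Subgroup.card_le_of_le hsup
  unfold fval
  set a := Nat.card B
  set d := Nat.card D
  set i := Nat.card ↥(B ⊓ D)
  set s := Nat.card ↥(B ⊔ D)
  set cB := Nat.card ↥(V ⊓ Subgroup.centralizer (B : Set G))
  set cD := Nat.card ↥(V ⊓ Subgroup.centralizer (D : Set G))
  set cS := Nat.card ↥((V ⊓ Subgroup.centralizer (B : Set G)) ⊔ (V ⊓ Subgroup.centralizer (D : Set G)))
  set cI := Nat.card ↥(V ⊓ Subgroup.centralizer ((B ⊓ D : Subgroup G) : Set G))
  set cU := Nat.card ↥(V ⊓ Subgroup.centralizer ((B ⊔ D : Subgroup G) : Set G))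
  have hcU : 0 < cU := Nat.card_pos
  have hi : 0 < i := Nat.card_pos
  have hs : 0 < s := Nat.card_pos
  have e1 : a * cB * (d * cD) = (a * d) * (cS * cU) := by rw [h2]; ring
  have e2 : i * cI * (s * cU) = (i * s) * (cI * cU) := by ring
  rw [e1, e2]
  constructor
  · exact Nat.mul_le_mul h1 (Nat.mul_le_mul_right _ h3)
  · intro heq
    have hcard : cS = cI := by
      by_contra hne
      have hlt : cS < cI := lt_of_le_of_ne h3 hne
      have : (a * d) * (cS * cU) < (i * s) * (cI * cU) :=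
        calc (a * d) * (cS * cU) ≤ (i * s) * (cS * cU) := Nat.mul_le_mul_right _ h1
          _ < (i * s) * (cI * cU) :=
            Nat.mul_lt_mul_of_pos_left (Nat.mul_lt_mul_of_pos_right hlt hcU) (Nat.mul_pos hi hs)
      omega
    exact (Subgroup.eq_of_le_of_card_ge hsup (le_of_eq hcard.symm)).symm

/-- Under the maximality hypothesis, maximizers of `fval` are closed under intersection. -/
theorem fval_inf_eq [Finite G] {V A : Subgroup G}
    (hVab : V ≤ Subgroup.centralizer (V : Set G))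
    (hmax : ∀ B : Subgroup G, B ≤ A → fval V B ≤ fval V A) {B D : Subgroup G} (hB : B ≤ A) (hD : D ≤ A)
    (hfB : fval V B = fval V A) (hfD : fval V D = fval V A) :
    fval V (B ⊓ D) = fval V A ∧
      V ⊓ Subgroup.centralizer ((B ⊓ D : Subgroup G) : Set G) =
        (V ⊓ Subgroup.centralizer (B : Set G)) ⊔ (V ⊓ Subgroup.centralizer (D : Set G)) := by
  obtain ⟨hle, heq⟩ := fval_mul_fval_le hVab B D
  rw [hfB, hfD] at hle heq
  have hx := hmax (B ⊓ D) (inf_le_left.trans hB)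
  have hy := hmax (B ⊔ D) (sup_le hB hD)
  have hF := fval_pos V A
  have hxe : fval V (B ⊓ D) = fval V A := by
    by_contra hne
    have hlt : fval V (B ⊓ D) < fval V A := lt_of_le_of_ne hx hne
    have : fval V (B ⊓ D) * fval V (B ⊔ D) < fval V A * fval V A :=
      calc fval V (B ⊓ D) * fval V (B ⊔ D) ≤ fval V (B ⊓ D) * fval V A := Nat.mul_le_mul_left _ hy
        _ < fval V A * fval V A := Nat.mul_lt_mul_of_pos_right hlt hF
    omega
  refine ⟨hxe, heq ?_⟩
  have hye : fval V (B ⊔ D) = fval V A := by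
    by_contra hne
    have hlt : fval V (B ⊔ D) < fval V A := lt_of_le_of_ne hy hne
    have : fval V (B ⊓ D) * fval V (B ⊔ D) < fval V A * fval V A := by
      rw [hxe]; exact Nat.mul_lt_mul_of_pos_left hlt hF
    omega
  rw [hxe, hye]


theorem conj_mem_of_mem_normalizer {V : Subgroup G} {a v : G}
    (ha : a ∈ Subgroup.normalizer (V : Set G)) (hv : v ∈ V) : a * v * a⁻¹ ∈ V :=
  (Subgroup.mem_normalizer_iff.mp ha v).mp hv

theorem commutatorElement_mem_of_mem_normalizer {V : Subgroup G} {a v : G}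
    (ha : a ∈ Subgroup.normalizer (V : Set G)) (hv : v ∈ V) : ⁅v, a⁆ ∈ V := by
  have h1 : a * v⁻¹ * a⁻¹ ∈ V := conj_mem_of_mem_normalizer ha (V.inv_mem hv)
  have : ⁅v, a⁆ = v * (a * v⁻¹ * a⁻¹) := by rw [commutatorElement_def]; group
  rw [this]; exact V.mul_mem hv h1

/-- Key element computation: if `[u,d]` is centralized by `A` then `d` centralizes `[⟨u⟩, A]`. -/
theorem mem_centralizer_commutator_zpowers {V A : Subgroup G}
    (hVab : V ≤ Subgroup.centralizer (V : Set G)) (hAV : A ≤ Subgroup.normalizer (V : Set G))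
    (hab : ⁅A, A⁆ ≤ Subgroup.centralizer (V : Set G)) {u d : G} (hu : u ∈ V) (hd : d ∈ A)
    (hz : ⁅u, d⁆ ∈ Subgroup.centralizer (A : Set G)) :
    d ∈ Subgroup.centralizer ((⁅Subgroup.zpowers u, A⁆ : Subgroup G) : Set G) := by
  have hcommV : ∀ x ∈ V, ∀ y ∈ V, x * y = y * x := fun x hx y hy =>
    ((Subgroup.mem_centralizer_iff.mp (hVab hy)) x hx)
  have hle : ⁅Subgroup.zpowers u, A⁆ ≤ V ⊓ Subgroup.centralizer {d} := by
    apply Cfsg.Agent.Helper10.commutator_zpowers_le
    · intro g hg w hw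
      have hgV : g ∈ V := (Subgroup.zpowers_le.mpr hu) hg
      have : g * w * g⁻¹ = w := by rw [hcommV g hgV w hw.1]; group
      rw [this]; exact hw
    · intro a' ha'
      have hwV : ⁅u, a'⁆ ∈ V := commutatorElement_mem_of_mem_normalizer (hAV ha') hu
      refine Subgroup.mem_inf.mpr ⟨hwV, ?_⟩
      rw [Subgroup.mem_centralizer_singleton_iff]
      set z := ⁅u, d⁆ with hzdef
      set c := ⁅d, a'⁆ with hcdef
      have hzV : z ∈ V := commutatorElement_mem_of_mem_normalizer (hAV hd) hu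
      have hza : a' * z = z * a' := (Subgroup.mem_centralizer_iff.mp hz a' ha')
      have hc : c ∈ Subgroup.centralizer (V : Set G) :=
        hab (Subgroup.commutator_mem_commutator hd ha')
      have e1 : d * u⁻¹ * d⁻¹ = u⁻¹ * z := by rw [hzdef, commutatorElement_def]; group
      have e1' : d * u * d⁻¹ = z⁻¹ * u := by rw [hzdef, commutatorElement_def]; group
      have e2 : d * a' = c * a' * d := by rw [hcdef, commutatorElement_def]; group
      -- t := a' (d u⁻¹ d⁻¹) a'⁻¹ ∈ V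
      have htV : a' * (d * u⁻¹ * d⁻¹) * a'⁻¹ ∈ V :=
        conj_mem_of_mem_normalizer (hAV ha') (conj_mem_of_mem_normalizer (hAV hd) (V.inv_mem hu))
      have e3 : (d * a') * u⁻¹ * (d * a')⁻¹ = a' * (d * u⁻¹ * d⁻¹) * a'⁻¹ := by
        have hcomm := (Subgroup.mem_centralizer_iff.mp hc) _ htV
        calc (d * a') * u⁻¹ * (d * a')⁻¹
            = c * (a' * (d * u⁻¹ * d⁻¹) * a'⁻¹) * c⁻¹ := by rw [e2]; group
          _ = (a' * (d * u⁻¹ * d⁻¹) * a'⁻¹) * c * c⁻¹ := by rw [hcomm]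
          _ = a' * (d * u⁻¹ * d⁻¹) * a'⁻¹ := by group
      have hza' : a' * z * a'⁻¹ = z := by rw [hza]; group
      have e4 : a' * (d * u⁻¹ * d⁻¹) * a'⁻¹ = (a' * u⁻¹ * a'⁻¹) * z := by
        rw [e1]
        calc a' * (u⁻¹ * z) * a'⁻¹ = (a' * u⁻¹ * a'⁻¹) * (a' * z * a'⁻¹) := by group
          _ = (a' * u⁻¹ * a'⁻¹) * z := by rw [hza']
      have hzw : z⁻¹ * ⁅u, a'⁆ * z = ⁅u, a'⁆ := by
        have := hcommV _ hwV z hzV
        rw [mul_assoc, this]; group
      symm
      calc d * ⁅u, a'⁆ = (d * u * d⁻¹) * ((d * a') * u⁻¹ * (d * a')⁻¹) * d := by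
            rw [commutatorElement_def]; group
        _ = (z⁻¹ * u) * ((a' * u⁻¹ * a'⁻¹) * z) * d := by rw [e1', e3, e4]
        _ = z⁻¹ * ⁅u, a'⁆ * z * d := by rw [commutatorElement_def]; group
        _ = ⁅u, a'⁆ * d := by rw [hzw]
  rw [Subgroup.mem_centralizer_iff]
  intro h hh
  have := (Subgroup.mem_inf.mp (hle hh)).2
  rw [Subgroup.mem_centralizer_singleton_iff] at this
  exact this


theorem commutator_le_of_le_of_le_normalizer {V X A : Subgroup G} (hX : X ≤ V)
    (hAV : A ≤ Subgroup.normalizer (V : Set G)) : ⁅X, A⁆ ≤ V := by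
  rw [Subgroup.commutator_le]
  intro x hx a ha
  exact commutatorElement_mem_of_mem_normalizer (hAV ha) (hX hx)

/-- `[X,A] C_V(A) ≤ C_V(C_A([X,A]))`. -/
theorem commutator_sup_le_inf_centralizer {V X A : Subgroup G} (hX : X ≤ V)
    (hAV : A ≤ Subgroup.normalizer (V : Set G)) :
    ⁅X, A⁆ ⊔ (V ⊓ Subgroup.centralizer (A : Set G)) ≤
      V ⊓ Subgroup.centralizer ((A ⊓ Subgroup.centralizer ((⁅X, A⁆ : Subgroup G) : Set G) : Subgroup G) : Set G) := by
  apply sup_le
  · apply le_inf (commutator_le_of_le_of_le_normalizer hX hAV)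
    rw [Subgroup.le_centralizer_iff]
    exact inf_le_right
  · exact inf_le_inf_left _ (Subgroup.centralizer_le (by exact_mod_cast
      (inf_le_left : A ⊓ Subgroup.centralizer ((⁅X, A⁆ : Subgroup G) : Set G) ≤ A)))

/-- Counting in the cyclic case. -/
theorem card_mul_le_cyclic [Finite G] {V A : Subgroup G}
    (hVab : V ≤ Subgroup.centralizer (V : Set G)) (hAV : A ≤ Subgroup.normalizer (V : Set G))
    (hab : ⁅A, A⁆ ≤ Subgroup.centralizer (V : Set G)) {u : G} (hu : u ∈ V) :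
    Nat.card A * Nat.card ↥(V ⊓ Subgroup.centralizer (A : Set G)) ≤
      Nat.card ↥(A ⊓ Subgroup.centralizer ((⁅Subgroup.zpowers u, A⁆ : Subgroup G) : Set G)) *
        Nat.card ↥(⁅Subgroup.zpowers u, A⁆ ⊔ (V ⊓ Subgroup.centralizer (A : Set G))) := by
  apply card_mul_card_le_of_fiber' inf_le_left le_sup_right (fun a => ⁅u, a⁆)
  · intro a ha
    exact le_sup_left (a := ⁅Subgroup.zpowers u, A⁆)
      (Subgroup.commutator_mem_commutator (Subgroup.mem_zpowers u) ha)
  · intro a ha b hb hk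
    have hab' : a⁻¹ * b ∈ A := A.mul_mem (A.inv_mem ha) hb
    refine Subgroup.mem_inf.mpr ⟨hab', ?_⟩
    apply mem_centralizer_commutator_zpowers hVab hAV hab hu hab'
    have hkA := (Subgroup.mem_inf.mp hk).2
    have hcomm : a * (⁅u, a⁆⁻¹ * ⁅u, b⁆) = (⁅u, a⁆⁻¹ * ⁅u, b⁆) * a :=
      (Subgroup.mem_centralizer_iff.mp hkA a ha)
    have e : ⁅u, a⁻¹ * b⁆ = ⁅u, a⁆⁻¹ * ⁅u, b⁆ := by
      calc ⁅u, a⁻¹ * b⁆ = a⁻¹ * ((⁅u, a⁆⁻¹ * ⁅u, b⁆) * a) := by
            simp only [commutatorElement_def]; group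
        _ = a⁻¹ * (a * (⁅u, a⁆⁻¹ * ⁅u, b⁆)) := by rw [hcomm]
        _ = ⁅u, a⁆⁻¹ * ⁅u, b⁆ := by group
    rw [e]; exact hkA

/-- The cyclic case of Thompson replacement. -/
theorem cyclic_step [Finite G] {V A : Subgroup G}
    (hVab : V ≤ Subgroup.centralizer (V : Set G)) (hAV : A ≤ Subgroup.normalizer (V : Set G))
    (hab : ⁅A, A⁆ ≤ Subgroup.centralizer (V : Set G)) {u : G} (hu : u ∈ V)
    (hmax : fval V (A ⊓ Subgroup.centralizer ((⁅Subgroup.zpowers u, A⁆ : Subgroup G) : Set G)) ≤ fval V A) :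
    fval V (A ⊓ Subgroup.centralizer ((⁅Subgroup.zpowers u, A⁆ : Subgroup G) : Set G)) = fval V A ∧
    V ⊓ Subgroup.centralizer
      ((A ⊓ Subgroup.centralizer ((⁅Subgroup.zpowers u, A⁆ : Subgroup G) : Set G) : Subgroup G) : Set G) =
      ⁅Subgroup.zpowers u, A⁆ ⊔ (V ⊓ Subgroup.centralizer (A : Set G)) := by
  have h1 := card_mul_le_cyclic hVab hAV hab hu
  have h2 := commutator_sup_le_inf_centralizer (X := Subgroup.zpowers u) (Subgroup.zpowers_le.mpr hu) hAV
  have h3 := Subgroup.card_le_of_le h2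
  unfold fval at hmax ⊢
  set n := Nat.card ↥(A ⊓ Subgroup.centralizer ((⁅Subgroup.zpowers u, A⁆ : Subgroup G) : Set G))
  set w := Nat.card ↥(⁅Subgroup.zpowers u, A⁆ ⊔ (V ⊓ Subgroup.centralizer (A : Set G)))
  set c := Nat.card ↥(V ⊓ Subgroup.centralizer
      ((A ⊓ Subgroup.centralizer ((⁅Subgroup.zpowers u, A⁆ : Subgroup G) : Set G) : Subgroup G) : Set G))
  have hn : 0 < n := Nat.card_pos
  have h4 : n * w ≤ n * c := Nat.mul_le_mul_left _ h3
  have h5 : n * w = n * c := by omega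
  have h6 : w = c := Nat.eq_of_mul_eq_mul_left hn h5
  refine ⟨by omega, ?_⟩
  exact (Subgroup.eq_of_le_of_card_ge h2 (le_of_eq h6.symm)).symm


/-- The replacement property for `X ≤ V`: `C_A([X,A])` has the same `fval` as `A` and fixed points `[X,A] C_V(A)`. -/
def ReplProp (V A X : Subgroup G) : Prop :=
  fval V (A ⊓ Subgroup.centralizer ((⁅X, A⁆ : Subgroup G) : Set G)) = fval V A ∧
    V ⊓ Subgroup.centralizer ((A ⊓ Subgroup.centralizer ((⁅X, A⁆ : Subgroup G) : Set G) : Subgroup G) : Set G) =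
      ⁅X, A⁆ ⊔ (V ⊓ Subgroup.centralizer (A : Set G))

theorem commutator_sup_eq {V A X₁ X₂ : Subgroup G}
    (hVab : V ≤ Subgroup.centralizer (V : Set G)) (hAV : A ≤ Subgroup.normalizer (V : Set G))
    (h1 : X₁ ≤ V) (h2 : X₂ ≤ V) : ⁅X₁ ⊔ X₂, A⁆ = ⁅X₁, A⁆ ⊔ ⁅X₂, A⁆ := by
  apply le_antisymm
  · apply Cfsg.Agent.Helper10.commutator_sup_le_of_conj_mem
    · intro g hg w hw
      have hgV : g ∈ V := (sup_le h1 h2) hg
      have hwV : w ∈ V := (sup_le (commutator_le_of_le_of_le_normalizer h1 hAV)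
        (commutator_le_of_le_of_le_normalizer h2 hAV)) hw
      have hc : w * g = g * w := (Subgroup.mem_centralizer_iff.mp (hVab hgV)) w hwV
      have : g * w * g⁻¹ = w := by rw [← hc]; group
      rw [this]; exact hw
    · exact le_sup_left
    · exact le_sup_right
  · exact sup_le (Subgroup.commutator_mono le_sup_left le_rfl) (Subgroup.commutator_mono le_sup_right le_rfl)

theorem replProp_bot (V A : Subgroup G) : ReplProp V A ⊥ := by
  have h1 : (⁅(⊥ : Subgroup G), A⁆ : Subgroup G) = ⊥ := Subgroup.commutator_bot_left A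
  have h2 : Subgroup.centralizer (((⊥ : Subgroup G) : Subgroup G) : Set G) = ⊤ := by
    ext x; simp [Subgroup.mem_centralizer_iff]
  unfold ReplProp
  rw [h1, h2, inf_top_eq, bot_sup_eq]
  exact ⟨rfl, rfl⟩

theorem replProp_sup [Finite G] {V A X₁ X₂ : Subgroup G}
    (hVab : V ≤ Subgroup.centralizer (V : Set G)) (hAV : A ≤ Subgroup.normalizer (V : Set G))
    (hmax : ∀ B : Subgroup G, B ≤ A → fval V B ≤ fval V A)
    (h1 : X₁ ≤ V) (h2 : X₂ ≤ V) (p1 : ReplProp V A X₁) (p2 : ReplProp V A X₂) :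
    ReplProp V A (X₁ ⊔ X₂) := by
  unfold ReplProp at p1 p2 ⊢
  have e : A ⊓ Subgroup.centralizer ((⁅X₁ ⊔ X₂, A⁆ : Subgroup G) : Set G) =
      (A ⊓ Subgroup.centralizer ((⁅X₁, A⁆ : Subgroup G) : Set G)) ⊓
        (A ⊓ Subgroup.centralizer ((⁅X₂, A⁆ : Subgroup G) : Set G)) := by
    rw [commutator_sup_eq hVab hAV h1 h2, centralizer_sup_eq, inf_inf_distrib_left]
  rw [e]
  obtain ⟨q1, q2⟩ := fval_inf_eq hVab hmax (inf_le_left : A ⊓ Subgroup.centralizer ((⁅X₁, A⁆ : Subgroup G) : Set G) ≤ A)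
    (inf_le_left : A ⊓ Subgroup.centralizer ((⁅X₂, A⁆ : Subgroup G) : Set G) ≤ A) p1.1 p2.1
  refine ⟨q1, ?_⟩
  rw [q2, p1.2, p2.2, commutator_sup_eq hVab hAV h1 h2]
  apply le_antisymm
  · apply sup_le
    · exact sup_le (le_sup_left.trans le_sup_left) le_sup_right
    · exact sup_le (le_sup_right.trans le_sup_left) le_sup_right
  · apply sup_le
    · exact sup_le (le_sup_left.trans le_sup_left) (le_sup_left.trans le_sup_right)
    · exact le_sup_right.trans le_sup_left

/-- Thompson replacement, general `X ≤ V`, under the maximality hypothesis. -/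
theorem replProp_all [Finite G] {V A : Subgroup G}
    (hVab : V ≤ Subgroup.centralizer (V : Set G)) (hAV : A ≤ Subgroup.normalizer (V : Set G))
    (hab : ⁅A, A⁆ ≤ Subgroup.centralizer (V : Set G))
    (hmax : ∀ B : Subgroup G, B ≤ A → fval V B ≤ fval V A) {X : Subgroup G} (hX : X ≤ V) :
    ReplProp V A X := by
  obtain ⟨Y, -, hYmax⟩ := Finite.exists_le_maximal (p := fun Y : Subgroup G => Y ≤ X ∧ ReplProp V A Y)
    (a := ⊥) ⟨bot_le, replProp_bot V A⟩
  have hYX : Y = X := by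
    by_contra hne
    obtain ⟨u, huX, huY⟩ := SetLike.exists_of_lt (lt_of_le_of_ne hYmax.prop.1 hne)
    have hu : u ∈ V := hX huX
    have hcyc : ReplProp V A (Subgroup.zpowers u) :=
      cyclic_step hVab hAV hab hu (hmax _ inf_le_left)
    have hp : (Y ⊔ Subgroup.zpowers u) ≤ X ∧ ReplProp V A (Y ⊔ Subgroup.zpowers u) :=
      ⟨sup_le hYmax.prop.1 (Subgroup.zpowers_le.mpr huX),
        replProp_sup hVab hAV hmax (hYmax.prop.1.trans hX) (Subgroup.zpowers_le.mpr hu) hYmax.prop.2 hcyc⟩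
    have := hYmax.le_of_ge hp le_sup_left
    exact huY (this (le_sup_right (a := Y) (Subgroup.mem_zpowers u)))
  rw [← hYX]; exact hYmax.prop.2


theorem le_centralizer_of_isElementaryAbelian {p : ℕ} {V : Subgroup G} (hV : Cfsg.IsElementaryAbelian p V) :
    V ≤ Subgroup.centralizer (V : Set G) := by
  intro x hx
  rw [Subgroup.mem_centralizer_iff]
  intro y hy
  exact isElementaryAbelian_commute hV hy hx

end Cfsg.Agent.Helper26
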