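import Mathlib
import Cfsg.Agent.Lead.ThompsonPQ
import Cfsg.Agent.Helper26.Basic

set_option autoImplicit false

/-! A group acting as a `p`-group on a `p`-group acts nilpotently: `[W,A] < W`. -/

namespace Cfsg.Agent.Helper26

open scoped commutatorElement

variable {G : Type*} [Group G]

/-- If `H/N` has exponent `p` then a Sylow `p`-subgroup of `H` supplements `N`. -/
theorem sylow_sup_eq_top_of_pow_mem {H : Type*} [Group H] [Finite H] {p : ℕ} [Fact p.Prime]
    (P : Sylow p H) (N : Subgroup H) [N.Normal] (hN : ∀ h : H, h ^ p ∈ N) :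
    (P : Subgroup H) ⊔ N = ⊤ := by
  have hq : IsPGroup p (H ⧸ N) := by
    intro g
    induction g using QuotientGroup.induction_on with
    | H h =>
      refine ⟨1, ?_⟩
      rw [pow_one, ← QuotientGroup.mk_pow, QuotientGroup.eq_one_iff]
      exact hN h
  rw [← Subgroup.index_eq_one]
  have h1 : ((P : Subgroup H) ⊔ N).index ∣ (P : Subgroup H).index :=
    Subgroup.index_dvd_of_le le_sup_left
  have h2 : ((P : Subgroup H) ⊔ N).index ∣ N.index :=
    Subgroup.index_dvd_of_le le_sup_right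
  obtain ⟨k, hk⟩ := IsPGroup.iff_card.mp hq
  rw [← Subgroup.index_eq_card] at hk
  rw [hk] at h2
  have h3 : Nat.Coprime ((P : Subgroup H).index) (p ^ k) :=
    Nat.Coprime.pow_right k ((Fact.out : p.Prime).coprime_iff_not_dvd.mpr P.not_dvd_index).symm
  exact Nat.eq_one_of_dvd_coprimes h3 h1 h2

/-- Ambient form: if `K ≤ A` is normalized by `A` and `A/K` has exponent `p`, then `A = P K`
for some `p`-subgroup `P` of `A`. -/
theorem exists_pSubgroup_mul_eq [Finite G] {p : ℕ} [Fact p.Prime] {A K : Subgroup G}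
    (_hKA : K ≤ A) (hAK : A ≤ Subgroup.normalizer (K : Set G)) (hpow : ∀ a ∈ A, a ^ p ∈ K) :
    ∃ P : Subgroup G, P ≤ A ∧ IsPGroup p P ∧ ∀ a ∈ A, ∃ x ∈ P, ∃ k ∈ K, a = x * k := by
  have : (K.subgroupOf A).Normal := Subgroup.normal_subgroupOf_of_le_normalizer hAK
  obtain ⟨P₀⟩ : Nonempty (Sylow p A) := inferInstance
  have htop := sylow_sup_eq_top_of_pow_mem P₀ (K.subgroupOf A) (by
    intro h
    rw [Subgroup.mem_subgroupOf]
    simpa using hpow h h.2)
  refine ⟨(P₀ : Subgroup A).map A.subtype, Subgroup.map_subtype_le _, P₀.isPGroup'.map _, ?_⟩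
  intro a ha
  have hmem : (⟨a, ha⟩ : A) ∈ (P₀ : Subgroup A) ⊔ K.subgroupOf A := by rw [htop]; trivial
  rw [← SetLike.mem_coe, Subgroup.mul_normal, Set.mem_mul] at hmem
  obtain ⟨x, hx, n, hn, hxn⟩ := hmem
  refine ⟨x, ⟨x, hx, rfl⟩, n, Subgroup.mem_subgroupOf.mp hn, ?_⟩
  have := congrArg Subtype.val hxn
  simpa using this.symm

/-- `A ≤ N(V)` normalizes `A ⊓ C(V)`. -/
theorem le_normalizer_inf_centralizer {V A : Subgroup G} (hAV : A ≤ Subgroup.normalizer (V : Set G)) :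
    A ≤ Subgroup.normalizer ((A ⊓ Subgroup.centralizer (V : Set G) : Subgroup G) : Set G) := by
  rw [Subgroup.le_normalizer_iff]
  intro g hg n hn
  refine Subgroup.mem_inf.mpr ⟨A.mul_mem (A.mul_mem hg hn.1) (A.inv_mem hg), ?_⟩
  rw [Subgroup.mem_centralizer_iff]
  intro v hv
  have hv' : g⁻¹ * v * g ∈ V := by
    have := (Subgroup.mem_normalizer_iff.mp (Subgroup.inv_mem _ (hAV hg)) v).mp hv
    simpa using this
  have hc := (Subgroup.mem_centralizer_iff.mp hn.2) _ hv'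
  calc v * (g * n * g⁻¹) = g * ((g⁻¹ * v * g) * n) * g⁻¹ := by group
    _ = g * (n * (g⁻¹ * v * g)) * g⁻¹ := by rw [hc]
    _ = g * n * g⁻¹ * v := by group

/-- Nilpotent action: if `A ≤ N(V)` acts on the `p`-group `V` with `a ^ p ∈ C(V)` for all `a ∈ A`, and
`W ≤ V` is a nontrivial `A`-invariant subgroup, then `[W, A] < W`. -/
theorem commutator_lt_of_pow_mem_centralizer [Finite G] {p : ℕ} [Fact p.Prime] {V A W : Subgroup G}
    (hVp : IsPGroup p V) (hAV : A ≤ Subgroup.normalizer (V : Set G))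
    (hpow : ∀ a ∈ A, a ^ p ∈ Subgroup.centralizer (V : Set G)) (hWV : W ≤ V)
    (hAW : A ≤ Subgroup.normalizer (W : Set G)) (hne : W ≠ ⊥) : ⁅W, A⁆ < W := by
  obtain ⟨P, hPA, hPp, hdec⟩ := exists_pSubgroup_mul_eq (p := p) (A := A)
    (K := A ⊓ Subgroup.centralizer (V : Set G)) inf_le_left (le_normalizer_inf_centralizer hAV)
    (fun a ha => Subgroup.mem_inf.mpr ⟨A.pow_mem ha p, hpow a ha⟩)
  have hlt := Cfsg.Agent.Lead.commutator_lt_of_isPGroup (hVp.to_le hWV) hPp (hPA.trans hAW) hne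
  refine lt_of_le_of_lt ?_ hlt
  rw [Subgroup.commutator_le]
  intro w hw a ha
  obtain ⟨x, hx, k, hk, rfl⟩ := hdec a ha
  have hwk : k * w = w * k := (Subgroup.mem_centralizer_iff.mp hk.2) w (hWV hw) |>.symm
  have : ⁅w, x * k⁆ = ⁅w, x⁆ := by
    simp only [commutatorElement_def]
    have hkw' : k * w⁻¹ = w⁻¹ * k := by
      calc k * w⁻¹ = w⁻¹ * (w * k) * w⁻¹ := by group
        _ = w⁻¹ * (k * w) * w⁻¹ := by rw [hwk]
        _ = w⁻¹ * k := by group
    calc w * (x * k) * w⁻¹ * (x * k)⁻¹ = w * x * (k * w⁻¹) * k⁻¹ * x⁻¹ := by group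
      _ = w * x * (w⁻¹ * k) * k⁻¹ * x⁻¹ := by rw [hkw']
      _ = w * x * w⁻¹ * x⁻¹ := by group
  rw [this]
  exact Subgroup.commutator_mem_commutator hw hx

end Cfsg.Agent.Helper26
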