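import Mathlib
import Cfsg.Agent.Helper18.NatMod1

/-! # S3050 (Higman: `G/Q ≅ SL₂(2ⁿ)`, an element of order 3 fixed-point-free on `Q`)
Definitions and the characteristic-2 matrix identities used by the pieces.
Blueprint: `departures/helper26_S3050_blueprint.md`. -/

set_option autoImplicit false

namespace Cfsg.Agent.S3050P

open Cfsg.Agent.Helper18.NatMod

section mats

variable {F : Type*} [Field F] [CharP F 2]

local notation "SF" => Matrix.SpecialLinearGroup (Fin 2) F
local notation "MF" => Matrix (Fin 2) (Fin 2) F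

theorem neg_eq' (a : F) : -a = a := CharTwo.neg_eq a

theorem add_self' (a : F) : a + a = 0 := CharTwo.add_self_eq_zero a

/-- `w² = 1` in characteristic 2 -/
theorem ww_sq : (ww : SF) * ww = 1 := by
  apply Subtype.ext
  rw [Matrix.SpecialLinearGroup.coe_mul, ww_coe]
  ext i j
  fin_cases i <;> fin_cases j <;> simp [Matrix.mul_fin_two, CharTwo.neg_eq]

theorem ww_inv' : (ww : SF)⁻¹ = ww := by
  rw [inv_eq_iff_mul_eq_one]; exact ww_sq

/-- `u(c)² = 1` in characteristic 2 -/
theorem uu_sq (c : F) : (uu c : SF) * uu c = 1 := by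
  rw [uu_mul, CharTwo.add_self_eq_zero, uu_zero]

theorem uu_inv' (c : F) : (uu c : SF)⁻¹ = uu c := by
  rw [inv_eq_iff_mul_eq_one]; exact uu_sq c

theorem ll_sq (c : F) : (ll c : SF) * ll c = 1 := by
  rw [ll_mul, CharTwo.add_self_eq_zero, ll_zero]

theorem ll_inv' (c : F) : (ll c : SF)⁻¹ = ll c := by
  rw [inv_eq_iff_mul_eq_one]; exact ll_sq c

theorem uu_comm (c d : F) : (uu c : SF) * uu d = uu d * uu c := by
  rw [uu_mul, uu_mul, add_comm]

/-- `l(c) = w u(c) w` in characteristic 2 -/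
theorem ll_eq (c : F) : (ll c : SF) = ww * uu c * ww := by
  rw [ww_mul_uu, CharTwo.neg_eq, mul_assoc, ww_sq, mul_one]

/-- the trace of an element of `SL₂(F)` -/
def tr (g : SF) : F := (g : MF) 0 0 + (g : MF) 1 1

/-- the element `g_t = u(t) l(t⁻¹)`, of trace 1 (order 3) -/
theorem tr_uu_ll (t : F) (ht : t ≠ 0) : tr (uu t * ll t⁻¹ : SF) = 1 := by
  unfold tr
  rw [Matrix.SpecialLinearGroup.coe_mul, uu_coe, ll_coe]
  simp [Matrix.mul_fin_two, ht, CharTwo.add_self_eq_zero]

/-- `u w` has trace 1 -/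
theorem tr_uu_ww : tr (uu (1 : F) * ww : SF) = 1 := by
  unfold tr
  rw [Matrix.SpecialLinearGroup.coe_mul, uu_coe, ww_coe]
  simp [Matrix.mul_fin_two, CharTwo.neg_eq]

/-- `w l(1)` has trace 1 -/
theorem tr_ww_ll : tr (ww * ll (1 : F) : SF) = 1 := by
  unfold tr
  rw [Matrix.SpecialLinearGroup.coe_mul, ll_coe, ww_coe]
  simp [Matrix.mul_fin_two, CharTwo.neg_eq]

/-- `u w u = l(1)` (so `u, w, l(1)` are the three involutions of an `S₃`) -/
theorem uu_ww_uu : (uu (1 : F) * ww * uu 1 : SF) = ll 1 := by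
  apply Subtype.ext
  rw [Matrix.SpecialLinearGroup.coe_mul, Matrix.SpecialLinearGroup.coe_mul, uu_coe, ww_coe, ll_coe]
  ext i j
  fin_cases i <;> fin_cases j <;> simp [Matrix.mul_fin_two, CharTwo.neg_eq, CharTwo.add_self_eq_zero]

/-- `h(t) = u(t) l(t⁻¹) u(t) w` in characteristic 2 -/
theorem hh_eq (t : Fˣ) : (hh t : SF) = uu (t : F) * ll ((t : F)⁻¹) * uu (t : F) * ww := by
  apply Subtype.ext
  rw [Matrix.SpecialLinearGroup.coe_mul, Matrix.SpecialLinearGroup.coe_mul,
    Matrix.SpecialLinearGroup.coe_mul, uu_coe, ll_coe, ww_coe, hh_coe]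
  ext i j
  fin_cases i <;> fin_cases j <;>
    simp [Matrix.mul_fin_two, CharTwo.neg_eq, CharTwo.add_self_eq_zero]

end mats

section module

variable (F : Type*) [Field F]
variable (M : Type*) [AddCommGroup M] [DistribMulAction (Matrix.SpecialLinearGroup (Fin 2) F) M]

local notation "SF" => Matrix.SpecialLinearGroup (Fin 2) F

/-- every element of trace 1 (i.e. of order 3) satisfies `1 + g + g² = 0` on `M` -/
def Fpf : Prop :=
  ∀ g : SF, tr g = 1 → ∀ m : M, m + g • m + g • g • m = 0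

/-- `M` has exponent 2 -/
def Exp2 : Prop := ∀ m : M, m + m = 0

/-- `W = C_M(u)`, `u = u(1)` -/
def fixu : AddSubgroup M where
  carrier := {m | (uu (1 : F) : SF) • m = m}
  zero_mem' := smul_zero _
  add_mem' := by
    intro a b ha hb
    show (uu (1 : F) : SF) • (a + b) = a + b
    rw [smul_add, ha, hb]
  neg_mem' := by
    intro a ha
    show (uu (1 : F) : SF) • (-a) = -a
    rw [smul_neg, ha]

variable {F M}

theorem mem_fixu {m : M} : m ∈ fixu F M ↔ (uu (1 : F) : SF) • m = m := Iff.rfl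

variable (F)

/-- first coordinate `(1+u) w m` of `m = a + w b` -/
def pr1 (m : M) : M := (ww : SF) • m + (uu (1 : F) : SF) • (ww : SF) • m

/-- second coordinate `(1+u) m` of `m = a + w b` -/
def pr2 (m : M) : M := m + (uu (1 : F) : SF) • m

/-- `α_c = u(c)|_W` -/
def al (c : F) (b : M) : M := (uu c : SF) • b

/-- `β_c`: the `W`-component of `u(c) w b` -/
def be (c : F) (b : M) : M := pr1 F ((uu c : SF) • (ww : SF) • b)

/-- the scalar action `κ_c (a + w b) = β_c a + w β_c b` -/
def ka (c : F) (m : M) : M := be F c (pr1 F m) + (ww : SF) • be F c (pr2 F m)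

variable (M)

/-- "`M ≅ F² ⊗_F W` with the natural action": the conclusion of the module theorem. -/
structure NatStr : Prop where
  dec : ∀ m : M, pr1 F m ∈ fixu F M ∧ pr2 F m ∈ fixu F M ∧ m = pr1 F m + (ww : SF) • pr2 F m
  uniq : ∀ a ∈ fixu F M, ∀ b ∈ fixu F M, a + (ww : SF) • b = 0 → a = 0 ∧ b = 0
  ka_add : ∀ (c d : F) (m : M), ka F (c + d) m = ka F c m + ka F d m
  ka_mul : ∀ (c d : F) (m : M), ka F (c * d) m = ka F c (ka F d m)
  ka_one : ∀ m : M, ka F 1 m = m
  ka_map_add : ∀ (c : F) (m m' : M), ka F c (m + m') = ka F c m + ka F c m'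
  ka_smul : ∀ (c : F) (g : SF) (m : M), ka F c (g • m) = g • ka F c m
  act : ∀ (g : SF), ∀ a ∈ fixu F M,
    g • a = ka F ((g : Matrix (Fin 2) (Fin 2) F) 0 0) a
      + (ww : SF) • ka F ((g : Matrix (Fin 2) (Fin 2) F) 1 0) a

end module

section twotors

variable (F : Type*) [Field F]
variable (Λ : Type*) [AddCommGroup Λ] [DistribMulAction (Matrix.SpecialLinearGroup (Fin 2) F) Λ]

local notation "SF" => Matrix.SpecialLinearGroup (Fin 2) F

/-- `Λ[2]`, the 2-torsion of `Λ` -/
def twoTors : AddSubgroup Λ where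
  carrier := {l | l + l = 0}
  zero_mem' := by simp
  add_mem' := by
    intro a b ha hb
    show a + b + (a + b) = 0
    have : a + b + (a + b) = (a + a) + (b + b) := by abel
    rw [this, ha, hb, add_zero]
  neg_mem' := by
    intro a ha
    show -a + -a = 0
    rw [← neg_add, ha, neg_zero]

variable {Λ}

theorem mem_twoTors {l : Λ} : l ∈ twoTors Λ ↔ l + l = 0 := Iff.rfl

variable (Λ)

/-- `Λ[2]` is an `SL₂(F)`-submodule -/
instance twoTorsAction : DistribMulAction SF ↥(twoTors Λ) where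
  smul g l := ⟨g • (l : Λ), by
    show g • (l : Λ) + g • (l : Λ) = 0
    rw [← smul_add, l.2, smul_zero]⟩
  one_smul l := Subtype.ext (one_smul _ _)
  mul_smul g h l := Subtype.ext (mul_smul _ _ _)
  smul_zero g := Subtype.ext (smul_zero _)
  smul_add g a b := Subtype.ext (smul_add _ _ _)

variable {F Λ}

@[simp] theorem twoTors_coe_smul (g : SF) (l : twoTors Λ) : ((g • l : twoTors Λ) : Λ) = g • (l : Λ) := rfl

end twotors

section groups

open scoped IsMulCommutative

variable {G : Type*} [Group G] (Q : Subgroup G) [Q.Normal] {F : Type*} [Field F]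
  (e : G ⧸ Q ≃* Matrix.SpecialLinearGroup (Fin 2) F)
  (N : Subgroup G) [N.Normal]
  (hNQ : Q ≤ Subgroup.centralizer (N : Set G))

local notation "SF" => Matrix.SpecialLinearGroup (Fin 2) F

/-- the conjugation action of `G` on the normal subgroup `N` (centralised by `Q`) factors through
`G ⧸ Q ≃ SL₂(F)` -/
noncomputable def actHom : SF →* MulAut ↥N :=
  (QuotientGroup.lift Q (MulAut.conjNormal (H := N)) (by
    intro q hq
    ext n
    have h := hNQ hq
    rw [Subgroup.mem_centralizer_iff] at h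
    have h1 := h n n.2
    simp only [MulAut.conjNormal_apply, MulAut.one_apply]
    rw [← h1, mul_inv_cancel_right])).comp e.symm.toMonoidHom

theorem actHom_apply (g : G) (n : ↥N) :
    ((actHom Q e N hNQ (e (g : G ⧸ Q)) n : ↥N) : G) = g * (n : G) * g⁻¹ := by
  unfold actHom
  simp only [MonoidHom.coe_comp, MulEquiv.coe_toMonoidHom, Function.comp_apply,
    MulEquiv.symm_apply_apply]
  erw [QuotientGroup.lift_mk]
  simp [MulAut.conjNormal_apply]

variable [IsMulCommutative ↥N]

/-- D1: `Additive N` as an `SL₂(F)`-module: `e(gQ) • n = g n g⁻¹` -/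
@[reducible] noncomputable def modOf : DistribMulAction SF (Additive ↥N) where
  smul g a := Additive.ofMul (actHom Q e N hNQ g (Additive.toMul a))
  one_smul a := by
    show Additive.ofMul (actHom Q e N hNQ 1 (Additive.toMul a)) = a
    rw [map_one]; rfl
  mul_smul g h a := by
    show Additive.ofMul (actHom Q e N hNQ (g * h) (Additive.toMul a))
      = Additive.ofMul (actHom Q e N hNQ g
          (Additive.toMul (Additive.ofMul (actHom Q e N hNQ h (Additive.toMul a)))))
    rw [map_mul]; rfl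
  smul_zero g := by
    show Additive.ofMul (actHom Q e N hNQ g 1) = 0
    rw [map_one]; rfl
  smul_add g a b := by
    show Additive.ofMul (actHom Q e N hNQ g (Additive.toMul a * Additive.toMul b))
      = Additive.ofMul (actHom Q e N hNQ g (Additive.toMul a))
        + Additive.ofMul (actHom Q e N hNQ g (Additive.toMul b))
    rw [map_mul]; rfl

theorem modOf_smul_coe (g : G) (a : Additive ↥N) :
    ((Additive.toMul (letI := modOf Q e N hNQ; (e (g : G ⧸ Q)) • a) : ↥N) : G)
      = g * ((Additive.toMul a : ↥N) : G) * g⁻¹ :=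
  actHom_apply Q e N hNQ g (Additive.toMul a)

end groups

section omz

variable {G : Type*} [Group G] (Q : Subgroup G)

/-- `Ω₁(Z(Q))` for a 2-group `Q`: the central elements of `Q` of order at most 2 -/
def omz : Subgroup G where
  carrier := {z | z ∈ Q ∧ (∀ q ∈ Q, z * q = q * z) ∧ z * z = 1}
  one_mem' := ⟨Q.one_mem, fun q _ => by simp, by simp⟩
  mul_mem' := by
    rintro a b ⟨ha, hac, ha2⟩ ⟨hb, hbc, hb2⟩
    refine ⟨Q.mul_mem ha hb, fun q hq => ?_, ?_⟩
    · rw [mul_assoc, hbc q hq, ← mul_assoc, hac q hq, mul_assoc]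
    · have : a * b * (a * b) = a * (b * a) * b := by simp [mul_assoc]
      rw [this, ← hac b hb, ← mul_assoc, ha2, one_mul, hb2]
  inv_mem' := by
    rintro a ⟨ha, hac, ha2⟩
    have hinv : a⁻¹ = a := inv_eq_of_mul_eq_one_left ha2
    rw [hinv]
    exact ⟨ha, hac, ha2⟩

variable {Q}

theorem mem_omz {z : G} : z ∈ omz Q ↔ z ∈ Q ∧ (∀ q ∈ Q, z * q = q * z) ∧ z * z = 1 := Iff.rfl

end omz

section vof

open scoped IsMulCommutative

variable {G : Type*} [Group G] (Q : Subgroup G) [IsMulCommutative ↥Q] {F : Type*} [Field F]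

/-- the subgroup of `G` (inside `Q`) corresponding to the range of an additive map into `Additive Q` -/
def vOf (ι : (Fin 2 → F) →+ Additive ↥Q) : Subgroup G where
  carrier := {n | ∃ v, ((Additive.toMul (ι v) : ↥Q) : G) = n}
  one_mem' := ⟨0, by rw [map_zero]; rfl⟩
  mul_mem' := by
    rintro a b ⟨v, rfl⟩ ⟨v', rfl⟩
    exact ⟨v + v', by rw [map_add]; rfl⟩
  inv_mem' := by
    rintro a ⟨v, rfl⟩
    exact ⟨-v, by rw [map_neg]; rfl⟩

variable {Q}

theorem mem_vOf {ι : (Fin 2 → F) →+ Additive ↥Q} {n : G} :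
    n ∈ vOf Q ι ↔ ∃ v, ((Additive.toMul (ι v) : ↥Q) : G) = n := Iff.rfl

end vof

end Cfsg.Agent.S3050P
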