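import Mathlib
import Cfsg.Agent.Helper1.S3401Defs
import Cfsg.Agent.Helper7.S3401WITT
import Cfsg.Agent.Helper11.S3401PICK
import Cfsg.Agent.Helper1.S3401FIX2

set_option autoImplicit false

/-! S3401 piece MAIN: `M_a` is transitive on the other points. -/

namespace Cfsg.Agent.S3401P

variable {G : Type*} [Group G] [Finite G] {Ω : Type*} [Fintype Ω] [MulAction G Ω]

/-- every point `w ≠ a` is the image of `t • a` under an element of `M_a` -/
theorem MAIN_aux {M : Subgroup G} (h : Hyp Ω M) {a : Ω} {Q S : Subgroup G} {t : G}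
    (c : Config M a Q S t) (w : Ω) (hw : w ≠ a) :
    ∃ x ∈ M, x • a = a ∧ x • (t • a) = w := by
  have := h.hnormal
  have hfix2 : Fix Ω Q = {a, t • a} := FIX2 h c
  -- an element of `G` fixing `a` and moving `t • a` to `w`
  obtain ⟨g, hga, hgw⟩ : ∃ g : G, g • a = a ∧ g • (t • a) = w := by
    have h2 := h.h2
    rw [MulAction.is_two_pretransitive_iff] at h2
    exact h2 (Ne.symm c.hta) (Ne.symm hw)
  have hga' : g⁻¹ • a = a := by rw [inv_smul_eq_iff, hga]
  have htaF : t • a ∈ Fix Ω Q := by rw [hfix2]; simp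
  -- the conjugate of `Q` by `g` is again a Sylow 2-subgroup of `M_a`, and fixes `w`
  have hQ' : IsSyl2 (M ⊓ MulAction.stabilizer G a) (Q.map (MulAut.conj g).toMonoidHom) := by
    refine ⟨?_, ?_⟩
    · rintro _ ⟨s, hs, rfl⟩
      have hsM : s ∈ M ⊓ MulAction.stabilizer G a := c.hQ.1 hs
      refine ⟨?_, ?_⟩
      · show g * s * g⁻¹ ∈ M
        exact h.hnormal.conj_mem s hsM.1 g
      · show g * s * g⁻¹ ∈ MulAction.stabilizer G a
        rw [MulAction.mem_stabilizer_iff, mul_smul, mul_smul, hga']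
        have : s • a = a := hsM.2
        rw [this, hga]
    · rw [Subgroup.card_map_of_injective (MulAut.conj g).injective]
      exact c.hQ.2
  have hQ'w : ∀ g' ∈ Q.map (MulAut.conj g).toMonoidHom, g' • w = w := by
    rintro _ ⟨s, hs, rfl⟩
    show (g * s * g⁻¹) • w = w
    rw [← hgw, mul_smul, mul_smul, inv_smul_smul, htaF s hs]
  obtain ⟨x, hx, hxiff⟩ := WITT.aux_conj c.hQ hQ'
  have hxa : x • a = a := hx.2
  have hxw : x⁻¹ • w ∈ Fix Ω Q := by
    intro s hs
    have h1 : x * s * x⁻¹ ∈ Q.map (MulAut.conj g).toMonoidHom := by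
      rw [hxiff]
      have : x⁻¹ * (x * s * x⁻¹) * x = s := by group
      rw [this]; exact hs
    have h2 := hQ'w _ h1
    calc s • x⁻¹ • w = x⁻¹ • (x * s * x⁻¹) • w := by
          rw [← mul_smul, ← mul_smul]; congr 1; group
      _ = x⁻¹ • w := by rw [h2]
  rw [hfix2] at hxw
  rcases hxw with h1 | h1
  · exfalso
    apply hw
    rw [inv_smul_eq_iff] at h1
    rw [h1, hxa]
  · rw [Set.mem_singleton_iff, inv_smul_eq_iff] at h1
    exact ⟨x, hx.1, hxa, h1.symm⟩

/-- MAIN: `M_a` is transitive on the other points. -/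
theorem MAIN {M : Subgroup G} (h : Hyp Ω M) (a w w' : Ω) (hw : w ≠ a) (hw' : w' ≠ a) :
    ∃ m ∈ M, m • a = a ∧ m • w = w' := by
  obtain ⟨Q, S, t, c⟩ := PICK h a
  obtain ⟨x, hxM, hxa, hxw⟩ := MAIN_aux h c w hw
  obtain ⟨x', hxM', hxa', hxw'⟩ := MAIN_aux h c w' hw'
  refine ⟨x' * x⁻¹, M.mul_mem hxM' (M.inv_mem hxM), ?_, ?_⟩
  · rw [mul_smul, inv_smul_eq_iff.mpr hxa.symm, hxa']
  · rw [mul_smul, ← hxw, inv_smul_smul, hxw']

end Cfsg.Agent.S3401P
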