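import Mathlib

/-!
# S3818 / S3822 (Flavell, Theorems A and B): shared definitions

Blueprint: `departures/helper26_S3818_blueprint.md`.
-/

set_option autoImplicit false

namespace Cfsg.Agent.S3818P

open Module

universe u v w

/-- The conclusion of Theorem A for the element `x`: the fixed space of `ρ x` has dimension
less than half of `dim V`. -/
def Bound {G : Type u} [Group G] {k : Type v} [Field k] {V : Type w} [AddCommGroup V] [Module k V]
    (ρ : Representation k G V) (x : G) : Prop :=
  2 * finrank k (LinearMap.ker (ρ x - 1)) < finrank k V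

/-- The commutant in `End_F(V)` of `ρ(Q)`. -/
def commutant {G : Type u} [Group G] {F : Type v} [Field F] {V : Type w} [AddCommGroup V] [Module F V]
    (ρ : Representation F G V) (Q : Subgroup G) : Submodule F (Module.End F V) where
  carrier := {T | ∀ u ∈ Q, T * ρ u = ρ u * T}
  add_mem' := by
    intro a b ha hb u hu
    rw [add_mul, mul_add, ha u hu, hb u hu]
  zero_mem' := by
    intro u _
    simp
  smul_mem' := by
    intro c a ha u hu
    rw [smul_mul_assoc, mul_smul_comm, ha u hu]

/-- Conjugation `T ↦ ρ(x) T ρ(x)⁻¹` on `End_F(V)`. -/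
def conjEnd {G : Type u} [Group G] {F : Type v} [Field F] {V : Type w} [AddCommGroup V] [Module F V]
    (ρ : Representation F G V) (x : G) : Module.End F V →ₗ[F] Module.End F V :=
  (LinearMap.mulLeft F (ρ x)).comp (LinearMap.mulRight F (ρ x⁻¹))

theorem conjEnd_apply {G : Type u} [Group G] {F : Type v} [Field F] {V : Type w} [AddCommGroup V]
    [Module F V] (ρ : Representation F G V) (x : G) (T : Module.End F V) :
    conjEnd ρ x T = ρ x * (T * ρ x⁻¹) := rfl

end Cfsg.Agent.S3818P

namespace Cfsg.Agent.S3818P

open Module

universe u

/-- The induction hypothesis of Theorem A in the only form in which it is used: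
smaller solvable groups `H` (same universe as `G`), field `ZMod r`, module in the universe of `G`. -/
def IHyp (G : Type u) [Group G] (p : ℕ) : Prop :=
  ∀ (H : Type u) [Group H] [Finite H] [Group.IsSolvable H], Nat.card H < Nat.card G →
    ∀ (y : H), y ^ p = 1 → Subgroup.normalClosure ({y} : Set H) = ⊤ →
    ∀ (r : ℕ) [Fact r.Prime] (W : Type u) [AddCommGroup W] [Module (ZMod r) W]
      [FiniteDimensional (ZMod r) W] (τ : Representation (ZMod r) H W),
      τ.IsIrreducible → τ y ≠ 1 → Bound τ y

end Cfsg.Agent.S3818P
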