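import Mathlib

/-!
# S3911 (groups whose abelian subgroups of equal order are conjugate: quotients): definitions (helper26)

* `BProp G`: abelian subgroups of `G` of equal order are conjugate.
* `MinLift M Ab A₀`: `A₀ ≤ G` maps onto `Ab ≤ G ⧸ M` and no proper subgroup of `A₀` does
  (a minimal supplement of `M` in the preimage of `Ab`).
* `Hgood M`: for every prime `p` dividing `|M|`, every Sylow `p`-subgroup of `G` is cyclic, or of exponent `p`,
  or contained in `M`.
-/

set_option autoImplicit false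

namespace Cfsg.Agent.S3911P

/-- abelian subgroups of equal order are conjugate. -/
def BProp (G : Type*) [Group G] : Prop :=
  ∀ A B : Subgroup G, IsMulCommutative ↥A → IsMulCommutative ↥B → Nat.card ↥A = Nat.card ↥B →
    ∃ g : G, B = A.map (MulAut.conj g).toMonoidHom

/-- `A₀` is a minimal subgroup of `G` mapping onto `Ab ≤ G ⧸ M`. -/
def MinLift {G : Type*} [Group G] (M : Subgroup G) [M.Normal] (Ab : Subgroup (G ⧸ M))
    (A₀ : Subgroup G) : Prop :=
  A₀.map (QuotientGroup.mk' M) = Ab ∧
    ∀ K : Subgroup G, K ≤ A₀ → K.map (QuotientGroup.mk' M) = Ab → K = A₀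

/-- the Sylow `p`-subgroups of `G`, `p ∣ |M|`, are cyclic, of exponent `p`, or inside `M`. -/
def Hgood {G : Type*} [Group G] (M : Subgroup G) : Prop :=
  ∀ p : ℕ, p.Prime → p ∣ Nat.card ↥M → ∀ P : Sylow p G,
    IsCyclic ↥(P : Subgroup G) ∨ (∀ x ∈ (P : Subgroup G), x ^ p = 1) ∨ (P : Subgroup G) ≤ M

end Cfsg.Agent.S3911P
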