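import Mathlib
import Cfsg.Agent.Helper26.S3911Defs
import Cfsg.Agent.Helper29.Schmidt2
import Cfsg.Agent.Helper21.S3911ML1
import Cfsg.Agent.Helper6.S3911ML2
import Cfsg.Agent.Helper19.S3911ML3
import Cfsg.Agent.Helper20.S3911ML6
import Cfsg.Agent.Helper10.S3911ML8b
import Cfsg.Agent.Helper17.S3911ML8c

/-! Assemblies ML4, ML7, ML8, GEN of the board `s3911pieces` (helper26): the B-property passes to `G ⧸ M`
for a good normal subgroup `M`. -/

set_option autoImplicit false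

namespace Cfsg.Agent.S3911P

open Cfsg.Agent.S3911P

/-- ML4: a minimal lift of an abelian subgroup is nilpotent. -/
theorem ML4 {G : Type*} [Group G] [Finite G] (M : Subgroup G) [M.Normal] (Ab : Subgroup (G ⧸ M))
    (A₀ : Subgroup G) (h : MinLift M Ab A₀) (hAb : IsMulCommutative ↥Ab) :
    Group.IsNilpotent ↥A₀ :=
  Cfsg.Agent.Helper29.isNilpotent_of_commutator_le_frattini
    ((ML3 M Ab A₀ h.1 hAb).trans (ML2 M Ab A₀ h))

/-- ML7: a minimal lift of an abelian subgroup is abelian. -/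
theorem ML7 {G : Type*} [Group G] [Finite G] (hB : BProp G) (M : Subgroup G) [M.Normal]
    (hgood : Hgood M) (Ab : Subgroup (G ⧸ M)) (A₀ : Subgroup G) (h : MinLift M Ab A₀)
    (hAb : IsMulCommutative ↥Ab) : IsMulCommutative ↥A₀ := by
  have hnil := ML4 M Ab A₀ h hAb
  have := Cfsg.Agent.Helper29.comm_of_nilpotent_of_sylow_comm hnil
    (fun p hp S => by
      haveI := hp
      exact ML6 hB M hgood Ab A₀ h hAb hnil p S)
  exact ⟨⟨this⟩⟩

/-- ML8: two minimal lifts of abelian subgroups of equal order have equal order. -/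
theorem ML8 {G : Type*} [Group G] [Finite G] (hB : BProp G) (M : Subgroup G) [M.Normal]
    (hgood : Hgood M) (Ab Bb : Subgroup (G ⧸ M)) (A₀ B₀ : Subgroup G)
    (hA : MinLift M Ab A₀) (hB₀ : MinLift M Bb B₀)
    (hAb : IsMulCommutative ↥Ab) (hBb : IsMulCommutative ↥Bb)
    (hcard : Nat.card ↥Ab = Nat.card ↥Bb) : Nat.card ↥A₀ = Nat.card ↥B₀ := by
  have hnilA := ML4 M Ab A₀ hA hAb
  have hnilB := ML4 M Bb B₀ hB₀ hBb
  have h1 : Nat.card ↥(B₀ ⊓ M) ∣ Nat.card ↥(A₀ ⊓ M) := by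
    rw [Nat.dvd_iff_prime_pow_dvd_dvd]
    intro p j hp hj
    haveI := Fact.mk hp
    exact ML8c hB M hgood Ab Bb A₀ B₀ hA hB₀ hnilA hnilB hcard p j hj
  have h2 : Nat.card ↥(A₀ ⊓ M) ∣ Nat.card ↥(B₀ ⊓ M) := by
    rw [Nat.dvd_iff_prime_pow_dvd_dvd]
    intro p j hp hj
    haveI := Fact.mk hp
    exact ML8c hB M hgood Bb Ab B₀ A₀ hB₀ hA hnilB hnilA hcard.symm p j hj
  rw [ML8b M Ab A₀ hA.1, ML8b M Bb B₀ hB₀.1, hcard, Nat.dvd_antisymm h2 h1]

/-- GEN: the B-property passes to `G ⧸ M` when `M` is good. -/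
theorem GEN {G : Type*} [Group G] [Finite G] (hB : BProp G) (M : Subgroup G) [M.Normal]
    (hgood : Hgood M) : BProp (G ⧸ M) := by
  intro Ab Bb hAb hBb hcard
  obtain ⟨A₀, hA⟩ := ML1 M Ab
  obtain ⟨B₀, hB₀⟩ := ML1 M Bb
  have hcA := ML7 hB M hgood Ab A₀ hA hAb
  have hcB := ML7 hB M hgood Bb B₀ hB₀ hBb
  have hc := ML8 hB M hgood Ab Bb A₀ B₀ hA hB₀ hAb hBb hcard
  obtain ⟨g, hg⟩ := hB A₀ B₀ hcA hcB hc
  refine ⟨QuotientGroup.mk' M g, ?_⟩
  rw [← hB₀.1, ← hA.1, hg, Subgroup.map_map, Subgroup.map_map]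
  congr 1

end Cfsg.Agent.S3911P
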