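import Mathlib
import Cfsg.Agent.Helper26.S3911Defs
import Cfsg.Agent.S3909
import Cfsg.Agent.S3911

/-! Pieces ABS and ODDQ of the board `s3912pieces` (helper26): absorption (= S3909 part 1) and quotients by normal
subgroups of odd order (= S3911). -/

set_option autoImplicit false

namespace Cfsg.Agent.S3912P

open Cfsg.Agent.S3911P

/-- ABS (S): absorption (= S3909 part 1). -/
theorem ABS {G : Type*} [Group G] [Finite G] (hB : BProp G) (M : Subgroup G) [M.Normal] (a : G)
    (h : ∃ m ∈ M, orderOf m = orderOf a) : a ∈ M :=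
  (Cfsg.Agent.S3909.result hB M).1 a h

/-- ODDQ (= S3911): quotients by normal subgroups of odd order. -/
theorem ODDQ {G : Type*} [Group G] [Finite G] (hB : BProp G) (M : Subgroup G) [M.Normal]
    (hM : Odd (Nat.card ↥M)) : BProp (G ⧸ M) :=
  Cfsg.Agent.S3911.result hB M hM

end Cfsg.Agent.S3912P
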