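import Mathlib
import Cfsg.Agent.Helper26.S3911Defs
import Cfsg.Agent.Helper26.S3911GEN
import Cfsg.Agent.Helper21.S3911ML1
import Cfsg.Agent.Helper10.S3911ML8b
import Cfsg.Agent.Helper26.S3912ABS
import Cfsg.Agent.Helper19.S3912TR
import Cfsg.Agent.Helper6.S3912MN
import Cfsg.Agent.Helper15.S3912QA
import Cfsg.Agent.Helper10.S3912QD
import Cfsg.Agent.Helper21.S3912QE
import Cfsg.Agent.Helper17.S3912C2b
import Cfsg.Agent.Helper21.S3912C2c
import Cfsg.Agent.Helper19.S3912C2d
import Cfsg.Agent.Helper8.S3912C2e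
import Cfsg.Agent.Helper24.S3912C2f
import Cfsg.Agent.S3908

/-! Assemblies Q1, C2, CORE, QSTEP, MAIN of the board `s3912pieces` (helper26): every quotient of a solvable
group whose abelian subgroups of equal order are conjugate has the same property. -/

set_option autoImplicit false

namespace Cfsg.Agent.S3912P

open Cfsg.Agent.S3911P

universe u

/-- Q1: a solvable B-group has no quaternion Sylow `2`-subgroup of order `≥ 16`. -/
theorem Q1 : ∀ (n : ℕ) (G : Type u) [Group G] [Finite G], Nat.card G = n → BProp G →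
    Group.IsSolvable G → ∀ (P : Sylow 2 G) (m : ℕ), 4 ∣ m → m ≠ 0 →
    (↥(P : Subgroup G) ≃* QuaternionGroup m) → False := by
  intro n
  induction n using Nat.strong_induction_on with
  | _ n ih =>
  intro G _ _ hcard hB hsol P m hm hm0 e
  by_cases hodd : ∃ K : Subgroup G, K.Normal ∧ K ≠ ⊥ ∧ Odd (Nat.card ↥K)
  · obtain ⟨K, hKn, hKne, hKodd⟩ := hodd
    haveI := hKn
    have hBq : BProp (G ⧸ K) := ODDQ hB K hKodd
    obtain ⟨P', ⟨e'⟩⟩ := QA K hKodd P
    have hlt : Nat.card (G ⧸ K) < n := by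
      rw [← hcard, ← Subgroup.index_eq_card, ← K.card_mul_index]
      have h1 : 1 < Nat.card ↥K := by
        rcases Nat.lt_or_ge 1 (Nat.card ↥K) with h | h
        · exact h
        · exfalso
          have : Nat.card ↥K = 1 := le_antisymm h Nat.card_pos
          exact hKne (Subgroup.card_eq_one.mp this)
      have h2 : 0 < K.index := Nat.pos_of_ne_zero Subgroup.index_ne_zero_of_finite
      nlinarith
    exact ih _ hlt (G ⧸ K) rfl hBq inferInstance P' m hm hm0 (e'.symm.trans e)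
  · have hodd' : ∀ K : Subgroup G, K.Normal → Odd (Nat.card ↥K) → K = ⊥ := by
      intro K hKn hKodd
      by_contra hne
      exact hodd ⟨K, hKn, hne, hKodd⟩
    have hm2 : 2 ≤ m := by
      obtain ⟨c, rfl⟩ := hm
      have : c ≠ 0 := fun h => hm0 (by rw [h])
      omega
    have hPn := QE hB hsol P m hm2 e hodd'
    exact QD hB P m hm hm0 e hPn

/-- C2: the quotient by the central involution, Sylow `2`-subgroup `Q₈`. -/
theorem C2 {G : Type*} [Group G] [Finite G] (hB : BProp G) (P : Sylow 2 G)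
    (hP : Nat.card ↥(P : Subgroup G) = 8) (N : Subgroup G) [N.Normal] (hN : Nat.card ↥N = 2)
    (hinv : ∀ t : G, orderOf t = 2 → t ∈ N) : BProp (G ⧸ N) := by
  intro Ab Bb hAb hBb hcard
  obtain ⟨A₀, hA⟩ := ML1 N Ab
  obtain ⟨B₀, hB₀⟩ := ML1 N Bb
  have hnA := ML4 N Ab A₀ hA hAb
  have hnB := ML4 N Bb B₀ hB₀ hBb
  have hc : Nat.card ↥A₀ = Nat.card ↥B₀ := by
    rw [C2d N hN hinv Ab A₀ hA hnA, C2d N hN hinv Bb B₀ hB₀ hnB, hcard]
  have key : ∃ g : G, B₀ = A₀.map (MulAut.conj g).toMonoidHom := by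
    by_cases h8 : 8 ∣ Nat.card ↥A₀
    · obtain ⟨S₁, O₁, h1, ho1, hc1, hcomm1, hA₀, hcA⟩ := C2e N hN P hP Ab A₀ hA.1 hAb hnA h8
      obtain ⟨S₂, O₂, h2, _, hc2, hcomm2, hB₀', hcB⟩ :=
        C2e N hN P hP Bb B₀ hB₀.1 hBb hnB (hc ▸ h8)
      have hO : Nat.card ↥O₁ = Nat.card ↥O₂ := by
        have : 8 * Nat.card ↥O₁ = 8 * Nat.card ↥O₂ := by rw [← hcA, ← hcB, hc]
        omega
      obtain ⟨g, hg⟩ := C2f hB P hP S₁ O₁ S₂ O₂ h1 h2 ho1 hc1 hc2 hO hcomm1 hcomm2
      exact ⟨g, by rw [hB₀', hA₀, hg]⟩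
    · have hcA := C2c N hN Ab A₀ hA hAb hnA h8
      have hcB := C2c N hN Bb B₀ hB₀ hBb hnB (hc ▸ h8)
      exact hB A₀ B₀ hcA hcB hc
  obtain ⟨g, hg⟩ := key
  refine ⟨QuotientGroup.mk' N g, ?_⟩
  rw [← hB₀.1, ← hA.1, hg, Subgroup.map_map, Subgroup.map_map]
  congr 1

/-- CORE: the quaternion case. -/
theorem CORE {G : Type u} [Group G] [Finite G] (hB : BProp G) (hsol : Group.IsSolvable G)
    (P : Sylow 2 G) (k : ℕ) (hk : 1 ≤ k) (e : ↥(P : Subgroup G) ≃* QuaternionGroup (2 ^ k))
    (N : Subgroup G) [N.Normal] (hN : ∀ v ∈ N, v ^ 2 = 1) : BProp (G ⧸ N) := by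
  have hk1 : k = 1 := by
    by_contra hne
    have hk2 : 2 ≤ k := by omega
    have h4 : 4 ∣ 2 ^ k := by
      have : (2 : ℕ) ^ 2 ∣ 2 ^ k := pow_dvd_pow 2 hk2
      simpa using this
    exact Q1 _ G rfl hB hsol P (2 ^ k) h4 (by positivity) e
  subst hk1
  by_cases hNbot : N = ⊥
  · apply GEN hB N
    intro p hp hpN
    exfalso
    rw [hNbot, Subgroup.card_bot] at hpN
    exact hp.one_lt.ne' (Nat.dvd_one.mp hpN)
  · obtain ⟨hN2, hinv⟩ := C2b P (2 ^ 1) (by norm_num) e N hN hNbot
    have hP8 : Nat.card ↥(P : Subgroup G) = 8 := by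
      rw [Nat.card_congr e.toEquiv, Nat.card_eq_fintype_card, QuaternionGroup.card]; norm_num
    exact C2 hB P hP8 N hN2 hinv

/-- QSTEP: the quotient by a normal elementary abelian subgroup. -/
theorem QSTEP {G : Type u} [Group G] [Finite G] (hB : BProp G) (hsol : Group.IsSolvable G)
    (N : Subgroup G) [N.Normal] (r : ℕ) (hr : r.Prime) (hN : ∀ v ∈ N, v ^ r = 1) :
    BProp (G ⧸ N) := by
  haveI := Fact.mk hr
  have hNp : IsPGroup r ↥N := by
    intro v
    refine ⟨1, ?_⟩
    apply Subtype.ext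
    simpa using hN v v.2
  obtain ⟨j, hj⟩ := hNp.exists_card_eq
  by_cases hr2 : r = 2
  · subst hr2
    by_cases hall : ∀ P : Sylow 2 G, IsCyclic ↥(P : Subgroup G) ∨ ∀ x ∈ (P : Subgroup G), x ^ 2 = 1
    · apply GEN hB N
      intro p hp hpN P
      have hp2 : p = 2 := by
        rw [hj] at hpN
        exact (Nat.prime_dvd_prime_iff_eq hp Nat.prime_two).1 (hp.dvd_of_dvd_pow hpN)
      subst hp2
      rcases hall P with h | h
      · exact Or.inl h
      · exact Or.inr (Or.inl h)
    · push Not at hall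
      obtain ⟨P, hPc, hPe⟩ := hall
      rcases (Cfsg.Agent.S3908.result hB).1 P with h | h | ⟨k, ⟨e⟩⟩
      · exact absurd h hPc
      · exact absurd h.2 (by push Not; exact hPe)
      · have hk : 1 ≤ k := by
          by_contra hk0
          have : k = 0 := by omega
          subst this
          apply hPc
          haveI : IsCyclic (QuaternionGroup (2 ^ 0)) := by
            simpa using QuaternionGroup.quaternionGroup_one_isCyclic
          exact isCyclic_of_surjective e.symm.toMonoidHom e.symm.surjective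
        exact CORE hB hsol P k hk e N hN
  · apply ODDQ hB N
    rw [hj]
    exact Odd.pow (hr.odd_of_ne_two hr2)

/-- MAIN: induction on `|M|`. -/
theorem MAIN : ∀ (n : ℕ) (G : Type u) [Group G] [Finite G], BProp G → Group.IsSolvable G →
    ∀ (M : Subgroup G) [M.Normal], Nat.card ↥M = n → BProp (G ⧸ M) := by
  intro n
  induction n using Nat.strong_induction_on with
  | _ n ih =>
  intro G _ _ hB hsol M _ hcard
  by_cases hM : M = ⊥
  · subst hM
    exact TR (QuotientGroup.quotientBot (G := G)).symm hB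
  · obtain ⟨N, hNn, hNM, hNne, _, r, hr, _, hNr, _⟩ := MN hsol M hM
    haveI := hNn
    have hBq : BProp (G ⧸ N) := QSTEP hB hsol N r hr hNr
    have hcardM := ML8b N (M.map (QuotientGroup.mk' N)) M rfl
    have hinf : M ⊓ N = N := inf_eq_right.mpr hNM
    rw [hinf] at hcardM
    have h1 : 1 < Nat.card ↥N := by
      rcases Nat.lt_or_ge 1 (Nat.card ↥N) with h | h
      · exact h
      · exfalso
        have : Nat.card ↥N = 1 := le_antisymm h Nat.card_pos
        exact hNne (Subgroup.card_eq_one.mp this)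
    have hlt : Nat.card ↥(M.map (QuotientGroup.mk' N)) < n := by
      rw [← hcard, hcardM]
      have : 0 < Nat.card ↥(M.map (QuotientGroup.mk' N)) := Nat.card_pos
      nlinarith
    haveI : (M.map (QuotientGroup.mk' N)).Normal :=
      Subgroup.Normal.map inferInstance _ (QuotientGroup.mk'_surjective N)
    have h2 := ih _ hlt (G ⧸ N) hBq inferInstance (M.map (QuotientGroup.mk' N)) rfl
    exact TR (QuotientGroup.quotientQuotientEquivQuotient N M hNM) h2

end Cfsg.Agent.S3912P
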