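import Mathlib
import Cfsg.Prelude.Def_Characters
import Cfsg.Prelude.Def_Blocks
import Cfsg.Agent.Helper24.Abelian
import Cfsg.Agent.Helper24.Linear
import Cfsg.Agent.Helper24.GlaubCyc
import Cfsg.Agent.Helper1.W2pDefs
import Cfsg.Agent.Lead.S4705Defs

set_option autoImplicit false

/-!
# S4705 piece CCH: central character multiplicativity
-/

namespace Cfsg.Agent.S4705P

open Cfsg Cfsg.Agent.Helper24 Cfsg.Agent.Helper1.W2p
open scoped ComplexConjugate

universe u

variable {G : Type u} [Group G] [Finite G]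

/-! ### CCH -/
theorem central_mul (χ : IrrCharacter G) (z : G) (hz : z ∈ Subgroup.center G) (g : G) :
    (χ : G → ℂ) (z * g) * (χ : G → ℂ) 1 = (χ : G → ℂ) z * (χ : G → ℂ) g := by
  have hzc : ∀ d : G, d * z = z * d := fun d => Subgroup.mem_center_iff.mp hz d
  obtain ⟨ω, -, hω⟩ := exists_central_scalar χ z hzc
  have h1 := hω g 1
  have h2 := hω 1 1
  rw [pow_one, pow_one] at h1 h2
  rw [one_mul] at h2
  rw [← hzc g, h1, h2]
  ring

end Cfsg.Agent.S4705P
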