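import Mathlib
import Cfsg.Prelude.Def_Blocks
import Cfsg.Prelude.Def_BlockRank
import Cfsg.Agent.Helper5.S4607Defs
import Cfsg.Agent.Helper8.S4607MINOR
import Cfsg.Agent.Helper7.S4607RESDET

/-!
# S4607, piece RANKLE: reduction modulo `M` does not increase the rank
-/

set_option autoImplicit false

namespace Cfsg.Agent.S4607P

open Cfsg Cfsg.Agent.Helper5.Res Cfsg.Agent.Helper5.CC Cfsg.Agent.Helper24

namespace RANKLE

/-- the rank of a submatrix is at most the rank of the matrix -/
theorem rank_submatrix_le' {K : Type*} [Field K] {ι : Type*} [Fintype ι] [DecidableEq ι]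
    {s : ℕ} (A : Matrix ι ι K) (f g : Fin s → ι) : (A.submatrix f g).rank ≤ A.rank := by
  have h : A.submatrix f g =
      (1 : Matrix ι ι K).submatrix f id * A * (1 : Matrix ι ι K).submatrix id g := by
    ext a b
    simp [Matrix.mul_apply, Matrix.one_apply]
  rw [h]
  exact le_trans (Matrix.rank_mul_le_left _ _) (Matrix.rank_mul_le_right _ _)

end RANKLE

section Reduction

variable {M : Ideal AlgInt} [hMax : M.IsMaximal]

/-- RANKLE: reduction modulo `M` does not increase the rank -/
theorem rank_map_res_le {ι : Type*} [Fintype ι] [DecidableEq ι] (A : Matrix ι ι ℂ)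
    (hA : ∀ i j, MemLocalRing M (A i j)) : (A.map (res M)).rank ≤ A.rank := by
  obtain ⟨f, g, hfg⟩ := exists_submatrix_det_ne_zero (A.map (res M))
  have h1 : (A.map (res M)).submatrix f g = (A.submatrix f g).map (res M) := rfl
  rw [h1] at hfg
  obtain ⟨_, h3⟩ := res_det (M := M) (A.submatrix f g) (fun i j => hA (f i) (g j))
  rw [← h3] at hfg
  have hdet : (A.submatrix f g).det ≠ 0 := by
    intro h0
    rw [h0, res_zero] at hfg
    exact hfg rfl
  have hunit : IsUnit (A.submatrix f g) := by
    rw [Matrix.isUnit_iff_isUnit_det]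
    exact isUnit_iff_ne_zero.mpr hdet
  have hrk := Matrix.rank_of_isUnit _ hunit
  rw [Fintype.card_fin] at hrk
  calc (A.map (res M)).rank = (A.submatrix f g).rank := hrk.symm
    _ ≤ A.rank := RANKLE.rank_submatrix_le' A f g

end Reduction

end Cfsg.Agent.S4607P
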