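import Mathlib
import Cfsg.Prelude.Def_Blocks
import Cfsg.Prelude.Def_BlockRank
import Cfsg.Agent.Helper5.S4607Defs
import Cfsg.Agent.Helper8.S4607IDEMSUM
import Cfsg.Agent.Helper26.S4607RANKLE

/-!
# S4607, piece IDEMRANK: reduction modulo `M` preserves the rank of an idempotent matrix
-/

set_option autoImplicit false

namespace Cfsg.Agent.S4607P

open Cfsg Cfsg.Agent.Helper5.Res Cfsg.Agent.Helper5.CC Cfsg.Agent.Helper24

section Reduction

variable {M : Ideal AlgInt} [hMax : M.IsMaximal]

/-- IDEMRANK: reduction modulo `M` preserves the rank of an idempotent matrix -/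
theorem rank_map_res_eq {ι : Type*} [Fintype ι] [DecidableEq ι] (E : Matrix ι ι ℂ)
    (hE : E * E = E) (hlr : ∀ i j, MemLocalRing M (E i j)) : (E.map (res M)).rank = E.rank := by
  have hMp := hMax.isPrime
  have hE' : E.map (res M) * E.map (res M) = E.map (res M) := by
    ext i j
    have h := congrFun (congrFun hE i) j
    rw [Matrix.mul_apply] at h
    rw [Matrix.mul_apply]
    simp only [Matrix.map_apply]
    conv_rhs => rw [← h]
    rw [res_sum _ _ (fun l _ => Cfsg.Agent.Helper5.Loc.lr_mul hMp (hlr i l) (hlr l j))]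
    exact Finset.sum_congr rfl (fun l _ => (res_mul (hlr i l) (hlr l j)).symm)
  have h1E : ∀ i j, MemLocalRing M ((1 - E) i j) := by
    intro i j
    rw [Matrix.sub_apply, Matrix.one_apply]
    split_ifs
    · exact Cfsg.Agent.Helper5.Loc.lr_sub hMp (Cfsg.Agent.Helper5.Loc.memLocalRing_one hMp)
        (hlr i j)
    · exact Cfsg.Agent.Helper5.Loc.lr_sub hMp (Cfsg.Agent.Helper5.Loc.memLocalRing_zero hMp)
        (hlr i j)
  have hmap : (1 - E).map (res M) = 1 - E.map (res M) := by
    ext i j
    simp only [Matrix.map_apply, Matrix.sub_apply, Matrix.one_apply]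
    split_ifs
    · rw [res_sub (Cfsg.Agent.Helper5.Loc.memLocalRing_one hMp) (hlr i j), res_one]
    · rw [res_sub (Cfsg.Agent.Helper5.Loc.memLocalRing_zero hMp) (hlr i j), res_zero]
  have ha := rank_map_res_le (M := M) E hlr
  have hb := rank_map_res_le (M := M) (1 - E) h1E
  rw [hmap] at hb
  have hc := rank_add_rank_one_sub E hE
  have hd := rank_add_rank_one_sub (E.map (res M)) hE'
  omega

end Reduction

end Cfsg.Agent.S4607P
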