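import Mathlib
import Cfsg.Agent.Helper25.ParkMarks
import Cfsg.Agent.Helper25.ParkSet

set_option autoImplicit false

/-!
Fixed-point counts ("marks") of permutation representations: conjugation invariance, the
orbit-counting divisibility, disjoint sums, and sums of transitive sets with multiplicities.
-/

namespace Cfsg.Agent.Helper26.CB

open Cfsg.Agent.Helper25.Park

universe u

section marks

variable {H : Type*} [Group H] {X : Type*}

/-- The number of points fixed by a subgroup. -/
noncomputable def mark (a : H →* Equiv.Perm X) (K : Subgroup H) : ℕ :=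
  Nat.card {x : X // ∀ k ∈ K, a k x = x}

theorem fixed_iff_le_stab (a : H →* Equiv.Perm X) (K : Subgroup H) (x : X) :
    (∀ k ∈ K, a k x = x) ↔ K ≤ stab a x := Iff.rfl

theorem mark_pos_iff [Finite X] (a : H →* Equiv.Perm X) (K : Subgroup H) :
    0 < mark a K ↔ ∃ x : X, K ≤ stab a x := by
  unfold mark
  rw [Nat.card_pos_iff]
  constructor
  · rintro ⟨⟨x, hx⟩, _⟩
    exact ⟨x, hx⟩
  · rintro ⟨x, hx⟩
    exact ⟨⟨⟨x, hx⟩⟩, inferInstance⟩

theorem mark_eq_zero [Finite X] (a : H →* Equiv.Perm X) (K : Subgroup H)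
    (h : ∀ x : X, ¬ K ≤ stab a x) : mark a K = 0 := by
  by_contra hne
  obtain ⟨x, hx⟩ := (mark_pos_iff a K).1 (Nat.pos_of_ne_zero hne)
  exact h x hx

theorem mark_le_card [Finite X] (a : H →* Equiv.Perm X) (K : Subgroup H) :
    mark a K ≤ Nat.card X :=
  Nat.card_le_card_of_injective (fun x => x.1) Subtype.val_injective

theorem mark_conjBy (a : H →* Equiv.Perm X) (K : Subgroup H) (t : H) :
    mark a (conjBy K t) = mark a K := by
  unfold mark
  apply Nat.card_congr
  refine ⟨fun x => ⟨a t x.1, ?_⟩, fun x => ⟨a t⁻¹ x.1, ?_⟩, ?_, ?_⟩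
  · intro k hk
    have h1 : t⁻¹ * k * t ∈ conjBy K t := ⟨k, hk, by simp⟩
    have h2 := x.2 _ h1
    have e : k * t = t * (t⁻¹ * k * t) := by group
    rw [← Equiv.Perm.mul_apply, ← map_mul, e, map_mul, Equiv.Perm.mul_apply, h2]
  · rintro _ ⟨k, hk, rfl⟩
    have h2 := x.2 k hk
    have e : (MulAut.conj t⁻¹).toMonoidHom k * t⁻¹ = t⁻¹ * k := by simp
    rw [← Equiv.Perm.mul_apply, ← map_mul, e, map_mul, Equiv.Perm.mul_apply, h2]
  · intro x
    apply Subtype.ext
    simp
  · intro x
    apply Subtype.ext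
    simp

/-- Orbit counting: the sum of the numbers of fixed points over a finite group acting on the
points fixed by `E` through elements normalizing `E` is divisible by the order of the group. -/
theorem card_dvd_sum_mark [Finite X] {N : Type*} [Group N] [Fintype N] (a : H →* Equiv.Perm X)
    (b : N →* H) (E : Subgroup H) (hb : ∀ n, b n ∈ Subgroup.normalizer (E : Set H)) :
    Fintype.card N ∣ ∑ n : N, mark a (E ⊔ Subgroup.zpowers (b n)) := by
  classical
  have hY : ∀ (n : N) (y : {x : X // ∀ e ∈ E, a e x = x}), ∀ e ∈ E,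
      a e (a (b n) y.1) = a (b n) y.1 := by
    intro n y e he
    have h1 : (b n)⁻¹ * e * (b n) ∈ E := by
      exact (Subgroup.mem_normalizer_iff''.1 (hb n) e).1 he
    have h2 := y.2 _ h1
    have e' : e * b n = b n * ((b n)⁻¹ * e * b n) := by group
    rw [← Equiv.Perm.mul_apply, ← map_mul, e', map_mul, Equiv.Perm.mul_apply, h2]
  let _ : MulAction N {x : X // ∀ e ∈ E, a e x = x} :=
    { smul := fun n y => ⟨a (b n) y.1, hY n y⟩
      one_smul := by
        intro y
        apply Subtype.ext
        show a (b 1) y.1 = y.1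
        simp
      mul_smul := by
        intro n n' y
        apply Subtype.ext
        show a (b (n * n')) y.1 = a (b n) (a (b n') y.1)
        simp }
  have hsmul : ∀ (n : N) (y : {x : X // ∀ e ∈ E, a e x = x}), ((n • y : _) : X) = a (b n) y.1 :=
    fun n y => rfl
  let _ : Fintype {x : X // ∀ e ∈ E, a e x = x} := Fintype.ofFinite _
  let _ : ∀ n : N, Fintype (MulAction.fixedBy {x : X // ∀ e ∈ E, a e x = x} n) :=
    fun n => Fintype.ofFinite _
  let _ : Fintype (Quotient (MulAction.orbitRel N {x : X // ∀ e ∈ E, a e x = x})) :=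
    Fintype.ofFinite _
  have hB := MulAction.sum_card_fixedBy_eq_card_orbits_mul_card_group N
    {x : X // ∀ e ∈ E, a e x = x}
  have hfix : ∀ n : N, Fintype.card (MulAction.fixedBy {x : X // ∀ e ∈ E, a e x = x} n) =
      mark a (E ⊔ Subgroup.zpowers (b n)) := by
    intro n
    rw [← Nat.card_eq_fintype_card]
    unfold mark
    apply Nat.card_congr
    refine ⟨fun y => ⟨y.1.1, ?_⟩, fun x => ⟨⟨x.1, fun e he => x.2 e (le_sup_left (a := E) he)⟩, ?_⟩,
      ?_, ?_⟩
    · have h1 : E ≤ stab a y.1.1 := y.1.2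
      have h2 : Subgroup.zpowers (b n) ≤ stab a y.1.1 := by
        rw [Subgroup.zpowers_le, mem_stab]
        have := y.2
        rw [MulAction.mem_fixedBy] at this
        have h3 := congrArg Subtype.val this
        rw [hsmul] at h3
        exact h3
      exact sup_le h1 h2
    · rw [MulAction.mem_fixedBy]
      apply Subtype.ext
      rw [hsmul]
      exact x.2 _ (le_sup_right (a := E) (Subgroup.mem_zpowers (b n)))
    · intro y
      rfl
    · intro x
      rfl
  rw [Finset.sum_congr rfl (fun n _ => hfix n)] at hB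
  exact ⟨_, hB.trans (mul_comm _ _)⟩

end marks

section sums

variable {H : Type*} [Group H] {X Y : Type*}

/-- The disjoint sum of two permutation representations. -/
def sumAct (a : H →* Equiv.Perm X) (b : H →* Equiv.Perm Y) : H →* Equiv.Perm (X ⊕ Y) :=
  (Equiv.Perm.sumCongrHom X Y).comp (a.prod b)

theorem sumAct_inl (a : H →* Equiv.Perm X) (b : H →* Equiv.Perm Y) (h : H) (x : X) :
    sumAct a b h (Sum.inl x) = Sum.inl (a h x) := rfl

theorem sumAct_inr (a : H →* Equiv.Perm X) (b : H →* Equiv.Perm Y) (h : H) (y : Y) :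
    sumAct a b h (Sum.inr y) = Sum.inr (b h y) := rfl

theorem stab_sumAct_inl (a : H →* Equiv.Perm X) (b : H →* Equiv.Perm Y) (x : X) :
    stab (sumAct a b) (Sum.inl x) = stab a x := by
  ext h
  rw [mem_stab, mem_stab, sumAct_inl]
  exact ⟨fun h => Sum.inl_injective h, fun h => congrArg Sum.inl h⟩

theorem stab_sumAct_inr (a : H →* Equiv.Perm X) (b : H →* Equiv.Perm Y) (y : Y) :
    stab (sumAct a b) (Sum.inr y) = stab b y := by
  ext h
  rw [mem_stab, mem_stab, sumAct_inr]
  exact ⟨fun h => Sum.inr_injective h, fun h => congrArg Sum.inr h⟩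

theorem mark_sumAct [Finite X] [Finite Y] (a : H →* Equiv.Perm X) (b : H →* Equiv.Perm Y)
    (K : Subgroup H) : mark (sumAct a b) K = mark a K + mark b K := by
  unfold mark
  rw [← Nat.card_sum]
  apply Nat.card_congr
  refine (Equiv.subtypeSum).trans (Equiv.sumCongr ?_ ?_)
  · apply Equiv.subtypeEquivRight
    intro x
    constructor
    · intro h k hk
      have := h k hk
      rw [sumAct_inl] at this
      exact Sum.inl_injective this
    · intro h k hk
      rw [sumAct_inl, h k hk]
  · apply Equiv.subtypeEquivRight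
    intro y
    constructor
    · intro h k hk
      have := h k hk
      rw [sumAct_inr] at this
      exact Sum.inr_injective this
    · intro h k hk
      rw [sumAct_inr, h k hk]

end sums

section PSsets

variable {H : Type u} [Group H]

theorem mem_conjBy {K : Subgroup H} {t y : H} : y ∈ conjBy K t ↔ t * y * t⁻¹ ∈ K := by
  unfold conjBy
  constructor
  · rintro ⟨k, hk, rfl⟩
    have : t * (MulAut.conj t⁻¹).toMonoidHom k * t⁻¹ = k := by simp [mul_assoc]
    rw [this]
    exact hk
  · intro h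
    exact ⟨t * y * t⁻¹, h, by simp [mul_assoc]⟩

theorem conjBy_le_iff_eq [Finite H] {K D : Subgroup H} (h : Nat.card K = Nat.card D) (t : H) :
    conjBy K t ≤ D ↔ conjBy K t = D := by
  constructor
  · intro hle
    apply Subgroup.eq_of_le_of_card_ge hle
    rw [card_conjBy, h]
  · intro he
    exact he.le

theorem card_le_of_conjBy_le [Finite H] {K D : Subgroup H} {t : H} (h : conjBy K t ≤ D) :
    Nat.card K ≤ Nat.card D := by
  rw [← card_conjBy K t]
  exact Subgroup.card_le_of_le h

/-- The number of points of `H ⧸ D` fixed by `K`. -/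
noncomputable def fq (D K : Subgroup H) : ℕ := Nat.card {q : H ⧸ D // ∀ k ∈ K, k • q = q}

theorem card_mul_fq (D K : Subgroup H) :
    Nat.card D * fq D K = Nat.card {h : H // conjBy K h ≤ D} := card_fixed_quotient K D

theorem fq_eq_zero [Finite H] (D K : Subgroup H) (h : ∀ t, ¬ conjBy K t ≤ D) : fq D K = 0 := by
  have h1 := card_mul_fq D K
  have h2 : Nat.card {h : H // conjBy K h ≤ D} = 0 := by
    rw [Nat.card_eq_zero]
    left
    exact ⟨fun x => h x.1 x.2⟩
  rw [h2] at h1
  have h3 : 0 < Nat.card D := Nat.card_pos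
  rcases Nat.eq_zero_or_pos (fq D K) with h4 | h4
  · exact h4
  · exact absurd h1 (Nat.mul_pos h3 h4).ne'

theorem card_mul_fq_conjBy [Finite H] (K : Subgroup H) (t : H) :
    Nat.card K * fq (conjBy K t) K = Nat.card (Subgroup.normalizer (K : Set H)) := by
  rw [← card_conjBy K t, card_mul_fq]
  apply Nat.card_congr
  refine ⟨fun h => ⟨h.1 * t⁻¹, ?_⟩, fun n => ⟨n.1 * t, ?_⟩, ?_, ?_⟩
  · obtain ⟨h, hh⟩ := h
    have he : conjBy K h = conjBy K t :=
      (conjBy_le_iff_eq (by rw [card_conjBy]) h).1 hh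
    rw [Subgroup.mem_normalizer_iff'']
    intro k
    have e : (h * t⁻¹)⁻¹ * k * (h * t⁻¹) = t * (h⁻¹ * k * h) * t⁻¹ := by group
    show k ∈ K ↔ (h * t⁻¹)⁻¹ * k * (h * t⁻¹) ∈ K
    rw [e, ← mem_conjBy, ← he, mem_conjBy]
    have e2 : h * (h⁻¹ * k * h) * h⁻¹ = k := by group
    rw [e2]
  · intro y hy
    rw [mem_conjBy] at hy ⊢
    have e : n.1 * t * y * (n.1 * t)⁻¹ = n.1 * (t * y * t⁻¹) * n.1⁻¹ := by group
    rw [e] at hy
    exact (Subgroup.mem_normalizer_iff.1 n.2 _).2 hy
  · intro h
    apply Subtype.ext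
    simp
  · intro n
    apply Subtype.ext
    simp

/-- For every subgroup `D`, `v D` copies of `H ⧸ D`. -/
structure PS (v : Subgroup H → ℕ) : Type u where
  /-- the subgroup -/
  idx : Subgroup H
  /-- the copy -/
  cnt : Fin (v idx)
  /-- the coset -/
  coset : H ⧸ idx

variable {v : Subgroup H → ℕ}

instance PS.instSMul : SMul H (PS v) := ⟨fun h x => ⟨x.idx, x.cnt, h • x.coset⟩⟩

theorem PS.smul_def (h : H) (x : PS v) :
    h • x = (⟨x.idx, x.cnt, h • x.coset⟩ : PS v) := rfl

instance PS.instMulAction : MulAction H (PS v) where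
  one_smul x := by rw [PS.smul_def, one_smul]
  mul_smul g h x := by rw [PS.smul_def, PS.smul_def, PS.smul_def, mul_smul]

/-- The set as a sigma type. -/
def PS.equivSigma : PS v ≃ Σ D : Subgroup H, Fin (v D) × (H ⧸ D) where
  toFun x := ⟨x.idx, x.cnt, x.coset⟩
  invFun y := ⟨y.1, y.2.1, y.2.2⟩
  left_inv _ := rfl
  right_inv _ := rfl

instance PS.instFinite [Finite H] : Finite (PS v) :=
  Finite.of_equiv _ PS.equivSigma.symm

theorem PS.idx_pos (x : PS v) : 0 < v x.idx := by
  rcases Nat.eq_zero_or_pos (v x.idx) with h | h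
  · have := x.cnt
    rw [h] at this
    exact this.elim0
  · exact h

/-- Fixed points of `K`, fibrewise. -/
def PS.fixEquiv (K : Subgroup H) :
    {x : PS v // ∀ k ∈ K, k • x = x} ≃
      Σ D : Subgroup H, Fin (v D) × {q : H ⧸ D // ∀ k ∈ K, k • q = q} where
  toFun := fun ⟨⟨i, a, q⟩, hx⟩ => ⟨i, a, ⟨q, fun k hk => by
    have := hx k hk
    rw [PS.smul_def] at this
    simpa using this⟩⟩
  invFun := fun ⟨i, a, ⟨q, hq⟩⟩ => ⟨⟨i, a, q⟩, fun k hk => by
    rw [PS.smul_def]
    simp only [hq k hk]⟩
  left_inv := by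
    rintro ⟨⟨i, a, q⟩, hx⟩
    rfl
  right_inv := by
    rintro ⟨i, a, ⟨q, hq⟩⟩
    rfl

open Classical in
theorem PS.mark_eq [Finite H] [Fintype (Subgroup H)] (K : Subgroup H) :
    mark (MulAction.toPermHom H (PS v)) K = ∑ D : Subgroup H, v D * fq D K := by
  unfold mark
  have : Nat.card {x : PS v // ∀ k ∈ K, (MulAction.toPermHom H (PS v)) k x = x} =
      Nat.card {x : PS v // ∀ k ∈ K, k • x = x} := rfl
  rw [this, Nat.card_congr (PS.fixEquiv K), Nat.card_sigma]
  apply Finset.sum_congr rfl
  intro D _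
  rw [Nat.card_prod, Nat.card_fin]
  rfl

open Classical in
theorem PS.card_eq [Finite H] [Fintype (Subgroup H)] :
    Nat.card (PS v) = ∑ D : Subgroup H, v D * D.index := by
  rw [Nat.card_congr (PS.equivSigma (v := v)), Nat.card_sigma]
  apply Finset.sum_congr rfl
  intro D _
  rw [Nat.card_prod, Nat.card_fin]
  rfl

theorem PS.stab_eq (x : PS v) :
    ∃ h : H, stab (MulAction.toPermHom H (PS v)) x = conjBy x.idx h := by
  obtain ⟨D, c, q⟩ := x
  induction q using QuotientGroup.induction_on with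
  | H t =>
  refine ⟨t⁻¹, ?_⟩
  ext g
  rw [mem_stab, mem_conjBy]
  show g • (⟨D, c, (t : H ⧸ D)⟩ : PS v) = ⟨D, c, (t : H ⧸ D)⟩ ↔ _
  rw [PS.smul_def]
  constructor
  · intro h
    have h1 : g • (t : H ⧸ D) = (t : H ⧸ D) := by
      have := congrArg PS.equivSigma h
      simp only [PS.equivSigma, Equiv.coe_fn_mk, Sigma.mk.injEq, heq_eq_eq, Prod.mk.injEq,
        true_and] at this
      exact this
    rw [MulAction.Quotient.smul_coe, smul_eq_mul, QuotientGroup.eq] at h1
    have := D.inv_mem h1
    simpa [mul_assoc] using this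
  · intro h
    have h1 : g • (t : H ⧸ D) = (t : H ⧸ D) := by
      rw [MulAction.Quotient.smul_coe, smul_eq_mul, QuotientGroup.eq]
      have := D.inv_mem h
      simpa [mul_assoc] using this
    simp only [h1]

end PSsets

end Cfsg.Agent.Helper26.CB
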