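import Mathlib
import Cfsg.Agent.Helper26.CB1

set_option autoImplicit false

/-!
Stabilizing the fixed-point counts of a finite `H`-set with respect to an abstract "fusion"
conjugacy relation on the subgroups of a finite `p`-group `H`.
-/

namespace Cfsg.Agent.Helper26.CB

open Cfsg.Agent.Helper25.Park

universe u

variable {H : Type u} [Group H]

theorem conjBy_one (K : Subgroup H) : conjBy K 1 = K := by
  ext y
  rw [mem_conjBy]
  simp

theorem conjBy_conjBy (K : Subgroup H) (t s : H) : conjBy (conjBy K t) s = conjBy K (t * s) := by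
  ext y
  rw [mem_conjBy, mem_conjBy, mem_conjBy]
  have e : t * (s * y * s⁻¹) * t⁻¹ = t * s * y * (t * s)⁻¹ := by group
  rw [e]

theorem card_normalizer_conjBy [Finite H] (K : Subgroup H) (t : H) :
    Nat.card (Subgroup.normalizer ((conjBy K t : Subgroup H) : Set H)) =
      Nat.card (Subgroup.normalizer (K : Set H)) := by
  unfold conjBy
  rw [← Subgroup.map_equiv_normalizer_eq K (MulAut.conj t⁻¹)]
  exact Subgroup.card_map_of_injective (MulAut.conj t⁻¹).injective

/-- The index of a subgroup in its normalizer. -/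
noncomputable def wt (D : Subgroup H) : ℕ :=
  Nat.card (Subgroup.normalizer (D : Set H)) / Nat.card D

theorem card_normalizer_eq [Finite H] (D : Subgroup H) :
    Nat.card (Subgroup.normalizer (D : Set H)) = Nat.card D * wt D := by
  unfold wt
  rw [Nat.mul_div_cancel']
  exact Subgroup.card_dvd_of_le Subgroup.le_normalizer

theorem wt_pos [Finite H] (D : Subgroup H) : 0 < wt D := by
  have h := card_normalizer_eq D
  have h1 : 0 < Nat.card (Subgroup.normalizer (D : Set H)) := Nat.card_pos
  rcases Nat.eq_zero_or_pos (wt D) with h0 | h0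
  · rw [h0, mul_zero] at h
    omega
  · exact h0

theorem wt_conjBy [Finite H] (K : Subgroup H) (t : H) : wt (conjBy K t) = wt K := by
  unfold wt
  rw [card_normalizer_conjBy, card_conjBy]

/-- An abstract conjugacy relation of "saturated" type on the subgroups of `H`. -/
structure ConjRel (R : Subgroup H → Subgroup H → Prop) : Prop where
  symm : ∀ {K K' : Subgroup H}, R K K' → R K' K
  trans : ∀ {K K' K'' : Subgroup H}, R K K' → R K' K'' → R K K''
  conj : ∀ (K : Subgroup H) (t : H), R K (conjBy K t)
  card : ∀ {K K' : Subgroup H}, R K K' → Nat.card K = Nat.card K'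
  sat : ∀ K : Subgroup H, ∃ Ks : Subgroup H, R K Ks ∧ ∀ K' : Subgroup H, R K' Ks →
    ∃ χ : ↥(Subgroup.normalizer (K' : Set H)) →* H, Function.Injective χ ∧
      (∀ n, χ n ∈ Subgroup.normalizer (Ks : Set H)) ∧
      (K'.subgroupOf (Subgroup.normalizer (K' : Set H))).map χ = Ks ∧
      ∀ L : Subgroup ↥(Subgroup.normalizer (K' : Set H)),
        R (L.map (Subgroup.normalizer (K' : Set H)).subtype) (L.map χ)

theorem ConjRel.refl {R : Subgroup H → Subgroup H → Prop} (hR : ConjRel R) (K : Subgroup H) :
    R K K := by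
  have := hR.conj K 1
  rwa [conjBy_one] at this

/-- The congruence between the marks of a subgroup and of a good representative of its class. -/
theorem congruence [Finite H] {X : Type*} [Finite X] (a : H →* Equiv.Perm X) {D Ks : Subgroup H}
    (χ : ↥(Subgroup.normalizer (D : Set H)) →* H)
    (hnorm : ∀ n, χ n ∈ Subgroup.normalizer (Ks : Set H))
    (hmap : (D.subgroupOf (Subgroup.normalizer (D : Set H))).map χ = Ks)
    (hmarks : ∀ n : ↥(Subgroup.normalizer (D : Set H)), (n : H) ∉ D →
      mark a (D ⊔ Subgroup.zpowers (n : H)) = mark a (Ks ⊔ Subgroup.zpowers (χ n))) :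
    (wt D : ℤ) ∣ (mark a D : ℤ) - mark a Ks := by
  classical
  let _ : Fintype ↥(Subgroup.normalizer (D : Set H)) := Fintype.ofFinite _
  have h1 := card_dvd_sum_mark a (Subgroup.normalizer (D : Set H)).subtype D (fun n => n.2)
  have h2 := card_dvd_sum_mark a χ Ks hnorm
  have hf1 : ∀ n : ↥(Subgroup.normalizer (D : Set H)),
      mark a (D ⊔ Subgroup.zpowers ((Subgroup.normalizer (D : Set H)).subtype n)) =
        if (n : H) ∈ D then mark a D else mark a (Ks ⊔ Subgroup.zpowers (χ n)) := by
    intro n
    by_cases hn : (n : H) ∈ D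
    · rw [if_pos hn]
      congr 1
      apply sup_eq_left.2
      rw [Subgroup.zpowers_le]
      exact hn
    · rw [if_neg hn]
      exact hmarks n hn
  have hf2 : ∀ n : ↥(Subgroup.normalizer (D : Set H)),
      mark a (Ks ⊔ Subgroup.zpowers (χ n)) =
        if (n : H) ∈ D then mark a Ks else mark a (Ks ⊔ Subgroup.zpowers (χ n)) := by
    intro n
    by_cases hn : (n : H) ∈ D
    · rw [if_pos hn]
      congr 1
      apply sup_eq_left.2
      rw [Subgroup.zpowers_le, ← hmap]
      exact ⟨n, Subgroup.mem_subgroupOf.2 hn, rfl⟩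
    · rw [if_neg hn]
  rw [Finset.sum_congr rfl (fun n _ => hf1 n)] at h1
  rw [Finset.sum_congr rfl (fun n _ => hf2 n)] at h2
  have h1' := Int.natCast_dvd_natCast.2 h1
  have h2' := Int.natCast_dvd_natCast.2 h2
  have h3 := dvd_sub h1' h2'
  push_cast at h3
  rw [← Finset.sum_sub_distrib] at h3
  have h4 : ∀ n : ↥(Subgroup.normalizer (D : Set H)),
      ((if (n : H) ∈ D then (mark a D : ℤ) else (mark a (Ks ⊔ Subgroup.zpowers (χ n)) : ℤ)) -
        (if (n : H) ∈ D then (mark a Ks : ℤ) else (mark a (Ks ⊔ Subgroup.zpowers (χ n)) : ℤ))) =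
        if (n : H) ∈ D then ((mark a D : ℤ) - mark a Ks) else 0 := by
    intro n
    by_cases hn : (n : H) ∈ D
    · simp [hn]
    · simp [hn]
  rw [Finset.sum_congr rfl (fun n _ => h4 n), ← Finset.sum_filter, Finset.sum_const,
    nsmul_eq_mul] at h3
  have h5 : (Finset.filter (fun n : ↥(Subgroup.normalizer (D : Set H)) => (n : H) ∈ D)
      Finset.univ).card = Nat.card D := by
    rw [← Fintype.card_subtype, ← Nat.card_eq_fintype_card]
    exact Nat.card_congr
      (Subgroup.subgroupOfEquivOfLe (Subgroup.le_normalizer (H := D))).toEquiv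
  rw [h5, ← Nat.card_eq_fintype_card, card_normalizer_eq] at h3
  push_cast at h3
  have h6 : (Nat.card D : ℤ) ≠ 0 := by
    have : 0 < Nat.card D := Nat.card_pos
    exact_mod_cast this.ne'
  exact (mul_dvd_mul_iff_left h6).1 h3

section choices

variable (R : Subgroup H → Subgroup H → Prop)

/-- The property of a good representative of a class. -/
def IsStar (Ks : Subgroup H) : Prop :=
  ∀ K' : Subgroup H, R K' Ks →
    ∃ χ : ↥(Subgroup.normalizer (K' : Set H)) →* H, Function.Injective χ ∧
      (∀ n, χ n ∈ Subgroup.normalizer (Ks : Set H)) ∧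
      (K'.subgroupOf (Subgroup.normalizer (K' : Set H))).map χ = Ks ∧
      ∀ L : Subgroup ↥(Subgroup.normalizer (K' : Set H)),
        R (L.map (Subgroup.normalizer (K' : Set H)).subtype) (L.map χ)

/-- The class of a subgroup. -/
def cls (K : Subgroup H) : Set (Subgroup H) := {K' | R K K'}

open Classical in
/-- A good representative of a class. -/
noncomputable def starOf (C : Set (Subgroup H)) : Subgroup H :=
  if h : ∃ Ks, Ks ∈ C ∧ IsStar R Ks then Classical.choose h else ⊥

/-- A good representative of the class of a subgroup. -/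
noncomputable def star (K : Subgroup H) : Subgroup H := starOf R (cls R K)

variable {R}

theorem cls_eq (hR : ConjRel R) {K K' : Subgroup H} (h : R K K') : cls R K = cls R K' := by
  ext L
  exact ⟨fun hL => hR.trans (hR.symm h) hL, fun hL => hR.trans h hL⟩

theorem star_spec (hR : ConjRel R) (K : Subgroup H) : R K (star R K) ∧ IsStar R (star R K) := by
  have h : ∃ Ks, Ks ∈ cls R K ∧ IsStar R Ks := by
    obtain ⟨Ks, h1, h2⟩ := hR.sat K
    exact ⟨Ks, h1, h2⟩
  unfold star starOf
  rw [dif_pos h]
  exact Classical.choose_spec h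

theorem star_eq (hR : ConjRel R) {K K' : Subgroup H} (h : R K K') : star R K = star R K' := by
  unfold star
  rw [cls_eq hR h]

end choices

section reps

/-- The conjugacy class of a subgroup. -/
def tcls (K : Subgroup H) : Set (Subgroup H) := {K' | ∃ t, K' = conjBy K t}

open Classical in
/-- A chosen element of a set of subgroups. -/
noncomputable def repOf (C : Set (Subgroup H)) : Subgroup H :=
  if h : C.Nonempty then h.some else ⊥

/-- A chosen representative of the conjugacy class. -/
noncomputable def rep (K : Subgroup H) : Subgroup H := repOf (tcls K)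

theorem tcls_conjBy (K : Subgroup H) (t : H) : tcls (conjBy K t) = tcls K := by
  ext L
  constructor
  · rintro ⟨s, rfl⟩
    exact ⟨t * s, conjBy_conjBy K t s⟩
  · rintro ⟨s, rfl⟩
    refine ⟨t⁻¹ * s, ?_⟩
    rw [conjBy_conjBy, mul_inv_cancel_left]

theorem rep_spec (K : Subgroup H) : ∃ t, rep K = conjBy K t := by
  have h : (tcls K).Nonempty := ⟨K, 1, (conjBy_one K).symm⟩
  unfold rep repOf
  rw [dif_pos h]
  exact h.some_mem

theorem rep_conjBy (K : Subgroup H) (t : H) : rep (conjBy K t) = rep K := by
  unfold rep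
  rw [tcls_conjBy]

theorem rep_rep (K : Subgroup H) : rep (rep K) = rep K := by
  obtain ⟨t, ht⟩ := rep_spec K
  rw [ht, rep_conjBy, ← ht]

end reps

/-- One step of the stabilization: from stability above the order `m` to stability from `m`
on. -/
theorem level_step [Finite H] (p : ℕ) [Fact p.Prime] (hp : IsPGroup p H)
    {R : Subgroup H → Subgroup H → Prop} (hR : ConjRel R)
    (𝒟 : Subgroup H → Prop) (hdown : ∀ K D : Subgroup H, K ≤ D → 𝒟 D → 𝒟 K)
    (hconj : ∀ K K' : Subgroup H, R K K' → 𝒟 K → 𝒟 K')
    {X : Type u} [Finite X] (a : H →* Equiv.Perm X) (hstab : ∀ x, 𝒟 (stab a x))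
    (m : ℕ) (hst : ∀ K K' : Subgroup H, R K K' → m < Nat.card K → mark a K = mark a K') :
    ∃ (X' : Type u) (_ : Finite X') (a' : H →* Equiv.Perm X'),
      (∀ x, 𝒟 (stab a' x)) ∧
      (∀ K K' : Subgroup H, R K K' → m ≤ Nat.card K → mark a' K = mark a' K') ∧
      (∀ K : Subgroup H, m < Nat.card K → mark a' K = mark a K) ∧
      (∀ r : ℕ, (∀ D : Subgroup H, Nat.card D = m → r ∣ D.index) →
        Nat.card X' ≡ Nat.card X [MOD r]) := by
  classical
  let _ : Fintype (Subgroup H) := Fintype.ofFinite _
  -- the target values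
  set t : Subgroup H → ℕ := fun K => mark a (star R K) + Nat.card X * wt (star R K) with ht
  have ht_inv : ∀ K K' : Subgroup H, R K K' → t K = t K' := by
    intro K K' h
    simp only [ht]
    rw [star_eq hR h]
  -- the congruence
  have k1 : ∀ K : Subgroup H, Nat.card K = m →
      (wt K : ℤ) ∣ (mark a K : ℤ) - mark a (star R K) := by
    intro K hK
    obtain ⟨hKs, hstar⟩ := star_spec hR K
    obtain ⟨χ, hinj, hnorm, hmap, hL⟩ := hstar K hKs
    apply congruence a χ hnorm hmap
    intro n hn
    set L : Subgroup ↥(Subgroup.normalizer (K : Set H)) :=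
      K.subgroupOf (Subgroup.normalizer (K : Set H)) ⊔ Subgroup.zpowers n with hLdef
    have e1 : L.map (Subgroup.normalizer (K : Set H)).subtype = K ⊔ Subgroup.zpowers (n : H) := by
      rw [hLdef, Subgroup.map_sup, Subgroup.subgroupOf_map_subtype, MonoidHom.map_zpowers,
        inf_eq_left.2 Subgroup.le_normalizer]
      rfl
    have e2 : L.map χ = star R K ⊔ Subgroup.zpowers (χ n) := by
      rw [hLdef, Subgroup.map_sup, hmap, MonoidHom.map_zpowers]
    have h3 := hL L
    rw [e1, e2] at h3
    apply hst _ _ h3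
    by_contra hcon
    have hle : Nat.card ↥(K ⊔ Subgroup.zpowers (n : H)) ≤ Nat.card K := by omega
    have := Subgroup.eq_of_le_of_card_ge (le_sup_left : K ≤ K ⊔ Subgroup.zpowers (n : H)) hle
    apply hn
    have h5 : (n : H) ∈ K ⊔ Subgroup.zpowers (n : H) :=
      le_sup_right (a := K) (Subgroup.mem_zpowers (n : H))
    exact this.ge h5
  have k2 : ∀ K : Subgroup H, wt K ∣ wt (star R K) := by
    intro K
    obtain ⟨hKs, hstar⟩ := star_spec hR K
    obtain ⟨χ, hinj, hnorm, hmap, hL⟩ := hstar K hKs
    have hle : Nat.card (Subgroup.normalizer (K : Set H)) ≤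
        Nat.card (Subgroup.normalizer ((star R K : Subgroup H) : Set H)) := by
      apply Nat.card_le_card_of_injective (fun n => (⟨χ n, hnorm n⟩ :
        ↥(Subgroup.normalizer ((star R K : Subgroup H) : Set H))))
      intro n n' h
      exact hinj (congrArg Subtype.val h)
    obtain ⟨e1, h1⟩ := IsPGroup.exists_card_eq (hp.to_subgroup (Subgroup.normalizer (K : Set H)))
    obtain ⟨e2, h2⟩ := IsPGroup.exists_card_eq
      (hp.to_subgroup (Subgroup.normalizer ((star R K : Subgroup H) : Set H)))
    have hdvd : Nat.card (Subgroup.normalizer (K : Set H)) ∣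
        Nat.card (Subgroup.normalizer ((star R K : Subgroup H) : Set H)) := by
      rw [h1, h2] at hle ⊢
      apply pow_dvd_pow
      exact (Nat.pow_le_pow_iff_right (Fact.out : p.Prime).one_lt).1 hle
    rw [card_normalizer_eq, card_normalizer_eq, ← hR.card hKs] at hdvd
    exact Nat.dvd_of_mul_dvd_mul_left Nat.card_pos hdvd
  have k3 : ∀ K : Subgroup H, Nat.card K = m →
      mark a K ≤ t K ∧ wt K ∣ t K - mark a K := by
    intro K hK
    have hle : mark a K ≤ t K := by
      simp only [ht]
      have h1 := mark_le_card a K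
      have h2 : Nat.card X ≤ Nat.card X * wt (star R K) :=
        Nat.le_mul_of_pos_right _ (wt_pos _)
      omega
    refine ⟨hle, ?_⟩
    have h1 := k1 K hK
    have h2 : (wt K : ℤ) ∣ ((Nat.card X * wt (star R K) : ℕ) : ℤ) :=
      Int.natCast_dvd_natCast.2 (Dvd.dvd.mul_left (k2 K) _)
    have h3 : ((t K - mark a K : ℕ) : ℤ) =
        ((Nat.card X * wt (star R K) : ℕ) : ℤ) - ((mark a K : ℤ) - mark a (star R K)) := by
      rw [Nat.cast_sub hle]
      simp only [ht]
      push_cast
      ring
    have h4 : (wt K : ℤ) ∣ ((t K - mark a K : ℕ) : ℤ) := by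
      rw [h3]
      exact dvd_sub h2 h1
    exact Int.natCast_dvd_natCast.1 h4
  -- the multiplicities
  set n : Subgroup H → ℕ := fun K => (t K - mark a K) / wt K with hn
  have hn_mul : ∀ K : Subgroup H, Nat.card K = m → mark a K + n K * wt K = t K := by
    intro K hK
    obtain ⟨h1, h2⟩ := k3 K hK
    simp only [hn]
    rw [Nat.div_mul_cancel h2]
    omega
  set v : Subgroup H → ℕ := fun D => if Nat.card D = m ∧ 𝒟 D ∧ rep D = D then n D else 0 with hv
  have hv_pos : ∀ D : Subgroup H, 0 < v D → Nat.card D = m ∧ 𝒟 D ∧ rep D = D := by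
    intro D hD
    by_contra hcon
    simp only [hv, if_neg hcon] at hD
    exact lt_irrefl _ hD
  have h𝒟conj : ∀ (K : Subgroup H) (s : H), 𝒟 K → 𝒟 (conjBy K s) :=
    fun K s hK => hconj _ _ (hR.conj K s) hK
  -- the new set
  have hmark' : ∀ K : Subgroup H, mark (sumAct a (MulAction.toPermHom H (PS v))) K =
      mark a K + ∑ D : Subgroup H, v D * fq D K := by
    intro K
    rw [mark_sumAct, PS.mark_eq]
  have hstab' : ∀ x, 𝒟 (stab (sumAct a (MulAction.toPermHom H (PS v))) x) := by
    rintro (x | y)
    · rw [stab_sumAct_inl]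
      exact hstab x
    · rw [stab_sumAct_inr]
      obtain ⟨s, hs⟩ := PS.stab_eq y
      rw [hs]
      exact h𝒟conj _ _ (hv_pos _ (PS.idx_pos y)).2.1
  have hhigh : ∀ K : Subgroup H, m < Nat.card K →
      mark (sumAct a (MulAction.toPermHom H (PS v))) K = mark a K := by
    intro K hK
    rw [hmark', Finset.sum_eq_zero, add_zero]
    intro D _
    rcases Nat.eq_zero_or_pos (v D) with h0 | h0
    · rw [h0, zero_mul]
    · rw [fq_eq_zero, mul_zero]
      intro s hs
      have := card_le_of_conjBy_le hs
      rw [(hv_pos D h0).1] at this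
      omega
  have hlevel : ∀ K : Subgroup H, Nat.card K = m → 𝒟 K →
      mark (sumAct a (MulAction.toPermHom H (PS v))) K = t K := by
    intro K hK hDK
    obtain ⟨t₀, ht₀⟩ := rep_spec K
    have hsum : ∑ D : Subgroup H, v D * fq D K = v (rep K) * fq (rep K) K := by
      apply Finset.sum_eq_single (rep K)
      · intro D _ hD
        rcases Nat.eq_zero_or_pos (v D) with h0 | h0
        · rw [h0, zero_mul]
        · obtain ⟨hc, _, hrep⟩ := hv_pos D h0
          rw [fq_eq_zero, mul_zero]
          intro s hs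
          have he := (conjBy_le_iff_eq (hK.trans hc.symm) s).1 hs
          apply hD
          rw [← hrep, ← he, rep_conjBy]
      · intro h
        exact absurd (Finset.mem_univ _) h
    have hvrep : v (rep K) = n (rep K) := by
      simp only [hv]
      rw [if_pos]
      refine ⟨?_, ?_, rep_rep K⟩
      · rw [ht₀, card_conjBy, hK]
      · rw [ht₀]
        exact h𝒟conj _ _ hDK
    have hnrep : n (rep K) = n K := by
      simp only [hn]
      rw [← ht_inv K (rep K) (by rw [ht₀]; exact hR.conj K t₀), ht₀, mark_conjBy, wt_conjBy]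
    have hfq : fq (rep K) K = wt K := by
      have h1 := card_mul_fq_conjBy K t₀
      rw [← ht₀, card_normalizer_eq] at h1
      exact Nat.eq_of_mul_eq_mul_left Nat.card_pos h1
    rw [hmark', hsum, hvrep, hnrep, hfq]
    exact hn_mul K hK
  refine ⟨X ⊕ PS v, inferInstance, sumAct a (MulAction.toPermHom H (PS v)), hstab', ?_, hhigh, ?_⟩
  · intro K K' hKK' hmK
    rcases Nat.lt_or_ge m (Nat.card K) with hlt | hge
    · rw [hhigh K hlt, hhigh K' (by rw [← hR.card hKK']; exact hlt)]
      exact hst K K' hKK' hlt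
    · have hK : Nat.card K = m := le_antisymm hge hmK
      have hK' : Nat.card K' = m := by rw [← hR.card hKK']; exact hK
      by_cases hDK : 𝒟 K
      · rw [hlevel K hK hDK, hlevel K' hK' (hconj _ _ hKK' hDK)]
        exact ht_inv K K' hKK'
      · have hDK' : ¬ 𝒟 K' := fun h => hDK (hconj _ _ (hR.symm hKK') h)
        rw [mark_eq_zero, mark_eq_zero]
        · intro x hx
          exact hDK' (hdown _ _ hx (hstab' x))
        · intro x hx
          exact hDK (hdown _ _ hx (hstab' x))
  · intro r hr
    rw [Nat.card_sum, PS.card_eq]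
    have : r ∣ ∑ D : Subgroup H, v D * D.index := by
      apply Finset.dvd_sum
      intro D _
      rcases Nat.eq_zero_or_pos (v D) with h0 | h0
      · rw [h0, zero_mul]
        exact dvd_zero _
      · exact Dvd.dvd.mul_left (hr D (hv_pos D h0).1) _
    obtain ⟨c, hc⟩ := this
    rw [hc]
    show (Nat.card X + r * c) % r = Nat.card X % r
    simp

/-- Stabilization: a finite `H`-set whose marks are stable from the order `M` on can be
enlarged, by orbits with point stabilizers in the family of order less than `M`, to a set with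
stable marks. -/
theorem exists_stable [Finite H] (p : ℕ) [Fact p.Prime] (hp : IsPGroup p H)
    {R : Subgroup H → Subgroup H → Prop} (hR : ConjRel R)
    (𝒟 : Subgroup H → Prop) (hdown : ∀ K D : Subgroup H, K ≤ D → 𝒟 D → 𝒟 K)
    (hconj : ∀ K K' : Subgroup H, R K K' → 𝒟 K → 𝒟 K')
    {X₀ : Type u} [Finite X₀] (a₀ : H →* Equiv.Perm X₀) (hstab₀ : ∀ x, 𝒟 (stab a₀ x))
    (M : ℕ) (hM : ∀ K K' : Subgroup H, R K K' → M ≤ Nat.card K → mark a₀ K = mark a₀ K')
    (r : ℕ) (hr : ∀ D : Subgroup H, Nat.card D < M → r ∣ D.index) :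
    ∃ (X : Type u) (_ : Finite X) (a : H →* Equiv.Perm X),
      (∀ x, 𝒟 (stab a x)) ∧ (∀ K K' : Subgroup H, R K K' → mark a K = mark a K') ∧
      (∀ K : Subgroup H, M ≤ Nat.card K → mark a K = mark a₀ K) ∧
      Nat.card X ≡ Nat.card X₀ [MOD r] := by
  have claim : ∀ j : ℕ, ∃ (X : Type u) (_ : Finite X) (a : H →* Equiv.Perm X),
      (∀ x, 𝒟 (stab a x)) ∧
      (∀ K K' : Subgroup H, R K K' → M - j ≤ Nat.card K → mark a K = mark a K') ∧
      (∀ K : Subgroup H, M ≤ Nat.card K → mark a K = mark a₀ K) ∧
      Nat.card X ≡ Nat.card X₀ [MOD r] := by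
    intro j
    induction j with
    | zero =>
      exact ⟨X₀, inferInstance, a₀, hstab₀, fun K K' h hK => hM K K' h (by simpa using hK),
        fun K _ => rfl, Nat.ModEq.refl _⟩
    | succ j ih =>
      obtain ⟨X, hX, a, h1, h2, h3, h4⟩ := ih
      rcases Nat.eq_zero_or_pos (M - j) with h0 | h0
      · refine ⟨X, hX, a, h1, fun K K' h hK => h2 K K' h (by omega), h3, h4⟩
      · have := hX
        obtain ⟨X', hX', a', g1, g2, g3, g4⟩ := level_step p hp hR 𝒟 hdown hconj a h1 (M - (j + 1))
          (fun K K' h hK => h2 K K' h (by omega))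
        refine ⟨X', hX', a', g1, g2, fun K hK => ?_, ?_⟩
        · rw [g3 K (by omega), h3 K hK]
        · exact (g4 r (fun D hD => hr D (by omega))).trans h4
  obtain ⟨X, hX, a, h1, h2, h3, h4⟩ := claim M
  exact ⟨X, hX, a, h1, fun K K' h => h2 K K' h (by omega), h3, h4⟩

end Cfsg.Agent.Helper26.CB
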