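import Mathlib
import Cfsg.Prelude.Def_FusionSystem
import Cfsg.Agent.Helper25.FusionBasic
import Cfsg.Agent.Helper25.FusionAut
import Cfsg.Agent.Helper25.FusionSat
import Cfsg.Agent.S5077
import Cfsg.Agent.S5079
import Cfsg.Agent.Helper26.CB2

set_option autoImplicit false

/-!
Conjugacy in a saturated fusion system over `T`, read on the subgroups of the group `↥T`, is
an abstract conjugacy relation of saturated type.
-/

namespace Cfsg.Agent.Helper26.CB

open Cfsg Cfsg.FusionSystem Cfsg.Agent.Helper25 Cfsg.Agent.Helper25.Park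

universe u

variable {Γ : Type u} [Group Γ] {T : Subgroup Γ}

/-- Conjugacy in the system, for subgroups of `↥T`. -/
def GConj (𝒢 : FusionSystem T) (K K' : Subgroup ↥T) : Prop :=
  𝒢.IsConj (K.map T.subtype) (K'.map T.subtype)

theorem map_subtype_le (K : Subgroup ↥T) : K.map T.subtype ≤ T := by
  rintro _ ⟨k, _, rfl⟩
  exact k.2

theorem mem_map_subtype_iff {K : Subgroup ↥T} {y : Γ} :
    y ∈ K.map T.subtype ↔ ∃ h : y ∈ T, (⟨y, h⟩ : ↥T) ∈ K := by
  constructor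
  · rintro ⟨k, hk, rfl⟩
    exact ⟨k.2, hk⟩
  · rintro ⟨h, hk⟩
    exact ⟨⟨y, h⟩, hk, rfl⟩

theorem coe_mem_map_subtype_iff {K : Subgroup ↥T} {y : ↥T} :
    (y : Γ) ∈ K.map T.subtype ↔ y ∈ K := by
  rw [mem_map_subtype_iff]
  exact ⟨fun ⟨_, h⟩ => h, fun h => ⟨y.2, h⟩⟩

theorem coe_mem_normalizerIn {K : Subgroup ↥T} (n : ↥T)
    (hn : n ∈ Subgroup.normalizer (K : Set ↥T)) :
    (n : Γ) ∈ normalizerIn T (K.map T.subtype) := by
  refine Subgroup.mem_inf.mpr ⟨n.2, ?_⟩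
  rw [Subgroup.mem_normalizer_iff]
  intro y
  constructor
  · intro hy
    obtain ⟨hyT, hyK⟩ := mem_map_subtype_iff.1 hy
    have := (Subgroup.mem_normalizer_iff.1 hn ⟨y, hyT⟩).1 hyK
    exact ⟨_, this, rfl⟩
  · intro hy
    obtain ⟨hyT, hyK⟩ := mem_map_subtype_iff.1 hy
    have hyT' : y ∈ T := by
      have h1 := T.mul_mem (T.mul_mem (T.inv_mem n.2) hyT) n.2
      have e : (n : Γ)⁻¹ * ((n : Γ) * y * (n : Γ)⁻¹) * (n : Γ) = y := by group
      rwa [e] at h1
    have h2 : n * (⟨y, hyT'⟩ : ↥T) * n⁻¹ ∈ K := hyK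
    exact ⟨⟨y, hyT'⟩, (Subgroup.mem_normalizer_iff.1 hn ⟨y, hyT'⟩).2 h2, rfl⟩

theorem mem_normalizer_of {K : Subgroup ↥T} (n : ↥T)
    (hn : (n : Γ) ∈ normalizerIn T (K.map T.subtype)) :
    n ∈ Subgroup.normalizer (K : Set ↥T) := by
  have h2 := (Subgroup.mem_inf.mp hn).2
  rw [Subgroup.mem_normalizer_iff] at h2 ⊢
  intro y
  have := h2 (y : Γ)
  rw [coe_mem_map_subtype_iff] at this
  rw [this]
  have e : (n : Γ) * (y : Γ) * (n : Γ)⁻¹ = ((n * y * n⁻¹ : ↥T) : Γ) := by simp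
  rw [e, coe_mem_map_subtype_iff]

theorem card_eq_of_isConj (𝒢 : FusionSystem T) {P Q : Subgroup Γ} (h : 𝒢.IsConj P Q) :
    Nat.card P = Nat.card Q := by
  obtain ⟨φ, hφ, hr⟩ := h
  rw [← hr]
  exact Nat.card_congr (Equiv.ofInjective φ (𝒢.injective_of_mem hφ))

theorem gconj_conjBy (𝒢 : FusionSystem T) (K : Subgroup ↥T) (t : ↥T) :
    GConj 𝒢 K (conjBy K t) := by
  refine ⟨conjHom (K.map T.subtype) ((t⁻¹ : ↥T) : Γ),
    𝒢.conj_mem (map_subtype_le K) (t⁻¹).2, ?_⟩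
  ext y
  constructor
  · rintro ⟨⟨_, k, hk, rfl⟩, rfl⟩
    refine ⟨t⁻¹ * k * t, mem_conjBy.2 ?_, by simp [conjHom]⟩
    have e : t * (t⁻¹ * k * t) * t⁻¹ = k := by group
    rw [e]
    exact hk
  · rintro ⟨y', hy'', rfl⟩
    have hy' : t * y' * t⁻¹ ∈ K := mem_conjBy.1 hy''
    refine ⟨⟨((t * y' * t⁻¹ : ↥T) : Γ), ⟨_, hy', rfl⟩⟩, ?_⟩
    simp [conjHom, mul_assoc]

theorem conjRel_gconj [Finite T] (p : ℕ) [Fact p.Prime] (hT : IsPGroup p T)
    (𝒢 : FusionSystem T) (h𝒢 : 𝒢.IsSaturated p) : ConjRel (GConj 𝒢) where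
  symm := fun h => isConj_symm 𝒢 h
  trans := fun h₁ h₂ => isConj_trans 𝒢 h₁ h₂
  conj := gconj_conjBy 𝒢
  card := by
    intro K K' h
    have := card_eq_of_isConj 𝒢 h
    rwa [Subgroup.card_map_of_injective T.subtype_injective,
      Subgroup.card_map_of_injective T.subtype_injective] at this
  sat := by
    intro K
    obtain ⟨Q, hPQ, hFN⟩ := exists_isConj_fullyNormalized 𝒢 (map_subtype_le K)
    obtain ⟨hFC, hFA⟩ := Cfsg.Agent.S5077.sylow_axiom p hT 𝒢 h𝒢 Q hFN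
    have hRec := Cfsg.Agent.S5077.extension_axiom p hT 𝒢 h𝒢 Q hFC
    have hQT : Q ≤ T := hFN.1
    have hQe : (Q.subgroupOf T).map T.subtype = Q := Subgroup.map_subgroupOf_eq_of_le hQT
    refine ⟨Q.subgroupOf T, ?_, ?_⟩
    · show 𝒢.IsConj _ _
      rw [hQe]
      exact hPQ
    · intro K' hK'
      have hK'Q : 𝒢.IsConj (K'.map T.subtype) Q := by
        have : 𝒢.IsConj _ _ := hK'
        rwa [hQe] at this
      obtain ⟨φ, hφ, hφN, hφQ⟩ := Cfsg.Agent.S5079.result p hT 𝒢 Q (K'.map T.subtype) hFA hRec hK'Q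
      have hφT : ∀ x, φ x ∈ T := fun x => (Subgroup.mem_inf.mp (hφN x)).1
      -- the inclusion of the normalizer
      let j : ↥(Subgroup.normalizer (K' : Set ↥T)) →* ↥(normalizerIn T (K'.map T.subtype)) :=
        (T.subtype.comp (Subgroup.normalizer (K' : Set ↥T)).subtype).codRestrict _
          (fun n => coe_mem_normalizerIn n.1 n.2)
      have hj : ∀ n, ((j n : ↥(normalizerIn T (K'.map T.subtype))) : Γ) = ((n : ↥T) : Γ) :=
        fun n => rfl
      let χ : ↥(Subgroup.normalizer (K' : Set ↥T)) →* ↥T := (φ.codRestrict T hφT).comp j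
      have hχ : ∀ n, ((χ n : ↥T) : Γ) = φ (j n) := fun n => rfl
      refine ⟨χ, ?_, ?_, ?_, ?_⟩
      · intro n n' h
        have h1 : φ (j n) = φ (j n') := by rw [← hχ, ← hχ, h]
        have h2 := 𝒢.injective_of_mem hφ h1
        apply Subtype.ext
        apply Subtype.ext
        have h3 := congrArg Subtype.val h2
        rw [hj, hj] at h3
        exact h3
      · intro n
        apply mem_normalizer_of
        rw [hQe, hχ]
        exact hφN _
      · ext y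
        constructor
        · rintro ⟨n, hn, rfl⟩
          rw [Subgroup.mem_subgroupOf]
          rw [hχ, ← hφQ]
          refine ⟨j n, ?_, rfl⟩
          apply Subgroup.mem_subgroupOf.2
          rw [hj, coe_mem_map_subtype_iff]
          exact Subgroup.mem_subgroupOf.1 hn
        · intro hy
          rw [Subgroup.mem_subgroupOf, ← hφQ] at hy
          obtain ⟨x, hx, hxy⟩ := hy
          obtain ⟨hxT, hxK⟩ := mem_map_subtype_iff.1 (Subgroup.mem_subgroupOf.1 hx)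
          have hxN : (⟨(x : Γ), hxT⟩ : ↥T) ∈ Subgroup.normalizer (K' : Set ↥T) :=
            Subgroup.le_normalizer hxK
          refine ⟨⟨⟨(x : Γ), hxT⟩, hxN⟩, Subgroup.mem_subgroupOf.2 hxK, ?_⟩
          apply Subtype.ext
          rw [hχ, ← hxy]
          congr 1
      · intro L
        have hle : (L.map (Subgroup.normalizer (K' : Set ↥T)).subtype).map T.subtype ≤
            normalizerIn T (K'.map T.subtype) := by
          rintro _ ⟨_, ⟨n, _, rfl⟩, rfl⟩
          exact coe_mem_normalizerIn n.1 n.2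
        refine ⟨φ.comp (Subgroup.inclusion hle), restrict_mem 𝒢 hle hφ, ?_⟩
        ext y
        constructor
        · rintro ⟨⟨_, ⟨_, ⟨n, hn, rfl⟩, rfl⟩⟩, rfl⟩
          refine ⟨χ n, ⟨n, hn, rfl⟩, ?_⟩
          show ((χ n : ↥T) : Γ) = _
          rw [hχ]
          rfl
        · rintro ⟨_, ⟨n, hn, rfl⟩, rfl⟩
          refine ⟨⟨((n : ↥T) : Γ), ⟨_, ⟨n, hn, rfl⟩, rfl⟩⟩, ?_⟩
          show _ = ((χ n : ↥T) : Γ)
          rw [hχ]
          rfl

end Cfsg.Agent.Helper26.CB
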