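import Mathlib
import Cfsg.Prelude.Def_FusionSystem
import Cfsg.Agent.Helper25.FusionBasic
import Cfsg.Agent.Helper25.FusionAut
import Cfsg.Agent.Helper25.FusionSat
import Cfsg.Agent.Helper25.FusionProduct
import Cfsg.Agent.Helper25.FusionProductSat
import Cfsg.Agent.Helper26.CB3

set_option autoImplicit false

/-!
The family of subgroups of `S × S` contained in the graph of a map of a fusion system over `S`,
as a family of subgroups of the group `↥(S.prod S)`.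
-/

namespace Cfsg.Agent.Helper26.CB

open Cfsg Cfsg.FusionSystem Cfsg.Agent.Helper25 Cfsg.Agent.Helper25.Park

universe u

variable {Ω : Type u} [Group Ω] {S : Subgroup Ω}

/-- The left projection. -/
def pL (S : Subgroup Ω) : ↥(S.prod S) →* ↥S :=
  ((MonoidHom.fst Ω Ω).comp (S.prod S).subtype).codRestrict S
    (fun h => (Subgroup.mem_prod.1 h.2).1)

/-- The right projection. -/
def pR (S : Subgroup Ω) : ↥(S.prod S) →* ↥S :=
  ((MonoidHom.snd Ω Ω).comp (S.prod S).subtype).codRestrict S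
    (fun h => (Subgroup.mem_prod.1 h.2).2)

/-- The pairing. -/
def mkH (S : Subgroup Ω) : ↥S × ↥S →* ↥(S.prod S) :=
  (S.subtype.prodMap S.subtype).codRestrict (S.prod S)
    (fun x => Subgroup.mem_prod.2 ⟨x.1.2, x.2.2⟩)

theorem coe_pL (h : ↥(S.prod S)) : ((pL S h : ↥S) : Ω) = (h : Ω × Ω).1 := rfl

theorem coe_pR (h : ↥(S.prod S)) : ((pR S h : ↥S) : Ω) = (h : Ω × Ω).2 := rfl

@[simp] theorem pL_mkH (x : ↥S × ↥S) : pL S (mkH S x) = x.1 := Subtype.ext rfl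

@[simp] theorem pR_mkH (x : ↥S × ↥S) : pR S (mkH S x) = x.2 := Subtype.ext rfl

theorem mkH_pL_pR (h : ↥(S.prod S)) : mkH S (pL S h, pR S h) = h := Subtype.ext rfl

theorem ext_pL_pR {h h' : ↥(S.prod S)} (h1 : pL S h = pL S h') (h2 : pR S h = pR S h') :
    h = h' := by
  rw [← mkH_pL_pR h, ← mkH_pL_pR h', h1, h2]

theorem hom_fix_of_isCentral (F : FusionSystem S) {C R : Subgroup Ω} (hC : F.IsCentral C)
    {ψ : R →* Ω} (hψ : ψ ∈ F.Hom R) (x : R) (hx : (x : Ω) ∈ C) : ψ x = x := by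
  obtain ⟨ψ', -, hext, hfix⟩ := hC.2 R ψ hψ
  have h1 := hext x
  have h2 := hfix ⟨x, hx⟩
  have e : Subgroup.inclusion (le_sup_left : R ≤ R ⊔ C) x =
      Subgroup.inclusion (le_sup_right : C ≤ R ⊔ C) ⟨x, hx⟩ := Subtype.ext rfl
  rw [e, h2] at h1
  exact h1.symm

/-- `K` is contained in the graph of a map of the system. -/
def TD (F : FusionSystem S) (K : Subgroup ↥(S.prod S)) : Prop :=
  ∃ (Q : Subgroup Ω) (ψ : Q →* Ω), ψ ∈ F.Hom Q ∧
    ∀ h ∈ K, ∃ hq : (h : Ω × Ω).1 ∈ Q, ψ ⟨(h : Ω × Ω).1, hq⟩ = (h : Ω × Ω).2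

theorem TD_mono (F : FusionSystem S) {K D : Subgroup ↥(S.prod S)} (h : K ≤ D) (hD : TD F D) :
    TD F K := by
  obtain ⟨Q, ψ, hψ, hall⟩ := hD
  exact ⟨Q, ψ, hψ, fun x hx => hall x (h hx)⟩

theorem TD_free (F : FusionSystem S) {K : Subgroup ↥(S.prod S)} (hK : TD F K)
    {h : ↥(S.prod S)} (hh : h ∈ K) (h1 : pL S h = 1) : pR S h = 1 := by
  obtain ⟨Q, ψ, hψ, hall⟩ := hK
  obtain ⟨hq, he⟩ := hall h hh
  have h2 : (h : Ω × Ω).1 = 1 := by
    rw [← coe_pL, h1]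
    rfl
  have h3 : (⟨(h : Ω × Ω).1, hq⟩ : Q) = 1 := Subtype.ext h2
  rw [h3, map_one] at he
  apply Subtype.ext
  rw [coe_pR, ← he]
  rfl

theorem TD_inj (F : FusionSystem S) {K : Subgroup ↥(S.prod S)} (hK : TD F K)
    {h h' : ↥(S.prod S)} (hh : h ∈ K) (hh' : h' ∈ K) (h1 : pL S h = pL S h') : h = h' := by
  obtain ⟨Q, ψ, hψ, hall⟩ := hK
  obtain ⟨hq, he⟩ := hall h hh
  obtain ⟨hq', he'⟩ := hall h' hh'
  apply ext_pL_pR h1
  apply Subtype.ext
  rw [coe_pR, coe_pR, ← he, ← he']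
  congr 1
  apply Subtype.ext
  show (h : Ω × Ω).1 = (h' : Ω × Ω).1
  rw [← coe_pL, ← coe_pL, h1]

theorem TD_center (F : FusionSystem S) {K : Subgroup ↥(S.prod S)} (hK : TD F K)
    {Z : Subgroup Ω} (hZ : F.IsCentral Z) {h : ↥(S.prod S)} (hh : h ∈ K)
    (hz : ((pL S h : ↥S) : Ω) ∈ Z) : pR S h = pL S h := by
  obtain ⟨Q, ψ, hψ, hall⟩ := hK
  obtain ⟨hq, he⟩ := hall h hh
  have := hom_fix_of_isCentral F hZ hψ ⟨(h : Ω × Ω).1, hq⟩ hz
  rw [he] at this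
  apply Subtype.ext
  rw [coe_pR, coe_pL]
  exact this

/-- The graph of an automorphism of `S`. -/
def graphSub (α : MulAut ↥S) : Subgroup ↥(S.prod S) where
  carrier := {h | pR S h = α (pL S h)}
  mul_mem' := by
    intro x y hx hy
    simp only [Set.mem_ofPred_eq] at *
    rw [map_mul, map_mul, map_mul, hx, hy]
  one_mem' := by simp
  inv_mem' := by
    intro x hx
    simp only [Set.mem_ofPred_eq] at *
    rw [map_inv, map_inv, map_inv, hx]

theorem mem_graphSub {α : MulAut ↥S} {h : ↥(S.prod S)} :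
    h ∈ graphSub α ↔ pR S h = α (pL S h) := Iff.rfl

theorem TD_graphSub (F : FusionSystem S) {α : MulAut ↥S} (hα : α ∈ F.autGroup S) :
    TD F (graphSub α) := by
  refine ⟨S, autHom α, (mem_autGroup_iff F le_rfl α).1 hα, ?_⟩
  intro h hh
  refine ⟨(pL S h).2, ?_⟩
  rw [mem_graphSub] at hh
  show ((α (pL S h) : ↥S) : Ω) = _
  rw [← hh]
  rfl

theorem card_graphSub [Finite S] (α : MulAut ↥S) : Nat.card (graphSub α) = Nat.card S := by
  apply Nat.card_congr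
  refine ⟨fun h => pL S h.1, fun u => ⟨mkH S (u, α u), ?_⟩, ?_, ?_⟩
  · rw [mem_graphSub]
    simp
  · intro h
    apply Subtype.ext
    apply ext_pL_pR
    · simp
    · have := h.2
      rw [mem_graphSub] at this
      simp [this]
  · intro u
    simp

theorem TD_top [Finite S] (F : FusionSystem S) {K : Subgroup ↥(S.prod S)} (hK : TD F K)
    (hcard : Nat.card S ≤ Nat.card K) : ∃ α ∈ F.autGroup S, K = graphSub α := by
  have hinj : Function.Injective (fun h : K => pL S h.1) := by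
    intro h h' hh
    exact Subtype.ext (TD_inj F hK h.2 h'.2 hh)
  have hbij : Function.Bijective (fun h : K => pL S h.1) :=
    hinj.bijective_of_nat_card_le hcard
  obtain ⟨Q, ψ, hψ, hall⟩ := hK
  have hQS : Q ≤ S := (F.le_of_mem hψ).1
  have hSQ : S ≤ Q := by
    intro u hu
    obtain ⟨h, hh⟩ := hbij.2 ⟨u, hu⟩
    obtain ⟨hq, -⟩ := hall h.1 h.2
    have : (h.1 : Ω × Ω).1 = u := by
      rw [← coe_pL]
      exact congrArg Subtype.val hh
    rwa [this] at hq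
  obtain rfl : S = Q := le_antisymm hSQ hQS
  have hψS : ∀ x, ψ x ∈ S := (F.le_of_mem hψ).2
  have hψinj : Function.Injective (ψ.codRestrict S hψS) := by
    intro x y hxy
    exact F.injective_of_mem hψ (congrArg Subtype.val hxy)
  have hψbij : Function.Bijective (ψ.codRestrict S hψS) :=
    ⟨hψinj, Finite.surjective_of_injective hψinj⟩
  let α : MulAut ↥S := MulEquiv.ofBijective (ψ.codRestrict S hψS) hψbij
  have hα : α ∈ F.autGroup S := by
    rw [mem_autGroup_iff F le_rfl]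
    have : autHom α = ψ := by
      ext x
      rfl
    rw [this]
    exact hψ
  refine ⟨α, hα, ?_⟩
  have hle : K ≤ graphSub α := by
    intro h hh
    obtain ⟨hq, he⟩ := hall h hh
    rw [mem_graphSub]
    apply Subtype.ext
    rw [coe_pR, ← he]
    rfl
  ext h
  constructor
  · intro hh
    exact hle hh
  · intro hh
    obtain ⟨h', hh'⟩ := hbij.2 (pL S h)
    have h1 : pL S h'.1 = pL S h := hh'
    have h2 : pR S h'.1 = pR S h := by
      rw [mem_graphSub.1 hh, mem_graphSub.1 (hle h'.2), h1]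
    rw [← ext_pL_pR h1 h2]
    exact h'.2

/-- The family is stable under conjugacy in the product system. -/
theorem TD_gconj (F : FusionSystem S) {K K' : Subgroup ↥(S.prod S)}
    (h : GConj (prodSystem F F) K K') (hK : TD F K) : TD F K' := by
  obtain ⟨φ, hφ, hr⟩ := h
  obtain ⟨φ₁, hφ₁, φ₂, hφ₂, rfl⟩ := exists_pairHom (prodSystem_isProductSystem F F) hφ
  obtain ⟨Q, ψ, hψ, hall⟩ := hK
  have hall' : ∀ x ∈ (K.map (S.prod S).subtype).map (MonoidHom.fst Ω Ω),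
      ∃ hq : x ∈ Q, ψ ⟨x, hq⟩ ∈ (K.map (S.prod S).subtype).map (MonoidHom.snd Ω Ω) := by
    rintro _ ⟨_, ⟨k, hk, rfl⟩, rfl⟩
    obtain ⟨hq, he⟩ := hall k hk
    refine ⟨hq, ?_⟩
    have : ψ ⟨(MonoidHom.fst Ω Ω) ((S.prod S).subtype k), hq⟩ = (k : Ω × Ω).2 := he
    rw [this]
    exact ⟨_, ⟨k, hk, rfl⟩, rfl⟩
  have hP₁Q : (K.map (S.prod S).subtype).map (MonoidHom.fst Ω Ω) ≤ Q :=
    fun x hx => (hall' x hx).1
  have hψ₁ := restrict_mem F hP₁Q hψ
  obtain ⟨θ, hθ, hθinv, hθr⟩ := exists_inv_mem F hφ₁ rfl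
  have hv₁ : ∀ y, θ y ∈ (K.map (S.prod S).subtype).map (MonoidHom.fst Ω Ω) := by
    intro y
    exact hθr.le ⟨y, rfl⟩
  have c₁ := F.comp_mem hθ hψ₁ hv₁
  have hv₂ : ∀ y, (ψ.comp (Subgroup.inclusion hP₁Q)).comp
      (θ.codRestrict _ hv₁) y ∈ (K.map (S.prod S).subtype).map (MonoidHom.snd Ω Ω) := by
    intro y
    exact (hall' _ (hv₁ y)).2
  have c₂ := F.comp_mem c₁ hφ₂ hv₂
  refine ⟨φ₁.range, _, c₂, ?_⟩
  intro h' hh'
  have hmem : (h' : Ω × Ω) ∈ K'.map (S.prod S).subtype := ⟨h', hh', rfl⟩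
  rw [← hr] at hmem
  obtain ⟨⟨_, k, hk, rfl⟩, hx⟩ := hmem
  rw [pairHom_apply] at hx
  obtain ⟨hq, he⟩ := hall k hk
  have e1 : (h' : Ω × Ω).1 = φ₁ ⟨(k : Ω × Ω).1, ⟨_, ⟨k, hk, rfl⟩, rfl⟩⟩ :=
    (congrArg Prod.fst hx).symm
  have e2 : (h' : Ω × Ω).2 = φ₂ ⟨(k : Ω × Ω).2, ⟨_, ⟨k, hk, rfl⟩, rfl⟩⟩ :=
    (congrArg Prod.snd hx).symm
  have hmem1 : (h' : Ω × Ω).1 ∈ φ₁.range := by
    rw [e1]
    exact ⟨_, rfl⟩
  refine ⟨hmem1, ?_⟩
  rw [e2]
  simp only [MonoidHom.comp_apply]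
  congr 1
  apply Subtype.ext
  simp only [MonoidHom.codRestrict_apply, MonoidHom.comp_apply]
  refine Eq.trans (congrArg ψ ?_) he
  apply Subtype.ext
  show (θ ⟨(h' : Ω × Ω).1, hmem1⟩ : Ω) = (k : Ω × Ω).1
  have := hθinv ⟨(k : Ω × Ω).1, ⟨_, ⟨k, hk, rfl⟩, rfl⟩⟩ ⟨_, rfl⟩
  refine Eq.trans (congrArg θ ?_) this
  apply Subtype.ext
  exact e1

end Cfsg.Agent.Helper26.CB
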