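import Mathlib
import Cfsg.Prelude.Def_FusionSystem
import Cfsg.Agent.Helper25.FusionNormal
import Cfsg.Agent.Helper26.CB4

set_option autoImplicit false

/-!
The top level of the characteristic biset of a saturated fusion system over `S`: one copy of
`S`, twisted by a representative, for each class of automorphisms of `S` in the system modulo
inner automorphisms.
-/

namespace Cfsg.Agent.Helper26.CB

open Cfsg Cfsg.FusionSystem Cfsg.Agent.Helper25 Cfsg.Agent.Helper25.Park

universe u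

variable {Ω : Type u} [Group Ω] {S : Subgroup Ω}

/-- The inner automorphisms of `S`, inside the automorphism group of `S` in the system. -/
abbrev innIn (F : FusionSystem S) : Subgroup ↥(F.autGroup S) :=
  (autInducedBy S S).subgroupOf (F.autGroup S)

theorem conj_mem_autInducedBy (s : ↥S) : MulAut.conj s ∈ autInducedBy S S := by
  rw [mem_autInducedBy_iff]
  exact ⟨(s : Ω), s.2, fun x => by simp⟩

theorem conj_mem_autGroup (F : FusionSystem S) (s : ↥S) : MulAut.conj s ∈ F.autGroup S :=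
  autInducedBy_le_autGroup F le_rfl (conj_mem_autInducedBy s)

theorem exists_conj_of_mem_autInducedBy {β : MulAut ↥S} (hβ : β ∈ autInducedBy S S) :
    ∃ s : ↥S, β = MulAut.conj s := by
  rw [mem_autInducedBy_iff] at hβ
  obtain ⟨g, hg, h⟩ := hβ
  refine ⟨⟨g, hg⟩, ?_⟩
  ext x
  rw [h x]
  simp

theorem mul_conj_eq (β : MulAut ↥S) (s : ↥S) : β * MulAut.conj s = MulAut.conj (β s) * β := by
  ext x
  simp

/-- The top level set. -/
structure X0 (F : FusionSystem S) : Type u where
  /-- the class of automorphisms -/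
  q : ↥(F.autGroup S) ⧸ innIn F
  /-- the point -/
  s : ↥S

variable {F : FusionSystem S}

/-- The representative automorphism. -/
noncomputable def X0.τ (x : X0 F) : MulAut ↥S := ((Quotient.out x.q : ↥(F.autGroup S)) : MulAut ↥S)

theorem X0.τ_mem (x : X0 F) : x.τ ∈ F.autGroup S := (Quotient.out x.q : ↥(F.autGroup S)).2

noncomputable instance X0.instSMul : SMul ↥(S.prod S) (X0 F) :=
  ⟨fun h x => ⟨x.q, pR S h * x.s * (x.τ (pL S h))⁻¹⟩⟩

theorem X0.smul_def (h : ↥(S.prod S)) (x : X0 F) :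
    h • x = (⟨x.q, pR S h * x.s * (x.τ (pL S h))⁻¹⟩ : X0 F) := rfl

theorem X0.τ_smul (h : ↥(S.prod S)) (x : X0 F) : (h • x).τ = x.τ := rfl

noncomputable instance X0.instMulAction : MulAction ↥(S.prod S) (X0 F) where
  one_smul x := by
    rw [X0.smul_def]
    simp
  mul_smul g h x := by
    rw [X0.smul_def, X0.smul_def, X0.smul_def]
    simp only [map_mul, mul_inv_rev, X0.mk.injEq, true_and]
    have : (⟨x.q, pR S h * x.s * (x.τ (pL S h))⁻¹⟩ : X0 F).τ = x.τ := rfl
    rw [this]
    group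

/-- The set as a product. -/
def X0.equivProd : X0 F ≃ (↥(F.autGroup S) ⧸ innIn F) × ↥S where
  toFun x := (x.q, x.s)
  invFun y := ⟨y.1, y.2⟩
  left_inv _ := rfl
  right_inv _ := rfl

instance X0.instFinite [Finite S] : Finite (X0 F) := Finite.of_equiv _ X0.equivProd.symm

theorem X0.card_eq [Finite S] : Nat.card (X0 F) = (innIn F).index * Nat.card S := by
  rw [Nat.card_congr (X0.equivProd (F := F)), Nat.card_prod]
  rfl

theorem X0.stab_eq (x : X0 F) :
    stab (MulAction.toPermHom ↥(S.prod S) (X0 F)) x = graphSub (MulAut.conj x.s * x.τ) := by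
  ext h
  rw [mem_stab, mem_graphSub]
  show h • x = x ↔ _
  rw [X0.smul_def]
  constructor
  · intro hx
    have h1 : pR S h * x.s * (x.τ (pL S h))⁻¹ = x.s := congrArg X0.s hx
    rw [MulAut.mul_apply, MulAut.conj_apply]
    calc pR S h = (pR S h * x.s * (x.τ (pL S h))⁻¹) * x.τ (pL S h) * x.s⁻¹ := by group
      _ = x.s * x.τ (pL S h) * x.s⁻¹ := by rw [h1]
  · intro hx
    rw [MulAut.mul_apply, MulAut.conj_apply] at hx
    have h1 : pR S h * x.s * (x.τ (pL S h))⁻¹ = x.s := by
      rw [hx]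
      group
    cases x
    simp only [X0.mk.injEq, true_and]
    exact h1

theorem X0.stab_TD (x : X0 F) : TD F (stab (MulAction.toPermHom ↥(S.prod S) (X0 F)) x) := by
  rw [X0.stab_eq]
  exact TD_graphSub F ((F.autGroup S).mul_mem (conj_mem_autGroup F x.s) x.τ_mem)

theorem graphSub_le_iff {α β : MulAut ↥S} : graphSub α ≤ graphSub β ↔ α = β := by
  constructor
  · intro h
    ext u
    have h1 : mkH S (u, α u) ∈ graphSub α := by
      rw [mem_graphSub]
      simp
    have h2 := h h1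
    rw [mem_graphSub] at h2
    simp only [pR_mkH, pL_mkH] at h2
    rw [h2]
  · rintro rfl
    exact le_rfl

/-- The number of points of the top level set fixed by the graph of an automorphism of the
system. -/
theorem X0.mark_graphSub [Finite S] {α : MulAut ↥S} (hα : α ∈ F.autGroup S) :
    mark (MulAction.toPermHom ↥(S.prod S) (X0 F)) (graphSub α) =
      Nat.card (MulAut.conj : ↥S →* MulAut ↥S).ker := by
  unfold mark
  -- the class of `α`
  set q₀ : ↥(F.autGroup S) ⧸ innIn F := ((⟨α, hα⟩ : ↥(F.autGroup S)) : ↥(F.autGroup S) ⧸ innIn F)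
    with hq₀
  have h1 : (Quotient.out q₀)⁻¹ * (⟨α, hα⟩ : ↥(F.autGroup S)) ∈ innIn F := by
    rw [← QuotientGroup.eq, QuotientGroup.out_eq']
  obtain ⟨s₁, hs₁⟩ := exists_conj_of_mem_autInducedBy (Subgroup.mem_subgroupOf.1 h1)
  set τ₀ : MulAut ↥S := ((Quotient.out q₀ : ↥(F.autGroup S)) : MulAut ↥S) with hτ₀
  have h2 : α = τ₀ * MulAut.conj s₁ := by
    rw [← hs₁]
    show α = τ₀ * (τ₀⁻¹ * α)
    group
  set s₀ : ↥S := τ₀ s₁ with hs₀
  have h3 : α = MulAut.conj s₀ * τ₀ := by
    rw [h2, mul_conj_eq]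
  have hfix : ∀ x : X0 F, (∀ k ∈ graphSub α, (MulAction.toPermHom ↥(S.prod S) (X0 F)) k x = x) ↔
      α = MulAut.conj x.s * x.τ := by
    intro x
    rw [fixed_iff_le_stab, X0.stab_eq, graphSub_le_iff]
  have hq : ∀ x : X0 F, α = MulAut.conj x.s * x.τ → x.q = q₀ := by
    intro x hx
    rw [hq₀, ← QuotientGroup.out_eq' x.q, QuotientGroup.eq]
    apply Subgroup.mem_subgroupOf.2
    show x.τ⁻¹ * α ∈ autInducedBy S S
    have : x.τ⁻¹ * α = MulAut.conj (x.τ⁻¹ x.s) := by
      rw [hx, ← mul_assoc, mul_conj_eq, mul_assoc, inv_mul_cancel, mul_one]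
    rw [this]
    exact conj_mem_autInducedBy _
  apply Nat.card_congr
  refine ⟨fun x => ⟨s₀⁻¹ * x.1.s, ?_⟩, fun z => ⟨⟨q₀, s₀ * z.1⟩, ?_⟩, ?_, ?_⟩
  · have hx := (hfix x.1).1 x.2
    have hq' := hq x.1 hx
    have hτ : x.1.τ = τ₀ := by
      unfold X0.τ
      rw [hq']
    rw [hτ] at hx
    have h4 : MulAut.conj s₀ = MulAut.conj x.1.s := mul_right_cancel (h3.symm.trans hx)
    rw [MonoidHom.mem_ker, map_mul, map_inv, h4, inv_mul_cancel]
  · rw [hfix]
    show α = MulAut.conj (s₀ * z.1) * τ₀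
    rw [map_mul, MonoidHom.mem_ker.1 z.2, mul_one]
    exact h3
  · intro x
    have hx := (hfix x.1).1 x.2
    have hq' := hq x.1 hx
    apply Subtype.ext
    obtain ⟨⟨q, s⟩, hx2⟩ := x
    simp only [X0.mk.injEq]
    exact ⟨hq'.symm, by group⟩
  · intro z
    apply Subtype.ext
    simp

end Cfsg.Agent.Helper26.CB
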