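import Mathlib
import Cfsg.Prelude.Def_FusionSystem
import Cfsg.Agent.Helper26.CB5

set_option autoImplicit false

/-!
Existence of a characteristic biset for a saturated fusion system over a finite `p`-group.
-/

namespace Cfsg.Agent.Helper26.CB

open Cfsg Cfsg.FusionSystem Cfsg.Agent.Helper25 Cfsg.Agent.Helper25.Park

universe u

variable {Ω : Type u} [Group Ω] {S : Subgroup Ω}

theorem top_fullyAutomized [Finite S] (p : ℕ) (F : FusionSystem S) (hF : F.IsSaturated p) :
    F.IsFullyAutomized p S := by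
  obtain ⟨Q, ⟨φ, hφ, hr⟩, hFA, -⟩ := hF S le_rfl
  have := range_eq_of_hom_top F hφ
  rw [this] at hr
  subst hr
  exact hFA

theorem card_prodS [Finite S] : Nat.card ↥(S.prod S) = Nat.card S * Nat.card S := by
  rw [Nat.card_congr (Subgroup.prodEquiv S S).toEquiv, Nat.card_prod]

theorem dvd_index_of_card_lt [Finite S] (p : ℕ) [Fact p.Prime] (hS : IsPGroup p S)
    (D : Subgroup ↥(S.prod S)) (hD : Nat.card D < Nat.card S) :
    p * Nat.card S ∣ D.index := by
  have hp : p.Prime := Fact.out
  obtain ⟨n, hn⟩ := IsPGroup.iff_card.mp hS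
  obtain ⟨d, hd⟩ := IsPGroup.iff_card.mp ((isPGroup_prod hS hS).to_subgroup D)
  have h1 := Subgroup.card_mul_index D
  rw [card_prodS, hn, hd] at h1
  rw [hn, hd] at hD
  have hdn : d < n := (Nat.pow_lt_pow_iff_right hp.one_lt).1 hD
  have h2 : D.index = p ^ (n + n - d) := by
    have : p ^ d * D.index = p ^ d * p ^ (n + n - d) := by
      rw [h1, ← pow_add, ← pow_add]
      congr 1
      omega
    exact Nat.eq_of_mul_eq_mul_left (pow_pos hp.pos d) this
  rw [h2, hn, ← pow_succ']
  apply pow_dvd_pow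
  omega

/-- A characteristic biset of a saturated fusion system. -/
theorem exists_charBiset [Finite S] (p : ℕ) [Fact p.Prime] (hS : IsPGroup p S)
    (F : FusionSystem S) (hF : F.IsSaturated p) :
    ∃ (X : Type u) (_ : Finite X) (a : ↥(S.prod S) →* Equiv.Perm X),
      (∀ x, TD F (stab a x)) ∧
      (∀ K K' : Subgroup ↥(S.prod S), GConj (prodSystem F F) K K' → mark a K = mark a K') ∧
      (∃ x₀ : X, ∀ k ∈ graphSub (1 : MulAut ↥S), a k x₀ = x₀) ∧
      (∃ k : ℕ, ¬ p ∣ k ∧ Nat.card X = k * Nat.card S) := by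
  have hpH : IsPGroup p ↥(S.prod S) := isPGroup_prod hS hS
  have h𝒢 : (prodSystem F F).IsSaturated p :=
    isSaturated_of_isProductSystem p hS hS hF hF (prodSystem_isProductSystem F F)
  have hR := conjRel_gconj p hpH (prodSystem F F) h𝒢
  have hM : ∀ K K' : Subgroup ↥(S.prod S), GConj (prodSystem F F) K K' →
      Nat.card S ≤ Nat.card K →
      mark (MulAction.toPermHom ↥(S.prod S) (X0 F)) K =
        mark (MulAction.toPermHom ↥(S.prod S) (X0 F)) K' := by
    intro K K' hKK' hcard
    by_cases hK : TD F K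
    · have hK' : TD F K' := TD_gconj F hKK' hK
      have hcard' : Nat.card S ≤ Nat.card K' := by rw [← hR.card hKK']; exact hcard
      obtain ⟨α, hα, rfl⟩ := TD_top F hK hcard
      obtain ⟨α', hα', rfl⟩ := TD_top F hK' hcard'
      rw [X0.mark_graphSub hα, X0.mark_graphSub hα']
    · have hK' : ¬ TD F K' := fun h => hK (TD_gconj F (hR.symm hKK') h)
      rw [mark_eq_zero, mark_eq_zero]
      · intro x hx
        exact hK' (TD_mono F hx (X0.stab_TD x))
      · intro x hx
        exact hK (TD_mono F hx (X0.stab_TD x))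
  obtain ⟨X, hX, a, h1, h2, h3, h4⟩ := exists_stable p hpH hR (TD F)
    (fun K D h hD => TD_mono F h hD) (fun K K' h hK => TD_gconj F h hK)
    (MulAction.toPermHom ↥(S.prod S) (X0 F)) X0.stab_TD (Nat.card S) hM (p * Nat.card S)
    (fun D hD => dvd_index_of_card_lt p hS D hD)
  have := hX
  refine ⟨X, hX, a, h1, h2, ?_, ?_⟩
  · have h5 := h3 (graphSub (1 : MulAut ↥S)) (by rw [card_graphSub])
    rw [X0.mark_graphSub (F.autGroup S).one_mem] at h5
    have h6 : 0 < mark a (graphSub (1 : MulAut ↥S)) := by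
      rw [h5]
      exact Nat.card_pos
    obtain ⟨x₀, hx₀⟩ := (mark_pos_iff a _).1 h6
    exact ⟨x₀, hx₀⟩
  · obtain ⟨-, R, hRe⟩ := top_fullyAutomized p F hF
    have hidx : ¬ p ∣ (innIn F).index := by
      have := R.not_dvd_index
      rwa [hRe] at this
    rw [X0.card_eq] at h4
    have h7 : Nat.card X % (p * Nat.card S) = (innIn F).index % p * Nat.card S := by
      rw [h4, Nat.mul_mod_mul_right]
    refine ⟨p * (Nat.card X / (p * Nat.card S)) + (innIn F).index % p, ?_, ?_⟩
    · intro hdvd
      have h8 : p ∣ (innIn F).index % p := by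
        have h9 : p ∣ p * (Nat.card X / (p * Nat.card S)) := dvd_mul_right _ _
        exact (Nat.dvd_add_right h9).1 hdvd
      have h11 : (innIn F).index % p % p = 0 := Nat.mod_eq_zero_of_dvd h8
      rw [Nat.mod_mod] at h11
      exact hidx (Nat.dvd_of_mod_eq_zero h11)
    · have h10 := Nat.div_add_mod (Nat.card X) (p * Nat.card S)
      rw [h7] at h10
      generalize Nat.card X / (p * Nat.card S) = c at h10 ⊢
      rw [← h10]
      ring

end Cfsg.Agent.Helper26.CB
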