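import Mathlib
import Cfsg.Prelude.Def_FusionSystem
import Cfsg.Agent.Helper25.ParkMain
import Cfsg.Agent.Helper26.CB6

set_option autoImplicit false

/-!
The group of permutations of a characteristic biset commuting with the right action: it
contains `S` through the left action, and every map of the system is induced by conjugation
in it.
-/

namespace Cfsg.Agent.Helper26.CB

open Cfsg Cfsg.FusionSystem Cfsg.Agent.Helper25 Cfsg.Agent.Helper25.Park

universe u

variable {Ω : Type u} [Group Ω] {S : Subgroup Ω} {X : Type u}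

section acts

variable (a : ↥(S.prod S) →* Equiv.Perm X)

/-- The right action. -/
def rAct : ↥S →* Equiv.Perm X := a.comp ((mkH S).comp (MonoidHom.inr ↥S ↥S))

/-- The left action. -/
def lAct : ↥S →* Equiv.Perm X := a.comp ((mkH S).comp (MonoidHom.inl ↥S ↥S))

theorem rAct_apply (s : ↥S) : rAct a s = a (mkH S (1, s)) := rfl

theorem lAct_apply (u : ↥S) : lAct a u = a (mkH S (u, 1)) := rfl

theorem lAct_mul_rAct (u s : ↥S) : lAct a u * rAct a s = a (mkH S (u, s)) := by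
  rw [lAct_apply, rAct_apply, ← map_mul, ← map_mul]
  congr 2
  ext <;> simp

theorem rAct_mul_lAct (u s : ↥S) : rAct a s * lAct a u = a (mkH S (u, s)) := by
  rw [lAct_apply, rAct_apply, ← map_mul, ← map_mul]
  congr 2
  ext <;> simp

/-- The permutations commuting with the right action. -/
def Cen : Subgroup (Equiv.Perm X) := Subgroup.centralizer (Set.range (rAct a))

theorem mem_Cen_iff {g : Equiv.Perm X} : g ∈ Cen a ↔ ∀ s : ↥S, rAct a s * g = g * rAct a s := by
  unfold Cen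
  rw [Subgroup.mem_centralizer_iff]
  constructor
  · intro h s
    exact h _ ⟨s, rfl⟩
  · rintro h _ ⟨s, rfl⟩
    exact h s

theorem lAct_mem_Cen (u : ↥S) : lAct a u ∈ Cen a := by
  rw [mem_Cen_iff]
  intro s
  rw [rAct_mul_lAct, lAct_mul_rAct]

/-- The left action as a homomorphism into the commuting permutations. -/
def iota : ↥S →* ↥(Cen a) := (lAct a).codRestrict (Cen a) (lAct_mem_Cen a)

theorem coe_iota (u : ↥S) : ((iota a u : ↥(Cen a)) : Equiv.Perm X) = lAct a u := rfl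

theorem Cen_comm (g : ↥(Cen a)) (s : ↥S) (x : X) :
    rAct a s ((g : Equiv.Perm X) x) = (g : Equiv.Perm X) (rAct a s x) := by
  have := (mem_Cen_iff a).1 g.2 s
  exact congrArg (fun e : Equiv.Perm X => e x) this

theorem rAct_free (F : FusionSystem S) (hTD : ∀ x, TD F (stab a x)) {s : ↥S} {x : X}
    (h : rAct a s x = x) : s = 1 := by
  have h1 : mkH S (1, s) ∈ stab a x := h
  have := TD_free F (hTD x) h1 (by simp)
  simpa using this

theorem rAct_injective (F : FusionSystem S) (hTD : ∀ x, TD F (stab a x)) (x : X) :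
    Function.Injective (fun s : ↥S => rAct a s x) := by
  intro s s' h
  have h1 : rAct a (s'⁻¹ * s) x = x := by
    rw [map_mul, Equiv.Perm.mul_apply, map_inv, Equiv.Perm.inv_eq_iff_eq]
    exact h
  have := rAct_free a F hTD h1
  exact (inv_mul_eq_one.1 this).symm

/-- Every map of the system is induced by conjugation by a permutation commuting with the right
action. -/
theorem exists_cen_conj [Finite S] [Finite X] (F : FusionSystem S)
    (hst : ∀ K K' : Subgroup ↥(S.prod S), GConj (prodSystem F F) K K' → mark a K = mark a K')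
    {P : Subgroup Ω} (hP : P ≤ S) {φ : P →* Ω} (hφ : φ ∈ F.Hom P) (hφS : ∀ x, φ x ∈ S) :
    ∃ g : ↥(Cen a), ∀ x : P, iota a ⟨φ x, hφS x⟩ = g * iota a ⟨x, hP x.2⟩ * g⁻¹ := by
  set f₁ : ↥P × ↥S →* ↥(S.prod S) :=
    (mkH S).comp ((Subgroup.inclusion hP).prodMap (MonoidHom.id ↥S)) with hf₁
  set f₂ : ↥P × ↥S →* ↥(S.prod S) :=
    (mkH S).comp ((φ.codRestrict S hφS).prodMap (MonoidHom.id ↥S)) with hf₂
  have hf₁c : ∀ k : ↥P × ↥S, ((f₁ k : ↥(S.prod S)) : Ω × Ω) = ((k.1 : Ω), (k.2 : Ω)) :=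
    fun k => rfl
  have hf₂c : ∀ k : ↥P × ↥S, ((f₂ k : ↥(S.prod S)) : Ω × Ω) = (φ k.1, (k.2 : Ω)) :=
    fun k => rfl
  have hconj : ∀ K : Subgroup (↥P × ↥S), GConj (prodSystem F F) (K.map f₁) (K.map f₂) := by
    intro K
    have h₁ : ((K.map f₁).map (S.prod S).subtype).map (MonoidHom.fst Ω Ω) ≤ P := by
      rintro _ ⟨_, ⟨_, ⟨k, hk, rfl⟩, rfl⟩, rfl⟩
      exact k.1.2
    have h₂ : ((K.map f₁).map (S.prod S).subtype).map (MonoidHom.snd Ω Ω) ≤ S := by
      rintro _ ⟨_, ⟨_, ⟨k, hk, rfl⟩, rfl⟩, rfl⟩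
      exact k.2.2
    refine ⟨pairHom h₁ h₂ φ S.subtype,
      pairHom_mem (prodSystem_isProductSystem F F) (map_subtype_le _) h₁ h₂ hφ
        (subtype_mem F le_rfl), ?_⟩
    ext y
    constructor
    · rintro ⟨⟨_, ⟨_, ⟨k, hk, rfl⟩, rfl⟩⟩, rfl⟩
      refine ⟨f₂ k, ⟨k, hk, rfl⟩, ?_⟩
      rw [pairHom_apply]
      rfl
    · rintro ⟨_, ⟨k, hk, rfl⟩, rfl⟩
      refine ⟨⟨((f₁ k : ↥(S.prod S)) : Ω × Ω), ⟨_, ⟨k, hk, rfl⟩, rfl⟩⟩, ?_⟩
      rw [pairHom_apply]
      rfl
  have hm : ∀ K : Subgroup (↥P × ↥S),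
      Nat.card {x : X // ∀ k ∈ K, (a.comp f₁) k x = x} =
        Nat.card {x : X // ∀ k ∈ K, (a.comp f₂) k x = x} := by
    intro K
    rw [card_fixed_comp, card_fixed_comp]
    exact hst _ _ (hconj K)
  obtain ⟨e, he⟩ := marks_perm (a.comp f₁) (a.comp f₂) hm
  have heC : e ∈ Cen a := by
    rw [mem_Cen_iff]
    intro s
    ext x
    have h3 : e (a (f₁ ((1 : ↥P), s)) x) = a (f₂ ((1 : ↥P), s)) (e x) := he ((1 : ↥P), s) x
    simp only [Equiv.Perm.mul_apply]
    have e1 : f₁ ((1 : ↥P), s) = mkH S (1, s) := by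
      apply Subtype.ext
      rw [hf₁c]
      rfl
    have e2 : f₂ ((1 : ↥P), s) = mkH S (1, s) := by
      apply Subtype.ext
      rw [hf₂c, map_one]
      rfl
    rw [e1, e2] at h3
    exact h3.symm
  refine ⟨⟨e, heC⟩, fun x => ?_⟩
  rw [eq_mul_inv_iff_mul_eq]
  apply Subtype.ext
  ext y
  have := he (x, (1 : ↥S)) y
  exact this.symm

end acts

end Cfsg.Agent.Helper26.CB
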