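import Mathlib
import Cfsg.Prelude.Def_FusionSystem
import Cfsg.Agent.Helper26.CB7

set_option autoImplicit false

/-!
The transfer from the group of permutations of a characteristic biset commuting with the right
action into the abelianization of `S`.
-/

namespace Cfsg.Agent.Helper26.CB

open Cfsg Cfsg.FusionSystem Cfsg.Agent.Helper25 Cfsg.Agent.Helper25.Park

universe u

variable {Ω : Type u} [Group Ω] {S : Subgroup Ω} {X : Type u}

section transfer

variable (a : ↥(S.prod S) →* Equiv.Perm X) (x₀ : X)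

/-- The commuting permutations carrying the base point into its orbit under the right action. -/
def H0 : Subgroup ↥(Cen a) where
  carrier := {g | ∃ s : ↥S, (g : Equiv.Perm X) x₀ = rAct a s x₀}
  one_mem' := ⟨1, by simp⟩
  mul_mem' := by
    rintro g g' ⟨s, hs⟩ ⟨s', hs'⟩
    refine ⟨s' * s, ?_⟩
    rw [Subgroup.coe_mul, Equiv.Perm.mul_apply, hs', ← Cen_comm, hs, map_mul, Equiv.Perm.mul_apply]
  inv_mem' := by
    rintro g ⟨s, hs⟩
    refine ⟨s⁻¹, ?_⟩
    rw [Subgroup.coe_inv, Equiv.Perm.inv_eq_iff_eq, ← Cen_comm, hs, ← Equiv.Perm.mul_apply,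
      ← map_mul, inv_mul_cancel, map_one]
    rfl

theorem mem_H0 {g : ↥(Cen a)} :
    g ∈ H0 a x₀ ↔ ∃ s : ↥S, (g : Equiv.Perm X) x₀ = rAct a s x₀ := Iff.rfl

/-- The element of `S` by which a member of `H0` moves the base point. -/
noncomputable def sOf (g : ↥(H0 a x₀)) : ↥S := Classical.choose g.2

theorem sOf_spec (g : ↥(H0 a x₀)) :
    ((g : ↥(Cen a)) : Equiv.Perm X) x₀ = rAct a (sOf a x₀ g) x₀ := Classical.choose_spec g.2

variable (F : FusionSystem S) (hTD : ∀ x, TD F (stab a x))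

include hTD in
theorem sOf_eq {g : ↥(H0 a x₀)} {s : ↥S}
    (h : ((g : ↥(Cen a)) : Equiv.Perm X) x₀ = rAct a s x₀) : sOf a x₀ g = s := by
  apply rAct_injective a F hTD x₀
  show rAct a (sOf a x₀ g) x₀ = rAct a s x₀
  rw [← sOf_spec, h]

include hTD in
theorem sOf_mul (g g' : ↥(H0 a x₀)) : sOf a x₀ (g * g') = sOf a x₀ g' * sOf a x₀ g := by
  apply sOf_eq a x₀ F hTD
  rw [Subgroup.coe_mul, Subgroup.coe_mul, Equiv.Perm.mul_apply, sOf_spec, ← Cen_comm, sOf_spec,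
    map_mul, Equiv.Perm.mul_apply]

/-- The homomorphism from `H0` to the abelianization of `S`. -/
noncomputable def phi : ↥(H0 a x₀) →* Abelianization ↥S :=
  MonoidHom.mk' (fun g => (Abelianization.of (sOf a x₀ g))⁻¹) (by
    intro g g'
    rw [sOf_mul a x₀ F hTD, map_mul, mul_inv_rev, mul_comm])

theorem phi_apply (g : ↥(H0 a x₀)) :
    phi a x₀ F hTD g = (Abelianization.of (sOf a x₀ g))⁻¹ := rfl

variable (hx₀ : ∀ k ∈ graphSub (1 : MulAut ↥S), a k x₀ = x₀)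

include hx₀ in
theorem lAct_base (u : ↥S) : lAct a u x₀ = rAct a u⁻¹ x₀ := by
  have h1 : mkH S (u, u) ∈ graphSub (1 : MulAut ↥S) := by
    rw [mem_graphSub]
    simp
  have h2 := hx₀ _ h1
  have e : mkH S (u, 1) = mkH S (1, u⁻¹) * mkH S (u, u) := by
    rw [← map_mul]
    congr 1
    ext <;> simp
  rw [lAct_apply, e, map_mul, Equiv.Perm.mul_apply, h2]
  rfl

include hx₀ in
theorem iota_mem_H0 (u : ↥S) : iota a u ∈ H0 a x₀ :=
  ⟨u⁻¹, lAct_base a x₀ hx₀ u⟩

include hx₀ in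
theorem phi_iota (u : ↥S) :
    phi a x₀ F hTD ⟨iota a u, iota_mem_H0 a x₀ hx₀ u⟩ = Abelianization.of u := by
  rw [phi_apply, sOf_eq a x₀ F hTD (s := u⁻¹) (lAct_base a x₀ hx₀ u), map_inv, inv_inv]

/-- The key computation for central elements. -/
theorem phi_conj_center {Z : Subgroup Ω} (hZ : F.IsCentral Z) {z : ↥S} (hz : (z : Ω) ∈ Z)
    (g₀ : ↥(Cen a)) (n : ℕ) (hmem : g₀⁻¹ * iota a z ^ n * g₀ ∈ H0 a x₀) :
    phi a x₀ F hTD ⟨_, hmem⟩ = Abelianization.of z ^ n := by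
  rw [phi_apply]
  set s : ↥S := sOf a x₀ ⟨_, hmem⟩ with hs
  have h1 := sOf_spec a x₀ ⟨_, hmem⟩
  rw [← hs] at h1
  have h2 : ((g₀⁻¹ * iota a z ^ n * g₀ : ↥(Cen a)) : Equiv.Perm X) x₀ = rAct a s x₀ := h1
  rw [Subgroup.coe_mul, Subgroup.coe_mul, Subgroup.coe_inv, Equiv.Perm.mul_apply,
    Equiv.Perm.mul_apply, Equiv.Perm.inv_eq_iff_eq, ← Cen_comm, ← map_pow, coe_iota] at h2
  -- with `x = g₀ x₀`
  have h3 : mkH S (z ^ n, s⁻¹) ∈ stab a ((g₀ : Equiv.Perm X) x₀) := by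
    rw [mem_stab, ← rAct_mul_lAct, Equiv.Perm.mul_apply, h2, ← Equiv.Perm.mul_apply, ← map_mul,
      inv_mul_cancel, map_one]
    rfl
  have h4 := TD_center F (hTD _) hZ h3 (by
    simp only [pL_mkH]
    rw [Subgroup.coe_pow]
    exact Z.pow_mem hz n)
  simp only [pR_mkH, pL_mkH] at h4
  rw [← map_inv, h4, map_pow]

end transfer

end Cfsg.Agent.Helper26.CB
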