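import Mathlib
import Cfsg.Prelude.Def_FusionSystem
import Cfsg.Agent.Helper26.CB8

set_option autoImplicit false

/-!
The transfer on a characteristic biset: values on the centre of the system, vanishing on the
focal subgroup, and the index of the subgroup transferred to.
-/

namespace Cfsg.Agent.Helper26.CB

open Cfsg Cfsg.FusionSystem Cfsg.Agent.Helper25 Cfsg.Agent.Helper25.Park

universe u

/-- For a free action, a permutation commuting with the action and carrying a given point to a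
given point of another orbit. -/
theorem exists_swap {A : Type*} [Group A] {X : Type*} (r : A →* Equiv.Perm X)
    (hfree : ∀ s x, r s x = x → s = 1) (x₀ x₁ : X) (hne : ∀ s, r s x₀ ≠ x₁) :
    ∃ σ : Equiv.Perm X, (∀ s, r s * σ = σ * r s) ∧ σ x₀ = x₁ := by
  classical
  have hinj : ∀ x s s', r s x = r s' x → s = s' := by
    intro x s s' h
    have h1 : r (s'⁻¹ * s) x = x := by
      rw [map_mul, Equiv.Perm.mul_apply, map_inv, Equiv.Perm.inv_eq_iff_eq]
      exact h
    exact (inv_mul_eq_one.1 (hfree _ _ h1)).symm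
  have hdisj : ∀ s s', r s x₀ ≠ r s' x₁ := by
    intro s s' h
    apply hne (s'⁻¹ * s)
    rw [map_mul, Equiv.Perm.mul_apply, map_inv, Equiv.Perm.inv_eq_iff_eq]
    exact h
  let f : X → X := fun y => if h : ∃ s, r s x₀ = y then r (Classical.choose h) x₁
    else if h' : ∃ s, r s x₁ = y then r (Classical.choose h') x₀ else y
  have f0 : ∀ s, f (r s x₀) = r s x₁ := by
    intro s
    have h : ∃ s', r s' x₀ = r s x₀ := ⟨s, rfl⟩
    show (if h : ∃ s', r s' x₀ = r s x₀ then r (Classical.choose h) x₁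
      else if h' : ∃ s', r s' x₁ = r s x₀ then r (Classical.choose h') x₀ else r s x₀) = _
    rw [dif_pos h, hinj _ _ _ (Classical.choose_spec h)]
  have f1 : ∀ s, f (r s x₁) = r s x₀ := by
    intro s
    have h : ¬ ∃ s', r s' x₀ = r s x₁ := fun ⟨s', hs'⟩ => hdisj _ _ hs'
    have h' : ∃ s', r s' x₁ = r s x₁ := ⟨s, rfl⟩
    show (if h : ∃ s', r s' x₀ = r s x₁ then r (Classical.choose h) x₁
      else if h' : ∃ s', r s' x₁ = r s x₁ then r (Classical.choose h') x₀ else r s x₁) = _
    rw [dif_neg h, dif_pos h', hinj _ _ _ (Classical.choose_spec h')]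
  have f2 : ∀ y, (¬ ∃ s, r s x₀ = y) → (¬ ∃ s, r s x₁ = y) → f y = y := by
    intro y h h'
    show (if h : ∃ s', r s' x₀ = y then r (Classical.choose h) x₁
      else if h' : ∃ s', r s' x₁ = y then r (Classical.choose h') x₀ else y) = _
    rw [dif_neg h, dif_neg h']
  have hinv : Function.Involutive f := by
    intro y
    by_cases h : ∃ s, r s x₀ = y
    · obtain ⟨s, rfl⟩ := h
      rw [f0, f1]
    · by_cases h' : ∃ s, r s x₁ = y
      · obtain ⟨s, rfl⟩ := h'
        rw [f1, f0]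
      · rw [f2 y h h', f2 y h h']
  have hcomm : ∀ t y, f (r t y) = r t (f y) := by
    intro t y
    by_cases h : ∃ s, r s x₀ = y
    · obtain ⟨s, rfl⟩ := h
      rw [f0, ← Equiv.Perm.mul_apply, ← map_mul, f0, map_mul, Equiv.Perm.mul_apply]
    · by_cases h' : ∃ s, r s x₁ = y
      · obtain ⟨s, rfl⟩ := h'
        rw [f1, ← Equiv.Perm.mul_apply, ← map_mul, f1, map_mul, Equiv.Perm.mul_apply]
      · rw [f2 y h h', f2]
        · rintro ⟨s, hs⟩
          apply h
          refine ⟨t⁻¹ * s, ?_⟩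
          rw [map_mul, Equiv.Perm.mul_apply, hs, map_inv, Equiv.Perm.inv_eq_iff_eq]
        · rintro ⟨s, hs⟩
          apply h'
          refine ⟨t⁻¹ * s, ?_⟩
          rw [map_mul, Equiv.Perm.mul_apply, hs, map_inv, Equiv.Perm.inv_eq_iff_eq]
  refine ⟨hinv.toPerm f, ?_, ?_⟩
  · intro t
    ext y
    simp only [Equiv.Perm.mul_apply, Function.Involutive.coe_toPerm]
    exact (hcomm t y).symm
  · show f x₀ = x₁
    have := f0 1
    simpa using this

variable {Ω : Type u} [Group Ω] {S : Subgroup Ω} {X : Type u}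

section transfer

variable (a : ↥(S.prod S) →* Equiv.Perm X) (x₀ : X) (F : FusionSystem S)
  (hTD : ∀ x, TD F (stab a x)) (hx₀ : ∀ k ∈ graphSub (1 : MulAut ↥S), a k x₀ = x₀)

include hTD hx₀ in
/-- The commuting permutations act transitively. -/
theorem exists_cen_apply_eq (x : X) : ∃ g : ↥(Cen a), (g : Equiv.Perm X) x₀ = x := by
  by_cases h : ∃ s, rAct a s x₀ = x
  · obtain ⟨s, rfl⟩ := h
    refine ⟨iota a s⁻¹, ?_⟩
    rw [coe_iota, lAct_base a x₀ hx₀, inv_inv]
  · obtain ⟨σ, hσ, hσx⟩ := exists_swap (rAct a) (fun s x hs => rAct_free a F hTD hs) x₀ x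
      (fun s hs => h ⟨s, hs⟩)
    exact ⟨⟨σ, (mem_Cen_iff a).2 hσ⟩, hσx⟩

include hTD hx₀ in
/-- The index of `H0`. -/
theorem card_eq_mul_index [Finite S] [Finite X] :
    Nat.card X = Nat.card S * (H0 a x₀).index := by
  have h1 : (MulAction.stabilizer ↥(Cen a) x₀).index = Nat.card X := by
    rw [MulAction.index_stabilizer]
    have : MulAction.orbit ↥(Cen a) x₀ = Set.univ := by
      ext x
      simp only [Set.mem_univ, iff_true]
      obtain ⟨g, hg⟩ := exists_cen_apply_eq a x₀ F hTD hx₀ x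
      exact ⟨g, hg⟩
    rw [this, Set.ncard_univ]
  have h2 : MulAction.stabilizer ↥(Cen a) x₀ ≤ H0 a x₀ := by
    intro g hg
    rw [MulAction.mem_stabilizer_iff] at hg
    refine ⟨1, ?_⟩
    rw [map_one]
    exact hg
  have h3 : (MulAction.stabilizer ↥(Cen a) x₀).relIndex (H0 a x₀) = Nat.card S := by
    have e : (MulAction.stabilizer ↥(Cen a) x₀).subgroupOf (H0 a x₀) =
        MulAction.stabilizer ↥(H0 a x₀) x₀ := by
      ext g
      rw [Subgroup.mem_subgroupOf, MulAction.mem_stabilizer_iff, MulAction.mem_stabilizer_iff]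
      rfl
    unfold Subgroup.relIndex
    rw [e, MulAction.index_stabilizer]
    have : MulAction.orbit ↥(H0 a x₀) x₀ = Set.range (fun s : ↥S => rAct a s x₀) := by
      ext x
      constructor
      · rintro ⟨g, rfl⟩
        obtain ⟨s, hs⟩ := g.2
        exact ⟨s, hs.symm⟩
      · rintro ⟨s, rfl⟩
        refine ⟨⟨iota a s⁻¹, iota_mem_H0 a x₀ hx₀ s⁻¹⟩, ?_⟩
        show lAct a s⁻¹ x₀ = _
        rw [lAct_base a x₀ hx₀, inv_inv]
    rw [this, Set.ncard_range_of_injective (rAct_injective a F hTD x₀)]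
  rw [← h1, ← Subgroup.relIndex_mul_index h2, h3]

/-- The transfer. -/
noncomputable def trf [Finite X] : ↥(Cen a) →* Abelianization ↥S :=
  MonoidHom.transfer (phi a x₀ F hTD)

theorem trf_iota_center [Finite X] {Z : Subgroup Ω} (hZ : F.IsCentral Z) {z : ↥S}
    (hz : (z : Ω) ∈ Z) :
    trf a x₀ F hTD (iota a z) = Abelianization.of z ^ (H0 a x₀).index := by
  classical
  let _ : Fintype (Quotient (MulAction.orbitRel (Subgroup.zpowers (iota a z))
    (↥(Cen a) ⧸ H0 a x₀))) := Fintype.ofFinite _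
  unfold trf
  rw [MonoidHom.transfer_eq_prod_quotient_orbitRel_zpowers_quot]
  rw [Finset.prod_congr rfl (fun q _ => phi_conj_center a x₀ F hTD hZ hz q.out.out _ _)]
  rw [Finset.prod_pow_eq_pow_sum, ← Subgroup.index_eq_sum_minimalPeriod]

theorem trf_iota_focal [Finite S] [Finite X]
    (hst : ∀ K K' : Subgroup ↥(S.prod S), GConj (prodSystem F F) K K' → mark a K = mark a K') :
    F.focalSubgroup ≤ ((trf a x₀ F hTD).comp (iota a)).ker.map S.subtype := by
  unfold FusionSystem.focalSubgroup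
  rw [Subgroup.closure_le]
  rintro y ⟨P, φ, x, hφ, rfl⟩
  obtain ⟨hP, hφS⟩ := F.le_of_mem hφ
  obtain ⟨g, hg⟩ := exists_cen_conj a F hst hP hφ hφS
  refine ⟨(⟨(x : Ω), hP x.2⟩ : ↥S)⁻¹ * ⟨φ x, hφS x⟩, ?_, rfl⟩
  show _ ∈ ((trf a x₀ F hTD).comp (iota a)).ker
  rw [MonoidHom.mem_ker, MonoidHom.comp_apply, map_mul, map_mul, hg x]
  simp only [map_mul, map_inv]
  rw [mul_comm (trf a x₀ F hTD g), mul_inv_cancel_right, inv_mul_cancel]

end transfer

end Cfsg.Agent.Helper26.CB
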