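import Mathlib
import Cfsg.Prelude.Def_FusionSystem
import Cfsg.Agent.S5144
import Cfsg.Agent.Helper26.CB9

set_option autoImplicit false

/-!
The centre of a saturated fusion system over a finite `p`-group `S` meets the focal subgroup
inside the derived subgroup of `S`.
-/

namespace Cfsg.Agent.Helper26.CB

open Cfsg Cfsg.FusionSystem Cfsg.Agent.Helper25 Cfsg.Agent.Helper25.Park

universe u

variable {Ω : Type u} [Group Ω] {S : Subgroup Ω}

/-- A homomorphism from `S` to an abelian group, trivial on the focal subgroup, sending every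
element of a central subgroup of the system to a fixed power of its class prime to `p`. -/
theorem exists_transfer [Finite S] (p : ℕ) [Fact p.Prime] (hS : IsPGroup p S)
    (F : FusionSystem S) (hF : F.IsSaturated p) :
    ∃ (V : ↥S →* Abelianization ↥S) (k : ℕ), ¬ p ∣ k ∧
      F.focalSubgroup ≤ V.ker.map S.subtype ∧
      ∀ (Z : Subgroup Ω), F.IsCentral Z → ∀ z : ↥S, (z : Ω) ∈ Z →
        V z = Abelianization.of z ^ k := by
  obtain ⟨X, hX, a, hTD, hst, ⟨x₀, hx₀⟩, ⟨k, hk, hcard⟩⟩ := exists_charBiset p hS F hF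
  have := hX
  have hidx : (H0 a x₀).index = k := by
    have h1 := card_eq_mul_index a x₀ F hTD hx₀
    rw [hcard, mul_comm] at h1
    exact (Nat.eq_of_mul_eq_mul_left Nat.card_pos h1).symm
  refine ⟨(trf a x₀ F hTD).comp (iota a), k, hk, trf_iota_focal a x₀ F hTD hst, ?_⟩
  intro Z hZ z hz
  rw [MonoidHom.comp_apply, trf_iota_center a x₀ F hTD hZ hz, hidx]

theorem center_inf_focal_le [Finite S] (p : ℕ) [Fact p.Prime] (hS : IsPGroup p S)
    (F : FusionSystem S) (hF : F.IsSaturated p) :
    F.center ⊓ F.focalSubgroup ≤ ⁅S, S⁆ := by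
  obtain ⟨V, k, hk, hfoc, hcen⟩ := exists_transfer p hS F hF
  have hZ : F.IsCentral F.center := Cfsg.Agent.S5144.result F
  intro z hz
  obtain ⟨hz1, hz2⟩ := Subgroup.mem_inf.mp hz
  obtain ⟨z', hz', rfl⟩ := hfoc hz2
  have h1 : V z' = 1 := hz'
  have h2 := hcen F.center hZ z' hz1
  rw [h1] at h2
  have h3 : Abelianization.of z' ^ Nat.card S = 1 := by
    rw [← map_pow, pow_card_eq_one', map_one]
  have hp : p.Prime := Fact.out
  obtain ⟨n, hn⟩ := IsPGroup.iff_card.mp hS
  have hcop : Nat.Coprime k (Nat.card S) := by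
    rw [hn]
    exact Nat.Coprime.pow_right n ((Nat.Prime.coprime_iff_not_dvd hp).2 hk).symm
  have h4 : orderOf (Abelianization.of z') ∣ 1 := by
    rw [← Nat.Coprime.gcd_eq_one hcop]
    exact Nat.dvd_gcd (orderOf_dvd_of_pow_eq_one h2.symm) (orderOf_dvd_of_pow_eq_one h3)
  have h5 : Abelianization.of z' = 1 := orderOf_eq_one_iff.1 (Nat.dvd_one.1 h4)
  have h6 : z' ∈ commutator ↥S := by
    rw [← Abelianization.ker_of]
    exact h5
  rw [← Subgroup.map_subtype_commutator]
  exact ⟨z', h6, rfl⟩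

end Cfsg.Agent.Helper26.CB
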