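import Mathlib
import Cfsg.Prelude.Def_FusionSystem
import Cfsg.Agent.Helper26.CB10

set_option autoImplicit false

/-!
The transfer of a saturated fusion system on elements all of whose powers are moved by the maps
of the system only modulo the derived subgroup of `S`.
-/

namespace Cfsg.Agent.Helper26.CB

open Cfsg Cfsg.FusionSystem Cfsg.Agent.Helper25 Cfsg.Agent.Helper25.Park

universe u

variable {Ω : Type u} [Group Ω] {S : Subgroup Ω} {X : Type u}

/-- Every power of `z` is moved by the maps of the system only modulo the derived subgroup. -/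
def WeakCentral (F : FusionSystem S) (z : ↥S) : Prop :=
  ∀ (n : ℕ) (P : Subgroup Ω) (ψ : P →* Ω), ψ ∈ F.Hom P → ∀ (h : ((z : Ω)) ^ n ∈ P) (s : ↥S),
    ψ ⟨(z : Ω) ^ n, h⟩ = (s : Ω) → Abelianization.of s = Abelianization.of z ^ n

section transfer

variable (a : ↥(S.prod S) →* Equiv.Perm X) (x₀ : X) (F : FusionSystem S)
  (hTD : ∀ x, TD F (stab a x))

theorem phi_conj_weak {z : ↥S} (hz : WeakCentral F z)
    (g₀ : ↥(Cen a)) (n : ℕ) (hmem : g₀⁻¹ * iota a z ^ n * g₀ ∈ H0 a x₀) :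
    phi a x₀ F hTD ⟨_, hmem⟩ = Abelianization.of z ^ n := by
  rw [phi_apply]
  set s : ↥S := sOf a x₀ ⟨_, hmem⟩ with hs
  have h1 := sOf_spec a x₀ ⟨_, hmem⟩
  rw [← hs] at h1
  have h2 : ((g₀⁻¹ * iota a z ^ n * g₀ : ↥(Cen a)) : Equiv.Perm X) x₀ = rAct a s x₀ := h1
  rw [Subgroup.coe_mul, Subgroup.coe_mul, Subgroup.coe_inv, Equiv.Perm.mul_apply,
    Equiv.Perm.mul_apply, Equiv.Perm.inv_eq_iff_eq, ← Cen_comm, ← map_pow, coe_iota] at h2
  have h3 : mkH S (z ^ n, s⁻¹) ∈ stab a ((g₀ : Equiv.Perm X) x₀) := by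
    rw [mem_stab, ← rAct_mul_lAct, Equiv.Perm.mul_apply, h2, ← Equiv.Perm.mul_apply, ← map_mul,
      inv_mul_cancel, map_one]
    rfl
  obtain ⟨Q, ψ, hψ, hall⟩ := hTD ((g₀ : Equiv.Perm X) x₀)
  obtain ⟨hq, he⟩ := hall _ h3
  have h4 := hz n Q ψ hψ hq s⁻¹ he
  rw [← map_inv, h4]

theorem trf_iota_weak [Finite X] {z : ↥S} (hz : WeakCentral F z) :
    trf a x₀ F hTD (iota a z) = Abelianization.of z ^ (H0 a x₀).index := by
  classical
  let _ : Fintype (Quotient (MulAction.orbitRel (Subgroup.zpowers (iota a z))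
    (↥(Cen a) ⧸ H0 a x₀))) := Fintype.ofFinite _
  unfold trf
  rw [MonoidHom.transfer_eq_prod_quotient_orbitRel_zpowers_quot]
  rw [Finset.prod_congr rfl (fun q _ => phi_conj_weak a x₀ F hTD hz q.out.out _ _)]
  rw [Finset.prod_pow_eq_pow_sum, ← Subgroup.index_eq_sum_minimalPeriod]

end transfer

theorem exists_transfer_weak [Finite S] (p : ℕ) [Fact p.Prime] (hS : IsPGroup p S)
    (F : FusionSystem S) (hF : F.IsSaturated p) :
    ∃ (V : ↥S →* Abelianization ↥S) (k : ℕ), ¬ p ∣ k ∧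
      F.focalSubgroup ≤ V.ker.map S.subtype ∧
      ∀ z : ↥S, WeakCentral F z → V z = Abelianization.of z ^ k := by
  obtain ⟨X, hX, a, hTD, hst, ⟨x₀, hx₀⟩, ⟨k, hk, hcard⟩⟩ := exists_charBiset p hS F hF
  have := hX
  have hidx : (H0 a x₀).index = k := by
    have h1 := card_eq_mul_index a x₀ F hTD hx₀
    rw [hcard, mul_comm] at h1
    exact (Nat.eq_of_mul_eq_mul_left Nat.card_pos h1).symm
  refine ⟨(trf a x₀ F hTD).comp (iota a), k, hk, trf_iota_focal a x₀ F hTD hst, ?_⟩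
  intro z hz
  rw [MonoidHom.comp_apply, trf_iota_weak a x₀ F hTD hz, hidx]

/-- An element of the focal subgroup all of whose powers are moved by the maps of the system
only modulo the derived subgroup lies in the derived subgroup. -/
theorem mem_commutator_of_weakCentral [Finite S] (p : ℕ) [Fact p.Prime] (hS : IsPGroup p S)
    (F : FusionSystem S) (hF : F.IsSaturated p) {z : ↥S} (hz : WeakCentral F z)
    (hzf : (z : Ω) ∈ F.focalSubgroup) : (z : Ω) ∈ ⁅S, S⁆ := by
  obtain ⟨V, k, hk, hfoc, hcen⟩ := exists_transfer_weak p hS F hF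
  obtain ⟨z', hz', hzz'⟩ := hfoc hzf
  have hzz : z' = z := Subtype.ext hzz'
  rw [hzz] at hz'
  have h1 : V z = 1 := hz'
  have h2 := hcen z hz
  rw [h1] at h2
  have h3 : Abelianization.of z ^ Nat.card S = 1 := by
    rw [← map_pow, pow_card_eq_one', map_one]
  have hp : p.Prime := Fact.out
  obtain ⟨n, hn⟩ := IsPGroup.iff_card.mp hS
  have hcop : Nat.Coprime k (Nat.card S) := by
    rw [hn]
    exact Nat.Coprime.pow_right n ((Nat.Prime.coprime_iff_not_dvd hp).2 hk).symm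
  have h4 : orderOf (Abelianization.of z) ∣ 1 := by
    rw [← Nat.Coprime.gcd_eq_one hcop]
    exact Nat.dvd_gcd (orderOf_dvd_of_pow_eq_one h2.symm) (orderOf_dvd_of_pow_eq_one h3)
  have h5 : Abelianization.of z = 1 := orderOf_eq_one_iff.1 (Nat.dvd_one.1 h4)
  have h6 : z ∈ commutator ↥S := by
    rw [← Abelianization.ker_of]
    exact h5
  rw [← Subgroup.map_subtype_commutator]
  exact ⟨z, h6, rfl⟩

end Cfsg.Agent.Helper26.CB
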