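import Mathlib
import Cfsg.Prelude.Def_ClassicalGeometry
import Cfsg.Agent.Helper1.S5956Defs

/-! S5956 piece STEPODD (driver helper1): a unipotent symplectic isometry of odd nilpotency
index `e` has a nondegenerate invariant subspace which is a sum of two cyclic blocks of size `e`.

The sub-namespace `STEPODD` contains a generic block lemma (`STEPODD.exists_block`): given vectors
`vec t`, `dual t` (`t : T`) with `B (vec s) ((y-1)^(e-1) (dual t)) = δ_st c_t`, `c_t ≠ 0`, and
`dual t ∈ span (vec)`, the span of the `(y-1)^j (vec t)` (`j < e`) is invariant, nondegenerate, and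
meets `ker (y-1)^i` in dimension `|T| * min i e`. -/

set_option autoImplicit false
open scoped MatrixGroups
universe u
namespace Cfsg.Agent.S5956P
open Polynomial Cfsg.Agent.Helper2.SympInvol Cfsg.Agent.Helper2.SympUnits Cfsg.Agent.S5961P
  Cfsg.Agent.S5955P Cfsg.Agent.Helper2.InvolComb

namespace STEPODD

variable {F V : Type*} [Field F] [AddCommGroup V] [Module F V]

section basics

variable (B : LinearMap.BilinForm F V) (halt : ∀ v, B v v = 0) (y : Module.End F V)
  (hy : ∀ u v, B (y u) (y v) = B u v)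

include halt in
lemma skew (x z : V) : B x z = - B z x := by
  have h := halt (x + z)
  simp only [map_add, LinearMap.add_apply, halt] at h
  linear_combination h

include hy in
lemma adj_one (x z : V) : B ((y - 1) x) z = - B (y x) ((y - 1) z) := by
  simp only [LinearMap.sub_apply, Module.End.one_apply, map_sub, hy]
  ring

include hy in
lemma adj_pow (i : ℕ) (x z : V) :
    B (((y - 1) ^ i) x) z = (-1) ^ i * B ((y ^ i) x) (((y - 1) ^ i) z) := by
  induction i generalizing x z with
  | zero => simp
  | succ i ih =>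
    have hc : Commute (y ^ i) (y - 1) :=
      ((Commute.refl y).sub_right (Commute.one_right y)).pow_left i
    have h1 : ((y - 1) ^ (i + 1)) x = ((y - 1) ^ i) ((y - 1) x) := by
      rw [pow_succ, Module.End.mul_apply]
    have h2 : (y ^ i) ((y - 1) x) = (y - 1) ((y ^ i) x) := by
      rw [← Module.End.mul_apply, ← Module.End.mul_apply, hc.eq]
    have h3 : (y ^ (i + 1)) x = y ((y ^ i) x) := by
      rw [pow_succ', Module.End.mul_apply]
    have h4 : ((y - 1) ^ (i + 1)) z = (y - 1) (((y - 1) ^ i) z) := by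
      rw [pow_succ', Module.End.mul_apply]
    rw [h1, ih, h2, adj_one B y hy, h3, h4]
    ring

include hy in
lemma vanish (e : ℕ) (hnil : (y - 1) ^ e = 0) (i j : ℕ) (hij : e ≤ i + j) (x z : V) :
    B (((y - 1) ^ i) x) (((y - 1) ^ j) z) = 0 := by
  rw [adj_pow B y hy, ← Module.End.mul_apply ((y - 1) ^ i) ((y - 1) ^ j), ← pow_add,
    pow_eq_zero_of_le hij hnil]
  simp

include hy in
lemma beta_inv (e : ℕ) (he : 0 < e) (hnil : (y - 1) ^ e = 0) (i : ℕ) (x z : V) :
    B ((y ^ i) x) (((y - 1) ^ (e - 1)) z) = B x (((y - 1) ^ (e - 1)) z) := by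
  induction i generalizing x with
  | zero => simp
  | succ i ih =>
    rw [pow_succ, Module.End.mul_apply, ih]
    have h1 : y x = x + (y - 1) x := by simp
    have h2 := vanish B y hy e hnil 1 (e - 1) (by omega) x z
    rw [pow_one] at h2
    rw [h1, map_add, LinearMap.add_apply, h2, add_zero]

include hy in
lemma top_pair (e : ℕ) (he : 0 < e) (hnil : (y - 1) ^ e = 0) (i j : ℕ) (hij : i + j + 1 = e)
    (x z : V) :
    B (((y - 1) ^ i) x) (((y - 1) ^ j) z) = (-1) ^ i * B x (((y - 1) ^ (e - 1)) z) := by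
  rw [adj_pow B y hy, ← Module.End.mul_apply ((y - 1) ^ i) ((y - 1) ^ j), ← pow_add]
  have h : i + j = e - 1 := by omega
  rw [h, beta_inv B y hy e he hnil]

include halt hy in
lemma beta_skew (e : ℕ) (he : Odd e) (hnil : (y - 1) ^ e = 0) (x z : V) :
    B z (((y - 1) ^ (e - 1)) x) = - B x (((y - 1) ^ (e - 1)) z) := by
  have he0 : 0 < e := he.pos
  rw [skew B halt z, adj_pow B y hy, beta_inv B y hy e he0 hnil]
  have hev : Even (e - 1) := by
    obtain ⟨k, hk⟩ := he
    exact ⟨k, by omega⟩
  rw [hev.neg_one_pow, one_mul]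

include halt hy in
lemma ker_orth (i : ℕ) (w z : V) (hw : ((y - 1) ^ i) w = 0) :
    B w (((y - 1) ^ i) z) = 0 := by
  rw [skew B halt, adj_pow B y hy, hw]
  simp

end basics

section block

variable (B : LinearMap.BilinForm F V) (halt : ∀ v, B v v = 0) (y : Module.End F V)
  (hy : ∀ u v, B (y u) (y v) = B u v) (e : ℕ) (he : 0 < e) (hnil : (y - 1) ^ e = 0)
  {T : Type*} [Fintype T] [DecidableEq T] (vec dual : T → V) (c : T → F)
  (hβ : ∀ s t, B (vec s) (((y - 1) ^ (e - 1)) (dual t)) = if s = t then c t else 0)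

/-- the family `(y-1)^j (vec t)`, `j < e` -/
def fam : T × Fin e → V := fun x => ((y - 1) ^ (x.2 : ℕ)) (vec x.1)

include hy he hnil hβ in
lemma pair_coeff (g : T × Fin e → F) (k : Fin e)
    (hg : ∀ (t : T) (j : Fin e), j < k → g (t, j) = 0) (s : T) :
    B (∑ x, g x • fam y e vec x) (((y - 1) ^ (e - 1 - (k : ℕ))) (dual s)) =
      (-1) ^ (k : ℕ) * g (s, k) * c s := by
  rw [map_sum, LinearMap.sum_apply]
  simp only [map_smul, LinearMap.smul_apply, smul_eq_mul]
  rw [Finset.sum_eq_single (s, k)]
  · have hk := k.2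
    rw [fam, top_pair B y hy e he hnil (k : ℕ) (e - 1 - (k : ℕ)) (by omega), hβ, if_pos rfl]
    ring
  · rintro ⟨t, j⟩ _ hx
    rcases lt_trichotomy j k with h | h | h
    · rw [hg t j h, zero_mul]
    · subst h
      have hts : t ≠ s := fun h => hx (by rw [h])
      have hj := j.2
      rw [fam, top_pair B y hy e he hnil (j : ℕ) (e - 1 - (j : ℕ)) (by omega), hβ, if_neg hts]
      ring
    · have hk := Fin.lt_def.mp h
      have hj := j.2
      rw [fam, vanish B y hy e hnil (j : ℕ) (e - 1 - (k : ℕ)) (by omega), mul_zero]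
  · intro h
    exact absurd (Finset.mem_univ _) h

include halt hy he hnil hβ in
lemma coeff_zero_of_ker (hc : ∀ t, c t ≠ 0) (g : T × Fin e → F) (i : ℕ)
    (hker : ((y - 1) ^ i) (∑ x, g x • fam y e vec x) = 0) :
    ∀ (n : ℕ) (t : T) (j : Fin e), (j : ℕ) = n → (j : ℕ) + i < e → g (t, j) = 0 := by
  intro n
  induction n using Nat.strong_induction_on with
  | _ n ih =>
    intro t j hjn hji
    have hg : ∀ (t' : T) (j' : Fin e), j' < j → g (t', j') = 0 := by
      intro t' j' hj'
      have := Fin.lt_def.mp hj'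
      exact ih (j' : ℕ) (by omega) t' j' rfl (by omega)
    have h1 := pair_coeff B y hy e he hnil vec dual c hβ g j hg t
    have h2 : e - 1 - (j : ℕ) = i + (e - 1 - (j : ℕ) - i) := by omega
    rw [h2, pow_add, Module.End.mul_apply, ker_orth B halt y hy i _ _ hker] at h1
    have h3 : ((-1 : F) ^ (j : ℕ)) ≠ 0 := pow_ne_zero _ (neg_ne_zero.mpr one_ne_zero)
    have h4 := hc t
    by_contra hne
    exact (mul_ne_zero (mul_ne_zero h3 hne) h4) h1.symm

include halt hy he hnil hβ in
lemma fam_linearIndependent (hc : ∀ t, c t ≠ 0) : LinearIndependent F (fam y e vec) := by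
  rw [Fintype.linearIndependent_iff]
  intro g hg0 x
  obtain ⟨t, j⟩ := x
  have hker : ((y - 1) ^ 0 : Module.End F V) (∑ x, g x • fam y e vec x) = 0 := by
    rw [hg0]; simp
  exact coeff_zero_of_ker B halt y hy e he hnil vec dual c hβ hc g 0 hker (j : ℕ) t j rfl
    (by have := j.2; omega)

omit [Fintype T] [DecidableEq T] in
/-- invariance of the span under `y - 1` -/
lemma span_inv_sub (hnil : (y - 1) ^ e = 0) :
    ∀ v ∈ Submodule.span F (Set.range (fam y e vec)),
      (y - 1) v ∈ Submodule.span F (Set.range (fam y e vec)) := by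
  have h : (Submodule.span F (Set.range (fam y e vec))).map (y - 1) ≤
      Submodule.span F (Set.range (fam y e vec)) := by
    rw [Submodule.map_span_le]
    rintro _ ⟨⟨t, j⟩, rfl⟩
    have h1 : (y - 1) (fam y e vec (t, j)) = ((y - 1) ^ ((j : ℕ) + 1)) (vec t) := by
      rw [fam, pow_succ', Module.End.mul_apply]
    rw [h1]
    by_cases hj : (j : ℕ) + 1 < e
    · exact Submodule.subset_span ⟨(t, ⟨(j : ℕ) + 1, hj⟩), rfl⟩
    · have : e ≤ (j : ℕ) + 1 := by omega
      rw [pow_eq_zero_of_le this hnil]
      simp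
  intro v hv
  exact h (Submodule.mem_map_of_mem hv)

omit [Fintype T] [DecidableEq T] in
lemma span_inv_pow (hnil : (y - 1) ^ e = 0) (n : ℕ) :
    ∀ v ∈ Submodule.span F (Set.range (fam y e vec)),
      ((y - 1) ^ n) v ∈ Submodule.span F (Set.range (fam y e vec)) := by
  induction n with
  | zero => intro v hv; simpa using hv
  | succ n ih =>
    intro v hv
    rw [pow_succ', Module.End.mul_apply]
    exact span_inv_sub y e vec hnil _ (ih v hv)

omit [Fintype T] [DecidableEq T] in
include he in
lemma vec_mem (t : T) : vec t ∈ Submodule.span F (Set.range (fam y e vec)) := by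
  refine Submodule.subset_span ⟨(t, ⟨0, he⟩), ?_⟩
  simp [fam]

include halt hy he hnil hβ in
theorem exists_block [FiniteDimensional F V] (hc : ∀ t, c t ≠ 0)
    (hdual : ∀ t, dual t ∈ Submodule.span F (Set.range vec)) :
    ∃ E : Submodule F V, E.map y ≤ E ∧ Nondeg B E ∧
      ∀ i : ℕ, Module.finrank F ↥(E ⊓ LinearMap.ker ((y - 1) ^ i)) =
        Fintype.card T * min i e := by
  classical
  have hvecE : Submodule.span F (Set.range vec) ≤ Submodule.span F (Set.range (fam y e vec)) := by
    rw [Submodule.span_le]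
    rintro _ ⟨t, rfl⟩
    exact vec_mem y e he vec t
  refine ⟨Submodule.span F (Set.range (fam y e vec)), ?_, ?_, ?_⟩
  · -- invariance
    rintro _ ⟨v, hv, rfl⟩
    have h1 : y v = (y - 1) v + v := by simp
    rw [h1]
    exact Submodule.add_mem _ (span_inv_sub y e vec hnil v hv) hv
  · -- nondegeneracy
    intro w hw hw0
    obtain ⟨g, rfl⟩ := (Submodule.mem_span_range_iff_exists_fun F).mp hw
    have hex : ∃ n : ℕ, ∃ (t : T) (j : Fin e), (j : ℕ) = n ∧ g (t, j) ≠ 0 := by
      by_contra hcon
      apply hw0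
      apply Finset.sum_eq_zero
      rintro ⟨t, j⟩ _
      have : g (t, j) = 0 := by
        by_contra h
        exact hcon ⟨(j : ℕ), t, j, rfl, h⟩
      rw [this, zero_smul]
    obtain ⟨t, j, hjn, hgne⟩ := Nat.find_spec hex
    have hmin : ∀ (t' : T) (j' : Fin e), j' < j → g (t', j') = 0 := by
      intro t' j' hj'
      by_contra h
      have := Fin.lt_def.mp hj'
      exact Nat.find_min hex (m := (j' : ℕ)) (by omega) ⟨t', j', rfl, h⟩
    refine ⟨((y - 1) ^ (e - 1 - (j : ℕ))) (dual t),
      span_inv_pow y e vec hnil _ _ (hvecE (hdual t)), ?_⟩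
    rw [pair_coeff B y hy e he hnil vec dual c hβ g j hmin t]
    exact mul_ne_zero (mul_ne_zero (pow_ne_zero _ (neg_ne_zero.mpr one_ne_zero)) hgne) (hc t)
  · -- dimensions
    intro i
    have hli := fam_linearIndependent B halt y hy e he hnil vec dual c hβ hc
    have hm : min i e ≤ e := min_le_right _ _
    have hmi : min i e ≤ i := min_le_left _ _
    obtain ⟨m, hmdef⟩ : ∃ m, m = min i e := ⟨_, rfl⟩
    rw [← hmdef] at hm hmi ⊢
    -- the embedding of index sets
    let emb : T × Fin m → T × Fin e := fun x => (x.1, ⟨e - m + (x.2 : ℕ), by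
      have := x.2.2; omega⟩)
    have hemb : Function.Injective emb := by
      rintro ⟨t, j⟩ ⟨t', j'⟩ h
      simp only [emb, Prod.mk.injEq, Fin.mk.injEq] at h
      obtain ⟨h1, h2⟩ := h
      have : (j : ℕ) = j' := by omega
      rw [h1, Fin.ext this]
    have hli' : LinearIndependent F (fam y e vec ∘ emb) := hli.comp emb hemb
    have hEq : Submodule.span F (Set.range (fam y e vec)) ⊓ LinearMap.ker ((y - 1) ^ i) =
        Submodule.span F (Set.range (fam y e vec ∘ emb)) := by
      apply le_antisymm
      · rintro w ⟨hwE, hwK⟩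
        obtain ⟨g, rfl⟩ := (Submodule.mem_span_range_iff_exists_fun F).mp hwE
        have hker : ((y - 1) ^ i) (∑ x, g x • fam y e vec x) = 0 := hwK
        apply Submodule.sum_mem
        rintro ⟨t, j⟩ _
        by_cases hji : (j : ℕ) + i < e
        · rw [coeff_zero_of_ker B halt y hy e he hnil vec dual c hβ hc g i hker (j : ℕ) t j rfl hji,
            zero_smul]
          exact Submodule.zero_mem _
        · apply Submodule.smul_mem
          have hj := j.2
          have hjm : (j : ℕ) - (e - m) < m := by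
            rcases le_total i e with h | h
            · rw [min_eq_left h] at hmdef; omega
            · rw [min_eq_right h] at hmdef; omega
          refine Submodule.subset_span ⟨(t, ⟨(j : ℕ) - (e - m), hjm⟩), ?_⟩
          have hjm2 : e - m + ((j : ℕ) - (e - m)) = (j : ℕ) := by
            rcases le_total i e with h | h
            · rw [min_eq_left h] at hmdef; omega
            · rw [min_eq_right h] at hmdef; omega
          simp only [Function.comp, emb, fam]
          rw [hjm2]
      · rw [Submodule.span_le]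
        rintro _ ⟨⟨t, j⟩, rfl⟩
        refine ⟨Submodule.subset_span ⟨_, rfl⟩, ?_⟩
        show ((y - 1) ^ i) (fam y e vec (emb (t, j))) = 0
        simp only [emb, fam]
        rw [← Module.End.mul_apply, ← pow_add,
          pow_eq_zero_of_le (by omega : e ≤ i + (e - m + (j : ℕ))) hnil]
        simp
    rw [hEq, finrank_span_eq_card hli', Fintype.card_prod, Fintype.card_fin]

end block

end STEPODD

/-- STEPODD: nilpotency index `e` odd: a nondegenerate sum of two cyclic blocks of dimension `e` -/
theorem exists_bicyclic_block {F V : Type*} [Field F] [AddCommGroup V] [Module F V]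
    [FiniteDimensional F V] (h2 : (2 : F) ≠ 0) (B : LinearMap.BilinForm F V)
    (halt : ∀ v, B v v = 0) (hnd : Nondeg B ⊤) (y : Module.End F V)
    (hy : ∀ u v, B (y u) (y v) = B u v) (e : ℕ) (he : Odd e) (hnil : (y - 1) ^ e = 0)
    (hne : (y - 1) ^ (e - 1) ≠ 0) :
    ∃ E : Submodule F V, E.map y ≤ E ∧ Nondeg B E ∧
      ∀ i : ℕ, Module.finrank F ↥(E ⊓ LinearMap.ker ((y - 1) ^ i)) = 2 * min i e := by
  have he0 : 0 < e := he.pos
  -- find a, b with β(a,b) ≠ 0
  obtain ⟨b, hb⟩ : ∃ b, ((y - 1) ^ (e - 1)) b ≠ 0 := by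
    by_contra hcon
    apply hne
    ext v
    by_contra h
    exact hcon ⟨v, h⟩
  obtain ⟨a, -, hab⟩ := hnd _ Submodule.mem_top hb
  have hab' : B a (((y - 1) ^ (e - 1)) b) ≠ 0 := by
    rw [STEPODD.skew B halt]
    exact neg_ne_zero.mpr hab
  have hself : ∀ x, B x (((y - 1) ^ (e - 1)) x) = 0 := by
    intro x
    have h := STEPODD.beta_skew B halt y hy e he hnil x x
    have h' : (2 : F) * B x (((y - 1) ^ (e - 1)) x) = 0 := by linear_combination h
    rcases mul_eq_zero.mp h' with h0 | h0
    · exact absurd h0 h2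
    · exact h0
  have hba : B b (((y - 1) ^ (e - 1)) a) = - B a (((y - 1) ^ (e - 1)) b) :=
    STEPODD.beta_skew B halt y hy e he hnil a b
  have key := STEPODD.exists_block B halt y hy e he0 hnil (T := Fin 2) ![a, b] ![b, a]
    ![B a (((y - 1) ^ (e - 1)) b), - B a (((y - 1) ^ (e - 1)) b)] ?_ ?_ ?_
  · simpa using key
  · intro s t
    fin_cases s <;> fin_cases t <;> simp [hself, hba]
  · intro t
    fin_cases t
    · simpa using hab'
    · simpa using hab'
  · intro t
    fin_cases t
    · exact Submodule.subset_span ⟨1, by simp⟩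
    · exact Submodule.subset_span ⟨0, by simp⟩

end Cfsg.Agent.S5956P
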