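import Mathlib

set_option autoImplicit false

/-!
# Tate transfer, part 1 (Mathlib only)

Permutations of a set `Y` with a (free) action `ρ` of a group `Q` that respect the action up to a
homomorphism `π : Q →* A` into a commutative group.
-/

namespace Cfsg.Agent.Helper26.TT

variable {Y : Type*} {Q : Type*} [Group Q] {A : Type*} [CommGroup A]

/-- `g` respects the action `ρ` up to `π`. -/
def Resp (ρ : Q →* Equiv.Perm Y) (π : Q →* A) (g : Equiv.Perm Y) : Prop :=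
  ∀ y t, ∃ t', g (ρ t y) = ρ t' (g y) ∧ π t' = π t

theorem resp_one (ρ : Q →* Equiv.Perm Y) (π : Q →* A) : Resp ρ π 1 :=
  fun _ t => ⟨t, rfl, rfl⟩

theorem resp_mul (ρ : Q →* Equiv.Perm Y) (π : Q →* A) {g h : Equiv.Perm Y}
    (hg : Resp ρ π g) (hh : Resp ρ π h) : Resp ρ π (g * h) := by
  intro y t
  obtain ⟨t₁, h1, h2⟩ := hh y t
  obtain ⟨t₂, h3, h4⟩ := hg (h y) t₁
  refine ⟨t₂, ?_, h4.trans h2⟩
  rw [Equiv.Perm.mul_apply, h1, h3, Equiv.Perm.mul_apply]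

/-- The group of permutations respecting the action up to `π` (together with their inverses). -/
def Gp (ρ : Q →* Equiv.Perm Y) (π : Q →* A) : Subgroup (Equiv.Perm Y) where
  carrier := {g | Resp ρ π g ∧ Resp ρ π g⁻¹}
  mul_mem' := by
    rintro g h ⟨hg, hg'⟩ ⟨hh, hh'⟩
    refine ⟨resp_mul ρ π hg hh, ?_⟩
    rw [mul_inv_rev]
    exact resp_mul ρ π hh' hg'
  one_mem' := ⟨resp_one ρ π, by rw [inv_one]; exact resp_one ρ π⟩
  inv_mem' := by
    rintro g ⟨hg, hg'⟩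
    exact ⟨hg', by rw [inv_inv]; exact hg⟩

theorem mem_Gp_iff (ρ : Q →* Equiv.Perm Y) (π : Q →* A) {g : Equiv.Perm Y} :
    g ∈ Gp ρ π ↔ Resp ρ π g ∧ Resp ρ π g⁻¹ := Iff.rfl

/-- A permutation `g` with `g ∘ ρ t = ρ (c t) ∘ g` for a map `c` preserving `π`, whose inverse has
the same property, lies in `Gp`. -/
theorem mem_Gp_of_twist (ρ : Q →* Equiv.Perm Y) (π : Q →* A) {g : Equiv.Perm Y} (c c' : Q → Q)
    (hc : ∀ t, π (c t) = π t) (hc' : ∀ t, π (c' t) = π t)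
    (h : ∀ t y, g (ρ t y) = ρ (c t) (g y)) (h' : ∀ t y, g⁻¹ (ρ t y) = ρ (c' t) (g⁻¹ y)) :
    g ∈ Gp ρ π :=
  ⟨fun y t => ⟨c t, h t y, hc t⟩, fun y t => ⟨c' t, h' t y, hc' t⟩⟩

theorem rho_mem_Gp (ρ : Q →* Equiv.Perm Y) (π : Q →* A) (t : Q) : ρ t ∈ Gp ρ π := by
  refine mem_Gp_of_twist ρ π (fun s => t * s * t⁻¹) (fun s => t⁻¹ * s * t) ?_ ?_ ?_ ?_
  · intro s
    rw [map_mul, map_mul, map_inv, mul_comm (π t), mul_assoc, mul_inv_cancel, mul_one]
  · intro s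
    rw [map_mul, map_mul, map_inv, mul_comm (π t)⁻¹, mul_assoc, inv_mul_cancel, mul_one]
  · intro s y
    rw [← Equiv.Perm.mul_apply, ← Equiv.Perm.mul_apply, ← map_mul, ← map_mul]
    congr 2
    group
  · intro s y
    rw [← map_inv, ← Equiv.Perm.mul_apply, ← Equiv.Perm.mul_apply, ← map_mul, ← map_mul]
    congr 2
    group

/-- Permutations commuting with the action lie in `Gp`. -/
theorem mem_Gp_of_comm (ρ : Q →* Equiv.Perm Y) (π : Q →* A) {g : Equiv.Perm Y}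
    (h : ∀ t, ρ t * g = g * ρ t) : g ∈ Gp ρ π := by
  refine mem_Gp_of_twist ρ π id id (fun _ => rfl) (fun _ => rfl) ?_ ?_
  · intro t y
    have := congrArg (fun e : Equiv.Perm Y => e y) (h t)
    simp only [Equiv.Perm.mul_apply] at this
    exact this.symm
  · intro t y
    have := congrArg (fun e : Equiv.Perm Y => e (g⁻¹ y)) (h t)
    simp only [Equiv.Perm.mul_apply] at this
    have e1 : g (g⁻¹ y) = y := by
      rw [← Equiv.Perm.mul_apply, mul_inv_cancel]; rfl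
    rw [e1] at this
    show g⁻¹ (ρ t y) = ρ t (g⁻¹ y)
    rw [this, ← Equiv.Perm.mul_apply, inv_mul_cancel]
    rfl

end Cfsg.Agent.Helper26.TT
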