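import Mathlib
import Cfsg.Agent.Helper25.FusionChain
import Cfsg.Agent.Helper25.FusionAlperin2

set_option autoImplicit false

namespace Cfsg.Agent.Helper26

open Cfsg Cfsg.FusionSystem Cfsg.Agent.Helper25
open scoped commutatorElement

variable {Ω : Type*} [Group Ω] {S : Subgroup Ω}

/-- A strongly closed subgroup is weakly closed. -/
theorem weaklyClosed_of_stronglyClosed [Finite S] (F : FusionSystem S) {Q : Subgroup Ω}
    (hQ : F.StronglyClosed Q) : F.WeaklyClosed Q := by
  refine ⟨hQ.1, fun φ hφ => ?_⟩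
  have hle : φ.range ≤ Q := by
    rintro _ ⟨x, rfl⟩
    exact hQ.2 Q le_rfl φ hφ x
  have hfinQ : Finite Q := finite_of_le hQ.1
  have hfinr : Finite φ.range := finite_of_le (hle.trans hQ.1)
  have hinj := F.injective_of_mem hφ
  have hcard : Nat.card Q ≤ Nat.card φ.range :=
    Nat.card_le_card_of_injective (fun x => (⟨φ x, x, rfl⟩ : φ.range))
      (fun x y hxy => hinj (congrArg Subtype.val hxy))
  exact Subgroup.eq_of_le_of_card_ge hle hcard

/-- A weakly closed subgroup is normalized by `S`. -/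
theorem le_normalizer_of_weaklyClosed (F : FusionSystem S) {Q : Subgroup Ω}
    (hQ : F.WeaklyClosed Q) : S ≤ Subgroup.normalizer (Q : Set Ω) := by
  have key : ∀ g ∈ S, ∀ x ∈ Q, g * x * g⁻¹ ∈ Q := by
    intro g hg x hx
    have h1 := hQ.2 _ (F.conj_mem hQ.1 hg)
    rw [← h1]
    exact ⟨⟨x, hx⟩, rfl⟩
  intro g hg
  rw [Subgroup.mem_normalizer_iff]
  intro x
  constructor
  · exact key g hg x
  · intro hx
    have := key g⁻¹ (S.inv_mem hg) _ hx
    have e : g⁻¹ * (g * x * g⁻¹) * g⁻¹⁻¹ = x := by group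
    rwa [e] at this

/-- Automorphisms in the system of an overgroup preserve a weakly closed subgroup. -/
theorem autGroup_apply_mem_of_weaklyClosed (F : FusionSystem S) {C R : Subgroup Ω}
    (hC : F.WeaklyClosed C) (hCR : C ≤ R) (hRS : R ≤ S) (β : MulAut R) (hβ : β ∈ F.autGroup R)
    (x : R) (hx : (x : Ω) ∈ C) : ((β x : R) : Ω) ∈ C := by
  have hβ' : autHom β ∈ F.Hom R := (mem_autGroup_iff F hRS β).mp hβ
  have h1 := restrict_mem F hCR hβ'
  have h2 := hC.2 _ h1
  rw [← h2]
  exact ⟨⟨x, hx⟩, rfl⟩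

/-- Local chain lemma: if `R` is self-centralizing in `S` with `O_p(Aut_F(R)) ≤ Inn(R)`, `K ⊴ S`, and `Aut_K(R)` stabilizes
an `Aut_F(R)`-invariant chain of `R`, then `K ≤ R`. -/
theorem le_of_stabilizes_chain [Finite S] (p : ℕ) [Fact p.Prime] (hS : IsPGroup p S)
    (F : FusionSystem S) {R K : Subgroup Ω} (hRS : R ≤ S) (hC : centralizerIn S R ≤ R)
    (hOp : OpAutLeInn F p R) (hKS : K ≤ S) (hSN : S ≤ Subgroup.normalizer (K : Set Ω))
    (N : ℕ → Subgroup R) (hN0 : N 0 = ⊥) (hNmono : Monotone N) {m : ℕ} (hNtop : N m = ⊤)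
    (hinv : ∀ β ∈ F.autGroup R, ∀ i, ∀ x ∈ N i, β x ∈ N i)
    (hstab : ∀ α ∈ autInducedBy K R, StabilizesChain N α) : K ≤ R := by
  have hfinR : Finite R := finite_of_le hRS
  have hRp : IsPGroup p R := isPGroup_of_le hS hRS
  refine le_of_autInducedBy_le_inn p hS hKS hSN hRS hC ?_
  set A : Subgroup (MulAut R) := chainStabilizer hRp N hN0 hNmono hNtop ⊓ F.autGroup R with hA
  have hAI : A ≤ Inn R := by
    apply hOp A inf_le_right
    · intro α hα k hk
      refine ⟨?_, (F.autGroup R).mul_mem ((F.autGroup R).mul_mem hα hk.2)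
        ((F.autGroup R).inv_mem hα)⟩
      have hks : StabilizesChain N k := hk.1
      show StabilizesChain N (α * k * α⁻¹)
      intro i x hx
      have hy : α⁻¹ x ∈ N (i + 1) := hinv α⁻¹ ((F.autGroup R).inv_mem hα) _ x hx
      have h1 := hks i _ hy
      have h2 := hinv α hα i _ h1
      have e : α (k (α⁻¹ x) * (α⁻¹ x)⁻¹) = (α * k * α⁻¹) x * x⁻¹ := by
        simp [MulAut.mul_apply]
      rwa [e] at h2
    · exact (chainStabilizer_isPGroup hRp N hN0 hNmono hNtop).to_le inf_le_left
  refine le_trans ?_ hAI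
  intro α hα
  have hαA : α ∈ F.autGroup R := by
    apply autInducedBy_le_autGroup F hRS
    rw [mem_autInducedBy_iff] at hα ⊢
    obtain ⟨g, hg, h⟩ := hα
    exact ⟨g, hKS hg, h⟩
  exact ⟨hstab α hα, hαA⟩

/-- Chain criterion for normality with weakly closed terms: a strongly closed `Q` with a central series whose proper
terms are weakly closed is normal in the system. -/
theorem isNormal_of_weaklyClosed_chain [Finite S] (p : ℕ) [Fact p.Prime] (hS : IsPGroup p S)
    (F : FusionSystem S) (hF : F.IsSaturated p) (Q : Subgroup Ω) (hQsc : F.StronglyClosed Q)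
    (Cn : ℕ → Subgroup Ω) (n : ℕ) (h0 : Cn 0 = ⊥) (hn : Cn n = Q) (hmono : Monotone Cn)
    (hcomm : ∀ i < n, ⁅Cn (i + 1), Q⁆ ≤ Cn i) (hwc : ∀ i < n, F.WeaklyClosed (Cn i)) :
    F.IsNormal Q := by
  have hQS : Q ≤ S := hQsc.1
  have hQN : S ≤ Subgroup.normalizer (Q : Set Ω) := le_normalizer_of_stronglyClosed F hQsc
  have hwc' : ∀ i ≤ n, F.WeaklyClosed (Cn i) := by
    intro i hi
    rcases Nat.lt_or_ge i n with h | h
    · exact hwc i h
    · have : i = n := le_antisymm hi h
      rw [this, hn]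
      exact weaklyClosed_of_stronglyClosed F hQsc
  have hCQ : ∀ i ≤ n, Cn i ≤ Q := fun i hi => hn ▸ hmono hi
  apply isNormal_of_alperin p hS F hF Q
  rintro R (rfl | hR)
  · exact ⟨hQS, fun α hα => map_autGroup_eq_of_stronglyClosed F hQsc le_rfl α hα⟩
  refine ⟨?_, fun α hα => map_autGroup_eq_of_stronglyClosed F hQsc hR.1.1 α hα⟩
  have hRS : R ≤ S := hR.1.1
  have hCR : centralizerIn S R ≤ R := hR.1.2 R (isConj_refl F hRS)
  have hOp : OpAutLeInn F p R := opAutLeInn_of_isEssential F p hR
  have key : ∀ j, j ≤ n → ∀ i ≤ j, Cn i ≤ R := by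
    intro j
    induction j with
    | zero =>
      intro _ i hi
      have : i = 0 := Nat.le_zero.mp hi
      rw [this, h0]
      exact bot_le
    | succ j ih =>
      intro hj i hi
      have ih' := ih (by omega)
      rcases Nat.lt_or_ge i (j + 1) with hlt | hge
      · exact ih' i (by omega)
      have hi' : i = j + 1 := le_antisymm hi hge
      rw [hi']
      -- the chain
      let Q' : ℕ → Subgroup Ω := fun i => if i ≤ j then Cn i else if i = j + 1 then Q else ⊤
      have hQ'1 : ∀ i, i ≤ j → Q' i = Cn i := fun i hi => if_pos hi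
      have hQ'2 : Q' (j + 1) = Q := by
        show (if j + 1 ≤ j then Cn (j + 1) else if j + 1 = j + 1 then Q else ⊤) = Q
        rw [if_neg (by omega), if_pos rfl]
      have hQ'3 : ∀ i, j + 2 ≤ i → Q' i = ⊤ := by
        intro i hi
        show (if i ≤ j then Cn i else if i = j + 1 then Q else ⊤) = ⊤
        rw [if_neg (by omega), if_neg (by omega)]
      let N : ℕ → Subgroup R := fun i => (Q' i).subgroupOf R
      have hN0 : N 0 = ⊥ := by
        show (Q' 0).subgroupOf R = ⊥
        rw [hQ'1 0 (Nat.zero_le _), h0, Subgroup.bot_subgroupOf]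
      have hNmono : Monotone N := by
        apply monotone_nat_of_le_succ
        intro i
        show (Q' i).subgroupOf R ≤ (Q' (i + 1)).subgroupOf R
        intro x hx
        have hx' : (x : Ω) ∈ Q' i := hx
        show (x : Ω) ∈ Q' (i + 1)
        rcases Nat.lt_or_ge i j with h1 | h1
        · rw [hQ'1 (i + 1) (by omega)]
          rw [hQ'1 i (by omega)] at hx'
          exact hmono (Nat.le_succ i) hx'
        · rcases Nat.lt_or_ge j i with h2 | h2
          · rw [hQ'3 (i + 1) (by omega)]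
            exact Subgroup.mem_top _
          · have hij : i = j := le_antisymm h2 h1
            rw [hij] at hx' ⊢
            rw [hQ'2]
            rw [hQ'1 j le_rfl] at hx'
            exact hCQ j (by omega) hx'
      have hNtop : N (j + 2) = ⊤ := by
        show (Q' (j + 2)).subgroupOf R = ⊤
        rw [hQ'3 (j + 2) le_rfl, Subgroup.top_subgroupOf]
      have hinv : ∀ β ∈ F.autGroup R, ∀ i, ∀ x ∈ N i, β x ∈ N i := by
        intro β hβ i x hx
        show ((β x : R) : Ω) ∈ Q' i
        have hx' : (x : Ω) ∈ Q' i := hx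
        rcases Nat.lt_or_ge j i with h1 | h1
        · rcases Nat.lt_or_ge (j + 1) i with h2 | h2
          · rw [hQ'3 i (by omega)]
            exact Subgroup.mem_top _
          · have hij : i = j + 1 := by omega
            rw [hij] at hx' ⊢
            rw [hQ'2] at hx' ⊢
            exact autGroup_apply_mem_of_stronglyClosed F hQsc hRS β hβ x hx'
        · rw [hQ'1 i h1] at hx' ⊢
          exact autGroup_apply_mem_of_weaklyClosed F (hwc' i (by omega)) (ih' i h1) hRS β hβ x hx'
      have hKQ : Cn (j + 1) ≤ Q := hCQ (j + 1) hj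
      refine le_of_stabilizes_chain p hS F hRS hCR hOp (hKQ.trans hQS)
        (le_normalizer_of_weaklyClosed F (hwc' (j + 1) hj)) N hN0 hNmono hNtop hinv ?_
      intro α hα
      rw [mem_autInducedBy_iff] at hα
      obtain ⟨g, hg, hgα⟩ := hα
      intro i x hx
      show ((α x * x⁻¹ : R) : Ω) ∈ Q' i
      have hx' : (x : Ω) ∈ Q' (i + 1) := hx
      have e : ((α x * x⁻¹ : R) : Ω) = g * (x : Ω) * g⁻¹ * (x : Ω)⁻¹ := by
        show ((α x : R) : Ω) * ((x⁻¹ : R) : Ω) = _
        rw [hgα]; rfl
      rw [e]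
      have hgQ : g ∈ Q := hKQ hg
      rcases Nat.lt_or_ge i j with h1 | h1
      · -- i + 1 ≤ j
        rw [hQ'1 i (by omega)]
        rw [hQ'1 (i + 1) (by omega)] at hx'
        have h2 : ⁅(x : Ω), g⁆ ∈ ⁅Cn (i + 1), Q⁆ := Subgroup.commutator_mem_commutator hx' hgQ
        have h3 := (Cn i).inv_mem (hcomm i (by omega) h2)
        have e2 : (⁅(x : Ω), g⁆)⁻¹ = g * (x : Ω) * g⁻¹ * (x : Ω)⁻¹ := by
          rw [commutatorElement_def]; group
        rwa [e2] at h3
      · rcases Nat.lt_or_ge j i with h2 | h2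
        · rcases Nat.lt_or_ge (j + 1) i with h3 | h3
          · rw [hQ'3 i (by omega)]
            exact Subgroup.mem_top _
          · have hij : i = j + 1 := by omega
            rw [hij, hQ'2]
            have hxN : (x : Ω) ∈ Subgroup.normalizer (Q : Set Ω) := hQN (hRS x.2)
            have h4 : (x : Ω) * g⁻¹ * (x : Ω)⁻¹ ∈ Q :=
              (Subgroup.mem_normalizer_iff.mp hxN _).mp (Q.inv_mem hgQ)
            have h5 := Q.mul_mem hgQ h4
            have e2 : g * ((x : Ω) * g⁻¹ * (x : Ω)⁻¹) = g * (x : Ω) * g⁻¹ * (x : Ω)⁻¹ := by group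
            rwa [e2] at h5
        · have hij : i = j := le_antisymm h2 h1
          rw [hij] at hx' ⊢
          rw [hQ'1 j le_rfl]
          rw [hQ'2] at hx'
          have h2 : ⁅g, (x : Ω)⁆ ∈ ⁅Cn (j + 1), Q⁆ := Subgroup.commutator_mem_commutator hg hx'
          have h3 := hcomm j (by omega) h2
          rwa [commutatorElement_def] at h3
  have := key n le_rfl n le_rfl
  rwa [hn] at this

end Cfsg.Agent.Helper26
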