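import Mathlib
import Cfsg.Agent.Helper25.FusionChain
import Cfsg.Agent.Helper25.FusionChar
import Cfsg.Agent.Helper25.FusionNormal
import Cfsg.Agent.Helper25.FusionAlperin2
import Cfsg.Agent.Helper25.SylowIn

set_option autoImplicit false

namespace Cfsg.Agent.Helper26

open Cfsg Cfsg.FusionSystem Cfsg.Agent.Helper25
open scoped commutatorElement

variable {Ω : Type*} [Group Ω] {S T : Subgroup Ω}

/-- The image of `V ∩ T` under an automorphism of `T`, as a subgroup of the ambient group. -/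
def autImage (α : MulAut T) (V : Subgroup Ω) : Subgroup Ω :=
  (V.subgroupOf T).map (T.subtype.comp α.toMonoidHom)

theorem mem_autImage {α : MulAut T} {V : Subgroup Ω} {y : Ω} :
    y ∈ autImage α V ↔ ∃ x : T, (x : Ω) ∈ V ∧ ((α x : T) : Ω) = y := by
  unfold autImage
  rw [Subgroup.mem_map]
  constructor
  · rintro ⟨x, hx, rfl⟩
    exact ⟨x, Subgroup.mem_subgroupOf.mp hx, rfl⟩
  · rintro ⟨x, hx, rfl⟩
    exact ⟨x, Subgroup.mem_subgroupOf.mpr hx, rfl⟩

theorem autImage_le (α : MulAut T) (V : Subgroup Ω) : autImage α V ≤ T := by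
  intro y hy
  obtain ⟨x, -, rfl⟩ := mem_autImage.mp hy
  exact (α x).2

theorem autImage_mono (α : MulAut T) {V W : Subgroup Ω} (h : V ≤ W) :
    autImage α V ≤ autImage α W := by
  intro y hy
  obtain ⟨x, hx, rfl⟩ := mem_autImage.mp hy
  exact mem_autImage.mpr ⟨x, h hx, rfl⟩

theorem autImage_bot (α : MulAut T) : autImage α (⊥ : Subgroup Ω) = ⊥ := by
  rw [eq_bot_iff]
  intro y hy
  obtain ⟨x, hx, rfl⟩ := mem_autImage.mp hy
  have hx1 : x = 1 := Subtype.ext (Subgroup.mem_bot.mp hx)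
  rw [hx1, map_one]
  exact Subgroup.one_mem _

theorem autImage_inv_autImage (α : MulAut T) {V : Subgroup Ω} (hV : V ≤ T) :
    autImage α⁻¹ (autImage α V) = V := by
  ext y
  constructor
  · intro hy
    obtain ⟨x, hx, rfl⟩ := mem_autImage.mp hy
    obtain ⟨z, hz, hzx⟩ := mem_autImage.mp hx
    have : α z = x := Subtype.ext hzx
    rw [← this]
    simpa using hz
  · intro hy
    refine mem_autImage.mpr ⟨α ⟨y, hV hy⟩, mem_autImage.mpr ⟨⟨y, hV hy⟩, hy, rfl⟩, ?_⟩
    simp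

theorem autImage_autImage_inv (α : MulAut T) {V : Subgroup Ω} (hV : V ≤ T) :
    autImage α (autImage α⁻¹ V) = V := by
  have := autImage_inv_autImage α⁻¹ hV
  rwa [inv_inv] at this

theorem apply_mem_autImage (α : MulAut T) {V : Subgroup Ω} (x : T) (hx : (x : Ω) ∈ V) :
    ((α x : T) : Ω) ∈ autImage α V := mem_autImage.mpr ⟨x, hx, rfl⟩

theorem autImage_commutator_le (α : MulAut T) (A B : Subgroup Ω) :
    ⁅autImage α A, autImage α B⁆ ≤ autImage α ⁅A, B⁆ := by
  rw [Subgroup.commutator_le]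
  intro a ha b hb
  obtain ⟨x, hx, rfl⟩ := mem_autImage.mp ha
  obtain ⟨y, hy, rfl⟩ := mem_autImage.mp hb
  refine mem_autImage.mpr ⟨⁅x, y⁆, ?_, ?_⟩
  · have : ((⁅x, y⁆ : T) : Ω) = ⁅(x : Ω), (y : Ω)⁆ := by simp [commutatorElement_def]
    rw [this]
    exact Subgroup.commutator_mem_commutator hx hy
  · simp [commutatorElement_def]

/-- Transport of strongly closed subgroups of an invariant subsystem by `Aut_F(T)`. -/
theorem stronglyClosed_autImage (E : FusionSystem T) (F : FusionSystem S)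
    (hEF : E.IsInvariantIn F) {U : Subgroup Ω} (hU : E.StronglyClosed U)
    (α : MulAut T) (hα : α ∈ F.autGroup T) : E.StronglyClosed (autImage α U) := by
  refine ⟨autImage_le α U, fun P hPU φ hφ x => ?_⟩
  have hPT : P ≤ T := hPU.trans (autImage_le α U)
  obtain ⟨χ, hχ, hχx⟩ := hEF.2.2.1 P hPT φ hφ α⁻¹ (inv_mem hα)
  have hφx : φ x ∈ T := (E.le_of_mem hφ).2 x
  have hαx : ((α⁻¹ ⟨x, hPT x.2⟩ : T) : Ω) ∈ autImage α⁻¹ P :=
    apply_mem_autImage α⁻¹ ⟨x, hPT x.2⟩ x.2
  have h1 := hχx x hφx hαx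
  have hle : autImage α⁻¹ P ≤ U := by
    have := autImage_mono α⁻¹ hPU
    rwa [autImage_inv_autImage α hU.1] at this
  have h2 : χ ⟨_, hαx⟩ ∈ U := hU.2 (autImage α⁻¹ P) hle χ hχ ⟨_, hαx⟩
  rw [h1] at h2
  have h3 := apply_mem_autImage α (α⁻¹ ⟨φ x, hφx⟩) h2
  simpa using h3

/-- A strongly closed subgroup of an invariant subsystem that is `Aut_F(T)`-invariant is
strongly closed in the big system. -/
theorem stronglyClosed_of_invariant (E : FusionSystem T) (F : FusionSystem S)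
    (hEF : E.IsInvariantIn F) {U : Subgroup Ω} (hU : E.StronglyClosed U)
    (hinv : ∀ α ∈ F.autGroup T, autImage α U ≤ U) : F.StronglyClosed U := by
  have hTS : T ≤ S := hEF.2.1.1
  refine ⟨hU.1.trans hTS, fun P hPU φ hφ x => ?_⟩
  obtain ⟨α, hα, φ₀, hφ₀, h⟩ := hEF.2.2.2 P (hPU.trans hU.1) φ hφ
  have h0 : φ₀ x ∈ U := hU.2 P hPU φ₀ hφ₀ x
  have hT : φ₀ x ∈ T := hU.1 h0
  rw [h x hT]
  exact hinv α hα (apply_mem_autImage α ⟨φ₀ x, hT⟩ h0)

/-- The image in the ambient group of the `i`-th term of the upper central series of `Q`. -/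
def ucsImage (Q : Subgroup Ω) (i : ℕ) : Subgroup Ω :=
  (Subgroup.upperCentralSeries Q i).map Q.subtype

theorem ucsImage_le (Q : Subgroup Ω) (i : ℕ) : ucsImage Q i ≤ Q := by
  rintro _ ⟨c, -, rfl⟩
  exact c.2

theorem ucsImage_zero (Q : Subgroup Ω) : ucsImage Q 0 = ⊥ := by
  unfold ucsImage
  rw [Subgroup.upperCentralSeries_zero, Subgroup.map_bot]

theorem ucsImage_mono (Q : Subgroup Ω) : Monotone (ucsImage Q) := fun _ _ h =>
  Subgroup.map_mono (Subgroup.upperCentralSeries_mono Q h)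

theorem ucsImage_of_eq_top (Q : Subgroup Ω) {n : ℕ}
    (hn : Subgroup.upperCentralSeries Q n = ⊤) : ucsImage Q n = Q := by
  unfold ucsImage
  rw [hn, ← MonoidHom.range_eq_map, Subgroup.range_subtype]

theorem commutator_ucsImage_le (Q : Subgroup Ω) (i : ℕ) :
    ⁅Q, ucsImage Q (i + 1)⁆ ≤ ucsImage Q i := by
  rw [Subgroup.commutator_le]
  rintro q hq _ ⟨z, hz, rfl⟩
  have h1 : ⁅z, (⟨q, hq⟩ : Q)⁆ ∈ Subgroup.upperCentralSeries Q i :=
    Subgroup.mem_upperCentralSeries_succ_iff.mp hz ⟨q, hq⟩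
  have h2 : ⁅(⟨q, hq⟩ : Q), z⁆ ∈ Subgroup.upperCentralSeries Q i := by
    rw [← commutatorElement_inv]
    exact inv_mem h1
  exact ⟨_, h2, by simp [commutatorElement_def]⟩

/-- If every term of the upper central series of the `p`-subgroup `Q ≤ S` is strongly closed,
then `Q` is normal in the saturated system. -/
theorem isNormal_of_ucs_stronglyClosed [Finite S] (p : ℕ) [Fact p.Prime] (hS : IsPGroup p S)
    (F : FusionSystem S) (hF : F.IsSaturated p) (Q : Subgroup Ω) (hQS : Q ≤ S)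
    (h : ∀ i, F.StronglyClosed (ucsImage Q i)) : F.IsNormal Q := by
  have hfinQ : Finite Q := finite_of_le hQS
  have hQp : IsPGroup p Q := isPGroup_of_le hS hQS
  have hnil : Group.IsNilpotent Q := hQp.isNilpotent
  obtain ⟨n, hn⟩ := hnil.nilpotent'
  exact isNormal_of_chain p hS F hF Q (ucsImage Q) n (ucsImage_zero Q) (ucsImage_of_eq_top Q hn)
    (fun i _ => ucsImage_mono Q (Nat.le_succ i))
    (fun i _ => ⟨h (i + 1), commutator_ucsImage_le Q i⟩)

/-- Images under `Aut_F(T)` of subgroups normal in an invariant saturated subsystem are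
normal in the subsystem. -/
theorem isNormal_autImage [Finite S] (p : ℕ) [Fact p.Prime] (hS : IsPGroup p S)
    (E : FusionSystem T) (F : FusionSystem S) (hE : E.IsSaturated p)
    (hEF : E.IsInvariantIn F) {R : Subgroup Ω} (hR : E.IsNormal R)
    (α : MulAut T) (hα : α ∈ F.autGroup T) : E.IsNormal (autImage α R) := by
  have hTS : T ≤ S := hEF.2.1.1
  have hfinT : Finite T := finite_of_le hTS
  have hTp : IsPGroup p T := isPGroup_of_le hS hTS
  have hRT : R ≤ T := hR.1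
  have hfinR : Finite R := finite_of_le (hRT.trans hTS)
  have hRp : IsPGroup p R := isPGroup_of_le hS (hRT.trans hTS)
  have hnil : Group.IsNilpotent R := hRp.isNilpotent
  obtain ⟨n, hn⟩ := hnil.nilpotent'
  refine isNormal_of_chain p hTp E hE (autImage α R) (fun i => autImage α (ucsImage R i)) n
    ?_ ?_ (fun i _ => autImage_mono α (ucsImage_mono R (Nat.le_succ i))) (fun i _ => ⟨?_, ?_⟩)
  · show autImage α (ucsImage R 0) = ⊥
    rw [ucsImage_zero, autImage_bot]
  · show autImage α (ucsImage R n) = autImage α R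
    rw [ucsImage_of_eq_top R hn]
  · exact stronglyClosed_autImage E F hEF
      (stronglyClosed_of_isNormal E (isNormal_of_characteristic E hR _)) α hα
  · exact (autImage_commutator_le α _ _).trans (autImage_mono α (commutator_ucsImage_le R i))

/-- Characteristic subgroups of an `Aut_F(T)`-invariant subgroup are `Aut_F(T)`-invariant. -/
theorem autImage_char_le (H : Subgroup (MulAut T)) {Q : Subgroup Ω} (hQT : Q ≤ T)
    (hinv : ∀ β ∈ H, autImage β Q ≤ Q) (C : Subgroup Q) [hC : C.Characteristic]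
    (β : MulAut T) (hβ : β ∈ H) : autImage β (C.map Q.subtype) ≤ C.map Q.subtype := by
  have h1 : ∀ x : Q, ((β ⟨x, hQT x.2⟩ : T) : Ω) ∈ Q := fun x =>
    hinv β hβ (apply_mem_autImage β ⟨x, hQT x.2⟩ x.2)
  have h2 : ∀ x : Q, ((β⁻¹ ⟨x, hQT x.2⟩ : T) : Ω) ∈ Q := fun x =>
    hinv β⁻¹ (inv_mem hβ) (apply_mem_autImage β⁻¹ ⟨x, hQT x.2⟩ x.2)
  let γ : Q ≃* Q :=
    { toFun := fun x => ⟨_, h1 x⟩
      invFun := fun x => ⟨_, h2 x⟩
      left_inv := fun x => by
        apply Subtype.ext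
        simp
      right_inv := fun x => by
        apply Subtype.ext
        simp
      map_mul' := fun x y => by
        apply Subtype.ext
        have : (⟨((x * y : Q) : Ω), hQT (x * y).2⟩ : T) = ⟨x, hQT x.2⟩ * ⟨y, hQT y.2⟩ := rfl
        simp only [this, map_mul]
        rfl }
  have hγ : C.map γ.toMonoidHom ≤ C := Subgroup.characteristic_iff_map_le.mp hC γ
  intro y hy
  obtain ⟨x, hx, rfl⟩ := mem_autImage.mp hy
  obtain ⟨c, hc, hcx⟩ := hx
  have hxc : x = ⟨c, hQT c.2⟩ := Subtype.ext hcx.symm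
  refine ⟨γ c, hγ ⟨c, hc, rfl⟩, ?_⟩
  rw [hxc]
  rfl

/-- The subgroup generated by the `F`-images of a subgroup `R` normal in a weakly normal
subsystem is normal in `F`. -/
theorem isNormal_closure_images [Finite S] (p : ℕ) [Fact p.Prime] (hS : IsPGroup p S)
    (F : FusionSystem S) (hF : F.IsSaturated p) (E : FusionSystem T) (hE : E.IsSaturated p)
    (hEF : E.IsInvariantIn F) (R : Subgroup Ω) (hR : E.IsNormal R) :
    F.IsNormal (Subgroup.closure {x : Ω | ∃ φ ∈ F.Hom R, ∃ r : R, x = φ r}) := by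
  have hTS : T ≤ S := hEF.2.1.1
  have hTsc : F.StronglyClosed T := hEF.2.1
  have hRT : R ≤ T := hR.1
  have hfinT : Finite T := finite_of_le hTS
  have hgenT : ∀ x, (∃ φ ∈ F.Hom R, ∃ r : R, x = φ r) → x ∈ T := by
    rintro x ⟨φ, hφ, r, rfl⟩
    exact hTsc.2 R hRT φ hφ r
  have hRsT : Subgroup.closure {x : Ω | ∃ φ ∈ F.Hom R, ∃ r : R, x = φ r} ≤ T :=
    (Subgroup.closure_le _).mpr hgenT
  have himg : ∀ α ∈ F.autGroup T,
      autImage α R ≤ Subgroup.closure {x : Ω | ∃ φ ∈ F.Hom R, ∃ r : R, x = φ r} := by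
    intro α hα y hy
    obtain ⟨x, hx, rfl⟩ := mem_autImage.mp hy
    have h1 : autHom α ∈ F.Hom T := (mem_autGroup_iff F hTS α).mp hα
    have h2 := restrict_mem F hRT h1
    exact Subgroup.subset_closure ⟨_, h2, ⟨x, hx⟩, rfl⟩
  have hgen : ∀ x, (∃ φ ∈ F.Hom R, ∃ r : R, x = φ r) →
      ∃ α ∈ F.autGroup T, x ∈ autImage α R := by
    rintro x ⟨φ, hφ, r, rfl⟩
    obtain ⟨α, hα, φ₀, hφ₀, h⟩ := hEF.2.2.2 R hRT φ hφ
    have h0 : φ₀ r ∈ R := (stronglyClosed_of_isNormal E hR).2 R le_rfl φ₀ hφ₀ r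
    have hT : φ₀ r ∈ T := hRT h0
    refine ⟨α, hα, ?_⟩
    rw [h r hT]
    exact apply_mem_autImage α ⟨φ₀ r, hT⟩ h0
  have hRsE : E.IsNormal (Subgroup.closure {x : Ω | ∃ φ ∈ F.Hom R, ∃ r : R, x = φ r}) := by
    let C : Set (Subgroup Ω) := {Q | E.IsNormal Q ∧
      Q ≤ Subgroup.closure {x : Ω | ∃ φ ∈ F.Hom R, ∃ r : R, x = φ r}}
    have hC : sSup C ∈ C := sSup_mem_of_sup_closed (S := T) ⟨bot_isNormal E, bot_le⟩
      (fun Q hQ => hQ.1.1)
      (fun Q₁ h₁ Q₂ h₂ => ⟨isNormal_sup E h₁.1 h₂.1, sup_le h₁.2 h₂.2⟩)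
    have hle : Subgroup.closure {x : Ω | ∃ φ ∈ F.Hom R, ∃ r : R, x = φ r} ≤ sSup C := by
      rw [Subgroup.closure_le]
      intro x hx
      obtain ⟨α, hα, hxα⟩ := hgen x hx
      have hmem : autImage α R ∈ C := ⟨isNormal_autImage p hS E F hE hEF hR α hα, himg α hα⟩
      exact (le_sSup hmem) hxα
    have heq : Subgroup.closure {x : Ω | ∃ φ ∈ F.Hom R, ∃ r : R, x = φ r} = sSup C :=
      le_antisymm hle hC.2
    rw [heq]
    exact hC.1
  have hinv : ∀ β ∈ F.autGroup T,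
      autImage β (Subgroup.closure {x : Ω | ∃ φ ∈ F.Hom R, ∃ r : R, x = φ r}) ≤
        Subgroup.closure {x : Ω | ∃ φ ∈ F.Hom R, ∃ r : R, x = φ r} := by
    intro β hβ y hy
    obtain ⟨x, hx, rfl⟩ := mem_autImage.mp hy
    have h1 : autHom β ∈ F.Hom T := (mem_autGroup_iff F hTS β).mp hβ
    have key : ∀ z (hz : z ∈ Subgroup.closure {x : Ω | ∃ φ ∈ F.Hom R, ∃ r : R, x = φ r}),
        ((β ⟨z, hRsT hz⟩ : T) : Ω) ∈
          Subgroup.closure {x : Ω | ∃ φ ∈ F.Hom R, ∃ r : R, x = φ r} := by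
      intro z hz
      induction hz using Subgroup.closure_induction with
      | mem z hz =>
        obtain ⟨φ, hφ, r, rfl⟩ := hz
        have hφT : ∀ r : R, φ r ∈ T := fun r => hTsc.2 R hRT φ hφ r
        have h2 := F.comp_mem hφ h1 hφT
        exact Subgroup.subset_closure ⟨_, h2, r, rfl⟩
      | one =>
        have : (⟨1, hRsT (Subgroup.one_mem _)⟩ : T) = 1 := rfl
        rw [this, map_one]
        exact Subgroup.one_mem _
      | mul a b ha hb iha ihb =>
        have : (⟨a * b, hRsT (Subgroup.mul_mem _ ha hb)⟩ : T) =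
          ⟨a, hRsT ha⟩ * ⟨b, hRsT hb⟩ := rfl
        rw [this, map_mul, Subgroup.coe_mul]
        exact Subgroup.mul_mem _ iha ihb
      | inv a ha iha =>
        have : (⟨a⁻¹, hRsT (Subgroup.inv_mem _ ha)⟩ : T) = (⟨a, hRsT ha⟩ : T)⁻¹ := rfl
        rw [this, map_inv, Subgroup.coe_inv]
        exact Subgroup.inv_mem _ iha
    exact key x hx
  refine isNormal_of_ucs_stronglyClosed p hS F hF _ (hRsT.trans hTS) (fun i => ?_)
  refine stronglyClosed_of_invariant E F hEF
    (stronglyClosed_of_isNormal E (isNormal_of_characteristic E hRsE _)) (fun β hβ => ?_)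
  exact autImage_char_le (F.autGroup T) hRsT hinv _ β hβ

end Cfsg.Agent.Helper26
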