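import Mathlib
import Cfsg.Agent.Helper26.FusionChainLocal
import Cfsg.Agent.Helper26.FusionInvariant
import Cfsg.Agent.Helper23.OmegaOne
import Cfsg.Prelude.Def_PLocal

set_option autoImplicit false

namespace Cfsg.Agent.Helper26

open Cfsg Cfsg.FusionSystem Cfsg.Agent.Helper25 Cfsg.Agent.Helper23
open scoped commutatorElement

variable {Ω : Type*} [Group Ω] {S : Subgroup Ω}

/-- For odd `p`: a `p'`-automorphism of a finite `p`-group `R` which stabilizes a chain below a
subgroup `B` containing all elements of order `p` of `B`, and is trivial on `R / B`, is trivial. -/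
theorem aut_eq_one_of_gapped_chain {R : Type*} [Group R] [Finite R] {p : ℕ} [Fact p.Prime]
    (hp : p ≠ 2) (hR : IsPGroup p R) (N : ℕ → Subgroup R) (hN0 : N 0 = ⊥) (B : Subgroup R)
    (hΩ : ∀ x ∈ B, x ^ p = 1 → ∃ i, x ∈ N i) (α : MulAut R)
    (hcop : Nat.Coprime (orderOf α) p) (hstab : StabilizesChain N α)
    (hB : ∀ x, x ∈ B ↔ α x ∈ B) (hRB : ∀ x, α x * x⁻¹ ∈ B) : α = 1 := by
  have hinvform : ∀ (M : Subgroup R) (x : R), α x⁻¹ * x⁻¹⁻¹ ∈ M → x⁻¹ * α x ∈ M := by
    intro M x h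
    have h2 := M.inv_mem h
    have e : (α x⁻¹ * x⁻¹⁻¹)⁻¹ = x⁻¹ * α x := by
      rw [map_inv]; group
    rwa [e] at h2
  have step1 : ∀ i, ∀ x ∈ N i, α x = x := by
    intro i
    induction i with
    | zero =>
      intro x hx
      rw [hN0, Subgroup.mem_bot] at hx
      rw [hx, map_one]
    | succ i ih =>
      intro x hx
      have h1 : x⁻¹ * α x ∈ N i := hinvform (N i) x (hstab i x⁻¹ ((N (i + 1)).inv_mem hx))
      exact aut_fixes_of_fixes_comm hR α hcop x (ih _ h1)
  have hBp : IsPGroup p B := hR.to_subgroup B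
  have hres : restrictAut α B hB = 1 := by
    apply aut_eq_one_of_fixes_omega hp hBp
    · exact Nat.Coprime.coprime_dvd_left (orderOf_restrictAut_dvd α B hB) hcop
    · intro x hx
      have hx' : (x : R) ^ p = 1 := by
        have := congrArg Subtype.val hx
        simpa using this
      obtain ⟨i, hi⟩ := hΩ x x.2 hx'
      apply Subtype.ext
      rw [restrictAut_apply]
      exact step1 i x hi
  have step2 : ∀ x ∈ B, α x = x := by
    intro x hx
    have := congrArg (fun β : MulAut B => ((β ⟨x, hx⟩ : B) : R)) hres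
    simpa [restrictAut_apply] using this
  ext x
  have h1 : x⁻¹ * α x ∈ B := hinvform B x (hRB x⁻¹)
  exact aut_fixes_of_fixes_comm hR α hcop x (step2 _ h1)

/-- Gapped version of the local chain lemma (odd `p`). -/
theorem le_of_stabilizes_gapped_chain [Finite S] (p : ℕ) [Fact p.Prime] (hp : p ≠ 2)
    (hS : IsPGroup p S) (F : FusionSystem S) {R K : Subgroup Ω} (hRS : R ≤ S)
    (hC : centralizerIn S R ≤ R) (hOp : OpAutLeInn F p R) (hKS : K ≤ S)
    (hSN : S ≤ Subgroup.normalizer (K : Set Ω))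
    (N : ℕ → Subgroup R) (hN0 : N 0 = ⊥) (hNmono : Monotone N) (B : Subgroup R)
    (hΩ : ∀ x ∈ B, x ^ p = 1 → ∃ i, x ∈ N i)
    (hinv : ∀ β ∈ F.autGroup R, ∀ i, ∀ x ∈ N i, β x ∈ N i)
    (hinvB : ∀ β ∈ F.autGroup R, ∀ x ∈ B, β x ∈ B)
    (hstab : ∀ α ∈ autInducedBy K R, StabilizesChain N α ∧ ∀ x, α x * x⁻¹ ∈ B) : K ≤ R := by
  have hfinR : Finite R := finite_of_le hRS
  have hRp : IsPGroup p R := isPGroup_of_le hS hRS
  refine le_of_autInducedBy_le_inn p hS hKS hSN hRS hC ?_
  -- the set of automorphisms stabilizing the gapped chain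
  let X : Set (MulAut R) := {α | α ∈ F.autGroup R ∧ StabilizesChain N α ∧ ∀ x, α x * x⁻¹ ∈ B}
  have hXmul : ∀ α ∈ X, ∀ β ∈ X, α * β ∈ X := by
    intro α hα β hβ
    refine ⟨(F.autGroup R).mul_mem hα.1 hβ.1, hα.2.1.mul hN0 hNmono hβ.2.1, fun x => ?_⟩
    have h1 := hα.2.2 (β x)
    have h2 := hβ.2.2 x
    have e : α (β x) * (β x)⁻¹ * (β x * x⁻¹) = (α * β) x * x⁻¹ := by
      simp [MulAut.mul_apply]
    rw [← e]
    exact B.mul_mem h1 h2
  have hXone : (1 : MulAut R) ∈ X :=
    ⟨(F.autGroup R).one_mem, StabilizesChain.one N, fun x => by simp⟩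
  have hXpow : ∀ α ∈ X, ∀ k : ℕ, α ^ k ∈ X := by
    intro α hα k
    induction k with
    | zero => rw [pow_zero]; exact hXone
    | succ k ih => rw [pow_succ]; exact hXmul _ ih _ hα
  have hXinv : ∀ α ∈ X, α⁻¹ ∈ X := by
    intro α hα
    have hpos : 0 < orderOf α := orderOf_pos α
    have e : α⁻¹ = α ^ (orderOf α - 1) := by
      apply inv_eq_of_mul_eq_one_right
      rw [← pow_succ', Nat.sub_add_cancel hpos, pow_orderOf_eq_one]
    rw [e]
    exact hXpow α hα _
  let A : Subgroup (MulAut R) :=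
    { carrier := X
      mul_mem' := fun ha hb => hXmul _ ha _ hb
      one_mem' := hXone
      inv_mem' := fun ha => hXinv _ ha }
  have hAle : A ≤ F.autGroup R := fun α hα => hα.1
  have hAnorm : ∀ α ∈ F.autGroup R, ∀ k ∈ A, α * k * α⁻¹ ∈ A := by
    intro α hα k hk
    have hαi : α⁻¹ ∈ F.autGroup R := (F.autGroup R).inv_mem hα
    refine ⟨(F.autGroup R).mul_mem ((F.autGroup R).mul_mem hα hk.1) hαi, ?_, ?_⟩
    · intro i x hx
      have hy : α⁻¹ x ∈ N (i + 1) := hinv α⁻¹ hαi _ x hx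
      have h1 := hk.2.1 i _ hy
      have h2 := hinv α hα i _ h1
      have e : α (k (α⁻¹ x) * (α⁻¹ x)⁻¹) = (α * k * α⁻¹) x * x⁻¹ := by
        simp [MulAut.mul_apply]
      rwa [e] at h2
    · intro x
      have h1 := hk.2.2 (α⁻¹ x)
      have h2 := hinvB α hα _ h1
      have e : α (k (α⁻¹ x) * (α⁻¹ x)⁻¹) = (α * k * α⁻¹) x * x⁻¹ := by
        simp [MulAut.mul_apply]
      rwa [e] at h2
  have hAp : IsPGroup p A := by
    have hpp : p.Prime := Fact.out
    rintro ⟨α, hα⟩
    -- write the order of α as p^k * m with m prime to p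
    obtain ⟨k, m, hm, hkm⟩ := Nat.exists_eq_pow_mul_and_not_dvd (orderOf_pos α).ne' p hpp.ne_one
    refine ⟨k, Subtype.ext ?_⟩
    show α ^ p ^ k = 1
    have hβX : α ^ p ^ k ∈ X := hXpow α hα _
    have hord : orderOf (α ^ p ^ k) = m := by
      rw [orderOf_pow' α (pow_pos hpp.pos k).ne', hkm,
        Nat.gcd_eq_right (Dvd.intro _ rfl), Nat.mul_div_cancel_left _ (pow_pos hpp.pos k)]
    have hcop : Nat.Coprime (orderOf (α ^ p ^ k)) p := by
      rw [hord]
      exact ((Nat.Prime.coprime_iff_not_dvd hpp).mpr hm).symm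
    have hβF : α ^ p ^ k ∈ F.autGroup R := hβX.1
    have hβFi : (α ^ p ^ k)⁻¹ ∈ F.autGroup R := (F.autGroup R).inv_mem hβF
    refine aut_eq_one_of_gapped_chain hp hRp N hN0 B hΩ _ hcop hβX.2.1 ?_ hβX.2.2
    intro x
    constructor
    · exact hinvB _ hβF x
    · intro hx
      have := hinvB _ hβFi _ hx
      simpa using this
  have hAI : A ≤ Inn R := hOp A hAle hAnorm hAp
  refine le_trans ?_ hAI
  intro α hα
  have hαA : α ∈ F.autGroup R := by
    apply autInducedBy_le_autGroup F hRS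
    rw [mem_autInducedBy_iff] at hα ⊢
    obtain ⟨g, hg, h⟩ := hα
    exact ⟨g, hKS hg, h⟩
  exact ⟨hαA, hstab α hα⟩

/-- `Ω₁` of a group as a subgroup of the group itself. -/
def omegaSub (p : ℕ) (P : Type*) [Group P] : Subgroup P := Subgroup.closure {x : P | x ^ p = 1}

instance omegaSub_characteristic (p : ℕ) (P : Type*) [Group P] :
    (omegaSub p P).Characteristic := by
  rw [Subgroup.characteristic_iff_map_le]
  intro ϕ
  unfold omegaSub
  rw [MonoidHom.map_closure, Subgroup.closure_le]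
  rintro _ ⟨x, hx, rfl⟩
  apply Subgroup.subset_closure
  show (ϕ x) ^ p = 1
  rw [← map_pow, show x ^ p = 1 from hx, map_one]

theorem omegaOne_eq_map (p : ℕ) (P : Subgroup Ω) :
    omegaOne p P = (omegaSub p P).map P.subtype := by
  unfold omegaOne omegaSub
  rw [MonoidHom.map_closure]
  congr 1
  ext x
  constructor
  · rintro ⟨hx, hxp⟩
    exact ⟨⟨x, hx⟩, Subtype.ext (by simpa using hxp), rfl⟩
  · rintro ⟨y, hy, rfl⟩
    refine ⟨y.2, ?_⟩
    have := congrArg Subtype.val (show y ^ p = 1 from hy)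
    simpa using this

theorem omegaOne_le (p : ℕ) (P : Subgroup Ω) : omegaOne p P ≤ P := by
  unfold omegaOne
  rw [Subgroup.closure_le]
  exact fun x hx => hx.1

theorem stronglyClosed_inf (F : FusionSystem S) {A B : Subgroup Ω} (hA : F.StronglyClosed A)
    (hB : F.StronglyClosed B) : F.StronglyClosed (A ⊓ B) :=
  ⟨inf_le_left.trans hA.1, fun R hR φ hφ x =>
    ⟨hA.2 R (hR.trans inf_le_left) φ hφ x, hB.2 R (hR.trans inf_le_right) φ hφ x⟩⟩

theorem commutator_le_of_le_normalizer {A B : Subgroup Ω}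
    (h : B ≤ Subgroup.normalizer (A : Set Ω)) : ⁅A, B⁆ ≤ A := by
  rw [Subgroup.commutator_le]
  intro a ha b hb
  have h1 : b * a⁻¹ * b⁻¹ ∈ A := (Subgroup.mem_normalizer_iff.mp (h hb) a⁻¹).mp (A.inv_mem ha)
  have e : ⁅a, b⁆ = a * (b * a⁻¹ * b⁻¹) := by
    rw [commutatorElement_def]; group
  rw [e]
  exact A.mul_mem ha h1

/-- Odd `p`: a strongly closed `P` is normal in the saturated system iff `Ω₁(P)` has a chain of
strongly closed subgroups centralized by `P`. -/
theorem isNormal_iff_omega_chain [Finite S] (p : ℕ) [Fact p.Prime] (hS : IsPGroup p S)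
    (F : FusionSystem S) (hF : F.IsSaturated p) (hp : p ≠ 2) (P : Subgroup Ω)
    (hP : F.StronglyClosed P) :
    F.IsNormal P ↔ ∃ (n : ℕ) (Q : Fin (n + 1) → Subgroup Ω), Q 0 = ⊥ ∧
      Q (Fin.last n) = Cfsg.omegaOne p P ∧ Monotone Q ∧ (∀ i : Fin (n + 1), F.StronglyClosed (Q i)) ∧
        ∀ i : Fin n, ⁅Q i.succ, P⁆ ≤ Q i.castSucc := by
  have hPS : P ≤ S := hP.1
  have hfinP : Finite P := finite_of_le hPS
  have hPp : IsPGroup p P := isPGroup_of_le hS hPS
  constructor
  · intro hPn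
    have hnil : Group.IsNilpotent P := hPp.isNilpotent
    obtain ⟨n, hn⟩ := hnil.nilpotent'
    have hΩsc : F.StronglyClosed (omegaOne p P) := by
      rw [omegaOne_eq_map]
      exact stronglyClosed_of_isNormal F (isNormal_of_characteristic F hPn _)
    have hΩN : P ≤ Subgroup.normalizer (omegaOne p P : Set Ω) :=
      hPS.trans (le_normalizer_of_stronglyClosed F hΩsc)
    refine ⟨n, fun i => ucsImage P i ⊓ omegaOne p P, ?_, ?_, ?_, ?_, ?_⟩
    · show ucsImage P ((0 : Fin (n + 1)) : ℕ) ⊓ omegaOne p P = ⊥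
      rw [Fin.val_zero, ucsImage_zero, bot_inf_eq]
    · show ucsImage P ((Fin.last n : Fin (n + 1)) : ℕ) ⊓ omegaOne p P = omegaOne p P
      rw [Fin.val_last, ucsImage_of_eq_top P hn]
      exact inf_eq_right.mpr (omegaOne_le p P)
    · intro i j hij
      exact inf_le_inf_right _ (ucsImage_mono P hij)
    · intro i
      exact stronglyClosed_inf F
        (stronglyClosed_of_isNormal F (isNormal_of_characteristic F hPn _)) hΩsc
    · intro i
      show ⁅ucsImage P ((i.succ : Fin (n + 1)) : ℕ) ⊓ omegaOne p P, P⁆ ≤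
        ucsImage P ((i.castSucc : Fin (n + 1)) : ℕ) ⊓ omegaOne p P
      rw [Fin.val_succ, Fin.val_castSucc]
      apply le_inf
      · refine (Subgroup.commutator_mono inf_le_left le_rfl).trans ?_
        rw [Subgroup.commutator_comm]
        exact commutator_ucsImage_le P i
      · exact (Subgroup.commutator_mono inf_le_right le_rfl).trans
          (commutator_le_of_le_normalizer hΩN)
  · rintro ⟨n, Q, h0, hlast, hmono, hsc, hcomm⟩
    -- ℕ-indexed version of the chain
    let Cn : ℕ → Subgroup Ω := fun i => Q ⟨min i n, by omega⟩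
    have hCn0 : Cn 0 = ⊥ := by
      have : (⟨min 0 n, by omega⟩ : Fin (n + 1)) = 0 := Fin.ext (Nat.zero_min n)
      show Q ⟨min 0 n, _⟩ = ⊥
      rw [this, h0]
    have hCnmono : Monotone Cn := fun i j hij =>
      hmono (Fin.mk_le_mk.mpr (min_le_min_right n hij))
    have hCnlast : ∀ i, n ≤ i → Cn i = omegaOne p P := by
      intro i hi
      have : (⟨min i n, by omega⟩ : Fin (n + 1)) = Fin.last n := Fin.ext (min_eq_right hi)
      show Q ⟨min i n, _⟩ = _
      rw [this, hlast]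
    have hCnsc : ∀ i, F.StronglyClosed (Cn i) := fun i => hsc _
    have hΩsc : F.StronglyClosed (omegaOne p P) := hlast ▸ hsc _
    have hΩN : P ≤ Subgroup.normalizer (omegaOne p P : Set Ω) :=
      hPS.trans (le_normalizer_of_stronglyClosed F hΩsc)
    have hCncomm : ∀ i, ⁅Cn (i + 1), P⁆ ≤ Cn i := by
      intro i
      rcases Nat.lt_or_ge i n with h | h
      · have e1 : (⟨min (i + 1) n, by omega⟩ : Fin (n + 1)) = (⟨i, h⟩ : Fin n).succ :=
          Fin.ext (by simp; omega)
        have e2 : (⟨min i n, by omega⟩ : Fin (n + 1)) = (⟨i, h⟩ : Fin n).castSucc :=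
          Fin.ext (by simp; omega)
        show ⁅Q ⟨min (i + 1) n, _⟩, P⁆ ≤ Q ⟨min i n, _⟩
        rw [e1, e2]
        exact hcomm ⟨i, h⟩
      · rw [hCnlast i h, hCnlast (i + 1) (by omega)]
        exact commutator_le_of_le_normalizer hΩN
    have hSN : S ≤ Subgroup.normalizer (P : Set Ω) := le_normalizer_of_stronglyClosed F hP
    apply isNormal_of_alperin p hS F hF P
    rintro R (rfl | hR)
    · exact ⟨hPS, fun α hα => map_autGroup_eq_of_stronglyClosed F hP le_rfl α hα⟩
    refine ⟨?_, fun α hα => map_autGroup_eq_of_stronglyClosed F hP hR.1.1 α hα⟩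
    have hRS : R ≤ S := hR.1.1
    have hCR : centralizerIn S R ≤ R := hR.1.2 R (isConj_refl F hRS)
    have hOp : OpAutLeInn F p R := opAutLeInn_of_isEssential F p hR
    refine le_of_stabilizes_gapped_chain p hp hS F hRS hCR hOp hPS hSN
      (fun i => (Cn i).subgroupOf R) ?_ ?_ (P.subgroupOf R) ?_ ?_ ?_ ?_
    · show (Cn 0).subgroupOf R = ⊥
      rw [hCn0, Subgroup.bot_subgroupOf]
    · intro i j hij x hx
      exact hCnmono hij hx
    · intro x hx hxp
      refine ⟨n, ?_⟩
      show (x : Ω) ∈ Cn n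
      rw [hCnlast n le_rfl]
      apply Subgroup.subset_closure
      refine ⟨hx, ?_⟩
      have := congrArg Subtype.val hxp
      simpa using this
    · intro β hβ i x hx
      exact autGroup_apply_mem_of_stronglyClosed F (hCnsc i) hRS β hβ x hx
    · intro β hβ x hx
      exact autGroup_apply_mem_of_stronglyClosed F hP hRS β hβ x hx
    · intro α hα
      rw [mem_autInducedBy_iff] at hα
      obtain ⟨g, hg, hgα⟩ := hα
      have e : ∀ x : R, ((α x * x⁻¹ : R) : Ω) = ⁅g, (x : Ω)⁆ := by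
        intro x
        show ((α x : R) : Ω) * ((x⁻¹ : R) : Ω) = _
        rw [hgα, commutatorElement_def]; rfl
      constructor
      · intro i x hx
        show ((α x * x⁻¹ : R) : Ω) ∈ Cn i
        rw [e]
        have h2 : ⁅(x : Ω), g⁆ ∈ ⁅Cn (i + 1), P⁆ := Subgroup.commutator_mem_commutator hx hg
        have h3 := (Cn i).inv_mem (hCncomm i h2)
        rwa [commutatorElement_inv] at h3
      · intro x
        show ((α x * x⁻¹ : R) : Ω) ∈ P
        rw [e]
        have hxN : (x : Ω) ∈ Subgroup.normalizer (P : Set Ω) := hSN (hRS x.2)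
        have h1 : (x : Ω) * g⁻¹ * (x : Ω)⁻¹ ∈ P :=
          (Subgroup.mem_normalizer_iff.mp hxN g⁻¹).mp (P.inv_mem hg)
        have e2 : ⁅g, (x : Ω)⁆ = g * ((x : Ω) * g⁻¹ * (x : Ω)⁻¹) := by
          rw [commutatorElement_def]; group
        rw [e2]
        exact P.mul_mem hg h1

end Cfsg.Agent.Helper26
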