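import Mathlib
import Cfsg.Agent.Helper9.MaxClassTwoC
import Cfsg.Agent.S4399
import Cfsg.Agent.S0112
import Cfsg.Agent.S4143
import Cfsg.Agent.Helper1.Metacyclic

set_option autoImplicit false

/-! 2-groups of maximal class are dihedral, semidihedral or generalized quaternion (assembling
Taussky's theorem with S4399); self-centralizing subgroups of order 4 or nonabelian of order 8
force maximal class. -/

namespace Cfsg.Agent.Helper26.Meta2

universe u

theorem maxClass_cases {X : Type u} [Group X] [Finite X] (n : ℕ) (hn : 3 ≤ n)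
    (hX : Nat.card X = 2 ^ n) (hc : Group.nilpotencyClass X = n - 1) :
    (∃ m : ℕ, Nonempty (X ≃* DihedralGroup m)) ∨ Cfsg.IsQuasiDihedral X ∨
      (∃ m : ℕ, Nonempty (X ≃* QuaternionGroup m)) := by
  obtain ⟨hidx, hsq⟩ := Cfsg.Agent.Helper9.commutator_of_maxClass n hn hX hc
  have h2 : IsPGroup 2 X := IsPGroup.of_card hX
  have hab : Nat.card (Abelianization X) = 4 := by
    rw [← hidx, Subgroup.index_eq_card]
    rfl
  have hexp : ∀ x : Abelianization X, x ^ 2 = 1 := by
    intro x
    obtain ⟨g, rfl⟩ := QuotientGroup.mk_surjective x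
    change (Abelianization.of g) ^ 2 = 1
    rw [← map_pow, pow_two, ← MonoidHom.mem_ker, Abelianization.ker_of]
    exact hsq g
  rcases Cfsg.Agent.S4399.result h2 hab hexp with h | h | h | h
  · exfalso
    rw [hX] at h
    have : 2 ^ 3 ≤ 2 ^ n := Nat.pow_le_pow_right (by norm_num) hn
    omega
  · obtain ⟨k, hk⟩ := h
    exact Or.inl ⟨_, hk⟩
  · obtain ⟨k, hcard, a, b, ha, hb, hab'⟩ := h
    refine Or.inr (Or.inl ⟨k + 3, by omega, hcard, a, b, ha, hb, ?_⟩)
    rw [hab']
    rfl
  · obtain ⟨k, hk⟩ := h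
    exact Or.inr (Or.inr ⟨_, hk⟩)

/-- Injective images: a group embedding into a metacyclic group is metacyclic. -/
theorem isMetacyclic_of_injective {H R : Type u} [Group H] [Group R] (f : H →* R)
    (hf : Function.Injective f) (hm : Cfsg.IsMetacyclic R) : Cfsg.IsMetacyclic H := by
  obtain ⟨N, hNn, hNc, hQc⟩ := hm
  let φ : H →* R ⧸ N := (QuotientGroup.mk' N).comp f
  refine ⟨φ.ker, inferInstance, ?_, ?_⟩
  · have hmem : ∀ k : φ.ker, f k.1 ∈ N := by
      intro k
      have := k.2
      rw [MonoidHom.mem_ker] at this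
      exact (QuotientGroup.eq_one_iff _).mp this
    let f' : φ.ker →* N := (f.comp φ.ker.subtype).codRestrict N hmem
    have hinj : Function.Injective f' := by
      intro a b hab
      have := congrArg Subtype.val hab
      exact Subtype.ext (hf this)
    exact isCyclic_of_injective f' hinj
  · exact isCyclic_of_injective (QuotientGroup.kerLift φ) (QuotientGroup.kerLift_injective φ)

variable {Ω : Type u} [Group Ω]

/-- A proper self-centralizing subgroup of order 4 forces dihedral / semidihedral / quaternion. -/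
theorem cases_of_selfCentralizing_four {S : Subgroup Ω} [Finite S] (hS : IsPGroup 2 S)
    {E : Subgroup Ω} (hES : E ≤ S) (hne : E ≠ S) (hcard : Nat.card E = 4)
    (hEab : ∀ x ∈ E, ∀ y ∈ E, x * y = y * x)
    (hC : S ⊓ Subgroup.centralizer (E : Set Ω) ≤ E) :
    (∃ m : ℕ, Nonempty (↥S ≃* DihedralGroup m)) ∨ Cfsg.IsQuasiDihedral ↥S ∨
      (∃ m : ℕ, Nonempty (↥S ≃* QuaternionGroup m)) := by
  have : Fact (Nat.Prime 2) := ⟨Nat.prime_two⟩
  obtain ⟨n, hn⟩ := IsPGroup.iff_card.mp hS
  have hA : Nat.card (E.subgroupOf S) = 2 ^ 2 := by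
    rw [Nat.card_congr (Subgroup.subgroupOfEquivOfLe hES).toEquiv, hcard]; norm_num
  have hCA : Subgroup.centralizer ((E.subgroupOf S : Subgroup S) : Set S) = E.subgroupOf S := by
    apply le_antisymm
    · intro x hx
      rw [Subgroup.mem_subgroupOf]
      apply hC
      refine Subgroup.mem_inf.mpr ⟨x.2, ?_⟩
      rw [Subgroup.mem_centralizer_iff]
      intro y hy
      have := Subgroup.mem_centralizer_iff.mp hx ⟨y, hES hy⟩ (Subgroup.mem_subgroupOf.mpr hy)
      exact congrArg Subtype.val this
    · intro x hx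
      rw [Subgroup.mem_centralizer_iff]
      intro y hy
      exact Subtype.ext (hEab _ hy _ hx)
  have hclass := Cfsg.Agent.S0112.result n hn (E.subgroupOf S) hA hCA
  have hlt : Nat.card E < Nat.card S := by
    have hle : Nat.card E ≤ Nat.card S := Subgroup.card_le_of_le hES
    rcases hle.eq_or_lt with h | h
    · exact absurd (Subgroup.eq_of_le_of_card_ge hES (le_of_eq h.symm)) hne
    · exact h
  have hn3 : 3 ≤ n := by
    rw [hcard, hn] at hlt
    by_contra hcon
    have : n ≤ 2 := by omega
    have := Nat.pow_le_pow_right (show 0 < 2 by norm_num) this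
    omega
  exact maxClass_cases n hn3 hn hclass

/-- A proper self-centralizing quaternion subgroup of order 8 forces maximal class. -/
theorem cases_of_selfCentralizing_q8 {S : Subgroup Ω} [Finite S] (hS : IsPGroup 2 S)
    {E : Subgroup Ω} (hES : E ≤ S) (e : ↥E ≃* QuaternionGroup 2)
    (hC : S ⊓ Subgroup.centralizer (E : Set Ω) ≤ E) :
    (∃ m : ℕ, Nonempty (↥S ≃* DihedralGroup m)) ∨ Cfsg.IsQuasiDihedral ↥S ∨
      (∃ m : ℕ, Nonempty (↥S ≃* QuaternionGroup m)) := by
  have : Fact (Nat.Prime 2) := ⟨Nat.prime_two⟩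
  obtain ⟨n, hn⟩ := IsPGroup.iff_card.mp hS
  have hcardE : Nat.card E = 8 := by
    rw [Nat.card_congr e.toEquiv, Nat.card_eq_fintype_card, QuaternionGroup.card]
  have hB : Nat.card (E.subgroupOf S) = 2 ^ 3 := by
    rw [Nat.card_congr (Subgroup.subgroupOfEquivOfLe hES).toEquiv, hcardE]; norm_num
  have hna : ¬ IsMulCommutative (E.subgroupOf S) := by
    intro hcomm
    let e' : ↥(E.subgroupOf S) ≃* QuaternionGroup 2 := (Subgroup.subgroupOfEquivOfLe hES).trans e
    have h1 : ∀ a b : QuaternionGroup 2, a * b = b * a := by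
      intro a b
      have := hcomm.is_comm.comm (e'.symm a) (e'.symm b)
      have h2 := congrArg e' this
      simpa using h2
    have h2 := h1 (QuaternionGroup.a 1) (QuaternionGroup.xa 0)
    revert h2
    decide
  have hCB : Subgroup.centralizer ((E.subgroupOf S : Subgroup S) : Set S) ≤ E.subgroupOf S := by
    intro x hx
    rw [Subgroup.mem_subgroupOf]
    apply hC
    refine Subgroup.mem_inf.mpr ⟨x.2, ?_⟩
    rw [Subgroup.mem_centralizer_iff]
    intro y hy
    have := Subgroup.mem_centralizer_iff.mp hx ⟨y, hES hy⟩ (Subgroup.mem_subgroupOf.mpr hy)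
    exact congrArg Subtype.val this
  have hclass := Cfsg.Agent.S4143.result n hn (E.subgroupOf S) hB hna hCB
  have hn3 : 3 ≤ n := by
    have hdvd : Nat.card E ∣ Nat.card S := Subgroup.card_dvd_of_le hES
    rw [hcardE, hn] at hdvd
    have : (2 : ℕ) ^ 3 ∣ 2 ^ n := by simpa using hdvd
    exact (Nat.pow_dvd_pow_iff_le_right (by norm_num)).mp this
  exact maxClass_cases n hn3 hn hclass

end Cfsg.Agent.Helper26.Meta2
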