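import Mathlib
import Cfsg.Agent.Helper25.FusionNormal
import Cfsg.Agent.Helper25.FusionAlperin2

set_option autoImplicit false

/-! Frobenius-type criterion: a saturated fusion system all of whose automizers are `p`-groups is inner. -/

namespace Cfsg.Agent.Helper26

open Cfsg Cfsg.FusionSystem Cfsg.Agent.Helper25

variable {Ω : Type*} [Group Ω] {S : Subgroup Ω}

theorem inner_le (F : FusionSystem S) : innerFusionSystem S ≤ F := by
  rintro P φ ⟨hP, g, hg, h⟩
  have := F.conj_mem hP hg
  have e : φ = conjHom P g := by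
    ext x
    rw [h x]
    simp [conjHom, MulAut.conj_apply]
  rw [e]; exact this

theorem top_isFullyNormalized [Finite S] (F : FusionSystem S) : F.IsFullyNormalized S := by
  refine ⟨le_rfl, fun Q _ => ?_⟩
  have h1 : normalizerIn S Q ≤ S := inf_le_left
  have h2 : S ≤ normalizerIn S S := fun x hx => ⟨hx, Subgroup.le_normalizer hx⟩
  have : Finite (normalizerIn S S) := finite_of_le inf_le_left
  exact Subgroup.card_le_of_le (h1.trans h2)

theorem not_isEssential_of_isPGroup (F : FusionSystem S) (p : ℕ) [Fact p.Prime] {P : Subgroup Ω}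
    (hp : IsPGroup p (F.autGroup P)) : ¬ F.IsEssential p P := by
  intro hP
  have hOp := opAutLeInn_of_isEssential F p hP
  have hle : F.autGroup P ≤ Inn P :=
    hOp (F.autGroup P) le_rfl (fun α hα k hk => (F.autGroup P).mul_mem ((F.autGroup P).mul_mem hα hk)
      ((F.autGroup P).inv_mem hα)) hp
  obtain ⟨-, -, hN, E, hdvd, -, -⟩ := hP
  have htop : (Inn P).subgroupOf (F.autGroup P) = ⊤ := by
    rw [Subgroup.subgroupOf_eq_top]; exact hle
  have hcard : Nat.card (F.autGroup P ⧸ (Inn P).subgroupOf (F.autGroup P)) = 1 := by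
    rw [← Subgroup.index_eq_card, htop, Subgroup.index_top]
  rw [hcard] at hdvd
  exact (Fact.out : p.Prime).one_lt.ne' (Nat.dvd_one.mp hdvd)

/-- A saturated fusion system whose automizers are all `p`-groups is the inner fusion system. -/
theorem hom_eq_inner_of_autGroup_isPGroup [Finite S] (p : ℕ) [Fact p.Prime] (hS : IsPGroup p S)
    (F : FusionSystem S) (hF : F.IsSaturated p)
    (h : ∀ P : Subgroup Ω, P ≤ S → IsPGroup p (F.autGroup P)) (P : Subgroup Ω) :
    F.Hom P = (innerFusionSystem S).Hom P := by
  apply Set.Subset.antisymm _ (inner_le F P)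
  have hle : F ≤ innerFusionSystem S := by
    apply alperin_le p hS F hF
    rintro Q (rfl | hQ)
    · -- top
      have hFA := (Cfsg.Agent.S5077.sylow_axiom p hS F hF Q (top_isFullyNormalized F)).2
      rw [isFullyAutomized_iff_card F p le_rfl] at hFA
      obtain ⟨k, hk⟩ := IsPGroup.iff_card.mp (h Q le_rfl)
      have hpp : pPart p (Nat.card (F.autGroup Q)) = Nat.card (F.autGroup Q) := by
        rw [hk]; unfold pPart
        rw [Nat.Prime.factorization_pow (Fact.out : p.Prime)]
        simp
      rw [hpp] at hFA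
      have hfin : Finite (F.autGroup Q) := inferInstance
      have heq : autInducedBy Q Q = F.autGroup Q :=
        Subgroup.eq_of_le_of_card_ge (autInducedBy_le_autGroup F le_rfl) (le_of_eq hFA.symm)
      intro α hα
      rw [← heq, mem_autInducedBy_iff] at hα
      obtain ⟨g, hg, hgα⟩ := hα
      rw [mem_autGroup_iff (innerFusionSystem Q) le_rfl]
      exact ⟨le_rfl, g, hg, hgα⟩
    · exact absurd hQ (not_isEssential_of_isPGroup F p (h Q hQ.1.1))
  exact hle P

end Cfsg.Agent.Helper26
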