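import Mathlib
import Cfsg.Agent.Helper1.Metacyclic

set_option autoImplicit false

/-! A computation in metacyclic groups: an element `g` with `g² ∈ E` normalizing a homocyclic
abelian subgroup `E ≅ C_{2^n}²`, `n ≥ 2`, with `E⟨g⟩` metacyclic, acts trivially on `E/℧¹(E)`. -/

namespace Cfsg.Agent.Helper26.Meta2

variable {T : Type*} [Group T]

/-- In a quotient by a normal subgroup with cyclic quotient, all commutators lie in the subgroup. -/
theorem comm_mem_of_isCyclic_quotient (M : Subgroup T) [M.Normal] (hQ : IsCyclic (T ⧸ M))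
    (a b : T) : a * b * a⁻¹ * b⁻¹ ∈ M := by
  obtain ⟨q, hq⟩ := hQ.exists_generator
  obtain ⟨i, hi⟩ := Subgroup.mem_zpowers_iff.mp (hq (QuotientGroup.mk a))
  obtain ⟨j, hj⟩ := Subgroup.mem_zpowers_iff.mp (hq (QuotientGroup.mk b))
  rw [← QuotientGroup.eq_one_iff]
  rw [QuotientGroup.mk_mul, QuotientGroup.mk_mul, QuotientGroup.mk_mul, QuotientGroup.mk_inv,
    QuotientGroup.mk_inv, ← hi, ← hj]
  group

/-- Conjugation on a cyclic normal subgroup generated by an element of `2`-power order moves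
elements by squares. -/
theorem comm_cyclic_sq (M : Subgroup T) [M.Normal] (w : T) (hwM : w ∈ M)
    (hw : ∀ y ∈ M, ∃ k : ℤ, w ^ k = y) (N : ℕ) (hwN : w ^ (2 ^ N) = 1) (t : T) :
    ∀ c ∈ M, ∃ y ∈ M, t * c * t⁻¹ * c⁻¹ = y * y := by
  intro c hc
  obtain ⟨j, rfl⟩ := hw c hc
  obtain ⟨k, hk⟩ := hw (t * w * t⁻¹) (Subgroup.Normal.conj_mem inferInstance w hwM t)
  have h1 : t * w ^ j * t⁻¹ = w ^ (k * j) := by
    rw [← conj_zpow, ← hk, ← zpow_mul]
  rcases Int.even_or_odd k with hke | hko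
  · -- `k` even forces `w = 1`
    obtain ⟨r, hr⟩ := hke
    obtain ⟨s, hs⟩ := hw (t⁻¹ * w * t) (by
      have := Subgroup.Normal.conj_mem (inferInstance : M.Normal) w hwM t⁻¹
      simpa using this)
    have h2 : w = w ^ (s * k) := by
      have e : t⁻¹ * w ^ k * t = (t⁻¹ * w * t) ^ k := by
        have := conj_zpow (a := t⁻¹) (b := w) (i := k)
        simpa using this.symm
      calc w = t⁻¹ * (t * w * t⁻¹) * t := by group
        _ = t⁻¹ * w ^ k * t := by rw [hk]
        _ = (t⁻¹ * w * t) ^ k := e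
        _ = (w ^ s) ^ k := by rw [hs]
        _ = w ^ (s * k) := (zpow_mul w s k).symm
    have h3 : w ^ (s * k - 1) = 1 := by
      rw [zpow_sub, zpow_one, ← h2, mul_inv_cancel]
    have h4 : (orderOf w : ℤ) ∣ s * k - 1 := orderOf_dvd_iff_zpow_eq_one.mpr h3
    have h5 : orderOf w ∣ 2 ^ N := orderOf_dvd_of_pow_eq_one hwN
    obtain ⟨i, -, hi⟩ := (Nat.dvd_prime_pow Nat.prime_two).mp h5
    have hi0 : i = 0 := by
      by_contra hne
      have h6 : (2 : ℤ) ∣ (orderOf w : ℤ) := by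
        rw [hi]
        push_cast
        exact dvd_pow_self 2 hne
      have h7 := dvd_trans h6 h4
      have e7 : s * k - 1 = 2 * (s * r) - 1 := by rw [hr]; ring
      rw [e7] at h7
      obtain ⟨c, hc⟩ := h7
      omega
    rw [hi0, pow_zero, orderOf_eq_one_iff] at hi
    refine ⟨1, M.one_mem, ?_⟩
    rw [hi]
    simp
  · obtain ⟨r, hr⟩ := hko
    refine ⟨w ^ (r * j), M.zpow_mem hwM _, ?_⟩
    rw [h1, ← zpow_neg, ← zpow_add, ← zpow_add]
    congr 1
    rw [hr]
    ring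

/-- The metacyclic computation. -/
theorem comm_sq_of_metacyclic (hT : Cfsg.IsMetacyclic T) (E : Subgroup T) [Finite E]
    (hEab : ∀ x ∈ E, ∀ y ∈ E, x * y = y * x) (n : ℕ) (hn : 2 ≤ n)
    (hcard : 4 ^ n ≤ Nat.card E) (hexp : ∀ x ∈ E, x ^ (2 ^ n) = 1)
    (g : T) (hgN : ∀ x ∈ E, g * x * g⁻¹ ∈ E) (hg2 : g * g ∈ E)
    (hgen : ∀ t : T, t ∈ E ∨ ∃ e ∈ E, t = g * e) :
    ∀ x ∈ E, ∃ y ∈ E, g * x * g⁻¹ * x⁻¹ = y * y := by
  obtain ⟨M, hMn, hMc, hQc⟩ := hT
  by_cases hgE : g ∈ E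
  · intro x hx
    refine ⟨1, E.one_mem, ?_⟩
    rw [hEab g hgE x hx]
    group
  -- `E` is normal
  have hEn : ∀ t : T, ∀ x ∈ E, t * x * t⁻¹ ∈ E := by
    intro t x hx
    rcases hgen t with ht | ⟨e, he, rfl⟩
    · exact E.mul_mem (E.mul_mem ht hx) (E.inv_mem ht)
    · have h1 : e * x * e⁻¹ ∈ E := E.mul_mem (E.mul_mem he hx) (E.inv_mem he)
      have h2 := hgN _ h1
      have e2 : g * e * x * (g * e)⁻¹ = g * (e * x * e⁻¹) * g⁻¹ := by group
      rw [e2]; exact h2
  -- conjugation by `g * e` agrees with conjugation by `g` on `E`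
  have hconj : ∀ e ∈ E, ∀ x ∈ E, g * x * g⁻¹ = (g * e) * x * (g * e)⁻¹ := by
    intro e he x hx
    have h1 : e * x * e⁻¹ = x := by rw [hEab e he x hx]; group
    have e2 : g * e * x * (g * e)⁻¹ = g * (e * x * e⁻¹) * g⁻¹ := by group
    rw [e2, h1]
  obtain ⟨⟨w, hwM⟩, hw0⟩ := hMc.exists_generator
  have hw : ∀ y ∈ M, ∃ k : ℤ, w ^ k = y := by
    intro y hy
    obtain ⟨k, hk⟩ := Subgroup.mem_zpowers_iff.mp (hw0 ⟨y, hy⟩)
    exact ⟨k, by simpa using congrArg Subtype.val hk⟩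
  by_cases hwE : w ∈ E
  · -- Case A: `M ≤ E`
    have hME : ∀ y ∈ M, y ∈ E := by
      intro y hy
      obtain ⟨k, rfl⟩ := hw y hy
      exact E.zpow_mem hwE k
    obtain ⟨q, hq⟩ := hQc.exists_generator
    obtain ⟨t, rfl⟩ := QuotientGroup.mk_surjective q
    have hpow : ∀ z : T, ∃ a : ℤ, (t ^ a)⁻¹ * z ∈ M := by
      intro z
      obtain ⟨a, ha⟩ := Subgroup.mem_zpowers_iff.mp (hq (QuotientGroup.mk z))
      refine ⟨a, ?_⟩
      rw [← QuotientGroup.eq_one_iff, QuotientGroup.mk_mul, QuotientGroup.mk_inv,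
        QuotientGroup.mk_zpow, ha, inv_mul_cancel]
    have htE : t ∉ E := by
      intro ht
      obtain ⟨a, ha⟩ := hpow g
      have h1 := E.mul_mem (E.zpow_mem ht a) (hME _ ha)
      rw [mul_inv_cancel_left] at h1
      exact hgE h1
    obtain ⟨e₀, he₀, rfl⟩ := (hgen t).resolve_left htE
    intro x hx
    obtain ⟨a, ha⟩ := hpow x
    obtain ⟨c, hc⟩ : ∃ c, c = ((g * e₀) ^ a)⁻¹ * x := ⟨_, rfl⟩
    have hcM : c ∈ M := hc ▸ ha
    have hxc : x = (g * e₀) ^ a * c := by rw [hc, mul_inv_cancel_left]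
    obtain ⟨y, hyM, hy⟩ := comm_cyclic_sq M w hwM hw n (hexp w hwE) (g * e₀) c hcM
    refine ⟨(g * e₀) ^ a * y * ((g * e₀) ^ a)⁻¹, hEn _ _ (hME y hyM), ?_⟩
    rw [hconj e₀ he₀ x hx]
    have e3 : (g * e₀) ^ a * y * ((g * e₀) ^ a)⁻¹ * ((g * e₀) ^ a * y * ((g * e₀) ^ a)⁻¹) =
        (g * e₀) ^ a * (y * y) * ((g * e₀) ^ a)⁻¹ := by group
    rw [e3, ← hy, hxc]
    have hcomm : (g * e₀) * (g * e₀) ^ a = (g * e₀) ^ a * (g * e₀) :=
      ((Commute.refl (g * e₀)).zpow_right a).eq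
    calc g * e₀ * ((g * e₀) ^ a * c) * (g * e₀)⁻¹ * ((g * e₀) ^ a * c)⁻¹
        = (g * e₀ * (g * e₀) ^ a) * c * (g * e₀)⁻¹ * c⁻¹ * ((g * e₀) ^ a)⁻¹ := by group
      _ = ((g * e₀) ^ a * (g * e₀)) * c * (g * e₀)⁻¹ * c⁻¹ * ((g * e₀) ^ a)⁻¹ := by rw [hcomm]
      _ = (g * e₀) ^ a * (g * e₀ * c * (g * e₀)⁻¹ * c⁻¹) * ((g * e₀) ^ a)⁻¹ := by group
  · -- Case B: `w ∉ E`
    obtain ⟨e₀, he₀, hwe⟩ := (hgen w).resolve_left hwE
    have hww : w * w ∈ E := by
      have h1 : g * e₀ * g⁻¹ ∈ E := hgN _ he₀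
      have h2 := E.mul_mem (E.mul_mem h1 hg2) he₀
      have e2 : g * e₀ * g⁻¹ * (g * g) * e₀ = w * w := by rw [hwe]; group
      rwa [e2] at h2
    -- elements of `M ⊓ E` are powers of `w * w`
    have hker : ∀ y ∈ M, y ∈ E → y ∈ Subgroup.zpowers (w * w) := by
      intro y hyM hyE
      obtain ⟨k, rfl⟩ := hw y hyM
      rcases Int.even_or_odd k with ⟨r, hr⟩ | ⟨r, hr⟩
      · refine Subgroup.mem_zpowers_iff.mpr ⟨r, ?_⟩
        rw [hr, ← zpow_two, ← zpow_mul]
        congr 1; ring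
      · exfalso
        apply hwE
        have h1 : w = w ^ k * ((w * w) ^ r)⁻¹ := by
          rw [hr, ← zpow_two, ← zpow_mul, ← zpow_neg, ← zpow_add]
          have : (2 * r + 1 + -((2 : ℤ) * r)) = 1 := by ring
          rw [this, zpow_one]
        rw [h1]
        exact E.mul_mem hyE (E.inv_mem (E.zpow_mem hww r))
    -- counting
    have hord : 2 ^ n ≤ orderOf (w * w) := by
      let f : E →* T ⧸ M := (QuotientGroup.mk' M).comp E.subtype
      have h1 : Nat.card E = Nat.card f.ker * Nat.card f.range := by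
        rw [Subgroup.card_eq_card_quotient_mul_card_subgroup f.ker,
          Nat.card_congr (QuotientGroup.quotientKerEquivRange f).toEquiv, mul_comm]
      have hfr : Finite f.range := Finite.of_surjective f.rangeRestrict f.rangeRestrict_surjective
      have h2 : Nat.card f.range ≤ 2 ^ n := by
        have : IsCyclic f.range := Subgroup.isCyclic _
        apply Cfsg.Agent.Helper1.Metacyclic.card_le_of_isCyclic_of_pow inferInstance (by positivity)
        rintro ⟨_, e, rfl⟩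
        apply Subtype.ext
        show (f e) ^ (2 ^ n) = 1
        rw [← map_pow]
        have : e ^ (2 ^ n) = 1 := Subtype.ext (by simpa using hexp e e.2)
        rw [this, map_one]
      have h3 : Nat.card f.ker ≤ orderOf (w * w) := by
        rw [← Nat.card_zpowers]
        have hmem : ∀ e : f.ker, ((e : E) : T) ∈ Subgroup.zpowers (w * w) := by
          intro e
          have h4 : f e = 1 := e.2
          have h5 : ((e : E) : T) ∈ M := (QuotientGroup.eq_one_iff _).mp h4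
          exact hker _ h5 (e : E).2
        have hfin : Finite (Subgroup.zpowers (w * w)) := by
          have : Finite E := inferInstance
          exact Finite.of_injective (fun z : Subgroup.zpowers (w * w) =>
            (⟨z.1, by
              obtain ⟨k, hk⟩ := Subgroup.mem_zpowers_iff.mp z.2
              rw [← hk]; exact E.zpow_mem hww k⟩ : E))
            (fun a b hab => Subtype.ext (by
              have := congrArg Subtype.val hab
              exact this))
        exact Nat.card_le_card_of_injective (fun e : f.ker => (⟨((e : E) : T), hmem e⟩ :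
          Subgroup.zpowers (w * w)))
          (fun a b hab => Subtype.ext (Subtype.ext (by
            have := congrArg Subtype.val hab
            exact this)))
      have h4 : 4 ^ n ≤ orderOf (w * w) * 2 ^ n := by
        calc 4 ^ n ≤ Nat.card E := hcard
          _ = Nat.card f.ker * Nat.card f.range := h1
          _ ≤ orderOf (w * w) * 2 ^ n := Nat.mul_le_mul h3 h2
      have h5 : (4 : ℕ) ^ n = 2 ^ n * 2 ^ n := by
        rw [← mul_pow]; norm_num
      rw [h5] at h4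
      exact Nat.le_of_mul_le_mul_right h4 (by positivity)
    have hord2 : orderOf (w * w) = 2 ^ n :=
      le_antisymm (Nat.le_of_dvd (by positivity) (orderOf_dvd_of_pow_eq_one (hexp _ hww))) hord
    intro x hx
    obtain ⟨ℓ, hℓ⟩ := hw (x * w * x⁻¹) (Subgroup.Normal.conj_mem inferInstance w hwM x)
    have h1 : x * (w * w) * x⁻¹ = w * w := by rw [hEab x hx _ hww]; group
    have h2 : w ^ ℓ * w ^ ℓ = w * w := by
      rw [hℓ, ← h1]; group
    have h3 : (w * w) ^ (ℓ - 1) = 1 := by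
      have e1 : (w * w) ^ (ℓ - 1) = (w ^ ℓ * w ^ ℓ) * (w * w)⁻¹ := by
        rw [← zpow_add, ← zpow_two, ← zpow_mul, ← zpow_neg, ← zpow_add]
        congr 1; ring
      rw [e1, h2, mul_inv_cancel]
    have h4 : ((2 ^ n : ℕ) : ℤ) ∣ ℓ - 1 := by
      rw [← hord2]
      exact orderOf_dvd_iff_zpow_eq_one.mpr h3
    obtain ⟨u, hu⟩ := h4
    obtain ⟨m, rfl⟩ : ∃ m, n = m + 2 := ⟨n - 2, by omega⟩
    refine ⟨(w * w) ^ (-((2 ^ m : ℕ) : ℤ) * u), E.zpow_mem hww _, ?_⟩
    have hgx : g * x * g⁻¹ = w * x * w⁻¹ := by rw [hwe]; exact hconj e₀ he₀ x hx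
    rw [hgx]
    have e1 : w * x * w⁻¹ * x⁻¹ = w * (x * w * x⁻¹)⁻¹ := by group
    rw [e1, ← hℓ, ← zpow_add, ← zpow_two, ← zpow_mul, ← zpow_neg]
    nth_rewrite 1 [← zpow_one w]
    rw [← zpow_add]
    congr 1
    have hu' : ℓ = 1 + ((2 ^ (m + 2) : ℕ) : ℤ) * u := by linarith
    rw [hu']
    push_cast
    ring

end Cfsg.Agent.Helper26.Meta2
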