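import Mathlib
import Cfsg.Agent.Helper26.Meta2A
import Cfsg.Agent.Helper25.FusionChain

set_option autoImplicit false

/-! An abelian essential subgroup cannot have all involutions of `Aut_S(E)` acting trivially
modulo squares. -/

namespace Cfsg.Agent.Helper26.Meta2

open Cfsg Cfsg.FusionSystem Cfsg.Agent.Helper25

variable {Ω : Type*} [Group Ω] {S : Subgroup Ω}

/-- The subgroup of `k`-th powers of a commutative subgroup. -/
def powSub (E : Subgroup Ω) (hEab : ∀ x ∈ E, ∀ y ∈ E, x * y = y * x) (k : ℕ) : Subgroup E where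
  carrier := {x | ∃ y : E, y ^ k = x}
  one_mem' := ⟨1, one_pow k⟩
  mul_mem' := by
    rintro _ _ ⟨y₁, rfl⟩ ⟨y₂, rfl⟩
    refine ⟨y₁ * y₂, ?_⟩
    have hc : Commute y₁ y₂ := Subtype.ext (hEab y₁ y₁.2 y₂ y₂.2)
    exact hc.mul_pow k
  inv_mem' := by
    rintro _ ⟨y, rfl⟩
    exact ⟨y⁻¹, inv_pow y k⟩

theorem mem_powSub {E : Subgroup Ω} {hEab : ∀ x ∈ E, ∀ y ∈ E, x * y = y * x} {k : ℕ} {x : E} :
    x ∈ powSub E hEab k ↔ ∃ y : E, y ^ k = x := Iff.rfl

theorem inn_eq_bot_of_comm {E : Subgroup Ω} (hEab : ∀ x ∈ E, ∀ y ∈ E, x * y = y * x) :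
    Inn E = ⊥ := by
  rw [eq_bot_iff]
  rintro _ ⟨e, rfl⟩
  rw [Subgroup.mem_bot]
  ext x
  show ((e * x * e⁻¹ : E) : Ω) = x
  have : e * x = x * e := Subtype.ext (hEab e e.2 x x.2)
  rw [this]
  simp

theorem not_essential_of_comm_sq [Finite S] (hS : IsPGroup 2 S) (F : FusionSystem S)
    {E : Subgroup Ω} (hE : F.IsEssential 2 E) (hEab : ∀ x ∈ E, ∀ y ∈ E, x * y = y * x)
    (hES : E ≠ S)
    (H : ∀ g ∈ S, g ∈ Subgroup.normalizer (E : Set Ω) → g * g ∈ E →
      ∀ x ∈ E, ∃ y ∈ E, g * x * g⁻¹ * x⁻¹ = y * y) : False := by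
  have : Fact (Nat.Prime 2) := ⟨Nat.prime_two⟩
  have hPS : E ≤ S := hE.1.1
  have hC : centralizerIn S E ≤ E := hE.1.2 E (isConj_refl F hPS)
  have hfinE : Finite E := finite_of_le hPS
  have hEp : IsPGroup 2 E := isPGroup_of_le hS hPS
  obtain ⟨m, hm⟩ := IsPGroup.iff_card.mp hEp
  have hpow : ∀ y : E, y ^ (2 ^ m) = 1 := fun y => by rw [← hm]; exact pow_card_eq_one'
  let N : ℕ → Subgroup E := fun i => powSub E hEab (2 ^ (m - i))
  have hN0 : N 0 = ⊥ := by
    rw [eq_bot_iff]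
    rintro _ ⟨y, rfl⟩
    rw [Subgroup.mem_bot, Nat.sub_zero]
    exact hpow y
  have hNmono : Monotone N := by
    intro i j hij
    rintro _ ⟨y, rfl⟩
    have e : (m - i) - (m - j) + (m - j) = m - i := by omega
    refine ⟨y ^ (2 ^ ((m - i) - (m - j))), ?_⟩
    rw [← pow_mul, ← pow_add, e]
  have hNtop : N m = ⊤ := by
    rw [eq_top_iff]
    intro x _
    refine ⟨x, ?_⟩
    simp
  have hinv : ∀ β : MulAut E, ∀ i, ∀ x ∈ N i, β x ∈ N i := by
    rintro β i _ ⟨y, rfl⟩
    exact ⟨β y, (map_pow β y _).symm⟩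
  obtain ⟨K, hK⟩ : ∃ K, K = chainStabilizer hEp N hN0 hNmono hNtop ⊓ F.autGroup E := ⟨_, rfl⟩
  have hKI : K ≤ Inn E := by
    apply opAutLeInn_of_isEssential F 2 hE K (hK ▸ inf_le_right)
    · intro α hα k hk
      rw [hK] at hk ⊢
      refine ⟨?_, (F.autGroup E).mul_mem ((F.autGroup E).mul_mem hα hk.2)
        ((F.autGroup E).inv_mem hα)⟩
      have hks : StabilizesChain N k := hk.1
      show StabilizesChain N (α * k * α⁻¹)
      intro i x hx
      have hy : α⁻¹ x ∈ N (i + 1) := hinv α⁻¹ _ x hx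
      have h1 := hks i _ hy
      have h2 := hinv α i _ h1
      have e : α (k (α⁻¹ x) * (α⁻¹ x)⁻¹) = (α * k * α⁻¹) x * x⁻¹ := by
        simp [MulAut.mul_apply]
      rwa [e] at h2
    · rw [hK]
      exact (chainStabilizer_isPGroup hEp N hN0 hNmono hNtop).to_le inf_le_left
  rw [inn_eq_bot_of_comm hEab] at hKI
  -- every automorphism induced by `S` is trivial
  have hA : autInducedBy S E ≤ Inn E := by
    rw [inn_eq_bot_of_comm hEab]
    by_contra hne
    have hAp : IsPGroup 2 (autInducedBy S E) := autInducedBy_isPGroup hS E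
    have hnt : Nontrivial (autInducedBy S E) := by
      rw [Subgroup.nontrivial_iff_ne_bot]
      intro h
      exact hne (h ▸ le_rfl)
    obtain ⟨k, hk⟩ := IsPGroup.iff_card.mp hAp
    have hk0 : k ≠ 0 := by
      rintro rfl
      rw [pow_zero] at hk
      have := (Nat.card_eq_one_iff_unique.mp hk).1
      exact not_subsingleton _ this
    have hdvd : 2 ∣ Nat.card (autInducedBy S E) := by rw [hk]; exact dvd_pow_self 2 hk0
    obtain ⟨⟨β, hβA⟩, hβ⟩ := exists_prime_orderOf_dvd_card' 2 hdvd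
    have hβ2 : orderOf β = 2 := by
      rw [← hβ]
      exact (Subgroup.orderOf_mk β hβA).symm
    obtain ⟨g, hgS, hg⟩ := (mem_autInducedBy_iff S E β).mp hβA
    have hsq : β * β = 1 := by
      rw [← pow_two, ← hβ2]; exact pow_orderOf_eq_one β
    have hgn : ∀ x ∈ E, g * x * g⁻¹ ∈ E := fun x hx => by
      rw [← hg ⟨x, hx⟩]; exact (β ⟨x, hx⟩).2
    have hgg : ∀ x ∈ E, (g * g) * x * (g * g)⁻¹ = x := by
      intro x hx
      have h1 := congrArg (fun γ : MulAut E => ((γ ⟨x, hx⟩ : E) : Ω)) hsq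
      simp only [MulAut.mul_apply, MulAut.one_apply] at h1
      rw [hg, hg] at h1
      calc (g * g) * x * (g * g)⁻¹ = g * (g * x * g⁻¹) * g⁻¹ := by group
        _ = x := h1
    have hggE : g * g ∈ E := by
      apply hC
      refine Subgroup.mem_inf.mpr ⟨S.mul_mem hgS hgS, ?_⟩
      rw [Subgroup.mem_centralizer_iff]
      intro x hx
      have h0 := hgg x hx
      calc x * (g * g) = ((g * g) * x * (g * g)⁻¹) * (g * g) := by rw [h0]
        _ = g * g * x := by group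
    have hgN : g ∈ Subgroup.normalizer (E : Set Ω) := by
      rw [Subgroup.mem_normalizer_iff]
      intro x
      refine ⟨hgn x, fun hx => ?_⟩
      have h1 := hgn _ hx
      have h2 := E.mul_mem (E.mul_mem (E.inv_mem hggE) h1) hggE
      have e : (g * g)⁻¹ * (g * (g * x * g⁻¹) * g⁻¹) * (g * g) = x := by group
      rwa [e] at h2
    have hst : StabilizesChain N β := by
      intro i x hx
      obtain ⟨y, rfl⟩ := hx
      obtain ⟨z, hzE, hz⟩ := H g hgS hgN hggE y y.2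
      by_cases hi : i + 1 ≤ m
      · refine ⟨⟨z, hzE⟩, ?_⟩
        apply Subtype.ext
        have e1 : ((β (y ^ 2 ^ (m - (i + 1))) * (y ^ 2 ^ (m - (i + 1)))⁻¹ : E) : Ω) =
            (g * (y : Ω) * g⁻¹ * (y : Ω)⁻¹) ^ 2 ^ (m - (i + 1)) := by
          have hc : Commute (g * (y : Ω) * g⁻¹) ((y : Ω)⁻¹) :=
            hEab _ (hgn _ y.2) _ (E.inv_mem y.2)
          rw [hc.mul_pow]
          show ((β (y ^ 2 ^ (m - (i + 1))) : E) : Ω) * (((y ^ 2 ^ (m - (i + 1)) : E) : Ω))⁻¹ = _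
          rw [hg, Subgroup.coe_pow, conj_pow, inv_pow]
        rw [e1, hz, Subgroup.coe_pow, ← pow_two, ← pow_mul, ← pow_succ']
        congr 2
        omega
      · have : m - i = 0 := by omega
        show _ ∈ powSub E hEab (2 ^ (m - i))
        rw [this]
        exact ⟨_, pow_one _⟩
    have hβK : β ∈ K := by rw [hK]; exact ⟨hst, autInducedBy_le_autGroup F hPS hβA⟩
    have := hKI hβK
    rw [Subgroup.mem_bot] at this
    rw [this, orderOf_one] at hβ2
    omega
  have hSE : S ≤ E := le_of_autInducedBy_le_inn 2 hS le_rfl Subgroup.le_normalizer hPS hC hA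
  exact hES (le_antisymm hPS hSE)

end Cfsg.Agent.Helper26.Meta2
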