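import Mathlib
import Cfsg.Agent.Helper26.Meta2B
import Cfsg.Agent.Helper26.Meta2C
import Cfsg.Agent.Helper26.FusionInner
import Cfsg.Agent.S1896

set_option autoImplicit false

/-! Saturated fusion systems on metacyclic 2-groups outside the short list are inner: assembly. -/

namespace Cfsg.Agent.Helper26.Meta2

open Cfsg Cfsg.FusionSystem Cfsg.Agent.Helper25

universe u

variable {Ω : Type u} [Group Ω] {S : Subgroup Ω}

/-- No essential subgroups and a `p`-group as automizer of `S` force the inner system. -/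
theorem hom_eq_inner_of_no_essential [Finite S] (p : ℕ) [Fact p.Prime] (hS : IsPGroup p S)
    (F : FusionSystem S) (hF : F.IsSaturated p)
    (hSaut : IsPGroup p (F.autGroup S)) (hess : ∀ Q : Subgroup Ω, ¬ F.IsEssential p Q)
    (P : Subgroup Ω) :
    F.Hom P = (innerFusionSystem S).Hom P := by
  apply Set.Subset.antisymm _ (inner_le F P)
  have hle : F ≤ innerFusionSystem S := by
    apply alperin_le p hS F hF
    rintro Q (rfl | hQ)
    · have hFA := (Cfsg.Agent.S5077.sylow_axiom p hS F hF Q (top_isFullyNormalized F)).2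
      rw [isFullyAutomized_iff_card F p le_rfl] at hFA
      obtain ⟨k, hk⟩ := IsPGroup.iff_card.mp hSaut
      have hpp : pPart p (Nat.card (F.autGroup Q)) = Nat.card (F.autGroup Q) := by
        rw [hk]; unfold pPart
        rw [Nat.Prime.factorization_pow (Fact.out : p.Prime)]
        simp
      rw [hpp] at hFA
      have hfin : Finite (F.autGroup Q) := inferInstance
      have heq : autInducedBy Q Q = F.autGroup Q :=
        Subgroup.eq_of_le_of_card_ge (autInducedBy_le_autGroup F le_rfl) (le_of_eq hFA.symm)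
      intro α hα
      rw [← heq, mem_autInducedBy_iff] at hα
      obtain ⟨g, hg, hgα⟩ := hα
      rw [mem_autGroup_iff (innerFusionSystem Q) le_rfl]
      exact ⟨le_rfl, g, hg, hgα⟩
    · exact absurd hQ (hess Q)
  exact hle P

/-- Subgroups of `S` with a non-2-group automizer are `Q_8` or homocyclic of rank two. -/
theorem sub_cases [Finite S] (hS : IsPGroup 2 S) (hm : Cfsg.IsMetacyclic ↥S) (F : FusionSystem S)
    {P : Subgroup Ω} (hPS : P ≤ S) (hP : ¬ IsPGroup 2 (F.autGroup P)) :
    Nonempty (↥P ≃* QuaternionGroup 2) ∨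
      ∃ n : ℕ, Nonempty (↥P ≃* Multiplicative (ZMod (2 ^ n)) × Multiplicative (ZMod (2 ^ n))) := by
  have : Finite P := finite_of_le hPS
  have hP2 : IsPGroup 2 P :=
    IsPGroup.of_injective hS (Subgroup.inclusion hPS) (Subgroup.inclusion_injective hPS)
  have hPm : Cfsg.IsMetacyclic ↥P :=
    isMetacyclic_of_injective (Subgroup.inclusion hPS) (Subgroup.inclusion_injective hPS) hm
  have hA : ¬ IsPGroup 2 (MulAut P) := fun h => hP (h.to_subgroup _)
  exact Cfsg.Agent.S1896.result hP2 hPm hA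

/-- The elements of `⟨E, g⟩` when `g` normalizes `E` and `g² ∈ E`. -/
theorem mem_or_of_mem_sup {E : Subgroup Ω} {g : Ω} (hgN : g ∈ Subgroup.normalizer (E : Set Ω))
    (hg2 : g * g ∈ E) {t : Ω} (ht : t ∈ E ⊔ Subgroup.zpowers g) :
    t ∈ E ∨ ∃ e ∈ E, t = g * e := by
  have hN1 : ∀ x ∈ E, g * x * g⁻¹ ∈ E := fun x hx => (Subgroup.mem_normalizer_iff.mp hgN x).mp hx
  have hN2 : ∀ x ∈ E, g⁻¹ * x * g ∈ E := by
    intro x hx
    apply (Subgroup.mem_normalizer_iff.mp hgN (g⁻¹ * x * g)).mpr
    have : g * (g⁻¹ * x * g) * g⁻¹ = x := by group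
    rw [this]; exact hx
  let K : Subgroup Ω :=
    { carrier := {t | t ∈ E ∨ ∃ e ∈ E, t = g * e}
      one_mem' := Or.inl E.one_mem
      mul_mem' := by
        rintro a b (ha | ⟨e1, he1, rfl⟩) (hb | ⟨e2, he2, rfl⟩)
        · exact Or.inl (E.mul_mem ha hb)
        · exact Or.inr ⟨g⁻¹ * a * g * e2, E.mul_mem (hN2 a ha) he2, by group⟩
        · exact Or.inr ⟨e1 * b, E.mul_mem he1 hb, by group⟩
        · refine Or.inl ?_
          have : g * e1 * (g * e2) = g * g * (g⁻¹ * e1 * g) * e2 := by group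
          rw [this]
          exact E.mul_mem (E.mul_mem hg2 (hN2 e1 he1)) he2
      inv_mem' := by
        rintro a (ha | ⟨e1, he1, rfl⟩)
        · exact Or.inl (E.inv_mem ha)
        · exact Or.inr ⟨(g * g)⁻¹ * (g * e1⁻¹ * g⁻¹),
            E.mul_mem (E.inv_mem hg2) (hN1 _ (E.inv_mem he1)), by group⟩ }
  have hle : E ⊔ Subgroup.zpowers g ≤ K := by
    apply sup_le
    · intro x hx; exact Or.inl hx
    · rw [Subgroup.zpowers_le]
      exact Or.inr ⟨1, E.one_mem, (mul_one g).symm⟩
  exact hle ht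

/-- Rank-two homocyclic as a power of a cyclic group. -/
noncomputable def prodEquivFinTwo (k : ℕ) :
    Multiplicative (ZMod k) × Multiplicative (ZMod k) ≃* Multiplicative (Fin 2 → ZMod k) :=
  (MulEquiv.prodMultiplicative (ZMod k) (ZMod k)).symm.trans
    (AddEquiv.toMultiplicative (LinearEquiv.finTwoArrow ℤ (ZMod k)).symm.toAddEquiv)

theorem homocyclic_facts {E : Type u} [Group E] (n : ℕ)
    (e : E ≃* Multiplicative (ZMod (2 ^ n)) × Multiplicative (ZMod (2 ^ n))) :
    (∀ x y : E, x * y = y * x) ∧ Nat.card E = 4 ^ n ∧ ∀ x : E, x ^ (2 ^ n) = 1 := by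
  have : NeZero (2 ^ n) := ⟨pow_ne_zero _ (by norm_num)⟩
  refine ⟨?_, ?_, ?_⟩
  · intro x y
    apply e.injective
    rw [map_mul, map_mul, mul_comm]
  · rw [Nat.card_congr e.toEquiv, Nat.card_prod]
    have h1 : Nat.card (Multiplicative (ZMod (2 ^ n))) = 2 ^ n := by
      rw [Nat.card_congr Multiplicative.toAdd, Nat.card_zmod]
    rw [h1, ← mul_pow]
    norm_num
  · intro x
    apply e.injective
    rw [map_pow, map_one]
    have h1 : Nat.card (Multiplicative (ZMod (2 ^ n))) = 2 ^ n := by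
      rw [Nat.card_congr Multiplicative.toAdd, Nat.card_zmod]
    have h2 : ∀ a : Multiplicative (ZMod (2 ^ n)), a ^ (2 ^ n) = 1 := by
      intro a
      have := pow_card_eq_one' (x := a)
      rwa [h1] at this
    ext
    · simp [h2]
    · simp [h2]

/-- Main theorem: metacyclic 2-groups outside the list support only the inner system. -/
theorem inner_of_metacyclic [Finite S] (hS : IsPGroup 2 S) (F : FusionSystem S)
    (hF : F.IsSaturated 2) (hm : Cfsg.IsMetacyclic ↥S)
    (hh : ¬ ∃ n k : ℕ, Nonempty (↥S ≃* Multiplicative (Fin k → ZMod (2 ^ n))))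
    (hd : ¬ ∃ m : ℕ, Nonempty (↥S ≃* DihedralGroup m))
    (hq : ¬ ∃ m : ℕ, Nonempty (↥S ≃* QuaternionGroup m))
    (hsd : ¬ Cfsg.IsQuasiDihedral ↥S) (P : Subgroup Ω) :
    F.Hom P = (innerFusionSystem S).Hom P := by
  have : Fact (Nat.Prime 2) := ⟨Nat.prime_two⟩
  have hSaut : IsPGroup 2 (F.autGroup S) := by
    by_contra hcon
    rcases sub_cases hS hm F le_rfl hcon with ⟨⟨e⟩⟩ | ⟨n, ⟨e⟩⟩
    · exact hq ⟨2, ⟨e⟩⟩
    · exact hh ⟨n, 2, ⟨e.trans (prodEquivFinTwo (2 ^ n))⟩⟩
  have hlist : ¬ ((∃ m : ℕ, Nonempty (↥S ≃* DihedralGroup m)) ∨ Cfsg.IsQuasiDihedral ↥S ∨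
      (∃ m : ℕ, Nonempty (↥S ≃* QuaternionGroup m))) := by
    rintro (h | h | h)
    · exact hd h
    · exact hsd h
    · exact hq h
  apply hom_eq_inner_of_no_essential 2 hS F hF hSaut
  intro E hE
  have hES : E ≤ S := hE.1.1
  have hC : centralizerIn S E ≤ E := hE.1.2 E (isConj_refl F hES)
  have hEaut : ¬ IsPGroup 2 (F.autGroup E) := fun h => not_isEssential_of_isPGroup F 2 h hE
  have hne : E ≠ S := by
    rintro rfl
    exact hEaut hSaut
  have : Finite E := finite_of_le hES
  rcases sub_cases hS hm F hES hEaut with ⟨⟨e⟩⟩ | ⟨n, ⟨e⟩⟩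
  · exact hlist (cases_of_selfCentralizing_q8 hS hES e hC)
  · obtain ⟨hab, hcard, hexp⟩ := homocyclic_facts n e
    have hEab : ∀ x ∈ E, ∀ y ∈ E, x * y = y * x := by
      intro x hx y hy
      exact congrArg Subtype.val (hab ⟨x, hx⟩ ⟨y, hy⟩)
    rcases Nat.lt_or_ge n 2 with hn | hn
    · interval_cases n
      · -- trivial `E`
        rw [pow_zero] at hcard
        have hbot : E = ⊥ := (Subgroup.card_eq_one).mp hcard
        apply hne
        apply le_antisymm hES
        intro s hs
        apply hC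
        refine Subgroup.mem_inf.mpr ⟨hs, ?_⟩
        rw [Subgroup.mem_centralizer_iff]
        intro y hy
        rw [hbot, Subgroup.coe_bot, Set.mem_singleton_iff] at hy
        rw [hy, one_mul, mul_one]
      · rw [pow_one] at hcard
        exact hlist (cases_of_selfCentralizing_four hS hES hne hcard hEab hC)
    · apply not_essential_of_comm_sq hS F hE hEab hne
      intro g hgS hgN hg2 x hx
      -- the subgroup `T = ⟨E, g⟩`
      obtain ⟨T, hT⟩ : ∃ T, T = E ⊔ Subgroup.zpowers g := ⟨_, rfl⟩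
      have hET : E ≤ T := hT ▸ le_sup_left
      have hgT : g ∈ T := hT ▸ (le_sup_right : Subgroup.zpowers g ≤ _) (Subgroup.mem_zpowers g)
      have hTS : T ≤ S := by
        rw [hT]
        exact sup_le hES ((Subgroup.zpowers_le).mpr hgS)
      have hTm : Cfsg.IsMetacyclic ↥T :=
        isMetacyclic_of_injective (Subgroup.inclusion hTS) (Subgroup.inclusion_injective hTS) hm
      have hfin : Finite (E.subgroupOf T) :=
        Finite.of_equiv _ (Subgroup.subgroupOfEquivOfLe hET).symm.toEquiv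
      have hN1 : ∀ x ∈ E, g * x * g⁻¹ ∈ E :=
        fun x hx => (Subgroup.mem_normalizer_iff.mp hgN x).mp hx
      have key := comm_sq_of_metacyclic hTm (E.subgroupOf T)
        (fun a ha b hb => Subtype.ext (hEab a.1 (Subgroup.mem_subgroupOf.mp ha) b.1
          (Subgroup.mem_subgroupOf.mp hb))) n hn
        (by rw [Nat.card_congr (Subgroup.subgroupOfEquivOfLe hET).toEquiv, hcard])
        (fun a ha => by
          apply Subtype.ext
          have := congrArg Subtype.val (hexp ⟨a.1, Subgroup.mem_subgroupOf.mp ha⟩)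
          simpa using this)
        ⟨g, hgT⟩
        (fun a ha => Subgroup.mem_subgroupOf.mpr (by
          simpa using hN1 a.1 (Subgroup.mem_subgroupOf.mp ha)))
        (Subgroup.mem_subgroupOf.mpr (by simpa using hg2))
        (fun t => by
          have ht : (t : Ω) ∈ E ⊔ Subgroup.zpowers g := hT ▸ t.2
          rcases mem_or_of_mem_sup hgN hg2 ht with h | ⟨e', he', h⟩
          · exact Or.inl (Subgroup.mem_subgroupOf.mpr h)
          · exact Or.inr ⟨⟨e', hET he'⟩, Subgroup.mem_subgroupOf.mpr he', Subtype.ext h⟩)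
      obtain ⟨y, hy, hxy⟩ := key ⟨x, hET hx⟩ (Subgroup.mem_subgroupOf.mpr hx)
      refine ⟨y.1, Subgroup.mem_subgroupOf.mp hy, ?_⟩
      have := congrArg Subtype.val hxy
      simpa using this

end Cfsg.Agent.Helper26.Meta2
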