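import Cfsg.Agent.Helper29.OC2K.Defs
import Cfsg.Agent.Helper29.OC2K.STAB
import Cfsg.Agent.Helper29.OC2K.BLK
import Cfsg.Agent.Helper29.OC2K.CMP1
import Cfsg.Agent.Helper29.OC2K.CMP2
import Cfsg.Agent.Helper29.OC2K.STEP0
import Cfsg.Agent.Helper29.OC2K.REFLMEM
import Cfsg.Agent.Helper29.OC2K.SIEGMEM
import Cfsg.Agent.Helper29.OC2K.GEOC
import Cfsg.Agent.Helper27.OC2KQ2GEO

set_option autoImplicit false
set_option linter.unusedSectionVars false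
set_option linter.unusedVariables false

/-! # S5694 CHAR2, `q = 2` route 2 (designer helper10), piece Q2NPURE (helper26). -/

namespace Cfsg.Agent.OC2K

open Matrix Cfsg.Agent.Helper28.Sg Cfsg.Agent.Helper28.Spin Cfsg.Agent.Helper12.OrthGen
  Cfsg.Agent.S2614 Cfsg.Agent.S5683P Cfsg.Agent.Helper28.NDM

variable {F : Type*} [Field F] {t k : ℕ} {ι : Type} [Fintype ι] [DecidableEq ι] {Q : QuadraticForm F (ι → F)} [QHyp Q] {D : Fin t → Submodule F (ι → F)}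
  {M : Subgroup (OGq Q)}

/-- an isometry is injective on vectors -/
theorem Q2.NPURE.aux_inj (g : OGq Q) {x : ι → F} (h : mt (Q) g *ᵥ x = 0) : x = 0 := by
  have := mt_inv_mulVec (Q) g x
  rw [h, mulVec_zero] at this
  exact this.symm

/-- if `g a` and `g (a + u)` are pure but `g u` is not, the components of `g u` are `- g a`, `g (a + u)`, `0` -/
theorem Q2.NPURE.aux_cmp (hD : HD Q k D) (g : OGq Q) {a u : ι → F}
    (hv : ¬ Pure D (mt (Q) g *ᵥ u)) {b₁ b₂ : Fin t} (h1 : mt (Q) g *ᵥ a ∈ D b₁)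
    (h2 : mt (Q) g *ᵥ (a + u) ∈ D b₂) :
    b₁ ≠ b₂ ∧ ∀ b, cmp D b (mt (Q) g *ᵥ u) =
      (if b = b₂ then mt (Q) g *ᵥ (a + u) else 0) - (if b = b₁ then mt (Q) g *ᵥ a else 0) := by
  have hv' : mt (Q) g *ᵥ u = mt (Q) g *ᵥ (a + u) - mt (Q) g *ᵥ a := by
    rw [mulVec_add, add_sub_cancel_left]
  have hne : b₁ ≠ b₂ := by
    rintro rfl
    apply hv
    rw [hv']
    exact ⟨b₁, (D b₁).sub_mem h2 h1⟩
  refine ⟨hne, fun b => ?_⟩
  rw [hv', map_sub]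
  congr 1
  · by_cases hb : b = b₂
    · subst hb
      rw [if_pos rfl, CMP1.of_mem hD h2]
    · rw [if_neg hb, CMP1.of_mem_ne hD (Ne.symm hb) h2]
  · by_cases hb : b = b₁
    · subst hb
      rw [if_pos rfl, CMP1.of_mem hD h1]
    · rw [if_neg hb, CMP1.of_mem_ne hD (Ne.symm hb) h1]

theorem Q2.NPURE.main [Fintype F] (hq : Fintype.card F = 2) (hD : HD Q k D)
    (hts : ∀ (c : Fin t) (W : Submodule F (ι → F)), W ≤ D c → (∀ x ∈ W, Q x = 0) →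
      Module.finrank F W + 3 ≤ k) {g : OGq Q} (hg : g ∉ StabO D) :
    ∃ c, ∃ a ∈ D c, Q a ≠ 0 ∧ ¬ Pure D (mt (Q) g *ᵥ a) := by
  obtain ⟨c, u, hu, hu0, hQu, hv⟩ := STEP0B.exists_nonpure hD hg
  obtain ⟨a₁, ha₁, hQa₁, hua₁, -⟩ := Q2.GEO.codim2 hD hts c u u
  obtain ⟨y, hy, huy, hya₁⟩ := Q2.GEO.partner hD hu hu0 hQu ha₁ hQa₁
  obtain ⟨a₂, ha₂, hQa₂, hua₂, hya₂⟩ := Q2.GEO.codim2 hD hts c u y
  have hyu : B (Q) y u = 0 := by rw [B_comm]; exact huy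
  have hQ1 : Q (a₁ + u) ≠ 0 := by
    rw [Q_add, hQu, add_zero, B_comm, hua₁, add_zero]; exact hQa₁
  have hQ2 : Q (a₂ + u) ≠ 0 := by
    rw [Q_add, hQu, add_zero, B_comm, hua₂, add_zero]; exact hQa₂
  by_contra hcon
  push Not at hcon
  obtain ⟨b₁, h1⟩ := hcon c a₁ ha₁ hQa₁
  obtain ⟨b₂, h2⟩ := hcon c (a₁ + u) ((D c).add_mem ha₁ hu) hQ1
  obtain ⟨b₃, h3⟩ := hcon c a₂ ha₂ hQa₂
  obtain ⟨b₄, h4⟩ := hcon c (a₂ + u) ((D c).add_mem ha₂ hu) hQ2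
  obtain ⟨h12, hc1⟩ := Q2.NPURE.aux_cmp hD g hv h1 h2
  obtain ⟨h34, hc2⟩ := Q2.NPURE.aux_cmp hD g hv h3 h4
  have e := (hc1 b₃).symm.trans (hc2 b₃)
  rw [if_neg h34, if_pos rfl, zero_sub] at e
  by_cases hb1 : b₃ = b₁
  · have hb2 : b₃ ≠ b₂ := by rw [hb1]; exact h12
    rw [if_neg hb2, if_pos hb1, zero_sub, neg_inj] at e
    have h0 : mt (Q) g *ᵥ (a₁ - a₂) = 0 := by rw [mulVec_sub, e, sub_self]
    have := Q2.NPURE.aux_inj g h0
    rw [sub_eq_zero] at this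
    rw [this, hya₂] at hya₁
    exact zero_ne_one hya₁
  · rw [if_neg hb1, sub_zero] at e
    by_cases hb2 : b₃ = b₂
    · rw [if_pos hb2] at e
      have h0 : mt (Q) g *ᵥ (a₁ + u + a₂) = 0 := by
        rw [mulVec_add, e, neg_add_cancel]
      have := Q2.NPURE.aux_inj g h0
      have h5 : B (Q) y (a₁ + u + a₂) = 0 := by
        rw [this]; simp [B]
      simp only [B, QuadraticMap.polar_add_right] at h5 hya₁ hyu hya₂
      rw [hya₁, hyu, hya₂, add_zero, add_zero] at h5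
      exact one_ne_zero h5
    · rw [if_neg hb2] at e
      have h0 : mt (Q) g *ᵥ a₂ = 0 := by
        rw [← neg_eq_zero]; exact e.symm
      have := Q2.NPURE.aux_inj g h0
      rw [this, map_zero] at hQa₂
      exact hQa₂ rfl

end Cfsg.Agent.OC2K
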