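import Mathlib
import Cfsg.Agent.Helper18.PearlR2
import Cfsg.Agent.Helper18.PearlU
import Cfsg.Agent.Helper1.PGroup

/-!
# S5239 piece B (driver helper10): a subgroup of a finite `p`-group containing a uniform element
(centralizer of order `p^2`) is 2-generated.
-/

set_option autoImplicit false

namespace Cfsg.Agent.Helper26.Pearl3

theorem two_generated_of_uniform_mem {X : Type*} [Group X] [Finite X] {p : ℕ} [Fact p.Prime]
    (hXp : IsPGroup p X) (H : Subgroup X)
    (y : X) (hyH : y ∈ H) (hy : Nat.card (Subgroup.centralizer ({y} : Set X)) = p ^ 2) :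
    ∃ T : Finset X, T.card ≤ 2 ∧ Subgroup.closure (T : Set X) = H := by
  classical
  have hp : p.Prime := Fact.out
  have hHp : IsPGroup p ↥H := hXp.to_subgroup H
  obtain ⟨m, hm⟩ := IsPGroup.iff_card.mp hHp
  apply Cfsg.Agent.Helper18.Pearl.exists_finset_closure_eq_of_card_le_frattini hXp H 2
  by_cases hm2 : m ≤ 2
  · -- small case
    rw [hm]
    calc p ^ m ≤ p ^ 2 := Nat.pow_le_pow_right hp.pos hm2
      _ = p ^ 2 * 1 := (mul_one _).symm
      _ ≤ p ^ 2 * Nat.card (frattini ↥H) :=
          Nat.mul_le_mul_left _ (Nat.one_le_iff_ne_zero.mpr Nat.card_pos.ne')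
  · have hm3 : 3 ≤ m := by omega
    set y' : ↥H := ⟨y, hyH⟩ with hy'
    -- the centralizer of y' in H
    set C : Subgroup ↥H := Subgroup.centralizer ({y'} : Set ↥H) with hC
    have hCle : Nat.card C ≤ p ^ 2 := by
      rw [← hy]
      let f : C → Subgroup.centralizer ({y} : Set X) := fun c =>
        ⟨(c.1 : X), by
          have hc : c.1 ∈ Subgroup.centralizer ({y'} : Set ↥H) := c.2
          rw [Subgroup.mem_centralizer_singleton_iff] at hc
          rw [Subgroup.mem_centralizer_singleton_iff]
          have := congrArg (Subtype.val) hc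
          simpa [hy'] using this⟩
      have hf : Function.Injective f := by
        intro a b hab
        have : (a.1 : X) = (b.1 : X) := congrArg (fun z => (z.1 : X)) hab
        exact Subtype.ext (Subtype.ext this)
      exact Nat.card_le_card_of_injective f hf
    have hCge : p ^ 2 ≤ Nat.card C := by
      obtain ⟨k, hk⟩ := IsPGroup.iff_card.mp (hHp.to_subgroup C)
      by_contra hlt
      rw [hk] at hlt
      have hk1 : k ≤ 1 := by
        by_contra hk2
        exact hlt (Nat.pow_le_pow_right hp.pos (by omega))
      -- the centre of H is nontrivial and inside C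
      have hnt : Nontrivial ↥H := by
        rw [← Finite.one_lt_card_iff_nontrivial, hm]
        exact Nat.one_lt_pow (by omega) hp.one_lt
      have hZnt : Nontrivial (Subgroup.center ↥H) := hHp.center_nontrivial
      have hZle : Subgroup.center ↥H ≤ C := by
        intro z hz
        rw [hC, Subgroup.mem_centralizer_singleton_iff]
        exact (Subgroup.mem_center_iff.mp hz y').symm
      have hZcard : p ≤ Nat.card (Subgroup.center ↥H) := by
        obtain ⟨j, hj⟩ := IsPGroup.iff_card.mp (hHp.to_subgroup (Subgroup.center ↥H))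
        have : 1 < Nat.card (Subgroup.center ↥H) := Finite.one_lt_card_iff_nontrivial.mpr hZnt
        rw [hj] at this ⊢
        have hj1 : 1 ≤ j := by
          rcases Nat.eq_zero_or_pos j with h0 | h0
          · rw [h0] at this; simp at this
          · exact h0
        calc p = p ^ 1 := (pow_one p).symm
          _ ≤ p ^ j := Nat.pow_le_pow_right hp.pos hj1
      have hCcard : Nat.card C ≤ p := by
        rw [hk]
        calc p ^ k ≤ p ^ 1 := Nat.pow_le_pow_right hp.pos hk1
          _ = p := pow_one p
      have hZC : Subgroup.center ↥H = C :=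
        Subgroup.eq_of_le_of_card_ge hZle (hCcard.trans hZcard)
      have hyC : y' ∈ C := by
        rw [hC, Subgroup.mem_centralizer_singleton_iff]
      rw [← hZC] at hyC
      have hCtop : C = ⊤ := by
        rw [eq_top_iff]
        intro g _
        rw [hC, Subgroup.mem_centralizer_singleton_iff]
        exact (Subgroup.mem_center_iff.mp hyC g)
      have : Nat.card C = p ^ m := by rw [hCtop, Subgroup.card_top, hm]
      rw [this] at hCcard
      have h3 : p ^ 3 ≤ p ^ m := Nat.pow_le_pow_right hp.pos hm3
      have h4 : p < p ^ 3 := by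
        calc p = p ^ 1 := (pow_one p).symm
          _ < p ^ 3 := Nat.pow_lt_pow_right hp.one_lt (by norm_num)
      omega
    have hCcard : Nat.card C = p ^ 2 := le_antisymm hCle hCge
    have hlcs := Cfsg.Agent.Helper18.Pearl.card_lcs_of_uniform hm hm3 y' hCcard 1 le_rfl (by omega)
    have hL1 : Subgroup.lowerCentralSeries (⊤ : Subgroup ↥H) 1 ≤ frattini ↥H := by
      rw [Subgroup.top_lowerCentralSeries_one]
      exact Cfsg.Agent.Helper1.IsPGroup.commutator_le_frattini hHp
    have hfr : p ^ (m - 1 - 1) ≤ Nat.card (frattini ↥H) := by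
      rw [← hlcs]
      exact Subgroup.card_le_of_le hL1
    rw [hm]
    calc p ^ m = p ^ 2 * p ^ (m - 1 - 1) := by
          rw [← pow_add]; congr 1; omega
      _ ≤ p ^ 2 * Nat.card (frattini ↥H) := Nat.mul_le_mul_left _ hfr

end Cfsg.Agent.Helper26.Pearl3
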