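import Mathlib

/-!
# S5239 piece G (driver helper10): a group of order 81 with a core-free subgroup of index 9
is isomorphic to a Sylow 3-subgroup of `Perm (Fin 9)`.
-/

set_option autoImplicit false

namespace Cfsg.Agent.Helper26.Pearl3

theorem exists_sylow_iso_of_core_free {X : Type*} [Group X] [Finite X]
    (hX : Nat.card X = 81) (B : Subgroup X) (hB : B.index = 9)
    (hcore : B.normalCore = ⊥) :
    ∃ W : Sylow 3 (Equiv.Perm (Fin 9)), Nonempty (X ≃* ↥(W : Subgroup (Equiv.Perm (Fin 9)))) := by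
  classical
  have : Fact (Nat.Prime 3) := ⟨by norm_num⟩
  -- the action on cosets
  let φ : X →* Equiv.Perm (X ⧸ B) := MulAction.toPermHom X (X ⧸ B)
  have hφker : φ.ker = ⊥ := by
    rw [← hcore]; exact (Subgroup.normalCore_eq_ker B).symm
  have hφinj : Function.Injective φ := (MonoidHom.ker_eq_bot_iff φ).mp hφker
  have hcardQ : Nat.card (X ⧸ B) = 9 := by
    rw [← hB]; rfl
  have : Finite (X ⧸ B) := Nat.finite_of_card_ne_zero (by rw [hcardQ]; norm_num)
  have e : (X ⧸ B) ≃ Fin 9 := Finite.equivFinOfCardEq hcardQ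
  let ψ : X →* Equiv.Perm (Fin 9) := (e.permCongrHom.toMonoidHom).comp φ
  have hψinj : Function.Injective ψ := by
    intro a b hab
    apply hφinj
    exact e.permCongrHom.injective hab
  -- the image is a 3-group
  have hcardR : Nat.card ψ.range = 81 := by
    rw [← hX]
    exact (Nat.card_congr (MonoidHom.ofInjective hψinj).toEquiv).symm
  have hpR : IsPGroup 3 ψ.range := by
    apply IsPGroup.of_card (n := 4)
    rw [hcardR]; norm_num
  obtain ⟨W, hW⟩ := hpR.exists_le_sylow
  -- order of W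
  obtain ⟨k, hk⟩ := (IsPGroup.iff_card.mp W.isPGroup')
  have hdvd1 : 81 ∣ Nat.card W := by
    rw [← hcardR]
    exact Subgroup.card_dvd_of_le hW
  have hdvd2 : Nat.card W ∣ 362880 := by
    have h1 : Nat.card (W : Subgroup (Equiv.Perm (Fin 9))) ∣ Nat.card (Equiv.Perm (Fin 9)) :=
      Subgroup.card_subgroup_dvd_card _
    have h2 : Nat.card (Equiv.Perm (Fin 9)) = 362880 := by
      rw [Nat.card_eq_fintype_card, Fintype.card_perm, Fintype.card_fin]; rfl
    rw [h2] at h1; exact h1
  have hk4 : k ≤ 4 := by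
    by_contra hcon
    have h5 : 5 ≤ k := by omega
    have : 3 ^ 5 ∣ 362880 := by
      refine dvd_trans ?_ hdvd2
      rw [hk]
      exact pow_dvd_pow 3 h5
    norm_num at this
  have hk4' : 4 ≤ k := by
    rw [hk] at hdvd1
    have : 3 ^ 4 ∣ 3 ^ k := by simpa using hdvd1
    exact (Nat.pow_dvd_pow_iff_le_right (by norm_num)).mp this
  have hkeq : k = 4 := le_antisymm hk4 hk4'
  have hcardW : Nat.card W = 81 := by rw [hk, hkeq]; norm_num
  have hWeq : ψ.range = (W : Subgroup (Equiv.Perm (Fin 9))) := by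
    apply Subgroup.eq_of_le_of_card_ge hW
    rw [hcardR]
    exact le_of_eq hcardW
  refine ⟨W, ⟨?_⟩⟩
  exact (MonoidHom.ofInjective hψinj).trans (MulEquiv.subgroupCongr hWeq)

end Cfsg.Agent.Helper26.Pearl3
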