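import Mathlib
import Cfsg.Prelude.Def_FusionSystem

set_option autoImplicit false
set_option linter.style.haveILetI false
set_option linter.unusedSectionVars false
set_option linter.unusedVariables false

/-! Finite nonabelian `p`-groups with an abelian subgroup of index `p`: elementary structure. -/

namespace Cfsg.Agent.Helper26.OL

open scoped commutatorElement

variable {Ω : Type*} [Group Ω]

/-- the centre of `S`, as a subgroup of the ambient group -/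
def ZZ (S : Subgroup Ω) : Subgroup Ω := S ⊓ Subgroup.centralizer (S : Set Ω)

theorem mem_ZZ {S : Subgroup Ω} {z : Ω} : z ∈ ZZ S ↔ z ∈ S ∧ ∀ s ∈ S, s * z = z * s := by
  unfold ZZ
  rw [Subgroup.mem_inf, Subgroup.mem_centralizer_iff]
  rfl

theorem ZZ_le (S : Subgroup Ω) : ZZ S ≤ S := inf_le_left

/-- the standing hypotheses -/
structure Hyp (p : ℕ) (S A : Subgroup Ω) : Prop where
  hS : IsPGroup p S
  hAS : A ≤ S
  hAc : ∀ a ∈ A, ∀ b ∈ A, a * b = b * a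
  hidx : (A.subgroupOf S).index = p
  hna : ∃ s ∈ S, ∃ t ∈ S, s * t ≠ t * s

variable {p : ℕ} [Fact p.Prime] {S A : Subgroup Ω} [Finite S]

theorem Hyp.ne_bot (h : Hyp p S A) : S ≠ ⊥ := by
  intro hb
  obtain ⟨s, hs, t, ht, hst⟩ := h.hna
  rw [hb, Subgroup.mem_bot] at hs ht
  apply hst
  rw [hs, ht]

theorem Hyp.normal (h : Hyp p S A) : (A.subgroupOf S).Normal := by
  apply Subgroup.normal_of_index_eq_minFac_card
  rw [h.hidx]
  obtain ⟨n, hn⟩ := IsPGroup.iff_card.mp h.hS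
  rw [hn]
  have hn0 : n ≠ 0 := by
    intro h0
    rw [h0, pow_zero] at hn
    apply h.ne_bot
    exact (Subgroup.card_eq_one).mp hn
  exact (Nat.Prime.pow_minFac (Fact.out : p.Prime) hn0).symm

theorem Hyp.le_normalizer (h : Hyp p S A) : S ≤ Subgroup.normalizer (A : Set Ω) :=
  (Subgroup.normal_subgroupOf_iff_le_normalizer h.hAS).mp h.normal

theorem Hyp.conj_mem (h : Hyp p S A) {s a : Ω} (hs : s ∈ S) (ha : a ∈ A) : s * a * s⁻¹ ∈ A :=
  (Subgroup.mem_normalizer_iff.mp (h.le_normalizer hs) a).mp ha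

theorem Hyp.conj_mem' (h : Hyp p S A) {s a : Ω} (hs : s ∈ S) (ha : a ∈ A) : s⁻¹ * a * s ∈ A := by
  have := h.conj_mem (S.inv_mem hs) ha
  rwa [inv_inv] at this

theorem Hyp.card_eq (h : Hyp p S A) : Nat.card S = p * Nat.card A := by
  have h1 := Subgroup.index_mul_card (A.subgroupOf S)
  rw [h.hidx, Nat.card_congr (Subgroup.subgroupOfEquivOfLe h.hAS).toEquiv] at h1
  exact h1.symm

theorem Hyp.card_quot (h : Hyp p S A) : Nat.card (↥S ⧸ A.subgroupOf S) = p := by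
  rw [← Subgroup.index_eq_card]
  exact h.hidx

/-- every element of `S` is `a x^j` -/
theorem Hyp.exists_rep (h : Hyp p S A) {x : Ω} (hx : x ∈ S) (hxA : x ∉ A) :
    ∀ s ∈ S, ∃ a ∈ A, ∃ j : ℕ, s = a * x ^ j := by
  intro s hs
  haveI := h.normal
  have hx1 : (QuotientGroup.mk (⟨x, hx⟩ : S) : ↥S ⧸ A.subgroupOf S) ≠ 1 := by
    intro h1
    rw [QuotientGroup.eq_one_iff] at h1
    exact hxA h1
  have htop := zpowers_eq_top_of_prime_card h.card_quot hx1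
  haveI : Finite (↥S ⧸ A.subgroupOf S) := Nat.finite_of_card_ne_zero (by
    rw [h.card_quot]; exact (Fact.out : p.Prime).ne_zero)
  have hmem : (QuotientGroup.mk (⟨s, hs⟩ : S) : ↥S ⧸ A.subgroupOf S) ∈
      Submonoid.powers (QuotientGroup.mk (⟨x, hx⟩ : S) : ↥S ⧸ A.subgroupOf S) := by
    rw [mem_powers_iff_mem_zpowers, htop]
    exact Subgroup.mem_top _
  obtain ⟨j, hj⟩ := hmem
  have h2 : (QuotientGroup.mk ((⟨s, hs⟩ : S) * ((⟨x, hx⟩ : S) ^ j)⁻¹) :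
      ↥S ⧸ A.subgroupOf S) = 1 := by
    rw [QuotientGroup.mk_mul, QuotientGroup.mk_inv, QuotientGroup.mk_pow]
    have hj' : (QuotientGroup.mk (⟨x, hx⟩ : S) : ↥S ⧸ A.subgroupOf S) ^ j =
        QuotientGroup.mk (⟨s, hs⟩ : S) := hj
    rw [hj', mul_inv_cancel]
  rw [QuotientGroup.eq_one_iff] at h2
  have h3 : s * (x ^ j)⁻¹ ∈ A := h2
  exact ⟨s * (x ^ j)⁻¹, h3, j, by rw [inv_mul_cancel_right]⟩

/-- the `p`-th power of every element of `S` lies in `A` -/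
theorem Hyp.pow_mem (h : Hyp p S A) {x : Ω} (hx : x ∈ S) : x ^ p ∈ A := by
  haveI := h.normal
  have h1 : (QuotientGroup.mk (⟨x, hx⟩ : S) : ↥S ⧸ A.subgroupOf S) ^ p = 1 := by
    rw [← h.card_quot]
    exact pow_card_eq_one'
  rw [← QuotientGroup.mk_pow, QuotientGroup.eq_one_iff] at h1
  exact h1

/-- an element of `A` commuting with an element outside `A` is central -/
theorem Hyp.mem_ZZ_of_comm (h : Hyp p S A) {x a : Ω} (hx : x ∈ S) (hxA : x ∉ A) (ha : a ∈ A)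
    (hc : a * x = x * a) : a ∈ ZZ S := by
  rw [mem_ZZ]
  refine ⟨h.hAS ha, fun s hs => ?_⟩
  obtain ⟨b, hb, j, rfl⟩ := h.exists_rep hx hxA s hs
  have h1 : Commute a (x ^ j) := (show Commute a x from hc).pow_right j
  have h2 : Commute a b := h.hAc a ha b hb
  exact ((h2.mul_right h1).eq).symm

theorem Hyp.ZZ_le_A (h : Hyp p S A) : ZZ S ≤ A := by
  intro z hz
  by_contra hzA
  obtain ⟨hzS, hzc⟩ := mem_ZZ.mp hz
  obtain ⟨s, hs, t, ht, hst⟩ := h.hna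
  apply hst
  obtain ⟨a, ha, i, rfl⟩ := h.exists_rep hzS hzA s hs
  obtain ⟨b, hb, j, rfl⟩ := h.exists_rep hzS hzA t ht
  have hzb : Commute z b := (hzc b (h.hAS hb)).symm
  have hza : Commute z a := (hzc a (h.hAS ha)).symm
  have hab : Commute a b := h.hAc a ha b hb
  have h1 : Commute (a * z ^ i) (b * z ^ j) := by
    apply Commute.mul_left
    · exact hab.mul_right (hza.symm.pow_right j)
    · apply Commute.mul_right
      · exact hzb.pow_left i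
      · exact (Commute.refl z).pow_pow i j
  exact h1.eq

theorem Hyp.pow_p_mem_ZZ (h : Hyp p S A) {x : Ω} (hx : x ∈ S) (hxA : x ∉ A) : x ^ p ∈ ZZ S :=
  h.mem_ZZ_of_comm hx hxA (h.pow_mem hx) ((Commute.refl x).pow_left p).eq

theorem Hyp.ZZ_ne_bot (h : Hyp p S A) : ZZ S ≠ ⊥ := by
  intro hb
  haveI : Nontrivial ↥S := (Subgroup.nontrivial_iff_ne_bot S).mpr h.ne_bot
  obtain ⟨z, hz, hz1⟩ := (Subgroup.nontrivial_iff_exists_ne_one _).mp
    (IsPGroup.center_nontrivial h.hS)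
  have hz' : (z : Ω) ∈ ZZ S := by
    rw [mem_ZZ]
    refine ⟨z.2, fun s hs => ?_⟩
    have := Subgroup.mem_center_iff.mp hz ⟨s, hs⟩
    exact congrArg Subtype.val this
  rw [hb, Subgroup.mem_bot] at hz'
  exact hz1 (Subtype.ext hz')

/-! ### The commutator map -/

theorem Hyp.comm_mem (h : Hyp p S A) {x a : Ω} (hx : x ∈ S) (ha : a ∈ A) : ⁅x, a⁆ ∈ A := by
  rw [commutatorElement_def]
  exact A.mul_mem (h.conj_mem hx ha) (A.inv_mem ha)

theorem Hyp.comm_mul (h : Hyp p S A) {x a b : Ω} (hx : x ∈ S) (ha : a ∈ A) (hb : b ∈ A) :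
    ⁅x, a * b⁆ = ⁅x, a⁆ * ⁅x, b⁆ := by
  have h1 : Commute (a⁻¹) (x * b * x⁻¹ * b⁻¹) :=
    h.hAc _ (A.inv_mem ha) _ (A.mul_mem (h.conj_mem hx hb) (A.inv_mem hb))
  rw [commutatorElement_def, commutatorElement_def, commutatorElement_def]
  calc x * (a * b) * x⁻¹ * (a * b)⁻¹
      = x * a * x⁻¹ * ((x * b * x⁻¹ * b⁻¹) * a⁻¹) := by group
    _ = x * a * x⁻¹ * (a⁻¹ * (x * b * x⁻¹ * b⁻¹)) := by rw [h1.eq]
    _ = x * a * x⁻¹ * a⁻¹ * (x * b * x⁻¹ * b⁻¹) := by group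

/-- the commutator map `a ↦ [x, a]` of `A` -/
def thHom (h : Hyp p S A) {x : Ω} (hx : x ∈ S) : ↥A →* ↥A where
  toFun a := ⟨⁅x, (a : Ω)⁆, h.comm_mem hx a.2⟩
  map_one' := by
    apply Subtype.ext
    simp [commutatorElement_def]
  map_mul' a b := by
    apply Subtype.ext
    exact h.comm_mul hx a.2 b.2

theorem thHom_apply (h : Hyp p S A) {x : Ω} (hx : x ∈ S) (a : ↥A) :
    ((thHom h hx a : ↥A) : Ω) = ⁅x, (a : Ω)⁆ := rfl

/-- the image of the commutator map -/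
def DD (h : Hyp p S A) {x : Ω} (hx : x ∈ S) : Subgroup Ω := (thHom h hx).range.map A.subtype

theorem mem_DD (h : Hyp p S A) {x : Ω} (hx : x ∈ S) {y : Ω} :
    y ∈ DD h hx ↔ ∃ a ∈ A, y = ⁅x, a⁆ := by
  unfold DD
  constructor
  · rintro ⟨_, ⟨a, rfl⟩, rfl⟩
    exact ⟨a, a.2, rfl⟩
  · rintro ⟨a, ha, rfl⟩
    exact ⟨thHom h hx ⟨a, ha⟩, ⟨⟨a, ha⟩, rfl⟩, rfl⟩

theorem DD_le (h : Hyp p S A) {x : Ω} (hx : x ∈ S) : DD h hx ≤ A := by
  intro y hy
  obtain ⟨a, ha, rfl⟩ := (mem_DD h hx).mp hy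
  exact h.comm_mem hx ha

theorem DD_le_commutator (h : Hyp p S A) {x : Ω} (hx : x ∈ S) : DD h hx ≤ ⁅S, S⁆ := by
  intro y hy
  obtain ⟨a, ha, rfl⟩ := (mem_DD h hx).mp hy
  exact Subgroup.commutator_mem_commutator hx (h.hAS ha)

theorem DD_conj (h : Hyp p S A) {x : Ω} (hx : x ∈ S) {y : Ω} (hy : y ∈ DD h hx) :
    x * y * x⁻¹ ∈ DD h hx := by
  obtain ⟨a, ha, rfl⟩ := (mem_DD h hx).mp hy
  rw [mem_DD]
  refine ⟨x * a * x⁻¹, h.conj_mem hx ha, ?_⟩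
  rw [commutatorElement_def, commutatorElement_def]
  group

theorem pow_comm_mem_DD (h : Hyp p S A) {x : Ω} (hx : x ∈ S) {b : Ω} (hb : b ∈ A) (i : ℕ) :
    ⁅x ^ i, b⁆ ∈ DD h hx := by
  induction i with
  | zero =>
    rw [pow_zero, commutatorElement_def]
    simp
  | succ i ih =>
    have e : ⁅x ^ (i + 1), b⁆ = x * ⁅x ^ i, b⁆ * x⁻¹ * ⁅x, b⁆ := by
      rw [pow_succ', commutatorElement_def, commutatorElement_def, commutatorElement_def]
      group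
    rw [e]
    exact Subgroup.mul_mem _ (DD_conj h hx ih) ((mem_DD h hx).mpr ⟨b, hb, rfl⟩)

/-- the derived subgroup of `S` is the image of the commutator map of any element outside `A` -/
theorem commutator_le_DD (h : Hyp p S A) {x : Ω} (hx : x ∈ S) (hxA : x ∉ A) :
    ⁅S, S⁆ ≤ DD h hx := by
  rw [Subgroup.commutator_le]
  intro s hs t ht
  obtain ⟨a, ha, i, rfl⟩ := h.exists_rep hx hxA s hs
  obtain ⟨b, hb, j, rfl⟩ := h.exists_rep hx hxA t ht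
  have hxi : x ^ i ∈ S := S.pow_mem hx i
  have hxj : x ^ j ∈ S := S.pow_mem hx j
  have h1 : ⁅x ^ i, b⁆ ∈ A := h.comm_mem hxi hb
  have h2 : ⁅x ^ j, a⁆ ∈ A := h.comm_mem hxj ha
  have hb' : x ^ i * b * (x ^ i)⁻¹ ∈ A := h.conj_mem hxi hb
  have ha' : x ^ j * a⁻¹ * (x ^ j)⁻¹ ∈ A := h.conj_mem hxj (A.inv_mem ha)
  have hcomm : Commute (x ^ i) (x ^ j) := (Commute.refl x).pow_pow i j
  have e : ⁅a * x ^ i, b * x ^ j⁆ = ⁅x ^ i, b⁆ * ⁅x ^ j, a⁆⁻¹ := by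
    have e1 : ⁅a * x ^ i, b * x ^ j⁆ =
        a * (x ^ i * b * (x ^ i)⁻¹) * (x ^ j * a⁻¹ * (x ^ j)⁻¹) * b⁻¹ := by
      rw [commutatorElement_def]
      have : x ^ i * x ^ j = x ^ j * x ^ i := hcomm.eq
      calc a * x ^ i * (b * x ^ j) * (a * x ^ i)⁻¹ * (b * x ^ j)⁻¹
          = a * (x ^ i * b * (x ^ i)⁻¹) * ((x ^ i * x ^ j) * (x ^ i)⁻¹ * a⁻¹ * (x ^ j)⁻¹) * b⁻¹ := by
            group
        _ = a * (x ^ i * b * (x ^ i)⁻¹) * ((x ^ j * x ^ i) * (x ^ i)⁻¹ * a⁻¹ * (x ^ j)⁻¹) * b⁻¹ := by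
            rw [this]
        _ = a * (x ^ i * b * (x ^ i)⁻¹) * (x ^ j * a⁻¹ * (x ^ j)⁻¹) * b⁻¹ := by group
    rw [e1, commutatorElement_def, commutatorElement_def]
    have c1 : Commute a (x ^ i * b * (x ^ i)⁻¹) := h.hAc _ ha _ hb'
    have c2 : Commute a (x ^ j * a⁻¹ * (x ^ j)⁻¹) := h.hAc _ ha _ ha'
    have c3 : Commute (b⁻¹) (x ^ j * a⁻¹ * (x ^ j)⁻¹) := h.hAc _ (A.inv_mem hb) _ ha'
    have c4 : Commute a b⁻¹ := h.hAc _ ha _ (A.inv_mem hb)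
    calc a * (x ^ i * b * (x ^ i)⁻¹) * (x ^ j * a⁻¹ * (x ^ j)⁻¹) * b⁻¹
        = (x ^ i * b * (x ^ i)⁻¹) * a * ((x ^ j * a⁻¹ * (x ^ j)⁻¹) * b⁻¹) := by
          rw [c1.eq]; group
      _ = (x ^ i * b * (x ^ i)⁻¹) * a * (b⁻¹ * (x ^ j * a⁻¹ * (x ^ j)⁻¹)) := by rw [c3.eq]
      _ = (x ^ i * b * (x ^ i)⁻¹) * (a * b⁻¹) * (x ^ j * a⁻¹ * (x ^ j)⁻¹) := by group
      _ = (x ^ i * b * (x ^ i)⁻¹) * (b⁻¹ * a) * (x ^ j * a⁻¹ * (x ^ j)⁻¹) := by rw [c4.eq]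
      _ = x ^ i * b * (x ^ i)⁻¹ * b⁻¹ * (x ^ j * a * (x ^ j)⁻¹ * a⁻¹)⁻¹ := by group
  rw [e]
  exact Subgroup.mul_mem _ (pow_comm_mem_DD h hx hb i)
    (Subgroup.inv_mem _ (pow_comm_mem_DD h hx ha j))

theorem commutator_eq_DD (h : Hyp p S A) {x : Ω} (hx : x ∈ S) (hxA : x ∉ A) :
    ⁅S, S⁆ = DD h hx :=
  le_antisymm (commutator_le_DD h hx hxA) (DD_le_commutator h hx)

/-- elements of `Z(S) ∩ [S,S]` are commutators `[x, a]` -/
theorem exists_comm_of_mem (h : Hyp p S A) {x : Ω} (hx : x ∈ S) (hxA : x ∉ A) {w : Ω}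
    (hw : w ∈ ⁅S, S⁆) : ∃ a ∈ A, w = ⁅x, a⁆ :=
  (mem_DD h hx).mp (commutator_le_DD h hx hxA hw)

/-- the kernel of the commutator map is the centre -/
theorem thHom_eq_one_iff (h : Hyp p S A) {x : Ω} (hx : x ∈ S) (hxA : x ∉ A) (a : ↥A) :
    thHom h hx a = 1 ↔ (a : Ω) ∈ ZZ S := by
  constructor
  · intro h1
    have h2 : ⁅x, (a : Ω)⁆ = 1 := congrArg Subtype.val h1
    rw [commutatorElement_eq_one_iff_mul_comm] at h2
    exact h.mem_ZZ_of_comm hx hxA a.2 h2.symm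
  · intro hz
    apply Subtype.ext
    show ⁅x, (a : Ω)⁆ = 1
    rw [commutatorElement_eq_one_iff_mul_comm]
    exact (mem_ZZ.mp hz).2 x hx

/-- a subgroup of `A` is at most `|Z(S)|` times as large as its image under the commutator map -/
theorem card_le_mul_card_map (h : Hyp p S A) {x : Ω} (hx : x ∈ S) (hxA : x ∉ A)
    (B : Subgroup ↥A) :
    Nat.card B ≤ Nat.card (ZZ S) * Nat.card (B.map (thHom h hx)) := by
  haveI : Finite ↥A := Finite.of_injective (Subgroup.inclusion h.hAS)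
    (Subgroup.inclusion_injective _)
  let f : ↥B →* ↥A := (thHom h hx).comp B.subtype
  have h1 : Nat.card B = Nat.card f.ker * Nat.card f.range := by
    rw [← Subgroup.index_ker f, mul_comm]
    exact (Subgroup.index_mul_card f.ker).symm
  have h2 : f.range = B.map (thHom h hx) := by
    ext y
    constructor
    · rintro ⟨b, rfl⟩
      exact ⟨b, b.2, rfl⟩
    · rintro ⟨b, hb, rfl⟩
      exact ⟨⟨b, hb⟩, rfl⟩
  haveI : Finite ↥(ZZ S) := Finite.of_injective (Subgroup.inclusion (ZZ_le S))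
    (Subgroup.inclusion_injective _)
  have h3 : Nat.card f.ker ≤ Nat.card (ZZ S) := by
    let g : ↥f.ker → ↥(ZZ S) := fun b =>
      ⟨((b : ↥B) : ↥A), (thHom_eq_one_iff h hx hxA _).mp b.2⟩
    apply Nat.card_le_card_of_injective g
    intro b c hbc
    apply Subtype.ext
    apply Subtype.ext
    apply Subtype.ext
    exact congrArg (fun z : ↥(ZZ S) => (z : Ω)) hbc
  rw [h1, h2]
  exact Nat.mul_le_mul_right _ h3

end Cfsg.Agent.Helper26.OL
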