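import Mathlib
import Cfsg.Agent.Helper26.OL1

set_option autoImplicit false
set_option linter.style.haveILetI false
set_option linter.unusedSectionVars false
set_option linter.unusedVariables false

/-! Finite nonabelian `p`-groups with an abelian subgroup of index `p`: the subgroups
`Z(S)⟨x⟩`. -/

namespace Cfsg.Agent.Helper26.OL

open scoped commutatorElement

variable {Ω : Type*} [Group Ω]

/-- the subgroup `Z(S)⟨x⟩` with explicit elements -/
def PPaux (S : Subgroup Ω) {x : Ω} (hx : x ∈ S) : Subgroup Ω where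
  carrier := {y | ∃ z ∈ ZZ S, ∃ j : ℤ, y = z * x ^ j}
  one_mem' := ⟨1, one_mem _, 0, by simp⟩
  mul_mem' := by
    rintro _ _ ⟨z, hz, i, rfl⟩ ⟨z', hz', j, rfl⟩
    refine ⟨z * z', mul_mem hz hz', i + j, ?_⟩
    have h1 : x ^ i * z' = z' * x ^ i := (mem_ZZ.mp hz').2 _ (S.zpow_mem hx i)
    rw [zpow_add]
    calc z * x ^ i * (z' * x ^ j) = z * (x ^ i * z') * x ^ j := by group
      _ = z * (z' * x ^ i) * x ^ j := by rw [h1]
      _ = z * z' * (x ^ i * x ^ j) := by group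
  inv_mem' := by
    rintro _ ⟨z, hz, i, rfl⟩
    refine ⟨z⁻¹, inv_mem hz, -i, ?_⟩
    have h1 : x ^ i * z = z * x ^ i := (mem_ZZ.mp hz).2 _ (S.zpow_mem hx i)
    rw [zpow_neg, ← mul_inv_rev, h1]

/-- the subgroup `Z(S)⟨x⟩` -/
def PP (S : Subgroup Ω) (x : Ω) : Subgroup Ω := ZZ S ⊔ Subgroup.zpowers x

theorem PP_eq (S : Subgroup Ω) {x : Ω} (hx : x ∈ S) : PP S x = PPaux S hx := by
  apply le_antisymm
  · apply sup_le
    · intro z hz
      exact ⟨z, hz, 0, by simp⟩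
    · rw [Subgroup.zpowers_le]
      exact ⟨1, one_mem _, 1, by simp⟩
  · rintro _ ⟨z, hz, j, rfl⟩
    exact mul_mem (Subgroup.mem_sup_left hz)
      (Subgroup.mem_sup_right (Subgroup.zpow_mem_zpowers x j))

theorem mem_PP {S : Subgroup Ω} {x : Ω} (hx : x ∈ S) {y : Ω} :
    y ∈ PP S x ↔ ∃ z ∈ ZZ S, ∃ j : ℤ, y = z * x ^ j := by
  rw [PP_eq S hx]
  rfl

theorem ZZ_le_PP (S : Subgroup Ω) (x : Ω) : ZZ S ≤ PP S x := le_sup_left

theorem self_mem_PP (S : Subgroup Ω) (x : Ω) : x ∈ PP S x :=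
  Subgroup.mem_sup_right (Subgroup.mem_zpowers x)

theorem PP_le {S : Subgroup Ω} {x : Ω} (hx : x ∈ S) : PP S x ≤ S :=
  sup_le (ZZ_le S) ((Subgroup.zpowers_le).mpr hx)

theorem PP_comm {S : Subgroup Ω} {x : Ω} (hx : x ∈ S) :
    ∀ a ∈ PP S x, ∀ b ∈ PP S x, a * b = b * a := by
  intro a ha b hb
  obtain ⟨z, hz, i, rfl⟩ := (mem_PP hx).mp ha
  obtain ⟨z', hz', j, rfl⟩ := (mem_PP hx).mp hb
  have h1 : x ^ i * z' = z' * x ^ i := (mem_ZZ.mp hz').2 _ (S.zpow_mem hx i)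
  have h2 : x ^ j * z = z * x ^ j := (mem_ZZ.mp hz).2 _ (S.zpow_mem hx j)
  have h3 : z' * z = z * z' := (mem_ZZ.mp hz).2 _ (mem_ZZ.mp hz').1
  have h4 : x ^ i * x ^ j = x ^ j * x ^ i := by rw [← zpow_add, ← zpow_add, add_comm]
  calc z * x ^ i * (z' * x ^ j) = z * (x ^ i * z') * x ^ j := by group
    _ = z * (z' * x ^ i) * x ^ j := by rw [h1]
    _ = (z * z') * (x ^ i * x ^ j) := by group
    _ = (z' * z) * (x ^ j * x ^ i) := by rw [h3, h4]
    _ = z' * (z * x ^ j) * x ^ i := by group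
    _ = z' * (x ^ j * z) * x ^ i := by rw [h2]
    _ = z' * x ^ j * (z * x ^ i) := by group

variable {p : ℕ} [Fact p.Prime] {S A : Subgroup Ω} [Finite S]

/-- `Z(S)⟨x⟩ ∩ A = Z(S)` -/
theorem Hyp.mem_ZZ_of_mem_PP (h : Hyp p S A) {x : Ω} (hx : x ∈ S) (hxA : x ∉ A) {y : Ω}
    (hy : y ∈ PP S x) (hyA : y ∈ A) : y ∈ ZZ S := by
  obtain ⟨z, hz, j, rfl⟩ := (mem_PP hx).mp hy
  have hzA : z ∈ A := h.ZZ_le_A hz
  have h1 : x ^ j ∈ A := by
    have := A.mul_mem (A.inv_mem hzA) hyA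
    rwa [inv_mul_cancel_left] at this
  have h2 : x ^ j * x = x * x ^ j := by
    rw [← zpow_add_one, ← zpow_one_add, add_comm]
  exact (ZZ S).mul_mem hz (h.mem_ZZ_of_comm hx hxA h1 h2)

/-- `Z(S)⟨x⟩` contains the centralizer of `x` -/
theorem Hyp.mem_PP_of_comm (h : Hyp p S A) {x : Ω} (hx : x ∈ S) (hxA : x ∉ A) {s : Ω}
    (hs : s ∈ S) (hc : s * x = x * s) : s ∈ PP S x := by
  obtain ⟨a, ha, j, rfl⟩ := h.exists_rep hx hxA s hs
  have h1 : a * x = x * a := by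
    have h2 : x ^ j * x = x * x ^ j := by rw [← pow_succ, ← pow_succ']
    calc a * x = a * x ^ j * x * (x ^ j)⁻¹ := by
          rw [mul_assoc a, h2]; group
      _ = x * (a * x ^ j) * (x ^ j)⁻¹ := by rw [hc]
      _ = x * a := by group
  rw [mem_PP hx]
  exact ⟨a, h.mem_ZZ_of_comm hx hxA ha h1, j, by rw [zpow_natCast]⟩

theorem Hyp.PP_ne (h : Hyp p S A) {x : Ω} (hx : x ∈ S) : PP S x ≠ S := by
  intro he
  obtain ⟨s, hs, t, ht, hst⟩ := h.hna
  rw [← he] at hs ht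
  exact hst (PP_comm hx s hs t ht)

/-- a general index computation -/
theorem index_eq_of_sup_zpowers {G : Type*} [Group G] (N : Subgroup G) [N.Normal] (x : G)
    (hxN : x ∉ N) (hxp : x ^ p ∈ N) (htop : N ⊔ Subgroup.zpowers x = ⊤) : N.index = p := by
  have hp := (Fact.out : p.Prime)
  have h1 : (QuotientGroup.mk' N x) ≠ 1 := by
    intro h1
    exact hxN ((QuotientGroup.eq_one_iff x).mp h1)
  have h2 : (QuotientGroup.mk' N x) ^ p = 1 := by
    rw [← map_pow]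
    exact (QuotientGroup.eq_one_iff _).mpr hxp
  have h3 : orderOf (QuotientGroup.mk' N x) = p := orderOf_eq_prime h2 h1
  have h4 : Subgroup.map (QuotientGroup.mk' N) (N ⊔ Subgroup.zpowers x) = ⊤ := by
    rw [htop, ← MonoidHom.range_eq_map, MonoidHom.range_eq_top]
    exact QuotientGroup.mk'_surjective N
  rw [Subgroup.map_sup, MonoidHom.map_zpowers, QuotientGroup.map_mk'_self, bot_sup_eq] at h4
  rw [Subgroup.index_eq_card, ← Subgroup.card_top, ← h4, Nat.card_zpowers, h3]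

/-- `|Z(S)⟨x⟩| = p |Z(S)|` -/
theorem Hyp.card_PP (h : Hyp p S A) {x : Ω} (hx : x ∈ S) (hxA : x ∉ A) :
    Nat.card (PP S x) = p * Nat.card (ZZ S) := by
  have hN : ((ZZ S).subgroupOf (PP S x)).Normal := by
    constructor
    intro n hn g
    have : g * n * g⁻¹ = n := by
      have := PP_comm hx g g.2 n n.2
      have h' : g * n = n * g := Subtype.ext this
      rw [h', mul_inv_cancel_right]
    rw [this]
    exact hn
  have hxN : (⟨x, self_mem_PP S x⟩ : PP S x) ∉ (ZZ S).subgroupOf (PP S x) := by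
    intro h1
    exact hxA (h.ZZ_le_A h1)
  have hxp : (⟨x, self_mem_PP S x⟩ : PP S x) ^ p ∈ (ZZ S).subgroupOf (PP S x) := by
    show x ^ p ∈ ZZ S
    exact h.pow_p_mem_ZZ hx hxA
  have htop : (ZZ S).subgroupOf (PP S x) ⊔
      Subgroup.zpowers (⟨x, self_mem_PP S x⟩ : PP S x) = ⊤ := by
    rw [eq_top_iff]
    rintro ⟨y, hy⟩ -
    obtain ⟨z, hz, j, rfl⟩ := (mem_PP hx).mp hy
    have e : (⟨z * x ^ j, hy⟩ : PP S x) = ⟨z, ZZ_le_PP S x hz⟩ * ⟨x, self_mem_PP S x⟩ ^ j :=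
      Subtype.ext (by simp)
    rw [e]
    exact mul_mem (Subgroup.mem_sup_left hz)
      (Subgroup.mem_sup_right (Subgroup.zpow_mem_zpowers _ j))
  have h1 := index_eq_of_sup_zpowers (p := p) _ _ hxN hxp htop
  have h2 := Subgroup.card_mul_index ((ZZ S).subgroupOf (PP S x))
  rw [h1, Nat.card_congr (Subgroup.subgroupOfEquivOfLe (ZZ_le_PP S x)).toEquiv] at h2
  rw [← h2, mul_comm]

/-- the part of the centre inside the commutator subgroup -/
def Z0 (S : Subgroup Ω) : Subgroup Ω := ZZ S ⊓ ⁅S, S⁆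

theorem Z0_le (S : Subgroup Ω) : Z0 S ≤ ZZ S := inf_le_left

/-- conjugation by a normalizing element of `S` moves the elements of `Z(S)⟨x⟩` by elements of
`Z₀` -/
theorem Hyp.comm_mem_Z0 (h : Hyp p S A) {x : Ω} (hx : x ∈ S) (hxA : x ∉ A) {s y : Ω}
    (hs : s ∈ S) (hy : y ∈ PP S x) (hsy : s * y * s⁻¹ ∈ PP S x) :
    s * y * s⁻¹ * y⁻¹ ∈ Z0 S := by
  have h1 : s * y * s⁻¹ * y⁻¹ ∈ ⁅S, S⁆ := by
    have := Subgroup.commutator_mem_commutator hs (PP_le hx hy)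
    rwa [commutatorElement_def] at this
  have h2 : s * y * s⁻¹ * y⁻¹ ∈ A := by
    rw [commutator_eq_DD h hx hxA] at h1
    exact DD_le h hx h1
  have h3 : s * y * s⁻¹ * y⁻¹ ∈ PP S x := mul_mem hsy (inv_mem hy)
  exact ⟨h.mem_ZZ_of_mem_PP hx hxA h3 h2, h1⟩

/-- every element of `Z₀` is a commutator `[a, x]` with `a ∈ A` -/
theorem Hyp.exists_of_mem_Z0 (h : Hyp p S A) {x : Ω} (hx : x ∈ S) (hxA : x ∉ A) {c : Ω}
    (hc : c ∈ Z0 S) : ∃ a ∈ A, a * x * a⁻¹ * x⁻¹ = c := by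
  obtain ⟨a, ha, hca⟩ := exists_comm_of_mem h hx hxA (inv_mem hc.2)
  refine ⟨a, ha, ?_⟩
  rw [commutatorElement_def] at hca
  -- c⁻¹ = x a x⁻¹ a⁻¹, so c = a x a⁻¹ x⁻¹
  have : c = (x * a * x⁻¹ * a⁻¹)⁻¹ := by rw [← hca, inv_inv]
  rw [this]
  group

end Cfsg.Agent.Helper26.OL
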