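import Mathlib
import Cfsg.Agent.Helper25.StabChain

set_option autoImplicit false
set_option linter.style.haveILetI false
set_option linter.unusedSectionVars false
set_option linter.unusedVariables false

/-! Automorphisms of an abelian `p`-group with commutator subgroup of order `p`: the decomposition
of the group under two such automorphisms generating a group that is not a `p`-group. -/

namespace Cfsg.Agent.Helper26.ZI

variable {A : Type*} [Group A]

/-- the fixed points of an automorphism -/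
def fixSub (u : MulAut A) : Subgroup A where
  carrier := {a | u a = a}
  one_mem' := map_one u
  mul_mem' := by
    intro a b ha hb
    show u (a * b) = a * b
    rw [map_mul, ha, hb]
  inv_mem' := by
    intro a ha
    show u a⁻¹ = a⁻¹
    rw [map_inv, ha]

theorem mem_fixSub {u : MulAut A} {a : A} : a ∈ fixSub u ↔ u a = a := Iff.rfl

/-- the commutator map `a ↦ a⁻¹ u(a)` of an automorphism of an abelian group -/
def delta (hA : ∀ a b : A, a * b = b * a) (u : MulAut A) : A →* A where
  toFun a := a⁻¹ * u a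
  map_one' := by simp
  map_mul' a b := by
    rw [map_mul, mul_inv_rev]
    calc b⁻¹ * a⁻¹ * (u a * u b) = b⁻¹ * (a⁻¹ * u a) * u b := by group
      _ = (a⁻¹ * u a) * b⁻¹ * u b := by rw [hA b⁻¹ (a⁻¹ * u a)]
      _ = a⁻¹ * u a * (b⁻¹ * u b) := by group

theorem delta_apply (hA : ∀ a b : A, a * b = b * a) (u : MulAut A) (a : A) :
    delta hA u a = a⁻¹ * u a := rfl

/-- the commutator subgroup `[A, u]` -/
def commSub (hA : ∀ a b : A, a * b = b * a) (u : MulAut A) : Subgroup A := (delta hA u).range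

theorem delta_mem_commSub (hA : ∀ a b : A, a * b = b * a) (u : MulAut A) (a : A) :
    a⁻¹ * u a ∈ commSub hA u := ⟨a, rfl⟩

theorem ker_delta (hA : ∀ a b : A, a * b = b * a) (u : MulAut A) :
    (delta hA u).ker = fixSub u := by
  ext a
  rw [MonoidHom.mem_ker, delta_apply, mem_fixSub, inv_mul_eq_one]
  exact eq_comm

theorem card_fix_mul_card_comm [Finite A] (hA : ∀ a b : A, a * b = b * a) (u : MulAut A) :
    Nat.card (fixSub u) * Nat.card (commSub hA u) = Nat.card A := by
  rw [← ker_delta hA u, commSub, ← Subgroup.index_ker]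
  exact Subgroup.card_mul_index _

theorem apply_eq_mul_delta (hA : ∀ a b : A, a * b = b * a) (u : MulAut A) (a : A) :
    u a = a * delta hA u a := by
  rw [delta_apply, mul_inv_cancel_left]

/-- conjugating the automorphism moves the commutator subgroup -/
theorem commSub_conj (hA : ∀ a b : A, a * b = b * a) (u g : MulAut A) :
    commSub hA (g * u * g⁻¹) = (commSub hA u).map g.toMonoidHom := by
  ext x
  constructor
  · rintro ⟨a, rfl⟩
    refine ⟨delta hA u (g⁻¹ a), ⟨_, rfl⟩, ?_⟩
    show g ((g⁻¹ a)⁻¹ * u (g⁻¹ a)) = a⁻¹ * (g * u * g⁻¹) a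
    rw [map_mul, map_inv]
    simp
  · rintro ⟨y, ⟨a, rfl⟩, rfl⟩
    refine ⟨g a, ?_⟩
    show (g a)⁻¹ * (g * u * g⁻¹) (g a) = g (a⁻¹ * u a)
    rw [map_mul, map_inv]
    simp

theorem fixSub_conj (u g : MulAut A) :
    fixSub (g * u * g⁻¹) = (fixSub u).map g.toMonoidHom := by
  ext x
  constructor
  · intro hx
    refine ⟨g⁻¹ x, ?_, by simp⟩
    rw [SetLike.mem_coe, mem_fixSub]
    have h1 : (g * u * g⁻¹) x = x := hx
    have h2 : g (u (g⁻¹ x)) = x := h1
    calc u (g⁻¹ x) = g⁻¹ (g (u (g⁻¹ x))) := by simp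
      _ = g⁻¹ x := by rw [h2]
  · rintro ⟨y, hy, rfl⟩
    rw [mem_fixSub]
    show g (u (g⁻¹ (g y))) = g y
    have : u y = y := hy
    simp [this]

/-- a general counting lemma: the product of two subgroups with trivial intersection -/
theorem card_mul_le_card_sup [Finite A] (H K : Subgroup A) (h : H ⊓ K = ⊥) :
    Nat.card H * Nat.card K ≤ Nat.card (H ⊔ K : Subgroup A) := by
  rw [← Nat.card_prod]
  let f : H × K → (H ⊔ K : Subgroup A) := fun x =>
    ⟨(x.1 : A) * (x.2 : A), Subgroup.mul_mem_sup x.1.2 x.2.2⟩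
  apply Nat.card_le_card_of_injective f
  rintro ⟨a, b⟩ ⟨a', b'⟩ hab
  have h1 : (a : A) * b = a' * b' := congrArg Subtype.val hab
  have h2 : (a' : A)⁻¹ * a = b' * (b : A)⁻¹ := by
    calc (a' : A)⁻¹ * a = (a' : A)⁻¹ * (a * b) * (b : A)⁻¹ := by group
      _ = (a' : A)⁻¹ * (a' * b') * (b : A)⁻¹ := by rw [h1]
      _ = b' * (b : A)⁻¹ := by group
  have h3 : (a' : A)⁻¹ * a ∈ H ⊓ K := by
    refine Subgroup.mem_inf.mpr ⟨H.mul_mem (H.inv_mem a'.2) a.2, ?_⟩
    rw [h2]
    exact K.mul_mem b'.2 (K.inv_mem b.2)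
  rw [h, Subgroup.mem_bot] at h3
  have h4 : (a : A) = a' := by
    calc (a : A) = a' * ((a' : A)⁻¹ * a) := by group
      _ = a' := by rw [h3, mul_one]
  have h5 : (b : A) = b' := by
    have h6 : b' * (b : A)⁻¹ = 1 := by rw [← h2, h3]
    calc (b : A) = (b' * (b : A)⁻¹)⁻¹ * b' := by group
      _ = b' := by rw [h6, inv_one, one_mul]
  exact Prod.ext (Subtype.ext h4) (Subtype.ext h5)

end Cfsg.Agent.Helper26.ZI
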