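import Mathlib
import Cfsg.Agent.Helper26.ZI1

set_option autoImplicit false
set_option linter.style.haveILetI false
set_option linter.unusedSectionVars false
set_option linter.unusedVariables false

/-! The decomposition theorem. -/

namespace Cfsg.Agent.Helper26.ZI

open Cfsg.Agent.Helper25

variable {A : Type*} [Group A] {p : ℕ} [hp : Fact p.Prime]

/-- a subgroup of prime order meets another subgroup trivially or lies in it -/
theorem inf_eq_bot_or_le_of_card_prime {D H : Subgroup A} (hD : Nat.card D = p) :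
    D ⊓ H = ⊥ ∨ D ≤ H := by
  haveI : Fact (Nat.card D).Prime := ⟨hD ▸ hp.out⟩
  rcases Subgroup.eq_bot_or_eq_top_of_prime_card (H.subgroupOf D) with h | h
  · left
    rw [Subgroup.subgroupOf_eq_bot] at h
    rw [inf_comm]
    exact h.eq_bot
  · right
    exact Subgroup.subgroupOf_eq_top.mp h

/-- elements of the join of two subgroups of an abelian group -/
theorem exists_mul_of_mem_sup (hA : ∀ a b : A, a * b = b * a) {H K : Subgroup A} {x : A}
    (hx : x ∈ H ⊔ K) : ∃ c ∈ H, ∃ d ∈ K, x = c * d := by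
  haveI : K.Normal := ⟨fun n hn g => by rw [hA g n, mul_inv_cancel_right]; exact hn⟩
  have h1 : x ∈ ((H ⊔ K : Subgroup A) : Set A) := hx
  rw [Subgroup.mul_normal, Set.mem_mul] at h1
  obtain ⟨c, hc, d, hd, rfl⟩ := h1
  exact ⟨c, hc, d, hd, rfl⟩

/-- a three step chain -/
def chain3 (X Y : Subgroup A) : ℕ → Subgroup A
  | 0 => ⊥
  | 1 => X
  | 2 => Y
  | _ => ⊤

theorem chain3_mono {X Y : Subgroup A} (h : X ≤ Y) : Monotone (chain3 X Y) := by
  apply monotone_nat_of_le_succ
  intro n
  match n with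
  | 0 => exact bot_le
  | 1 => exact h
  | 2 => exact le_top
  | (k + 3) => exact le_refl _

variable [Finite A]

theorem inf_fix_eq_bot (hA : ∀ a b : A, a * b = b * a) (hP : IsPGroup p A) (u u' : MulAut A)
    (hcu' : Nat.card (commSub hA u') = p)
    (hfu : commSub hA u ≤ fixSub u) (hfu' : commSub hA u' ≤ fixSub u')
    (hL : ¬ IsPGroup p (Subgroup.closure ({u, u'} : Set (MulAut A)))) :
    commSub hA u' ⊓ fixSub u = ⊥ := by
  rcases inf_eq_bot_or_le_of_card_prime (H := fixSub u) hcu' with h | h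
  · exact h
  · exfalso
    apply hL
    have hmono : Monotone (chain3 (commSub hA u') (commSub hA u ⊔ commSub hA u')) :=
      chain3_mono le_sup_right
    have hsw : ∀ (α : MulAut A) (x : A), α x * x⁻¹ = delta hA α x := by
      intro α x
      rw [delta_apply]
      exact hA _ _
    have hu : StabilizesChain (chain3 (commSub hA u') (commSub hA u ⊔ commSub hA u')) u := by
      intro i x hx
      match i with
      | 0 =>
        have h1 : u x = x := h hx
        show u x * x⁻¹ ∈ (⊥ : Subgroup A)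
        rw [h1, mul_inv_cancel]
        exact Subgroup.one_mem _
      | 1 =>
        show u x * x⁻¹ ∈ commSub hA u'
        have hx' : x ∈ commSub hA u ⊔ commSub hA u' := hx
        have h1 : commSub hA u ⊔ commSub hA u' ≤ fixSub u := sup_le hfu h
        have h2 : u x = x := h1 hx'
        rw [h2, mul_inv_cancel]
        exact Subgroup.one_mem _
      | 2 =>
        show u x * x⁻¹ ∈ commSub hA u ⊔ commSub hA u'
        rw [hsw]
        exact Subgroup.mem_sup_left ⟨x, rfl⟩
      | (k + 3) => exact Subgroup.mem_top _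
    have hu' : StabilizesChain (chain3 (commSub hA u') (commSub hA u ⊔ commSub hA u')) u' := by
      intro i x hx
      match i with
      | 0 =>
        have h1 : u' x = x := hfu' hx
        show u' x * x⁻¹ ∈ (⊥ : Subgroup A)
        rw [h1, mul_inv_cancel]
        exact Subgroup.one_mem _
      | 1 =>
        show u' x * x⁻¹ ∈ commSub hA u'
        rw [hsw]
        exact ⟨x, rfl⟩
      | 2 =>
        show u' x * x⁻¹ ∈ commSub hA u ⊔ commSub hA u'
        rw [hsw]
        exact Subgroup.mem_sup_right ⟨x, rfl⟩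
      | (k + 3) => exact Subgroup.mem_top _
    have hle : Subgroup.closure ({u, u'} : Set (MulAut A)) ≤
        chainStabilizer hP _ rfl hmono (m := 3) rfl := by
      rw [Subgroup.closure_le]
      rintro α (rfl | rfl)
      · exact hu
      · exact hu'
    exact (chainStabilizer_isPGroup hP _ rfl hmono (m := 3) rfl).to_le hle

/-- **The decomposition.** -/
theorem decomp (hA : ∀ a b : A, a * b = b * a) (hP : IsPGroup p A) (u u' : MulAut A)
    (hcu : Nat.card (commSub hA u) = p) (hcu' : Nat.card (commSub hA u') = p)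
    (hfu : commSub hA u ≤ fixSub u) (hfu' : commSub hA u' ≤ fixSub u')
    (hL : ¬ IsPGroup p (Subgroup.closure ({u, u'} : Set (MulAut A)))) :
    commSub hA u' ⊓ fixSub u = ⊥ ∧ commSub hA u ⊓ fixSub u' = ⊥ ∧
    commSub hA u ⊓ commSub hA u' = ⊥ ∧
    (commSub hA u ⊔ commSub hA u') ⊓ (fixSub u ⊓ fixSub u') = ⊥ ∧
    (commSub hA u ⊔ commSub hA u') ⊔ (fixSub u ⊓ fixSub u') = ⊤ := by
  have h1 := inf_fix_eq_bot hA hP u u' hcu' hfu hfu' hL
  have hL' : ¬ IsPGroup p (Subgroup.closure ({u', u} : Set (MulAut A))) := by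
    rw [Set.pair_comm]
    exact hL
  have h2 := inf_fix_eq_bot hA hP u' u hcu hfu' hfu hL'
  have h3 : commSub hA u ⊓ commSub hA u' = ⊥ := by
    rw [eq_bot_iff]
    intro x hx
    rw [← h1]
    exact Subgroup.mem_inf.mpr ⟨(Subgroup.mem_inf.mp hx).2, hfu (Subgroup.mem_inf.mp hx).1⟩
  have h4 : (commSub hA u ⊔ commSub hA u') ⊓ (fixSub u ⊓ fixSub u') = ⊥ := by
    rw [eq_bot_iff]
    intro x hx
    obtain ⟨hx1, hx2⟩ := Subgroup.mem_inf.mp hx
    obtain ⟨hxu, hxu'⟩ := Subgroup.mem_inf.mp hx2
    obtain ⟨c, hc, d, hd, rfl⟩ := exists_mul_of_mem_sup hA hx1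
    have hcu1 : u c = c := hfu hc
    have hdu' : u' d = d := hfu' hd
    have h5 : u (c * d) = c * d := hxu
    rw [map_mul, hcu1] at h5
    have h6 : u d = d := mul_left_cancel h5
    have hd1 : d = 1 := by
      have : d ∈ commSub hA u' ⊓ fixSub u := Subgroup.mem_inf.mpr ⟨hd, h6⟩
      rw [h1] at this
      exact this
    have h7 : u' (c * d) = c * d := hxu'
    rw [hd1, mul_one] at h7
    have hc1 : c = 1 := by
      have : c ∈ commSub hA u ⊓ fixSub u' := Subgroup.mem_inf.mpr ⟨hc, h7⟩
      rw [h2] at this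
      exact this
    rw [hc1, hd1, mul_one]
    exact Subgroup.one_mem _
  refine ⟨h1, h2, h3, h4, ?_⟩
  -- counting
  have hM : p * p ≤ Nat.card (commSub hA u ⊔ commSub hA u' : Subgroup A) := by
    have := card_mul_le_card_sup _ _ h3
    rwa [hcu, hcu'] at this
  have hF : Nat.card A ≤ p * p * Nat.card (fixSub u ⊓ fixSub u' : Subgroup A) := by
    let Ψ : A →* A × A := (delta hA u).prod (delta hA u')
    have hker : Ψ.ker = fixSub u ⊓ fixSub u' := by
      ext a
      rw [MonoidHom.mem_ker, Subgroup.mem_inf, ← ker_delta hA u, ← ker_delta hA u',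
        MonoidHom.mem_ker, MonoidHom.mem_ker]
      show ((delta hA u a, delta hA u' a) : A × A) = 1 ↔ _
      rw [Prod.ext_iff]
      rfl
    have hrange : Nat.card Ψ.range ≤ p * p := by
      have hle : Ψ.range ≤ (commSub hA u).prod (commSub hA u') := by
        rintro _ ⟨a, rfl⟩
        exact ⟨⟨a, rfl⟩, ⟨a, rfl⟩⟩
      have h5 := Subgroup.card_le_of_le hle
      have h6 : Nat.card ((commSub hA u).prod (commSub hA u')) = p * p := by
        rw [Nat.card_congr (Subgroup.prodEquiv _ _).toEquiv, Nat.card_prod, hcu, hcu']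
      rwa [h6] at h5
    have h7 := Subgroup.card_mul_index Ψ.ker
    rw [Subgroup.index_ker, hker] at h7
    rw [← h7, mul_comm]
    exact Nat.mul_le_mul_right _ hrange
  have h8 := card_mul_le_card_sup _ _ h4
  have h9 : Nat.card A ≤ Nat.card
      ((commSub hA u ⊔ commSub hA u') ⊔ (fixSub u ⊓ fixSub u') : Subgroup A) := by
    calc Nat.card A ≤ p * p * Nat.card (fixSub u ⊓ fixSub u' : Subgroup A) := hF
      _ ≤ Nat.card (commSub hA u ⊔ commSub hA u' : Subgroup A) *
          Nat.card (fixSub u ⊓ fixSub u' : Subgroup A) := Nat.mul_le_mul_right _ hM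
      _ ≤ _ := h8
  exact Subgroup.eq_top_of_le_card _ h9

end Cfsg.Agent.Helper26.ZI
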