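import Mathlib
import Cfsg.Agent.Helper26.ZI2

set_option autoImplicit false
set_option linter.style.haveILetI false
set_option linter.unusedSectionVars false
set_option linter.unusedVariables false

/-! The element of `⟨u, u'⟩` inverting `[A,u][A,u']` and centralizing `C_A(u) ∩ C_A(u')`. -/

namespace Cfsg.Agent.Helper26.ZI

variable {A : Type*} [Group A] {p : ℕ} [hp : Fact p.Prime]

/-- elements of a subgroup of prime order are powers of a nontrivial element -/
theorem exists_pow_eq_of_card_prime {D : Subgroup A} (hD : Nat.card D = p) {c : A} (hc : c ∈ D)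
    (hc1 : c ≠ 1) {x : A} (hx : x ∈ D) : ∃ n : ℕ, c ^ n = x := by
  have h1 : (⟨c, hc⟩ : D) ≠ 1 := fun h => hc1 (congrArg Subtype.val h)
  have h2 := mem_powers_of_prime_card hD h1 (g' := ⟨x, hx⟩)
  obtain ⟨n, hn⟩ := Submonoid.mem_powers_iff _ _ |>.mp h2
  exact ⟨n, congrArg Subtype.val hn⟩

theorem pow_prime_eq_one_of_card_prime {D : Subgroup A} (hD : Nat.card D = p) {c : A}
    (hc : c ∈ D) : c ^ p = 1 := by
  have h1 : (⟨c, hc⟩ : D) ^ Nat.card D = 1 := pow_card_eq_one'
  rw [hD] at h1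
  exact congrArg Subtype.val h1

theorem exists_ne_one_of_card_prime {D : Subgroup A} (hD : Nat.card D = p) :
    ∃ c ∈ D, c ≠ 1 := by
  have h1 : 1 < Nat.card D := hD ▸ hp.out.one_lt
  haveI : Finite D := Nat.finite_of_card_ne_zero (by omega)
  haveI : Nontrivial D := Finite.one_lt_card_iff_nontrivial.mp h1
  obtain ⟨x, hx⟩ := exists_ne (1 : D)
  exact ⟨x, x.2, fun h => hx (Subtype.ext h)⟩

theorem pow_eq_one_of_dvd {c : A} (hc : c ^ p = 1) {n : ℕ} (hn : p ∣ n) : c ^ n = 1 := by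
  obtain ⟨k, rfl⟩ := hn
  rw [pow_mul, hc, one_pow]

variable [Finite A]

set_option maxHeartbeats 1600000 in
/-- **The inverting element.** -/
theorem exists_inverting (hA : ∀ a b : A, a * b = b * a) (hP : IsPGroup p A) (u u' : MulAut A)
    (hcu : Nat.card (commSub hA u) = p) (hcu' : Nat.card (commSub hA u') = p)
    (hfu : commSub hA u ≤ fixSub u) (hfu' : commSub hA u' ≤ fixSub u')
    (hL : ¬ IsPGroup p (Subgroup.closure ({u, u'} : Set (MulAut A)))) :
    ∃ t ∈ Subgroup.closure ({u, u'} : Set (MulAut A)),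
      (∀ x ∈ commSub hA u ⊔ commSub hA u', t x = x⁻¹) ∧
      (∀ x ∈ fixSub u ⊓ fixSub u', t x = x) ∧ t * u = u * t := by
  obtain ⟨h1, h2, h3, h4, h5⟩ := decomp hA hP u u' hcu hcu' hfu hfu' hL
  obtain ⟨c, hc, hc1⟩ := exists_ne_one_of_card_prime hcu
  obtain ⟨d, hd, hd1⟩ := exists_ne_one_of_card_prime hcu'
  have hcp : c ^ p = 1 := pow_prime_eq_one_of_card_prime hcu hc
  have hdp : d ^ p = 1 := pow_prime_eq_one_of_card_prime hcu' hd
  have huc : u c = c := hfu hc
  have hu'd : u' d = d := hfu' hd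
  obtain ⟨a, ha⟩ := exists_pow_eq_of_card_prime hcu hc hc1 (delta_mem_commSub hA u d)
  obtain ⟨b, hb⟩ := exists_pow_eq_of_card_prime hcu' hd hd1 (delta_mem_commSub hA u' c)
  have hud : u d = d * c ^ a := by rw [ha, mul_inv_cancel_left]
  have hu'c : u' c = c * d ^ b := by rw [hb, mul_inv_cancel_left]
  have hpa : ¬ p ∣ a := by
    intro h
    have h6 : c ^ a = 1 := pow_eq_one_of_dvd hcp h
    rw [h6, mul_one] at hud
    have : d ∈ commSub hA u' ⊓ fixSub u := Subgroup.mem_inf.mpr ⟨hd, hud⟩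
    rw [h1] at this
    exact hd1 this
  have hpb : ¬ p ∣ b := by
    intro h
    have h6 : d ^ b = 1 := pow_eq_one_of_dvd hdp h
    rw [h6, mul_one] at hu'c
    have : c ∈ commSub hA u ⊓ fixSub u' := Subgroup.mem_inf.mpr ⟨hc, hu'c⟩
    rw [h2] at this
    exact hc1 this
  -- choose `j`
  obtain ⟨j, hj⟩ : ∃ j : ℕ, p ∣ 1 + a * b * j := by
    have hab : ((a * b : ℕ) : ZMod p) ≠ 0 := by
      intro h
      rw [ZMod.natCast_eq_zero_iff] at h
      rcases (Nat.Prime.dvd_mul hp.out).mp h with h | h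
      · exact hpa h
      · exact hpb h
    refine ⟨(-(((a * b : ℕ) : ZMod p)⁻¹)).val, ?_⟩
    rw [← ZMod.natCast_eq_zero_iff]
    rw [Nat.cast_add, Nat.cast_one, Nat.cast_mul, ZMod.natCast_zmod_val, mul_neg,
      mul_inv_cancel₀ hab]
    ring
  have hcj : c ^ (a * b * j) = c⁻¹ := by
    have h6 : c ^ (1 + a * b * j) = 1 := pow_eq_one_of_dvd hcp hj
    rw [pow_add, pow_one] at h6
    exact (eq_inv_of_mul_eq_one_right h6)
  have hdj : d ^ (a * b * j) = d⁻¹ := by
    have h6 : d ^ (1 + a * b * j) = 1 := pow_eq_one_of_dvd hdp hj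
    rw [pow_add, pow_one] at h6
    exact (eq_inv_of_mul_eq_one_right h6)
  -- powers of `u'`
  have hu'j : ∀ n : ℕ, (u' ^ n) c = c * d ^ (b * n) := by
    intro n
    induction n with
    | zero => simp
    | succ n ih =>
      rw [pow_succ', MulAut.mul_apply, ih, map_mul, map_pow, hu'c, hu'd, mul_assoc, ← pow_add,
        Nat.mul_succ, Nat.add_comm]
  have hu'jd : ∀ n : ℕ, (u' ^ n) d = d := by
    intro n
    induction n with
    | zero => simp
    | succ n ih => rw [pow_succ', MulAut.mul_apply, ih, hu'd]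
  have hudp : (u d) ^ p = 1 := by rw [← map_pow, hdp, map_one]
  obtain ⟨w, hwe⟩ : ∃ w : MulAut A, w = u * u' ^ j * u := ⟨_, rfl⟩
  have hwc : w c = d ^ (b * j) := by
    rw [hwe, MulAut.mul_apply, MulAut.mul_apply, huc, hu'j, map_mul, map_pow, huc, hud]
    rw [(show Commute d (c ^ a) from hA _ _).mul_pow, ← pow_mul]
    have e2 : a * (b * j) + 1 = 1 + a * b * j := by ring
    calc c * (d ^ (b * j) * c ^ (a * (b * j))) = c * (c ^ (a * (b * j)) * d ^ (b * j)) := by
          rw [hA (d ^ (b * j))]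
      _ = c ^ (a * (b * j) + 1) * d ^ (b * j) := by rw [← mul_assoc, ← pow_succ']
      _ = c ^ (1 + a * b * j) * d ^ (b * j) := by rw [e2]
      _ = d ^ (b * j) := by rw [pow_eq_one_of_dvd hcp hj, one_mul]
  have hwd : w d = c ^ a := by
    rw [hwe, MulAut.mul_apply, MulAut.mul_apply, hud, map_mul, map_pow, hu'jd, hu'j, map_mul,
      map_pow, map_mul, map_pow, huc]
    rw [(show Commute c ((u d) ^ (b * j)) from hA _ _).mul_pow, ← pow_mul]
    have e1 : b * j * a + 1 = 1 + a * b * j := by ring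
    calc u d * (c ^ a * (u d) ^ (b * j * a)) = u d * ((u d) ^ (b * j * a) * c ^ a) := by
          rw [hA (c ^ a)]
      _ = (u d) ^ (b * j * a + 1) * c ^ a := by rw [← mul_assoc, ← pow_succ']
      _ = (u d) ^ (1 + a * b * j) * c ^ a := by rw [e1]
      _ = c ^ a := by rw [pow_eq_one_of_dvd hudp hj, one_mul]
  obtain ⟨t, hte⟩ : ∃ t : MulAut A, t = w * w := ⟨_, rfl⟩
  have htc : t c = c⁻¹ := by
    rw [hte, MulAut.mul_apply, hwc, map_pow, hwd, ← pow_mul, ← hcj]
    congr 1
    ring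
  have htd : t d = d⁻¹ := by
    rw [hte, MulAut.mul_apply, hwd, map_pow, hwc, ← pow_mul, ← hdj]
    congr 1
    ring
  have humem : u ∈ Subgroup.closure ({u, u'} : Set (MulAut A)) :=
    Subgroup.subset_closure (Set.mem_insert _ _)
  have hu'mem : u' ∈ Subgroup.closure ({u, u'} : Set (MulAut A)) :=
    Subgroup.subset_closure (Set.mem_insert_of_mem _ rfl)
  have hwmem : w ∈ Subgroup.closure ({u, u'} : Set (MulAut A)) := by
    rw [hwe]
    exact Subgroup.mul_mem _ (Subgroup.mul_mem _ humem (Subgroup.pow_mem _ hu'mem j)) humem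
  have htmem : t ∈ Subgroup.closure ({u, u'} : Set (MulAut A)) := by
    rw [hte]
    exact Subgroup.mul_mem _ hwmem hwmem
  have htinv : ∀ x ∈ commSub hA u ⊔ commSub hA u', t x = x⁻¹ := by
    intro x hx
    obtain ⟨c', hc', d', hd', rfl⟩ := exists_mul_of_mem_sup hA hx
    obtain ⟨i, rfl⟩ := exists_pow_eq_of_card_prime hcu hc hc1 hc'
    obtain ⟨k, rfl⟩ := exists_pow_eq_of_card_prime hcu' hd hd1 hd'
    rw [map_mul, map_pow, map_pow, htc, htd, mul_inv_rev, inv_pow, inv_pow]
    exact hA _ _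
  have htfix : ∀ x ∈ fixSub u ⊓ fixSub u', t x = x := by
    intro x hx
    obtain ⟨hxu, hxu'⟩ := Subgroup.mem_inf.mp hx
    have h6 : u x = x := hxu
    have h7 : u' x = x := hxu'
    have h8 : ∀ n : ℕ, (u' ^ n) x = x := by
      intro n
      induction n with
      | zero => simp
      | succ n ih => rw [pow_succ', MulAut.mul_apply, ih, h7]
    have h9 : w x = x := by
      rw [hwe, MulAut.mul_apply, MulAut.mul_apply, h6, h8, h6]
    rw [hte, MulAut.mul_apply, h9, h9]
  refine ⟨t, htmem, htinv, htfix, ?_⟩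
  -- `t` commutes with `u`
  have hustab : ∀ x ∈ commSub hA u ⊔ commSub hA u', u x ∈ commSub hA u ⊔ commSub hA u' := by
    intro x hx
    rw [apply_eq_mul_delta hA u x]
    exact Subgroup.mul_mem _ hx (Subgroup.mem_sup_left ⟨x, rfl⟩)
  ext x
  have hx : x ∈ (commSub hA u ⊔ commSub hA u') ⊔ (fixSub u ⊓ fixSub u') := by
    rw [h5]
    exact Subgroup.mem_top x
  obtain ⟨y, hy, z, hz, rfl⟩ := exists_mul_of_mem_sup hA hx
  have hzu : u z = z := (Subgroup.mem_inf.mp hz).1
  show t (u (y * z)) = u (t (y * z))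
  rw [map_mul, map_mul, map_mul, map_mul, hzu, htfix z hz, hzu, htinv y hy,
    htinv (u y) (hustab y hy), map_inv]

end Cfsg.Agent.Helper26.ZI
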