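import Mathlib
import Cfsg.Agent.Helper26.ZI3

set_option autoImplicit false
set_option linter.style.haveILetI false
set_option linter.unusedSectionVars false
set_option linter.unusedVariables false

/-! The case `p = 2`: a group of automorphisms with Sylow 2-subgroups of order 2 contains at most
three transvections. -/

namespace Cfsg.Agent.Helper26.ZI

variable {A : Type*} [Group A] {p : ℕ} [hp : Fact p.Prime]

/-- the transvection condition -/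
def Transv (p : ℕ) (hA : ∀ a b : A, a * b = b * a) (v : MulAut A) : Prop :=
  Nat.card (commSub hA v) = p ∧ commSub hA v ≤ fixSub v

theorem transv_conj (hA : ∀ a b : A, a * b = b * a) {v : MulAut A} (hv : Transv p hA v)
    (g : MulAut A) : Transv p hA (g * v * g⁻¹) := by
  constructor
  · rw [commSub_conj, Subgroup.card_map_of_injective g.injective]
    exact hv.1
  · rw [commSub_conj, fixSub_conj]
    exact Subgroup.map_mono hv.2

theorem transv_ne_one (hA : ∀ a b : A, a * b = b * a) {v : MulAut A} (hv : Transv p hA v) :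
    v ≠ 1 := by
  rintro rfl
  obtain ⟨c, hc, hc1⟩ := exists_ne_one_of_card_prime hv.1
  obtain ⟨a, rfl⟩ := hc
  apply hc1
  rw [delta_apply]
  simp

variable [Finite A]

/-- the rule for two transvections generating a group that is not a 2-group -/
theorem apply_gen_eq (hA : ∀ a b : A, a * b = b * a) (hP : IsPGroup 2 A) (v v' : MulAut A)
    (hv : Transv 2 hA v) (hv' : Transv 2 hA v')
    (hL : ¬ IsPGroup 2 (Subgroup.closure ({v, v'} : Set (MulAut A)))) {c c' : A}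
    (hc : c ∈ commSub hA v) (hc1 : c ≠ 1) (hc' : c' ∈ commSub hA v') (hc'1 : c' ≠ 1) :
    v c' = c' * c := by
  haveI : Fact (Nat.Prime 2) := ⟨Nat.prime_two⟩
  obtain ⟨h1, -, -, -, -⟩ := decomp hA hP v v' hv.1 hv'.1 hv.2 hv'.2 hL
  obtain ⟨n, hn⟩ := exists_pow_eq_of_card_prime hv.1 hc hc1 (delta_mem_commSub hA v c')
  have hc2 : c ^ 2 = 1 := pow_prime_eq_one_of_card_prime hv.1 hc
  have h2 : v c' = c' * c ^ n := by rw [hn, mul_inv_cancel_left]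
  rw [pow_eq_pow_mod n hc2] at h2
  rcases Nat.mod_two_eq_zero_or_one n with h | h
  · exfalso
    rw [h, pow_zero, mul_one] at h2
    have : c' ∈ commSub hA v' ⊓ fixSub v := Subgroup.mem_inf.mpr ⟨hc', h2⟩
    rw [h1] at this
    exact hc'1 this
  · rw [h, pow_one] at h2
    exact h2

/-- a third transvection is a conjugate of the first by the second -/
theorem third_involution (hA : ∀ a b : A, a * b = b * a) (hP : IsPGroup 2 A)
    (G : Subgroup (MulAut A))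
    (hG : ∀ v ∈ G, ∀ w ∈ G, v * v = 1 → w * w = 1 → v ≠ 1 → w ≠ 1 → v ≠ w →
      ¬ IsPGroup 2 (Subgroup.closure ({v, w} : Set (MulAut A))))
    (v₁ v₂ v₃ : MulAut A) (h1 : v₁ ∈ G) (h2 : v₂ ∈ G) (h3 : v₃ ∈ G)
    (hi1 : v₁ * v₁ = 1) (hi2 : v₂ * v₂ = 1) (hi3 : v₃ * v₃ = 1)
    (ht1 : Transv 2 hA v₁) (ht2 : Transv 2 hA v₂) (ht3 : Transv 2 hA v₃)
    (h12 : v₁ ≠ v₂) (h31 : v₃ ≠ v₁) (h32 : v₃ ≠ v₂) : v₃ = v₂ * v₁ * v₂⁻¹ := by
  haveI : Fact (Nat.Prime 2) := ⟨Nat.prime_two⟩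
  have hn1 := transv_ne_one hA ht1
  have hn2 := transv_ne_one hA ht2
  have hn3 := transv_ne_one hA ht3
  obtain ⟨c₁, hc₁, hc₁1⟩ := exists_ne_one_of_card_prime ht1.1
  obtain ⟨c₂, hc₂, hc₂1⟩ := exists_ne_one_of_card_prime ht2.1
  obtain ⟨c₃, hc₃, hc₃1⟩ := exists_ne_one_of_card_prime ht3.1
  have hc₁2 : c₁ ^ 2 = 1 := pow_prime_eq_one_of_card_prime ht1.1 hc₁
  have hv2inv : v₂⁻¹ = v₂ := inv_eq_of_mul_eq_one_right hi2
  obtain ⟨w, hwe⟩ : ∃ w : MulAut A, w = v₂ * v₃ * v₂⁻¹ := ⟨_, rfl⟩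
  have hwG : w ∈ G := by
    rw [hwe]
    exact G.mul_mem (G.mul_mem h2 h3) (G.inv_mem h2)
  have hwi : w * w = 1 := by
    rw [hwe]
    calc v₂ * v₃ * v₂⁻¹ * (v₂ * v₃ * v₂⁻¹) = v₂ * (v₃ * v₃) * v₂⁻¹ := by group
      _ = 1 := by rw [hi3]; group
  have hwt : Transv 2 hA w := hwe ▸ transv_conj hA ht3 v₂
  have hwn := transv_ne_one hA hwt
  have hcw : v₂ c₃ ∈ commSub hA w := by
    rw [hwe, commSub_conj]
    exact ⟨c₃, hc₃, rfl⟩
  have hcw1 : v₂ c₃ ≠ 1 := by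
    intro h
    apply hc₃1
    have := congrArg v₂⁻¹ h
    simpa using this
  have hr23 : v₂ c₃ = c₃ * c₂ :=
    apply_gen_eq hA hP v₂ v₃ ht2 ht3 (hG v₂ h2 v₃ h3 hi2 hi3 hn2 hn3 (Ne.symm h32)) hc₂ hc₂1 hc₃ hc₃1
  have hr13 : v₁ c₃ = c₃ * c₁ :=
    apply_gen_eq hA hP v₁ v₃ ht1 ht3 (hG v₁ h1 v₃ h3 hi1 hi3 hn1 hn3 (Ne.symm h31)) hc₁ hc₁1 hc₃ hc₃1
  have hr12 : v₁ c₂ = c₂ * c₁ :=
    apply_gen_eq hA hP v₁ v₂ ht1 ht2 (hG v₁ h1 v₂ h2 hi1 hi2 hn1 hn2 h12) hc₁ hc₁1 hc₂ hc₂1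
  have hwv : w = v₁ := by
    by_contra hne
    have hr1w : v₁ (v₂ c₃) = v₂ c₃ * c₁ :=
      apply_gen_eq hA hP v₁ w ht1 hwt (hG v₁ h1 w hwG hi1 hwi hn1 hwn (Ne.symm hne)) hc₁ hc₁1
        hcw hcw1
    rw [hr23, map_mul, hr13, hr12] at hr1w
    have h4 : c₃ * c₁ * (c₂ * c₁) = c₃ * c₂ * (c₁ * c₁) := by
      calc c₃ * c₁ * (c₂ * c₁) = c₃ * (c₁ * c₂) * c₁ := by group
        _ = c₃ * (c₂ * c₁) * c₁ := by rw [hA c₁ c₂]
        _ = c₃ * c₂ * (c₁ * c₁) := by group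
    rw [h4, ← pow_two, hc₁2, mul_one] at hr1w
    exact hc₁1 ((mul_eq_left (a := c₃ * c₂) (b := c₁)).mp hr1w.symm)
  rw [hwe] at hwv
  calc v₃ = v₂⁻¹ * (v₂ * v₃ * v₂⁻¹) * v₂ := by group
    _ = v₂⁻¹ * v₁ * v₂ := by rw [hwv]
    _ = v₂ * v₁ * v₂⁻¹ := by rw [hv2inv]

/-- **Invariance for `p = 2`.** -/
theorem map_eq_of_two (hA : ∀ a b : A, a * b = b * a) (hP : IsPGroup 2 A)
    (G : Subgroup (MulAut A))
    (hG : ∀ v ∈ G, ∀ w ∈ G, v * v = 1 → w * w = 1 → v ≠ 1 → w ≠ 1 → v ≠ w →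
      ¬ IsPGroup 2 (Subgroup.closure ({v, w} : Set (MulAut A))))
    (u u' : MulAut A) (hu : u ∈ G) (hu' : u' ∈ G) (hiu : u * u = 1) (hiu' : u' * u' = 1)
    (htu : Transv 2 hA u) (htu' : Transv 2 hA u') (hne : u ≠ u') :
    ∀ g ∈ G, (commSub hA u ⊔ commSub hA u').map g.toMonoidHom = commSub hA u ⊔ commSub hA u' ∧
      (fixSub u ⊓ fixSub u').map g.toMonoidHom = fixSub u ⊓ fixSub u' := by
  -- every transvection of `G` is one of three
  have hthree : ∀ v ∈ G, v * v = 1 → Transv 2 hA v →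
      commSub hA v ≤ commSub hA u ⊔ commSub hA u' ∧ fixSub u ⊓ fixSub u' ≤ fixSub v := by
    intro v hv hiv htv
    by_cases h1 : v = u
    · rw [h1]
      exact ⟨le_sup_left, inf_le_left⟩
    by_cases h2 : v = u'
    · rw [h2]
      exact ⟨le_sup_right, inf_le_right⟩
    have h3 := third_involution hA hP G hG u u' v hu hu' hv hiu hiu' hiv htu htu' htv hne h1 h2
    rw [h3, commSub_conj, fixSub_conj]
    constructor
    · rintro _ ⟨x, hx, rfl⟩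
      show u' x ∈ _
      rw [apply_eq_mul_delta hA u' x]
      exact Subgroup.mul_mem _ (Subgroup.mem_sup_left hx) (Subgroup.mem_sup_right ⟨x, rfl⟩)
    · intro x hx
      obtain ⟨hx1, hx2⟩ := Subgroup.mem_inf.mp hx
      exact ⟨x, hx1, hx2⟩
  intro g hg
  have hgu : g * u * g⁻¹ ∈ G := G.mul_mem (G.mul_mem hg hu) (G.inv_mem hg)
  have hgu' : g * u' * g⁻¹ ∈ G := G.mul_mem (G.mul_mem hg hu') (G.inv_mem hg)
  have hgi : g * u * g⁻¹ * (g * u * g⁻¹) = 1 := by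
    calc g * u * g⁻¹ * (g * u * g⁻¹) = g * (u * u) * g⁻¹ := by group
      _ = 1 := by rw [hiu]; group
  have hgi' : g * u' * g⁻¹ * (g * u' * g⁻¹) = 1 := by
    calc g * u' * g⁻¹ * (g * u' * g⁻¹) = g * (u' * u') * g⁻¹ := by group
      _ = 1 := by rw [hiu']; group
  obtain ⟨ha1, ha2⟩ := hthree _ hgu hgi (transv_conj hA htu g)
  obtain ⟨hb1, hb2⟩ := hthree _ hgu' hgi' (transv_conj hA htu' g)
  rw [commSub_conj] at ha1 hb1
  rw [fixSub_conj] at ha2 hb2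
  constructor
  · apply Subgroup.eq_of_le_of_card_ge
    · rw [Subgroup.map_sup]
      exact sup_le ha1 hb1
    · rw [Subgroup.card_map_of_injective g.injective]
  · symm
    apply Subgroup.eq_of_le_of_card_ge
    · rw [Subgroup.map_inf _ _ _ g.injective]
      exact le_inf ha2 hb2
    · rw [Subgroup.card_map_of_injective g.injective]

end Cfsg.Agent.Helper26.ZI
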