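import Mathlib
import Cfsg.Agent.Helper26.OL2
import Cfsg.Agent.Helper26.ZI4
import Cfsg.Agent.Helper25.FusionAlperin
import Cfsg.Agent.Helper25.FusionNormal

set_option autoImplicit false
set_option linter.style.haveILetI false
set_option linter.unusedSectionVars false
set_option linter.unusedVariables false

/-! The automizer in `S` of the subgroups `Z(S)⟨x⟩`. -/

namespace Cfsg.Agent.Helper26.OL

open Cfsg Cfsg.FusionSystem Cfsg.Agent.Helper25 Cfsg.Agent.Helper26.ZI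
open scoped commutatorElement

variable {Ω : Type*} [Group Ω] {p : ℕ} [Fact p.Prime] {S A : Subgroup Ω} [Finite S]

theorem hPc {x : Ω} (hx : x ∈ S) : ∀ a b : ↥(PP S x), a * b = b * a :=
  fun a b => Subtype.ext (PP_comm hx a a.2 b b.2)

theorem finite_PP {x : Ω} (hx : x ∈ S) : Finite ↥(PP S x) := finite_of_le (PP_le hx)

/-- the centre inside `Z(S)⟨x⟩` -/
def Zs (S : Subgroup Ω) (x : Ω) : Subgroup ↥(PP S x) := (ZZ S).subgroupOf (PP S x)

theorem mem_Zs {x : Ω} {y : ↥(PP S x)} : y ∈ Zs S x ↔ (y : Ω) ∈ ZZ S := Iff.rfl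

theorem card_Zs (x : Ω) : Nat.card (Zs S x) = Nat.card (ZZ S) :=
  Nat.card_congr (Subgroup.subgroupOfEquivOfLe (ZZ_le_PP S x)).toEquiv

/-- the element `x` of `Z(S)⟨x⟩` -/
def xh (S : Subgroup Ω) (x : Ω) : ↥(PP S x) := ⟨x, self_mem_PP S x⟩

theorem T_fix {x : Ω} (hx : x ∈ S) {t : MulAut ↥(PP S x)} (ht : t ∈ autInducedBy S (PP S x))
    {y : ↥(PP S x)} (hy : (y : Ω) ∈ ZZ S) : t y = y := by
  obtain ⟨s, hs, hst⟩ := (mem_autInducedBy_iff S _ t).mp ht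
  apply Subtype.ext
  rw [hst, (mem_ZZ.mp hy).2 s hs, mul_inv_cancel_right]

theorem T_delta (h : Hyp p S A) {x : Ω} (hx : x ∈ S) (hxA : x ∉ A) {t : MulAut ↥(PP S x)}
    (ht : t ∈ autInducedBy S (PP S x)) (y : ↥(PP S x)) :
    ((delta (hPc hx) t y : ↥(PP S x)) : Ω) ∈ Z0 S := by
  obtain ⟨s, hs, hst⟩ := (mem_autInducedBy_iff S _ t).mp ht
  have h1 : s * y * s⁻¹ ∈ PP S x := by rw [← hst]; exact (t y).2
  have h2 := h.comm_mem_Z0 hx hxA hs y.2 h1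
  have e : ((delta (hPc hx) t y : ↥(PP S x)) : Ω) = s * y * s⁻¹ * (y : Ω)⁻¹ := by
    rw [delta_apply]
    show (y : Ω)⁻¹ * ((t y : ↥(PP S x)) : Ω) = _
    rw [hst]
    exact PP_comm hx _ (inv_mem y.2) _ h1
  rw [e]
  exact h2

theorem delta_eq_pow (h : Hyp p S A) {x : Ω} (hx : x ∈ S) (hxA : x ∉ A) {t : MulAut ↥(PP S x)}
    (ht : t ∈ autInducedBy S (PP S x)) (y : ↥(PP S x)) :
    ∃ j : ℤ, delta (hPc hx) t y = (delta (hPc hx) t (xh S x)) ^ j := by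
  obtain ⟨z, hz, j, hy⟩ := (mem_PP hx).mp y.2
  refine ⟨j, ?_⟩
  have e : y = ⟨z, ZZ_le_PP S x hz⟩ * (xh S x) ^ j := Subtype.ext (by rw [hy]; simp [xh])
  rw [e, map_mul, map_zpow]
  have : delta (hPc hx) t ⟨z, ZZ_le_PP S x hz⟩ = 1 := by
    rw [delta_apply, T_fix hx ht hz, inv_mul_cancel]
  rw [this, one_mul]

theorem delta_pow_p (h : Hyp p S A) {x : Ω} (hx : x ∈ S) (hxA : x ∉ A) {t : MulAut ↥(PP S x)}
    (ht : t ∈ autInducedBy S (PP S x)) : (delta (hPc hx) t (xh S x)) ^ p = 1 := by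
  have h1 : (((xh S x) ^ p : ↥(PP S x)) : Ω) ∈ ZZ S := by
    rw [Subgroup.coe_pow]
    exact h.pow_p_mem_ZZ hx hxA
  rw [← map_pow, delta_apply, T_fix hx ht h1, inv_mul_cancel]

theorem delta_ne_one (h : Hyp p S A) {x : Ω} (hx : x ∈ S) (hxA : x ∉ A) {t : MulAut ↥(PP S x)}
    (ht : t ∈ autInducedBy S (PP S x)) (ht1 : t ≠ 1) : delta (hPc hx) t (xh S x) ≠ 1 := by
  intro hw
  apply ht1
  apply MulEquiv.ext
  intro y
  show t y = y
  obtain ⟨j, hj⟩ := delta_eq_pow h hx hxA ht y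
  rw [hw, one_zpow, delta_apply, inv_mul_eq_one] at hj
  exact hj.symm

theorem commSub_eq_zpowers (h : Hyp p S A) {x : Ω} (hx : x ∈ S) (hxA : x ∉ A)
    {t : MulAut ↥(PP S x)} (ht : t ∈ autInducedBy S (PP S x)) :
    commSub (hPc hx) t = Subgroup.zpowers (delta (hPc hx) t (xh S x)) := by
  apply le_antisymm
  · rintro _ ⟨y, rfl⟩
    obtain ⟨j, hj⟩ := delta_eq_pow h hx hxA ht y
    rw [hj]
    exact Subgroup.zpow_mem_zpowers _ j
  · rw [Subgroup.zpowers_le]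
    exact ⟨_, rfl⟩

theorem T_transv (h : Hyp p S A) {x : Ω} (hx : x ∈ S) (hxA : x ∉ A) {t : MulAut ↥(PP S x)}
    (ht : t ∈ autInducedBy S (PP S x)) (ht1 : t ≠ 1) : Transv p (hPc hx) t := by
  constructor
  · rw [commSub_eq_zpowers h hx hxA ht, Nat.card_zpowers]
    exact orderOf_eq_prime (delta_pow_p h hx hxA ht) (delta_ne_one h hx hxA ht ht1)
  · rintro _ ⟨y, rfl⟩
    rw [mem_fixSub]
    exact T_fix hx ht (Z0_le S (T_delta h hx hxA ht y))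

theorem T_fixSub (h : Hyp p S A) {x : Ω} (hx : x ∈ S) (hxA : x ∉ A) {t : MulAut ↥(PP S x)}
    (ht : t ∈ autInducedBy S (PP S x)) (ht1 : t ≠ 1) : fixSub t = Zs S x := by
  haveI := finite_PP hx
  symm
  apply Subgroup.eq_of_le_of_card_ge
  · intro y hy
    exact T_fix hx ht hy
  · have h1 := card_fix_mul_card_comm (hPc hx) t
    rw [(T_transv h hx hxA ht ht1).1, h.card_PP hx hxA] at h1
    rw [card_Zs]
    have hp := (Fact.out : p.Prime).pos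
    rw [mul_comm] at h1
    exact le_of_eq (Nat.eq_of_mul_eq_mul_left hp h1)

theorem exists_T_ne_one (h : Hyp p S A) {x : Ω} (hx : x ∈ S) (hxA : x ∉ A) :
    ∃ t ∈ autInducedBy S (PP S x), t ≠ 1 ∧ ∃ s ∈ S, s ∉ PP S x ∧
      s ∈ Subgroup.normalizer ((PP S x : Subgroup Ω) : Set Ω) ∧
      ∀ y : ↥(PP S x), ((t y : ↥(PP S x)) : Ω) = s * y * s⁻¹ := by
  obtain ⟨g, hg, hgP⟩ := exists_mem_normalizerIn_not_mem p h.hS (PP_le hx) (h.PP_ne hx)
  have hgN : g ∈ Subgroup.normalizer ((PP S x : Subgroup Ω) : Set Ω) := hg.2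
  refine ⟨(PP S x).normalizerMonoidHom ⟨g, hgN⟩, ?_, ?_, g, hg.1, hgP, hgN, fun y => rfl⟩
  · rw [mem_autInducedBy_iff]
    exact ⟨g, hg.1, fun y => rfl⟩
  · intro h1
    apply hgP
    apply h.mem_PP_of_comm hx hxA hg.1
    have h2 := congrArg (fun α : MulAut ↥(PP S x) => ((α (xh S x) : ↥(PP S x)) : Ω)) h1
    have h3 : g * x * g⁻¹ = x := h2
    calc g * x = g * x * g⁻¹ * g := by group
      _ = x * g := by rw [h3]

/-- conjugation by an element of `S` moving `x` inside `Z(S)⟨x⟩` preserves `Z(S)⟨x⟩` -/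
theorem conj_mem_PP {x : Ω} (hx : x ∈ S) {s : Ω} (hs : s ∈ S) (hsx : s * x * s⁻¹ ∈ PP S x)
    {y : Ω} (hy : y ∈ PP S x) : s * y * s⁻¹ ∈ PP S x := by
  obtain ⟨z, hz, j, rfl⟩ := (mem_PP hx).mp hy
  have h1 : s * z * s⁻¹ = z := by
    rw [(mem_ZZ.mp hz).2 s hs, mul_inv_cancel_right]
  have h2 : s * (z * x ^ j) * s⁻¹ = (s * z * s⁻¹) * (s * x * s⁻¹) ^ j := by
    rw [conj_zpow]
    group
  rw [h2, h1]
  exact mul_mem (ZZ_le_PP S x hz) (zpow_mem hsx j)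

theorem exists_T_of_mem_Z0 (h : Hyp p S A) {x : Ω} (hx : x ∈ S) (hxA : x ∉ A) {c : Ω}
    (hc : c ∈ Z0 S) : ∃ t ∈ autInducedBy S (PP S x),
      ((delta (hPc hx) t (xh S x) : ↥(PP S x)) : Ω) = c := by
  obtain ⟨a, ha, hac⟩ := h.exists_of_mem_Z0 hx hxA hc
  have haS : a ∈ S := h.hAS ha
  have hcZ : c ∈ ZZ S := Z0_le S hc
  have hcx : x * c = c * x := (mem_ZZ.mp hcZ).2 x hx
  have h1 : a * x * a⁻¹ = c * x := by
    rw [← hac]; group
  have h2 : a⁻¹ * x * a⁻¹⁻¹ = c⁻¹ * x := by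
    have hca : a⁻¹ * c = c * a⁻¹ := (mem_ZZ.mp hcZ).2 _ (S.inv_mem haS)
    have : x = a⁻¹ * (c * x) * a := by rw [← h1]; group
    calc a⁻¹ * x * a⁻¹⁻¹ = c⁻¹ * (c * a⁻¹) * x * a := by group
      _ = c⁻¹ * (a⁻¹ * c) * x * a := by rw [hca]
      _ = c⁻¹ * (a⁻¹ * (c * x) * a) := by group
      _ = c⁻¹ * x := by rw [← this]
  have h1P : a * x * a⁻¹ ∈ PP S x := by
    rw [h1]; exact mul_mem (ZZ_le_PP S x hcZ) (self_mem_PP S x)
  have h2P : a⁻¹ * x * a⁻¹⁻¹ ∈ PP S x := by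
    rw [h2]; exact mul_mem (inv_mem (ZZ_le_PP S x hcZ)) (self_mem_PP S x)
  have haN : a ∈ Subgroup.normalizer ((PP S x : Subgroup Ω) : Set Ω) := by
    rw [Subgroup.mem_normalizer_iff]
    intro y
    constructor
    · intro hy
      exact conj_mem_PP hx haS h1P hy
    · intro hy
      have := conj_mem_PP hx (S.inv_mem haS) h2P hy
      have e : a⁻¹ * (a * y * a⁻¹) * a⁻¹⁻¹ = y := by group
      rwa [e] at this
  refine ⟨(PP S x).normalizerMonoidHom ⟨a, haN⟩, ?_, ?_⟩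
  · rw [mem_autInducedBy_iff]
    exact ⟨a, haS, fun y => rfl⟩
  · rw [delta_apply]
    show x⁻¹ * (a * x * a⁻¹) = c
    rw [h1, ← hcx, inv_mul_cancel_left]

end Cfsg.Agent.Helper26.OL
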