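import Mathlib
import Cfsg.Agent.Helper26.OL3

set_option autoImplicit false
set_option linter.style.haveILetI false
set_option linter.unusedSectionVars false
set_option linter.unusedVariables false

/-! The inverting automorphism of `Z(S)⟨x⟩` (group theoretic part). -/

namespace Cfsg.Agent.Helper26.OL

open Cfsg Cfsg.FusionSystem Cfsg.Agent.Helper25 Cfsg.Agent.Helper26.ZI
open scoped commutatorElement

variable {Ω : Type*} [Group Ω] {p : ℕ} [Fact p.Prime] {S A : Subgroup Ω} [Finite S]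

set_option maxHeartbeats 800000 in
theorem lemmaG_abs (h : Hyp p S A) {x : Ω} (hx : x ∈ S) (hxA : x ∉ A)
    {u : MulAut ↥(PP S x)} (hu : u ∈ autInducedBy S (PP S x)) (hu1 : u ≠ 1)
    (g : MulAut ↥(PP S x))
    (hL : ¬ IsPGroup p (Subgroup.closure ({u, g * u * g⁻¹} : Set (MulAut ↥(PP S x)))))
    (hL' : ∀ τ ∈ autInducedBy S (PP S x), τ ≠ 1 →
      ¬ IsPGroup p (Subgroup.closure ({g * u * g⁻¹, τ} : Set (MulAut ↥(PP S x))))) :
    ∃ ι ∈ Subgroup.closure ({u, g * u * g⁻¹} : Set (MulAut ↥(PP S x))), ι * u = u * ι ∧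
      (∀ y ∈ fixSub u ⊓ fixSub (g * u * g⁻¹), ι y = y) ∧
      (∀ y : ↥(PP S x), (y : Ω) ∈ Z0 S → ι y = y⁻¹) ∧
      (∀ z : ↥(PP S x), (z : Ω) ∈ ZZ S → ∃ c ∈ fixSub u ⊓ fixSub (g * u * g⁻¹),
        ∃ w : ↥(PP S x), (w : Ω) ∈ Z0 S ∧ z = c * w) ∧
      (∀ y : ↥(PP S x), (y : Ω) ∈ Z0 S → y ∈ commSub (hPc hx) u) := by
  haveI := finite_PP (S := S) hx
  have hP : IsPGroup p ↥(PP S x) := h.hS.to_le (PP_le hx)
  have hA := hPc (S := S) hx
  have htu : Transv p hA u := T_transv h hx hxA hu hu1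
  have htu' : Transv p hA (g * u * g⁻¹) := transv_conj hA htu g
  obtain ⟨d1, d2, d3, d4, d5⟩ := decomp hA hP u (g * u * g⁻¹) htu.1 htu'.1 htu.2 htu'.2 hL
  obtain ⟨ι, hι, hinv, hfix, hcomm⟩ :=
    exists_inverting hA hP u (g * u * g⁻¹) htu.1 htu'.1 htu.2 htu'.2 hL
  -- (a)
  have ha : ∀ y ∈ fixSub u ⊓ fixSub (g * u * g⁻¹), (y : Ω) ∈ Z0 S → y = 1 := by
    intro y hy hy0
    obtain ⟨τ, hτ, hτc⟩ := exists_T_of_mem_Z0 h hx hxA hy0
    have hτy : delta hA τ (xh S x) = y := Subtype.ext hτc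
    by_cases hτ1 : τ = 1
    · rw [← hτy, hτ1, delta_apply]
      simp
    · have htτ : Transv p hA τ := T_transv h hx hxA hτ hτ1
      have h1 := inf_fix_eq_bot hA hP (g * u * g⁻¹) τ htτ.1 htu'.2 htτ.2 (hL' τ hτ hτ1)
      have h2 : y ∈ commSub hA τ ⊓ fixSub (g * u * g⁻¹) := by
        refine Subgroup.mem_inf.mpr ⟨?_, (Subgroup.mem_inf.mp hy).2⟩
        rw [← hτy]
        exact ⟨_, rfl⟩
      rw [h1] at h2
      exact Subgroup.mem_bot.mp h2
  -- (b')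
  have hb : ∀ z : ↥(PP S x), (z : Ω) ∈ ZZ S → ∃ c ∈ fixSub u ⊓ fixSub (g * u * g⁻¹),
      ∃ a ∈ commSub hA u, z = c * a := by
    intro z hz
    have hztop : z ∈ (commSub hA u ⊔ commSub hA (g * u * g⁻¹)) ⊔
        (fixSub u ⊓ fixSub (g * u * g⁻¹)) := by
      rw [d5]; exact Subgroup.mem_top z
    obtain ⟨e, he, c, hc, rfl⟩ := exists_mul_of_mem_sup hA hztop
    obtain ⟨a, haa, b, hbb, rfl⟩ := exists_mul_of_mem_sup hA he
    have huz : u (a * b * c) = a * b * c := T_fix hx hu hz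
    have hua : u a = a := htu.2 haa
    have huc : u c = c := (Subgroup.mem_inf.mp hc).1
    rw [map_mul, map_mul, hua, huc] at huz
    have hub : u b = b := by
      have := mul_right_cancel huz
      exact mul_left_cancel this
    have hb1 : b ∈ commSub hA (g * u * g⁻¹) ⊓ fixSub u := Subgroup.mem_inf.mpr ⟨hbb, hub⟩
    rw [d1] at hb1
    have hb2 : b = 1 := Subgroup.mem_bot.mp hb1
    refine ⟨c, hc, a, haa, ?_⟩
    rw [hb2, mul_one]
    exact hA a c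
  have hcomm0 : ∀ a ∈ commSub hA u, ((a : ↥(PP S x)) : Ω) ∈ Z0 S := by
    rintro _ ⟨y, rfl⟩
    exact T_delta h hx hxA hu y
  -- (d)
  have hd : ∀ y : ↥(PP S x), (y : Ω) ∈ Z0 S → y ∈ commSub hA u := by
    intro y hy
    obtain ⟨c, hc, a, haa, hyca⟩ := hb y (Z0_le S hy)
    have hc0 : ((c : ↥(PP S x)) : Ω) ∈ Z0 S := by
      have e : c = y * a⁻¹ := by rw [hyca, mul_inv_cancel_right]
      rw [e]
      exact (Z0 S).mul_mem hy ((Z0 S).inv_mem (hcomm0 a haa))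
    have hc1 := ha c hc hc0
    rw [hyca, hc1, one_mul]
    exact haa
  refine ⟨ι, hι, hcomm, hfix, ?_, ?_, hd⟩
  · intro y hy
    exact hinv y (Subgroup.mem_sup_left (hd y hy))
  · intro z hz
    obtain ⟨c, hc, a, haa, hzca⟩ := hb z hz
    exact ⟨c, hc, a, hcomm0 a haa, hzca⟩

end Cfsg.Agent.Helper26.OL
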