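import Mathlib
import Cfsg.Agent.Helper26.OL1
import Cfsg.Agent.Helper25.FusionNKSystem
import Cfsg.Agent.Helper25.FusionNormal

set_option autoImplicit false
set_option linter.style.haveILetI false
set_option linter.unusedSectionVars false
set_option linter.unusedVariables false

/-! The subsystem of the maps acting on the centre of `S` as elements of `Aut_F(S)`. -/

namespace Cfsg.Agent.Helper26.OL

open Cfsg Cfsg.FusionSystem Cfsg.Agent.Helper25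

variable {Ω : Type*} [Group Ω] {S : Subgroup Ω}

/-- automorphisms of `S` preserve the centre -/
theorem aut_ZZ (α : MulAut ↥S) {z : Ω} (hz : z ∈ ZZ S) :
    ((α ⟨z, ZZ_le S hz⟩ : ↥S) : Ω) ∈ ZZ S := by
  rw [mem_ZZ]
  refine ⟨(α _).2, fun g hg => ?_⟩
  have h1 : (⟨g, hg⟩ : ↥S) = α (α⁻¹ ⟨g, hg⟩) := by simp
  have h2 : (α⁻¹ ⟨g, hg⟩ : ↥S) * ⟨z, ZZ_le S hz⟩ =
      ⟨z, ZZ_le S hz⟩ * (α⁻¹ ⟨g, hg⟩ : ↥S) :=
    Subtype.ext ((mem_ZZ.mp hz).2 _ (α⁻¹ ⟨g, hg⟩ : ↥S).2)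
  have h3 := congrArg α h2
  rw [map_mul, map_mul, ← h1] at h3
  exact congrArg Subtype.val h3

/-- restriction of an automorphism of `S` to the centre -/
def resZ (γ : MulAut ↥S) : MulAut ↥(ZZ S) where
  toFun z := ⟨γ ⟨z, ZZ_le S z.2⟩, aut_ZZ γ z.2⟩
  invFun z := ⟨γ⁻¹ ⟨z, ZZ_le S z.2⟩, aut_ZZ γ⁻¹ z.2⟩
  left_inv z := by
    apply Subtype.ext
    show ((γ⁻¹ ⟨((γ ⟨z, ZZ_le S z.2⟩ : ↥S) : Ω), _⟩ : ↥S) : Ω) = z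
    have : (⟨((γ ⟨z, ZZ_le S z.2⟩ : ↥S) : Ω), (γ ⟨z, ZZ_le S z.2⟩).2⟩ : ↥S) =
        γ ⟨z, ZZ_le S z.2⟩ := rfl
    rw [this, MulAut.inv_apply_self]
  right_inv z := by
    apply Subtype.ext
    show ((γ ⟨((γ⁻¹ ⟨z, ZZ_le S z.2⟩ : ↥S) : Ω), _⟩ : ↥S) : Ω) = z
    have : (⟨((γ⁻¹ ⟨z, ZZ_le S z.2⟩ : ↥S) : Ω), (γ⁻¹ ⟨z, ZZ_le S z.2⟩).2⟩ : ↥S) =
        γ⁻¹ ⟨z, ZZ_le S z.2⟩ := rfl
    rw [this, MulAut.apply_inv_self]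
  map_mul' a b := by
    apply Subtype.ext
    show ((γ ⟨(a : Ω) * b, _⟩ : ↥S) : Ω) = (γ ⟨a, _⟩ : ↥S) * (γ ⟨b, _⟩ : ↥S)
    have : (⟨(a : Ω) * b, ZZ_le S (a * b).2⟩ : ↥S) =
        ⟨a, ZZ_le S a.2⟩ * ⟨b, ZZ_le S b.2⟩ := rfl
    rw [this, map_mul]
    rfl

theorem resZ_apply (γ : MulAut ↥S) (z : ↥(ZZ S)) :
    ((resZ γ z : ↥(ZZ S)) : Ω) = ((γ ⟨z, ZZ_le S z.2⟩ : ↥S) : Ω) := rfl

/-- the restrictions to the centre of the elements of `Aut_F(S)` -/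
def KZ (F : FusionSystem S) : Subgroup (MulAut ↥(ZZ S)) where
  carrier := {κ | ∃ γ ∈ F.autGroup S, ∀ z : ↥(ZZ S),
    ((κ z : ↥(ZZ S)) : Ω) = ((γ ⟨z, ZZ_le S z.2⟩ : ↥S) : Ω)}
  one_mem' := ⟨1, Subgroup.one_mem _, fun z => rfl⟩
  mul_mem' := by
    rintro a b ⟨γa, hγa, ha⟩ ⟨γb, hγb, hb⟩
    refine ⟨γa * γb, Subgroup.mul_mem _ hγa hγb, fun z => ?_⟩
    show ((a (b z) : ↥(ZZ S)) : Ω) = ((γa (γb ⟨z, ZZ_le S z.2⟩) : ↥S) : Ω)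
    rw [ha (b z)]
    congr 2
    exact Subtype.ext (hb z)
  inv_mem' := by
    rintro a ⟨γ, hγ, ha⟩
    refine ⟨γ⁻¹, Subgroup.inv_mem _ hγ, fun z => ?_⟩
    have h1 := ha (a⁻¹ z)
    rw [MulAut.apply_inv_self] at h1
    have h2 : (⟨z, ZZ_le S z.2⟩ : ↥S) = γ ⟨(a⁻¹ z : ↥(ZZ S)), ZZ_le S (a⁻¹ z).2⟩ :=
      Subtype.ext h1
    rw [h2, MulAut.inv_apply_self]

theorem resZ_mem_KZ (F : FusionSystem S) {γ : MulAut ↥S} (hγ : γ ∈ F.autGroup S) :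
    resZ γ ∈ KZ F := ⟨γ, hγ, fun z => rfl⟩

theorem NKvia_KZ_eq (F : FusionSystem S) : NKvia S (ZZ S).subtype (KZ F) = S := by
  apply le_antisymm (NKvia_le S _ _)
  intro g hg
  rw [mem_NKvia_subtype]
  refine ⟨hg, 1, Subgroup.one_mem _, fun z => ?_⟩
  show (z : Ω) = g * z * g⁻¹
  rw [(mem_ZZ.mp z.2).2 g hg, mul_inv_cancel_right]

/-- the system of the maps acting on the centre as elements of `Aut_F(S)` -/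
def NZ (F : FusionSystem S) : FusionSystem S :=
  castSystem (NKvia_KZ_eq F) (NKSystem F (ZZ S) (ZZ_le S) (KZ F))

theorem mem_NZ_iff (F : FusionSystem S) (P : Subgroup Ω) (φ : P →* Ω) :
    φ ∈ (NZ F).Hom P ↔ φ ∈ F.Hom P ∧
      ∃ ψ ∈ F.Hom (P ⊔ ZZ S), (∀ x : P, ψ (Subgroup.inclusion le_sup_left x) = φ x) ∧
        ∃ κ ∈ KZ F, ∀ x : ↥(ZZ S), ψ (Subgroup.inclusion le_sup_right x) = κ x := by
  unfold NZ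
  rw [castSystem_Hom, NKSystem_hom]
  constructor
  · rintro ⟨h1, -, -, h4⟩
    exact ⟨h1, h4⟩
  · rintro ⟨h1, h4⟩
    have hP := F.le_of_mem h1
    refine ⟨h1, ?_, ?_, h4⟩
    · rw [NKvia_KZ_eq F]
      exact hP.1
    · intro x
      rw [NKvia_KZ_eq F]
      exact hP.2 x

theorem NZ_sub (F : FusionSystem S) (P : Subgroup Ω) (φ : P →* Ω)
    (hφ : φ ∈ (NZ F).Hom P) : φ ∈ F.Hom P :=
  ((mem_NZ_iff F P φ).mp hφ).1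

/-- maps of `NZ` act on the centre as elements of `Aut_F(S)` -/
theorem NZ_act (F : FusionSystem S) {R : Subgroup Ω} (hZR : ZZ S ≤ R) {φ : R →* Ω}
    (hφ : φ ∈ (NZ F).Hom R) :
    ∃ γ ∈ F.autGroup S, ∀ z : ↥(ZZ S), φ ⟨z, hZR z.2⟩ = ((γ ⟨z, ZZ_le S z.2⟩ : ↥S) : Ω) := by
  rw [mem_NZ_iff] at hφ
  obtain ⟨-, ψ, -, hext, κ, ⟨γ, hγ, hκγ⟩, hκZ⟩ := hφ
  refine ⟨γ, hγ, fun z => ?_⟩
  rw [← hκγ z, ← hκZ z, ← hext ⟨z, hZR z.2⟩]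
  rfl

/-- maps acting on the centre as elements of `Aut_F(S)` lie in `NZ` -/
theorem mem_NZ_of_act (F : FusionSystem S) {R : Subgroup Ω} (hZR : ZZ S ≤ R) {φ : R →* Ω}
    (hφ : φ ∈ F.Hom R) {γ : MulAut ↥S} (hγ : γ ∈ F.autGroup S)
    (hact : ∀ z : ↥(ZZ S), φ ⟨z, hZR z.2⟩ = ((γ ⟨z, ZZ_le S z.2⟩ : ↥S) : Ω)) :
    φ ∈ (NZ F).Hom R := by
  rw [mem_NZ_iff]
  have hsup : R ⊔ ZZ S = R := sup_eq_left.mpr hZR
  refine ⟨hφ, φ.comp (Subgroup.inclusion hsup.le), cast_mem F hsup hφ, fun x => rfl, resZ γ,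
    resZ_mem_KZ F hγ, fun x => ?_⟩
  rw [resZ_apply, ← hact x]
  rfl

end Cfsg.Agent.Helper26.OL
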