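import Mathlib
import Cfsg.Agent.Helper25.FusionInvariant
import Cfsg.Agent.Helper25.FusionAlperin
import Cfsg.Agent.S5077

set_option autoImplicit false
set_option linter.style.haveILetI false
set_option linter.unusedSectionVars false
set_option linter.unusedVariables false

/-! Extension of automorphisms to larger subgroups, and the Frattini argument in `Aut_F(Q)`. -/

namespace Cfsg.Agent.Helper26.OL

open Cfsg Cfsg.FusionSystem Cfsg.Agent.Helper25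

variable {Ω : Type*} [Group Ω] {S : Subgroup Ω} [Finite S]

/-- extension of an automorphism to a strictly larger subgroup, given one witness -/
theorem exists_extension_of_witness (p : ℕ) [Fact p.Prime] (hS : IsPGroup p S)
    (F : FusionSystem S) (hF : F.IsSaturated p) {R : Subgroup Ω}
    (hFN : F.IsFullyNormalized R) {τ : MulAut ↥R} (hτ : τ ∈ F.autGroup R) {s h₀ : Ω} (hs : s ∈ S)
    (hsN : s ∈ Subgroup.normalizer (R : Set Ω)) (hsR : s ∉ R) (hh : h₀ ∈ S)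
    (hcompat : ∀ (y : ↥R) (hy : s * (y : Ω) * s⁻¹ ∈ R),
      ((τ ⟨s * y * s⁻¹, hy⟩ : ↥R) : Ω) = h₀ * ((τ y : ↥R) : Ω) * h₀⁻¹) :
    ∃ Q : Subgroup Ω, R ≤ Q ∧ Q ≤ S ∧ Nat.card R < Nat.card Q ∧ ∃ ψ ∈ F.Hom Q,
      ∀ (y : Ω) (hyR : y ∈ R) (hyQ : y ∈ Q), ψ ⟨y, hyQ⟩ = ((τ ⟨y, hyR⟩ : ↥R) : Ω) := by
  have hRS : R ≤ S := hFN.1
  have hFC := (Cfsg.Agent.S5077.sylow_axiom p hS F hF R hFN).1
  have hrec := Cfsg.Agent.S5077.extension_axiom p hS F hF R hFC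
  have hφ : autHom τ ∈ F.Hom R := (mem_autGroup_iff F hRS τ).mp hτ
  obtain ⟨ψ, hψ, hψφ⟩ := hrec.2 R (autHom τ) hφ (autHom_range τ)
  have hQS : extender S R (autHom τ) ≤ S :=
    (extender_le_normalizerIn R (autHom τ)).trans inf_le_left
  have hRQ : R ≤ extender S R (autHom τ) := by
    intro g hg
    apply Subgroup.subset_closure
    refine ⟨hRS hg, Subgroup.le_normalizer hg, ((τ ⟨g, hg⟩ : ↥R) : Ω), hRS (τ ⟨g, hg⟩).2,
      fun y hy => ?_⟩
    show ((τ ⟨g * y * g⁻¹, hy⟩ : ↥R) : Ω) = _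
    have e : (⟨g * y * g⁻¹, hy⟩ : ↥R) = ⟨g, hg⟩ * y * (⟨g, hg⟩ : ↥R)⁻¹ := rfl
    rw [e, map_mul, map_mul, map_inv]
    rfl
  have hsQ : s ∈ extender S R (autHom τ) := by
    apply Subgroup.subset_closure
    exact ⟨hs, hsN, h₀, hh, fun y hy => hcompat y hy⟩
  refine ⟨extender S R (autHom τ), hRQ, hQS, ?_, ψ, hψ, fun y hyR hyQ => hψφ y hyR hyQ⟩
  haveI : Finite ↥(extender S R (autHom τ)) := finite_of_le hQS
  by_contra hlt
  rw [not_lt] at hlt
  have := Subgroup.eq_of_le_of_card_ge hRQ hlt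
  rw [← this] at hsQ
  exact hsR hsQ

/-- an automorphism normalizing `Aut_S(R)` extends to a strictly larger subgroup -/
theorem exists_extension_of_normalizing (p : ℕ) [Fact p.Prime] (hS : IsPGroup p S)
    (F : FusionSystem S) (hF : F.IsSaturated p) {R : Subgroup Ω}
    (hFN : F.IsFullyNormalized R) (hRne : R ≠ S) {n : MulAut ↥R} (hn : n ∈ F.autGroup R)
    (hnorm : ∀ t ∈ autInducedBy S R, n * t * n⁻¹ ∈ autInducedBy S R) :
    ∃ Q : Subgroup Ω, R ≤ Q ∧ Q ≤ S ∧ Nat.card R < Nat.card Q ∧ ∃ ψ ∈ F.Hom Q,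
      ∀ (y : Ω) (hyR : y ∈ R) (hyQ : y ∈ Q), ψ ⟨y, hyQ⟩ = ((n ⟨y, hyR⟩ : ↥R) : Ω) := by
  obtain ⟨s, hs, hsR⟩ := exists_mem_normalizerIn_not_mem p hS hFN.1 hRne
  have hsN : s ∈ Subgroup.normalizer (R : Set Ω) := hs.2
  have ht : R.normalizerMonoidHom ⟨s, hsN⟩ ∈ autInducedBy S R :=
    (mem_autInducedBy_iff S R _).mpr ⟨s, hs.1, fun y => rfl⟩
  obtain ⟨h₀, hh, hh₀⟩ := (mem_autInducedBy_iff S R _).mp (hnorm _ ht)
  refine exists_extension_of_witness p hS F hF hFN hn hs.1 hsN hsR hh (fun y hy => ?_)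
  have h1 := hh₀ (n y)
  simp only [MulAut.mul_apply, MulAut.inv_apply_self] at h1
  have e : (⟨s * y * s⁻¹, hy⟩ : ↥R) = R.normalizerMonoidHom ⟨s, hsN⟩ y := Subtype.ext rfl
  rw [e]
  exact h1

/-- the Frattini argument in `Aut_F(Q)` -/
theorem frattini_le (p : ℕ) [Fact p.Prime] (F : FusionSystem S) {Q : Subgroup Ω} (hQS : Q ≤ S)
    (hFA : F.IsFullyAutomized p Q) (H : Subgroup (MulAut ↥Q))
    (h1 : ∀ k ∈ F.autGroup Q, ∀ t ∈ autInducedBy S Q, k * t * k⁻¹ ∈ H)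
    (h2 : ∀ n ∈ F.autGroup Q,
      (∀ t ∈ autInducedBy S Q, n * t * n⁻¹ ∈ autInducedBy S Q) → n ∈ H) :
    F.autGroup Q ≤ H := by
  set K₀ : Subgroup (MulAut ↥Q) :=
    Subgroup.closure {c | ∃ k ∈ F.autGroup Q, ∃ t ∈ autInducedBy S Q, c = k * t * k⁻¹} with hK₀
  have hK₀H : K₀ ≤ H := by
    rw [hK₀, Subgroup.closure_le]
    rintro _ ⟨k, hk, t, ht, rfl⟩
    exact h1 k hk t ht
  have hTK₀ : autInducedBy S Q ≤ K₀ := by
    intro t ht
    apply Subgroup.subset_closure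
    exact ⟨1, Subgroup.one_mem _, t, ht, by simp⟩
  have hnorm : ∀ a ∈ F.autGroup Q, ∀ k ∈ K₀, k ∈ F.autGroup Q → a * k * a⁻¹ ∈ K₀ := by
    intro a ha k hk hkA
    clear hkA
    rw [hK₀] at hk
    induction hk using Subgroup.closure_induction with
    | mem c hc =>
      obtain ⟨b, hb, t, ht, rfl⟩ := hc
      apply Subgroup.subset_closure
      exact ⟨a * b, Subgroup.mul_mem _ ha hb, t, ht, by group⟩
    | one =>
      have e : a * 1 * a⁻¹ = 1 := by group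
      rw [e]; exact Subgroup.one_mem _
    | mul x y _ _ hx hy =>
      have e : a * (x * y) * a⁻¹ = (a * x * a⁻¹) * (a * y * a⁻¹) := by group
      rw [e]; exact Subgroup.mul_mem _ hx hy
    | inv x _ hx =>
      have e : a * x⁻¹ * a⁻¹ = (a * x * a⁻¹)⁻¹ := by group
      rw [e]; exact Subgroup.inv_mem _ hx
  intro α hα
  obtain ⟨κ, hκA, hκK, hκ⟩ := exists_mul_conj_mem p F hQS hFA K₀ hnorm α hα
  have hn : κ * α ∈ H :=
    h2 (κ * α) (Subgroup.mul_mem _ hκA hα) (fun t ht => hκ t ht (hTK₀ ht))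
  have e : α = κ⁻¹ * (κ * α) := by group
  rw [e]
  exact H.mul_mem (H.inv_mem (hK₀H hκK)) hn

end Cfsg.Agent.Helper26.OL
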