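import Mathlib
import Cfsg.Prelude.Def_FusionSystem
import Cfsg.Agent.Helper25.FusionNormalizerConstrained
import Cfsg.Agent.Helper25.FusionSat
import Cfsg.Agent.S5083

set_option autoImplicit false

/-! Inner fusion systems as a predicate on the maps, and the normalizer system being inner as
a predicate not mentioning the system. -/

namespace Cfsg.Agent.Helper26.MasterRed

open Cfsg Cfsg.FusionSystem Cfsg.Agent.Helper25

variable {Ω : Type*} [Group Ω] {S : Subgroup Ω}

/-- Every map of the system is conjugation by an element of `S`. -/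
def Inner (F : FusionSystem S) : Prop :=
  ∀ (P : Subgroup Ω) (φ : P →* Ω), φ ∈ F.Hom P → ∃ g ∈ S, ∀ x : P, φ x = g * (x : Ω) * g⁻¹

/-- Every map of the normalizer system of `U` is conjugation by an element of `N_S(U)`. -/
def NInner (F : FusionSystem S) (U : Subgroup Ω) : Prop :=
  ∀ (P : Subgroup Ω) (φ : P →* Ω), φ ∈ F.normalizerHom U P →
    ∃ g ∈ normalizerIn S U, ∀ x : P, φ x = g * (x : Ω) * g⁻¹

theorem inner_iff (F : FusionSystem S) :
    Inner F ↔ ∀ P : Subgroup Ω, F.Hom P = (innerFusionSystem S).Hom P := by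
  constructor
  · intro h P
    ext φ
    constructor
    · intro hφ
      obtain ⟨g, hg, hx⟩ := h P φ hφ
      exact ⟨(F.le_of_mem hφ).1, g, hg, hx⟩
    · rintro ⟨hP, g, hg, hx⟩
      have h1 := F.conj_mem hP hg
      have e : φ = conjHom P g := by
        ext x
        exact hx x
      rw [e]
      exact h1
  · intro h P φ hφ
    rw [h P] at hφ
    obtain ⟨-, g, hg, hx⟩ := hφ
    exact ⟨g, hg, hx⟩

theorem inner_of_eq (F : FusionSystem S) (h : F = innerFusionSystem S) : Inner F := by
  rw [inner_iff]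
  intro P
  rw [h]

theorem inner_of_card_eq_one (F : FusionSystem S) (h : Nat.card S = 1) : Inner F := by
  intro P φ hφ
  refine ⟨1, S.one_mem, fun x => ?_⟩
  have hsub : Subsingleton S := (Nat.card_eq_one_iff_unique.mp h).1
  have hx1 : x = 1 := by
    apply Subtype.ext
    have h1 : (⟨(x : Ω), (F.le_of_mem hφ).1 x.2⟩ : S) = 1 := Subsingleton.elim _ _
    exact congrArg (fun z : S => (z : Ω)) h1
  rw [hx1, map_one]
  simp

theorem ninner_iff (F : FusionSystem S) (U : Subgroup Ω) (E : FusionSystem (normalizerIn S U))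
    (hE : F.IsNormalizerSystem U E) : Inner E ↔ NInner F U := by
  constructor
  · intro h P φ hφ
    rw [← hE P] at hφ
    exact h P φ hφ
  · intro h P φ hφ
    rw [hE P] at hφ
    exact h P φ hφ

/-- A map whose source contains `U` and which carries `U` onto itself is a map of the
normalizer system. -/
theorem mem_normalizerHom_of_le (F : FusionSystem S) {U X : Subgroup Ω} (hUX : U ≤ X)
    {ψ : X →* Ω} (hψ : ψ ∈ F.Hom X) (hXN : X ≤ normalizerIn S U)
    (hval : ∀ x : X, ψ x ∈ normalizerIn S U) (hmap : (U.subgroupOf X).map ψ = U) :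
    ψ ∈ F.normalizerHom U X := by
  have hsup : X ⊔ U = X := sup_eq_left.mpr hUX
  refine ⟨hψ, hXN, hval, ψ.comp (Subgroup.inclusion hsup.le), cast_mem F hsup hψ, fun x => ?_, ?_⟩
  · show ψ _ = ψ x
    congr 1
  · ext y
    constructor
    · rintro ⟨z, hz, rfl⟩
      have h0 : ψ (Subgroup.inclusion hsup.le z) ∈ (U.subgroupOf X).map ψ := ⟨_, hz, rfl⟩
      exact (show ∀ Y : Subgroup Ω, (U.subgroupOf X).map ψ = Y →
        ψ (Subgroup.inclusion hsup.le z) ∈ Y from fun Y hY => hY ▸ h0) U hmap
    · intro hy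
      have h0 : y ∈ (U.subgroupOf X).map ψ :=
        (show ∀ Y : Subgroup Ω, (U.subgroupOf X).map ψ = Y → y ∈ Y →
          y ∈ (U.subgroupOf X).map ψ from fun Y hY h => hY ▸ h) U hmap hy
      obtain ⟨z, hz, rfl⟩ := h0
      exact ⟨Subgroup.inclusion (le_sup_left : X ≤ X ⊔ U) z, hz, rfl⟩

end Cfsg.Agent.Helper26.MasterRed
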