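import Mathlib
import Cfsg.Agent.Helper26.InnerBasic

set_option autoImplicit false

/-! Automorphism groups of `p`-power order from inner normalizer systems. -/

namespace Cfsg.Agent.Helper26.MasterRed

open Cfsg Cfsg.FusionSystem Cfsg.Agent.Helper25

variable {Ω : Type*} [Group Ω] {S : Subgroup Ω}

theorem ninner_norm (F : FusionSystem S) {U : Subgroup Ω}
    (hSN : S ≤ Subgroup.normalizer (U : Set Ω))
    (E : FusionSystem (normalizerIn S U)) (hE : F.IsNormalizerSystem U E) {W : Subgroup Ω}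
    (h : NInner F W) : NInner E W := by
  intro P φ hφ
  obtain ⟨hφE, hPN, hval, ψ, hψ, hext, hmap⟩ := hφ
  rw [hE P] at hφE
  rw [hE (P ⊔ W)] at hψ
  have hTS : normalizerIn S U ≤ S := inf_le_left
  have hNN : normalizerIn (normalizerIn S U) W ≤ normalizerIn S W :=
    fun x hx => ⟨hTS hx.1, hx.2⟩
  obtain ⟨g, hg, hx⟩ := h P φ ⟨hφE.1, hPN.trans hNN, fun x => hNN (hval x), ψ, hψ.1, hext, hmap⟩
  exact ⟨g, ⟨⟨hg.1, hSN hg.1⟩, hg.2⟩, hx⟩

theorem isFullyNormalized_of_normal [Finite S] (F : FusionSystem S) {U : Subgroup Ω} (hU : U ≤ S)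
    (hSN : S ≤ Subgroup.normalizer (U : Set Ω)) : F.IsFullyNormalized U := by
  refine ⟨hU, fun Q _ => ?_⟩
  have h1 : normalizerIn S Q ≤ normalizerIn S U := fun x hx => ⟨hx.1, hSN hx.1⟩
  have : Finite (normalizerIn S U) := finite_of_le inf_le_left
  exact Nat.card_le_card_of_injective (Subgroup.inclusion h1) (Subgroup.inclusion_injective _)

theorem aut_pow_apply_of_conj {X : Subgroup Ω} (α : MulAut X) (g : Ω)
    (h : ∀ x : X, ((α x : X) : Ω) = g * x * g⁻¹) (n : ℕ) (x : X) :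
    (((α ^ n) x : X) : Ω) = g ^ n * x * (g ^ n)⁻¹ := by
  induction n generalizing x with
  | zero => simp
  | succ n ih =>
    rw [pow_succ, MulAut.mul_apply, ih (α x), h x, pow_succ]
    group

theorem exists_pow_eq_one_of_conj {p : ℕ} (hS : IsPGroup p S) {X : Subgroup Ω} (α : MulAut X)
    {g : Ω} (hg : g ∈ S) (h : ∀ x : X, ((α x : X) : Ω) = g * x * g⁻¹) :
    ∃ k : ℕ, α ^ (p ^ k) = 1 := by
  obtain ⟨k, hk⟩ := hS ⟨g, hg⟩
  have hk' : g ^ (p ^ k) = 1 := by
    have := congrArg (fun z : S => (z : Ω)) hk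
    simpa using this
  refine ⟨k, ?_⟩
  ext x
  rw [aut_pow_apply_of_conj α g h, hk']
  simp

/-- If the normalizer system of `U` is inner then `Aut_F(U)` is a `p`-group. -/
theorem NInner.autGroup_isPGroup {p : ℕ} (hS : IsPGroup p S) {F : FusionSystem S}
    {U : Subgroup Ω} (hU : U ≤ S) (h : NInner F U) : IsPGroup p (F.autGroup U) := by
  rintro ⟨α, hα⟩
  have hUN : U ≤ normalizerIn S U := fun x hx => ⟨hU hx, Subgroup.le_normalizer hx⟩
  have h1 : autHom α ∈ F.Hom U := (mem_autGroup_iff F hU α).mp hα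
  have h2 : autHom α ∈ F.normalizerHom U U := by
    refine mem_normalizerHom_of_le F le_rfl h1 hUN (fun x => hUN (α x).2) ?_
    rw [Subgroup.subgroupOf_self, ← MonoidHom.range_eq_map, autHom_range]
  obtain ⟨g, hg, hx⟩ := h U _ h2
  obtain ⟨k, hk⟩ := exists_pow_eq_one_of_conj hS α hg.1 hx
  exact ⟨k, Subtype.ext hk⟩

theorem pow_eq_one_of_extends {P X : Subgroup Ω} (hPX : P ≤ X) (α : MulAut P) (β : MulAut X)
    (h : ∀ x : P, β (Subgroup.inclusion hPX x) = Subgroup.inclusion hPX (α x)) {n : ℕ}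
    (hn : β ^ n = 1) : α ^ n = 1 := by
  have key : ∀ (m : ℕ) (x : P), (β ^ m) (Subgroup.inclusion hPX x) =
      Subgroup.inclusion hPX ((α ^ m) x) := by
    intro m
    induction m with
    | zero => intro x; simp
    | succ m ih =>
      intro x
      rw [pow_succ, pow_succ, MulAut.mul_apply, MulAut.mul_apply, h x, ih (α x)]
  ext x
  have h1 := key n x
  rw [hn] at h1
  have h2 : Subgroup.inclusion hPX x = Subgroup.inclusion hPX ((α ^ n) x) := h1
  have h3 := Subgroup.inclusion_injective hPX h2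
  rw [← h3]
  rfl

theorem congr_pow {A B : Type*} [Group A] [Group B] (e : A ≃* B) (β : MulAut A) (n : ℕ) :
    MulAut.congr e (β ^ n) = (MulAut.congr e β) ^ n := map_pow (MulAut.congr e) β n

/-- Transport of an automorphism of `p`-power order: an `F`-automorphism `β` of `X ≥ U` that
normalizes `U` has `p`-power order as soon as some `F`-map `φ` defined on `Y ≥ X` carries `U` to a
subgroup `U'` with inner normalizer system, and `Y` into `N_S(U')`. -/
theorem exists_pow_eq_one_of_ninner_conj {p : ℕ} (hS : IsPGroup p S) (F : FusionSystem S)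
    {U X Y U' : Subgroup Ω} (hUX : U ≤ X) (hXY : X ≤ Y) {φ : Y →* Ω} (hφ : φ ∈ F.Hom Y)
    (hφU : (U.subgroupOf Y).map φ = U') (hφN : ∀ y : Y, φ y ∈ normalizerIn S U')
    (hU' : NInner F U') (β : MulAut X) (hβ : β ∈ F.autGroup X)
    (hβU : (U.subgroupOf X).map (autHom β) = U) : ∃ k : ℕ, β ^ (p ^ k) = 1 := by
  have hYS : Y ≤ S := (F.le_of_mem hφ).1
  have hXS : X ≤ S := hXY.trans hYS
  have hψ : φ.comp (Subgroup.inclusion hXY) ∈ F.Hom X := restrict_mem F hXY hφ
  obtain ⟨ψ, hψe⟩ : ∃ ψ : X →* Ω, ψ = φ.comp (Subgroup.inclusion hXY) := ⟨_, rfl⟩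
  rw [← hψe] at hψ
  have hψapp : ∀ x : X, ψ x = φ ⟨x, hXY x.2⟩ := fun x => by rw [hψe]; rfl
  obtain ⟨X', hX'⟩ : ∃ X', ψ.range = X' := ⟨_, rfl⟩
  have hinjφ := F.injective_of_mem hφ
  have hβ' : MulAut.congr (isoOfHom ψ (F.injective_of_mem hψ) hX') β ∈ F.autGroup X' :=
    congr_mem_autGroup F hψ hX' hβ
  obtain ⟨e, he⟩ : ∃ e : X ≃* X', e = isoOfHom ψ (F.injective_of_mem hψ) hX' := ⟨_, rfl⟩
  rw [← he] at hβ'
  have hecoe : ∀ x : X, ((e x : X') : Ω) = ψ x := fun x => by rw [he]; rfl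
  have hX'N : X' ≤ normalizerIn S U' := by
    rw [← hX']
    rintro _ ⟨x, rfl⟩
    rw [hψapp]
    exact hφN _
  have hX'S : X' ≤ S := hX'N.trans inf_le_left
  -- membership in `U` and `U'`
  have hmemU : ∀ x : X, ψ x ∈ U' ↔ (x : Ω) ∈ U := by
    intro x
    constructor
    · intro h
      rw [← hφU] at h
      obtain ⟨y, hy, hyx⟩ := h
      rw [hψapp] at hyx
      have := hinjφ hyx
      rw [this] at hy
      exact hy
    · intro h
      rw [← hφU, hψapp]
      exact ⟨⟨x, hXY x.2⟩, h, rfl⟩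
  have hβmem : ∀ x : X, (x : Ω) ∈ U → ((β x : X) : Ω) ∈ U := by
    intro x hx
    have h0 : autHom β x ∈ (U.subgroupOf X).map (autHom β) := ⟨x, hx, rfl⟩
    exact (show ∀ Z : Subgroup Ω, (U.subgroupOf X).map (autHom β) = Z → autHom β x ∈ Z from
      fun Z hZ => hZ ▸ h0) U hβU
  have hβsurj : ∀ u ∈ U, ∃ x : X, (x : Ω) ∈ U ∧ ((β x : X) : Ω) = u := by
    intro u hu
    have h0 : u ∈ (U.subgroupOf X).map (autHom β) :=
      (show ∀ Z : Subgroup Ω, (U.subgroupOf X).map (autHom β) = Z → u ∈ Z →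
        u ∈ (U.subgroupOf X).map (autHom β) from fun Z hZ h => hZ ▸ h) U hβU hu
    obtain ⟨x, hx, hxu⟩ := h0
    exact ⟨x, hx, hxu⟩
  have hU'X' : U' ≤ X' := by
    rw [← hφU, ← hX']
    rintro _ ⟨y, hy, rfl⟩
    exact ⟨⟨y, hUX hy⟩, hψapp _⟩
  have hcongr : ∀ z : X', (MulAut.congr e β) z = e (β (e.symm z)) := fun z => rfl
  have h1 : autHom (MulAut.congr e β) ∈ F.Hom X' := (mem_autGroup_iff F hX'S _).mp hβ'
  have h2 : autHom (MulAut.congr e β) ∈ F.normalizerHom U' X' := by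
    refine mem_normalizerHom_of_le F hU'X' h1 hX'N (fun z => hX'N ((MulAut.congr e β) z).2) ?_
    ext y
    constructor
    · rintro ⟨z, hz, rfl⟩
      show (((MulAut.congr e β) z : X') : Ω) ∈ U'
      rw [hcongr, hecoe, hmemU]
      apply hβmem
      rw [← hmemU, ← hecoe, MulEquiv.apply_symm_apply]
      exact hz
    · intro hy
      have hy' : y ∈ X' := hU'X' hy
      -- `y = ψ x` with `x ∈ U`
      obtain ⟨x, hx⟩ : ∃ x : X, ψ x = y := by
        rw [← hX'] at hy'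
        exact hy'
      have hxU : (x : Ω) ∈ U := by rw [← hmemU, hx]; exact hy
      obtain ⟨x₀, hx₀U, hx₀⟩ := hβsurj x hxU
      have hx₀' : β x₀ = x := Subtype.ext hx₀
      refine ⟨e x₀, ?_, ?_⟩
      · show ((e x₀ : X') : Ω) ∈ U'
        rw [hecoe, hmemU]
        exact hx₀U
      · show (((MulAut.congr e β) (e x₀) : X') : Ω) = y
        rw [hcongr, MulEquiv.symm_apply_apply, hx₀', hecoe, hx]
  obtain ⟨g, hg, hx⟩ := hU' X' _ h2
  obtain ⟨k, hk⟩ := exists_pow_eq_one_of_conj hS (MulAut.congr e β) hg.1 hx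
  refine ⟨k, ?_⟩
  rw [← congr_pow] at hk
  have hinj : Function.Injective (MulAut.congr e) := (MulAut.congr e).injective
  apply hinj
  rw [hk, map_one]

end Cfsg.Agent.Helper26.MasterRed
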