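import Mathlib
import Cfsg.Agent.Helper26.InnerAut
import Cfsg.Agent.Helper25.FusionFactorSat
import Cfsg.Agent.Helper25.FusionInduced
import Cfsg.Agent.Helper25.FusionNormal
import Cfsg.Agent.Helper25.FusionTransport
import Cfsg.Agent.Helper25.StabChain

set_option autoImplicit false

/-! Factor systems and inner systems: the normalizer systems of a factor system, and a system
whose factor system modulo a normal subgroup is inner is constrained. -/

namespace Cfsg.Agent.Helper26.MasterRed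

open Cfsg Cfsg.FusionSystem Cfsg.Agent.Helper25

section Basic

variable {Ω : Type*} [Group Ω] {S : Subgroup Ω}

/-- An injective map carrying a finite subgroup into itself carries it onto itself. -/
theorem map_eq_of_map_le {X U : Subgroup Ω} [Finite U] {ψ : X →* Ω} (hinj : Function.Injective ψ)
    (hle : (U.subgroupOf X).map ψ ≤ U) (hUX : U ≤ X) : (U.subgroupOf X).map ψ = U := by
  apply Subgroup.eq_of_le_of_card_ge hle
  have h1 : Nat.card ((U.subgroupOf X).map ψ) = Nat.card (U.subgroupOf X) :=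
    (Nat.card_congr ((U.subgroupOf X).equivMapOfInjective ψ hinj).toEquiv).symm
  have h2 : Nat.card (U.subgroupOf X) = Nat.card U :=
    Nat.card_congr (Subgroup.subgroupOfEquivOfLe hUX).toEquiv
  rw [h1, h2]

/-- A subgroup `C ⊴ S` whose induced automorphisms of a self-centralizing `P` are inner is
contained in `P`. -/
theorem le_of_autInducedBy_le_inn [Finite S] (p : ℕ) [Fact p.Prime] (hS : IsPGroup p S)
    {Q P : Subgroup Ω} (hQS : Q ≤ S)
    (hSN : S ≤ Subgroup.normalizer (Q : Set Ω)) (hPS : P ≤ S) (hC : centralizerIn S P ≤ P)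
    (hKI : autInducedBy Q P ≤ Inn P) : Q ≤ P := by
  have hmem : ∀ x ∈ Q, x ∈ Subgroup.normalizer (P : Set Ω) → x ∈ P := by
    intro x hxQ hxN
    refine mem_of_normalizerMonoidHom_mem_inn hPS hC ⟨x, hxN⟩ (hQS hxQ) (hKI ?_)
    rw [mem_autInducedBy_iff]
    exact ⟨x, hxQ, fun y => rfl⟩
  by_contra hcon
  have hsupS : P ⊔ Q ≤ S := sup_le hPS hQS
  have : Finite ↥(P ⊔ Q) := finite_of_le hsupS
  have hne : P ≠ P ⊔ Q := fun h => hcon (h ▸ le_sup_right)
  obtain ⟨g, hgN, hgP⟩ := exists_mem_normalizerIn_not_mem (S := P ⊔ Q) p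
    (isPGroup_of_le hS hsupS) le_sup_left hne
  have hg' : g ∈ ((P ⊔ Q : Subgroup Ω) : Set Ω) := hgN.1
  rw [Subgroup.coe_mul_of_left_le_normalizer_right P Q (hPS.trans hSN)] at hg'
  obtain ⟨a, ha, b, hb, rfl⟩ := hg'
  have haN : a ∈ Subgroup.normalizer (P : Set Ω) := Subgroup.le_normalizer ha
  have hbN : b ∈ Subgroup.normalizer (P : Set Ω) := by
    have := Subgroup.mul_mem _ (Subgroup.inv_mem _ haN) hgN.2
    rwa [inv_mul_cancel_left] at this
  exact hgP (P.mul_mem ha (hmem b hb hbN))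

/-- `F` is inner modulo `T`: every map whose source contains `T` agrees modulo `T` with
conjugation by an element of `S`. -/
def InnerMod (F : FusionSystem S) (T : Subgroup Ω) : Prop :=
  ∀ (P : Subgroup Ω), T ≤ P → ∀ φ : P →* Ω, φ ∈ F.Hom P →
    ∃ s ∈ S, ∀ x : P, φ x * (s * (x : Ω) * s⁻¹)⁻¹ ∈ T

/-- An automorphism fixing `T` pointwise, in a system that is inner modulo `T ⊴ S`, has
`p`-power order. -/
theorem exists_pow_eq_one_of_innerMod [Finite S] {p : ℕ} [Fact p.Prime] (hS : IsPGroup p S)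
    (F : FusionSystem S) {T B : Subgroup Ω} (hSN : S ≤ Subgroup.normalizer (T : Set Ω))
    (hTB : T ≤ B) (hBS : B ≤ S) (hmod : InnerMod F T) (α : MulAut B) (hα : α ∈ F.autGroup B)
    (hfix : ∀ x : B, (x : Ω) ∈ T → α x = x) : ∃ k : ℕ, α ^ (p ^ k) = 1 := by
  have h1 : autHom α ∈ F.Hom B := (mem_autGroup_iff F hBS α).mp hα
  obtain ⟨s, hs, hsx⟩ := hmod B hTB _ h1
  have hsx' : ∀ x : B, ((α x : B) : Ω) * (s * (x : Ω) * s⁻¹)⁻¹ ∈ T := hsx
  have hconjT : ∀ t ∈ T, s * t * s⁻¹ ∈ T := by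
    intro t ht
    exact ((Subgroup.mem_normalizer_iff.mp (hSN hs)) t).mp ht
  have key : ∀ (n : ℕ) (x : B), (((α ^ n) x : B) : Ω) * (s ^ n * (x : Ω) * (s ^ n)⁻¹)⁻¹ ∈ T := by
    intro n
    induction n with
    | zero => intro x; simp
    | succ n ih =>
      intro x
      rw [pow_succ', MulAut.mul_apply]
      have h2 := hsx' ((α ^ n) x)
      have h3 := hconjT _ (ih x)
      have e : ((α ((α ^ n) x) : B) : Ω) * (s ^ (n + 1) * (x : Ω) * (s ^ (n + 1))⁻¹)⁻¹ =
          (((α ((α ^ n) x) : B) : Ω) * (s * (((α ^ n) x : B) : Ω) * s⁻¹)⁻¹) *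
            (s * ((((α ^ n) x : B) : Ω) * (s ^ n * (x : Ω) * (s ^ n)⁻¹)⁻¹) * s⁻¹) := by
        rw [pow_succ']
        group
      rw [e]
      exact T.mul_mem h2 h3
  obtain ⟨a, ha⟩ := hS ⟨s, hs⟩
  have ha' : s ^ (p ^ a) = 1 := by
    have := congrArg (fun z : S => (z : Ω)) ha
    simpa using this
  have hγ : ∀ x : B, (((α ^ (p ^ a)) x : B) : Ω) * (x : Ω)⁻¹ ∈ T := by
    intro x
    have := key (p ^ a) x
    rw [ha'] at this
    simpa using this
  have hfixn : ∀ (n : ℕ) (x : B), (x : Ω) ∈ T → (α ^ n) x = x := by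
    intro n
    induction n with
    | zero => intro x _; simp
    | succ n ih =>
      intro x hx
      rw [pow_succ, MulAut.mul_apply, hfix x hx, ih x hx]
  -- the chain `1 ≤ T ≤ B`
  let N : ℕ → Subgroup B := fun i => match i with
    | 0 => ⊥
    | 1 => T.subgroupOf B
    | _ + 2 => ⊤
  have hN : Monotone N := by
    apply monotone_nat_of_le_succ
    intro i
    match i with
    | 0 => exact bot_le
    | 1 => exact le_top
    | _ + 2 => exact le_rfl
  have hstab : StabilizesChain N (α ^ (p ^ a)) := by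
    intro i x hx
    match i with
    | 0 =>
      have hx' : (x : Ω) ∈ T := hx
      show (α ^ (p ^ a)) x * x⁻¹ ∈ (⊥ : Subgroup B)
      rw [hfixn _ x hx', mul_inv_cancel]
      exact Subgroup.one_mem _
    | 1 =>
      show (α ^ (p ^ a)) x * x⁻¹ ∈ T.subgroupOf B
      exact hγ x
    | _ + 2 => exact Subgroup.mem_top _
  have hBfin : Finite B := finite_of_le hBS
  have hN2 : N 2 = ⊤ := rfl
  obtain ⟨k, hk⟩ := StabilizesChain.pow_eq_one (N := N) (m := 2) (isPGroup_of_le hS hBS)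
    (rfl : N 0 = ⊥) hN hN2 hstab
  refine ⟨a + k, ?_⟩
  rw [pow_add, pow_mul]
  exact hk

/-- The centralizer in `S` of a subgroup normalized by `S` is normalized by `S`. -/
theorem le_normalizer_centralizerIn {Q : Subgroup Ω} (hSN : S ≤ Subgroup.normalizer (Q : Set Ω)) :
    S ≤ Subgroup.normalizer ((centralizerIn S Q : Subgroup Ω) : Set Ω) := by
  have key : ∀ g ∈ S, ∀ x ∈ centralizerIn S Q, g * x * g⁻¹ ∈ centralizerIn S Q := by
    intro g hg x hx
    refine Subgroup.mem_inf.mpr ⟨S.mul_mem (S.mul_mem hg hx.1) (S.inv_mem hg), ?_⟩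
    rw [Subgroup.mem_centralizer_iff]
    intro q hq
    have hq' : g⁻¹ * q * g ∈ Q := by
      have := ((Subgroup.mem_normalizer_iff.mp (hSN (S.inv_mem hg))) q).mp hq
      simpa using this
    have h1 := (Subgroup.mem_centralizer_iff.mp hx.2) _ hq'
    have e1 : q * (g * x * g⁻¹) = g * ((g⁻¹ * q * g) * x) * g⁻¹ := by group
    have e2 : g * x * g⁻¹ * q = g * (x * (g⁻¹ * q * g)) * g⁻¹ := by group
    rw [e1, e2, h1]
  intro g hg
  rw [Subgroup.mem_normalizer_iff]
  intro x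
  constructor
  · exact key g hg x
  · intro hx
    have := key g⁻¹ (S.inv_mem hg) _ hx
    have e : g⁻¹ * (g * x * g⁻¹) * g⁻¹⁻¹ = x := by group
    rwa [e] at this

/-- A saturated system that is inner modulo a normal subgroup is constrained. -/
theorem isConstrained_of_innerMod [Finite S] (p : ℕ) [Fact p.Prime] (hS : IsPGroup p S)
    (F : FusionSystem S) (hF : F.IsSaturated p) {Q : Subgroup Ω} (hQ : F.IsNormal Q)
    (hmod : InnerMod F Q) : F.IsConstrained p := by
  have hQS : Q ≤ S := hQ.1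
  have hSN : S ≤ Subgroup.normalizer (Q : Set Ω) := le_normalizer_of_isNormal F hQ
  have hsc := stronglyClosed_of_isNormal F hQ
  have hCS : centralizerIn S Q ≤ S := inf_le_left
  have hSNC := le_normalizer_centralizerIn hSN
  -- automorphisms preserve `Q`
  have hQmap : ∀ (P : Subgroup Ω), P ≤ S → ∀ α : MulAut P, α ∈ F.autGroup P →
      ∀ x : P, (x : Ω) ∈ Q → ((α x : P) : Ω) ∈ Q := by
    intro P hPS α hα x hx
    have h1 := map_autGroup_eq_of_stronglyClosed F hsc hPS α hα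
    have h2 : α x ∈ (Q.subgroupOf P).map α.toMonoidHom := ⟨x, hx, rfl⟩
    rw [h1] at h2
    exact h2
  -- automorphisms preserve `C_S(Q)`
  have hCmap : ∀ (P : Subgroup Ω), P ≤ S → Q ≤ P → ∀ α : MulAut P, α ∈ F.autGroup P →
      ∀ x : P, (x : Ω) ∈ centralizerIn S Q → ((α x : P) : Ω) ∈ centralizerIn S Q := by
    intro P hPS hQP α hα x hx
    refine Subgroup.mem_inf.mpr ⟨hPS (α x).2, ?_⟩
    rw [Subgroup.mem_centralizer_iff]
    intro q hq
    have hq1 : ((α⁻¹ ⟨q, hQP hq⟩ : P) : Ω) ∈ Q :=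
      hQmap P hPS α⁻¹ ((F.autGroup P).inv_mem hα) ⟨q, hQP hq⟩ hq
    have h1 := (Subgroup.mem_centralizer_iff.mp hx.2) _ hq1
    have h2 : (α⁻¹ ⟨q, hQP hq⟩) * x = x * (α⁻¹ ⟨q, hQP hq⟩) := Subtype.ext h1
    have h3 := congrArg α h2
    rw [map_mul, map_mul, MulAut.apply_inv_self] at h3
    exact congrArg (fun z : P => (z : Ω)) h3
  -- `C_S(Q)` lies in every essential subgroup
  have hCB : ∀ B : Subgroup Ω, F.IsEssential p B → centralizerIn S Q ≤ B := by
    intro B hB
    have hQB : Q ≤ B := le_of_isNormal_of_isEssential p hS F hQ hB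
    have hBS : B ≤ S := hB.1.1
    have hCenB : centralizerIn S B ≤ B := hB.1.2 B (isConj_refl F hBS)
    let K : Subgroup (MulAut B) :=
      { carrier := {α | α ∈ F.autGroup B ∧ ∀ x : B, (x : Ω) ∈ Q → α x = x}
        one_mem' := ⟨(F.autGroup B).one_mem, fun x _ => rfl⟩
        mul_mem' := by
          rintro α β ⟨hα, hαf⟩ ⟨hβ, hβf⟩
          refine ⟨(F.autGroup B).mul_mem hα hβ, fun x hx => ?_⟩
          rw [MulAut.mul_apply, hβf x hx, hαf x hx]
        inv_mem' := by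
          rintro α ⟨hα, hαf⟩
          refine ⟨(F.autGroup B).inv_mem hα, fun x hx => ?_⟩
          have := hαf x hx
          rw [MulAut.inv_apply, MulEquiv.symm_apply_eq, this] }
    have hKA : K ≤ F.autGroup B := fun α hα => hα.1
    have hKp : IsPGroup p K := by
      rintro ⟨α, hα⟩
      obtain ⟨k, hk⟩ := exists_pow_eq_one_of_innerMod hS F hSN hQB hBS hmod α hα.1 hα.2
      exact ⟨k, Subtype.ext hk⟩
    have hKnorm : ∀ β ∈ F.autGroup B, ∀ k ∈ K, β * k * β⁻¹ ∈ K := by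
      intro β hβ k hk
      refine ⟨(F.autGroup B).mul_mem ((F.autGroup B).mul_mem hβ hk.1)
        ((F.autGroup B).inv_mem hβ), fun x hx => ?_⟩
      have h1 : ((β⁻¹ x : B) : Ω) ∈ Q := hQmap B hBS β⁻¹ ((F.autGroup B).inv_mem hβ) x hx
      rw [MulAut.mul_apply, MulAut.mul_apply, hk.2 _ h1, MulAut.apply_inv_self]
    have hKI : K ≤ Inn B := opAutLeInn_of_isEssential F p hB K hKA hKnorm hKp
    apply le_of_autInducedBy_le_inn p hS hCS hSNC hBS hCenB
    intro α hα
    apply hKI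
    rw [mem_autInducedBy_iff] at hα
    obtain ⟨g, hg, hgx⟩ := hα
    refine ⟨?_, fun x hx => ?_⟩
    · apply autInducedBy_le_autGroup F hBS
      rw [mem_autInducedBy_iff]
      exact ⟨g, hg.1, hgx⟩
    · apply Subtype.ext
      rw [hgx x]
      have := (Subgroup.mem_centralizer_iff.mp hg.2) _ hx
      rw [← this]
      group
  -- `Q C_S(Q)` is normal in `F`
  have hRn : F.IsNormal (Q ⊔ centralizerIn S Q) := by
    apply isNormal_of_alperin p hS F hF
    intro P hP
    have hPS : P ≤ S := by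
      rcases hP with rfl | hP
      · exact le_rfl
      · exact hP.1.1
    have hQP : Q ≤ P := by
      rcases hP with rfl | hP
      · exact hQS
      · exact le_of_isNormal_of_isEssential p hS F hQ hP
    have hCP : centralizerIn S Q ≤ P := by
      rcases hP with rfl | hP
      · exact hCS
      · exact hCB P hP
    refine ⟨sup_le hQP hCP, fun α hα => ?_⟩
    have hPfin : Finite P := finite_of_le hPS
    have hle : ((Q ⊔ centralizerIn S Q).subgroupOf P).map α.toMonoidHom ≤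
        (Q ⊔ centralizerIn S Q).subgroupOf P := by
      rw [Subgroup.subgroupOf_sup hQP hCP, Subgroup.map_sup]
      apply sup_le_sup
      · rintro _ ⟨x, hx, rfl⟩
        exact hQmap P hPS α hα x hx
      · rintro _ ⟨x, hx, rfl⟩
        exact hCmap P hPS hQP α hα x hx
    apply Subgroup.eq_of_le_of_card_ge hle
    exact (Nat.card_congr (((Q ⊔ centralizerIn S Q).subgroupOf P).equivMapOfInjective
      α.toMonoidHom α.injective).toEquiv).le
  refine ⟨hF, Q ⊔ centralizerIn S Q, hRn, hRn.1, fun R' hR' => ?_⟩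
  rw [eq_of_isConj_of_isNormal F hRn hR']
  intro x hx
  apply Subgroup.mem_sup_right
  refine Subgroup.mem_inf.mpr ⟨hx.1, ?_⟩
  rw [Subgroup.mem_centralizer_iff]
  intro q hq
  exact (Subgroup.mem_centralizer_iff.mp hx.2) q (Subgroup.mem_sup_left hq)

end Basic

section Factor

variable {Ω Ω' : Type*} [Group Ω] [Group Ω'] {S : Subgroup Ω} [Finite S] (F : FusionSystem S)
  {T : Subgroup Ω} (hT : F.StronglyClosed T)
  (θ : S →* Ω') (hker : ∀ s : S, θ s = 1 ↔ (s : Ω) ∈ T) {S' : Subgroup Ω'}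
  (hrange : θ.range = S') (E : FusionSystem S')
  (hiff : ∀ (P' : Subgroup Ω') (φ' : P' →* Ω'),
    φ' ∈ E.Hom P' ↔ P' ≤ S' ∧ ∃ φ ∈ F.Hom (preimageAlong θ P'), InducedAlong θ φ φ')

omit [Finite S] in
theorem preimageAlong_mono {P' R' : Subgroup Ω'} (h : P' ≤ R') :
    preimageAlong θ P' ≤ preimageAlong θ R' := by
  intro x hx
  obtain ⟨hxS, hx'⟩ := (mem_preimageAlong _ _ _).mp hx
  exact (mem_preimageAlong _ _ _).mpr ⟨hxS, h hx'⟩

include hrange hiff in
/-- If the normalizer system of the full preimage of `U'` is inner, so is the normalizer system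
of `U'` in the factor system. -/
theorem ninner_factor {U' : Subgroup Ω'}
    (hU'n : S' ≤ Subgroup.normalizer (U' : Set Ω'))
    (h : NInner F (preimageAlong θ U')) : NInner E U' := by
  intro P' φ' hφ'
  obtain ⟨hφ'E, hP'N, hval, ψ', hψ', hext, hmap⟩ := hφ'
  rw [hiff] at hψ'
  obtain ⟨hsup, ψ, hψ, hind⟩ := hψ'
  have hUX : preimageAlong θ U' ≤ preimageAlong θ (P' ⊔ U') := preimageAlong_mono θ le_sup_right
  have hXS : preimageAlong θ (P' ⊔ U') ≤ S := preimageAlong_le θ _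
  have hSNU : S ≤ Subgroup.normalizer ((preimageAlong θ U' : Subgroup Ω) : Set Ω) := by
    intro g hg
    apply mem_normalizer_preimageAlong θ U' ⟨g, hg⟩
    apply hU'n
    rw [← hrange]
    exact ⟨_, rfl⟩
  have hUfin : Finite (preimageAlong θ U') := finite_of_le (preimageAlong_le θ U')
  have hψS : ∀ x, ψ x ∈ S := (F.le_of_mem hψ).2
  have hψ'U : ∀ z : ↥(P' ⊔ U'), (z : Ω') ∈ U' → ψ' z ∈ U' := by
    intro z hz
    have h0 : ψ' z ∈ (U'.subgroupOf (P' ⊔ U')).map ψ' := ⟨z, hz, rfl⟩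
    exact (show ∀ Y : Subgroup Ω', (U'.subgroupOf (P' ⊔ U')).map ψ' = Y → ψ' z ∈ Y from
      fun Y hY => hY ▸ h0) U' hmap
  have hψN : ψ ∈ F.normalizerHom (preimageAlong θ U') (preimageAlong θ (P' ⊔ U')) := by
    refine mem_normalizerHom_of_le F hUX hψ (fun x hx => ⟨hXS hx, hSNU (hXS hx)⟩)
      (fun x => ⟨hψS x, hSNU (hψS x)⟩) ?_
    apply map_eq_of_map_le (F.injective_of_mem hψ) _ hUX
    rintro _ ⟨x, hx, rfl⟩
    obtain ⟨hxS, hx'⟩ := (mem_preimageAlong _ _ _).mp hx
    refine (mem_preimageAlong _ _ _).mpr ⟨hψS x, ?_⟩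
    have h1 := inducedAlong_apply θ hind x (hXS x.2) (preimageAlong_map_mem θ _ x) (hψS x)
    rw [← h1]
    exact hψ'U _ hx'
  obtain ⟨g, hg, hgx⟩ := h _ ψ hψN
  have hg'S : θ ⟨g, hg.1⟩ ∈ S' := by
    rw [← hrange]
    exact ⟨_, rfl⟩
  refine ⟨θ ⟨g, hg.1⟩, ⟨hg'S, hU'n hg'S⟩, fun y => ?_⟩
  rw [← hext y]
  obtain ⟨x, hx⟩ := exists_preimageAlong θ hrange hsup (Subgroup.inclusion le_sup_left y)
  have h1 := inducedAlong_apply θ hind x (hXS x.2) (preimageAlong_map_mem θ _ x) (hψS x)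
  have e1 : (⟨θ ⟨x, hXS x.2⟩, preimageAlong_map_mem θ _ x⟩ : ↥(P' ⊔ U')) =
      Subgroup.inclusion le_sup_left y := Subtype.ext hx
  rw [e1] at h1
  rw [h1]
  have e2 : (⟨ψ x, hψS x⟩ : S) = ⟨g, hg.1⟩ * ⟨x, hXS x.2⟩ * ⟨g, hg.1⟩⁻¹ := by
    apply Subtype.ext
    exact hgx x
  rw [e2, map_mul, map_mul, map_inv, hx]
  rfl

include hT hker hrange hiff in
/-- If the factor system modulo `T` is inner then the system is inner modulo `T`. -/
theorem innerMod_of_factor_inner (h : Inner E) : InnerMod F T := by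
  intro P hTP φ hφ
  have hPS : P ≤ S := (F.le_of_mem hφ).1
  have hpre : preimageAlong θ (imageAlong θ P) = P := by
    rw [preimageAlong_imageAlong θ hT.1 hker hPS]
    exact sup_eq_left.mpr hTP
  have hP'S : imageAlong θ P ≤ S' := by
    rw [← hrange]
    rintro _ ⟨x, -, rfl⟩
    exact ⟨x, rfl⟩
  obtain ⟨P', hP', hPe⟩ : ∃ P', P' ≤ S' ∧ P = preimageAlong θ P' := ⟨_, hP'S, hpre.symm⟩
  subst hPe
  obtain ⟨φ', hind⟩ := exists_inducedAlong F hT θ hker hrange hP' hφ
  have hφ'E : φ' ∈ E.Hom P' := (hiff P' φ').mpr ⟨hP', φ, hφ, hind⟩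
  obtain ⟨g', hg', hg'x⟩ := h P' φ' hφ'E
  rw [← hrange] at hg'
  obtain ⟨s, rfl⟩ := hg'
  refine ⟨s, s.2, fun x => ?_⟩
  have hφS : ∀ x, φ x ∈ S := (F.le_of_mem hφ).2
  have h1 := inducedAlong_apply θ hind x (preimageAlong_le θ P' x.2)
    (preimageAlong_map_mem θ P' x) (hφS x)
  rw [hg'x] at h1
  have h2 : θ (⟨φ x, hφS x⟩ * (s * ⟨x, preimageAlong_le θ P' x.2⟩ * s⁻¹)⁻¹) = 1 := by
    rw [map_mul, map_inv, map_mul, map_mul, map_inv, ← h1]
    exact mul_inv_cancel _
  exact (hker _).mp h2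

end Factor

end Cfsg.Agent.Helper26.MasterRed
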