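import Mathlib
import Cfsg.Agent.Helper26.InnerFactor
import Cfsg.Agent.Helper25.FusionTransport
import Cfsg.Agent.Helper14.PCore
import Cfsg.Agent.S0071

set_option autoImplicit false

/-! Realized fusion systems: inner normalizer systems give normal `p`-complements in the
normalizers, and a model with a normal `p`-complement is a `p`-group. -/

namespace Cfsg.Agent.Helper26.MasterRed

open Cfsg Cfsg.FusionSystem Cfsg.Agent.Helper25

/-- A finite group with a normal `p`-complement and `C_G(O_p(G)) ≤ O_p(G)` is a `p`-group. -/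
theorem isPGroup_of_npc {G : Type*} [Group G] [Finite G] {p : ℕ} [Fact p.Prime]
    (h : HasNormalPComplement p G)
    (hc : Subgroup.centralizer ((pCore p G : Subgroup G) : Set G) ≤ pCore p G) :
    IsPGroup p G := by
  obtain ⟨P, K, hKn, hcomp⟩ := h
  have hcard : Nat.card K = (P : Subgroup G).index := hcomp.index_eq_card.symm
  have hcop : (Nat.card K).Coprime (Nat.card (pCore p G)) := by
    obtain ⟨n, hn⟩ := IsPGroup.iff_card.mp (Cfsg.Agent.Helper14.pCore_isPGroup (G := G) p)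
    rw [hn, hcard]
    apply Nat.Coprime.pow_right
    exact (Nat.Coprime.symm ((Nat.Prime.coprime_iff_not_dvd Fact.out).mpr P.not_dvd_index))
  have hdis : Disjoint K (pCore p G) := Subgroup.disjoint_of_coprime_natCard hcop
  have hKc : K ≤ Subgroup.centralizer ((pCore p G : Subgroup G) : Set G) := by
    intro x hx
    rw [Subgroup.mem_centralizer_iff]
    intro y hy
    exact (Subgroup.commute_of_normal_of_disjoint K (pCore p G) hKn
      (Cfsg.Agent.Helper14.pCore_normal p) hdis x y hx hy).eq.symm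
  have hKbot : K = ⊥ := by
    rw [eq_bot_iff]
    intro x hx
    have h1 : x ∈ K ⊓ pCore p G := ⟨hx, hc (hKc hx)⟩
    rw [disjoint_iff] at hdis
    rw [hdis] at h1
    exact h1
  have h2 := hcomp.card_mul_card
  rw [hKbot, Subgroup.card_bot, one_mul] at h2
  have htop : (P : Subgroup G) = ⊤ := Subgroup.eq_top_of_card_eq _ h2
  have hP := P.2
  rw [htop] at hP
  exact hP.of_surjective (Subgroup.topEquiv (G := G)).toMonoidHom
    (Subgroup.topEquiv (G := G)).surjective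

/-- If conjugation by `g` (of order prime to `p`) agrees on `Q'` with conjugation by a `p`-element
`t`, then `g` centralizes `Q'`. -/
theorem conj_eq_self_of_coprime {G : Type*} [Group G] (Q' : Subgroup G) (g t : G) (n k p : ℕ)
    (hg : g ^ n = 1) (ht : t ^ (p ^ k) = 1) (hcop : n.Coprime p)
    (hmem : ∀ q ∈ Q', g * q * g⁻¹ ∈ Q') (heq : ∀ q ∈ Q', g * q * g⁻¹ = t * q * t⁻¹) :
    ∀ q ∈ Q', g * q * g⁻¹ = q := by
  have hiter : ∀ m : ℕ, ∀ q ∈ Q', g ^ m * q * (g ^ m)⁻¹ = t ^ m * q * (t ^ m)⁻¹ := by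
    intro m
    induction m with
    | zero => intro q _; simp
    | succ m ih =>
      intro q hq
      have e1 : g ^ (m + 1) * q * (g ^ (m + 1))⁻¹ = g ^ m * (g * q * g⁻¹) * (g ^ m)⁻¹ := by
        rw [pow_succ]; group
      have e2 : t ^ (m + 1) * q * (t ^ (m + 1))⁻¹ = t ^ m * (t * q * t⁻¹) * (t ^ m)⁻¹ := by
        rw [pow_succ]; group
      rw [e1, e2, ih _ (hmem q hq), heq q hq]
  have hn : ∀ q ∈ Q', Commute (t ^ n) q := by
    intro q hq
    have h1 := hiter n q hq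
    rw [hg] at h1
    have h2 : q = t ^ n * q * (t ^ n)⁻¹ := by simpa using h1
    show t ^ n * q = q * t ^ n
    calc t ^ n * q = t ^ n * q * (t ^ n)⁻¹ * t ^ n := by group
      _ = q * t ^ n := by rw [← h2]
  have hcop' : Nat.Coprime n (p ^ k) := Nat.Coprime.pow_right k hcop
  have hbez : (n : ℤ) * Nat.gcdA n (p ^ k) + ((p ^ k : ℕ) : ℤ) * Nat.gcdB n (p ^ k) = 1 := by
    have := Nat.gcd_eq_gcd_ab n (p ^ k)
    rw [hcop'] at this
    simpa using this.symm
  have ht' : t = (t ^ n) ^ (Nat.gcdA n (p ^ k)) := by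
    have h1 : t = t ^ ((n : ℤ) * Nat.gcdA n (p ^ k) + ((p ^ k : ℕ) : ℤ) * Nat.gcdB n (p ^ k)) := by
      rw [hbez, zpow_one]
    rw [zpow_add, zpow_mul, zpow_mul, zpow_natCast, zpow_natCast, ht, one_zpow, mul_one] at h1
    exact h1
  intro q hq
  rw [heq q hq]
  have hc : Commute t q := by
    rw [ht']
    exact (hn q hq).zpow_left _
  have : t * q = q * t := hc
  rw [this]
  group

section Real

variable {Ω : Type*} [Group Ω] {S : Subgroup Ω} {G : Type*} [Group G]

/-- A system realized by a surjective homomorphism is inner. -/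
theorem inner_of_realized_surjective (F : FusionSystem S) (ι : S →* G) (hreal : F.IsRealizedBy ι)
    (hsurj : Function.Surjective ι) : Inner F := by
  intro P φ hφ
  have hPS : P ≤ S := (F.le_of_mem hφ).1
  have hφS : ∀ x : P, φ x ∈ S := (F.le_of_mem hφ).2
  obtain ⟨g, hg⟩ := (hreal.2 P hPS φ hφS).mp hφ
  obtain ⟨s, rfl⟩ := hsurj g
  refine ⟨s, s.2, fun x => ?_⟩
  have h1 : ι ⟨φ x, hφS x⟩ = ι (s * ⟨x, hPS x.2⟩ * s⁻¹) := by
    rw [hg x, map_mul, map_mul, map_inv]
  exact congrArg (fun z : S => (z : Ω)) (hreal.1 h1)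

/-- The image of a subgroup normalized by `S` is normalized by the image of `S`. -/
theorem map_mem_normalizer_map (ι : S →* G) {W : Subgroup Ω}
    (hSN : S ≤ Subgroup.normalizer (W : Set Ω)) (s : S) :
    ι s ∈ Subgroup.normalizer ((((W.subgroupOf S).map ι : Subgroup G)) : Set G) := by
  have key : ∀ s : S, ∀ y ∈ (W.subgroupOf S).map ι, ι s * y * (ι s)⁻¹ ∈ (W.subgroupOf S).map ι := by
    rintro s _ ⟨w, hw, rfl⟩
    refine ⟨s * w * s⁻¹, ?_, by rw [map_mul, map_mul, map_inv]⟩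
    have h1 := ((Subgroup.mem_normalizer_iff.mp (hSN s.2)) (w : Ω)).mp hw
    exact h1
  rw [Subgroup.mem_normalizer_iff]
  intro y
  constructor
  · exact key s y
  · intro hy
    have := key s⁻¹ _ hy
    have e : ι s⁻¹ * (ι s * y * (ι s)⁻¹) * (ι s⁻¹)⁻¹ = y := by
      rw [map_inv]; group
    rwa [e] at this

/-- If the system realized by `ι` (with image a Sylow `p`-subgroup) has inner normalizer system at
`W ⊴ S`, then the normalizer of the image of `W` has a normal `p`-complement. -/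
theorem npc_normalizer_of_ninner [Finite S] [Finite G] {p : ℕ} [Fact p.Prime] (hS : IsPGroup p S)
    (F : FusionSystem S) (ι : S →* G) (hreal : F.IsRealizedBy ι) (T : Sylow p G)
    (hT : (T : Subgroup G) = ι.range) {W : Subgroup Ω} (hWS : W ≤ S)
    (hSN : S ≤ Subgroup.normalizer (W : Set Ω)) (hW : NInner F W) :
    HasNormalPComplement p
      ↥(Subgroup.normalizer ((((W.subgroupOf S).map ι : Subgroup G)) : Set G)) := by
  have hinj := hreal.1
  have hTH : (T : Subgroup G) ≤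
      Subgroup.normalizer ((((W.subgroupOf S).map ι : Subgroup G)) : Set G) := by
    rw [hT]
    rintro _ ⟨s, rfl⟩
    exact map_mem_normalizer_map ι hSN s
  have hWGle : (W.subgroupOf S).map ι ≤ ι.range := by
    rintro _ ⟨w, -, rfl⟩
    exact ⟨w, rfl⟩
  have hWfin : Finite W := finite_of_le hWS
  refine ⟨T.subtype hTH, ?_⟩
  apply (Cfsg.Agent.S0071.result (T.subtype hTH)).mpr
  intro Q hQ g hg hcop
  rw [Sylow.coe_subtype] at hQ
  -- the preimage of `Q` in `S`
  have hYS : preimageAlong ι (Q.map (Subgroup.subtype _)) ⊔ W ≤ S :=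
    sup_le (preimageAlong_le ι _) hWS
  have hgN : ∀ q ∈ Q, g * q * g⁻¹ ∈ Q := fun q hq =>
    ((Subgroup.mem_normalizer_iff.mp hg) q).mp hq
  have hgW : ∀ y ∈ (W.subgroupOf S).map ι, (g : G) * y * (g : G)⁻¹ ∈ (W.subgroupOf S).map ι :=
    fun y hy => ((Subgroup.mem_normalizer_iff.mp g.2) y).mp hy
  -- conjugation by `g` carries the image of `Y` into the image of `S`
  have hconj : ∀ y : ↥(preimageAlong ι (Q.map (Subgroup.subtype _)) ⊔ W),
      (g : G) * ι ⟨y, hYS y.2⟩ * (g : G)⁻¹ ∈ ι.range := by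
    have hle : preimageAlong ι (Q.map (Subgroup.subtype _)) ⊔ W ≤
        preimageAlong ι (ι.range.comap (MulAut.conj (g : G)).toMonoidHom) := by
      apply sup_le
      · intro x hx
        obtain ⟨hxS, q, hq, hqx⟩ := (mem_preimageAlong _ _ _).mp hx
        refine (mem_preimageAlong _ _ _).mpr ⟨hxS, ?_⟩
        show (g : G) * ι ⟨x, hxS⟩ * (g : G)⁻¹ ∈ ι.range
        rw [← hqx, ← hT]
        exact hQ (hgN q hq)
      · intro x hx
        refine (mem_preimageAlong _ _ _).mpr ⟨hWS hx, ?_⟩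
        show (g : G) * ι ⟨x, hWS hx⟩ * (g : G)⁻¹ ∈ ι.range
        exact hWGle (hgW _ ⟨⟨x, hWS hx⟩, hx, rfl⟩)
    intro y
    obtain ⟨_, h⟩ := (mem_preimageAlong _ _ _).mp (hle y.2)
    exact h
  obtain ⟨c, hc⟩ : ∃ c : ↥(preimageAlong ι (Q.map (Subgroup.subtype _)) ⊔ W) →* ι.range,
      ∀ y, ((c y : ι.range) : G) = (g : G) * ι ⟨y, hYS y.2⟩ * (g : G)⁻¹ :=
    ⟨((MulAut.conj (g : G)).toMonoidHom.comp (ι.comp (Subgroup.inclusion hYS))).codRestrict
      ι.range hconj, fun y => rfl⟩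
  have hφS : ∀ y, ((realInv ι hinj).comp c) y ∈ S := fun y => realInv_mem ι hinj (c y)
  have hφι : ∀ y, ι ⟨((realInv ι hinj).comp c) y, hφS y⟩ =
      (g : G) * ι ⟨y, hYS y.2⟩ * (g : G)⁻¹ := by
    intro y
    rw [← hc y]
    exact apply_realInv ι hinj (c y)
  have hφF : (realInv ι hinj).comp c ∈ F.Hom _ := (hreal.2 _ hYS _ hφS).mpr ⟨g, hφι⟩
  have hφN : (realInv ι hinj).comp c ∈ F.normalizerHom W _ := by
    refine mem_normalizerHom_of_le F le_sup_right hφF (fun x hx => ⟨hYS hx, hSN (hYS hx)⟩)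
      (fun y => ⟨hφS y, hSN (hφS y)⟩) ?_
    apply map_eq_of_map_le (F.injective_of_mem hφF) _ le_sup_right
    rintro _ ⟨y, hy, rfl⟩
    have h1 : ι ⟨((realInv ι hinj).comp c) y, hφS y⟩ ∈ (W.subgroupOf S).map ι := by
      rw [hφι y]
      exact hgW _ ⟨⟨y, hYS y.2⟩, hy, rfl⟩
    obtain ⟨w, hw, hwe⟩ := h1
    have h2 := hinj hwe
    rw [h2] at hw
    exact hw
  obtain ⟨s, hs, hsx⟩ := hW _ _ hφN
  -- `g` acts on `Q` as `ι s`
  have hkey : ∀ q ∈ Q.map (Subgroup.subtype _),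
      (g : G) * q * (g : G)⁻¹ = ι ⟨s, hs.1⟩ * q * (ι ⟨s, hs.1⟩)⁻¹ := by
    rintro _ ⟨q, hq, rfl⟩
    have hqT : ((q : _) : G) ∈ ι.range := by
      rw [← hT]
      exact hQ hq
    obtain ⟨x, hx⟩ := hqT
    have hxX : (x : Ω) ∈ preimageAlong ι (Q.map (Subgroup.subtype _)) := by
      refine (mem_preimageAlong _ _ _).mpr ⟨x.2, ?_⟩
      rw [Subtype.coe_eta, hx]
      exact ⟨q, hq, rfl⟩
    have h1 := hφι ⟨x, Subgroup.mem_sup_left hxX⟩
    have h2 := hsx ⟨x, Subgroup.mem_sup_left hxX⟩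
    have h3 : (⟨((realInv ι hinj).comp c) ⟨x, Subgroup.mem_sup_left hxX⟩, hφS _⟩ : S) =
        ⟨s, hs.1⟩ * x * ⟨s, hs.1⟩⁻¹ := Subtype.ext h2
    rw [h3, map_mul, map_mul, map_inv] at h1
    show (g : G) * (q : G) * (g : G)⁻¹ = ι ⟨s, hs.1⟩ * (q : G) * (ι ⟨s, hs.1⟩)⁻¹
    rw [← hx]
    exact h1.symm
  obtain ⟨k, hk⟩ := hS ⟨s, hs.1⟩
  have hk' : (ι ⟨s, hs.1⟩) ^ (p ^ k) = 1 := by rw [← map_pow, hk, map_one]
  have hgn : (g : G) ^ orderOf g = 1 := by
    have := pow_orderOf_eq_one g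
    have h2 : (g : G) ^ orderOf g = ((g ^ orderOf g : _) : G) := (SubmonoidClass.coe_pow g _).symm
    rw [h2, this]
    rfl
  have hmem' : ∀ q ∈ Q.map (Subgroup.subtype _), (g : G) * q * (g : G)⁻¹ ∈
      Q.map (Subgroup.subtype _) := by
    rintro _ ⟨q, hq, rfl⟩
    exact ⟨g * q * g⁻¹, hgN q hq, rfl⟩
  have hfix := conj_eq_self_of_coprime (Q.map (Subgroup.subtype _)) (g : G) (ι ⟨s, hs.1⟩)
    (orderOf g) k p hgn hk' hcop hmem' hkey
  rw [Subgroup.mem_centralizer_iff]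
  intro q hq
  apply Subtype.ext
  have h1 := hfix (q : G) ⟨q, hq, rfl⟩
  show (q : G) * (g : G) = (g : G) * (q : G)
  calc (q : G) * (g : G) = ((g : G) * (q : G) * (g : G)⁻¹) * (g : G) := by rw [h1]
    _ = (g : G) * (q : G) := by group

end Real

end Cfsg.Agent.Helper26.MasterRed
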