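import Mathlib
import Cfsg.Agent.Helper26.InnerAut
import Cfsg.Agent.Helper25.FusionKNormSys
import Cfsg.Agent.Helper25.FusionAlperin
import Cfsg.Agent.S5078
import Cfsg.Agent.S5079
import Cfsg.Agent.S5083

set_option autoImplicit false

/-! Inner normalizer systems inside the normalizer system of a subgroup with normalizer of
largest order among those with non-inner normalizer system. -/

namespace Cfsg.Agent.Helper26.MasterRed

open Cfsg Cfsg.FusionSystem Cfsg.Agent.Helper25

variable {Ω : Type*} [Group Ω] {S : Subgroup Ω}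

/-- Elements normalizing `R` normalize its characteristic subgroups. -/
theorem mem_normalizer_of_characteristic {R U : Subgroup Ω} (hUR : U ≤ R)
    (hUc : (U.subgroupOf R).Characteristic) {g : Ω}
    (hg : g ∈ Subgroup.normalizer (R : Set Ω)) : g ∈ Subgroup.normalizer (U : Set Ω) := by
  have key : ∀ n : Subgroup.normalizer (R : Set Ω), ∀ x ∈ U, (n : Ω) * x * (n : Ω)⁻¹ ∈ U := by
    intro n x hx
    have h1 := Subgroup.characteristic_iff_map_eq.mp hUc (R.normalizerMonoidHom n)
    have h2 : R.normalizerMonoidHom n ⟨x, hUR hx⟩ ∈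
        (U.subgroupOf R).map (R.normalizerMonoidHom n).toMonoidHom := ⟨_, hx, rfl⟩
    rw [h1] at h2
    exact h2
  rw [Subgroup.mem_normalizer_iff]
  intro x
  constructor
  · exact key ⟨g, hg⟩ x
  · intro hx
    have := key ⟨g, hg⟩⁻¹ _ hx
    have e : ((⟨g, hg⟩⁻¹ : Subgroup.normalizer (R : Set Ω)) : Ω) * (g * x * g⁻¹) *
        ((⟨g, hg⟩⁻¹ : Subgroup.normalizer (R : Set Ω)) : Ω)⁻¹ = x := by
      show g⁻¹ * (g * x * g⁻¹) * g⁻¹⁻¹ = x
      group
    rwa [e] at this

/-- Inside the normalizer system `E` of `Q`, the normalizer system of a subgroup `U ⊴ N_S(Q)` is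
inner as soon as `U` is carried, by a map of `F` defined on `N_S(U)`, to a subgroup with inner
normalizer system in `F`. -/
theorem ninner_normalizer_of_conj [Finite S] (p : ℕ) [Fact p.Prime] (hS : IsPGroup p S)
    (F : FusionSystem S) (hF : F.IsSaturated p) (Q : Subgroup Ω) (hQ : F.IsFullyNormalized Q)
    (E : FusionSystem (normalizerIn S Q)) (hE : F.IsNormalizerSystem Q E)
    {U : Subgroup Ω} (hUR : U ≤ normalizerIn S Q)
    (hRN : normalizerIn S Q ≤ Subgroup.normalizer (U : Set Ω))
    {U' : Subgroup Ω} {φ : ↥(normalizerIn S U) →* Ω} (hφ : φ ∈ F.Hom (normalizerIn S U))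
    (hφN : ∀ x, φ x ∈ normalizerIn S U')
    (hφU : (U.subgroupOf (normalizerIn S U)).map φ = U') (hU' : NInner F U') : NInner E U := by
  have hRS : normalizerIn S Q ≤ S := inf_le_left
  have hRfin : Finite (normalizerIn S Q) := finite_of_le hRS
  have hRp : IsPGroup p (normalizerIn S Q) := isPGroup_of_le hS hRS
  have hEsat : E.IsSaturated p := normalizerSystem_isSaturated p hS F hF Q hQ E hE
  have hUfn : E.IsFullyNormalized U := isFullyNormalized_of_normal E hUR hRN
  have hEU := normalizerSystem_isNormalizerSystem E U hUR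
  have hR1S : normalizerIn (normalizerIn S Q) U ≤ normalizerIn S Q := inf_le_left
  have hR1fin : Finite (normalizerIn (normalizerIn S Q) U) := finite_of_le hR1S
  have hR1p : IsPGroup p (normalizerIn (normalizerIn S Q) U) := isPGroup_of_le hRp hR1S
  have hEUsat : (normalizerSystem E U hUR).IsSaturated p :=
    normalizerSystem_isSaturated p hRp E hEsat U hUfn _ hEU
  have hRNU : normalizerIn S Q ≤ normalizerIn S U := fun x hx => ⟨hRS hx, hRN hx⟩
  have hUNU : U ≤ normalizerIn S U := hUR.trans hRNU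
  have hpg : ∀ P : Subgroup Ω, P ≤ normalizerIn (normalizerIn S Q) U →
      IsPGroup p ((normalizerSystem E U hUR).autGroup P) := by
    intro P hP
    rintro ⟨α, hα⟩
    have h1 : autHom α ∈ (normalizerSystem E U hUR).Hom P := (mem_autGroup_iff _ hP α).mp hα
    rw [hEU P] at h1
    obtain ⟨-, -, -, ψ, hψ, hext, hmap⟩ := h1
    rw [hE (P ⊔ U)] at hψ
    have hψF : ψ ∈ F.Hom (P ⊔ U) := hψ.1
    have hsupS : P ⊔ U ≤ S := (F.le_of_mem hψF).1
    have hr : ψ.range = P ⊔ U := by
      rw [range_sup_eq ψ, map_subgroupOf_eq_range ψ (autHom α) hext, hmap, autHom_range]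
    obtain ⟨β, hβe⟩ : ∃ β : MulAut ↥(P ⊔ U), β = isoOfHom ψ (F.injective_of_mem hψF) hr :=
      ⟨_, rfl⟩
    have hβψ : autHom β = ψ := by
      ext x
      rw [hβe]
      rfl
    have hβF : β ∈ F.autGroup (P ⊔ U) := by
      rw [mem_autGroup_iff F hsupS, hβψ]
      exact hψF
    have hβU : (U.subgroupOf (P ⊔ U)).map (autHom β) = U := by
      rw [hβψ]
      exact hmap
    have hXY : P ⊔ U ≤ normalizerIn S U := sup_le ((hP.trans hR1S).trans hRNU) hUNU
    obtain ⟨k, hk⟩ := exists_pow_eq_one_of_ninner_conj hS F (le_sup_right : U ≤ P ⊔ U) hXY hφ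
      hφU hφN hU' β hβF hβU
    refine ⟨k, Subtype.ext ?_⟩
    show α ^ (p ^ k) = 1
    apply pow_eq_one_of_extends (le_sup_left : P ≤ P ⊔ U) α β _ hk
    intro x
    apply Subtype.ext
    have h2 := hext x
    have h3 : ((β (Subgroup.inclusion le_sup_left x) : ↥(P ⊔ U)) : Ω) =
        ψ (Subgroup.inclusion le_sup_left x) := by
      rw [← hβψ]
      rfl
    rw [h3, h2]
    rfl
  have hinner := Cfsg.Agent.S5083.result p hR1p (normalizerSystem E U hUR) hEUsat hpg
  exact (ninner_iff E U _ hEU).mp (inner_of_eq _ hinner)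

/-- The normalizer system of a nontrivial characteristic subgroup of `N_S(Q) < S` inside `N_F(Q)`
is inner, if `N_F(Q')` is inner for all fully normalized `Q' ≠ 1` with `|N_S(Q')| > |N_S(Q)|`. -/
theorem ninner_of_char_of_max [Finite S] (p : ℕ) [Fact p.Prime] (hS : IsPGroup p S)
    (F : FusionSystem S) (hF : F.IsSaturated p) (Q : Subgroup Ω) (hQ : F.IsFullyNormalized Q)
    (E : FusionSystem (normalizerIn S Q)) (hE : F.IsNormalizerSystem Q E)
    (hmax : ∀ Q' : Subgroup Ω, F.IsFullyNormalized Q' → Q' ≠ ⊥ →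
      Nat.card (normalizerIn S Q) < Nat.card (normalizerIn S Q') → NInner F Q')
    (hne : normalizerIn S Q ≠ S)
    {U : Subgroup Ω} (hUR : U ≤ normalizerIn S Q) (hU1 : U ≠ ⊥)
    (hUc : (U.subgroupOf (normalizerIn S Q)).Characteristic) : NInner E U := by
  have hRS : normalizerIn S Q ≤ S := inf_le_left
  obtain ⟨g, hgN, hgR⟩ := exists_mem_normalizerIn_not_mem p hS hRS hne
  have hgU : g ∈ Subgroup.normalizer (U : Set Ω) := mem_normalizer_of_characteristic hUR hUc hgN.2
  have hRN : normalizerIn S Q ≤ Subgroup.normalizer (U : Set Ω) :=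
    fun x hx => mem_normalizer_of_characteristic hUR hUc (Subgroup.le_normalizer hx)
  have hRNU : normalizerIn S Q ≤ normalizerIn S U := fun x hx => ⟨hRS hx, hRN hx⟩
  have hUS : U ≤ S := hUR.trans hRS
  have hlt : Nat.card (normalizerIn S Q) < Nat.card (normalizerIn S U) := by
    have hfin : ((normalizerIn S U : Subgroup Ω) : Set Ω).Finite := by
      have : Finite (normalizerIn S U) := finite_of_le inf_le_left
      exact Set.toFinite _
    have hss : ((normalizerIn S Q : Subgroup Ω) : Set Ω) ⊂ ((normalizerIn S U : Subgroup Ω) : Set Ω) := by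
      refine ⟨hRNU, fun h => hgR (h ⟨hgN.1, hgU⟩)⟩
    exact hfin.card_lt_card hss
  obtain ⟨U', hconj, hFA, hRec⟩ := hF U hUS
  obtain ⟨φ, hφ, hφN, hφU⟩ := Cfsg.Agent.S5079.result p hS F U' U hFA hRec hconj
  have hU'fn : F.IsFullyNormalized U' :=
    isFullyNormalized_of_automized_receptive F p hS hFA (Cfsg.Agent.S5078.result F U' hRec)
  have hUNU : U ≤ normalizerIn S U := hUR.trans hRNU
  have hU'1 : U' ≠ ⊥ := by
    intro h
    apply hU1
    rw [h, Subgroup.map_eq_bot_iff_of_injective _ (F.injective_of_mem hφ)] at hφU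
    rw [eq_bot_iff]
    intro x hx
    have h1 : (⟨x, hUNU hx⟩ : ↥(normalizerIn S U)) ∈ U.subgroupOf (normalizerIn S U) := hx
    rw [hφU, Subgroup.mem_bot] at h1
    rw [Subgroup.mem_bot]
    exact congrArg (fun z : ↥(normalizerIn S U) => (z : Ω)) h1
  have hcard : Nat.card (normalizerIn S U) ≤ Nat.card (normalizerIn S U') :=
    hU'fn.2 U (isConj_symm F hconj)
  have hU'inner : NInner F U' := hmax U' hU'fn hU'1 (lt_of_lt_of_le hlt hcard)
  exact ninner_normalizer_of_conj p hS F hF Q hQ E hE hUR hRN hφ hφN hφU hU'inner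

end Cfsg.Agent.Helper26.MasterRed
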