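import Mathlib
import Cfsg.Agent.Helper26.InnerNorm
import Cfsg.Agent.Helper26.InnerFactor
import Cfsg.Agent.Helper25.FusionAlperin2

set_option autoImplicit false

/-! The reduction theorem: a local criterion for a saturated fusion system to be inner that holds
for constrained systems holds for all saturated systems. -/

namespace Cfsg.Agent.Helper26.MasterRed

open Cfsg Cfsg.FusionSystem Cfsg.Agent.Helper25

universe u

/-- The hypotheses of the reduction theorem, for a "freeness" predicate `Fr` (inherited by the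
normalizer systems of fully normalized subgroups and by factor systems modulo normal subgroups) and
a local predicate `H₀`. -/
structure RedHyp (p : ℕ) [Fact p.Prime]
    (Fr H₀ : ∀ (Ω : Type u) [Group Ω] (S : Subgroup Ω), FusionSystem S → Prop) : Prop where
  fr_norm : ∀ (Ω : Type u) [Group Ω] (S : Subgroup Ω) [Finite S], IsPGroup p S →
    ∀ (F : FusionSystem S), F.IsSaturated p → ∀ (Q : Subgroup Ω) (hQ : F.IsFullyNormalized Q),
      Fr Ω S F → Fr Ω (normalizerIn S Q) (normalizerSystem F Q hQ.1)
  fr_factor : ∀ (Ω : Type u) [Group Ω] (S : Subgroup Ω) [Finite S], IsPGroup p S →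
    ∀ (F : FusionSystem S), F.IsSaturated p → ∀ (Q : Subgroup Ω), F.IsNormal Q →
      ∀ (Ω' : Type u) [Group Ω'] (S' : Subgroup Ω') (θ : S →* Ω') (F' : FusionSystem S'),
        F.IsFactorSystem Q θ F' → Fr Ω S F → Fr Ω' S' F'
  h0_norm : ∀ (Ω : Type u) [Group Ω] (S : Subgroup Ω) [Finite S], IsPGroup p S →
    ∀ (F : FusionSystem S), F.IsSaturated p → ∀ (U : Subgroup Ω) (hU : U ≤ S),
      S ≤ Subgroup.normalizer (U : Set Ω) → Fr Ω S F → H₀ Ω S F →
        H₀ Ω (normalizerIn S U) (normalizerSystem F U hU)
  h0_char : ∀ (Ω : Type u) [Group Ω] (S : Subgroup Ω) [Finite S], IsPGroup p S →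
    ∀ (F : FusionSystem S), F.IsSaturated p → S ≠ ⊥ → Fr Ω S F →
      (∀ U : Subgroup Ω, U ≤ S → U ≠ ⊥ → (U.subgroupOf S).Characteristic → NInner F U) →
        H₀ Ω S F
  constrained : ∀ (Ω : Type u) [Group Ω] (S : Subgroup Ω) [Finite S], IsPGroup p S →
    ∀ (F : FusionSystem S), F.IsConstrained p → Fr Ω S F → H₀ Ω S F → Inner F

variable {p : ℕ} [Fact p.Prime]
  {Fr H₀ : ∀ (Ω : Type u) [Group Ω] (S : Subgroup Ω), FusionSystem S → Prop}

theorem card_lt_of_lt {Ω : Type*} [Group Ω] {A B : Subgroup Ω} [Finite B] (hle : A ≤ B)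
    (hne : A ≠ B) : Nat.card A < Nat.card B := by
  have hfin : ((B : Subgroup Ω) : Set Ω).Finite := Set.toFinite _
  have hss : ((A : Subgroup Ω) : Set Ω) ⊂ ((B : Subgroup Ω) : Set Ω) := by
    refine ⟨hle, fun h => hne (le_antisymm hle h)⟩
  exact hfin.card_lt_card hss

theorem card_le_of_le {Ω : Type*} [Group Ω] {A B : Subgroup Ω} [Finite B] (hle : A ≤ B) :
    Nat.card A ≤ Nat.card B :=
  Nat.card_le_card_of_injective (Subgroup.inclusion hle) (Subgroup.inclusion_injective _)

theorem one_lt_card_of_ne_bot {Ω : Type*} [Group Ω] {A : Subgroup Ω} [Finite A] (h : A ≠ ⊥) :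
    1 < Nat.card A := by
  rw [Finite.one_lt_card_iff_nontrivial]
  exact (Subgroup.nontrivial_iff_ne_bot A).mpr h

/-- The case of a system with a nontrivial normal subgroup. -/
theorem claimB (hH : RedHyp p Fr H₀) (n : ℕ)
    (IH : ∀ m < n, ∀ (Ω : Type u) [Group Ω] (S : Subgroup Ω) [Finite S], Nat.card S = m →
      IsPGroup p S → ∀ F : FusionSystem S, F.IsSaturated p → Fr Ω S F → H₀ Ω S F → Inner F) :
    ∀ (k : ℕ) (Ω : Type u) [Group Ω] (S : Subgroup Ω) [Finite S], Nat.card S = n → IsPGroup p S →
      ∀ F : FusionSystem S, F.IsSaturated p → Fr Ω S F → H₀ Ω S F →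
      ∀ Q : Subgroup Ω, F.IsNormal Q → Q ≠ ⊥ → Nat.card Q + k = n → Inner F := by
  intro k
  induction k using Nat.strong_induction_on with
  | _ k ihk =>
  intro Ω _ S _ hcard hS F hF hFr hH0 Q hQ hQ1 hk
  have hQS : Q ≤ S := hQ.1
  have hSN : S ≤ Subgroup.normalizer (Q : Set Ω) := le_normalizer_of_isNormal F hQ
  have hsc := stronglyClosed_of_isNormal F hQ
  have hQn : (Q.subgroupOf S).Normal := Subgroup.normal_subgroupOf_of_le_normalizer hSN
  have hQfin : Finite Q := finite_of_le hQS
  have hker : ∀ s : S, QuotientGroup.mk' (Q.subgroupOf S) s = 1 ↔ (s : Ω) ∈ Q := by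
    intro s
    rw [QuotientGroup.mk'_apply, QuotientGroup.eq_one_iff]
    rfl
  have hrange : (QuotientGroup.mk' (Q.subgroupOf S)).range = ⊤ :=
    MonoidHom.range_eq_top.mpr (QuotientGroup.mk'_surjective _)
  have hfs := factorSystem_isFactorSystem F hsc (QuotientGroup.mk' (Q.subgroupOf S)) hker hrange
  obtain ⟨F', hF'e⟩ : ∃ F' : FusionSystem (⊤ : Subgroup (↥S ⧸ Q.subgroupOf S)),
      F' = factorSystem F hsc (QuotientGroup.mk' (Q.subgroupOf S)) hker hrange := ⟨_, rfl⟩
  rw [← hF'e] at hfs
  have hiff := hfs.2.2.2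
  have hS' : IsPGroup p ↥(⊤ : Subgroup (↥S ⧸ Q.subgroupOf S)) :=
    (hS.to_quotient (Q.subgroupOf S)).to_subgroup ⊤
  have hF'sat : F'.IsSaturated p :=
    factor_isSaturated F hsc (QuotientGroup.mk' (Q.subgroupOf S)) hker hrange F' hiff p hS hF
  have hFr' : Fr _ _ F' := hH.fr_factor Ω S hS F hF Q hQ _ _ _ F' hfs hFr
  -- the order of the quotient
  have hcard' : Nat.card ↥(⊤ : Subgroup (↥S ⧸ Q.subgroupOf S)) * Nat.card Q = n := by
    rw [Nat.card_congr (Subgroup.topEquiv (G := ↥S ⧸ Q.subgroupOf S)).toEquiv, ← hcard,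
      Subgroup.card_eq_card_quotient_mul_card_subgroup (Q.subgroupOf S),
      Nat.card_congr (Subgroup.subgroupOfEquivOfLe hQS).toEquiv]
  have hQ1' : 1 < Nat.card Q := one_lt_card_of_ne_bot hQ1
  have hnpos : 0 < n := by rw [← hcard]; exact Nat.card_pos
  have hlt' : Nat.card ↥(⊤ : Subgroup (↥S ⧸ Q.subgroupOf S)) < n := by
    have hpos : 0 < Nat.card ↥(⊤ : Subgroup (↥S ⧸ Q.subgroupOf S)) := Nat.card_pos
    nlinarith
  -- the factor system is inner
  have hinner' : Inner F' := by
    by_cases h1 : Nat.card ↥(⊤ : Subgroup (↥S ⧸ Q.subgroupOf S)) = 1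
    · exact inner_of_card_eq_one F' h1
    · have htop : (⊤ : Subgroup (↥S ⧸ Q.subgroupOf S)) ≠ ⊥ := by
        intro h
        apply h1
        rw [h]
        exact Subgroup.card_bot
      have hH0' : H₀ _ _ F' := by
        apply hH.h0_char _ _ hS' F' hF'sat htop hFr'
        intro U' hU' hU'1 hU'c
        have hU'n : (⊤ : Subgroup (↥S ⧸ Q.subgroupOf S)) ≤
            Subgroup.normalizer (U' : Set (↥S ⧸ Q.subgroupOf S)) := by
          intro g _
          apply mem_normalizer_of_characteristic hU' hU'c
          rw [Subgroup.normalizer_eq_top]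
          exact Subgroup.mem_top g
        apply ninner_factor F (QuotientGroup.mk' (Q.subgroupOf S)) hrange F' hiff hU'n
        -- the normalizer system of the preimage
        have hUS : preimageAlong (QuotientGroup.mk' (Q.subgroupOf S)) U' ≤ S :=
          preimageAlong_le _ _
        have hSNU : S ≤ Subgroup.normalizer
            ((preimageAlong (QuotientGroup.mk' (Q.subgroupOf S)) U' : Subgroup Ω) : Set Ω) := by
          intro g hg
          apply mem_normalizer_preimageAlong (QuotientGroup.mk' (Q.subgroupOf S)) U' ⟨g, hg⟩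
          exact hU'n (Subgroup.mem_top _)
        have hQU : Q ≤ preimageAlong (QuotientGroup.mk' (Q.subgroupOf S)) U' :=
          ker_le_preimageAlong _ hQS hker U'
        have hUfin : Finite (preimageAlong (QuotientGroup.mk' (Q.subgroupOf S)) U') :=
          finite_of_le hUS
        have hQU' : Q ≠ preimageAlong (QuotientGroup.mk' (Q.subgroupOf S)) U' := by
          intro h
          apply hU'1
          rw [eq_bot_iff]
          intro y hy
          obtain ⟨x, hx⟩ := QuotientGroup.mk'_surjective (Q.subgroupOf S) y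
          have hxU : (x : Ω) ∈ preimageAlong (QuotientGroup.mk' (Q.subgroupOf S)) U' := by
            rw [mem_preimageAlong]
            exact ⟨x.2, by rw [Subtype.coe_eta, hx]; exact hy⟩
          rw [← h] at hxU
          rw [Subgroup.mem_bot, ← hx]
          exact (hker x).mpr hxU
        have hcardU := card_lt_of_lt hQU hQU'
        have hcardU' : Nat.card (preimageAlong (QuotientGroup.mk' (Q.subgroupOf S)) U') ≤ n := by
          rw [← hcard]
          exact card_le_of_le hUS
        have hU1 : preimageAlong (QuotientGroup.mk' (Q.subgroupOf S)) U' ≠ ⊥ := by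
          intro h
          apply hQ1
          rw [eq_bot_iff, ← h]
          exact hQU
        have hUfn := isFullyNormalized_of_normal F hUS hSNU
        have hE := normalizerSystem_isNormalizerSystem F _ hUS
        have hNS : normalizerIn S (preimageAlong (QuotientGroup.mk' (Q.subgroupOf S)) U') = S :=
          le_antisymm inf_le_left (fun x hx => ⟨hx, hSNU hx⟩)
        have hNfin : Finite (normalizerIn S
            (preimageAlong (QuotientGroup.mk' (Q.subgroupOf S)) U')) := finite_of_le inf_le_left
        have hNp : IsPGroup p (normalizerIn S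
            (preimageAlong (QuotientGroup.mk' (Q.subgroupOf S)) U')) :=
          isPGroup_of_le hS inf_le_left
        have hNcard : Nat.card (normalizerIn S
            (preimageAlong (QuotientGroup.mk' (Q.subgroupOf S)) U')) = n := by
          rw [hNS]
          exact hcard
        have hEsat := normalizerSystem_isSaturated p hS F hF _ hUfn _ hE
        have hEFr := hH.fr_norm Ω S hS F hF _ hUfn hFr
        have hEH0 := hH.h0_norm Ω S hS F hF _ hUS hSNU hFr hH0
        have hEn := normalizerSystem_isNormal F hUS _ hE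
        have hEinner : Inner (normalizerSystem F
            (preimageAlong (QuotientGroup.mk' (Q.subgroupOf S)) U') hUS) :=
          ihk (n - Nat.card (preimageAlong (QuotientGroup.mk' (Q.subgroupOf S)) U')) (by omega)
            Ω _ hNcard hNp _ hEsat hEFr hEH0 _ hEn hU1 (by omega)
        exact (ninner_iff F _ _ hE).mp hEinner
      exact IH _ hlt' _ _ rfl hS' F' hF'sat hFr' hH0'
  have hmod : InnerMod F Q :=
    innerMod_of_factor_inner F hsc (QuotientGroup.mk' (Q.subgroupOf S)) hker hrange F' hiff hinner'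
  have hcon : F.IsConstrained p := isConstrained_of_innerMod p hS F hF hQ hmod
  exact hH.constrained Ω S hS F hcon hFr hH0

/-- **Reduction theorem.** Under the hypotheses `RedHyp`, every saturated system satisfying the
freeness predicate and the local predicate is inner. -/
theorem master (hH : RedHyp p Fr H₀) :
    ∀ (n : ℕ) (Ω : Type u) [Group Ω] (S : Subgroup Ω) [Finite S], Nat.card S = n →
      IsPGroup p S → ∀ F : FusionSystem S, F.IsSaturated p → Fr Ω S F → H₀ Ω S F → Inner F := by
  intro n
  induction n using Nat.strong_induction_on with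
  | _ n IH =>
  intro Ω _ S _ hcard hS F hF hFr hH0
  by_cases hN : ∀ Q : Subgroup Ω, F.IsFullyNormalized Q → Q ≠ ⊥ → NInner F Q
  · -- all automizers are `p`-groups
    apply inner_of_eq
    apply Cfsg.Agent.S5083.result p hS F hF
    intro P hP
    have hPfin : Finite P := finite_of_le hP
    obtain ⟨P', hconj, hfn⟩ := exists_isConj_fullyNormalized F hP
    have hP'fin : Finite P' := finite_of_le hfn.1
    by_cases hP1 : P = ⊥
    · subst hP1
      have hsub : Subsingleton (MulAut ↥(⊥ : Subgroup Ω)) :=
        ⟨fun a b => by ext x; exact congrArg Subtype.val (Subsingleton.elim (a x) (b x))⟩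
      intro g
      exact ⟨0, Subsingleton.elim _ _⟩
    · have hP'1 : P' ≠ ⊥ := by
        intro h
        apply hP1
        have h1 := card_eq_of_isConj F hconj
        rw [h, Subgroup.card_bot] at h1
        exact Subgroup.card_eq_one.mp h1
      have h1 : IsPGroup p (F.autGroup P') := (hN P' hfn hP'1).autGroup_isPGroup hS hfn.1
      have h2 := card_autGroup_eq_of_isConj F hconj
      rw [IsPGroup.iff_card] at h1 ⊢
      obtain ⟨m, hm⟩ := h1
      exact ⟨m, h2.trans hm⟩
  · exfalso
    have hN' : ∃ Q : Subgroup Ω, F.IsFullyNormalized Q ∧ Q ≠ ⊥ ∧ ¬ NInner F Q := by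
      by_contra hc
      apply hN
      intro Q h1 h2
      by_contra h3
      exact hc ⟨Q, h1, h2, h3⟩
    -- choose `Q` with `|N_S(Q)|` as large as possible
    let T : Set ℕ := {m | ∃ Q : Subgroup Ω, F.IsFullyNormalized Q ∧ Q ≠ ⊥ ∧ ¬ NInner F Q ∧
      Nat.card (normalizerIn S Q) = m}
    have hTne : T.Nonempty := by
      obtain ⟨Q, h1, h2, h3⟩ := hN'
      exact ⟨_, Q, h1, h2, h3, rfl⟩
    have hbdd : BddAbove T := by
      refine ⟨Nat.card S, ?_⟩
      rintro m ⟨Q, -, -, -, rfl⟩
      exact card_le_of_le inf_le_left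
    obtain ⟨Q, hQfn, hQ1, hQni, hQc⟩ := Nat.sSup_mem hTne hbdd
    have hmax : ∀ Q' : Subgroup Ω, F.IsFullyNormalized Q' → Q' ≠ ⊥ →
        Nat.card (normalizerIn S Q) < Nat.card (normalizerIn S Q') → NInner F Q' := by
      intro Q' h1 h2 h3
      by_contra h4
      have h5 : Nat.card (normalizerIn S Q') ≤ sSup T := le_csSup hbdd ⟨Q', h1, h2, h4, rfl⟩
      omega
    have hRS : normalizerIn S Q ≤ S := inf_le_left
    have hRfin : Finite (normalizerIn S Q) := finite_of_le hRS
    have hRp : IsPGroup p (normalizerIn S Q) := isPGroup_of_le hS hRS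
    have hE := normalizerSystem_isNormalizerSystem F Q hQfn.1
    have hEsat := normalizerSystem_isSaturated p hS F hF Q hQfn _ hE
    have hEFr := hH.fr_norm Ω S hS F hF Q hQfn hFr
    have hQR : Q ≤ normalizerIn S Q := fun x hx => ⟨hQfn.1 hx, Subgroup.le_normalizer hx⟩
    have hQfin : Finite Q := finite_of_le hQfn.1
    apply hQni
    apply (ninner_iff F Q _ hE).mp
    by_cases hRe : normalizerIn S Q = S
    · have hSN : S ≤ Subgroup.normalizer (Q : Set Ω) := by
        intro x hx
        rw [← hRe] at hx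
        exact hx.2
      have hEH0 := hH.h0_norm Ω S hS F hF Q hQfn.1 hSN hFr hH0
      have hEn := normalizerSystem_isNormal F hQfn.1 _ hE
      have hRcard : Nat.card (normalizerIn S Q) = n := by
        rw [hRe]
        exact hcard
      have hQle : Nat.card Q ≤ n := by
        rw [← hcard]
        exact card_le_of_le hQfn.1
      exact claimB hH n IH (n - Nat.card Q) Ω _ hRcard hRp _ hEsat hEFr hEH0 Q hEn hQ1 (by omega)
    · have hlt : Nat.card (normalizerIn S Q) < n := by
        rw [← hcard]
        exact card_lt_of_lt hRS hRe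
      have hRne : normalizerIn S Q ≠ ⊥ := by
        intro h
        apply hQ1
        rw [eq_bot_iff, ← h]
        exact hQR
      have hEH0 : H₀ Ω _ (normalizerSystem F Q hQfn.1) := by
        apply hH.h0_char Ω _ hRp _ hEsat hRne hEFr
        intro U hUR hU1 hUc
        exact ninner_of_char_of_max p hS F hF Q hQfn _ hE hmax hRe hUR hU1 hUc
      exact IH _ hlt Ω _ rfl hRp _ hEsat hEFr hEH0

end Cfsg.Agent.Helper26.MasterRed
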