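import Mathlib
import Cfsg.Agent.Helper25.FusionLift
import Cfsg.Agent.Helper25.FusionHyperfocal
import Cfsg.Agent.Helper10.PResidual

set_option autoImplicit false

/-! Lifting `p'`-automorphisms modulo a strongly closed subgroup, and restriction of automorphisms to a
strongly closed subgroup. -/

namespace Cfsg.Agent.Helper26

open Cfsg Cfsg.FusionSystem Cfsg.Agent.Helper25

variable {Ω : Type*} [Group Ω] {S : Subgroup Ω}

/-- `ψ` (an automorphism of `P ⊔ T`) lifts `α` (an automorphism of `P`) modulo `T`. -/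
def LiftsAut (T : Subgroup Ω) {P : Subgroup Ω} (α : MulAut P) (ψ : MulAut ↥(P ⊔ T)) : Prop :=
  ∀ x : P, ((α x : P) : Ω)⁻¹ * ((ψ (Subgroup.inclusion le_sup_left x) : ↥(P ⊔ T)) : Ω) ∈ T

theorem liftsAut_one (T : Subgroup Ω) {P : Subgroup Ω} :
    LiftsAut T (1 : MulAut P) (1 : MulAut ↥(P ⊔ T)) := by
  intro x
  simp

theorem liftsAut_mul {T P : Subgroup Ω} {α₁ α₂ : MulAut P} {ψ₁ ψ₂ : MulAut ↥(P ⊔ T)}
    (hT : ∀ y : ↥(P ⊔ T), (y : Ω) ∈ T → ((ψ₁ y : ↥(P ⊔ T)) : Ω) ∈ T)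
    (h₁ : LiftsAut T α₁ ψ₁) (h₂ : LiftsAut T α₂ ψ₂) : LiftsAut T (α₁ * α₂) (ψ₁ * ψ₂) := by
  intro x
  have ht₂T : ((α₂ x : P) : Ω)⁻¹ * ((ψ₂ (Subgroup.inclusion le_sup_left x) : ↥(P ⊔ T)) : Ω) ∈ T :=
    h₂ x
  let τ : ↥(P ⊔ T) :=
    ⟨((α₂ x : P) : Ω)⁻¹ * ((ψ₂ (Subgroup.inclusion le_sup_left x) : ↥(P ⊔ T)) : Ω),
      Subgroup.mem_sup_right ht₂T⟩
  have e1 : ψ₂ (Subgroup.inclusion le_sup_left x) = Subgroup.inclusion le_sup_left (α₂ x) * τ := by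
    apply Subtype.ext
    simp [τ]
  have e2 : (((α₁ * α₂) x : P) : Ω)⁻¹ *
      (((ψ₁ * ψ₂) (Subgroup.inclusion le_sup_left x) : ↥(P ⊔ T)) : Ω) =
      (((α₁ (α₂ x) : P) : Ω)⁻¹ *
        ((ψ₁ (Subgroup.inclusion le_sup_left (α₂ x)) : ↥(P ⊔ T)) : Ω)) *
        ((ψ₁ τ : ↥(P ⊔ T)) : Ω) := by
    rw [MulAut.mul_apply, MulAut.mul_apply, e1, map_mul, Subgroup.coe_mul, mul_assoc]
  rw [e2]
  exact T.mul_mem (h₁ (α₂ x)) (hT τ ht₂T)

theorem liftsAut_pow {T P : Subgroup Ω} {α : MulAut P} {ψ : MulAut ↥(P ⊔ T)}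
    (hT : ∀ y : ↥(P ⊔ T), (y : Ω) ∈ T → ((ψ y : ↥(P ⊔ T)) : Ω) ∈ T)
    (h : LiftsAut T α ψ) (n : ℕ) : LiftsAut T (α ^ n) (ψ ^ n) := by
  induction n with
  | zero =>
    rw [pow_zero, pow_zero]
    exact liftsAut_one T
  | succ n ih =>
    rw [pow_succ', pow_succ']
    exact liftsAut_mul hT h ih

/-- In a saturated system, every automorphism lifts modulo a strongly closed subgroup. -/
theorem exists_liftsAut [Finite S] (p : ℕ) [Fact p.Prime] (hS : IsPGroup p S) (F : FusionSystem S)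
    (hF : F.IsSaturated p) {T : Subgroup Ω} (hT : F.StronglyClosed T) {P : Subgroup Ω} (hP : P ≤ S)
    (α : MulAut P) (hα : α ∈ F.autGroup P) :
    ∃ ψ ∈ F.autGroup (P ⊔ T), LiftsAut T α ψ := by
  have hαF : autHom α ∈ F.Hom P := (mem_autGroup_iff F hP α).mp hα
  obtain ⟨-, ψ, hψ, hl⟩ := le_liftSystem p hS F hF hT P hαF
  have hr : ψ.range = P ⊔ T := by
    rw [liftsMod_range F hT hψ hl, autHom_range]
  have hinj := F.injective_of_mem hψ
  refine ⟨isoOfHom ψ hinj hr, ?_, ?_⟩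
  · rw [mem_autGroup_iff F (sup_le hP hT.1)]
    have : autHom (isoOfHom ψ hinj hr) = ψ := by
      ext x
      rfl
    rw [this]
    exact hψ
  · intro x
    exact hl x

/-- the `p'`-part trick: a power of `ψ` of order prime to `p` that does not move `α` -/
theorem exists_pow_coprime_order {X A : Type*} [Group X] [Group A] [Finite X] (p : ℕ)
    [hp : Fact p.Prime] (ψ : X) (α : A) (hα : (orderOf α).Coprime p) :
    ∃ j : ℕ, (orderOf (ψ ^ j)).Coprime p ∧ α ^ j = α := by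
  have hn : orderOf ψ ≠ 0 := (orderOf_pos ψ).ne'
  have hm : 0 < orderOf α := by
    rcases Nat.eq_zero_or_pos (orderOf α) with h | h
    · rw [h, Nat.coprime_zero_left] at hα
      exact absurd hα hp.out.one_lt.ne'
    · exact h
  set q := p ^ (orderOf ψ).factorization p with hq
  set n' := orderOf ψ / q with hn'
  have hqn : q * n' = orderOf ψ := Nat.ordProj_mul_ordCompl_eq_self (orderOf ψ) p
  have hcop' : Nat.Coprime p n' := Nat.coprime_ordCompl hp.out hn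
  refine ⟨q ^ Nat.totient (orderOf α), ?_, ?_⟩
  · have hdvd : orderOf (ψ ^ (q ^ Nat.totient (orderOf α))) ∣ n' := by
      rw [orderOf_dvd_iff_pow_eq_one, ← pow_mul]
      apply orderOf_dvd_iff_pow_eq_one.mp
      rw [← hqn]
      exact Nat.mul_dvd_mul (dvd_pow_self q (Nat.totient_pos.mpr hm).ne') dvd_rfl
    exact Nat.Coprime.coprime_dvd_left hdvd hcop'.symm
  · have hcop : Nat.Coprime q (orderOf α) := Nat.Coprime.pow_left _ hα.symm
    have h1 : q ^ Nat.totient (orderOf α) ≡ 1 [MOD orderOf α] := Nat.ModEq.pow_totient hcop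
    have h2 := pow_eq_pow_iff_modEq.mpr h1
    rw [h2, pow_one]

/-- Every `p'`-automorphism in a saturated system lifts modulo a strongly closed subgroup to a
`p'`-automorphism. -/
theorem exists_liftsAut_coprime [Finite S] (p : ℕ) [Fact p.Prime] (hS : IsPGroup p S)
    (F : FusionSystem S) (hF : F.IsSaturated p) {T : Subgroup Ω} (hT : F.StronglyClosed T)
    {P : Subgroup Ω} (hP : P ≤ S) (α : MulAut P) (hα : α ∈ F.autGroup P)
    (hcop : (orderOf α).Coprime p) :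
    ∃ ψ ∈ F.autGroup (P ⊔ T), (orderOf ψ).Coprime p ∧ LiftsAut T α ψ := by
  obtain ⟨ψ, hψ, hl⟩ := exists_liftsAut p hS F hF hT hP α hα
  have hQS : P ⊔ T ≤ S := sup_le hP hT.1
  have hfinQ : Finite ↥(P ⊔ T) := finite_of_le hQS
  have hfinA : Finite (MulAut ↥(P ⊔ T)) :=
    Finite.of_injective (fun e : MulAut ↥(P ⊔ T) => (e : ↥(P ⊔ T) → ↥(P ⊔ T)))
      (fun a b h => DFunLike.coe_injective h)
  obtain ⟨j, hj1, hj2⟩ := exists_pow_coprime_order p ψ α hcop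
  refine ⟨ψ ^ j, Subgroup.pow_mem _ hψ j, hj1, ?_⟩
  have := liftsAut_pow (fun y hy => autGroup_apply_mem_of_stronglyClosed F hT hQS ψ hψ y hy) hl j
  rwa [hj2] at this

/-- restriction of an automorphism in `Aut_F(Q)` to the strongly closed subgroup `T ≤ Q` -/
def resAutFun (F : FusionSystem S) {T : Subgroup Ω} (hT : F.StronglyClosed T) {Q : Subgroup Ω}
    (hTQ : T ≤ Q) (hQS : Q ≤ S) (χ : ↥(F.autGroup Q)) : MulAut T where
  toFun t := ⟨((χ.1 ⟨t, hTQ t.2⟩ : Q) : Ω),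
    autGroup_apply_mem_of_stronglyClosed F hT hQS χ.1 χ.2 _ t.2⟩
  invFun t := ⟨((χ.1⁻¹ ⟨t, hTQ t.2⟩ : Q) : Ω),
    autGroup_apply_mem_of_stronglyClosed F hT hQS χ.1⁻¹ (Subgroup.inv_mem _ χ.2) _ t.2⟩
  left_inv t := by
    apply Subtype.ext
    show ((χ.1⁻¹ (χ.1 ⟨t, hTQ t.2⟩) : Q) : Ω) = t
    rw [MulAut.inv_apply_self]
  right_inv t := by
    apply Subtype.ext
    show ((χ.1 (χ.1⁻¹ ⟨t, hTQ t.2⟩) : Q) : Ω) = t
    rw [MulAut.apply_inv_self]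
  map_mul' a b := by
    apply Subtype.ext
    show ((χ.1 (⟨a, hTQ a.2⟩ * ⟨b, hTQ b.2⟩) : Q) : Ω) = _
    rw [map_mul]
    rfl

theorem resAutFun_apply (F : FusionSystem S) {T : Subgroup Ω} (hT : F.StronglyClosed T)
    {Q : Subgroup Ω} (hTQ : T ≤ Q) (hQS : Q ≤ S) (χ : ↥(F.autGroup Q)) (t : T) :
    ((resAutFun F hT hTQ hQS χ t : T) : Ω) = ((χ.1 ⟨t, hTQ t.2⟩ : Q) : Ω) := rfl

theorem resAutFun_mem (F : FusionSystem S) {T : Subgroup Ω} (hT : F.StronglyClosed T)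
    {Q : Subgroup Ω} (hTQ : T ≤ Q) (hQS : Q ≤ S) (χ : ↥(F.autGroup Q)) :
    resAutFun F hT hTQ hQS χ ∈ F.autGroup T := by
  rw [mem_autGroup_iff F hT.1]
  have h1 : autHom χ.1 ∈ F.Hom Q := (mem_autGroup_iff F hQS χ.1).mp χ.2
  have h2 := restrict_mem F hTQ h1
  have e : autHom (resAutFun F hT hTQ hQS χ) = (autHom χ.1).comp (Subgroup.inclusion hTQ) := by
    ext t
    rfl
  rw [e]
  exact h2

/-- restriction as a homomorphism `Aut_F(Q) → Aut_F(T)` -/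
def resAut (F : FusionSystem S) {T : Subgroup Ω} (hT : F.StronglyClosed T) {Q : Subgroup Ω}
    (hTQ : T ≤ Q) (hQS : Q ≤ S) : ↥(F.autGroup Q) →* ↥(F.autGroup T) where
  toFun χ := ⟨resAutFun F hT hTQ hQS χ, resAutFun_mem F hT hTQ hQS χ⟩
  map_one' := by
    apply Subtype.ext
    ext t
    rfl
  map_mul' a b := by
    apply Subtype.ext
    ext t
    rfl

theorem resAut_apply (F : FusionSystem S) {T : Subgroup Ω} (hT : F.StronglyClosed T)
    {Q : Subgroup Ω} (hTQ : T ≤ Q) (hQS : Q ≤ S) (χ : ↥(F.autGroup Q)) (t : T) :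
    (((resAut F hT hTQ hQS χ).1 t : T) : Ω) = ((χ.1 ⟨t, hTQ t.2⟩ : Q) : Ω) := rfl

/-- conjugation by `y` on `T` is induced by an element of `O^p(Aut_F(T)) Inn(T)` -/
def ConjInK (F : FusionSystem S) (p : ℕ) (T : Subgroup Ω) (y : Ω) : Prop :=
  ∃ α ∈ ((pResidual p ↥(F.autGroup T)).map (F.autGroup T).subtype ⊔ Inn ↥T :
      Subgroup (MulAut ↥T)), ∀ t : ↥T, ((α t : ↥T) : Ω) = y * (t : Ω) * y⁻¹

theorem conjInK_one (F : FusionSystem S) (p : ℕ) (T : Subgroup Ω) : ConjInK F p T 1 :=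
  ⟨1, Subgroup.one_mem _, fun t => by simp⟩

theorem conjInK_mul (F : FusionSystem S) (p : ℕ) (T : Subgroup Ω) {y z : Ω}
    (hy : ConjInK F p T y) (hz : ConjInK F p T z) : ConjInK F p T (y * z) := by
  obtain ⟨α, hα, hαy⟩ := hy
  obtain ⟨β, hβ, hβz⟩ := hz
  refine ⟨α * β, Subgroup.mul_mem _ hα hβ, fun t => ?_⟩
  rw [MulAut.mul_apply, hαy, hβz]
  group

theorem conjInK_inv (F : FusionSystem S) (p : ℕ) (T : Subgroup Ω) {y : Ω}
    (hy : ConjInK F p T y) : ConjInK F p T y⁻¹ := by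
  obtain ⟨α, hα, hαy⟩ := hy
  refine ⟨α⁻¹, Subgroup.inv_mem _ hα, fun t => ?_⟩
  have h1 := hαy (α⁻¹ t)
  rw [MulAut.apply_inv_self] at h1
  rw [h1]
  group

/-- the key case: a generator `a⁻¹ α(a)` of the hyperfocal subgroup with `α` of order prime to `p` -/
theorem conjInK_of_coprime [Finite S] (p : ℕ) [Fact p.Prime] (hS : IsPGroup p S)
    (F : FusionSystem S) (hF : F.IsSaturated p) {T : Subgroup Ω} (hT : F.StronglyClosed T)
    {P : Subgroup Ω} (hP : P ≤ S) (α : MulAut P) (hα : α ∈ F.autGroup P)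
    (hcop : (orderOf α).Coprime p) (a : P) :
    ConjInK F p T ((a : Ω)⁻¹ * ((α a : P) : Ω)) := by
  obtain ⟨ψ, hψ, hψcop, hl⟩ := exists_liftsAut_coprime p hS F hF hT hP α hα hcop
  have hQS : P ⊔ T ≤ S := sup_le hP hT.1
  have hTQ : T ≤ P ⊔ T := le_sup_right
  set χ : ↥(F.autGroup (P ⊔ T)) := ⟨ψ, hψ⟩ with hχ
  have hχcop : (orderOf χ).Coprime p := by
    rw [← Subgroup.orderOf_coe]
    exact hψcop
  set ρ : ↥(F.autGroup T) := resAut F hT hTQ hQS χ with hρ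
  have hρres : ρ ∈ pResidual p ↥(F.autGroup T) :=
    map_mem_pResidual p (resAut F hT hTQ hQS) (Subgroup.subset_closure hχcop)
  set a' : ↥(P ⊔ T) := Subgroup.inclusion le_sup_left a with ha'
  have ht₀ : ((α a : P) : Ω)⁻¹ * ((ψ a' : ↥(P ⊔ T)) : Ω) ∈ T := hl a
  set t₀ : T := ⟨((α a : P) : Ω)⁻¹ * ((ψ a' : ↥(P ⊔ T)) : Ω), ht₀⟩ with ht₀def
  have hSN : S ≤ Subgroup.normalizer (T : Set Ω) := le_normalizer_of_stronglyClosed F hT
  set n : Subgroup.normalizer (T : Set Ω) := ⟨(a : Ω), hSN (hP a.2)⟩ with hn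
  set ca : MulAut T := T.normalizerMonoidHom n with hca
  have hcaF : ca ∈ F.autGroup T :=
    autInducedBy_le_autGroup F hT.1
      ((mem_autInducedBy_iff S T _).mpr ⟨(a : Ω), hP a.2, fun x => rfl⟩)
  set ca' : ↥(F.autGroup T) := ⟨ca, hcaF⟩ with hca'
  have hnorm : (pResidual p ↥(F.autGroup T)).Normal := inferInstance
  have h1 : ca'⁻¹ * ρ * ca' * ρ⁻¹ ∈ pResidual p ↥(F.autGroup T) := by
    refine Subgroup.mul_mem _ ?_ (Subgroup.inv_mem _ hρres)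
    have := hnorm.conj_mem ρ hρres ca'⁻¹
    rwa [inv_inv] at this
  refine ⟨((ca'⁻¹ * ρ * ca' * ρ⁻¹ : ↥(F.autGroup T)) : MulAut T) * (MulAut.conj t₀)⁻¹, ?_, ?_⟩
  · exact Subgroup.mul_mem_sup ⟨_, h1, rfl⟩ (Subgroup.inv_mem _ ⟨t₀, rfl⟩)
  · intro t
    -- key identity
    have K1 : ∀ u : T, ((ρ.1 (ca u) : T) : Ω) =
        ((ψ a' : ↥(P ⊔ T)) : Ω) * ((ρ.1 u : T) : Ω) * ((ψ a' : ↥(P ⊔ T)) : Ω)⁻¹ := by
      intro u
      rw [hρ, resAut_apply, resAut_apply]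
      have e : (⟨((ca u : T) : Ω), hTQ (ca u).2⟩ : ↥(P ⊔ T)) = a' * ⟨u, hTQ u.2⟩ * a'⁻¹ := by
        apply Subtype.ext
        rfl
      rw [e, map_mul, map_mul, map_inv]
      rfl
    have K2 : ((ψ a' : ↥(P ⊔ T)) : Ω) = ((α a : P) : Ω) * (t₀ : Ω) := by
      rw [ht₀def]
      simp
    have K3 : ∀ v : T, ((ca⁻¹ v : T) : Ω) = (a : Ω)⁻¹ * (v : Ω) * (a : Ω) := by
      intro v
      rw [hca, ← map_inv]
      show ((n⁻¹ : Subgroup.normalizer (T : Set Ω)) : Ω) * (v : Ω) *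
        ((n⁻¹ : Subgroup.normalizer (T : Set Ω)) : Ω)⁻¹ = _
      rw [hn]
      simp
    have K4 : (((MulAut.conj t₀)⁻¹ t : T) : Ω) = (t₀ : Ω)⁻¹ * (t : Ω) * (t₀ : Ω) := by
      rw [MulAut.conj_inv_apply]
      rfl
    have e0 : ((((ca'⁻¹ * ρ * ca' * ρ⁻¹ : ↥(F.autGroup T)) : MulAut T) * (MulAut.conj t₀)⁻¹) t) =
        ca⁻¹ (ρ.1 (ca (ρ.1⁻¹ ((MulAut.conj t₀)⁻¹ t)))) := rfl
    rw [e0, K3, K1, MulAut.apply_inv_self, K4, K2]
    group

end Cfsg.Agent.Helper26
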