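import Mathlib
import Cfsg.Agent.Helper26.FusionHypLift
import Cfsg.Agent.Helper25.FusionFactorSat
import Cfsg.Agent.Helper25.HyperfocalGroup

set_option autoImplicit false

/-! The hyperfocal subgroup of a factor system. -/

namespace Cfsg.Agent.Helper26

open Cfsg Cfsg.FusionSystem Cfsg.Agent.Helper25

variable {Ω Ω' : Type*} [Group Ω] [Group Ω'] {S : Subgroup Ω}

theorem exists_liftsAut_coprime' [Finite S] (p : ℕ) [Fact p.Prime] (hS : IsPGroup p S)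
    (F : FusionSystem S) (hF : F.IsSaturated p) {T : Subgroup Ω} (hT : F.StronglyClosed T)
    {P : Subgroup Ω} (hP : P ≤ S) (α : MulAut P) (hα : α ∈ F.autGroup P)
    (hcop : (orderOf α).Coprime p) {Q : Subgroup Ω} (hQ : Q = P ⊔ T) (hPQ : P ≤ Q) :
    ∃ ψ ∈ F.autGroup Q, (orderOf ψ).Coprime p ∧
      ∀ x : P, ((α x : P) : Ω)⁻¹ * ((ψ (Subgroup.inclusion hPQ x) : Q) : Ω) ∈ T := by
  subst hQ
  exact exists_liftsAut_coprime p hS F hF hT hP α hα hcop

theorem preimageAlong_imageAlong_sup (θ : S →* Ω') {T P : Subgroup Ω} (hTS : T ≤ S) (hP : P ≤ S)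
    (hker : ∀ s : S, θ s = 1 ↔ (s : Ω) ∈ T) :
    preimageAlong θ (imageAlong θ (P ⊔ T)) = P ⊔ T := by
  apply le_antisymm
  · intro x hx
    obtain ⟨hxS, hx'⟩ := (mem_preimageAlong _ _ _).mp hx
    obtain ⟨y, hy, hyx⟩ := hx'
    have hy' : (y : Ω) ∈ P ⊔ T := hy
    have h1 : θ (y⁻¹ * ⟨x, hxS⟩) = 1 := by rw [map_mul, map_inv, hyx, inv_mul_cancel]
    have h2 : ((y⁻¹ * ⟨x, hxS⟩ : S) : Ω) ∈ T := (hker _).mp h1
    have h3 : (y : Ω)⁻¹ * x ∈ T := h2
    have e : x = (y : Ω) * ((y : Ω)⁻¹ * x) := by group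
    rw [e]
    exact Subgroup.mul_mem _ hy' (Subgroup.mem_sup_right h3)
  · intro x hx
    have hxS : x ∈ S := (sup_le hP hTS) hx
    exact (mem_preimageAlong _ _ _).mpr ⟨hxS, ⟨⟨x, hxS⟩, hx, rfl⟩⟩

section

variable [Finite S] (p : ℕ) [Fact p.Prime] (F : FusionSystem S) {T : Subgroup Ω}
  (hT : F.StronglyClosed T) (θ : S →* Ω') (hker : ∀ s : S, θ s = 1 ↔ (s : Ω) ∈ T)
  {S' : Subgroup Ω'} (hrange : θ.range = S') (E : FusionSystem S')
  (hiff : ∀ (P' : Subgroup Ω') (φ' : P' →* Ω'),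
    φ' ∈ E.Hom P' ↔ P' ≤ S' ∧ ∃ φ ∈ F.Hom (preimageAlong θ P'), InducedAlong θ φ φ')

/-- the induced-automorphism homomorphism with codomain `Aut_E(Q')` -/
noncomputable def indAutHom' {Q' : Subgroup Ω'} (hQ' : Q' ≤ S') :
    ↥(F.autGroup (preimageAlong θ Q')) →* ↥(E.autGroup Q') :=
  (indAutHom F hT θ hker hrange hQ').codRestrict (E.autGroup Q')
    (fun a => indAutHom_mem F hT θ hker hrange E hiff hQ' a)

theorem indAutHom'_surjective {Q' : Subgroup Ω'} (hQ' : Q' ≤ S') :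
    Function.Surjective (indAutHom' F hT θ hker hrange E hiff hQ') := by
  rintro ⟨β₀, hβ₀⟩
  obtain ⟨a, ha⟩ := indAutHom_surj F hT θ hker hrange E hiff hQ' hβ₀
  exact ⟨a, Subtype.ext ha⟩

theorem indAutHom'_spec {Q' : Subgroup Ω'} (hQ' : Q' ≤ S')
    (a : ↥(F.autGroup (preimageAlong θ Q'))) (x : preimageAlong θ Q') :
    ((((indAutHom' F hT θ hker hrange E hiff hQ' a : ↥(E.autGroup Q')) : MulAut Q')
      ⟨θ ⟨x, preimageAlong_le θ Q' x.2⟩, preimageAlong_map_mem θ Q' x⟩ : Q') : Ω') =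
      θ ⟨(a.1 x : preimageAlong θ Q'), preimageAlong_le θ Q' (a.1 x).2⟩ :=
  indAutHom_spec F hT θ hker hrange hQ' a x

include hT hker hrange hiff in
theorem hyperfocal_factor_le :
    E.hyperfocalSubgroup p ≤ ((F.hyperfocalSubgroup p).subgroupOf S).map θ := by
  intro y hy
  unfold hyperfocalSubgroup at hy
  induction hy using Subgroup.closure_induction with
  | mem y hy =>
    obtain ⟨Q', β, xb, hQ', hβ, rfl⟩ := hy
    have hfinQ : Finite ↥(preimageAlong θ Q') := finite_of_le (preimageAlong_le θ Q')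
    have hfinA : Finite (MulAut ↥(preimageAlong θ Q')) :=
      Finite.of_injective (fun e : MulAut ↥(preimageAlong θ Q') =>
        (e : ↥(preimageAlong θ Q') → ↥(preimageAlong θ Q')))
        (fun a b h => DFunLike.coe_injective h)
    have h1 := pResidual_le_map_of_surjective p (indAutHom' F hT θ hker hrange E hiff hQ')
      (indAutHom'_surjective F hT θ hker hrange E hiff hQ') hβ
    obtain ⟨α, hα, rfl⟩ := h1
    obtain ⟨x, hx⟩ := exists_preimageAlong θ hrange hQ' xb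
    have hxb : xb = ⟨θ ⟨x, preimageAlong_le θ Q' x.2⟩, preimageAlong_map_mem θ Q' x⟩ :=
      Subtype.ext hx.symm
    have hspec := indAutHom'_spec F hT θ hker hrange E hiff hQ' α x
    have hmemS : (x : Ω)⁻¹ * ((α.1 x : preimageAlong θ Q') : Ω) ∈ S :=
      S.mul_mem (S.inv_mem (preimageAlong_le θ Q' x.2)) (preimageAlong_le θ Q' (α.1 x).2)
    refine ⟨⟨(x : Ω)⁻¹ * ((α.1 x : preimageAlong θ Q') : Ω), hmemS⟩, ?_, ?_⟩
    · show (x : Ω)⁻¹ * ((α.1 x : preimageAlong θ Q') : Ω) ∈ F.hyperfocalSubgroup p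
      apply Subgroup.subset_closure
      exact ⟨preimageAlong θ Q', α, x, preimageAlong_le θ Q', hα, rfl⟩
    · have e : (⟨(x : Ω)⁻¹ * ((α.1 x : preimageAlong θ Q') : Ω), hmemS⟩ : S) =
          (⟨x, preimageAlong_le θ Q' x.2⟩ : S)⁻¹ *
            ⟨(α.1 x : preimageAlong θ Q'), preimageAlong_le θ Q' (α.1 x).2⟩ := Subtype.ext rfl
      rw [e, map_mul, map_inv, hxb, hspec]
  | one => exact Subgroup.one_mem _
  | mul y z _ _ hy hz => exact Subgroup.mul_mem _ hy hz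
  | inv y _ hy => exact Subgroup.inv_mem _ hy

/-- `θ y` lies in the hyperfocal subgroup of `E` -/
def GoodHyp (y : Ω) : Prop := ∃ hy : y ∈ S, θ ⟨y, hy⟩ ∈ E.hyperfocalSubgroup p

omit [Finite S] [Fact p.Prime] in
theorem goodHyp_one : GoodHyp p θ E 1 :=
  ⟨S.one_mem, by
    have : (⟨1, S.one_mem⟩ : S) = 1 := rfl
    rw [this, map_one]
    exact Subgroup.one_mem _⟩

omit [Finite S] [Fact p.Prime] in
theorem goodHyp_mul {y z : Ω} (hy : GoodHyp p θ E y) (hz : GoodHyp p θ E z) :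
    GoodHyp p θ E (y * z) := by
  obtain ⟨hyS, hy⟩ := hy
  obtain ⟨hzS, hz⟩ := hz
  refine ⟨S.mul_mem hyS hzS, ?_⟩
  have : (⟨y * z, S.mul_mem hyS hzS⟩ : S) = ⟨y, hyS⟩ * ⟨z, hzS⟩ := rfl
  rw [this, map_mul]
  exact Subgroup.mul_mem _ hy hz

omit [Finite S] [Fact p.Prime] in
theorem goodHyp_inv {y : Ω} (hy : GoodHyp p θ E y) : GoodHyp p θ E y⁻¹ := by
  obtain ⟨hyS, hy⟩ := hy
  refine ⟨S.inv_mem hyS, ?_⟩
  have : (⟨y⁻¹, S.inv_mem hyS⟩ : S) = (⟨y, hyS⟩ : S)⁻¹ := rfl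
  rw [this, map_inv]
  exact Subgroup.inv_mem _ hy

include hT hker hrange hiff in
theorem goodHyp_of_coprime (hS : IsPGroup p S) (hF : F.IsSaturated p) {P : Subgroup Ω} (hP : P ≤ S)
    (β : MulAut P) (hβ : β ∈ F.autGroup P) (hcop : (orderOf β).Coprime p) (a : P) :
    GoodHyp p θ E ((a : Ω)⁻¹ * ((β a : P) : Ω)) := by
  have hQ' : imageAlong θ (P ⊔ T) ≤ S' := by
    rintro _ ⟨y, -, rfl⟩
    rw [← hrange]
    exact ⟨y, rfl⟩
  have hQ : preimageAlong θ (imageAlong θ (P ⊔ T)) = P ⊔ T :=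
    preimageAlong_imageAlong_sup θ hT.1 hP hker
  have hPQ : P ≤ preimageAlong θ (imageAlong θ (P ⊔ T)) := by
    rw [hQ]
    exact le_sup_left
  obtain ⟨ψ, hψ, hψcop, hl⟩ := exists_liftsAut_coprime' p hS F hF hT hP β hβ hcop hQ hPQ
  set χ : ↥(F.autGroup (preimageAlong θ (imageAlong θ (P ⊔ T)))) := ⟨ψ, hψ⟩ with hχ
  have hχcop : (orderOf χ).Coprime p := by
    rw [← Subgroup.orderOf_coe]
    exact hψcop
  have hγ : indAutHom' F hT θ hker hrange E hiff hQ' χ ∈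
      pResidual p ↥(E.autGroup (imageAlong θ (P ⊔ T))) :=
    map_mem_pResidual p _ (Subgroup.subset_closure hχcop)
  set a' : ↥(preimageAlong θ (imageAlong θ (P ⊔ T))) := Subgroup.inclusion hPQ a with ha'
  have hspec := indAutHom'_spec F hT θ hker hrange E hiff hQ' χ a'
  have haS : (a : Ω) ∈ S := hP a.2
  have hβaS : ((β a : P) : Ω) ∈ S := hP (β a).2
  have hmemS : (a : Ω)⁻¹ * ((β a : P) : Ω) ∈ S := S.mul_mem (S.inv_mem haS) hβaS
  refine ⟨hmemS, ?_⟩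
  have hψaS : ((ψ a' : ↥(preimageAlong θ (imageAlong θ (P ⊔ T)))) : Ω) ∈ S :=
    preimageAlong_le θ _ (ψ a').2
  have h1 : θ ⟨((β a : P) : Ω), hβaS⟩ = θ ⟨_, hψaS⟩ := by
    have h2 : θ ((⟨((β a : P) : Ω), hβaS⟩ : S)⁻¹ * ⟨_, hψaS⟩) = 1 := (hker _).mpr (hl a)
    rw [map_mul, map_inv] at h2
    exact inv_mul_eq_one.mp h2
  have e : (⟨(a : Ω)⁻¹ * ((β a : P) : Ω), hmemS⟩ : S) =
      (⟨(a : Ω), haS⟩ : S)⁻¹ * ⟨((β a : P) : Ω), hβaS⟩ := Subtype.ext rfl
  rw [e, map_mul, map_inv, h1]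
  have hgen : ((⟨θ ⟨a', preimageAlong_le θ _ a'.2⟩, preimageAlong_map_mem θ _ a'⟩ :
      ↥(imageAlong θ (P ⊔ T))) : Ω')⁻¹ *
      ((((indAutHom' F hT θ hker hrange E hiff hQ' χ : ↥(E.autGroup (imageAlong θ (P ⊔ T)))) :
        MulAut ↥(imageAlong θ (P ⊔ T)))
      ⟨θ ⟨a', preimageAlong_le θ _ a'.2⟩, preimageAlong_map_mem θ _ a'⟩ :
        ↥(imageAlong θ (P ⊔ T))) : Ω') ∈ E.hyperfocalSubgroup p := by
    apply Subgroup.subset_closure
    exact ⟨imageAlong θ (P ⊔ T), _, _, hQ', hγ, rfl⟩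
  rw [hspec] at hgen
  exact hgen

include hT hker hrange hiff in
theorem hyperfocal_factor_ge (hS : IsPGroup p S) (hF : F.IsSaturated p) :
    ((F.hyperfocalSubgroup p).subgroupOf S).map θ ≤ E.hyperfocalSubgroup p := by
  rw [Subgroup.map_le_iff_le_comap]
  intro s hs
  have hs' : (s : Ω) ∈ F.hyperfocalSubgroup p := hs
  suffices h : ∀ y ∈ F.hyperfocalSubgroup p, GoodHyp p θ E y by
    obtain ⟨_, h⟩ := h _ hs'
    exact h
  intro y hy'
  unfold hyperfocalSubgroup at hy'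
  induction hy' using Subgroup.closure_induction with
  | mem y hy =>
    obtain ⟨P, α, a, hPS, hα, rfl⟩ := hy
    revert a
    unfold pResidual at hα
    induction hα using Subgroup.closure_induction with
    | mem β hβ =>
      intro a
      exact goodHyp_of_coprime p F hT θ hker hrange E hiff hS hF hPS β.1 β.2
        (by rw [Subgroup.orderOf_coe]; exact hβ) a
    | one =>
      intro a
      have e : ((a : Ω))⁻¹ * ((((1 : ↥(F.autGroup P)) : MulAut ↥P) a : ↥P) : Ω) = 1 := by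
        simp
      rw [e]
      exact goodHyp_one p θ E
    | mul β γ _ _ hβ hγ =>
      intro a
      have e : (a : Ω)⁻¹ * ((((β * γ : ↥(F.autGroup P)) : MulAut ↥P) a : ↥P) : Ω) =
          ((a : Ω)⁻¹ * (((γ : MulAut ↥P) a : ↥P) : Ω)) *
            ((((γ : MulAut ↥P) a : ↥P) : Ω)⁻¹ *
              (((β : MulAut ↥P) ((γ : MulAut ↥P) a) : ↥P) : Ω)) := by
        rw [Subgroup.coe_mul, MulAut.mul_apply]
        group
      rw [e]
      exact goodHyp_mul p θ E (hγ a) (hβ _)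
    | inv β _ hβ =>
      intro a
      have e : (a : Ω)⁻¹ * ((((β⁻¹ : ↥(F.autGroup P)) : MulAut ↥P) a : ↥P) : Ω) =
          (((((β : MulAut ↥P)⁻¹ a : ↥P) : Ω))⁻¹ *
            (((β : MulAut ↥P) ((β : MulAut ↥P)⁻¹ a) : ↥P) : Ω))⁻¹ := by
        rw [MulAut.apply_inv_self]
        simp
      rw [e]
      exact goodHyp_inv p θ E (hβ _)
  | one => exact goodHyp_one p θ E
  | mul y z _ _ hy hz => exact goodHyp_mul p θ E hy hz
  | inv y _ hy => exact goodHyp_inv p θ E hy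

end

end Cfsg.Agent.Helper26
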