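import Mathlib

set_option autoImplicit false

/-! Group-theoretic core of the model theorem for constrained fusion systems: an explicit
extension of `A` by `M` built inside a wreath product, containing a given extension `S` of a
subgroup of index prime to `p`. -/

namespace Cfsg.Agent.Helper26.ModelCore

universe u

/-- The data. -/
structure MData (S A M X : Type u) [Group S] [Group A] [CommGroup M] [Fintype X] where
  π : S →* A
  i : M →* S
  hi : Function.Injective i
  hker : ∀ s, π s = 1 → s ∈ i.range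
  hker' : ∀ z, π (i z) = 1
  act : A →* MulAut M
  hact : ∀ s z, s * i z * s⁻¹ = i (act (π s) z)
  ra : X → A → X
  ra_one : ∀ x, ra x 1 = x
  ra_mul : ∀ x a b, ra (ra x a) b = ra x (a * b)
  x₀ : X
  hstab : ∀ a, ra x₀ a = x₀ → a ∈ π.range
  t : X → A
  ht : ∀ x, ra x₀ (t x) = x
  hm : Function.Bijective (fun z : M => z ^ Fintype.card X)
  jf : S → X → S
  j1 : ∀ s x, π (jf s x) = t x * π s * (t (ra x (π s)))⁻¹
  j2 : ∀ s s' x, jf (s * s') x = jf s x * jf s' (ra x (π s))
  j3 : ∀ z x, jf (i z) x = i (act (t x) z)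

variable {S A M X : Type u} [Group S] [Group A] [CommGroup M] [Fintype X]

namespace MData

variable (D : MData S A M X)

theorem ra_inv_cancel (x : X) (a : A) : D.ra (D.ra x a) a⁻¹ = x := by
  rw [D.ra_mul, mul_inv_cancel, D.ra_one]

theorem ra_inv_cancel' (x : X) (a : A) : D.ra (D.ra x a⁻¹) a = x := by
  rw [D.ra_mul, inv_mul_cancel, D.ra_one]

/-- right translation as a permutation of `X` -/
def raEquiv (a : A) : X ≃ X where
  toFun x := D.ra x a
  invFun x := D.ra x a⁻¹
  left_inv x := D.ra_inv_cancel x a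
  right_inv x := D.ra_inv_cancel' x a

/-- the action of `A` on functions `X → S` -/
def rho : A →* MulAut (X → S) where
  toFun a :=
    { toFun := fun f x => f (D.ra x a)
      invFun := fun f x => f (D.ra x a⁻¹)
      left_inv := fun f => by
        funext x
        show f (D.ra (D.ra x a⁻¹) a) = f x
        rw [D.ra_inv_cancel']
      right_inv := fun f => by
        funext x
        show f (D.ra (D.ra x a) a⁻¹) = f x
        rw [D.ra_inv_cancel]
      map_mul' := fun f g => rfl }
  map_one' := by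
    apply MulEquiv.ext
    intro f
    funext x
    show f (D.ra x 1) = f x
    rw [D.ra_one]
  map_mul' a b := by
    apply MulEquiv.ext
    intro f
    funext x
    show f (D.ra x (a * b)) = f (D.ra (D.ra x a) b)
    rw [D.ra_mul]

@[simp] theorem rho_apply (a : A) (f : X → S) (x : X) : D.rho a f x = f (D.ra x a) := rfl

/-- the wreath product -/
abbrev W := (X → S) ⋊[D.rho] A

theorem ra_t_inv (y : X) : D.ra y (D.t y)⁻¹ = D.x₀ := by
  have h := D.ra_inv_cancel D.x₀ (D.t y)
  rwa [D.ht] at h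

theorem cocycle_mem (x : X) (a : A) : D.t x * a * (D.t (D.ra x a))⁻¹ ∈ D.π.range := by
  apply D.hstab
  rw [← D.ra_mul, ← D.ra_mul, D.ht, D.ra_t_inv]

/-- the big extension -/
def E : Subgroup D.W where
  carrier := {w | ∀ x, D.π (w.left x) = D.t x * w.right * (D.t (D.ra x w.right))⁻¹}
  one_mem' := by
    intro x
    show D.π ((1 : X → S) x) = D.t x * 1 * (D.t (D.ra x 1))⁻¹
    rw [D.ra_one]
    simp
  mul_mem' := by
    intro w w' hw hw' x
    rw [SemidirectProduct.mul_left, SemidirectProduct.mul_right]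
    show D.π (w.left x * w'.left (D.ra x w.right)) = _
    rw [map_mul, hw x, hw' (D.ra x w.right), D.ra_mul]
    group
  inv_mem' := by
    intro w hw x
    rw [SemidirectProduct.inv_left, SemidirectProduct.inv_right]
    show D.π ((w.left (D.ra x w.right⁻¹))⁻¹) = _
    rw [map_inv, hw (D.ra x w.right⁻¹), D.ra_inv_cancel']
    group

theorem mem_E (w : D.W) :
    w ∈ D.E ↔ ∀ x, D.π (w.left x) = D.t x * w.right * (D.t (D.ra x w.right))⁻¹ := Iff.rfl

/-- the norm map -/
def normM : (X → M) →* M where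
  toFun f := ∏ x, D.act (D.t x)⁻¹ (f x)
  map_one' := by simp
  map_mul' f g := by
    simp only [Pi.mul_apply, map_mul]
    rw [Finset.prod_mul_distrib]

theorem normM_apply (f : X → M) : D.normM f = ∏ x, D.act (D.t x)⁻¹ (f x) := rfl

/-- functions to `M` inside the wreath product -/
def liftM : (X → M) →* D.W := SemidirectProduct.inl.comp (D.i.compLeft X)

@[simp] theorem liftM_left (f : X → M) (x : X) : (D.liftM f).left x = D.i (f x) := rfl
@[simp] theorem liftM_right (f : X → M) : (D.liftM f).right = 1 := rfl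

/-- the kernel of the norm map, inside the wreath product -/
def K : Subgroup D.W := D.normM.ker.map D.liftM

theorem mem_K (w : D.W) : w ∈ D.K ↔ ∃ f : X → M, D.normM f = 1 ∧ D.liftM f = w := by
  unfold K
  rw [Subgroup.mem_map]
  constructor
  · rintro ⟨f, hf, rfl⟩
    exact ⟨f, MonoidHom.mem_ker.mp hf, rfl⟩
  · rintro ⟨f, hf, rfl⟩
    exact ⟨f, MonoidHom.mem_ker.mpr hf, rfl⟩

theorem liftM_mem_E (f : X → M) : D.liftM f ∈ D.E := by
  intro x
  rw [liftM_left, liftM_right, D.hker', D.ra_one]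
  simp

theorem K_le_E : D.K ≤ D.E := by
  intro w hw
  obtain ⟨f, -, rfl⟩ := (D.mem_K w).mp hw
  exact D.liftM_mem_E f

/-- conjugation of `liftM f` by an element of `E` -/
theorem conj_liftM (v : D.W) (hv : v ∈ D.E) (f : X → M) :
    v * D.liftM f * v⁻¹ =
      D.liftM (fun x => D.act (D.t x * v.right * (D.t (D.ra x v.right))⁻¹) (f (D.ra x v.right))) := by
  apply SemidirectProduct.ext
  · funext x
    rw [SemidirectProduct.mul_left, SemidirectProduct.mul_left, SemidirectProduct.inv_left,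
      SemidirectProduct.mul_right, liftM_right, mul_one]
    show v.left x * (D.liftM f).left (D.ra x v.right) *
      (v.left (D.ra (D.ra x v.right) v.right⁻¹))⁻¹ = _
    rw [D.ra_inv_cancel, liftM_left, liftM_left, D.hact, hv x]
  · rw [SemidirectProduct.mul_right, SemidirectProduct.mul_right, SemidirectProduct.inv_right,
      liftM_right, liftM_right, mul_one, mul_inv_cancel]

theorem normM_conj (a : A) (f : X → M) :
    D.normM (fun x => D.act (D.t x * a * (D.t (D.ra x a))⁻¹) (f (D.ra x a))) =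
      D.act a (D.normM f) := by
  rw [normM_apply, normM_apply, map_prod]
  rw [← Equiv.prod_comp (D.raEquiv a) (fun y => D.act a (D.act (D.t y)⁻¹ (f y)))]
  apply Finset.prod_congr rfl
  intro x _
  show _ = D.act a (D.act (D.t (D.ra x a))⁻¹ (f (D.ra x a)))
  rw [← MulAut.mul_apply, ← MulAut.mul_apply, ← map_mul, ← map_mul]
  congr 2
  group

theorem K_normal (v w : D.W) (hv : v ∈ D.E) (hw : w ∈ D.K) : v * w * v⁻¹ ∈ D.K := by
  obtain ⟨f, hf, rfl⟩ := (D.mem_K w).mp hw
  rw [D.conj_liftM v hv f, mem_K]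
  exact ⟨_, by rw [D.normM_conj, hf, map_one], rfl⟩

instance K_sub_normal : (D.K.subgroupOf D.E).Normal := by
  constructor
  intro w hw v
  rw [Subgroup.mem_subgroupOf] at hw ⊢
  have := D.K_normal v.1 w.1 v.2 hw
  simpa using this

/-- the model group -/
abbrev G := ↥D.E ⧸ D.K.subgroupOf D.E

theorem jf_one (x : X) : D.jf 1 x = 1 := by
  have h := D.j2 1 1 x
  rw [mul_one, map_one, D.ra_one] at h
  exact (mul_eq_left.mp h.symm)

/-- the embedding of `S` in `E` -/
def j : S →* D.E :=
  MonoidHom.mk' (fun s => ⟨⟨D.jf s, D.π s⟩, fun x => D.j1 s x⟩) (by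
    intro s s'
    apply Subtype.ext
    apply SemidirectProduct.ext
    · funext x
      show D.jf (s * s') x = D.jf s x * D.jf s' (D.ra x (D.π s))
      exact D.j2 s s' x
    · show D.π (s * s') = D.π s * D.π s'
      exact map_mul _ _ _)

@[simp] theorem j_left (s : S) (x : X) : ((D.j s : D.W)).left x = D.jf s x := rfl
@[simp] theorem j_right (s : S) : ((D.j s : D.W)).right = D.π s := rfl

/-- the embedding of `S` in the model -/
def ι : S →* D.G := (QuotientGroup.mk' _).comp D.j

/-- projection of `E` to `A` -/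
def ΓE : D.E →* A := SemidirectProduct.rightHom.comp D.E.subtype

@[simp] theorem ΓE_apply (w : D.E) : D.ΓE w = (w : D.W).right := rfl

theorem K_le_ker : D.K.subgroupOf D.E ≤ D.ΓE.ker := by
  intro w hw
  rw [Subgroup.mem_subgroupOf, mem_K] at hw
  obtain ⟨f, -, hf⟩ := hw
  rw [MonoidHom.mem_ker, ΓE_apply, ← hf, liftM_right]

/-- projection of the model to `A` -/
def Γ : D.G →* A := QuotientGroup.lift _ D.ΓE D.K_le_ker

@[simp] theorem Γ_mk (w : D.E) : D.Γ (QuotientGroup.mk w) = (w : D.W).right := rfl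

theorem Γ_ι (s : S) : D.Γ (D.ι s) = D.π s := rfl

theorem Γ_surjective : Function.Surjective D.Γ := by
  intro a
  have h : ∀ x, ∃ s : S, D.π s = D.t x * a * (D.t (D.ra x a))⁻¹ := fun x => D.cocycle_mem x a
  choose f hf using h
  exact ⟨QuotientGroup.mk ⟨⟨f, a⟩, fun x => hf x⟩, rfl⟩

theorem j_i (z : M) : (D.j (D.i z) : D.W) = D.liftM (fun x => D.act (D.t x) z) := by
  apply SemidirectProduct.ext
  · funext x
    rw [j_left, liftM_left, D.j3]
  · rw [j_right, liftM_right, D.hker']

theorem normM_const (z : M) : D.normM (fun x => D.act (D.t x) z) = z ^ Fintype.card X := by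
  rw [normM_apply]
  have : ∀ x : X, D.act (D.t x)⁻¹ (D.act (D.t x) z) = z := by
    intro x
    rw [← MulAut.mul_apply, ← map_mul, inv_mul_cancel, map_one, MulAut.one_apply]
  simp only [this]
  rw [Finset.prod_const, Finset.card_univ]

theorem liftM_injective : Function.Injective D.liftM := by
  intro f g h
  funext x
  apply D.hi
  have := congrArg (fun w : D.W => w.left x) h
  simpa using this

theorem ι_injective : Function.Injective D.ι := by
  rw [injective_iff_map_eq_one]
  intro s hs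
  have h1 : D.j s ∈ D.K.subgroupOf D.E := by
    have := (QuotientGroup.eq_one_iff (N := D.K.subgroupOf D.E) (D.j s)).mp hs
    exact this
  rw [Subgroup.mem_subgroupOf, mem_K] at h1
  obtain ⟨f, hf, hfs⟩ := h1
  have hr : D.π s = 1 := by
    have := congrArg (fun w : D.W => w.right) hfs
    simpa using this.symm
  obtain ⟨z, rfl⟩ := D.hker s hr
  rw [D.j_i z] at hfs
  have hfz := D.liftM_injective hfs
  rw [hfz, D.normM_const] at hf
  have : z = 1 := D.hm.1 (by simpa using hf)
  rw [this, map_one]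

theorem ker_Γ (g : D.G) (hg : D.Γ g = 1) : ∃ z, g = D.ι (D.i z) := by
  obtain ⟨w, rfl⟩ := QuotientGroup.mk_surjective g
  rw [Γ_mk] at hg
  have h1 : ∀ x, ∃ m : M, D.i m = (w : D.W).left x := by
    intro x
    have := w.2 x
    rw [hg, D.ra_one] at this
    have h2 : D.π ((w : D.W).left x) = 1 := by
      rw [this]
      group
    obtain ⟨m, hm⟩ := D.hker _ h2
    exact ⟨m, hm⟩
  choose f hf using h1
  have hw : (w : D.W) = D.liftM f := by
    apply SemidirectProduct.ext
    · funext x
      rw [liftM_left, hf]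
    · rw [liftM_right, hg]
  obtain ⟨z, hz⟩ := D.hm.2 (D.normM f)
  refine ⟨z, ?_⟩
  show (QuotientGroup.mk w : D.G) = QuotientGroup.mk (D.j (D.i z))
  rw [eq_comm, QuotientGroup.eq, Subgroup.mem_subgroupOf, mem_K]
  refine ⟨(fun x => D.act (D.t x) z)⁻¹ * f, ?_, ?_⟩
  · rw [map_mul, map_inv, D.normM_const]
    simp only at hz
    rw [hz, inv_mul_cancel]
  · rw [map_mul, map_inv, ← D.j_i, ← hw]
    rfl

/-! ### Realising partial lifts -/

section CL

variable (e : A) (N : Subgroup S) (δ : N →* S)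

/-- the orbit relation of `N` acting on `X` through `π ∘ δ` -/
def orbSetoid : Setoid X where
  r x x' := ∃ u : N, D.ra x (D.π (δ u)) = x'
  iseqv :=
    { refl := fun x => ⟨1, by rw [map_one, map_one, D.ra_one]⟩
      symm := by
        rintro x x' ⟨u, rfl⟩
        refine ⟨u⁻¹, ?_⟩
        rw [map_inv, map_inv, D.ra_inv_cancel]
      trans := by
        rintro x x' x'' ⟨u, rfl⟩ ⟨v, rfl⟩
        refine ⟨u * v, ?_⟩
        rw [map_mul, map_mul, D.ra_mul] }

theorem exists_rep :
    ∃ (rep : X → X) (n : X → N), (∀ x, D.ra (rep x) (D.π (δ (n x))) = x) ∧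
      ∀ x (u : N), rep (D.ra x (D.π (δ u))) = rep x := by
  let st := D.orbSetoid N δ
  let rep : X → X := fun x => (Quotient.mk st x).out
  have h1 : ∀ x, ∃ u : N, D.ra (rep x) (D.π (δ u)) = x := fun x =>
    Quotient.mk_out (s := st) x
  choose n hn using h1
  refine ⟨rep, n, hn, fun x u => ?_⟩
  show (Quotient.mk st _).out = (Quotient.mk st x).out
  congr 1
  apply Quotient.sound
  refine ⟨u⁻¹, ?_⟩
  rw [map_inv, map_inv, D.ra_inv_cancel]

theorem core_lemma (hδ : ∀ u : N, D.π (δ u) = e * D.π u * e⁻¹)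
    (H : ∀ x, ∃ g : S, D.π g = D.t x * e * (D.t (D.ra x e))⁻¹ ∧
      ∀ u : N, D.ra x (D.π (δ u)) = x → g * D.jf u (D.ra x e) = D.jf (δ u) x * g) :
    ∃ g : X → S, (∀ x, D.π (g x) = D.t x * e * (D.t (D.ra x e))⁻¹) ∧
      ∀ (u : N) x, g x * D.jf u (D.ra x e) = D.jf (δ u) x * g (D.ra x (D.π (δ u))) := by
  obtain ⟨rep, n, hn, hrep⟩ := D.exists_rep N δ
  choose g₀ hg₀π hg₀ using H
  -- commutation of `e` with the two actions
  have hcomm : ∀ (y : X) (u : N), D.ra (D.ra y e) (D.π u) = D.ra (D.ra y (D.π (δ u))) e := by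
    intro y u
    rw [D.ra_mul, D.ra_mul, hδ u]
    congr 1
    group
  refine ⟨fun x => (D.jf (δ (n x)) (rep x))⁻¹ * g₀ (rep x) * D.jf (n x) (D.ra (rep x) e), ?_, ?_⟩
  · intro x
    have hx2 : D.ra (D.ra (rep x) e) (D.π (n x)) = D.ra x e := by
      rw [hcomm, hn]
    rw [map_mul, map_mul, map_inv, D.j1, D.j1, hg₀π, hn, hx2, hδ]
    group
  · intro u x
    set y := rep x with hy
    set x' := D.ra x (D.π (δ u)) with hx'
    have hrx' : rep x' = y := hrep x u
    -- the element `w`
    obtain ⟨w, hw⟩ : ∃ w : N, w = n x * u * (n x')⁻¹ := ⟨_, rfl⟩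
    have hwn : w * n x' = n x * u := by rw [hw]; group
    have hyw : D.ra y (D.π (δ w)) = y := by
      rw [hw, map_mul, map_mul, map_mul, map_mul, ← D.ra_mul, ← D.ra_mul, hn x, ← hx', map_inv,
        map_inv]
      have h3 := hn x'
      rw [hrx'] at h3
      have h4 := D.ra_inv_cancel y (D.π (δ (n x')))
      rwa [h3] at h4
    have hH := hg₀ y w hyw
    -- Fact A/B
    have hx2 : D.ra (D.ra y e) (D.π (n x)) = D.ra x e := by
      rw [hcomm, hn]
    have hx2' : D.ra (D.ra y e) (D.π (n x')) = D.ra x' e := by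
      rw [hcomm]
      have h3 := hn x'
      rw [hrx'] at h3
      rw [h3]
    have hx3 : D.ra (D.ra y e) (D.π w) = D.ra y e := by
      rw [hcomm, hyw]
    have factA : D.jf (n x) (D.ra y e) * D.jf u (D.ra x e) =
        D.jf w (D.ra y e) * D.jf (n x') (D.ra y e) := by
      have a1 := D.j2 (n x) u (D.ra y e)
      rw [hx2] at a1
      have a2 := D.j2 w (n x') (D.ra y e)
      rw [hx3] at a2
      rw [← a1, ← a2]
      have : ((n x : S) * (u : S)) = (w : S) * (n x' : S) := by
        have := congrArg (fun v : N => (v : S)) hwn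
        simpa using this.symm
      rw [this]
    have factC : D.jf (δ w) y * D.jf (δ (n x')) y = D.jf (δ (n x)) y * D.jf (δ u) x := by
      have c1 := D.j2 (δ w) (δ (n x')) y
      rw [hyw] at c1
      have c2 := D.j2 (δ (n x)) (δ u) y
      rw [hn x] at c2
      rw [← c1, ← c2, ← map_mul, ← map_mul, hwn]
    show (D.jf (δ (n x)) y)⁻¹ * g₀ y * D.jf (n x) (D.ra y e) * D.jf u (D.ra x e) =
      D.jf (δ u) x * ((D.jf (δ (n x')) (rep x'))⁻¹ * g₀ (rep x') * D.jf (n x') (D.ra (rep x') e))
    rw [hrx']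
    have e1 : (D.jf (δ (n x)) y)⁻¹ * g₀ y * D.jf (n x) (D.ra y e) * D.jf u (D.ra x e) =
        (D.jf (δ (n x)) y)⁻¹ * (g₀ y * D.jf w (D.ra y e)) * D.jf (n x') (D.ra y e) := by
      rw [mul_assoc _ (D.jf (n x) (D.ra y e)), factA]
      group
    rw [e1, hH]
    have e2 : D.jf (δ u) x = (D.jf (δ (n x)) y)⁻¹ * (D.jf (δ w) y * D.jf (δ (n x')) y) := by
      rw [factC]
      group
    rw [e2]
    group

/-- Every compatible partial lift is realised by conjugation in the model. -/
theorem exists_realise (hδ : ∀ u : N, D.π (δ u) = e * D.π u * e⁻¹)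
    (H : ∀ x, ∃ g : S, D.π g = D.t x * e * (D.t (D.ra x e))⁻¹ ∧
      ∀ u : N, D.ra x (D.π (δ u)) = x → g * D.jf u (D.ra x e) = D.jf (δ u) x * g) :
    ∃ g : D.G, D.Γ g = e ∧ ∀ u : N, g * D.ι u = D.ι (δ u) * g := by
  obtain ⟨g, hgπ, hg⟩ := D.core_lemma e N δ hδ H
  let gh : D.E := ⟨⟨g, e⟩, fun x => hgπ x⟩
  refine ⟨QuotientGroup.mk gh, rfl, fun u => ?_⟩
  have key : gh * D.j u = D.j (δ u) * gh := by
    apply Subtype.ext
    apply SemidirectProduct.ext
    · funext x
      show g x * D.jf u (D.ra x e) = D.jf (δ u) x * g (D.ra x (D.π (δ u)))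
      exact hg u x
    · show e * D.π u = D.π (δ u) * e
      rw [hδ]
      group
  show (QuotientGroup.mk gh : D.G) * QuotientGroup.mk (D.j u) =
    QuotientGroup.mk (D.j (δ u)) * QuotientGroup.mk gh
  rw [← QuotientGroup.mk_mul, ← QuotientGroup.mk_mul, key]

end CL

instance [Finite S] [Finite A] : Finite D.W :=
  Finite.of_equiv _ (SemidirectProduct.equivProd (φ := D.rho)).symm

end MData

/-- The output of the construction, in existential form. -/
theorem exists_model [Finite S] [Finite A] (D : MData S A M X) :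
    ∃ (G : Type u) (_ : Group G) (_ : Finite G) (ι : S →* G) (Γ : G →* A),
      Function.Injective ι ∧ Function.Surjective Γ ∧ (∀ s, Γ (ι s) = D.π s) ∧
      (∀ g, Γ g = 1 → ∃ z, g = ι (D.i z)) ∧
      ∀ (e : A) (N : Subgroup S) (δ : N →* S), (∀ u : N, D.π (δ u) = e * D.π u * e⁻¹) →
        (∀ x, ∃ g : S, D.π g = D.t x * e * (D.t (D.ra x e))⁻¹ ∧
          ∀ u : N, D.ra x (D.π (δ u)) = x → g * D.jf u (D.ra x e) = D.jf (δ u) x * g) →
        ∃ g : G, Γ g = e ∧ ∀ u : N, g * ι u = ι (δ u) * g :=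
  ⟨D.G, inferInstance, inferInstance, D.ι, D.Γ, D.ι_injective, D.Γ_surjective, D.Γ_ι, D.ker_Γ,
    fun e N δ hδ H => D.exists_realise e N δ hδ H⟩

end Cfsg.Agent.Helper26.ModelCore
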