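import Mathlib
import Cfsg.Agent.Helper26.ModelCore
import Cfsg.Agent.Helper25.FusionCentricExt
import Cfsg.Agent.Helper25.FusionNormal
import Cfsg.Agent.Helper25.FusionTransport
import Cfsg.Agent.S5077

set_option autoImplicit false
set_option linter.unusedSectionVars false
set_option linter.unusedVariables false

/-! The model theorem for a constrained fusion system over `⊤ : Subgroup Ω`. -/

namespace Cfsg.Agent.Helper26.ModelFusion

open Cfsg Cfsg.FusionSystem Cfsg.Agent.Helper25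
open scoped IsMulCommutative

universe u

/-- orbit representatives for a right action given as a function -/
theorem exists_orbit_rep {X N : Type*} [Group N] (op : X → N → X) (op_one : ∀ x, op x 1 = x)
    (op_mul : ∀ x u v, op (op x u) v = op x (u * v)) :
    ∃ (rep : X → X) (n : X → N), (∀ x, op (rep x) (n x) = x) ∧ ∀ x u, rep (op x u) = rep x := by
  let st : Setoid X :=
    { r := fun x x' => ∃ u : N, op x u = x'
      iseqv :=
        { refl := fun x => ⟨1, op_one x⟩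
          symm := by
            rintro x x' ⟨u, rfl⟩
            exact ⟨u⁻¹, by rw [op_mul, mul_inv_cancel, op_one]⟩
          trans := by
            rintro x x' x'' ⟨u, rfl⟩ ⟨v, rfl⟩
            exact ⟨u * v, (op_mul x u v).symm⟩ } }
  let rep : X → X := fun x => (Quotient.mk st x).out
  have h1 : ∀ x, ∃ u : N, op (rep x) u = x := fun x => Quotient.mk_out (s := st) x
  choose n hn using h1
  refine ⟨rep, n, hn, fun x u => ?_⟩
  show (Quotient.mk st _).out = (Quotient.mk st x).out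
  congr 1
  apply Quotient.sound
  exact ⟨u⁻¹, by rw [op_mul, mul_inv_cancel, op_one]⟩

/-- restriction of an automorphism to the centre -/
def centerAut {Q : Type*} [Group Q] : MulAut Q →* MulAut (Subgroup.center Q) where
  toFun α :=
    { toFun := fun z => ⟨α z, by
        rw [Subgroup.mem_center_iff]
        intro g
        have h := (Subgroup.mem_center_iff.mp z.2) (α.symm g)
        have h2 := congrArg α h
        simpa using h2⟩
      invFun := fun z => ⟨α.symm z, by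
        rw [Subgroup.mem_center_iff]
        intro g
        have h := (Subgroup.mem_center_iff.mp z.2) (α g)
        have h2 := congrArg α.symm h
        simpa using h2⟩
      left_inv := fun z => by
        apply Subtype.ext
        simp
      right_inv := fun z => by
        apply Subtype.ext
        simp
      map_mul' := fun z w => by
        apply Subtype.ext
        simp }
  map_one' := by
    apply MulEquiv.ext
    intro z
    rfl
  map_mul' α β := by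
    apply MulEquiv.ext
    intro z
    rfl

@[simp] theorem centerAut_apply {Q : Type*} [Group Q] (α : MulAut Q) (z : Subgroup.center Q) :
    ((centerAut α z : Subgroup.center Q) : Q) = α z := rfl

variable {Ω : Type u} [Group Ω]

/-- The context: a constrained system over `⊤`. -/
structure Ctx (Ω : Type u) [Group Ω] (p : ℕ) where
  F : FusionSystem (⊤ : Subgroup Ω)
  Q : Subgroup Ω
  hS : IsPGroup p (⊤ : Subgroup Ω)
  hsat : F.IsSaturated p
  hQn : F.IsNormal Q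
  hQc : F.IsCentric Q

variable {p : ℕ} (C : Ctx Ω p)

namespace Ctx

instance Qnormal : C.Q.Normal := by
  rw [← Subgroup.normalizer_eq_top_iff]
  exact top_le_iff.mp (le_normalizer_of_isNormal C.F C.hQn)

/-- `Aut_F(Q)` as a type -/
abbrev A := ↥(C.F.autGroup C.Q)

theorem conj_mem_autGroup (g : Ω) :
    (MulAut.conjNormal g : MulAut C.Q) ∈ C.F.autGroup C.Q := by
  rw [mem_autGroup_iff C.F le_top]
  have h := C.F.conj_mem (P := C.Q) (g := g) le_top (Subgroup.mem_top g)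
  have e : autHom (MulAut.conjNormal g : MulAut C.Q) = conjHom C.Q g := by
    ext q
    simp [autHom, conjHom, MulAut.conjNormal_apply]
  rw [e]
  exact h

/-- conjugation `Ω → Aut_F(Q)` -/
def π : Ω →* C.A :=
  (MulAut.conjNormal (H := C.Q)).codRestrict (C.F.autGroup C.Q) C.conj_mem_autGroup

theorem π_apply (g : Ω) (q : C.Q) : (((C.π g : C.A) : MulAut C.Q) q : Ω) = g * q * g⁻¹ :=
  MulAut.conjNormal_apply g q

/-- `Z(Q)` as an abstract commutative group -/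
abbrev M := ↥(Subgroup.center ↥C.Q)

/-- inclusion of `Z(Q)` -/
def i : C.M →* Ω := C.Q.subtype.comp (Subgroup.center ↥C.Q).subtype

theorem i_injective : Function.Injective C.i := by
  intro a b h
  apply Subtype.ext
  apply Subtype.ext
  exact h

theorem i_mem (z : C.M) : C.i z ∈ C.Q := z.1.2

theorem A_ext {a b : C.A} (h : ∀ q : C.Q, ((a : MulAut C.Q) q : Ω) = (b : MulAut C.Q) q) : a = b := by
  apply Subtype.ext
  apply MulEquiv.ext
  intro q
  exact Subtype.ext (h q)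

theorem π_i (z : C.M) : C.π (C.i z) = 1 := by
  apply C.A_ext
  intro q
  rw [π_apply]
  have h := Subgroup.mem_center_iff.mp z.2 q
  have h2 : (q : Ω) * C.i z = C.i z * q := congrArg Subtype.val h
  show C.i z * q * (C.i z)⁻¹ = q
  rw [← h2]
  group

theorem mem_range_i_of_π (s : Ω) (hs : C.π s = 1) : s ∈ C.i.range := by
  have hcomm : ∀ q : C.Q, s * q * s⁻¹ = q := by
    intro q
    have := C.π_apply s q
    rw [hs] at this
    exact this.symm
  have hsQ : s ∈ C.Q := by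
    apply C.hQc.2 C.Q (isConj_refl C.F C.hQc.1)
    refine ⟨Subgroup.mem_top s, ?_⟩
    show s ∈ Subgroup.centralizer (C.Q : Set Ω)
    rw [Subgroup.mem_centralizer_iff]
    intro q hq
    have := hcomm ⟨q, hq⟩
    calc q * s = (s * q * s⁻¹) * s := by rw [this]
      _ = s * q := by group
  refine ⟨⟨⟨s, hsQ⟩, ?_⟩, rfl⟩
  rw [Subgroup.mem_center_iff]
  intro q
  apply Subtype.ext
  show (q : Ω) * s = s * q
  have := hcomm q
  calc (q : Ω) * s = (s * q * s⁻¹) * s := by rw [this]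
    _ = s * q := by group

/-- action of `Aut_F(Q)` on `Z(Q)` -/
def act : C.A →* MulAut C.M := centerAut.comp (C.F.autGroup C.Q).subtype

theorem i_act (a : C.A) (z : C.M) : C.i (C.act a z) = ((a : MulAut C.Q) z.1 : Ω) := rfl

theorem hact (s : Ω) (z : C.M) : s * C.i z * s⁻¹ = C.i (C.act (C.π s) z) := by
  rw [i_act, π_apply]
  rfl

/-! ### The coset space -/

/-- image of `Ω` in `Aut_F(Q)` -/
abbrev Pbar : Subgroup C.A := C.π.range

/-- the coset space -/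
abbrev X := C.A ⧸ C.Pbar

/-- the right action on cosets -/
def ra (x : C.X) (a : C.A) : C.X := a⁻¹ • x

theorem ra_one (x : C.X) : C.ra x 1 = x := by
  unfold ra
  rw [inv_one, one_smul]

theorem ra_mul (x : C.X) (a b : C.A) : C.ra (C.ra x a) b = C.ra x (a * b) := by
  unfold ra
  rw [mul_inv_rev, mul_smul]

/-- base point -/
def x₀ : C.X := QuotientGroup.mk (1 : C.A)

theorem hstab (a : C.A) (h : C.ra C.x₀ a = C.x₀) : a ∈ C.π.range := by
  unfold ra x₀ at h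
  rw [MulAction.Quotient.smul_mk, smul_eq_mul, mul_one, QuotientGroup.eq] at h
  simpa using h

theorem hstab' (a : C.A) (h : a ∈ C.π.range) : C.ra C.x₀ a = C.x₀ := by
  unfold ra x₀
  rw [MulAction.Quotient.smul_mk, smul_eq_mul, mul_one, QuotientGroup.eq]
  simpa using h

/-- a transversal -/
noncomputable def t₀ (y : C.X) : C.A := (Quotient.out y)⁻¹

theorem ht₀ (y : C.X) : C.ra C.x₀ (C.t₀ y) = y := by
  unfold ra x₀ t₀
  rw [inv_inv, MulAction.Quotient.smul_mk, smul_eq_mul, mul_one]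
  exact QuotientGroup.out_eq' y

theorem ra_t₀_inv (y : C.X) : C.ra y (C.t₀ y)⁻¹ = C.x₀ := by
  have h := C.ra_mul C.x₀ (C.t₀ y) (C.t₀ y)⁻¹
  rw [C.ht₀, mul_inv_cancel, C.ra_one] at h
  exact h

/-- inner automorphisms act trivially on the coset space -/
theorem ra_π_of_mem (x : C.X) {q : Ω} (hq : q ∈ C.Q) : C.ra x (C.π q) = x := by
  obtain ⟨b, rfl⟩ := QuotientGroup.mk_surjective x
  unfold ra
  rw [MulAction.Quotient.smul_mk, smul_eq_mul, QuotientGroup.eq]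
  -- `(π q⁻¹ * b)⁻¹ * b = b⁻¹ π q b = π (b⁻¹ q)`
  refine ⟨((b⁻¹ : C.A) : MulAut C.Q) ⟨q, hq⟩, ?_⟩
  have e : (((C.π q)⁻¹ * b)⁻¹ * b : C.A) = b⁻¹ * C.π q * b := by group
  rw [e]
  apply C.A_ext
  intro r
  rw [π_apply]
  have key : ((b⁻¹ * C.π q * b : C.A) : MulAut C.Q) r =
      (((b⁻¹ : C.A) : MulAut C.Q) ⟨q, hq⟩) * r * (((b⁻¹ : C.A) : MulAut C.Q) ⟨q, hq⟩)⁻¹ := by
    show ((b⁻¹ : C.A) : MulAut C.Q) (((C.π q : C.A) : MulAut C.Q) (((b : C.A) : MulAut C.Q) r)) = _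
    have h1 : (((C.π q : C.A) : MulAut C.Q) ((b : MulAut C.Q) r)) =
        ⟨q, hq⟩ * ((b : MulAut C.Q) r) * ⟨q, hq⟩⁻¹ := by
      apply Subtype.ext
      rw [π_apply]
      rfl
    rw [h1, map_mul, map_mul, map_inv]
    have h2 : ((b⁻¹ : C.A) : MulAut C.Q) ((b : MulAut C.Q) r) = r := by
      show ((b : MulAut C.Q)⁻¹) ((b : MulAut C.Q) r) = r
      simp
    rw [h2]
  rw [key]
  rfl

/-! ### Consequences of saturation -/

section Sat

variable [Finite Ω] [Fact p.Prime]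

theorem automized_receptive : C.F.IsFullyAutomized p C.Q ∧ C.F.IsReceptive C.Q := by
  obtain ⟨Q', hconj, hFA, hRec⟩ := C.hsat C.Q C.hQn.1
  have := eq_of_isConj_of_isNormal C.F C.hQn hconj
  subst this
  exact ⟨hFA, hRec⟩

theorem Pbar_eq :
    C.Pbar = (autInducedBy (⊤ : Subgroup Ω) C.Q).subgroupOf (C.F.autGroup C.Q) := by
  ext a
  rw [Subgroup.mem_subgroupOf, mem_autInducedBy_iff]
  constructor
  · rintro ⟨g, rfl⟩
    exact ⟨g, Subgroup.mem_top g, fun x => C.π_apply g x⟩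
  · rintro ⟨g, -, hg⟩
    refine ⟨g, ?_⟩
    apply C.A_ext
    intro q
    rw [π_apply, hg]

theorem not_dvd_index : ¬ p ∣ C.Pbar.index := by
  obtain ⟨R, hR⟩ := C.automized_receptive.1.2
  rw [Pbar_eq, ← hR]
  exact R.not_dvd_index

/-- domain of the receptive extension of `a` -/
def Na (a : C.A) : Subgroup Ω := extender (⊤ : Subgroup Ω) C.Q (autHom (a : MulAut C.Q))

theorem autHom_mem (a : C.A) : autHom (a : MulAut C.Q) ∈ C.F.Hom C.Q :=
  (mem_autGroup_iff C.F le_top _).mp a.2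

theorem exists_ext (a : C.A) :
    ∃ ψ ∈ C.F.Hom (C.Na a), ∀ (x : Ω) (hP : x ∈ C.Q) (hN : x ∈ C.Na a),
      ψ ⟨x, hN⟩ = (((a : MulAut C.Q) ⟨x, hP⟩ : C.Q) : Ω) :=
  C.automized_receptive.2.2 C.Q (autHom (a : MulAut C.Q)) (C.autHom_mem a) (autHom_range _)

/-- the receptive extension of `a` -/
noncomputable def ext (a : C.A) : ↥(C.Na a) →* Ω := (C.exists_ext a).choose

theorem ext_mem (a : C.A) : C.ext a ∈ C.F.Hom (C.Na a) := (C.exists_ext a).choose_spec.1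

theorem ext_Q (a : C.A) (x : Ω) (hP : x ∈ C.Q) (hN : x ∈ C.Na a) :
    C.ext a ⟨x, hN⟩ = (((a : MulAut C.Q) ⟨x, hP⟩ : C.Q) : Ω) :=
  (C.exists_ext a).choose_spec.2 x hP hN

theorem Q_le_Na (a : C.A) : C.Q ≤ C.Na a :=
  le_extender le_top _ (fun x => Subgroup.mem_top _)

theorem mem_Na (a : C.A) (u h : Ω) (hh : a * C.π u = C.π h * a) : u ∈ C.Na a := by
  apply Subgroup.subset_closure
  refine ⟨Subgroup.mem_top u, ?_, h, Subgroup.mem_top h, ?_⟩
  · rw [Subgroup.normalizer_eq_top]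
    exact Subgroup.mem_top u
  · intro x hx
    have h1 : (⟨u * (x : Ω) * u⁻¹, hx⟩ : C.Q) = ((C.π u : C.A) : MulAut C.Q) x := by
      apply Subtype.ext
      rw [π_apply]
    rw [h1]
    show ((((a : MulAut C.Q) (((C.π u : C.A) : MulAut C.Q) x)) : C.Q) : Ω) =
      h * (((a : MulAut C.Q) x : C.Q) : Ω) * h⁻¹
    rw [← π_apply]
    have h2 := congrArg (fun b : C.A => (((b : MulAut C.Q) x : C.Q) : Ω)) hh
    exact h2

/-- an `F`-map on an overgroup of `Q` is compatible with `π` -/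
theorem π_map {P : Subgroup Ω} {ψ : P →* Ω} (hQP : C.Q ≤ P) (a : C.A)
    (ha : ∀ q : C.Q, ψ ⟨q, hQP q.2⟩ = (((a : MulAut C.Q) q : C.Q) : Ω)) (u : P) :
    C.π (ψ u) = a * C.π u * a⁻¹ := by
  rw [eq_mul_inv_iff_mul_eq]
  apply C.A_ext
  intro q
  show ((((C.π (ψ u) : C.A) : MulAut C.Q) ((a : MulAut C.Q) q) : C.Q) : Ω) =
    (((a : MulAut C.Q) (((C.π u : C.A) : MulAut C.Q) q) : C.Q) : Ω)
  rw [π_apply, ← ha, ← ha]
  have h1 : (⟨((((C.π u : C.A) : MulAut C.Q) q : C.Q) : Ω), hQP (Subtype.property _)⟩ : P) =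
      u * ⟨q, hQP q.2⟩ * u⁻¹ := by
    apply Subtype.ext
    rw [π_apply]
    rfl
  rw [h1, map_mul, map_mul, map_inv]

/-! ### The adapted transversal and the embedding data -/

theorem exists_rep_n : ∃ (rep : C.X → C.X) (n : C.X → Ω),
    (∀ x, C.ra (rep x) (C.π (n x)) = x) ∧ ∀ x (u : Ω), rep (C.ra x (C.π u)) = rep x :=
  exists_orbit_rep (fun x (u : Ω) => C.ra x (C.π u))
    (fun x => by rw [map_one, C.ra_one])
    (fun x u v => by rw [C.ra_mul, map_mul])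

/-- orbit representatives of `Ω` on the coset space -/
noncomputable def rep : C.X → C.X := C.exists_rep_n.choose

/-- elements moving the representative to the point -/
noncomputable def n : C.X → Ω := C.exists_rep_n.choose_spec.choose

theorem hn (x : C.X) : C.ra (C.rep x) (C.π (C.n x)) = x :=
  C.exists_rep_n.choose_spec.choose_spec.1 x

theorem hrep (x : C.X) (u : Ω) : C.rep (C.ra x (C.π u)) = C.rep x :=
  C.exists_rep_n.choose_spec.choose_spec.2 x u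

theorem ra_n_inv (x : C.X) : C.ra x (C.π (C.n x))⁻¹ = C.rep x := by
  have h := C.ra_mul (C.rep x) (C.π (C.n x)) (C.π (C.n x))⁻¹
  rw [C.hn, mul_inv_cancel, C.ra_one] at h
  exact h

/-- the adapted transversal -/
noncomputable def t (x : C.X) : C.A := C.t₀ (C.rep x) * C.π (C.n x)

theorem ht (x : C.X) : C.ra C.x₀ (C.t x) = x := by
  rw [t, ← C.ra_mul, C.ht₀, C.hn]

theorem stab_le_Na (y : C.X) (u : Ω) (hu : C.ra y (C.π u) = y) : u ∈ C.Na (C.t₀ y) := by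
  have h1 : C.ra C.x₀ (C.t₀ y * C.π u * (C.t₀ y)⁻¹) = C.x₀ := by
    rw [← C.ra_mul, ← C.ra_mul, C.ht₀, hu, C.ra_t₀_inv]
  obtain ⟨h, hh⟩ := C.hstab _ h1
  apply C.mem_Na (C.t₀ y) u h
  rw [hh]
  group

open Classical in
/-- total-function version of the receptive extension of `t₀ y` -/
noncomputable def dl (y : C.X) (u : Ω) : Ω :=
  if h : u ∈ C.Na (C.t₀ y) then C.ext (C.t₀ y) ⟨u, h⟩ else 1

open Classical in
theorem dl_of_mem (y : C.X) (u : Ω) (h : u ∈ C.Na (C.t₀ y)) :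
    C.dl y u = C.ext (C.t₀ y) ⟨u, h⟩ := dif_pos h

theorem dl_mul (y : C.X) (u v : Ω) (hu : u ∈ C.Na (C.t₀ y)) (hv : v ∈ C.Na (C.t₀ y)) :
    C.dl y (u * v) = C.dl y u * C.dl y v := by
  rw [C.dl_of_mem y u hu, C.dl_of_mem y v hv, C.dl_of_mem y (u * v) (Subgroup.mul_mem _ hu hv),
    ← map_mul]
  rfl

theorem dl_Q (y : C.X) (q : Ω) (hq : q ∈ C.Q) :
    C.dl y q = ((((C.t₀ y : C.A) : MulAut C.Q) ⟨q, hq⟩ : C.Q) : Ω) := by
  rw [C.dl_of_mem y q (C.Q_le_Na _ hq)]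
  exact C.ext_Q _ q hq _

theorem π_dl (y : C.X) (u : Ω) (hu : u ∈ C.Na (C.t₀ y)) :
    C.π (C.dl y u) = C.t₀ y * C.π u * (C.t₀ y)⁻¹ := by
  rw [C.dl_of_mem y u hu]
  exact C.π_map (C.Q_le_Na _) (C.t₀ y) (fun q => C.ext_Q _ q q.2 _) ⟨u, hu⟩

/-- the components of the embedding -/
noncomputable def jf (s : Ω) (x : C.X) : Ω :=
  C.dl (C.rep x) (C.n x * s * (C.n (C.ra x (C.π s)))⁻¹)

theorem jf_stab (s : Ω) (x : C.X) :
    C.ra (C.rep x) (C.π (C.n x * s * (C.n (C.ra x (C.π s)))⁻¹)) = C.rep x := by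
  rw [map_mul, map_mul, map_inv, ← C.ra_mul, ← C.ra_mul, C.hn, C.ra_n_inv, C.hrep]

theorem jf_mem (s : Ω) (x : C.X) :
    C.n x * s * (C.n (C.ra x (C.π s)))⁻¹ ∈ C.Na (C.t₀ (C.rep x)) :=
  C.stab_le_Na _ _ (C.jf_stab s x)

theorem j1 (s : Ω) (x : C.X) :
    C.π (C.jf s x) = C.t x * C.π s * (C.t (C.ra x (C.π s)))⁻¹ := by
  unfold jf
  rw [C.π_dl _ _ (C.jf_mem s x), t, t, C.hrep, map_mul, map_mul, map_inv]
  group

theorem j2 (s s' : Ω) (x : C.X) :
    C.jf (s * s') x = C.jf s x * C.jf s' (C.ra x (C.π s)) := by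
  unfold jf
  have h2 := C.jf_mem s' (C.ra x (C.π s))
  rw [C.hrep] at h2 ⊢
  rw [← C.dl_mul _ _ _ (C.jf_mem s x) h2, C.ra_mul, map_mul]
  congr 1
  group

theorem j3 (z : C.M) (x : C.X) : C.jf (C.i z) x = C.i (C.act (C.t x) z) := by
  unfold jf
  rw [C.π_i, C.ra_one, C.hact, t, map_mul, MulAut.mul_apply, i_act (a := C.t₀ (C.rep x))]
  exact C.dl_Q _ _ (C.i_mem _)

section Data

theorem isPGroup_M : IsPGroup p C.M := by
  have h : Function.Injective
      ((C.i.codRestrict (⊤ : Subgroup Ω) (fun z => Subgroup.mem_top _))) := by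
    intro a b hab
    exact C.i_injective (congrArg (fun w : (⊤ : Subgroup Ω) => (w : Ω)) hab)
  exact C.hS.of_injective _ h

noncomputable instance : Fintype C.X := Fintype.ofFinite _

theorem card_X : Fintype.card C.X = C.Pbar.index := by
  rw [Subgroup.index, Nat.card_eq_fintype_card]

/-- the data for the core construction -/
noncomputable def data : ModelCore.MData Ω C.A C.M C.X where
  π := C.π
  i := C.i
  hi := C.i_injective
  hker := C.mem_range_i_of_π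
  hker' := C.π_i
  act := C.act
  hact := C.hact
  ra := C.ra
  ra_one := C.ra_one
  ra_mul := C.ra_mul
  x₀ := C.x₀
  hstab := C.hstab
  t := C.t
  ht := C.ht
  hm := by
    have h : ¬ p ∣ Fintype.card C.X := by
      rw [C.card_X]
      exact C.not_dvd_index
    exact (C.isPGroup_M.powEquiv' h).bijective
  jf := C.jf
  j1 := C.j1
  j2 := C.j2
  j3 := C.j3

end Data

/-! ### Maps of the system as total functions -/

/-- `f` restricted to `P` is a map of the system -/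
def FMap (P : Subgroup Ω) (f : Ω → Ω) : Prop := ∃ φ ∈ C.F.Hom P, ∀ x : P, φ x = f x

theorem fmap_conj (P : Subgroup Ω) (g : Ω) : C.FMap P (fun u => g * u * g⁻¹) :=
  ⟨conjHom P g, C.F.conj_mem le_top (Subgroup.mem_top g), fun x => by simp [conjHom]⟩

theorem fmap_comp {P P' : Subgroup Ω} {f f' : Ω → Ω} (h₁ : C.FMap P f) (h₂ : C.FMap P' f')
    (hm : ∀ u ∈ P, f u ∈ P') : C.FMap P (fun u => f' (f u)) := by
  obtain ⟨φ, hφ, hf⟩ := h₁
  obtain ⟨φ', hφ', hf'⟩ := h₂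
  have h : ∀ x : P, φ x ∈ P' := fun x => by rw [hf]; exact hm x x.2
  refine ⟨φ'.comp (φ.codRestrict P' h), C.F.comp_mem hφ hφ' h, fun x => ?_⟩
  show φ' ⟨φ x, h x⟩ = f' (f x)
  rw [hf']
  show f' (φ x) = _
  rw [hf]

theorem fmap_restrict {P₀ P : Subgroup Ω} (hle : P₀ ≤ P) {f : Ω → Ω} (h : C.FMap P f) :
    C.FMap P₀ f := by
  obtain ⟨φ, hφ, hf⟩ := h
  exact ⟨φ.comp (Subgroup.inclusion hle), restrict_mem C.F hle hφ, fun x => hf _⟩

theorem fmap_congr {P : Subgroup Ω} {f f' : Ω → Ω} (h : C.FMap P f)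
    (he : ∀ u ∈ P, f u = f' u) : C.FMap P f' := by
  obtain ⟨φ, hφ, hf⟩ := h
  exact ⟨φ, hφ, fun x => (hf x).trans (he x x.2)⟩

theorem fmap_dl (y : C.X) : C.FMap (C.Na (C.t₀ y)) (C.dl y) :=
  ⟨C.ext _, C.ext_mem _, fun x => (C.dl_of_mem y x x.2).symm⟩

/-- evaluation of an automorphism on an element of `Q`, in `Ω` -/
def ev (b : C.A) (q : Ω) (hq : q ∈ C.Q) : Ω := (((b : MulAut C.Q) ⟨q, hq⟩ : C.Q) : Ω)

theorem ev_mem (b : C.A) (q : Ω) (hq : q ∈ C.Q) : C.ev b q hq ∈ C.Q := Subtype.property _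

theorem ev_mul (b c : C.A) (q : Ω) (hq : q ∈ C.Q) :
    C.ev (b * c) q hq = C.ev b (C.ev c q hq) (C.ev_mem c q hq) := rfl

theorem π_ev (g q : Ω) (hq : q ∈ C.Q) : g * q * g⁻¹ = C.ev (C.π g) q hq :=
  (C.π_apply g ⟨q, hq⟩).symm

theorem dl_ev (y : C.X) (q : Ω) (hq : q ∈ C.Q) : C.dl y q = C.ev (C.t₀ y) q hq :=
  C.dl_Q y q hq

theorem π_ev_center (b : C.A) (z : Ω) (hz : z ∈ C.Q)
    (hzc : z ∈ Subgroup.centralizer (C.Q : Set Ω)) : C.π (C.ev b z hz) = 1 := by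
  have hzc' : (⟨z, hz⟩ : C.Q) ∈ Subgroup.center ↥C.Q := by
    rw [Subgroup.mem_center_iff]
    intro g
    apply Subtype.ext
    exact Subgroup.mem_centralizer_iff.mp hzc g g.2
  have : C.ev b z hz = C.i (C.act b ⟨⟨z, hz⟩, hzc'⟩) := rfl
  rw [this, C.π_i]

/-- the stabiliser in `P` of a point, through `ψ` -/
def W {P : Subgroup Ω} (ψ : P →* Ω) (x : C.X) : Subgroup Ω :=
  ((MulAction.stabilizer C.A x).comap (C.π.comp ψ)).map P.subtype

theorem ra_eq_iff (x : C.X) (a : C.A) : C.ra x a = x ↔ a ∈ MulAction.stabilizer C.A x := by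
  rw [← inv_mem_iff, MulAction.mem_stabilizer_iff]
  rfl

theorem mem_W {P : Subgroup Ω} (ψ : P →* Ω) (x : C.X) (u : Ω) :
    u ∈ C.W ψ x ↔ ∃ h : u ∈ P, C.ra x (C.π (ψ ⟨u, h⟩)) = x := by
  unfold W
  rw [Subgroup.mem_map]
  constructor
  · rintro ⟨u', hu', rfl⟩
    refine ⟨u'.2, ?_⟩
    rw [C.ra_eq_iff]
    exact hu'
  · rintro ⟨h, hu⟩
    refine ⟨⟨u, h⟩, ?_, rfl⟩
    rw [C.ra_eq_iff] at hu
    exact hu

theorem W_le {P : Subgroup Ω} (ψ : P →* Ω) (x : C.X) : C.W ψ x ≤ P := by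
  intro u hu
  exact ((C.mem_W ψ x u).mp hu).1

open Classical in
/-- The local compatibility needed by the core construction. -/
theorem Hcond {P : Subgroup Ω} {ψ : P →* Ω} (hψ : ψ ∈ C.F.Hom P) (hQP : C.Q ≤ P) (a : C.A)
    (ha : ∀ q : C.Q, ψ ⟨q, hQP q.2⟩ = (((a : MulAut C.Q) q : C.Q) : Ω)) (x : C.X) :
    ∃ g : Ω, C.π g = C.t x * a * (C.t (C.ra x a))⁻¹ ∧
      ∀ u : P, C.ra x (C.π (ψ u)) = x → g * C.jf u (C.ra x a) = C.jf (ψ u) x * g := by
  -- notation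
  obtain ⟨x', hx'⟩ : ∃ x', x' = C.ra x a := ⟨_, rfl⟩
  rw [← hx']
  obtain ⟨n₁, hn₁⟩ : ∃ n₁, n₁ = C.n x' := ⟨_, rfl⟩
  obtain ⟨n₂, hn₂⟩ : ∃ n₂, n₂ = C.n x := ⟨_, rfl⟩
  -- an element over the cocycle value
  obtain ⟨g₁, hg₁⟩ : ∃ g₁ : Ω, C.π g₁ = C.t x * a * (C.t x')⁻¹ := by
    apply C.hstab
    rw [← C.ra_mul, ← C.ra_mul, C.ht, ← hx']
    have h := C.ra_mul C.x₀ (C.t x') (C.t x')⁻¹
    rw [C.ht, mul_inv_cancel, C.ra_one] at h
    exact h
  -- the total version of `ψ`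
  let ψt : Ω → Ω := fun u => if h : u ∈ P then ψ ⟨u, h⟩ else 1
  have hψt : ∀ (u : Ω) (h : u ∈ P), ψt u = ψ ⟨u, h⟩ := fun u h => dif_pos h
  have fψ : C.FMap P ψt := ⟨ψ, hψ, fun u => (hψt u u.2).symm⟩
  -- facts about elements of `W`
  have hW1 : ∀ (u : Ω) (h : u ∈ P), C.ra x (C.π (ψ ⟨u, h⟩)) = x → C.ra x' (C.π u) = x' := by
    intro u h hu
    have h1 := C.π_map hQP a ha ⟨u, h⟩
    have h2 : a * C.π u = C.π (ψ ⟨u, h⟩) * a := by
      rw [h1]
      group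
    rw [hx', C.ra_mul, h2, ← C.ra_mul, hu]
  have hW2 : ∀ (u : Ω) (h : u ∈ P), C.ra x (C.π (ψ ⟨u, h⟩)) = x →
      C.jf u x' = C.dl (C.rep x') (n₁ * u * n₁⁻¹) := by
    intro u h hu
    unfold jf
    rw [hW1 u h hu, hn₁]
  have hW3 : ∀ (u : Ω) (h : u ∈ P), C.ra x (C.π (ψ ⟨u, h⟩)) = x →
      C.jf (ψ ⟨u, h⟩) x = C.dl (C.rep x) (n₂ * ψ ⟨u, h⟩ * n₂⁻¹) := by
    intro u h hu
    unfold jf
    rw [hu, hn₂]
  have hW4 : ∀ (u : Ω) (h : u ∈ P), C.ra x (C.π (ψ ⟨u, h⟩)) = x →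
      n₁ * u * n₁⁻¹ ∈ C.Na (C.t₀ (C.rep x')) := by
    intro u h hu
    have := C.jf_mem u x'
    rw [hW1 u h hu, ← hn₁] at this
    exact this
  have hW5 : ∀ (u : Ω) (h : u ∈ P), C.ra x (C.π (ψ ⟨u, h⟩)) = x →
      n₂ * ψ ⟨u, h⟩ * n₂⁻¹ ∈ C.Na (C.t₀ (C.rep x)) := by
    intro u h hu
    have := C.jf_mem (ψ ⟨u, h⟩) x
    rw [hu, ← hn₂] at this
    exact this
  -- the two maps
  let f₁ : Ω → Ω := fun u => g₁ * C.dl (C.rep x') (n₁ * u * n₁⁻¹) * g₁⁻¹
  let f₂ : Ω → Ω := fun u => C.dl (C.rep x) (n₂ * ψt u * n₂⁻¹)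
  have F₁ : C.FMap (C.W ψ x) f₁ := by
    have s1 : C.FMap (C.W ψ x) (fun u => n₁ * u * n₁⁻¹) := C.fmap_conj _ n₁
    have s2 := C.fmap_comp s1 (C.fmap_dl (C.rep x')) (by
      intro u hu
      obtain ⟨h, hu'⟩ := (C.mem_W ψ x u).mp hu
      exact hW4 u h hu')
    exact C.fmap_comp s2 (C.fmap_conj ⊤ g₁) (fun u _ => Subgroup.mem_top _)
  have F₂ : C.FMap (C.W ψ x) f₂ := by
    have s1 : C.FMap (C.W ψ x) ψt := C.fmap_restrict (C.W_le ψ x) fψ
    have s2 := C.fmap_comp s1 (C.fmap_conj ⊤ n₂) (fun u _ => Subgroup.mem_top _)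
    exact C.fmap_comp s2 (C.fmap_dl (C.rep x)) (by
      intro u hu
      obtain ⟨h, hu'⟩ := (C.mem_W ψ x u).mp hu
      show n₂ * ψt u * n₂⁻¹ ∈ _
      rw [hψt u h]
      exact hW5 u h hu')
  obtain ⟨φ₁, hφ₁, hf₁⟩ := F₁
  obtain ⟨φ₂, hφ₂, hf₂⟩ := F₂
  -- `Q ≤ W`
  have hψQ : ∀ (q : Ω) (hq : q ∈ C.Q), ψ ⟨q, hQP hq⟩ = C.ev a q hq := fun q hq => ha ⟨q, hq⟩
  have hQW : C.Q ≤ C.W ψ x := by
    intro q hq
    rw [C.mem_W]
    refine ⟨hQP hq, ?_⟩
    rw [hψQ q hq]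
    exact C.ra_π_of_mem x (C.ev_mem a q hq)
  have hWN : C.W ψ x ≤ Subgroup.normalizer (C.Q : Set Ω) := by
    rw [Subgroup.normalizer_eq_top]
    exact le_top
  -- agreement on `Q`
  have hval₁ : ∀ (q : Ω) (hq : q ∈ C.Q), f₁ q = C.ev (C.t x * a) q hq := by
    intro q hq
    show g₁ * C.dl (C.rep x') (n₁ * q * n₁⁻¹) * g₁⁻¹ = _
    rw [C.π_ev n₁ q hq, C.dl_ev _ _ (C.ev_mem _ _ _), C.π_ev g₁ _ (C.ev_mem _ _ _), hg₁,
      ← C.ev_mul, ← C.ev_mul]
    congr 1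
    rw [hn₁]
    unfold t
    group
  have hval₂ : ∀ (q : Ω) (hq : q ∈ C.Q), f₂ q = C.ev (C.t x * a) q hq := by
    intro q hq
    show C.dl (C.rep x) (n₂ * ψt q * n₂⁻¹) = _
    rw [hψt q (hQP hq), hψQ q hq, C.π_ev n₂ _ (C.ev_mem _ _ _), C.dl_ev _ _ (C.ev_mem _ _ _),
      ← C.ev_mul, ← C.ev_mul]
    congr 1
    rw [hn₂]
    unfold t
    group
  have hagree : ∀ u : C.W ψ x, (u : Ω) ∈ C.Q → φ₁ u = φ₂ u := by
    intro u hu
    rw [hf₁, hf₂, hval₁ _ hu, hval₂ _ hu]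
  obtain ⟨z, hzQ, hzC, hz⟩ := agree_on_centric_normal p C.hS C.F C.hsat hQW hWN C.hQc φ₁ φ₂
    hφ₁ hφ₂ hagree
  -- the element
  have hc : φ₁ z = C.ev (C.t x * a) z hzQ := by rw [hf₁, hval₁ _ hzQ]
  have hπc : C.π (φ₁ z) = 1 := by
    rw [hc]
    exact C.π_ev_center _ _ hzQ hzC
  refine ⟨φ₁ z * g₁, ?_, ?_⟩
  · rw [map_mul, hπc, one_mul, hg₁]
  · intro u hu
    have huW : (u : Ω) ∈ C.W ψ x := (C.mem_W ψ x u).mpr ⟨u.2, hu⟩
    have h1 := hz ⟨u, huW⟩
    rw [map_mul, map_mul, map_inv, hf₂, hf₁ ⟨u, huW⟩] at h1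
    have h2 : f₂ (u : Ω) = C.jf (ψ u) x := by
      show C.dl (C.rep x) (n₂ * ψt u * n₂⁻¹) = _
      rw [hψt u u.2, hW3 u u.2 hu]
    have h3 : f₁ (u : Ω) = g₁ * C.jf u x' * g₁⁻¹ := by
      show g₁ * C.dl (C.rep x') (n₁ * u * n₁⁻¹) * g₁⁻¹ = _
      rw [hW2 u u.2 hu]
    have h1' : f₂ (u : Ω) = φ₁ z * f₁ (u : Ω) * (φ₁ z)⁻¹ := h1
    rw [h2, h3] at h1'
    rw [h1']
    group

/-- an `F`-map on an overgroup of `Q` induces an element of `Aut_F(Q)` -/
theorem exists_aut {R : Subgroup Ω} {ψ : R →* Ω} (hψ : ψ ∈ C.F.Hom R) (hQR : C.Q ≤ R) :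
    ∃ a : C.A, ∀ q : C.Q, ψ ⟨q, hQR q.2⟩ = (((a : MulAut C.Q) q : C.Q) : Ω) := by
  have hχ : ψ.comp (Subgroup.inclusion hQR) ∈ C.F.Hom C.Q := restrict_mem C.F hQR hψ
  have hr : (ψ.comp (Subgroup.inclusion hQR)).range = C.Q :=
    eq_of_isConj_of_isNormal C.F C.hQn ⟨_, hχ, rfl⟩
  let α : MulAut C.Q := isoOfHom _ (C.F.injective_of_mem hχ) hr
  have hα : α ∈ C.F.autGroup C.Q := by
    rw [mem_autGroup_iff C.F le_top]
    have e : autHom α = ψ.comp (Subgroup.inclusion hQR) := by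
      ext q
      rfl
    rw [e]
    exact hχ
  exact ⟨⟨α, hα⟩, fun q => rfl⟩

/-- The model theorem over `⊤`. -/
theorem model_top :
    ∃ (G : Type u) (_ : Group G) (ι : (⊤ : Subgroup Ω) →* G), C.F.IsModel p G ι := by
  obtain ⟨G, instG, finG, ι₀, Γ, hinj, hsurj, hΓι, hker, hreal⟩ := ModelCore.exists_model C.data
  have hΓι' : ∀ s : Ω, Γ (ι₀ s) = C.π s := hΓι
  have hker' : ∀ g : G, Γ g = 1 → ∃ z : C.M, g = ι₀ (C.i z) := hker
  -- realisation of maps on overgroups of `Q`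
  have key : ∀ {P : Subgroup Ω} {ψ : P →* Ω} (hψ : ψ ∈ C.F.Hom P) (hQP : C.Q ≤ P) (a : C.A)
      (ha : ∀ q : C.Q, ψ ⟨q, hQP q.2⟩ = (((a : MulAut C.Q) q : C.Q) : Ω)),
      ∃ g : G, Γ g = a ∧ ∀ u : P, g * ι₀ u = ι₀ (ψ u) * g := by
    intro P ψ hψ hQP a ha
    exact hreal a P ψ (C.π_map hQP a ha) (fun x => C.Hcond hψ hQP a ha x)
  have keyA : ∀ a : C.A, ∃ g : G, Γ g = a ∧ ∀ u : C.Na a, g * ι₀ u = ι₀ (C.ext a u) * g :=
    fun a => key (C.ext_mem a) (C.Q_le_Na a) a (fun q => C.ext_Q a q q.2 _)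
  have decomp : ∀ g : G, ∃ (ga : G) (z : C.M), g = ga * ι₀ (C.i z) ∧
      ∀ u : C.Na (Γ g), ga * ι₀ u = ι₀ (C.ext (Γ g) u) * ga := by
    intro g
    obtain ⟨ga, hga, hgau⟩ := keyA (Γ g)
    obtain ⟨z, hz⟩ := hker' (ga⁻¹ * g) (by rw [map_mul, map_inv, hga, inv_mul_cancel])
    refine ⟨ga, z, ?_, hgau⟩
    rw [← hz]
    group
  have hiz : ∀ (z : C.M) (q : C.Q), C.i z * q * (C.i z)⁻¹ = q := by
    intro z q
    have := C.π_apply (C.i z) q
    rw [C.π_i] at this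
    exact this.symm
  -- conjugation on the image of `Q`
  have conjQ : ∀ (g : G) (q : C.Q), g * ι₀ q * g⁻¹ = ι₀ ((((Γ g : C.A) : MulAut C.Q) q : C.Q) : Ω) := by
    intro g q
    obtain ⟨ga, z, hg, hgau⟩ := decomp g
    have h1 := hgau ⟨q, C.Q_le_Na _ q.2⟩
    rw [C.ext_Q _ q q.2] at h1
    have h2 : ι₀ (C.i z) * ι₀ q * (ι₀ (C.i z))⁻¹ = ι₀ q := by
      rw [← map_mul, ← map_inv, ← map_mul, hiz]
    have h3 : ga * ι₀ q * ga⁻¹ = ι₀ ((((Γ g : C.A) : MulAut C.Q) q : C.Q) : Ω) := by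
      have h1' : ga * ι₀ (q : Ω) = ι₀ ((((Γ g : C.A) : MulAut C.Q) q : C.Q) : Ω) * ga := h1
      rw [h1']
      group
    rw [← h3]
    conv_lhs => rw [hg]
    calc ga * ι₀ (C.i z) * ι₀ q * (ga * ι₀ (C.i z))⁻¹
        = ga * (ι₀ (C.i z) * ι₀ q * (ι₀ (C.i z))⁻¹) * ga⁻¹ := by group
      _ = ga * ι₀ q * ga⁻¹ := by rw [h2]
  let ι : (⊤ : Subgroup Ω) →* G := ι₀.comp (⊤ : Subgroup Ω).subtype
  have hιr : ι.range = ι₀.range := by
    ext g
    constructor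
    · rintro ⟨s, rfl⟩
      exact ⟨s, rfl⟩
    · rintro ⟨s, rfl⟩
      exact ⟨⟨s, Subgroup.mem_top s⟩, rfl⟩
  refine ⟨G, instG, ι, finG, ⟨?_, ?_⟩, ?_, ?_⟩
  · intro s s' h
    exact Subtype.ext (hinj h)
  · intro P hP φ hφS
    constructor
    · intro hφ
      obtain ⟨ψ, hψ, hext, -⟩ := C.hQn.2 P φ hφ
      obtain ⟨a, ha⟩ := C.exists_aut hψ (le_sup_right : C.Q ≤ P ⊔ C.Q)
      obtain ⟨g, -, hg⟩ := key hψ le_sup_right a ha
      refine ⟨g, fun x => ?_⟩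
      have h1 := hg (Subgroup.inclusion le_sup_left x)
      rw [hext] at h1
      show ι₀ (φ x) = g * ι₀ x * g⁻¹
      have h1' : g * ι₀ (x : Ω) = ι₀ (φ x) * g := h1
      rw [h1']
      group
    · rintro ⟨g, hg⟩
      have hg' : ∀ x : P, ι₀ (φ x) = g * ι₀ x * g⁻¹ := hg
      obtain ⟨ga, z, hgz, hgau⟩ := decomp g
      have hPN : ∀ x : P, (x : Ω) ∈ C.Na (Γ g) := by
        intro x
        apply C.mem_Na (Γ g) x (φ x)
        have h1 := congrArg Γ (hg' x)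
        rw [map_mul, map_mul, map_inv, hΓι', hΓι'] at h1
        rw [h1]
        group
      have hzN : C.i z ∈ C.Na (Γ g) := C.Q_le_Na _ (C.i_mem z)
      have hcN : ∀ x : P, conjHom P (C.i z) x ∈ C.Na (Γ g) := by
        intro x
        have : conjHom P (C.i z) x = C.i z * x * (C.i z)⁻¹ := by simp [conjHom]
        rw [this]
        exact Subgroup.mul_mem _ (Subgroup.mul_mem _ hzN (hPN x)) (Subgroup.inv_mem _ hzN)
      refine comp_mem' C.F (C.F.conj_mem (P := P) (g := C.i z) le_top (Subgroup.mem_top _))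
        (C.ext_mem (Γ g)) hcN (fun x => ?_)
      apply hinj
      have h1 := hgau ⟨conjHom P (C.i z) x, hcN x⟩
      have h2 : ι₀ (C.ext (Γ g) ⟨conjHom P (C.i z) x, hcN x⟩) =
          ga * ι₀ (conjHom P (C.i z) x) * ga⁻¹ := by
        have h1' : ga * ι₀ (conjHom P (C.i z) x) =
            ι₀ (C.ext (Γ g) ⟨conjHom P (C.i z) x, hcN x⟩) * ga := h1
        rw [h1']
        group
      rw [h2, hg' x]
      have h3 : conjHom P (C.i z) x = C.i z * x * (C.i z)⁻¹ := by simp [conjHom]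
      rw [h3, map_mul, map_mul, map_inv]
      conv_lhs => rw [hgz]
      group
  · -- Sylow
    have hPG : IsPGroup p ι.range := C.hS.of_surjective ι.rangeRestrict ι.rangeRestrict_surjective
    have hcomap : ι.range = C.Pbar.comap Γ := by
      rw [hιr]
      ext g
      rw [Subgroup.mem_comap]
      constructor
      · rintro ⟨s, rfl⟩
        exact ⟨s, (hΓι' s).symm⟩
      · rintro ⟨s, hs⟩
        obtain ⟨z, hz⟩ := hker' (g * (ι₀ s)⁻¹) (by
          rw [map_mul, map_inv, hΓι', ← hs, mul_inv_cancel])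
        refine ⟨C.i z * s, ?_⟩
        rw [map_mul, ← hz]
        group
    have hidx : ¬ p ∣ ι.range.index := by
      rw [hcomap, Subgroup.index_comap_of_surjective _ hsurj]
      exact C.not_dvd_index
    exact ⟨hPG.toSylow hidx, rfl⟩
  · -- centralizer of the core
    have hQGn : (C.Q.map ι₀).Normal := by
      constructor
      rintro _ ⟨q, hq, rfl⟩ g
      rw [conjQ g ⟨q, hq⟩]
      exact ⟨_, Subtype.property _, rfl⟩
    have hΩp : IsPGroup p Ω :=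
      C.hS.of_surjective (⊤ : Subgroup Ω).subtype (fun s => ⟨⟨s, Subgroup.mem_top s⟩, rfl⟩)
    have hQGp : IsPGroup p (C.Q.map ι₀) := (hΩp.to_subgroup C.Q).map ι₀
    have hle : C.Q.map ι₀ ≤ pCore p G := le_sSup ⟨hQGn, hQGp⟩
    intro g hg
    apply hle
    have hg2 : g ∈ Subgroup.centralizer ((C.Q.map ι₀ : Subgroup G) : Set G) :=
      Subgroup.centralizer_le (SetLike.coe_subset_coe.mpr hle) hg
    have ha1 : Γ g = 1 := by
      apply C.A_ext
      intro q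
      have h1 := conjQ g q
      have h2 : g * ι₀ q * g⁻¹ = ι₀ q := by
        have := Subgroup.mem_centralizer_iff.mp hg2 (ι₀ q) ⟨q, q.2, rfl⟩
        rw [← this]
        group
      rw [h2] at h1
      exact (hinj h1).symm
    obtain ⟨z, hz⟩ := hker' g ha1
    rw [hz]
    exact ⟨C.i z, C.i_mem z, rfl⟩

end Sat

end Ctx

end Cfsg.Agent.Helper26.ModelFusion
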