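import Mathlib
import Cfsg.Agent.Helper26.MasterRed
import Cfsg.Agent.Helper26.InnerModel
import Cfsg.Agent.Lead.TNC11
import Cfsg.Agent.S0659
import Cfsg.Agent.S5090

set_option autoImplicit false

/-! The Glauberman–Thompson criterion for fusion systems: for odd `p`, a saturated system is inner
as soon as the normalizer system of `Z(J(S))` is. -/

namespace Cfsg.Agent.Helper26.MasterRed

open Cfsg Cfsg.FusionSystem Cfsg.Agent.Helper25

universe u

section ZJ

variable {Ω : Type u} [Group Ω] (S : Subgroup Ω)

/-- `Z(J(S))` computed inside `S`. -/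
theorem centerThompsonAOf_eq_map_top :
    centerThompsonAOf S = (centerThompsonAOf (⊤ : Subgroup S)).map S.subtype := by
  have h := (Cfsg.Agent.Lead.TNC.zjAFunctor.{u} 2).map S.subtype (⊤ : Subgroup S)
    (S.subtype_injective.injOn)
  rw [← MonoidHom.range_eq_map, Subgroup.range_subtype] at h
  exact h

theorem centerThompsonAOf_subgroupOf :
    (centerThompsonAOf S).subgroupOf S = centerThompsonAOf (⊤ : Subgroup S) := by
  rw [centerThompsonAOf_eq_map_top S]
  exact Subgroup.comap_map_eq_self_of_injective S.subtype_injective _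

theorem centerThompsonAOf_map_eq {G : Type u} [Group G] (ι : S →* G)
    (hinj : Function.Injective ι) :
    ((centerThompsonAOf S).subgroupOf S).map ι = centerThompsonAOf ι.range := by
  have h := (Cfsg.Agent.Lead.TNC.zjAFunctor.{u} 2).map ι (⊤ : Subgroup S) hinj.injOn
  rw [← MonoidHom.range_eq_map] at h
  rw [centerThompsonAOf_subgroupOf S]
  exact h.symm

theorem centerThompsonAOf_le_self : centerThompsonAOf S ≤ S :=
  (Cfsg.Agent.Lead.TNC.zjAFunctor.{u} 2).le S

theorem le_normalizer_centerThompsonAOf_self :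
    S ≤ Subgroup.normalizer ((centerThompsonAOf S : Subgroup Ω) : Set Ω) :=
  Subgroup.le_normalizer.trans ((Cfsg.Agent.Lead.TNC.zjAFunctor.{u} 2).normalizer_le S)

theorem centerThompsonAOf_ne_bot_self {p : ℕ} [Fact p.Prime] [Finite S] (hS : IsPGroup p S)
    (hne : S ≠ ⊥) : centerThompsonAOf S ≠ ⊥ := by
  have htop : (⊤ : Subgroup S) ≠ ⊥ := by
    intro h
    apply hne
    rw [eq_bot_iff]
    intro x hx
    have h1 : (⟨x, hx⟩ : S) ∈ (⊤ : Subgroup S) := Subgroup.mem_top _
    rw [h, Subgroup.mem_bot] at h1
    rw [Subgroup.mem_bot]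
    exact congrArg (fun z : S => (z : Ω)) h1
  have hp' : IsPGroup p ↥(⊤ : Subgroup S) := hS.to_subgroup ⊤
  have h1 := (Cfsg.Agent.Lead.TNC.zjAFunctor.{u} p).ne_bot (⊤ : Subgroup S) hp' htop
  rw [centerThompsonAOf_eq_map_top S]
  intro h
  apply h1
  rwa [Subgroup.map_eq_bot_iff_of_injective _ S.subtype_injective] at h

theorem centerThompsonAOf_characteristic :
    ((centerThompsonAOf S).subgroupOf S).Characteristic := by
  rw [centerThompsonAOf_subgroupOf S, Subgroup.characteristic_iff_map_eq]
  intro φ
  have h := (Cfsg.Agent.Lead.TNC.zjAFunctor.{u} 2).map φ.toMonoidHom (⊤ : Subgroup S)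
    φ.injective.injOn
  rw [Subgroup.map_top_of_surjective φ.toMonoidHom φ.surjective] at h
  exact h.symm

/-- The constrained case: a constrained system with inner normalizer system at `Z(J(S))` is inner,
for odd `p`. -/
theorem inner_of_constrained_zj {p : ℕ} [Fact p.Prime] (hp : p ≠ 2) [Finite S]
    (hS : IsPGroup p S) (F : FusionSystem S) (hcon : F.IsConstrained p)
    (hW : NInner F (centerThompsonAOf S)) : Inner F := by
  obtain ⟨G, _, ι, hM⟩ := Cfsg.Agent.S5090.result p hS F hcon
  obtain ⟨hfin, hreal, ⟨T, hT⟩, hC⟩ := hM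
  have hnpcN := npc_normalizer_of_ninner hS F ι hreal T hT (centerThompsonAOf_le_self S)
    (le_normalizer_centerThompsonAOf_self S) hW
  have he : Subgroup.normalizer
      (((((centerThompsonAOf S).subgroupOf S).map ι : Subgroup G)) : Set G) =
      Subgroup.normalizer ((centerThompsonAOf (T : Subgroup G) : Subgroup G) : Set G) := by
    rw [centerThompsonAOf_map_eq S ι hreal.1, hT]
  have hnpcN' := Cfsg.Agent.Lead.TNC.npc_of_eq he hnpcN
  have hnpc := Cfsg.Agent.S0659.result hp T hnpcN'
  have hpG : IsPGroup p G := isPGroup_of_npc hnpc hC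
  have hTtop : (⊤ : Subgroup G) = (T : Subgroup G) :=
    T.is_maximal' (hpG.to_subgroup ⊤) le_top
  have hsurj : Function.Surjective ι := by
    rw [← MonoidHom.range_eq_top, ← hT, hTtop]
  exact inner_of_realized_surjective F ι hreal hsurj

end ZJ

/-- The hypotheses of the reduction theorem for `Z(J(S))`, `p` odd. -/
theorem redHyp_zj {p : ℕ} [Fact p.Prime] (hp : p ≠ 2) :
    RedHyp.{u} p (fun _ _ _ _ => True) (fun _ _ S F => NInner F (centerThompsonAOf S)) where
  fr_norm := fun _ _ _ _ _ _ _ _ _ _ => trivial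
  fr_factor := fun _ _ _ _ _ _ _ _ _ _ _ _ _ _ _ _ => trivial
  h0_norm := by
    intro Ω _ S _ hS F hF U hU hSN _ h
    have hNS : normalizerIn S U = S := le_antisymm inf_le_left (fun x hx => ⟨hx, hSN hx⟩)
    have hW : centerThompsonAOf (normalizerIn S U) = centerThompsonAOf S := by rw [hNS]
    show NInner (normalizerSystem F U hU) (centerThompsonAOf (normalizerIn S U))
    rw [hW]
    exact ninner_norm F hSN _ (normalizerSystem_isNormalizerSystem F U hU) h
  h0_char := by
    intro Ω _ S _ hS F hF hne _ h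
    exact h _ (centerThompsonAOf_le_self S) (centerThompsonAOf_ne_bot_self S hS hne)
      (centerThompsonAOf_characteristic S)
  constrained := by
    intro Ω _ S _ hS F hcon _ h
    exact inner_of_constrained_zj S hp hS F hcon h

/-- The Glauberman–Thompson criterion: for odd `p`, a saturated system with inner normalizer
system at `Z(J(S))` is inner. -/
theorem inner_of_ninner_zj {p : ℕ} [Fact p.Prime] (hp : p ≠ 2) {Ω : Type u} [Group Ω]
    {S : Subgroup Ω} [Finite S] (hS : IsPGroup p S) (F : FusionSystem S) (hF : F.IsSaturated p)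
    (h : NInner F (centerThompsonAOf S)) : Inner F :=
  master (redHyp_zj.{u} hp) (Nat.card S) Ω S rfl hS F hF trivial h

end Cfsg.Agent.Helper26.MasterRed
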