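import Mathlib
import Cfsg.Agent.Helper26.ZJFusion

set_option autoImplicit false

/-! For odd `p`, a saturated fusion system that is not inner contains a constrained saturated
subsystem over the same group that is not inner. -/

namespace Cfsg.Agent.Helper26.MasterRed

open Cfsg Cfsg.FusionSystem Cfsg.Agent.Helper25

universe u

section Cast

variable {Ω : Type*} [Group Ω] {S : Subgroup Ω}

theorem castSystem_props {T : Subgroup Ω} (h : T = S) (E : FusionSystem T) (p : ℕ) :
    ((castSystem h E).IsSaturated p ↔ E.IsSaturated p) ∧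
      (∀ Q : Subgroup Ω, (castSystem h E).IsNormal Q ↔ E.IsNormal Q) ∧
      (Inner (castSystem h E) ↔ Inner E) := by
  subst h
  exact ⟨Iff.rfl, fun _ => Iff.rfl, Iff.rfl⟩

end Cast

variable {Ω : Type u} [Group Ω] {S : Subgroup Ω}

/-- The normalizer system of `U ⊴ S`, as a system over `S`. -/
theorem exists_normalizer_over [Finite S] (p : ℕ) [Fact p.Prime] (hS : IsPGroup p S)
    (E : FusionSystem S) (hE : E.IsSaturated p) {U : Subgroup Ω} (hU : U ≤ S)
    (hSN : S ≤ Subgroup.normalizer (U : Set Ω)) :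
    ∃ E' : FusionSystem S, E' ≤ E ∧ E'.IsSaturated p ∧ E'.IsNormal U ∧
      (Inner E' → NInner E U) := by
  have hNS : normalizerIn S U = S := le_antisymm inf_le_left (fun x hx => ⟨hx, hSN hx⟩)
  have hN := normalizerSystem_isNormalizerSystem E U hU
  have hfn := isFullyNormalized_of_normal E hU hSN
  have hsat := normalizerSystem_isSaturated p hS E hE U hfn _ hN
  have hnorm := normalizerSystem_isNormal E hU _ hN
  obtain ⟨h1, h2, h3⟩ := castSystem_props hNS (normalizerSystem E U hU) p
  refine ⟨castSystem hNS (normalizerSystem E U hU), ?_, h1.mpr hsat, (h2 U).mpr hnorm, ?_⟩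
  · intro P φ hφ
    rw [castSystem_Hom, hN P] at hφ
    exact hφ.1
  · intro hin
    exact (ninner_iff E U _ hN).mp (h3.mp hin)

/-- A saturated system (p odd) with a nontrivial normal subgroup `Q`, all of whose normalizer
systems at subgroups `U ⊴ S` properly containing `Q` are inner, is constrained. -/
theorem isConstrained_of_ninner_above [Finite S] {p : ℕ} [Fact p.Prime] (hp : p ≠ 2)
    (hS : IsPGroup p S) (E : FusionSystem S) (hE : E.IsSaturated p) {Q : Subgroup Ω}
    (hQ : E.IsNormal Q)
    (habove : ∀ U : Subgroup Ω, U ≤ S → S ≤ Subgroup.normalizer (U : Set Ω) → Q ≤ U → Q ≠ U →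
      NInner E U) : E.IsConstrained p := by
  have hQS : Q ≤ S := hQ.1
  have hSN : S ≤ Subgroup.normalizer (Q : Set Ω) := le_normalizer_of_isNormal E hQ
  have hsc := stronglyClosed_of_isNormal E hQ
  have hQn : (Q.subgroupOf S).Normal := Subgroup.normal_subgroupOf_of_le_normalizer hSN
  have hker : ∀ s : S, QuotientGroup.mk' (Q.subgroupOf S) s = 1 ↔ (s : Ω) ∈ Q := by
    intro s
    rw [QuotientGroup.mk'_apply, QuotientGroup.eq_one_iff]
    rfl
  have hrange : (QuotientGroup.mk' (Q.subgroupOf S)).range = ⊤ :=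
    MonoidHom.range_eq_top.mpr (QuotientGroup.mk'_surjective _)
  have hfs := factorSystem_isFactorSystem E hsc (QuotientGroup.mk' (Q.subgroupOf S)) hker hrange
  obtain ⟨E', hE'e⟩ : ∃ E' : FusionSystem (⊤ : Subgroup (↥S ⧸ Q.subgroupOf S)),
      E' = factorSystem E hsc (QuotientGroup.mk' (Q.subgroupOf S)) hker hrange := ⟨_, rfl⟩
  rw [← hE'e] at hfs
  have hiff := hfs.2.2.2
  have hS' : IsPGroup p ↥(⊤ : Subgroup (↥S ⧸ Q.subgroupOf S)) :=
    (hS.to_quotient (Q.subgroupOf S)).to_subgroup ⊤
  have hE'sat : E'.IsSaturated p :=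
    factor_isSaturated E hsc (QuotientGroup.mk' (Q.subgroupOf S)) hker hrange E' hiff p hS hE
  have hinner' : Inner E' := by
    by_cases h1 : Nat.card ↥(⊤ : Subgroup (↥S ⧸ Q.subgroupOf S)) = 1
    · exact inner_of_card_eq_one E' h1
    · have htop : (⊤ : Subgroup (↥S ⧸ Q.subgroupOf S)) ≠ ⊥ := by
        intro h
        apply h1
        rw [h]
        exact Subgroup.card_bot
      apply inner_of_ninner_zj hp hS' E' hE'sat
      have hU'n : (⊤ : Subgroup (↥S ⧸ Q.subgroupOf S)) ≤ Subgroup.normalizer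
          ((centerThompsonAOf (⊤ : Subgroup (↥S ⧸ Q.subgroupOf S)) :
            Subgroup (↥S ⧸ Q.subgroupOf S)) : Set (↥S ⧸ Q.subgroupOf S)) :=
        le_normalizer_centerThompsonAOf_self _
      have hU'1 := centerThompsonAOf_ne_bot_self (⊤ : Subgroup (↥S ⧸ Q.subgroupOf S)) hS' htop
      apply ninner_factor E (QuotientGroup.mk' (Q.subgroupOf S)) hrange E' hiff hU'n
      apply habove _ (preimageAlong_le _ _)
      · intro g hg
        apply mem_normalizer_preimageAlong (QuotientGroup.mk' (Q.subgroupOf S)) _ ⟨g, hg⟩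
        exact hU'n (Subgroup.mem_top _)
      · exact ker_le_preimageAlong _ hQS hker _
      · intro h
        apply hU'1
        rw [eq_bot_iff]
        intro y hy
        obtain ⟨x, hx⟩ := QuotientGroup.mk'_surjective (Q.subgroupOf S) y
        have hxU : (x : Ω) ∈ preimageAlong (QuotientGroup.mk' (Q.subgroupOf S))
            (centerThompsonAOf (⊤ : Subgroup (↥S ⧸ Q.subgroupOf S))) := by
          rw [mem_preimageAlong]
          exact ⟨x.2, by rw [Subtype.coe_eta, hx]; exact hy⟩
        rw [← h] at hxU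
        rw [Subgroup.mem_bot, ← hx]
        exact (hker x).mpr hxU
  have hmod : InnerMod E Q :=
    innerMod_of_factor_inner E hsc (QuotientGroup.mk' (Q.subgroupOf S)) hker hrange E' hiff hinner'
  exact isConstrained_of_innerMod p hS E hE hQ hmod

/-- For odd `p`, a saturated system that is not inner contains a constrained saturated
subsystem over the same group that is not inner. -/
theorem exists_constrained_sub [Finite S] {p : ℕ} [Fact p.Prime] (hp : p ≠ 2)
    (hS : IsPGroup p S) (F : FusionSystem S) (hF : F.IsSaturated p) (hne : ¬ Inner F) :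
    ∃ E : FusionSystem S, E ≤ F ∧ E.IsConstrained p ∧ ¬ Inner E := by
  have hS1 : S ≠ ⊥ := by
    intro h
    apply hne
    apply inner_of_card_eq_one
    rw [h]
    exact Subgroup.card_bot
  let T : Set ℕ := {m | ∃ (E : FusionSystem S) (Q : Subgroup Ω), E ≤ F ∧ E.IsSaturated p ∧
    ¬ Inner E ∧ E.IsNormal Q ∧ Q ≠ ⊥ ∧ Nat.card Q = m}
  have hTne : T.Nonempty := by
    obtain ⟨E', h1, h2, h3, h4⟩ := exists_normalizer_over p hS F hF (centerThompsonAOf_le_self S)
      (le_normalizer_centerThompsonAOf_self S)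
    refine ⟨_, E', _, h1, h2, ?_, h3, centerThompsonAOf_ne_bot_self S hS hS1, rfl⟩
    intro hin
    exact hne (inner_of_ninner_zj hp hS F hF (h4 hin))
  have hbdd : BddAbove T := by
    refine ⟨Nat.card S, ?_⟩
    rintro m ⟨E, Q, -, -, -, hQ, -, rfl⟩
    exact card_le_of_le hQ.1
  obtain ⟨E, Q, hEF, hEsat, hEni, hQ, hQ1, hQc⟩ := Nat.sSup_mem hTne hbdd
  refine ⟨E, hEF, ?_, hEni⟩
  apply isConstrained_of_ninner_above hp hS E hEsat hQ
  intro U hU hSNU hQU hne'
  obtain ⟨E', h1, h2, h3, h4⟩ := exists_normalizer_over p hS E hEsat hU hSNU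
  apply h4
  by_contra hni
  have hU1 : U ≠ ⊥ := by
    intro h
    apply hQ1
    rw [eq_bot_iff, ← h]
    exact hQU
  have hmem : Nat.card U ∈ T :=
    ⟨E', U, fun P => (h1 P).trans (hEF P), h2, hni, h3, hU1, rfl⟩
  have hle : Nat.card U ≤ sSup T := le_csSup hbdd hmem
  have hUfin : Finite U := finite_of_le hU
  have hlt := card_lt_of_lt hQU hne'
  omega

end Cfsg.Agent.Helper26.MasterRed
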