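import Mathlib
import Cfsg.Agent.Helper26.FusionInner

set_option autoImplicit false

/-! Saturated fusion systems over an abelian `p`-group: Burnside's extension, `p'`-automizer, the
fixed points / commutator decomposition. -/

namespace Cfsg.Agent.Helper26

open Cfsg Cfsg.FusionSystem Cfsg.Agent.Helper25

variable {Ω : Type*} [Group Ω] {S : Subgroup Ω}

/-- Over an abelian `S`, every map of a saturated system extends to an element of `Aut_F(S)`. -/
theorem abelian_exists_aut_extension [Finite S] (p : ℕ) [Fact p.Prime] (hS : IsPGroup p S)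
    (F : FusionSystem S) (hF : F.IsSaturated p) (hab : ∀ x ∈ S, ∀ y ∈ S, x * y = y * x)
    {P : Subgroup Ω} {φ : P →* Ω} (hφ : φ ∈ F.Hom P) :
    ∃ α : MulAut S, α ∈ F.autGroup S ∧
      ∀ x : P, ((α ⟨(x : Ω), (F.le_of_mem hφ).1 x.2⟩ : S) : Ω) = φ x := by
  have hPS : P ≤ S := (F.le_of_mem hφ).1
  have hφS : ∀ x, φ x ∈ S := (F.le_of_mem hφ).2
  have hQS : φ.range ≤ S := by rintro _ ⟨x, rfl⟩; exact hφS x
  have hcentS : ∀ R : Subgroup Ω, R ≤ S → centralizerIn S R = S := by
    intro R hR
    apply le_antisymm inf_le_left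
    intro s hs
    refine Subgroup.mem_inf.mpr ⟨hs, ?_⟩
    rw [Subgroup.mem_centralizer_iff]
    intro r hr
    exact hab r (hR hr) s hs
  have hFC : F.IsFullyCentralized φ.range := by
    refine ⟨hQS, fun R hR => ?_⟩
    rw [hcentS _ hQS]
    have : Finite S := inferInstance
    exact Subgroup.card_le_of_le inf_le_left
  have hrec := Cfsg.Agent.S5077.extension_axiom p hS F hF _ hFC
  obtain ⟨ψ, hψ, hψφ⟩ := hrec.2 P φ hφ rfl
  have hext : S = extender S P φ := by
    apply le_antisymm
    · intro g hg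
      apply Subgroup.subset_closure
      have hconj : ∀ x : P, g * (x : Ω) * g⁻¹ = x := by
        intro x
        rw [hab g hg x (hPS x.2)]; group
      have hgC : g ∈ Subgroup.centralizer (P : Set Ω) := by
        rw [Subgroup.mem_centralizer_iff]
        intro x hx
        exact hab x (hPS hx) g hg
      refine ⟨hg, Subgroup.centralizer_le_normalizer _ hgC, 1, S.one_mem, ?_⟩
      · intro x hx
        have : (⟨g * (x : Ω) * g⁻¹, hx⟩ : P) = x := Subtype.ext (hconj x)
        rw [this]; simp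
    · exact (extender_le_normalizerIn P φ).trans inf_le_left
  have hψ' := cast_mem F hext hψ
  set ψ' : S →* Ω := ψ.comp (Subgroup.inclusion hext.le) with hψ'def
  have hr := range_eq_of_hom_top F hψ'
  refine ⟨isoOfHom ψ' (F.injective_of_mem hψ') hr, ?_, ?_⟩
  · rw [mem_autGroup_iff F le_rfl]
    have e : autHom (isoOfHom ψ' (F.injective_of_mem hψ') hr) = ψ' := by ext x; rfl
    rw [e]; exact hψ'
  · intro x
    show ψ' ⟨(x : Ω), hPS x.2⟩ = φ x
    rw [hψ'def]
    simp only [MonoidHom.comp_apply]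
    exact hψφ (x : Ω) x.2 _

/-- Coprime action on an abelian group: fixed points and commutators give a direct decomposition. -/
theorem fixed_comm_decomp {T : Type*} [Group T] [Finite T] (hcomm : ∀ a b : T, a * b = b * a)
    (A : Subgroup (MulAut T)) (hcop : (Nat.card A).Coprime (Nat.card T))
    (C W : Subgroup T) (hC : ∀ x, x ∈ C ↔ ∀ α ∈ A, α x = x)
    (hW : W = Subgroup.closure {y | ∃ x : T, ∃ α ∈ A, y = x⁻¹ * α x}) :
    C ⊓ W = ⊥ ∧ C ⊔ W = ⊤ := by
  classical
  let _ : CommGroup T := { (inferInstance : Group T) with mul_comm := hcomm }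
  have : Fintype A := Fintype.ofFinite A
  let N : T →* T := ∏ α : A, ((α : MulAut T)).toMonoidHom
  have hN : ∀ x, N x = ∏ α : A, (α : MulAut T) x := by
    intro x
    simp only [N, MonoidHom.finsetProd_apply]
    rfl
  -- N is A-invariant
  have hNinv : ∀ β ∈ A, ∀ x, N (β x) = N x := by
    intro β hβ x
    rw [hN, hN]
    refine Fintype.prod_equiv (Equiv.mulRight (⟨β, hβ⟩ : A)) _ _ (fun α => ?_)
    simp
  have hNfix : ∀ β ∈ A, ∀ x, β (N x) = N x := by
    intro β hβ x
    rw [hN, map_prod]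
    refine Fintype.prod_equiv (Equiv.mulLeft (⟨β, hβ⟩ : A)) _ _ (fun α => ?_)
    simp
  have hNC : ∀ x ∈ C, N x = x ^ Nat.card A := by
    intro x hx
    rw [hN]
    have : ∀ α : A, (α : MulAut T) x = x := fun α => (hC x).mp hx α α.2
    simp only [this, Finset.prod_const, Finset.card_univ, Nat.card_eq_fintype_card]
  have hNW : ∀ w ∈ W, N w = 1 := by
    intro w hw
    rw [hW] at hw
    induction hw using Subgroup.closure_induction with
    | mem y hy =>
      obtain ⟨x, α, hα, rfl⟩ := hy
      rw [map_mul, map_inv, hNinv α hα, inv_mul_cancel]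
    | one => exact map_one N
    | mul a b _ _ ha hb => rw [map_mul, ha, hb, one_mul]
    | inv a _ ha => rw [map_inv, ha, inv_one]
  constructor
  · rw [eq_bot_iff]
    intro x hx
    rw [Subgroup.mem_bot]
    have h1 : x ^ Nat.card A = 1 := by rw [← hNC x hx.1, hNW x hx.2]
    have h2 : orderOf x ∣ Nat.card A := orderOf_dvd_of_pow_eq_one h1
    have h3 : orderOf x ∣ Nat.card T := orderOf_dvd_natCard x
    have := Nat.eq_one_of_dvd_coprimes hcop h2 h3
    exact orderOf_eq_one_iff.mp this
  · rw [eq_top_iff]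
    intro x _
    -- x^|A| = N x * ∏ (x⁻¹ α x)⁻¹
    have hNxC : N x ∈ C := (hC _).mpr (fun β hβ => hNfix β hβ x)
    have hprodW : (∏ α : A, (x⁻¹ * (α : MulAut T) x)) ∈ W := by
      apply Subgroup.prod_mem
      intro α _
      rw [hW]
      exact Subgroup.subset_closure ⟨x, α, α.2, rfl⟩
    have hxpow : x ^ Nat.card A = N x * (∏ α : A, (x⁻¹ * (α : MulAut T) x))⁻¹ := by
      rw [hN, Finset.prod_mul_distrib, Finset.prod_const, Finset.card_univ, ← Nat.card_eq_fintype_card]
      rw [mul_inv, inv_pow, inv_inv, mul_comm (x ^ Nat.card A), mul_inv_cancel_left]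
    have hmem : x ^ Nat.card A ∈ C ⊔ W := by
      rw [hxpow]
      exact Subgroup.mul_mem _ (Subgroup.mem_sup_left hNxC) (Subgroup.mem_sup_right (W.inv_mem hprodW))
    have hcop' : (Nat.card T).Coprime (Nat.card A) := hcop.symm
    -- x = (x ^ |A|) ^ k
    have : x ∈ Subgroup.zpowers (x ^ Nat.card A) := by
      have hinv := (powCoprime hcop').left_inv x
      simp only [powCoprime] at hinv
      rw [Subgroup.mem_zpowers_iff]
      exact ⟨_, hinv⟩
    exact (Subgroup.zpowers_le.mpr hmem) this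

/-- Over an abelian `S`, `Aut_F(S)` has order prime to `p`. -/
theorem abelian_autGroup_coprime [Finite S] (p : ℕ) [Fact p.Prime] (hS : IsPGroup p S)
    (F : FusionSystem S) (hF : F.IsSaturated p) (hab : ∀ x ∈ S, ∀ y ∈ S, x * y = y * x) :
    (Nat.card (F.autGroup S)).Coprime (Nat.card S) := by
  have hFA := (Cfsg.Agent.S5077.sylow_axiom p hS F hF S (top_isFullyNormalized F)).2
  rw [isFullyAutomized_iff_card F p le_rfl] at hFA
  have hbot : autInducedBy S S = ⊥ := by
    rw [eq_bot_iff]
    intro α hα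
    rw [mem_autInducedBy_iff] at hα
    obtain ⟨g, hg, hgα⟩ := hα
    rw [Subgroup.mem_bot]
    ext x
    rw [hgα x, hab g hg x x.2]
    simp
  rw [hbot, Subgroup.card_bot] at hFA
  have hfin : Finite (F.autGroup S) := inferInstance
  have hpos : Nat.card (F.autGroup S) ≠ 0 := Nat.card_pos.ne'
  have hnd : ¬ p ∣ Nat.card (F.autGroup S) := by
    intro hd
    have hfac : 1 ≤ (Nat.card (F.autGroup S)).factorization p :=
      ((Fact.out : p.Prime).factorization_pos_of_dvd hpos hd)
    unfold pPart at hFA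
    have : p ^ 1 ≤ p ^ (Nat.card (F.autGroup S)).factorization p :=
      Nat.pow_le_pow_right (Fact.out : p.Prime).pos hfac
    have hp2 := (Fact.out : p.Prime).two_le
    rw [pow_one, ← hFA] at this
    omega
  obtain ⟨m, hm⟩ := IsPGroup.iff_card.mp hS
  rw [hm]
  exact Nat.Coprime.pow_right m (((Fact.out : p.Prime).coprime_iff_not_dvd.mpr hnd).symm)


/-- fixed points of `Aut_F(S)` on `S`. -/
def fixS (F : FusionSystem S) : Subgroup S where
  carrier := {x | ∀ α ∈ F.autGroup S, α x = x}
  mul_mem' := by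
    intro a b ha hb α hα
    rw [map_mul, ha α hα, hb α hα]
  one_mem' := by
    intro α _
    exact map_one α
  inv_mem' := by
    intro a ha α hα
    rw [map_inv, ha α hα]

/-- the commutator `[S, Aut_F(S)]`. -/
def commS (F : FusionSystem S) : Subgroup S :=
  Subgroup.closure {y | ∃ x : S, ∃ α ∈ F.autGroup S, y = x⁻¹ * α x}

theorem abelian_focalSubgroup_eq [Finite S] (p : ℕ) [Fact p.Prime] (hS : IsPGroup p S)
    (F : FusionSystem S) (hF : F.IsSaturated p) (hab : ∀ x ∈ S, ∀ y ∈ S, x * y = y * x) :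
    F.focalSubgroup = (commS F).map S.subtype := by
  apply le_antisymm
  · unfold FusionSystem.focalSubgroup
    rw [Subgroup.closure_le]
    rintro y ⟨P, φ, x, hφ, rfl⟩
    obtain ⟨α, hα, hαφ⟩ := abelian_exists_aut_extension p hS F hF hab hφ
    have hPS : P ≤ S := (F.le_of_mem hφ).1
    refine ⟨(⟨(x : Ω), hPS x.2⟩ : S)⁻¹ * α ⟨(x : Ω), hPS x.2⟩, ?_, ?_⟩
    · exact Subgroup.subset_closure ⟨_, α, hα, rfl⟩
    · simp [hαφ x]
  · rw [Subgroup.map_le_iff_le_comap]
    unfold commS
    rw [Subgroup.closure_le]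
    rintro y ⟨x, α, hα, rfl⟩
    rw [SetLike.mem_coe, Subgroup.mem_comap]
    apply Subgroup.subset_closure
    refine ⟨S, autHom α, x, (mem_autGroup_iff F le_rfl α).mp hα, ?_⟩
    simp [autHom]

theorem abelian_center_eq [Finite S] (p : ℕ) [Fact p.Prime] (hS : IsPGroup p S)
    (F : FusionSystem S) (hF : F.IsSaturated p) (hab : ∀ x ∈ S, ∀ y ∈ S, x * y = y * x) :
    F.center = (fixS F).map S.subtype := by
  apply le_antisymm
  · unfold FusionSystem.center
    apply sSup_le
    intro Q hQ x hx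
    have hxS : x ∈ S := hQ.1 hx
    refine ⟨⟨x, hxS⟩, ?_, rfl⟩
    intro α hα
    obtain ⟨ψ, -, hext, hfix⟩ := hQ.2 S (autHom α) ((mem_autGroup_iff F le_rfl α).mp hα)
    have h1 := hext ⟨x, hxS⟩
    have h2 := hfix ⟨x, hx⟩
    have e : (Subgroup.inclusion (le_sup_left : S ≤ S ⊔ Q) ⟨x, hxS⟩) =
        (Subgroup.inclusion (le_sup_right : Q ≤ S ⊔ Q) ⟨x, hx⟩) := Subtype.ext rfl
    rw [e, h2] at h1
    apply Subtype.ext
    exact h1.symm
  · unfold FusionSystem.center
    apply le_sSup
    refine ⟨Subgroup.map_subtype_le _, ?_⟩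
    intro P φ hφ
    obtain ⟨α, hα, hαφ⟩ := abelian_exists_aut_extension p hS F hF hab hφ
    have hPS : P ≤ S := (F.le_of_mem hφ).1
    have hle : P ⊔ (fixS F).map S.subtype ≤ S := sup_le hPS (Subgroup.map_subtype_le _)
    refine ⟨(autHom α).comp (Subgroup.inclusion hle),
      restrict_mem F hle ((mem_autGroup_iff F le_rfl α).mp hα), ?_, ?_⟩
    · intro x
      exact hαφ x
    · rintro ⟨c, c', hc', rfl⟩
      have := hc' α hα
      show ((α _ : S) : Ω) = _
      exact congrArg Subtype.val this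

/-- `S = Z(F) × foc(F)` for a saturated fusion system over an abelian `p`-group. -/
theorem abelian_center_focal_decomp [Finite S] (p : ℕ) [Fact p.Prime] (hS : IsPGroup p S)
    (F : FusionSystem S) (hF : F.IsSaturated p) (hab : ∀ x ∈ S, ∀ y ∈ S, x * y = y * x) :
    F.center ⊓ F.focalSubgroup = ⊥ ∧ F.center ⊔ F.focalSubgroup = S := by
  have hcomm : ∀ a b : S, a * b = b * a := fun a b => Subtype.ext (hab a a.2 b b.2)
  obtain ⟨h1, h2⟩ := fixed_comm_decomp hcomm (F.autGroup S) (abelian_autGroup_coprime p hS F hF hab)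
    (fixS F) (commS F) (fun x => Iff.rfl) rfl
  rw [abelian_center_eq p hS F hF hab, abelian_focalSubgroup_eq p hS F hF hab]
  constructor
  · rw [← Subgroup.map_inf _ _ _ S.subtype_injective, h1, Subgroup.map_bot]
  · rw [← Subgroup.map_sup, h2, ← MonoidHom.range_eq_map, Subgroup.range_subtype]

end Cfsg.Agent.Helper26
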