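import Mathlib
import Cfsg.Agent.Helper26.ZJFusion
import Cfsg.Agent.S3082

set_option autoImplicit false

/-! The Glauberman–Thompson criterion for fusion systems relative to a strongly closed subgroup. -/

namespace Cfsg.Agent.Helper26.MasterRed

open Cfsg Cfsg.FusionSystem Cfsg.Agent.Helper25

universe u

section Real

variable {Ω : Type*} [Group Ω] {S : Subgroup Ω} {G : Type*} [Group G]

/-- Conjugation by `g`, read through `ι`, on a subgroup `Y` whose image it carries into the image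
of `S`, is a map of the realized system. -/
theorem exists_hom_of_conj (F : FusionSystem S) (ι : S →* G) (hreal : F.IsRealizedBy ι)
    {Y : Subgroup Ω} (hYS : Y ≤ S) (g : G)
    (hconj : ∀ y : Y, g * ι ⟨y, hYS y.2⟩ * g⁻¹ ∈ ι.range) :
    ∃ φ ∈ F.Hom Y, ∃ hφS : ∀ y : Y, φ y ∈ S,
      ∀ y : Y, ι ⟨φ y, hφS y⟩ = g * ι ⟨y, hYS y.2⟩ * g⁻¹ := by
  have hinj := hreal.1
  obtain ⟨c, hc⟩ : ∃ c : Y →* ι.range,
      ∀ y, ((c y : ι.range) : G) = g * ι ⟨y, hYS y.2⟩ * g⁻¹ :=
    ⟨((MulAut.conj g).toMonoidHom.comp (ι.comp (Subgroup.inclusion hYS))).codRestrict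
      ι.range hconj, fun y => rfl⟩
  have hφS : ∀ y, ((realInv ι hinj).comp c) y ∈ S := fun y => realInv_mem ι hinj (c y)
  have hφι : ∀ y, ι ⟨((realInv ι hinj).comp c) y, hφS y⟩ = g * ι ⟨y, hYS y.2⟩ * g⁻¹ := by
    intro y
    rw [← hc y]
    exact apply_realInv ι hinj (c y)
  exact ⟨_, (hreal.2 _ hYS _ hφS).mpr ⟨g, hφι⟩, hφS, hφι⟩

/-- A subgroup strongly closed in a realized system has strongly closed image. -/
theorem isStronglyClosed_map (F : FusionSystem S) (ι : S →* G) (hreal : F.IsRealizedBy ι)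
    {D : Subgroup Ω} (hD : F.StronglyClosed D) :
    Cfsg.IsStronglyClosed ((D.subgroupOf S).map ι) ι.range := by
  refine ⟨?_, ?_⟩
  · rintro _ ⟨d, -, rfl⟩
    exact ⟨d, rfl⟩
  · rintro _ ⟨d, hd, rfl⟩ g hg
    obtain ⟨s, hs⟩ := hg
    have hd' : (d : Ω) ∈ D := hd
    have hYS : Subgroup.zpowers (d : Ω) ≤ S := by
      rw [Subgroup.zpowers_le]
      exact d.2
    have hYD : Subgroup.zpowers (d : Ω) ≤ D := by
      rw [Subgroup.zpowers_le]
      exact hd'
    have hconj : ∀ y : Subgroup.zpowers (d : Ω), g * ι ⟨y, hYS y.2⟩ * g⁻¹ ∈ ι.range := by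
      rintro ⟨y, k, rfl⟩
      have e : (⟨(d : Ω) ^ k, hYS ⟨k, rfl⟩⟩ : S) = d ^ k := Subtype.ext (by simp)
      rw [e, map_zpow, ← conj_zpow, ← hs]
      exact ⟨s ^ k, map_zpow ι s k⟩
    obtain ⟨φ, hφ, hφS, hφι⟩ := exists_hom_of_conj F ι hreal hYS g hconj
    have h1 := hD.2 _ hYD φ hφ ⟨(d : Ω), Subgroup.mem_zpowers _⟩
    have h2 := hφι ⟨(d : Ω), Subgroup.mem_zpowers _⟩
    rw [Subtype.coe_eta] at h2
    rw [← h2]
    exact ⟨⟨φ ⟨(d : Ω), Subgroup.mem_zpowers _⟩, hφS _⟩, h1, rfl⟩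

end Real

section ZJD

variable {Ω : Type u} [Group Ω] (S : Subgroup Ω)

theorem centerThompsonAOf_map_eq_of_le {G : Type u} [Group G] (ι : S →* G)
    (hinj : Function.Injective ι) {D : Subgroup Ω} (hD : D ≤ S) :
    ((centerThompsonAOf D).subgroupOf S).map ι = centerThompsonAOf ((D.subgroupOf S).map ι) := by
  have h1 := (Cfsg.Agent.Lead.TNC.zjAFunctor.{u} 2).map S.subtype (D.subgroupOf S)
    (S.subtype_injective.injOn)
  rw [Subgroup.map_subgroupOf_eq_of_le hD] at h1
  have h2 := (Cfsg.Agent.Lead.TNC.zjAFunctor.{u} 2).map ι (D.subgroupOf S) hinj.injOn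
  have h3 : (centerThompsonAOf D).subgroupOf S = centerThompsonAOf (D.subgroupOf S) := by
    show (centerThompsonAOf D).comap S.subtype = _
    have h1' : centerThompsonAOf D = (centerThompsonAOf (D.subgroupOf S)).map S.subtype := h1
    rw [h1']
    exact Subgroup.comap_map_eq_self_of_injective S.subtype_injective _
  rw [h3]
  exact h2.symm

theorem le_normalizer_of_stronglyClosed (F : FusionSystem S) {D : Subgroup Ω}
    (hD : F.StronglyClosed D) : S ≤ Subgroup.normalizer (D : Set Ω) := by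
  have key : ∀ g ∈ S, ∀ x ∈ D, g * x * g⁻¹ ∈ D := by
    intro g hg x hx
    exact hD.2 D le_rfl _ (F.conj_mem hD.1 hg) ⟨x, hx⟩
  intro g hg
  rw [Subgroup.mem_normalizer_iff]
  intro x
  constructor
  · exact key g hg x
  · intro hx
    have := key g⁻¹ (S.inv_mem hg) _ hx
    have e : g⁻¹ * (g * x * g⁻¹) * g⁻¹⁻¹ = x := by group
    rwa [e] at this

theorem le_normalizer_centerThompsonAOf_of_stronglyClosed (F : FusionSystem S) {D : Subgroup Ω}
    (hD : F.StronglyClosed D) :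
    S ≤ Subgroup.normalizer ((centerThompsonAOf D : Subgroup Ω) : Set Ω) :=
  (le_normalizer_of_stronglyClosed S F hD).trans
    ((Cfsg.Agent.Lead.TNC.zjAFunctor.{u} 2).normalizer_le D)

/-- The constrained case, relative to a strongly closed subgroup. -/
theorem inner_of_constrained_zjD {p : ℕ} [Fact p.Prime] (hp : p ≠ 2) [Finite S]
    (hS : IsPGroup p S) (F : FusionSystem S) (hcon : F.IsConstrained p) {D : Subgroup Ω}
    (hD : F.StronglyClosed D) (hW : NInner F (centerThompsonAOf D)) : Inner F := by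
  obtain ⟨G, _, ι, hM⟩ := Cfsg.Agent.S5090.result p hS F hcon
  obtain ⟨hfin, hreal, ⟨T, hT⟩, hC⟩ := hM
  have hWS : centerThompsonAOf D ≤ S :=
    ((Cfsg.Agent.Lead.TNC.zjAFunctor.{u} 2).le D).trans hD.1
  have hnpcN := npc_normalizer_of_ninner hS F ι hreal T hT hWS
    (le_normalizer_centerThompsonAOf_of_stronglyClosed S F hD) hW
  have he : Subgroup.normalizer
      (((((centerThompsonAOf D).subgroupOf S).map ι : Subgroup G)) : Set G) =
      Subgroup.normalizer
        ((centerThompsonAOf ((D.subgroupOf S).map ι) : Subgroup G) : Set G) := by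
    rw [centerThompsonAOf_map_eq_of_le S ι hreal.1 hD.1]
  have hnpcN' := Cfsg.Agent.Lead.TNC.npc_of_eq he hnpcN
  have hsc : Cfsg.IsStronglyClosed ((D.subgroupOf S).map ι) (T : Subgroup G) := by
    rw [hT]
    exact isStronglyClosed_map F ι hreal hD
  have hnpc := Cfsg.Agent.S3082.result hp T _ hsc (Or.inl hnpcN')
  have hpG : IsPGroup p G := isPGroup_of_npc hnpc hC
  have hTtop : (⊤ : Subgroup G) = (T : Subgroup G) :=
    T.is_maximal' (hpG.to_subgroup ⊤) le_top
  have hsurj : Function.Surjective ι := by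
    rw [← MonoidHom.range_eq_top, ← hT, hTtop]
  exact inner_of_realized_surjective F ι hreal hsurj

end ZJD

/-- The hypotheses of the reduction theorem for `Z(J(D))`, `D` strongly closed, `p` odd. -/
theorem redHyp_zjD {p : ℕ} [Fact p.Prime] (hp : p ≠ 2) :
    RedHyp.{u} p (fun _ _ _ _ => True)
      (fun _ _ _ F => ∃ D, F.StronglyClosed D ∧ NInner F (centerThompsonAOf D)) where
  fr_norm := fun _ _ _ _ _ _ _ _ _ _ => trivial
  fr_factor := fun _ _ _ _ _ _ _ _ _ _ _ _ _ _ _ _ => trivial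
  h0_norm := by
    rintro Ω _ S _ hS F hF U hU hSN _ ⟨D, hD, h⟩
    have hE := normalizerSystem_isNormalizerSystem F U hU
    refine ⟨D, ⟨fun x hx => ⟨hD.1 hx, hSN (hD.1 hx)⟩, fun R hR φ hφ x => ?_⟩,
      ninner_norm F hSN _ hE h⟩
    rw [hE R] at hφ
    exact hD.2 R hR φ hφ.1 x
  h0_char := by
    intro Ω _ S _ hS F hF hne _ h
    refine ⟨S, ⟨le_rfl, fun R _ φ hφ x => (F.le_of_mem hφ).2 x⟩, ?_⟩
    exact h _ (centerThompsonAOf_le_self S) (centerThompsonAOf_ne_bot_self S hS hne)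
      (centerThompsonAOf_characteristic S)
  constrained := by
    rintro Ω _ S _ hS F hcon _ ⟨D, hD, h⟩
    exact inner_of_constrained_zjD S hp hS F hcon hD h

theorem inner_of_ninner_zjD {p : ℕ} [Fact p.Prime] (hp : p ≠ 2) {Ω : Type u} [Group Ω]
    {S : Subgroup Ω} [Finite S] (hS : IsPGroup p S) (F : FusionSystem S) (hF : F.IsSaturated p)
    {D : Subgroup Ω} (hD : F.StronglyClosed D)
    (h : NInner F (centerThompsonAOf D)) : Inner F :=
  master (redHyp_zjD.{u} hp) (Nat.card S) Ω S rfl hS F hF trivial ⟨D, hD, h⟩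

end Cfsg.Agent.Helper26.MasterRed
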