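import Mathlib
import Cfsg.Agent.Helper26.ConstrainedSub
import Cfsg.Agent.Helper26.ZJFusionD
import Cfsg.Agent.Helper26.FusionAbelian
import Cfsg.Agent.S3838

set_option autoImplicit false

/-! If `Aut_F(S)` is a `p`-group (the normalizer system of `S` is inner), then the normalizer
system of every `Q` with `[S, S] ≤ Q ≤ Φ(S)` is inner. -/

namespace Cfsg.Agent.Helper26.MasterRed

open Cfsg Cfsg.FusionSystem Cfsg.Agent.Helper25
open scoped commutatorElement

universe u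

section Model

variable {Ω : Type*} [Group Ω] {S : Subgroup Ω} {G : Type*} [Group G]

/-- A subgroup normal in the system has normal image in a model. -/
theorem normal_map_of_isModel [Finite S] (p : ℕ) [Fact p.Prime] (F : FusionSystem S) (ι : S →* G)
    (hM : F.IsModel p G ι) {Q : Subgroup Ω} (hQ : F.IsNormal Q) :
    ((Q.subgroupOf S).map ι).Normal := by
  obtain ⟨hfin, hreal, ⟨T, hT⟩, hC⟩ := hM
  have hinj := hreal.1
  have hRT : pCore p G ≤ ι.range := by
    rw [← hT]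
    exact Cfsg.Agent.Helper14.pCore_le_sylow p T
  have hSN : S ≤ Subgroup.normalizer (Q : Set Ω) := le_normalizer_of_isNormal F hQ
  have hYS : preimageAlong ι (pCore p G) ≤ S := preimageAlong_le ι _
  constructor
  rintro _ ⟨q, hq, rfl⟩ g
  have hconj : ∀ y : ↥(preimageAlong ι (pCore p G)), g * ι ⟨y, hYS y.2⟩ * g⁻¹ ∈ ι.range := by
    intro y
    obtain ⟨_, hy⟩ := (mem_preimageAlong _ _ _).mp y.2
    exact hRT ((Cfsg.Agent.Helper14.pCore_normal (G := G) p).conj_mem _ hy g)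
  obtain ⟨ψ, hψ, hψS, hψι⟩ := exists_hom_of_conj F ι hreal hYS g hconj
  obtain ⟨ψ', hψ', hext, hmap⟩ := hQ.2 _ ψ hψ
  have hsupS : preimageAlong ι (pCore p G) ⊔ Q ≤ S := sup_le hYS hQ.1
  have hψ'S : ∀ z, ψ' z ∈ S := (F.le_of_mem hψ').2
  obtain ⟨g', hg'⟩ := (hreal.2 _ hsupS ψ' hψ'S).mp hψ'
  -- `g⁻¹ g'` centralizes `O_p(G)`
  have hcen : g⁻¹ * g' ∈ Subgroup.centralizer ((pCore p G : Subgroup G) : Set G) := by
    rw [Subgroup.mem_centralizer_iff]
    intro r hr
    obtain ⟨y, hy⟩ := hRT hr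
    have hyY : (y : Ω) ∈ preimageAlong ι (pCore p G) := by
      refine (mem_preimageAlong _ _ _).mpr ⟨y.2, ?_⟩
      rw [Subtype.coe_eta, hy]
      exact hr
    have h1 := hg' (Subgroup.inclusion le_sup_left ⟨(y : Ω), hyY⟩)
    have h2 := hψι ⟨(y : Ω), hyY⟩
    have h3 : (⟨ψ' (Subgroup.inclusion le_sup_left ⟨(y : Ω), hyY⟩), hψ'S _⟩ : S) =
        ⟨ψ ⟨(y : Ω), hyY⟩, hψS _⟩ := Subtype.ext (hext _)
    rw [h3, h2] at h1
    have h4 : ι ⟨((Subgroup.inclusion le_sup_left ⟨(y : Ω), hyY⟩ :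
        ↥(preimageAlong ι (pCore p G) ⊔ Q)) : Ω), hsupS (Subgroup.inclusion le_sup_left
          ⟨(y : Ω), hyY⟩).2⟩ = r := by
      rw [← hy]
      rfl
    have h5 : ι ⟨(y : Ω), hYS hyY⟩ = r := by rw [← hy]
    rw [h4, h5] at h1
    -- `g r g⁻¹ = g' r g'⁻¹`
    calc r * (g⁻¹ * g') = g⁻¹ * (g * r * g⁻¹) * g' := by group
      _ = g⁻¹ * (g' * r * g'⁻¹) * g' := by rw [h1]
      _ = g⁻¹ * g' * r := by group
  obtain ⟨c, hc⟩ := hRT (hC hcen)
  -- `g'` normalizes the image of `Q`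
  have hg'Q : ∀ q : S, (q : Ω) ∈ Q → g' * ι q * g'⁻¹ ∈ (Q.subgroupOf S).map ι := by
    intro q hq
    have h1 := hg' (Subgroup.inclusion le_sup_right ⟨(q : Ω), hq⟩)
    have h2 : ψ' (Subgroup.inclusion le_sup_right ⟨(q : Ω), hq⟩) ∈ Q := by
      have h0 : ψ' (Subgroup.inclusion le_sup_right ⟨(q : Ω), hq⟩) ∈
          (Q.subgroupOf (preimageAlong ι (pCore p G) ⊔ Q)).map ψ' := ⟨_, hq, rfl⟩
      exact (show ∀ Z : Subgroup Ω, (Q.subgroupOf (preimageAlong ι (pCore p G) ⊔ Q)).map ψ' = Z →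
        ψ' (Subgroup.inclusion le_sup_right ⟨(q : Ω), hq⟩) ∈ Z from fun Z hZ => hZ ▸ h0) Q hmap
    have h3 : ι ⟨((Subgroup.inclusion le_sup_right ⟨(q : Ω), hq⟩ :
        ↥(preimageAlong ι (pCore p G) ⊔ Q)) : Ω), hsupS (Subgroup.inclusion le_sup_right
          ⟨(q : Ω), hq⟩).2⟩ = ι q := rfl
    rw [h3] at h1
    rw [← h1]
    exact ⟨_, h2, rfl⟩
  -- `g = g' c⁻¹`
  have hg : g = g' * (ι c)⁻¹ := by
    rw [hc]
    group
  have hcQ : (ι c)⁻¹ * ι q * ((ι c)⁻¹)⁻¹ ∈ (Q.subgroupOf S).map ι := by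
    have h1 := map_mem_normalizer_map ι hSN c⁻¹
    have h2 := ((Subgroup.mem_normalizer_iff.mp h1) (ι q)).mp ⟨q, hq, rfl⟩
    rwa [map_inv] at h2
  obtain ⟨q', hq', hq'e⟩ := hcQ
  have h6 := hg'Q q' hq'
  rw [hq'e] at h6
  rw [hg]
  have e : g' * (ι c)⁻¹ * ι q * (g' * (ι c)⁻¹)⁻¹ =
      g' * ((ι c)⁻¹ * ι q * ((ι c)⁻¹)⁻¹) * g'⁻¹ := by group
  rw [e]
  exact h6

end Model

section Abelian

variable {Ω : Type*} [Group Ω] {S : Subgroup Ω}

/-- A saturated system over an abelian group with inner normalizer system at `S` is inner. -/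
theorem inner_of_abelian_ninner [Finite S] (p : ℕ) [Fact p.Prime] (hS : IsPGroup p S)
    (F : FusionSystem S) (hF : F.IsSaturated p) (hab : ∀ x ∈ S, ∀ y ∈ S, x * y = y * x)
    (hN : NInner F S) : Inner F := by
  intro P φ hφ
  obtain ⟨α, hα, hαφ⟩ := Cfsg.Agent.Helper26.abelian_exists_aut_extension p hS F hF hab hφ
  have hSN : S ≤ normalizerIn S S := fun x hx => ⟨hx, Subgroup.le_normalizer hx⟩
  have h1 : autHom α ∈ F.Hom S := (mem_autGroup_iff F le_rfl α).mp hα
  have h2 : autHom α ∈ F.normalizerHom S S := by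
    refine mem_normalizerHom_of_le F le_rfl h1 hSN (fun x => hSN (α x).2) ?_
    rw [Subgroup.subgroupOf_self, ← MonoidHom.range_eq_map, autHom_range]
  obtain ⟨g, hg, hgx⟩ := hN S _ h2
  refine ⟨g, hg.1, fun x => ?_⟩
  rw [← hαφ x]
  exact hgx ⟨(x : Ω), (F.le_of_mem hφ).1 x.2⟩

theorem ninner_of_le {E F : FusionSystem S} (hEF : E ≤ F) {U : Subgroup Ω} (h : NInner F U) :
    NInner E U := by
  intro P φ hφ
  obtain ⟨h1, h2, h3, ψ, hψ, h4, h5⟩ := hφ
  exact h P φ ⟨hEF P h1, h2, h3, ψ, hEF _ hψ, h4, h5⟩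

end Abelian

section Main

variable {Ω : Type u} [Group Ω] {S : Subgroup Ω}

theorem frattini_map_le {A B : Type*} [Group A] [Group B] (e : A ≃* B) :
    (frattini A).map e.toMonoidHom ≤ frattini B := by
  rw [Subgroup.map_le_iff_le_comap]
  exact frattini_le_comap_frattini_of_surjective (φ := e.toMonoidHom) e.surjective

/-- If the normalizer system of `S` is inner, so is the normalizer system of every `Q` with
`[S, S] ≤ Q ≤ Φ(S)`. -/
theorem ninner_of_between_frattini [Finite S] (p : ℕ) [Fact p.Prime] (hS : IsPGroup p S)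
    (F : FusionSystem S) (hF : F.IsSaturated p) (hN : NInner F S) (Q : Subgroup Ω)
    (h1 : (commutator ↥S).map S.subtype ≤ Q) (h2 : Q ≤ (frattini ↥S).map S.subtype) :
    NInner F Q := by
  have hQS : Q ≤ S := h2.trans (Subgroup.map_subtype_le _)
  rw [Subgroup.map_subtype_commutator] at h1
  have hcomm : ∀ x ∈ S, ∀ y ∈ S, x * y * x⁻¹ * y⁻¹ ∈ Q := fun x hx y hy =>
    h1 (Subgroup.commutator_mem_commutator hx hy)
  have hSNQ : S ≤ Subgroup.normalizer (Q : Set Ω) := by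
    have key : ∀ g ∈ S, ∀ x ∈ Q, g * x * g⁻¹ ∈ Q := by
      intro g hg x hx
      have := Q.mul_mem (hcomm g hg x (hQS hx)) hx
      have e : g * x * g⁻¹ * x⁻¹ * x = g * x * g⁻¹ := by group
      rwa [e] at this
    intro g hg
    rw [Subgroup.mem_normalizer_iff]
    intro x
    constructor
    · exact key g hg x
    · intro hx
      have := key g⁻¹ (S.inv_mem hg) _ hx
      have e : g⁻¹ * (g * x * g⁻¹) * g⁻¹⁻¹ = x := by group
      rwa [e] at this
  obtain ⟨E, hEF, hEsat, hQn, hfin⟩ := exists_normalizer_over p hS F hF hQS hSNQ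
  apply hfin
  have hNE : NInner E S := ninner_of_le hEF hN
  -- the factor system modulo `Q`
  have hsc := stronglyClosed_of_isNormal E hQn
  have hQnorm : (Q.subgroupOf S).Normal := Subgroup.normal_subgroupOf_of_le_normalizer hSNQ
  have hker : ∀ s : S, QuotientGroup.mk' (Q.subgroupOf S) s = 1 ↔ (s : Ω) ∈ Q := by
    intro s
    rw [QuotientGroup.mk'_apply, QuotientGroup.eq_one_iff]
    rfl
  have hrange : (QuotientGroup.mk' (Q.subgroupOf S)).range = ⊤ :=
    MonoidHom.range_eq_top.mpr (QuotientGroup.mk'_surjective _)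
  have hfs := factorSystem_isFactorSystem E hsc (QuotientGroup.mk' (Q.subgroupOf S)) hker hrange
  obtain ⟨E', hE'e⟩ : ∃ E' : FusionSystem (⊤ : Subgroup (↥S ⧸ Q.subgroupOf S)),
      E' = factorSystem E hsc (QuotientGroup.mk' (Q.subgroupOf S)) hker hrange := ⟨_, rfl⟩
  rw [← hE'e] at hfs
  have hiff := hfs.2.2.2
  have hS' : IsPGroup p ↥(⊤ : Subgroup (↥S ⧸ Q.subgroupOf S)) :=
    (hS.to_quotient (Q.subgroupOf S)).to_subgroup ⊤
  have hE'sat : E'.IsSaturated p :=
    factor_isSaturated E hsc (QuotientGroup.mk' (Q.subgroupOf S)) hker hrange E' hiff p hS hEsat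
  have hab' : ∀ x ∈ (⊤ : Subgroup (↥S ⧸ Q.subgroupOf S)),
      ∀ y ∈ (⊤ : Subgroup (↥S ⧸ Q.subgroupOf S)), x * y = y * x := by
    intro x _ y _
    obtain ⟨a, rfl⟩ := QuotientGroup.mk'_surjective (Q.subgroupOf S) x
    obtain ⟨b, rfl⟩ := QuotientGroup.mk'_surjective (Q.subgroupOf S) y
    rw [← map_mul, ← map_mul, QuotientGroup.mk'_apply, QuotientGroup.mk'_apply, QuotientGroup.eq]
    show (((a * b)⁻¹ * (b * a) : S) : Ω) ∈ Q
    have h3 := hcomm _ (S.inv_mem b.2) _ (S.inv_mem a.2)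
    have e : (((a * b)⁻¹ * (b * a) : S) : Ω) = (b : Ω)⁻¹ * (a : Ω)⁻¹ * (b : Ω)⁻¹⁻¹ * (a : Ω)⁻¹⁻¹ := by
      simp [mul_assoc]
    rw [e]
    exact h3
  have hpre : preimageAlong (QuotientGroup.mk' (Q.subgroupOf S))
      (⊤ : Subgroup (↥S ⧸ Q.subgroupOf S)) = S := by
    apply le_antisymm (preimageAlong_le _ _)
    intro x hx
    exact (mem_preimageAlong _ _ _).mpr ⟨hx, Subgroup.mem_top _⟩
  have hNE' : NInner E' (⊤ : Subgroup (↥S ⧸ Q.subgroupOf S)) := by
    apply ninner_factor E (QuotientGroup.mk' (Q.subgroupOf S)) hrange E' hiff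
    · exact le_top.trans (Subgroup.le_normalizer)
    · rw [hpre]
      exact hNE
  have hinner' : Inner E' := inner_of_abelian_ninner p hS' E' hE'sat hab' hNE'
  have hmod : InnerMod E Q :=
    innerMod_of_factor_inner E hsc (QuotientGroup.mk' (Q.subgroupOf S)) hker hrange E' hiff hinner'
  have hcon : E.IsConstrained p := isConstrained_of_innerMod p hS E hEsat hQn hmod
  -- the model
  obtain ⟨G, _, ι, hM⟩ := Cfsg.Agent.S5090.result p hS E hcon
  have hQ'n := normal_map_of_isModel p E ι hM hQn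
  obtain ⟨hGfin, hreal, ⟨T, hT⟩, hC⟩ := hM
  have hinj := hreal.1
  have hnpcS := npc_normalizer_of_ninner hS E ι hreal T hT le_rfl
    (Subgroup.le_normalizer) hNE
  have heS : Subgroup.normalizer (((((S : Subgroup Ω).subgroupOf S).map ι : Subgroup G)) : Set G) =
      Subgroup.normalizer ((T : Subgroup G) : Set G) := by
    rw [Subgroup.subgroupOf_self, ← MonoidHom.range_eq_map, hT]
  have hnpcS' := Cfsg.Agent.Lead.TNC.npc_of_eq heS hnpcS
  -- transport of the commutator and Frattini conditions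
  have hmemT : ∀ x ∈ (T : Subgroup G), ∃ a : S, ι a = x := by
    intro x hx
    rw [hT] at hx
    exact hx
  have h1' : (commutator ↥(T : Subgroup G)).map (T : Subgroup G).subtype ≤
      (Q.subgroupOf S).map ι := by
    rw [Subgroup.map_subtype_commutator, Subgroup.commutator_le]
    intro x hx y hy
    obtain ⟨a, rfl⟩ := hmemT x hx
    obtain ⟨b, rfl⟩ := hmemT y hy
    refine ⟨⁅a, b⁆, ?_, map_commutatorElement ι a b⟩
    exact hcomm a a.2 b b.2
  have h2' : (Q.subgroupOf S).map ι ≤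
      (frattini ↥(T : Subgroup G)).map (T : Subgroup G).subtype := by
    rintro _ ⟨q, hq, rfl⟩
    obtain ⟨f, hf, hfq⟩ := h2 hq
    have hfq' : f = q := Subtype.ext hfq
    rw [← hfq']
    have hr : ι.range = (T : Subgroup G) := hT.symm
    have h3 := frattini_map_le ((MonoidHom.ofInjective hinj).trans (MulEquiv.subgroupCongr hr))
    exact ⟨_, h3 ⟨f, hf, rfl⟩, rfl⟩
  have hnpcQ := Cfsg.Agent.S3838.result T hnpcS' _ h1' h2'
  have htop : Subgroup.normalizer ((((Q.subgroupOf S).map ι : Subgroup G)) : Set G) = ⊤ :=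
    Subgroup.normalizer_eq_top_iff.mpr hQ'n
  have hnpc : HasNormalPComplement p G :=
    Cfsg.Agent.Lead.TNC.npc_of_top (Cfsg.Agent.Lead.TNC.npc_of_eq htop hnpcQ)
  have hpG : IsPGroup p G := isPGroup_of_npc hnpc hC
  have hTtop : (⊤ : Subgroup G) = (T : Subgroup G) :=
    T.is_maximal' (hpG.to_subgroup ⊤) le_top
  have hsurj : Function.Surjective ι := by
    rw [← MonoidHom.range_eq_top, ← hT, hTtop]
  exact inner_of_realized_surjective E ι hreal hsurj

end Main

end Cfsg.Agent.Helper26.MasterRed
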