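import Mathlib
import Cfsg.Agent.Helper26.MasterRed
import Cfsg.Agent.S5082

set_option autoImplicit false
set_option linter.style.haveILetI false
set_option linter.unusedSectionVars false

/-! Elements fixed by all maps of a fusion system; Alperin's theorem for such elements. -/

namespace Cfsg.Agent.Helper26.WC

open Cfsg Cfsg.FusionSystem Cfsg.Agent.Helper25 Cfsg.Agent.Helper26.MasterRed

variable {Ω : Type*} [Group Ω] {S : Subgroup Ω}

/-- every map of the system whose source contains `x` fixes `x` -/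
def Fixes (F : FusionSystem S) (x : Ω) : Prop :=
  ∀ (P : Subgroup Ω) (φ : P →* Ω), φ ∈ F.Hom P → ∀ hx : x ∈ P, φ ⟨x, hx⟩ = x

/-- every map of the normalizer system of `U` whose source contains `x` fixes `x` -/
def NFix (F : FusionSystem S) (U : Subgroup Ω) (x : Ω) : Prop :=
  ∀ (P : Subgroup Ω) (φ : P →* Ω), φ ∈ F.normalizerHom U P → ∀ hx : x ∈ P, φ ⟨x, hx⟩ = x

theorem fixes_iff_nfix (F : FusionSystem S) (U : Subgroup Ω) (E : FusionSystem (normalizerIn S U))
    (hE : F.IsNormalizerSystem U E) (x : Ω) : Fixes E x ↔ NFix F U x := by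
  constructor
  · intro h P φ hφ hx
    rw [← hE P] at hφ
    exact h P φ hφ hx
  · intro h P φ hφ hx
    rw [hE P] at hφ
    exact h P φ hφ hx

theorem nfix_of_fixes {F : FusionSystem S} {x : Ω} (h : Fixes F x) (U : Subgroup Ω) :
    NFix F U x := fun P φ hφ hx => h P φ hφ.1 hx

/-- an element of `S` fixed by the conjugations of `S` -/
theorem central_of_nfix {F : FusionSystem S} {U : Subgroup Ω} (hUS : U ≤ S)
    (hSN : S ≤ Subgroup.normalizer (U : Set Ω)) {x : Ω} (hxS : x ∈ S) (h : NFix F U x) :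
    ∀ s ∈ S, s * x * s⁻¹ = x := by
  intro s hs
  have hSNU : S ≤ normalizerIn S U := fun y hy => ⟨hy, hSN hy⟩
  have h1 : conjHom S s ∈ F.normalizerHom U S := by
    refine mem_normalizerHom_of_le F hUS (F.conj_mem le_rfl hs) hSNU
      (fun y => hSNU (S.mul_mem (S.mul_mem hs y.2) (S.inv_mem hs))) ?_
    ext y
    constructor
    · rintro ⟨u, hu, rfl⟩
      exact ((Subgroup.mem_normalizer_iff.mp (hSN hs)) _).mp hu
    · intro hy
      refine ⟨⟨s⁻¹ * y * s, S.mul_mem (S.mul_mem (S.inv_mem hs) (hUS hy)) hs⟩, ?_, ?_⟩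
      · have := ((Subgroup.mem_normalizer_iff.mp (hSN (S.inv_mem hs))) y).mp hy
        rw [inv_inv] at this
        rw [SetLike.mem_coe, Subgroup.mem_subgroupOf]
        exact this
      · show s * (s⁻¹ * y * s) * s⁻¹ = y
        group
  exact h S _ h1 hxS

section FixSystem

variable [Finite S]

/-- The subsystem of the maps that, on sources of order more than `m`, preserve `x` in both
directions. -/
def fixSystem (F : FusionSystem S) (x : Ω) (hx : ∀ s ∈ S, s * x * s⁻¹ = x) (m : ℕ) :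
    FusionSystem S where
  Hom P := {φ | φ ∈ F.Hom P ∧ (m < Nat.card P → ∀ y : P, (φ y = x ↔ (y : Ω) = x))}
  le_of_mem := fun h => F.le_of_mem h.1
  injective_of_mem := fun h => F.injective_of_mem h.1
  conj_mem := by
    intro P g hP hg
    refine ⟨F.conj_mem hP hg, fun _ y => ?_⟩
    show g * (y : Ω) * g⁻¹ = x ↔ (y : Ω) = x
    constructor
    · intro h
      have h1 := hx g⁻¹ (S.inv_mem hg)
      calc (y : Ω) = g⁻¹ * (g * y * g⁻¹) * g⁻¹⁻¹ := by group
        _ = g⁻¹ * x * g⁻¹⁻¹ := by rw [h]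
        _ = x := h1
    · intro h
      rw [h]
      exact hx g hg
  comp_mem := by
    rintro P Q φ ψ ⟨hφ, hφx⟩ ⟨hψ, hψx⟩ hPQ
    refine ⟨F.comp_mem hφ hψ hPQ, fun hm y => ?_⟩
    have hQfin : Finite Q := finite_of_le (F.le_of_mem hψ).1
    have hcard : Nat.card P ≤ Nat.card Q :=
      Nat.card_le_card_of_injective (φ.codRestrict Q hPQ)
        (fun a b hab => F.injective_of_mem hφ (congrArg Subtype.val hab))
    show ψ ⟨φ y, hPQ y⟩ = x ↔ _
    rw [hψx (lt_of_lt_of_le hm hcard) ⟨φ y, hPQ y⟩]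
    exact hφx hm y
  inv_mem := by
    rintro P φ ⟨hφ, hφx⟩
    obtain ⟨ψ, hψ, hinv⟩ := F.inv_mem hφ
    refine ⟨ψ, ⟨hψ, fun hm => ?_⟩, hinv⟩
    have hcard : Nat.card φ.range = Nat.card P :=
      (Nat.card_congr (MonoidHom.ofInjective (F.injective_of_mem hφ)).toEquiv).symm
    rw [hcard] at hm
    rintro ⟨_, ⟨y, rfl⟩⟩
    rw [hinv y]
    exact (hφx hm y).symm

/-- Alperin's theorem for fixed elements: if the automorphisms of the fully normalized subgroups
of order more than `m` fix `x`, so do all maps with source of order more than `m`. -/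
theorem fixes_above (p : ℕ) [Fact p.Prime] (hS : IsPGroup p S) (F : FusionSystem S)
    (hF : F.IsSaturated p) {x : Ω} (hx : ∀ s ∈ S, s * x * s⁻¹ = x) (m : ℕ)
    (h : ∀ P : Subgroup Ω, F.IsFullyNormalized P → m < Nat.card P → ∀ α ∈ F.autGroup P,
      ∀ hxP : x ∈ P, α ⟨x, hxP⟩ = ⟨x, hxP⟩) :
    ∀ (P : Subgroup Ω) (φ : P →* Ω), φ ∈ F.Hom P → m < Nat.card P →
      ∀ hxP : x ∈ P, φ ⟨x, hxP⟩ = x := by
  have hle : F ≤ fixSystem F x hx m := by
    apply Cfsg.Agent.S5082.result p hS F hF
    intro P hP α hα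
    have hPfn : F.IsFullyNormalized P := by
      rcases hP with rfl | hP
      · exact isFullyNormalized_of_normal F le_rfl Subgroup.le_normalizer
      · exact hP.2.1
    have hPS : P ≤ S := hPfn.1
    rw [mem_autGroup_iff _ hPS]
    refine ⟨(mem_autGroup_iff F hPS α).mp hα, fun hm y => ?_⟩
    show ((α y : P) : Ω) = x ↔ (y : Ω) = x
    constructor
    · intro hy
      have hxP : x ∈ P := hy ▸ (α y).2
      have h1 := h P hPfn hm α hα hxP
      have h2 : α y = α ⟨x, hxP⟩ := by
        rw [h1]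
        exact Subtype.ext hy
      exact congrArg Subtype.val (α.injective h2)
    · intro hy
      have hxP : x ∈ P := hy ▸ y.2
      have h1 := h P hPfn hm α hα hxP
      have h2 : y = ⟨x, hxP⟩ := Subtype.ext hy
      rw [h2, h1]
  intro P φ hφ hm hxP
  exact ((hle P hφ).2 hm ⟨x, hxP⟩).mpr rfl

/-- a map of the system with source `P` and image `P`, as an automorphism -/
theorem autHom_mem_normalizerHom (F : FusionSystem S) {P : Subgroup Ω} (hP : P ≤ S)
    {α : MulAut P} (hα : α ∈ F.autGroup P) : autHom α ∈ F.normalizerHom P P := by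
  have hPN : P ≤ normalizerIn S P := fun y hy => ⟨hP hy, Subgroup.le_normalizer hy⟩
  refine mem_normalizerHom_of_le F le_rfl ((mem_autGroup_iff F hP α).mp hα) hPN
    (fun y => hPN (α y).2) ?_
  rw [Subgroup.subgroupOf_self, ← MonoidHom.range_eq_map, autHom_range]

/-- If the normalizer systems of all nontrivial fully normalized subgroups fix `x`, so does the
system. -/
theorem fixes_of_forall_nfix (p : ℕ) [Fact p.Prime] (hS : IsPGroup p S) (F : FusionSystem S)
    (hF : F.IsSaturated p) {x : Ω} (hx : ∀ s ∈ S, s * x * s⁻¹ = x)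
    (h : ∀ Q : Subgroup Ω, F.IsFullyNormalized Q → Q ≠ ⊥ → NFix F Q x) : Fixes F x := by
  intro P φ hφ hxP
  have hPfin : Finite P := finite_of_le (F.le_of_mem hφ).1
  refine fixes_above p hS F hF hx 0 ?_ P φ hφ Nat.card_pos hxP
  intro Q hQ _ α hα hxQ
  by_cases hQ1 : Q = ⊥
  · subst hQ1
    apply Subtype.ext
    have h1 : x = 1 := (Subgroup.mem_bot).mp hxQ
    have h2 : (⟨x, hxQ⟩ : (⊥ : Subgroup Ω)) = 1 := Subtype.ext h1
    rw [h2, map_one]
  · apply Subtype.ext
    exact h Q hQ hQ1 Q _ (autHom_mem_normalizerHom F hQ.1 hα) hxQ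

end FixSystem

end Cfsg.Agent.Helper26.WC
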