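import Mathlib
import Cfsg.Agent.Helper26.WCBasic

set_option autoImplicit false
set_option linter.style.haveILetI false
set_option linter.unusedSectionVars false

/-! Fixed elements: transport of normalizer systems along maps of the system, and the normalizer
systems of characteristic subgroups of a normalizer of largest order. -/

namespace Cfsg.Agent.Helper26.WC

open Cfsg Cfsg.FusionSystem Cfsg.Agent.Helper25 Cfsg.Agent.Helper26.MasterRed

variable {Ω : Type*} [Group Ω] {S : Subgroup Ω}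

theorem conj_eq_of_central {x : Ω} (hx : ∀ s ∈ S, s * x * s⁻¹ = x) {u : Ω} (hu : u ∈ S) :
    x * u * x⁻¹ = u := by
  have h1 := hx u hu
  have h2 : u * x = x * u := by
    calc u * x = (u * x * u⁻¹) * u := by group
      _ = x * u := by rw [h1]
  rw [← h2]
  group

/-- If a map `χ` of the system defined on `N_S(U)` carries `U` onto `U'`, fixes `x`, and the
normalizer system of `U'` fixes `x`, then the normalizer system of `U` fixes `x`. -/
theorem nfix_transport [Finite S] (F : FusionSystem S) {U U' : Subgroup Ω} (hUS : U ≤ S)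
    {χ : ↥(normalizerIn S U) →* Ω} (hχ : χ ∈ F.Hom (normalizerIn S U))
    (hχN : ∀ y, χ y ∈ normalizerIn S U')
    (hχU : (U.subgroupOf (normalizerIn S U)).map χ = U') {x : Ω}
    (hxN : x ∈ normalizerIn S U) (hχx : χ ⟨x, hxN⟩ = x) (h : NFix F U' x) : NFix F U x := by
  intro P φ hφ hxP
  obtain ⟨hφF, hPN, hval, ψ, hψ, hext, hmap⟩ := hφ
  have hUN : U ≤ normalizerIn S U := fun y hy => ⟨hUS hy, Subgroup.le_normalizer hy⟩
  have hXN : P ⊔ U ≤ normalizerIn S U := sup_le hPN hUN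
  have hinjχ := F.injective_of_mem hχ
  have hU'S : U' ≤ S := by
    rw [← hχU]
    rintro _ ⟨y, -, rfl⟩
    exact (hχN y).1
  have hU'fin : Finite U' := finite_of_le hU'S
  -- the restriction of `χ` to `X = P ⊔ U`
  have hχX : χ.comp (Subgroup.inclusion hXN) ∈ F.Hom (P ⊔ U) := restrict_mem F hXN hχ
  obtain ⟨χX, hχXe⟩ : ∃ χX : ↥(P ⊔ U) →* Ω, χX = χ.comp (Subgroup.inclusion hXN) := ⟨_, rfl⟩
  rw [← hχXe] at hχX
  have hχXapp : ∀ y : ↥(P ⊔ U), χX y = χ ⟨y, hXN y.2⟩ := fun y => by rw [hχXe]; rfl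
  obtain ⟨X', hX'⟩ : ∃ X', χX.range = X' := ⟨_, rfl⟩
  obtain ⟨ρ, hρ, hρinv, hρrange⟩ := exists_inv_mem F hχX hX'
  have hρX : ∀ z : X', ρ z ∈ P ⊔ U := by
    intro z
    rw [← hρrange]
    exact ⟨z, rfl⟩
  -- `ψ` has values in `N_S(U)`
  have hψN : ∀ y : ↥(P ⊔ U), ψ y ∈ normalizerIn S U := by
    have h1 : ψ.range ≤ normalizerIn S U := by
      rw [range_sup_eq ψ, map_subgroupOf_eq_range ψ φ hext, hmap]
      apply sup_le _ hUN
      rintro _ ⟨y, rfl⟩
      exact hval y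
    intro y
    exact h1 ⟨y, rfl⟩
  have hψU : ∀ y : ↥(P ⊔ U), (y : Ω) ∈ U → ψ y ∈ U := by
    intro y hy
    have h0 : ψ y ∈ (U.subgroupOf (P ⊔ U)).map ψ := ⟨y, hy, rfl⟩
    exact (show ∀ Y : Subgroup Ω, (U.subgroupOf (P ⊔ U)).map ψ = Y → ψ y ∈ Y from
      fun Y hY => hY ▸ h0) U hmap
  -- the transported map
  have hσ₁ : ψ.comp (ρ.codRestrict (P ⊔ U) hρX) ∈ F.Hom X' := F.comp_mem hρ hψ hρX
  obtain ⟨σ₁, hσ₁e⟩ : ∃ σ₁ : X' →* Ω, σ₁ = ψ.comp (ρ.codRestrict (P ⊔ U) hρX) := ⟨_, rfl⟩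
  rw [← hσ₁e] at hσ₁
  have hσ₁app : ∀ z : X', σ₁ z = ψ ⟨ρ z, hρX z⟩ := fun z => by rw [hσ₁e]; rfl
  have hσ₁N : ∀ z : X', σ₁ z ∈ normalizerIn S U := fun z => by rw [hσ₁app]; exact hψN _
  have hσ₂ : χ.comp (σ₁.codRestrict (normalizerIn S U) hσ₁N) ∈ F.Hom X' :=
    F.comp_mem hσ₁ hχ hσ₁N
  obtain ⟨σ₂, hσ₂e⟩ : ∃ σ₂ : X' →* Ω, σ₂ = χ.comp (σ₁.codRestrict (normalizerIn S U) hσ₁N) :=
    ⟨_, rfl⟩
  rw [← hσ₂e] at hσ₂
  have hσ₂app : ∀ z : X', σ₂ z = χ ⟨σ₁ z, hσ₁N z⟩ := fun z => by rw [hσ₂e]; rfl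
  have hX'N : X' ≤ normalizerIn S U' := by
    rw [← hX']
    rintro _ ⟨y, rfl⟩
    rw [hχXapp]
    exact hχN _
  have hU'X' : U' ≤ X' := by
    rw [← hχU, ← hX']
    rintro _ ⟨y, hy, rfl⟩
    exact ⟨⟨y, Subgroup.mem_sup_right hy⟩, hχXapp _⟩
  have hσ₂N : σ₂ ∈ F.normalizerHom U' X' := by
    refine mem_normalizerHom_of_le F hU'X' hσ₂ hX'N (fun z => by rw [hσ₂app]; exact hχN _) ?_
    apply map_eq_of_map_le (F.injective_of_mem hσ₂) _ hU'X'
    rintro _ ⟨z, hz, rfl⟩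
    -- `z = χX y` with `y ∈ U`
    obtain ⟨y, hy⟩ : ∃ y : ↥(P ⊔ U), χX y = (z : Ω) := by
      have h0 : (z : Ω) ∈ χX.range := by rw [hX']; exact z.2
      exact h0
    have hz' : (z : Ω) ∈ U' := hz
    have hyU : (y : Ω) ∈ U := by
      rw [← hχU] at hz'
      obtain ⟨u, hu, huz⟩ := hz'
      rw [← hy, hχXapp] at huz
      have h8 : (u : Ω) = (y : Ω) := congrArg Subtype.val (hinjχ huz)
      rw [← h8]
      exact hu
    have hρz : ρ z = (y : Ω) := by
      have h1 : χX y ∈ X' := by rw [hy]; exact z.2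
      have h2 := hρinv y h1
      have e : (⟨χX y, h1⟩ : X') = z := Subtype.ext hy
      rw [e] at h2
      exact h2
    rw [hσ₂app]
    have e1 : (⟨ρ z, hρX z⟩ : ↥(P ⊔ U)) = y := Subtype.ext hρz
    have h3 : σ₁ z ∈ U := by
      rw [hσ₁app, e1]
      exact hψU y hyU
    rw [← hχU]
    exact ⟨⟨σ₁ z, hσ₁N z⟩, h3, rfl⟩
  -- `x` lies in `X'`
  have hxX : x ∈ P ⊔ U := Subgroup.mem_sup_left hxP
  have hχXx : χX ⟨x, hxX⟩ = x := by
    rw [hχXapp]
    exact hχx
  have hxX' : x ∈ X' := by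
    rw [← hX']
    exact ⟨⟨x, hxX⟩, hχXx⟩
  have h1 := h X' σ₂ hσ₂N hxX'
  have hρx : ρ ⟨x, hxX'⟩ = x := by
    have h2 : χX ⟨x, hxX⟩ ∈ X' := by rw [hχXx]; exact hxX'
    have h3 := hρinv ⟨x, hxX⟩ h2
    have e : (⟨χX ⟨x, hxX⟩, h2⟩ : X') = ⟨x, hxX'⟩ := Subtype.ext hχXx
    rw [e] at h3
    exact h3
  rw [hσ₂app] at h1
  have e2 : (⟨ρ ⟨x, hxX'⟩, hρX _⟩ : ↥(P ⊔ U)) = ⟨x, hxX⟩ := Subtype.ext hρx
  have h4 : σ₁ ⟨x, hxX'⟩ = ψ ⟨x, hxX⟩ := by rw [hσ₁app, e2]
  have h5 : χ ⟨σ₁ ⟨x, hxX'⟩, hσ₁N _⟩ = χ ⟨x, hxN⟩ := by rw [h1, hχx]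
  have h6 := hinjχ h5
  have h7 : σ₁ ⟨x, hxX'⟩ = x := congrArg Subtype.val h6
  rw [h4] at h7
  rw [← hext ⟨x, hxP⟩]
  exact h7

/-- The normalizer system in `E = N_F(Q)` of a subgroup is contained in the one in `F`. -/
theorem nfix_sub (F : FusionSystem S) {Q : Subgroup Ω}
    (E : FusionSystem (normalizerIn S Q)) (hE : F.IsNormalizerSystem Q E) {U : Subgroup Ω}
    {x : Ω} (h : NFix F U x) : NFix E U x := by
  intro P φ hφ hxP
  obtain ⟨hφE, hPN, hval, ψ, hψ, hext, hmap⟩ := hφ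
  rw [hE P] at hφE
  rw [hE (P ⊔ U)] at hψ
  have hTS : normalizerIn S Q ≤ S := inf_le_left
  have hNN : normalizerIn (normalizerIn S Q) U ≤ normalizerIn S U :=
    fun y hy => ⟨hTS hy.1, hy.2⟩
  exact h P φ ⟨hφE.1, hPN.trans hNN, fun y => hNN (hval y), ψ, hψ.1, hext, hmap⟩ hxP

/-- The normalizer system of a nontrivial characteristic subgroup of `N_S(Q) < S` inside `N_F(Q)`
fixes `x`, if `N_F(Q')` fixes `x` for all fully normalized `Q' ≠ 1` with `|N_S(Q')| > |N_S(Q)|`. -/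
theorem nfix_of_char_of_max [Finite S] (p : ℕ) [Fact p.Prime] (hS : IsPGroup p S)
    (F : FusionSystem S) (hF : F.IsSaturated p) (Q : Subgroup Ω)
    (E : FusionSystem (normalizerIn S Q)) (hE : F.IsNormalizerSystem Q E) {x : Ω}
    (hxS : x ∈ S) (hx : ∀ s ∈ S, s * x * s⁻¹ = x)
    (hmax : ∀ Q' : Subgroup Ω, F.IsFullyNormalized Q' → Q' ≠ ⊥ →
      Nat.card (normalizerIn S Q) < Nat.card (normalizerIn S Q') → NFix F Q' x)
    (hne : normalizerIn S Q ≠ S)
    {U : Subgroup Ω} (hUR : U ≤ normalizerIn S Q) (hU1 : U ≠ ⊥)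
    (hUc : (U.subgroupOf (normalizerIn S Q)).Characteristic) : NFix E U x := by
  have hRS : normalizerIn S Q ≤ S := inf_le_left
  obtain ⟨g, hgN, hgR⟩ := exists_mem_normalizerIn_not_mem p hS hRS hne
  have hgU : g ∈ Subgroup.normalizer (U : Set Ω) := mem_normalizer_of_characteristic hUR hUc hgN.2
  have hRN : normalizerIn S Q ≤ Subgroup.normalizer (U : Set Ω) :=
    fun y hy => mem_normalizer_of_characteristic hUR hUc (Subgroup.le_normalizer hy)
  have hRNU : normalizerIn S Q ≤ normalizerIn S U := fun y hy => ⟨hRS hy, hRN hy⟩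
  have hUS : U ≤ S := hUR.trans hRS
  have hNUfin : Finite (normalizerIn S U) := finite_of_le inf_le_left
  have hlt : Nat.card (normalizerIn S Q) < Nat.card (normalizerIn S U) := by
    have hfin : ((normalizerIn S U : Subgroup Ω) : Set Ω).Finite := Set.toFinite _
    have hss : ((normalizerIn S Q : Subgroup Ω) : Set Ω) ⊂
        ((normalizerIn S U : Subgroup Ω) : Set Ω) := by
      refine ⟨hRNU, fun h => hgR (h ⟨hgN.1, hgU⟩)⟩
    exact hfin.card_lt_card hss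
  obtain ⟨U', hconj, hFA, hRec⟩ := hF U hUS
  obtain ⟨χ, hχ, hχN, hχU⟩ := Cfsg.Agent.S5079.result p hS F U' U hFA hRec hconj
  have hU'fn : F.IsFullyNormalized U' :=
    isFullyNormalized_of_automized_receptive F p hS hFA (Cfsg.Agent.S5078.result F U' hRec)
  have hUNU : U ≤ normalizerIn S U := hUR.trans hRNU
  have hU'1 : U' ≠ ⊥ := by
    intro h
    apply hU1
    rw [h, Subgroup.map_eq_bot_iff_of_injective _ (F.injective_of_mem hχ)] at hχU
    rw [eq_bot_iff]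
    intro y hy
    have h1 : (⟨y, hUNU hy⟩ : ↥(normalizerIn S U)) ∈ U.subgroupOf (normalizerIn S U) := hy
    rw [hχU, Subgroup.mem_bot] at h1
    rw [Subgroup.mem_bot]
    exact congrArg (fun z : ↥(normalizerIn S U) => (z : Ω)) h1
  have hcard : Nat.card (normalizerIn S U) ≤ Nat.card (normalizerIn S U') :=
    hU'fn.2 U (isConj_symm F hconj)
  have hU'fix : NFix F U' x := hmax U' hU'fn hU'1 (lt_of_lt_of_le hlt hcard)
  -- `x` normalizes everything in `S`
  have hxN : x ∈ normalizerIn S U := by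
    refine ⟨hxS, ?_⟩
    show x ∈ Subgroup.normalizer (U : Set Ω)
    rw [Subgroup.mem_normalizer_iff]
    intro u
    constructor
    · intro hu
      rw [conj_eq_of_central hx (hUS hu)]
      exact hu
    · intro hu
      have h1 : x * u * x⁻¹ ∈ S := hUS hu
      have h2 : u ∈ S := by
        have := S.mul_mem (S.mul_mem (S.inv_mem hxS) h1) hxS
        have e : x⁻¹ * (x * u * x⁻¹) * x = u := by group
        rwa [e] at this
      rw [conj_eq_of_central hx h2] at hu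
      exact hu
  -- maps with source larger than `N_S(Q)` fix `x`
  have hab := fixes_above p hS F hF hx (Nat.card (normalizerIn S Q)) (by
    intro P hP hm α hα hxP
    have hPfin : Finite P := finite_of_le hP.1
    have hP1 : P ≠ ⊥ := by
      intro h
      rw [h, Subgroup.card_bot] at hm
      have : 0 < Nat.card (normalizerIn S Q) := by
        have : Finite (normalizerIn S Q) := finite_of_le hRS
        exact Nat.card_pos
      omega
    have hPN : P ≤ normalizerIn S P := fun y hy => ⟨hP.1 hy, Subgroup.le_normalizer hy⟩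
    have hNPfin : Finite (normalizerIn S P) := finite_of_le inf_le_left
    have h1 : NFix F P x := hmax P hP hP1 (lt_of_lt_of_le hm (card_le_of_le hPN))
    apply Subtype.ext
    exact h1 P _ (autHom_mem_normalizerHom F hP.1 hα) hxP)
  have hχx : χ ⟨x, hxN⟩ = x := hab _ χ hχ hlt hxN
  exact nfix_sub F E hE (nfix_transport F hUS hχ hχN hχU hxN hχx hU'fix)

end Cfsg.Agent.Helper26.WC
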