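import Mathlib
import Cfsg.Agent.Helper26.WCNorm

set_option autoImplicit false
set_option linter.style.haveILetI false
set_option linter.unusedSectionVars false

/-! Fixed elements and factor systems. -/

namespace Cfsg.Agent.Helper26.WC

open Cfsg Cfsg.FusionSystem Cfsg.Agent.Helper25 Cfsg.Agent.Helper26.MasterRed

section Factor

variable {Ω Ω' : Type*} [Group Ω] [Group Ω'] {S : Subgroup Ω} [Finite S] (F : FusionSystem S)
  {T : Subgroup Ω} (hT : F.StronglyClosed T)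
  (θ : S →* Ω') (hker : ∀ s : S, θ s = 1 ↔ (s : Ω) ∈ T) {S' : Subgroup Ω'}
  (hrange : θ.range = S') (E : FusionSystem S')
  (hiff : ∀ (P' : Subgroup Ω') (φ' : P' →* Ω'),
    φ' ∈ E.Hom P' ↔ P' ≤ S' ∧ ∃ φ ∈ F.Hom (preimageAlong θ P'), InducedAlong θ φ φ')

include hrange hiff in
/-- If the normalizer system of the full preimage of `U'` fixes `x`, the normalizer system of `U'`
in the factor system fixes the image of `x`. -/
theorem nfix_factor {U' : Subgroup Ω'}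
    (hU'n : S' ≤ Subgroup.normalizer (U' : Set Ω')) {x : Ω} (hxS : x ∈ S)
    (h : NFix F (preimageAlong θ U') x) : NFix E U' (θ ⟨x, hxS⟩) := by
  intro P' φ' hφ' hxP'
  obtain ⟨hφ'E, hP'N, hval, ψ', hψ', hext, hmap⟩ := hφ'
  rw [hiff] at hψ'
  obtain ⟨hsup, ψ, hψ, hind⟩ := hψ'
  have hUX : preimageAlong θ U' ≤ preimageAlong θ (P' ⊔ U') := preimageAlong_mono θ le_sup_right
  have hXS : preimageAlong θ (P' ⊔ U') ≤ S := preimageAlong_le θ _
  have hSNU : S ≤ Subgroup.normalizer ((preimageAlong θ U' : Subgroup Ω) : Set Ω) := by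
    intro g hg
    apply mem_normalizer_preimageAlong θ U' ⟨g, hg⟩
    apply hU'n
    rw [← hrange]
    exact ⟨_, rfl⟩
  have hUfin : Finite (preimageAlong θ U') := finite_of_le (preimageAlong_le θ U')
  have hψS : ∀ y, ψ y ∈ S := (F.le_of_mem hψ).2
  have hψ'U : ∀ z : ↥(P' ⊔ U'), (z : Ω') ∈ U' → ψ' z ∈ U' := by
    intro z hz
    have h0 : ψ' z ∈ (U'.subgroupOf (P' ⊔ U')).map ψ' := ⟨z, hz, rfl⟩
    exact (show ∀ Y : Subgroup Ω', (U'.subgroupOf (P' ⊔ U')).map ψ' = Y → ψ' z ∈ Y from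
      fun Y hY => hY ▸ h0) U' hmap
  have hψN : ψ ∈ F.normalizerHom (preimageAlong θ U') (preimageAlong θ (P' ⊔ U')) := by
    refine mem_normalizerHom_of_le F hUX hψ (fun y hy => ⟨hXS hy, hSNU (hXS hy)⟩)
      (fun y => ⟨hψS y, hSNU (hψS y)⟩) ?_
    apply map_eq_of_map_le (F.injective_of_mem hψ) _ hUX
    rintro _ ⟨y, hy, rfl⟩
    obtain ⟨hyS, hy'⟩ := (mem_preimageAlong _ _ _).mp hy
    refine (mem_preimageAlong _ _ _).mpr ⟨hψS y, ?_⟩
    have h1 := inducedAlong_apply θ hind y (hXS y.2) (preimageAlong_map_mem θ _ y) (hψS y)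
    rw [← h1]
    exact hψ'U _ hy'
  have hxX : x ∈ preimageAlong θ (P' ⊔ U') :=
    (mem_preimageAlong _ _ _).mpr ⟨hxS, Subgroup.mem_sup_left hxP'⟩
  have h2 := h _ ψ hψN hxX
  rw [← hext ⟨θ ⟨x, hxS⟩, hxP'⟩]
  have h1 := inducedAlong_apply θ hind ⟨x, hxX⟩ hxS
    (preimageAlong_map_mem θ _ ⟨x, hxX⟩) (hψS _)
  have e1 : (⟨θ ⟨x, hxS⟩, preimageAlong_map_mem θ _ ⟨x, hxX⟩⟩ : ↥(P' ⊔ U')) =
      Subgroup.inclusion le_sup_left ⟨θ ⟨x, hxS⟩, hxP'⟩ := Subtype.ext rfl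
  rw [e1] at h1
  rw [h1]
  congr 1
  exact Subtype.ext h2

include hT hker hrange hiff in
/-- If the factor system modulo `T` fixes the image of `x` then the maps of the system fix `x`
modulo `T`. -/
theorem fixesMod_of_factor_fixes {x : Ω} (hxS : x ∈ S) (h : Fixes E (θ ⟨x, hxS⟩)) :
    ∀ (P : Subgroup Ω), T ≤ P → ∀ φ : P →* Ω, φ ∈ F.Hom P → ∀ hxP : x ∈ P,
      φ ⟨x, hxP⟩ * x⁻¹ ∈ T := by
  intro P hTP φ hφ hxP
  have hPS : P ≤ S := (F.le_of_mem hφ).1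
  have hpre : preimageAlong θ (imageAlong θ P) = P := by
    rw [preimageAlong_imageAlong θ hT.1 hker hPS]
    exact sup_eq_left.mpr hTP
  have hP'S : imageAlong θ P ≤ S' := by
    rw [← hrange]
    rintro _ ⟨y, -, rfl⟩
    exact ⟨y, rfl⟩
  obtain ⟨P', hP', hPe⟩ : ∃ P', P' ≤ S' ∧ P = preimageAlong θ P' := ⟨_, hP'S, hpre.symm⟩
  subst hPe
  obtain ⟨φ', hind⟩ := exists_inducedAlong F hT θ hker hrange hP' hφ
  have hφ'E : φ' ∈ E.Hom P' := (hiff P' φ').mpr ⟨hP', φ, hφ, hind⟩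
  have hφS : ∀ y, φ y ∈ S := (F.le_of_mem hφ).2
  have h1 := inducedAlong_apply θ hind ⟨x, hxP⟩ hxS
    (preimageAlong_map_mem θ P' ⟨x, hxP⟩) (hφS _)
  have h3 := h P' φ' hφ'E (preimageAlong_map_mem θ P' ⟨x, hxP⟩)
  rw [h3] at h1
  have h2 : θ (⟨φ ⟨x, hxP⟩, hφS _⟩ * (⟨x, hxS⟩ : S)⁻¹) = 1 := by
    rw [map_mul, map_inv, ← h1]
    exact mul_inv_cancel _
  exact (hker _).mp h2

end Factor

end Cfsg.Agent.Helper26.WC
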