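import Mathlib
import Cfsg.Agent.Helper26.WCFactor
import Cfsg.Agent.Helper14.PCore

set_option autoImplicit false
set_option linter.style.haveILetI false
set_option linter.unusedSectionVars false

/-! Positive characteristic functors containing the centre and satisfying the local centre
condition: basic facts. -/

namespace Cfsg.Agent.Helper26.WC

open Cfsg Cfsg.FusionSystem Cfsg.Agent.Helper25 Cfsg.Agent.Helper26.MasterRed

universe u

/-- the functor subgroup of a subgroup `A`, as a subgroup of the ambient group -/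
def Wup {Ω : Type u} [Group Ω] (W : ∀ (Q : Type u) [Group Q], Subgroup Q) (A : Subgroup Ω) :
    Subgroup Ω :=
  (W ↥A).map A.subtype

/-- the hypotheses on the functor -/
structure WHyp (p : ℕ) (W : ∀ (Q : Type u) [Group Q], Subgroup Q) : Prop where
  hW1 : ∀ (Q : Type u) [Group Q] [Finite Q], IsPGroup p Q → Nontrivial Q → W Q ≠ ⊥
  hW2 : ∀ (Q R : Type u) [Group Q] [Group R] [Finite Q], IsPGroup p Q → ∀ φ : Q ≃* R,
    (W Q).map φ.toMonoidHom = W R
  hWZ : ∀ (Q : Type u) [Group Q] [Finite Q], IsPGroup p Q → Subgroup.center Q ≤ W Q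
  hC : ∀ (G : Type u) [Group G] [Finite G] (P : Sylow p G),
    Cfsg.pCore p G ⊓ Subgroup.center G = Cfsg.pCore p G ⊓
      (Subgroup.center ↥(Subgroup.normalizer ((Wup W (P : Subgroup G) : Subgroup G) : Set G))).map
        (Subgroup.normalizer ((Wup W (P : Subgroup G) : Subgroup G) : Set G)).subtype

variable {p : ℕ} {W : ∀ (Q : Type u) [Group Q], Subgroup Q} {Ω : Type u} [Group Ω]

theorem wup_le (A : Subgroup Ω) : Wup W A ≤ A := by
  rintro _ ⟨y, -, rfl⟩
  exact y.2

theorem wup_subgroupOf (A : Subgroup Ω) : (Wup W A).subgroupOf A = W ↥A := by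
  ext y
  rw [Subgroup.mem_subgroupOf]
  constructor
  · rintro ⟨z, hz, hzy⟩
    have : z = y := Subtype.ext hzy
    rw [← this]
    exact hz
  · intro hy
    exact ⟨y, hy, rfl⟩

theorem wup_char (hH : WHyp p W) {A : Subgroup Ω} [Finite A] (hA : IsPGroup p A) :
    ((Wup W A).subgroupOf A).Characteristic := by
  rw [wup_subgroupOf]
  rw [Subgroup.characteristic_iff_map_eq]
  intro φ
  exact hH.hW2 ↥A ↥A hA φ

theorem wup_ne_bot (hH : WHyp p W) {A : Subgroup Ω} [Finite A] (hA : IsPGroup p A)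
    (hA1 : A ≠ ⊥) : Wup W A ≠ ⊥ := by
  intro h
  have h1 : W ↥A ≠ ⊥ := hH.hW1 ↥A hA ((Subgroup.nontrivial_iff_ne_bot A).mpr hA1)
  apply h1
  have h2 := wup_subgroupOf (W := W) A
  rw [h] at h2
  rw [← h2]
  exact Subgroup.bot_subgroupOf A

theorem mem_wup_of_central (hH : WHyp p W) {A : Subgroup Ω} [Finite A] (hA : IsPGroup p A)
    {x : Ω} (hxA : x ∈ A) (hx : ∀ s ∈ A, s * x * s⁻¹ = x) : x ∈ Wup W A := by
  have h1 : (⟨x, hxA⟩ : A) ∈ Subgroup.center ↥A := by
    rw [Subgroup.mem_center_iff]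
    intro s
    apply Subtype.ext
    show (s : Ω) * x = x * (s : Ω)
    have := hx s s.2
    calc (s : Ω) * x = ((s : Ω) * x * (s : Ω)⁻¹) * (s : Ω) := by group
      _ = x * (s : Ω) := by rw [this]
  exact ⟨⟨x, hxA⟩, hH.hWZ ↥A hA h1, rfl⟩

/-- the functor subgroup of the image of an injective homomorphism -/
theorem wup_range (hH : WHyp p W) {A : Subgroup Ω} [Finite A] (hA : IsPGroup p A)
    {G : Type u} [Group G] (ι : A →* G) (hinj : Function.Injective ι) :
    Wup W ι.range = ((Wup W A).subgroupOf A).map ι := by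
  rw [wup_subgroupOf]
  have h1 := hH.hW2 ↥A ↥ι.range hA (MonoidHom.ofInjective hinj)
  unfold Wup
  rw [← h1, Subgroup.map_map]
  congr 1

theorem wup_congr {A B : Subgroup Ω} (h : A = B) : Wup W A = Wup W B := by
  rw [h]

end Cfsg.Agent.Helper26.WC
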