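import Mathlib
import Cfsg.Agent.Helper26.WCW
import Cfsg.Agent.Helper26.FrattiniFusion

set_option autoImplicit false
set_option linter.style.haveILetI false
set_option linter.unusedSectionVars false

/-! The local centre condition in a model: an element of a normal subgroup fixed by the normalizer
system of `W(S)` is fixed by the whole system. -/

namespace Cfsg.Agent.Helper26.WC

open Cfsg Cfsg.FusionSystem Cfsg.Agent.Helper25 Cfsg.Agent.Helper26.MasterRed

universe u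

variable {p : ℕ} [Fact p.Prime] {W : ∀ (Q : Type u) [Group Q], Subgroup Q}
  {Ω : Type u} [Group Ω] {S : Subgroup Ω}

theorem fixes_of_model [Finite S] (hH : WHyp p W) (hS : IsPGroup p S) (F : FusionSystem S)
    {G : Type u} [Group G] (ι : S →* G) (hM : F.IsModel p G ι) {Q : Subgroup Ω}
    (hQ : F.IsNormal Q) {x : Ω} (hxQ : x ∈ Q) (hxc : ∀ s ∈ S, s * x * s⁻¹ = x)
    (h : NFix F (Wup W S) x) : Fixes F x := by
  have hQn := normal_map_of_isModel p F ι hM hQ
  obtain ⟨hfin, hreal, ⟨T, hT⟩, -⟩ := hM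
  have hinj := hreal.1
  have hQS : Q ≤ S := hQ.1
  have hxS : x ∈ S := hQS hxQ
  -- `ι x` lies in `O_p(G)`
  have hxcore : ι ⟨x, hxS⟩ ∈ pCore p G := by
    have h1 : (Q.subgroupOf S).map ι ≤ pCore p G := by
      apply Cfsg.Agent.Helper14.le_pCore p hQn
      have h2 : IsPGroup p ↥(Q.subgroupOf S) :=
        hS.of_injective (Q.subgroupOf S).subtype (Subgroup.subtype_injective _)
      exact h2.map ι
    exact h1 ⟨⟨x, hxS⟩, hxQ, rfl⟩
  -- the functor subgroup of the Sylow subgroup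
  have hWT : Wup W (T : Subgroup G) = ((Wup W S).subgroupOf S).map ι := by
    rw [hT]
    exact wup_range hH hS ι hinj
  have hWS : Wup W S ≤ S := wup_le S
  have hWfin : Finite (Wup W S) := finite_of_le hWS
  have hxW : x ∈ Wup W S := mem_wup_of_central hH hS hxS hxc
  have hSNW : S ≤ Subgroup.normalizer ((Wup W S : Subgroup Ω) : Set Ω) := by
    intro g hg
    exact mem_normalizer_of_characteristic hWS (wup_char hH hS) (Subgroup.le_normalizer hg)
  -- `ι x` is central in the normalizer of the functor subgroup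
  have hxcen : ∀ g ∈ Subgroup.normalizer ((Wup W (T : Subgroup G) : Subgroup G) : Set G),
      g * ι ⟨x, hxS⟩ * g⁻¹ = ι ⟨x, hxS⟩ := by
    intro g hg
    have hgW : ∀ y ∈ ((Wup W S).subgroupOf S).map ι, g * y * g⁻¹ ∈
        ((Wup W S).subgroupOf S).map ι := by
      intro y hy
      rw [← hWT] at hy ⊢
      exact ((Subgroup.mem_normalizer_iff.mp hg) y).mp hy
    have hconj : ∀ y : ↥(Wup W S), g * ι ⟨y, hWS y.2⟩ * g⁻¹ ∈ ι.range := by
      intro y
      obtain ⟨z, -, hz⟩ := hgW _ ⟨⟨y, hWS y.2⟩, y.2, rfl⟩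
      exact ⟨z, hz⟩
    obtain ⟨φ, hφ, hφS, hφι⟩ := exists_hom_of_conj F ι hreal hWS g hconj
    have hφW : ∀ y : ↥(Wup W S), φ y ∈ Wup W S := by
      intro y
      obtain ⟨z, hz, hze⟩ := hgW _ ⟨⟨y, hWS y.2⟩, y.2, rfl⟩
      rw [← hφι y] at hze
      have h2 := hinj hze
      have h3 : (z : Ω) = φ y := congrArg Subtype.val h2
      rw [← h3]
      exact hz
    have hWN : Wup W S ≤ normalizerIn S (Wup W S) := fun y hy => ⟨hWS hy, Subgroup.le_normalizer hy⟩
    have hφN : φ ∈ F.normalizerHom (Wup W S) (Wup W S) := by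
      refine mem_normalizerHom_of_le F le_rfl hφ hWN (fun y => hWN (hφW y)) ?_
      apply map_eq_of_map_le (F.injective_of_mem hφ) _ le_rfl
      rintro _ ⟨y, -, rfl⟩
      exact hφW y
    have h1 := h _ φ hφN hxW
    have h2 := hφι ⟨x, hxW⟩
    rw [← h2]
    congr 1
    exact Subtype.ext h1
  -- apply the local condition
  have hxZ : ι ⟨x, hxS⟩ ∈ Subgroup.center G := by
    have h1 : ι ⟨x, hxS⟩ ∈ pCore p G ⊓ Subgroup.center G := by
      rw [hH.hC G T]
      refine ⟨hxcore, ?_⟩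
      have hxN : ι ⟨x, hxS⟩ ∈
          Subgroup.normalizer ((Wup W (T : Subgroup G) : Subgroup G) : Set G) := by
        rw [hWT]
        exact map_mem_normalizer_map ι hSNW ⟨x, hxS⟩
      refine ⟨⟨ι ⟨x, hxS⟩, hxN⟩, ?_, rfl⟩
      rw [SetLike.mem_coe, Subgroup.mem_center_iff]
      intro g
      apply Subtype.ext
      show (g : G) * ι ⟨x, hxS⟩ = ι ⟨x, hxS⟩ * (g : G)
      have := hxcen g g.2
      calc (g : G) * ι ⟨x, hxS⟩ = ((g : G) * ι ⟨x, hxS⟩ * (g : G)⁻¹) * (g : G) := by group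
        _ = ι ⟨x, hxS⟩ * (g : G) := by rw [this]
    exact h1.2
  -- conclusion
  intro P φ hφ hxP
  have hPS : P ≤ S := (F.le_of_mem hφ).1
  have hφS : ∀ y : P, φ y ∈ S := (F.le_of_mem hφ).2
  obtain ⟨g, hg⟩ := (hreal.2 P hPS φ hφS).mp hφ
  have h1 := hg ⟨x, hxP⟩
  have h2 : g * ι ⟨x, hxS⟩ * g⁻¹ = ι ⟨x, hxS⟩ := by
    have := (Subgroup.mem_center_iff.mp hxZ) g
    rw [this]
    group
  have h3 : ι ⟨φ ⟨x, hxP⟩, hφS _⟩ = ι ⟨x, hxS⟩ := by
    rw [h1]
    exact h2
  exact congrArg Subtype.val (hinj h3)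

end Cfsg.Agent.Helper26.WC
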