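import Mathlib
import Cfsg.Agent.Helper26.WCModel
import Cfsg.Agent.Helper25.FusionPPowerNormal
import Cfsg.Agent.S5077

set_option autoImplicit false
set_option linter.style.haveILetI false
set_option linter.unusedSectionVars false

/-! An element fixed modulo a normal subgroup `Q` and by the normalizer system of `Q C_S(Q)` is
fixed. -/

namespace Cfsg.Agent.Helper26.WC

open Cfsg Cfsg.FusionSystem Cfsg.Agent.Helper25 Cfsg.Agent.Helper26.MasterRed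

variable {Ω : Type*} [Group Ω] {S : Subgroup Ω}

theorem forall_mem_sup_of {X A B : Subgroup Ω} (hA : A ≤ X) (hB : B ≤ X) (K : Subgroup ↥X)
    (h1 : ∀ y : X, (y : Ω) ∈ A → y ∈ K) (h2 : ∀ y : X, (y : Ω) ∈ B → y ∈ K) :
    ∀ y : X, (y : Ω) ∈ A ⊔ B → y ∈ K := by
  have h : (A ⊔ B).subgroupOf X ≤ K := by
    rw [Subgroup.subgroupOf_sup hA hB]
    exact sup_le (fun y hy => h1 y hy) (fun y hy => h2 y hy)
  intro y hy
  exact h hy

theorem forall_mem_zpowers_of {X : Subgroup Ω} {x : Ω} (hx : x ∈ X) (K : Subgroup ↥X)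
    (h : (⟨x, hx⟩ : X) ∈ K) : ∀ y : X, (y : Ω) ∈ Subgroup.zpowers x → y ∈ K := by
  intro y hy
  obtain ⟨k, hk⟩ := Subgroup.mem_zpowers_iff.mp hy
  have e : y = (⟨x, hx⟩ : X) ^ k := by
    apply Subtype.ext
    rw [← hk]
    simp
  rw [e]
  exact K.zpow_mem h k

/-- a map of the system carrying `Y` into itself, as an automorphism -/
theorem exists_aut_of_hom [Finite S] (F : FusionSystem S) {Y : Subgroup Ω} (hYS : Y ≤ S)
    {a : Y →* Ω} (ha : a ∈ F.Hom Y) (haY : ∀ y, a y ∈ Y) :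
    ∃ a' ∈ F.autGroup Y, ∀ y : Y, ((a' y : Y) : Ω) = a y := by
  have hYfin : Finite Y := finite_of_le hYS
  have hr : a.range = Y := by
    apply Subgroup.eq_of_le_of_card_ge (by rintro _ ⟨y, rfl⟩; exact haY y)
    exact (Nat.card_congr (MonoidHom.ofInjective (F.injective_of_mem ha)).toEquiv).le
  refine ⟨isoOfHom a (F.injective_of_mem ha) hr, ?_, fun y => rfl⟩
  rw [mem_autGroup_iff F hYS]
  have e : autHom (isoOfHom a (F.injective_of_mem ha) hr) = a := by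
    ext y
    rfl
  rw [e]
  exact ha

theorem fixes_of_fixesMod [Finite S] (p : ℕ) [Fact p.Prime] (hS : IsPGroup p S)
    (F : FusionSystem S) (hF : F.IsSaturated p) {Q : Subgroup Ω} (hQ : F.IsNormal Q) {x : Ω}
    (hxS : x ∈ S) (hxc : ∀ s ∈ S, s * x * s⁻¹ = x)
    (hmod : ∀ (P : Subgroup Ω), Q ≤ P → ∀ φ : P →* Ω, φ ∈ F.Hom P → ∀ hxP : x ∈ P,
      φ ⟨x, hxP⟩ * x⁻¹ ∈ Q)
    (hR : NFix F (Q ⊔ centralizerIn S Q) x) : Fixes F x := by
  have hQS : Q ≤ S := hQ.1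
  have hSN : S ≤ Subgroup.normalizer (Q : Set Ω) := le_normalizer_of_isNormal F hQ
  have hsc := stronglyClosed_of_isNormal F hQ
  have hQfin : Finite Q := finite_of_le hQS
  obtain ⟨Y, hYe⟩ : ∃ Y : Subgroup Ω, Y = Q ⊔ Subgroup.zpowers x := ⟨_, rfl⟩
  have hzS : Subgroup.zpowers x ≤ S := Subgroup.zpowers_le.mpr hxS
  have hYS : Y ≤ S := by rw [hYe]; exact sup_le hQS hzS
  have hQY : Q ≤ Y := by rw [hYe]; exact le_sup_left
  have hzY : Subgroup.zpowers x ≤ Y := by rw [hYe]; exact le_sup_right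
  have hxY : x ∈ Y := hzY (Subgroup.mem_zpowers x)
  have hYfin : Finite Y := finite_of_le hYS
  have hYp : IsPGroup p Y := isPGroup_of_le hS hYS
  have hYmem : ∀ (K : Subgroup ↥Y), (∀ y : Y, (y : Ω) ∈ Q → y ∈ K) → (⟨x, hxY⟩ : Y) ∈ K →
      ∀ y : Y, y ∈ K := by
    intro K h1 h2 y
    have h3 := forall_mem_sup_of hQY hzY K h1 (forall_mem_zpowers_of hxY K h2)
    apply h3 y
    rw [← hYe]
    exact y.2
  have hcomm : ∀ s ∈ S, s * x = x * s := by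
    intro s hs
    have := hxc s hs
    calc s * x = (s * x * s⁻¹) * s := by group
      _ = x * s := by rw [this]
  have hxCQ : x ∈ centralizerIn S Q :=
    ⟨hxS, Subgroup.mem_centralizer_iff.mpr (fun q hq => hcomm q (hQS hq))⟩
  have hYR : Y ≤ Q ⊔ centralizerIn S Q := by
    rw [hYe]
    exact sup_le le_sup_left (le_sup_of_le_right (Subgroup.zpowers_le.mpr hxCQ))
  -- `S` normalizes `Y`
  have hSNY : S ≤ Subgroup.normalizer (Y : Set Ω) := by
    have key : ∀ g ∈ S, ∀ y ∈ Y, g * y * g⁻¹ ∈ Y := by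
      intro g hg y hy
      have h1 : ∀ z : Y, z ∈ (Y.comap (MulAut.conj g).toMonoidHom).subgroupOf Y := by
        apply hYmem
        · intro z hz
          show g * (z : Ω) * g⁻¹ ∈ Y
          exact hQY (((Subgroup.mem_normalizer_iff.mp (hSN hg)) _).mp hz)
        · show g * x * g⁻¹ ∈ Y
          rw [hxc g hg]
          exact hxY
      exact h1 ⟨y, hy⟩
    intro g hg
    rw [Subgroup.mem_normalizer_iff]
    intro y
    constructor
    · exact key g hg y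
    · intro hy
      have := key g⁻¹ (S.inv_mem hg) _ hy
      have e : g⁻¹ * (g * y * g⁻¹) * g⁻¹⁻¹ = y := by group
      rwa [e] at this
  have hYfn : F.IsFullyNormalized Y := isFullyNormalized_of_normal F hYS hSNY
  -- the group of automorphisms fixing `Q` pointwise
  have hQmap : ∀ γ : MulAut Y, γ ∈ F.autGroup Y → ∀ y : Y, (y : Ω) ∈ Q → ((γ y : Y) : Ω) ∈ Q := by
    intro γ hγ y hy
    have h1 := map_autGroup_eq_of_stronglyClosed F hsc hYS γ hγ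
    have h2 : γ y ∈ (Q.subgroupOf Y).map γ.toMonoidHom := ⟨y, hy, rfl⟩
    rw [h1] at h2
    exact h2
  have hpow : ∀ β : MulAut Y, β ∈ F.autGroup Y → (∀ y : Y, (y : Ω) ∈ Q → β y = y) →
      ∃ k : ℕ, β ^ (p ^ k) = 1 := by
    intro β hβ hβQ
    have hβF : autHom β ∈ F.Hom Y := (mem_autGroup_iff F hYS β).mp hβ
    have hq₀ : ((β ⟨x, hxY⟩ * (⟨x, hxY⟩ : Y)⁻¹ : Y) : Ω) ∈ Q := hmod Y hQY _ hβF hxY
    obtain ⟨q₀, hq₀e⟩ : ∃ q₀ : Y, q₀ = β ⟨x, hxY⟩ * (⟨x, hxY⟩ : Y)⁻¹ := ⟨_, rfl⟩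
    rw [← hq₀e] at hq₀
    have hβx : β ⟨x, hxY⟩ = q₀ * ⟨x, hxY⟩ := by rw [hq₀e]; group
    have hβq₀ : β q₀ = q₀ := hβQ q₀ hq₀
    have key : ∀ n : ℕ, (β ^ n) ⟨x, hxY⟩ = q₀ ^ n * ⟨x, hxY⟩ := by
      intro n
      induction n with
      | zero => simp
      | succ n ih =>
        rw [pow_succ', MulAut.mul_apply, ih, map_mul, map_pow, hβq₀, hβx, pow_succ]
        group
    have hfixn : ∀ (n : ℕ) (y : Y), (y : Ω) ∈ Q → (β ^ n) y = y := by
      intro n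
      induction n with
      | zero => intro y _; simp
      | succ n ih =>
        intro y hy
        rw [pow_succ, MulAut.mul_apply, hβQ y hy, ih y hy]
    obtain ⟨k, hk⟩ := hYp q₀
    refine ⟨k, ?_⟩
    ext y
    have h1 : ∀ z : Y, z ∈ MonoidHom.eqLocus (β ^ (p ^ k)).toMonoidHom (MonoidHom.id Y) := by
      apply hYmem
      · intro z hz
        exact hfixn _ z hz
      · show (β ^ (p ^ k)) ⟨x, hxY⟩ = ⟨x, hxY⟩
        rw [key, hk, one_mul]
    have h2 : (β ^ (p ^ k)) y = y := h1 y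
    rw [h2]
    rfl
  let B : Subgroup ↥(F.autGroup Y) :=
    { carrier := {β | ∀ y : Y, (y : Ω) ∈ Q → (β : MulAut Y) y = y}
      one_mem' := fun y _ => rfl
      mul_mem' := by
        intro β γ hβ hγ y hy
        show (β : MulAut Y) ((γ : MulAut Y) y) = y
        rw [hγ y hy, hβ y hy]
      inv_mem' := by
        intro β hβ y hy
        show ((β : MulAut Y)⁻¹) y = y
        rw [MulAut.inv_apply, MulEquiv.symm_apply_eq, hβ y hy] }
  have hBmem : ∀ β : ↥(F.autGroup Y), β ∈ B ↔ ∀ y : Y, (y : Ω) ∈ Q → (β : MulAut Y) y = y :=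
    fun β => Iff.rfl
  have hBn : B.Normal := by
    constructor
    intro β hβ γ
    rw [hBmem] at hβ ⊢
    intro y hy
    show (γ : MulAut Y) ((β : MulAut Y) (((γ : MulAut Y)⁻¹) y)) = y
    have h1 : ((((γ : MulAut Y)⁻¹) y : Y) : Ω) ∈ Q :=
      hQmap _ ((F.autGroup Y).inv_mem γ.2) y hy
    rw [hβ _ h1, MulAut.apply_inv_self]
  have hBp : IsPGroup p B := by
    rintro ⟨β, hβ⟩
    obtain ⟨k, hk⟩ := hpow (β : MulAut Y) β.2 ((hBmem β).mp hβ)
    refine ⟨k, ?_⟩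
    apply Subtype.ext
    apply Subtype.ext
    simpa using hk
  obtain ⟨-, -, RY, hRY⟩ := Cfsg.Agent.S5077.sylow_axiom p hS F hF Y hYfn
  have hBR : B ≤ RY := hBp.le_sylow_of_normal RY
  have hBfix : ∀ θ : MulAut Y, θ ∈ F.autGroup Y → (∀ y : Y, (y : Ω) ∈ Q → θ y = y) →
      θ ⟨x, hxY⟩ = ⟨x, hxY⟩ := by
    intro θ hθ hθQ
    have h1 : (⟨θ, hθ⟩ : ↥(F.autGroup Y)) ∈ (RY : Subgroup ↥(F.autGroup Y)) :=
      hBR ((hBmem ⟨θ, hθ⟩).mpr hθQ)
    rw [hRY, Subgroup.mem_subgroupOf] at h1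
    obtain ⟨g, hg, hgy⟩ := (mem_autInducedBy_iff S Y θ).mp h1
    apply Subtype.ext
    rw [hgy]
    exact hxc g hg
  -- the main argument
  intro P φ hφ hxP
  obtain ⟨ψ, hψ, hext, hmap⟩ := hQ.2 P φ hφ
  rw [← hext ⟨x, hxP⟩]
  have hXS : P ⊔ Q ≤ S := (F.le_of_mem hψ).1
  have hψS : ∀ y, ψ y ∈ S := (F.le_of_mem hψ).2
  have hψQ : ∀ y : ↥(P ⊔ Q), (y : Ω) ∈ Q → ψ y ∈ Q := by
    intro y hy
    have h0 : ψ y ∈ (Q.subgroupOf (P ⊔ Q)).map ψ := ⟨y, hy, rfl⟩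
    exact (show ∀ Z : Subgroup Ω, (Q.subgroupOf (P ⊔ Q)).map ψ = Z → ψ y ∈ Z from
      fun Z hZ => hZ ▸ h0) Q hmap
  have hxX : x ∈ P ⊔ Q := Subgroup.mem_sup_left hxP
  have hYX : Y ≤ P ⊔ Q := by
    rw [hYe]
    exact sup_le le_sup_right (Subgroup.zpowers_le.mpr hxX)
  -- `a`, the restriction of `ψ` to `Y`
  have ha : ψ.comp (Subgroup.inclusion hYX) ∈ F.Hom Y := restrict_mem F hYX hψ
  obtain ⟨a, hae⟩ : ∃ a : Y →* Ω, a = ψ.comp (Subgroup.inclusion hYX) := ⟨_, rfl⟩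
  rw [← hae] at ha
  have haapp : ∀ y : Y, a y = ψ ⟨y, hYX y.2⟩ := fun y => by rw [hae]; rfl
  have hax : a ⟨x, hxY⟩ * x⁻¹ ∈ Q := hmod Y hQY a ha hxY
  have haQ : ∀ y : Y, (y : Ω) ∈ Q → a y ∈ Q := fun y hy => by rw [haapp]; exact hψQ _ hy
  have haY : ∀ y : Y, a y ∈ Y := by
    have h1 : ∀ y : Y, y ∈ Y.comap a := by
      apply hYmem
      · intro y hy
        exact hQY (haQ y hy)
      · show a ⟨x, hxY⟩ ∈ Y
        have := Y.mul_mem (hQY hax) hxY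
        rwa [inv_mul_cancel_right] at this
    exact h1
  -- the extension of `a` on `Q` to `N_α ≥ Q C_S(Q)`
  have hrec : F.IsReceptive Q := isReceptive_of_stronglyClosed p F hF hsc
  have hα : a.comp (Subgroup.inclusion hQY) ∈ F.Hom Q := restrict_mem F hQY ha
  obtain ⟨α, hαe⟩ : ∃ α : Q →* Ω, α = a.comp (Subgroup.inclusion hQY) := ⟨_, rfl⟩
  rw [← hαe] at hα
  have hαapp : ∀ q : Q, α q = a ⟨q, hQY q.2⟩ := fun q => by rw [hαe]; rfl
  have hαr : α.range = Q := by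
    apply Subgroup.eq_of_le_of_card_ge
    · rintro _ ⟨q, rfl⟩
      rw [hαapp]
      exact haQ _ q.2
    · exact (Nat.card_congr (MonoidHom.ofInjective (F.injective_of_mem hα)).toEquiv).le
  obtain ⟨ψ', hψ', hψ'ext⟩ := hrec.2 Q α hα hαr
  have hQN : Q ≤ extender S Q α := le_extender hQS α (fun q => (F.le_of_mem hα).2 q)
  have hCN : centralizerIn S Q ≤ extender S Q α := by
    intro c hc
    apply Subgroup.subset_closure
    refine ⟨hc.1, hSN hc.1, 1, S.one_mem, fun q hq => ?_⟩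
    have e : (⟨c * (q : Ω) * c⁻¹, hq⟩ : Q) = q := by
      apply Subtype.ext
      show c * (q : Ω) * c⁻¹ = q
      have := (Subgroup.mem_centralizer_iff.mp hc.2) q q.2
      rw [← this]
      group
    rw [e]
    simp
  have hRN : Q ⊔ centralizerIn S Q ≤ extender S Q α := sup_le hQN hCN
  have hψ'S : ∀ y, ψ' y ∈ S := (F.le_of_mem hψ').2
  have hψ'α : ∀ y : ↥(extender S Q α), ∀ hy : (y : Ω) ∈ Q, ψ' y = α ⟨y, hy⟩ := by
    intro y hy
    exact hψ'ext y hy y.2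
  have hψ'Q : ∀ y : ↥(extender S Q α), (y : Ω) ∈ Q → ψ' y ∈ Q := by
    intro y hy
    rw [hψ'α y hy, hαapp]
    exact haQ _ hy
  have hψ'C : ∀ y : ↥(extender S Q α), (y : Ω) ∈ centralizerIn S Q →
      ψ' y ∈ centralizerIn S Q := by
    intro y hy
    refine ⟨hψ'S y, Subgroup.mem_centralizer_iff.mpr ?_⟩
    intro q hq
    have hq' : q ∈ α.range := by rw [hαr]; exact hq
    obtain ⟨q', rfl⟩ := hq'
    have e : α q' = ψ' ⟨q', hQN q'.2⟩ := (hψ'α ⟨q', hQN q'.2⟩ q'.2).symm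
    rw [e, ← map_mul, ← map_mul]
    congr 1
    apply Subtype.ext
    show (q' : Ω) * y = y * q'
    exact (Subgroup.mem_centralizer_iff.mp hy.2) q' q'.2
  -- the restriction of `ψ'` to `R = Q C_S(Q)` lies in the normalizer system of `R`
  have hRS : Q ⊔ centralizerIn S Q ≤ S := sup_le hQS inf_le_left
  have hRfin : Finite ↥(Q ⊔ centralizerIn S Q) := finite_of_le hRS
  have hb₀ : ψ'.comp (Subgroup.inclusion hRN) ∈ F.Hom (Q ⊔ centralizerIn S Q) :=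
    restrict_mem F hRN hψ'
  obtain ⟨b₀, hb₀e⟩ : ∃ b₀ : ↥(Q ⊔ centralizerIn S Q) →* Ω,
      b₀ = ψ'.comp (Subgroup.inclusion hRN) := ⟨_, rfl⟩
  rw [← hb₀e] at hb₀
  have hb₀app : ∀ y : ↥(Q ⊔ centralizerIn S Q), b₀ y = ψ' ⟨y, hRN y.2⟩ :=
    fun y => by rw [hb₀e]; rfl
  have hb₀R : ∀ y : ↥(Q ⊔ centralizerIn S Q), b₀ y ∈ Q ⊔ centralizerIn S Q := by
    have h1 := forall_mem_sup_of (X := Q ⊔ centralizerIn S Q) le_sup_left le_sup_right
      ((Q ⊔ centralizerIn S Q).comap b₀)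
      (fun y hy => Subgroup.mem_sup_left (by rw [hb₀app]; exact hψ'Q _ hy))
      (fun y hy => Subgroup.mem_sup_right (by rw [hb₀app]; exact hψ'C _ hy))
    intro y
    exact h1 y y.2
  have hRNR : Q ⊔ centralizerIn S Q ≤ normalizerIn S (Q ⊔ centralizerIn S Q) :=
    fun y hy => ⟨hRS hy, Subgroup.le_normalizer hy⟩
  have hb₀N : b₀ ∈ F.normalizerHom (Q ⊔ centralizerIn S Q) (Q ⊔ centralizerIn S Q) := by
    refine mem_normalizerHom_of_le F le_rfl hb₀ hRNR (fun y => hRNR (hb₀R y)) ?_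
    apply map_eq_of_map_le (F.injective_of_mem hb₀) _ le_rfl
    rintro _ ⟨y, -, rfl⟩
    exact hb₀R y
  have hxR : x ∈ Q ⊔ centralizerIn S Q := Subgroup.mem_sup_right hxCQ
  have hb₀x : b₀ ⟨x, hxR⟩ = x := hR _ b₀ hb₀N hxR
  -- `b`, the restriction of `ψ'` to `Y`
  have hYN : Y ≤ extender S Q α := hYR.trans hRN
  have hb : ψ'.comp (Subgroup.inclusion hYN) ∈ F.Hom Y := restrict_mem F hYN hψ'
  obtain ⟨b, hbe⟩ : ∃ b : Y →* Ω, b = ψ'.comp (Subgroup.inclusion hYN) := ⟨_, rfl⟩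
  rw [← hbe] at hb
  have hbapp : ∀ y : Y, b y = ψ' ⟨y, hYN y.2⟩ := fun y => by rw [hbe]; rfl
  have hbx : b ⟨x, hxY⟩ = x := by
    rw [hbapp]
    rw [hb₀app] at hb₀x
    exact hb₀x
  have hbQ : ∀ y : Y, (y : Ω) ∈ Q → b y = a y := by
    intro y hy
    rw [hbapp, hψ'α ⟨y, hYN y.2⟩ hy, hαapp]
  have hbY : ∀ y : Y, b y ∈ Y := by
    have h1 : ∀ y : Y, y ∈ Y.comap b := by
      apply hYmem
      · intro y hy
        show b y ∈ Y
        rw [hbQ y hy]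
        exact haY y
      · show b ⟨x, hxY⟩ ∈ Y
        rw [hbx]
        exact hxY
    exact h1
  obtain ⟨a', ha', ha'app⟩ := exists_aut_of_hom F hYS ha haY
  obtain ⟨b', hb', hb'app⟩ := exists_aut_of_hom F hYS hb hbY
  have hθ : b'⁻¹ * a' ∈ F.autGroup Y := (F.autGroup Y).mul_mem ((F.autGroup Y).inv_mem hb') ha'
  have hθQ : ∀ y : Y, (y : Ω) ∈ Q → (b'⁻¹ * a') y = y := by
    intro y hy
    rw [MulAut.mul_apply, MulAut.inv_apply, MulEquiv.symm_apply_eq]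
    apply Subtype.ext
    rw [ha'app, hb'app, hbQ y hy]
  have hθx := hBfix _ hθ hθQ
  rw [MulAut.mul_apply, MulAut.inv_apply, MulEquiv.symm_apply_eq] at hθx
  have h1 : a ⟨x, hxY⟩ = b ⟨x, hxY⟩ := by
    rw [← ha'app, ← hb'app, hθx]
  rw [hbx, haapp] at h1
  exact h1

end Cfsg.Agent.Helper26.WC
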