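import Mathlib
import Cfsg.Agent.Helper26.WCCent
import Cfsg.Agent.S5090

set_option autoImplicit false
set_option linter.style.haveILetI false
set_option linter.unusedSectionVars false

/-! A functor satisfying the local centre condition controls weak closure of elements: an element
fixed by the normalizer system of `W(S)` is fixed by every map of a saturated system. -/

namespace Cfsg.Agent.Helper26.WC

open Cfsg Cfsg.FusionSystem Cfsg.Agent.Helper25 Cfsg.Agent.Helper26.MasterRed

universe u

theorem le_normalizer_sup_of {Ω : Type*} [Group Ω] {S A B : Subgroup Ω}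
    (hA : S ≤ Subgroup.normalizer (A : Set Ω)) (hB : S ≤ Subgroup.normalizer (B : Set Ω)) :
    S ≤ Subgroup.normalizer ((A ⊔ B : Subgroup Ω) : Set Ω) := by
  have key : ∀ g ∈ S, ∀ y ∈ A ⊔ B, g * y * g⁻¹ ∈ A ⊔ B := by
    intro g hg y hy
    have h1 : A ⊔ B ≤ (A ⊔ B).comap (MulAut.conj g).toMonoidHom := by
      apply sup_le
      · intro a ha
        exact Subgroup.mem_sup_left (((Subgroup.mem_normalizer_iff.mp (hA hg)) a).mp ha)
      · intro b hb
        exact Subgroup.mem_sup_right (((Subgroup.mem_normalizer_iff.mp (hB hg)) b).mp hb)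
    exact h1 hy
  intro g hg
  rw [Subgroup.mem_normalizer_iff]
  intro y
  constructor
  · exact key g hg y
  · intro hy
    have := key g⁻¹ (S.inv_mem hg) _ hy
    have e : g⁻¹ * (g * y * g⁻¹) * g⁻¹⁻¹ = y := by group
    rwa [e] at this

theorem mem_normalizerIn_of_central {Ω : Type*} [Group Ω] {S U : Subgroup Ω} {x : Ω} (hxS : x ∈ S)
    (hx : ∀ s ∈ S, s * x * s⁻¹ = x) (hUS : U ≤ S) : x ∈ normalizerIn S U := by
  refine ⟨hxS, ?_⟩
  show x ∈ Subgroup.normalizer (U : Set Ω)
  rw [Subgroup.mem_normalizer_iff]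
  intro u
  constructor
  · intro hu
    rw [conj_eq_of_central hx (hUS hu)]
    exact hu
  · intro hu
    have h1 : x * u * x⁻¹ ∈ S := hUS hu
    have h2 : u ∈ S := by
      have := S.mul_mem (S.mul_mem (S.inv_mem hxS) h1) hxS
      have e : x⁻¹ * (x * u * x⁻¹) * x = u := by group
      rwa [e] at this
    rw [conj_eq_of_central hx h2] at hu
    exact hu

variable {p : ℕ} [Fact p.Prime] {W : ∀ (Q : Type u) [Group Q], Subgroup Q}

theorem le_normalizer_wup (hH : WHyp p W) {Ω : Type u} [Group Ω] {S : Subgroup Ω} [Finite S]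
    (hS : IsPGroup p S) : S ≤ Subgroup.normalizer ((Wup W S : Subgroup Ω) : Set Ω) := by
  intro g hg
  exact mem_normalizer_of_characteristic (wup_le S) (wup_char hH hS) (Subgroup.le_normalizer hg)

set_option maxHeartbeats 1600000 in
/-- The case of a system with a nontrivial normal subgroup. -/
theorem claimB (hH : WHyp p W) (n : ℕ)
    (IH : ∀ m < n, ∀ (Ω : Type u) [Group Ω] (S : Subgroup Ω) [Finite S], Nat.card S = m →
      IsPGroup p S → ∀ F : FusionSystem S, F.IsSaturated p → ∀ x ∈ S, NFix F (Wup W S) x →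
        Fixes F x) :
    ∀ (k : ℕ) (Ω : Type u) [Group Ω] (S : Subgroup Ω) [Finite S], Nat.card S = n → IsPGroup p S →
      ∀ F : FusionSystem S, F.IsSaturated p → ∀ x ∈ S, NFix F (Wup W S) x →
      ∀ Q : Subgroup Ω, F.IsNormal Q → Q ≠ ⊥ → Nat.card Q + k = n → Fixes F x := by
  intro k
  induction k using Nat.strong_induction_on with
  | _ k ihk =>
  intro Ω _ S _ hcard hS F hF x hxS hfix Q hQ hQ1 hk
  have hQS : Q ≤ S := hQ.1
  have hSN : S ≤ Subgroup.normalizer (Q : Set Ω) := le_normalizer_of_isNormal F hQ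
  have hsc := stronglyClosed_of_isNormal F hQ
  have hQfin : Finite Q := finite_of_le hQS
  have hWS : Wup W S ≤ S := wup_le S
  have hSNW := le_normalizer_wup hH hS
  have hxc : ∀ s ∈ S, s * x * s⁻¹ = x := central_of_nfix hWS hSNW hxS hfix
  have hcomm : ∀ s ∈ S, s * x = x * s := by
    intro s hs
    have := hxc s hs
    calc s * x = (s * x * s⁻¹) * s := by group
      _ = x * s := by rw [this]
  have hxCQ : x ∈ centralizerIn S Q :=
    ⟨hxS, Subgroup.mem_centralizer_iff.mpr (fun q hq => hcomm q (hQS hq))⟩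
  by_cases hCQ : centralizerIn S Q ≤ Q
  · -- the constrained case
    have hcon : F.IsConstrained p := by
      refine ⟨hF, Q, hQ, hQS, fun Q' hQ' => ?_⟩
      rw [eq_of_isConj_of_isNormal F hQ hQ']
      exact hCQ
    obtain ⟨G, hG, ι, hM⟩ := Cfsg.Agent.S5090.result p hS F hcon
    exact fixes_of_model hH hS F ι hM hQ (hCQ hxCQ) hxc hfix
  · -- subgroups normal in `S` properly containing `Q`
    have hstep : ∀ U : Subgroup Ω, U ≤ S → S ≤ Subgroup.normalizer (U : Set Ω) → Q ≤ U →
        Q ≠ U → NFix F U x := by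
      intro U hUS hSNU hQU hQU'
      have hUfin : Finite U := finite_of_le hUS
      have hcardU := card_lt_of_lt hQU hQU'
      have hcardU' : Nat.card U ≤ n := by
        rw [← hcard]
        exact card_le_of_le hUS
      have hU1 : U ≠ ⊥ := by
        intro h
        apply hQ1
        rw [eq_bot_iff, ← h]
        exact hQU
      have hUfn := isFullyNormalized_of_normal F hUS hSNU
      have hE := normalizerSystem_isNormalizerSystem F _ hUS
      have hNS : normalizerIn S U = S :=
        le_antisymm inf_le_left (fun y hy => ⟨hy, hSNU hy⟩)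
      have hNfin : Finite (normalizerIn S U) := finite_of_le inf_le_left
      have hNp : IsPGroup p (normalizerIn S U) := isPGroup_of_le hS inf_le_left
      have hNcard : Nat.card (normalizerIn S U) = n := by
        rw [hNS]
        exact hcard
      have hEsat := normalizerSystem_isSaturated p hS F hF _ hUfn _ hE
      have hEn := normalizerSystem_isNormal F hUS _ hE
      have hfixE : NFix (normalizerSystem F U hUS) (Wup W (normalizerIn S U)) x := by
        rw [wup_congr hNS]
        exact nfix_sub F _ hE hfix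
      have hxN : x ∈ normalizerIn S U := by rw [hNS]; exact hxS
      have h1 : Fixes (normalizerSystem F U hUS) x :=
        ihk (n - Nat.card U) (by omega) Ω _ hNcard hNp _ hEsat x hxN hfixE U hEn hU1 (by omega)
      exact (fixes_iff_nfix F U _ hE x).mp h1
    -- the factor system
    have hQn : (Q.subgroupOf S).Normal := Subgroup.normal_subgroupOf_of_le_normalizer hSN
    have hker : ∀ s : S, QuotientGroup.mk' (Q.subgroupOf S) s = 1 ↔ (s : Ω) ∈ Q := by
      intro s
      rw [QuotientGroup.mk'_apply, QuotientGroup.eq_one_iff]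
      rfl
    have hrange : (QuotientGroup.mk' (Q.subgroupOf S)).range = ⊤ :=
      MonoidHom.range_eq_top.mpr (QuotientGroup.mk'_surjective _)
    have hfs := factorSystem_isFactorSystem F hsc (QuotientGroup.mk' (Q.subgroupOf S)) hker hrange
    obtain ⟨F', hF'e⟩ : ∃ F' : FusionSystem (⊤ : Subgroup (↥S ⧸ Q.subgroupOf S)),
        F' = factorSystem F hsc (QuotientGroup.mk' (Q.subgroupOf S)) hker hrange := ⟨_, rfl⟩
    rw [← hF'e] at hfs
    have hiff := hfs.2.2.2
    have hS' : IsPGroup p ↥(⊤ : Subgroup (↥S ⧸ Q.subgroupOf S)) :=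
      (hS.to_quotient (Q.subgroupOf S)).to_subgroup ⊤
    have hF'sat : F'.IsSaturated p :=
      factor_isSaturated F hsc (QuotientGroup.mk' (Q.subgroupOf S)) hker hrange F' hiff p hS hF
    have hcard' : Nat.card ↥(⊤ : Subgroup (↥S ⧸ Q.subgroupOf S)) * Nat.card Q = n := by
      rw [Nat.card_congr (Subgroup.topEquiv (G := ↥S ⧸ Q.subgroupOf S)).toEquiv, ← hcard,
        Subgroup.card_eq_card_quotient_mul_card_subgroup (Q.subgroupOf S),
        Nat.card_congr (Subgroup.subgroupOfEquivOfLe hQS).toEquiv]
    have hQ1' : 1 < Nat.card Q := one_lt_card_of_ne_bot hQ1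
    have hnpos : 0 < n := by rw [← hcard]; exact Nat.card_pos
    have hlt' : Nat.card ↥(⊤ : Subgroup (↥S ⧸ Q.subgroupOf S)) < n := by
      have hpos : 0 < Nat.card ↥(⊤ : Subgroup (↥S ⧸ Q.subgroupOf S)) := Nat.card_pos
      nlinarith
    -- the factor system fixes the image of `x`
    have hfix' : Fixes F' (QuotientGroup.mk' (Q.subgroupOf S) ⟨x, hxS⟩) := by
      by_cases h1 : Nat.card ↥(⊤ : Subgroup (↥S ⧸ Q.subgroupOf S)) = 1
      · have hsub : Subsingleton (↥S ⧸ Q.subgroupOf S) := by
          rw [Nat.card_congr (Subgroup.topEquiv (G := ↥S ⧸ Q.subgroupOf S)).toEquiv] at h1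
          exact (Nat.card_eq_one_iff_unique.mp h1).1
        intro P' φ' _ _
        exact Subsingleton.elim _ _
      · have htop : (⊤ : Subgroup (↥S ⧸ Q.subgroupOf S)) ≠ ⊥ := by
          intro h
          apply h1
          rw [h]
          exact Subgroup.card_bot
        have hW'n : (⊤ : Subgroup (↥S ⧸ Q.subgroupOf S)) ≤ Subgroup.normalizer
            ((Wup W (⊤ : Subgroup (↥S ⧸ Q.subgroupOf S)) :
              Subgroup (↥S ⧸ Q.subgroupOf S)) : Set (↥S ⧸ Q.subgroupOf S)) :=
          le_normalizer_wup hH hS'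
        have hW'1 : Wup W (⊤ : Subgroup (↥S ⧸ Q.subgroupOf S)) ≠ ⊥ := wup_ne_bot hH hS' htop
        have hfixF' : NFix F' (Wup W (⊤ : Subgroup (↥S ⧸ Q.subgroupOf S)))
            (QuotientGroup.mk' (Q.subgroupOf S) ⟨x, hxS⟩) := by
          apply nfix_factor F (QuotientGroup.mk' (Q.subgroupOf S)) hrange F' hiff hW'n hxS
          -- the normalizer system of the preimage
          have hUS : preimageAlong (QuotientGroup.mk' (Q.subgroupOf S))
              (Wup W (⊤ : Subgroup (↥S ⧸ Q.subgroupOf S))) ≤ S := preimageAlong_le _ _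
          have hSNU : S ≤ Subgroup.normalizer
              ((preimageAlong (QuotientGroup.mk' (Q.subgroupOf S))
                (Wup W (⊤ : Subgroup (↥S ⧸ Q.subgroupOf S))) : Subgroup Ω) : Set Ω) := by
            intro g hg
            apply mem_normalizer_preimageAlong (QuotientGroup.mk' (Q.subgroupOf S)) _ ⟨g, hg⟩
            exact hW'n (Subgroup.mem_top _)
          have hQU : Q ≤ preimageAlong (QuotientGroup.mk' (Q.subgroupOf S))
              (Wup W (⊤ : Subgroup (↥S ⧸ Q.subgroupOf S))) :=
            ker_le_preimageAlong _ hQS hker _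
          have hQU' : Q ≠ preimageAlong (QuotientGroup.mk' (Q.subgroupOf S))
              (Wup W (⊤ : Subgroup (↥S ⧸ Q.subgroupOf S))) := by
            intro h
            apply hW'1
            rw [eq_bot_iff]
            intro y hy
            obtain ⟨z, hz⟩ := QuotientGroup.mk'_surjective (Q.subgroupOf S) y
            have hzU : (z : Ω) ∈ preimageAlong (QuotientGroup.mk' (Q.subgroupOf S))
                (Wup W (⊤ : Subgroup (↥S ⧸ Q.subgroupOf S))) := by
              rw [mem_preimageAlong]
              exact ⟨z.2, by rw [Subtype.coe_eta, hz]; exact hy⟩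
            rw [← h] at hzU
            rw [Subgroup.mem_bot, ← hz]
            exact (hker z).mpr hzU
          exact hstep _ hUS hSNU hQU hQU'
        exact IH _ hlt' _ _ rfl hS' F' hF'sat _ (Subgroup.mem_top _) hfixF'
    have hmod := fixesMod_of_factor_fixes F hsc (QuotientGroup.mk' (Q.subgroupOf S)) hker hrange
      F' hiff hxS hfix'
    -- the normalizer system of `Q C_S(Q)`
    have hR : NFix F (Q ⊔ centralizerIn S Q) x := by
      apply hstep _ (sup_le hQS inf_le_left)
        (le_normalizer_sup_of hSN (le_normalizer_centralizerIn hSN)) le_sup_left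
      intro h
      exact hCQ (le_of_le_of_eq le_sup_right h.symm)
    exact fixes_of_fixesMod p hS F hF hQ hxS hxc hmod hR

/-- **Control of weak closure of elements.** -/
theorem master (hH : WHyp p W) :
    ∀ (n : ℕ) (Ω : Type u) [Group Ω] (S : Subgroup Ω) [Finite S], Nat.card S = n →
      IsPGroup p S → ∀ F : FusionSystem S, F.IsSaturated p → ∀ x ∈ S, NFix F (Wup W S) x →
        Fixes F x := by
  intro n
  induction n using Nat.strong_induction_on with
  | _ n IH =>
  intro Ω _ S _ hcard hS F hF x hxS hfix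
  have hWS : Wup W S ≤ S := wup_le S
  have hSNW := le_normalizer_wup hH hS
  have hxc : ∀ s ∈ S, s * x * s⁻¹ = x := central_of_nfix hWS hSNW hxS hfix
  by_cases hN : ∀ Q : Subgroup Ω, F.IsFullyNormalized Q → Q ≠ ⊥ → NFix F Q x
  · exact fixes_of_forall_nfix p hS F hF hxc hN
  · exfalso
    have hN' : ∃ Q : Subgroup Ω, F.IsFullyNormalized Q ∧ Q ≠ ⊥ ∧ ¬ NFix F Q x := by
      by_contra hc
      apply hN
      intro Q h1 h2
      by_contra h3
      exact hc ⟨Q, h1, h2, h3⟩
    -- choose `Q` with `|N_S(Q)|` as large as possible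
    let T : Set ℕ := {m | ∃ Q : Subgroup Ω, F.IsFullyNormalized Q ∧ Q ≠ ⊥ ∧ ¬ NFix F Q x ∧
      Nat.card (normalizerIn S Q) = m}
    have hTne : T.Nonempty := by
      obtain ⟨Q, h1, h2, h3⟩ := hN'
      exact ⟨_, Q, h1, h2, h3, rfl⟩
    have hbdd : BddAbove T := by
      refine ⟨Nat.card S, ?_⟩
      rintro m ⟨Q, -, -, -, rfl⟩
      exact card_le_of_le inf_le_left
    obtain ⟨Q, hQfn, hQ1, hQni, hQc⟩ := Nat.sSup_mem hTne hbdd
    have hmax : ∀ Q' : Subgroup Ω, F.IsFullyNormalized Q' → Q' ≠ ⊥ →
        Nat.card (normalizerIn S Q) < Nat.card (normalizerIn S Q') → NFix F Q' x := by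
      intro Q' h1 h2 h3
      by_contra h4
      have h5 : Nat.card (normalizerIn S Q') ≤ sSup T := le_csSup hbdd ⟨Q', h1, h2, h4, rfl⟩
      omega
    have hRS : normalizerIn S Q ≤ S := inf_le_left
    have hRfin : Finite (normalizerIn S Q) := finite_of_le hRS
    have hRp : IsPGroup p (normalizerIn S Q) := isPGroup_of_le hS hRS
    have hE := normalizerSystem_isNormalizerSystem F Q hQfn.1
    have hEsat := normalizerSystem_isSaturated p hS F hF Q hQfn _ hE
    have hQR : Q ≤ normalizerIn S Q := fun y hy => ⟨hQfn.1 hy, Subgroup.le_normalizer hy⟩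
    have hQfin : Finite Q := finite_of_le hQfn.1
    have hxR : x ∈ normalizerIn S Q := mem_normalizerIn_of_central hxS hxc hQfn.1
    apply hQni
    apply (fixes_iff_nfix F Q _ hE x).mp
    by_cases hRe : normalizerIn S Q = S
    · have hEn := normalizerSystem_isNormal F hQfn.1 _ hE
      have hRcard : Nat.card (normalizerIn S Q) = n := by
        rw [hRe]
        exact hcard
      have hQle : Nat.card Q ≤ n := by
        rw [← hcard]
        exact card_le_of_le hQfn.1
      have hfixE : NFix (normalizerSystem F Q hQfn.1) (Wup W (normalizerIn S Q)) x := by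
        rw [wup_congr hRe]
        exact nfix_sub F _ hE hfix
      exact claimB hH n IH (n - Nat.card Q) Ω _ hRcard hRp _ hEsat x hxR hfixE Q hEn hQ1
        (by omega)
    · have hlt : Nat.card (normalizerIn S Q) < n := by
        rw [← hcard]
        exact card_lt_of_lt hRS hRe
      have hRne : normalizerIn S Q ≠ ⊥ := by
        intro h
        apply hQ1
        rw [eq_bot_iff, ← h]
        exact hQR
      have hfixE : NFix (normalizerSystem F Q hQfn.1) (Wup W (normalizerIn S Q)) x :=
        nfix_of_char_of_max p hS F hF Q _ hE hxS hxc hmax hRe (wup_le _)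
          (wup_ne_bot hH hRp hRne) (wup_char hH hRp)
      exact IH _ hlt Ω _ rfl hRp _ hEsat x hxR hfixE

end Cfsg.Agent.Helper26.WC
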