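import Mathlib
import Cfsg.Agent.Helper26.WCMain
import Cfsg.Agent.S5082

set_option autoImplicit false
set_option linter.style.haveILetI false
set_option linter.unusedSectionVars false
set_option linter.unusedVariables false

/-! Control of fusion by the normalizer of a subgroup `V` normal in `S`: basic reductions
(Alperin's theorem with a threshold, local-to-global). -/

namespace Cfsg.Agent.Helper26.GF

open Cfsg Cfsg.FusionSystem Cfsg.Agent.Helper25 Cfsg.Agent.Helper26.MasterRed
  Cfsg.Agent.Helper26.WC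

variable {Ω : Type*} [Group Ω] {S : Subgroup Ω}

/-- the normalizer system of `U` is contained in that of `V` -/
def NCtl (F : FusionSystem S) (U V : Subgroup Ω) : Prop :=
  ∀ P : Subgroup Ω, F.normalizerHom U P ⊆ F.normalizerHom V P

theorem isNormal_of_forall_mem (F : FusionSystem S) {V : Subgroup Ω} (hVS : V ≤ S)
    (h : ∀ (P : Subgroup Ω) (φ : P →* Ω), φ ∈ F.Hom P → φ ∈ F.normalizerHom V P) :
    F.IsNormal V :=
  ⟨hVS, fun P φ hφ => (h P φ hφ).2.2.2⟩

theorem mem_normalizerHom_of_isNormal (F : FusionSystem S) {V : Subgroup Ω} (hV : F.IsNormal V)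
    {P : Subgroup Ω} {φ : P →* Ω} (hφ : φ ∈ F.Hom P) : φ ∈ F.normalizerHom V P := by
  have hSN := le_normalizer_of_isNormal F hV
  have hP := F.le_of_mem hφ
  exact ⟨hφ, fun y hy => ⟨hP.1 hy, hSN (hP.1 hy)⟩, fun x => ⟨hP.2 x, hSN (hP.2 x)⟩,
    hV.2 P φ hφ⟩

section Threshold

variable [Finite S]

/-- The subsystem of the maps that, on sources of order more than `m`, lie in `N_F(V)`. -/
def nwSystem (F : FusionSystem S) (V : Subgroup Ω) (hVS : V ≤ S)
    (hSN : S ≤ Subgroup.normalizer (V : Set Ω)) (m : ℕ) : FusionSystem S where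
  Hom P := {φ | φ ∈ F.Hom P ∧ (m < Nat.card P → φ ∈ F.normalizerHom V P)}
  le_of_mem := fun h => F.le_of_mem h.1
  injective_of_mem := fun h => F.injective_of_mem h.1
  conj_mem := by
    intro P g hP hg
    refine ⟨F.conj_mem hP hg, fun _ => ?_⟩
    have hSN' : S ≤ normalizerIn S V := fun y hy => ⟨hy, hSN hy⟩
    exact (normalizerSystem F V hVS).conj_mem (hP.trans hSN') (hSN' hg)
  comp_mem := by
    rintro P Q φ ψ ⟨hφ, hφx⟩ ⟨hψ, hψx⟩ hPQ
    refine ⟨F.comp_mem hφ hψ hPQ, fun hm => ?_⟩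
    have hQfin : Finite Q := finite_of_le (F.le_of_mem hψ).1
    have hcard : Nat.card P ≤ Nat.card Q :=
      Nat.card_le_card_of_injective (φ.codRestrict Q hPQ)
        (fun a b hab => F.injective_of_mem hφ (congrArg Subtype.val hab))
    exact (normalizerSystem F V hVS).comp_mem (hφx hm) (hψx (lt_of_lt_of_le hm hcard)) hPQ
  inv_mem := by
    rintro P φ ⟨hφ, hφx⟩
    by_cases hm : m < Nat.card P
    · obtain ⟨ψ, hψ, hinv⟩ := (normalizerSystem F V hVS).inv_mem (hφx hm)
      exact ⟨ψ, ⟨hψ.1, fun _ => hψ⟩, hinv⟩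
    · obtain ⟨ψ, hψ, hinv⟩ := F.inv_mem hφ
      refine ⟨ψ, ⟨hψ, fun hm' => ?_⟩, hinv⟩
      exfalso
      have hcard : Nat.card φ.range = Nat.card P :=
        (Nat.card_congr (MonoidHom.ofInjective (F.injective_of_mem hφ)).toEquiv).symm
      rw [hcard] at hm'
      exact hm hm'

/-- Alperin's theorem with a threshold. -/
theorem ctl_above (p : ℕ) [Fact p.Prime] (hS : IsPGroup p S) (F : FusionSystem S)
    (hF : F.IsSaturated p) {V : Subgroup Ω} (hVS : V ≤ S)
    (hSN : S ≤ Subgroup.normalizer (V : Set Ω)) (m : ℕ)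
    (h : ∀ P : Subgroup Ω, F.IsFullyNormalized P → m < Nat.card P → ∀ α ∈ F.autGroup P,
      autHom α ∈ F.normalizerHom V P) :
    ∀ (P : Subgroup Ω) (φ : P →* Ω), φ ∈ F.Hom P → m < Nat.card P →
      φ ∈ F.normalizerHom V P := by
  have hle : F ≤ nwSystem F V hVS hSN m := by
    apply Cfsg.Agent.S5082.result p hS F hF
    intro P hP α hα
    have hPfn : F.IsFullyNormalized P := by
      rcases hP with rfl | hP
      · exact isFullyNormalized_of_normal F le_rfl Subgroup.le_normalizer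
      · exact hP.2.1
    have hPS : P ≤ S := hPfn.1
    rw [mem_autGroup_iff _ hPS]
    exact ⟨(mem_autGroup_iff F hPS α).mp hα, fun hm => h P hPfn hm α hα⟩
  intro P φ hφ hm
  exact (hle P hφ).2 hm

/-- Local to global: if the normalizer systems of all nontrivial fully normalized subgroups lie
in `N_F(V)`, then `V` is normal in `F`. -/
theorem isNormal_of_forall_nctl (p : ℕ) [Fact p.Prime] (hS : IsPGroup p S) (F : FusionSystem S)
    (hF : F.IsSaturated p) {V : Subgroup Ω} (hVS : V ≤ S)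
    (hSN : S ≤ Subgroup.normalizer (V : Set Ω))
    (h : ∀ Q : Subgroup Ω, F.IsFullyNormalized Q → Q ≠ ⊥ → NCtl F Q V) : F.IsNormal V := by
  apply isNormal_of_forall_mem F hVS
  intro P φ hφ
  have hPfin : Finite P := finite_of_le (F.le_of_mem hφ).1
  refine ctl_above p hS F hF hVS hSN 0 ?_ P φ hφ Nat.card_pos
  intro Q hQ _ α hα
  by_cases hQ1 : Q = ⊥
  · subst hQ1
    have e : autHom α = (⊥ : Subgroup Ω).subtype := by
      ext x
      have h1 : α x = x := Subsingleton.elim _ _
      show ((α x : (⊥ : Subgroup Ω)) : Ω) = x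
      rw [h1]
    rw [e]
    exact subtype_mem (normalizerSystem F V hVS) bot_le
  · exact h Q hQ hQ1 Q (autHom_mem_normalizerHom F hQ.1 hα)

end Threshold

/-- a subgroup normal in the normalizer system of `U` controls it -/
theorem nctl_of_isNormal (F : FusionSystem S) {U V : Subgroup Ω}
    (hSN : S ≤ Subgroup.normalizer (V : Set Ω)) (E : FusionSystem (normalizerIn S U))
    (hE : F.IsNormalizerSystem U E) (hV : E.IsNormal V) : NCtl F U V := by
  intro P φ hφ
  have hφE : φ ∈ E.Hom P := by rw [hE P]; exact hφ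
  obtain ⟨ψ, hψ, hext, hmap⟩ := hV.2 P φ hφE
  rw [hE] at hψ
  have hP := F.le_of_mem hφ.1
  exact ⟨hφ.1, fun y hy => ⟨hP.1 hy, hSN (hP.1 hy)⟩, fun x => ⟨hP.2 x, hSN (hP.2 x)⟩, ψ,
    hψ.1, hext, hmap⟩

end Cfsg.Agent.Helper26.GF
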