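import Mathlib
import Cfsg.Agent.Helper26.GFBasic

set_option autoImplicit false
set_option linter.style.haveILetI false
set_option linter.unusedSectionVars false
set_option linter.unusedVariables false

/-! Transport of control along a map defined on `N_S(U)`, and control at characteristic subgroups
of `N_S(Q)`. -/

namespace Cfsg.Agent.Helper26.GF

open Cfsg Cfsg.FusionSystem Cfsg.Agent.Helper25 Cfsg.Agent.Helper26.MasterRed
  Cfsg.Agent.Helper26.WC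

variable {Ω : Type*} [Group Ω] {S : Subgroup Ω}

set_option maxHeartbeats 1600000 in
/-- If a map `χ` of `N_F(V)` defined on `N_S(U)` carries `U` onto `U'`, and the normalizer system
of `U'` lies in `N_F(V)`, then so does the normalizer system of `U`. -/
theorem nctl_transport [Finite S] (F : FusionSystem S) {U U' V : Subgroup Ω} (hUS : U ≤ S)
    (hVS : V ≤ S)
    {χ : ↥(normalizerIn S U) →* Ω} (hχV : χ ∈ F.normalizerHom V (normalizerIn S U))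
    (hχN : ∀ y, χ y ∈ normalizerIn S U')
    (hχU : (U.subgroupOf (normalizerIn S U)).map χ = U') (h : NCtl F U' V) : NCtl F U V := by
  intro P φ hφ
  obtain ⟨hφF, hPN, hval, ψ, hψ, hext, hmap⟩ := hφ
  have hχ : χ ∈ F.Hom (normalizerIn S U) := hχV.1
  have hUN : U ≤ normalizerIn S U := fun y hy => ⟨hUS hy, Subgroup.le_normalizer hy⟩
  have hXN : P ⊔ U ≤ normalizerIn S U := sup_le hPN hUN
  have hinjχ := F.injective_of_mem hχ
  have hU'S : U' ≤ S := by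
    rw [← hχU]
    rintro _ ⟨y, -, rfl⟩
    exact (hχN y).1
  have hU'fin : Finite U' := finite_of_le hU'S
  obtain ⟨NS, hNSe⟩ : ∃ NS : FusionSystem (normalizerIn S V), NS = normalizerSystem F V hVS :=
    ⟨_, rfl⟩
  have hNSHom : ∀ (R : Subgroup Ω) (θ : R →* Ω), θ ∈ NS.Hom R ↔ θ ∈ F.normalizerHom V R := by
    intro R θ
    rw [hNSe]
    rfl
  have hNSF : ∀ (R : Subgroup Ω) (θ : R →* Ω), θ ∈ NS.Hom R → θ ∈ F.Hom R :=
    fun R θ hθ => ((hNSHom R θ).mp hθ).1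
  have hχNS : χ ∈ NS.Hom (normalizerIn S U) := (hNSHom _ _).mpr hχV
  -- the restriction of `χ` to `X = P ⊔ U`
  have hχXNS : χ.comp (Subgroup.inclusion hXN) ∈ NS.Hom (P ⊔ U) := restrict_mem NS hXN hχNS
  obtain ⟨χX, hχXe⟩ : ∃ χX : ↥(P ⊔ U) →* Ω, χX = χ.comp (Subgroup.inclusion hXN) := ⟨_, rfl⟩
  rw [← hχXe] at hχXNS
  have hχX : χX ∈ F.Hom (P ⊔ U) := hNSF _ _ hχXNS
  have hχXapp : ∀ y : ↥(P ⊔ U), χX y = χ ⟨y, hXN y.2⟩ := fun y => by rw [hχXe]; rfl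
  obtain ⟨X', hX'⟩ : ∃ X', χX.range = X' := ⟨_, rfl⟩
  obtain ⟨ρ, hρNS, hρinv, hρrange⟩ := exists_inv_mem NS hχXNS hX'
  have hρ : ρ ∈ F.Hom X' := hNSF _ _ hρNS
  have hρX : ∀ z : X', ρ z ∈ P ⊔ U := by
    intro z
    rw [← hρrange]
    exact ⟨z, rfl⟩
  -- `ψ` has values in `N_S(U)`
  have hψN : ∀ y : ↥(P ⊔ U), ψ y ∈ normalizerIn S U := by
    have h1 : ψ.range ≤ normalizerIn S U := by
      rw [range_sup_eq ψ, map_subgroupOf_eq_range ψ φ hext, hmap]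
      apply sup_le _ hUN
      rintro _ ⟨y, rfl⟩
      exact hval y
    intro y
    exact h1 ⟨y, rfl⟩
  have hψU : ∀ y : ↥(P ⊔ U), (y : Ω) ∈ U → ψ y ∈ U := by
    intro y hy
    have h0 : ψ y ∈ (U.subgroupOf (P ⊔ U)).map ψ := ⟨y, hy, rfl⟩
    exact (show ∀ Y : Subgroup Ω, (U.subgroupOf (P ⊔ U)).map ψ = Y → ψ y ∈ Y from
      fun Y hY => hY ▸ h0) U hmap
  -- the transported map
  have hσ₁ : ψ.comp (ρ.codRestrict (P ⊔ U) hρX) ∈ F.Hom X' := F.comp_mem hρ hψ hρX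
  obtain ⟨σ₁, hσ₁e⟩ : ∃ σ₁ : X' →* Ω, σ₁ = ψ.comp (ρ.codRestrict (P ⊔ U) hρX) := ⟨_, rfl⟩
  rw [← hσ₁e] at hσ₁
  have hσ₁app : ∀ z : X', σ₁ z = ψ ⟨ρ z, hρX z⟩ := fun z => by rw [hσ₁e]; rfl
  have hσ₁N : ∀ z : X', σ₁ z ∈ normalizerIn S U := fun z => by rw [hσ₁app]; exact hψN _
  have hσ₂ : χ.comp (σ₁.codRestrict (normalizerIn S U) hσ₁N) ∈ F.Hom X' :=
    F.comp_mem hσ₁ hχ hσ₁N
  obtain ⟨σ₂, hσ₂e⟩ : ∃ σ₂ : X' →* Ω, σ₂ = χ.comp (σ₁.codRestrict (normalizerIn S U) hσ₁N) :=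
    ⟨_, rfl⟩
  rw [← hσ₂e] at hσ₂
  have hσ₂app : ∀ z : X', σ₂ z = χ ⟨σ₁ z, hσ₁N z⟩ := fun z => by rw [hσ₂e]; rfl
  have hX'N : X' ≤ normalizerIn S U' := by
    rw [← hX']
    rintro _ ⟨y, rfl⟩
    rw [hχXapp]
    exact hχN _
  have hU'X' : U' ≤ X' := by
    rw [← hχU, ← hX']
    rintro _ ⟨y, hy, rfl⟩
    exact ⟨⟨y, Subgroup.mem_sup_right hy⟩, hχXapp _⟩
  have hσ₂N : σ₂ ∈ F.normalizerHom U' X' := by
    refine mem_normalizerHom_of_le F hU'X' hσ₂ hX'N (fun z => by rw [hσ₂app]; exact hχN _) ?_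
    apply map_eq_of_map_le (F.injective_of_mem hσ₂) _ hU'X'
    rintro _ ⟨z, hz, rfl⟩
    obtain ⟨y, hy⟩ : ∃ y : ↥(P ⊔ U), χX y = (z : Ω) := by
      have h0 : (z : Ω) ∈ χX.range := by rw [hX']; exact z.2
      exact h0
    have hz' : (z : Ω) ∈ U' := hz
    have hyU : (y : Ω) ∈ U := by
      rw [← hχU] at hz'
      obtain ⟨u, hu, huz⟩ := hz'
      rw [← hy, hχXapp] at huz
      have h8 : (u : Ω) = (y : Ω) := congrArg Subtype.val (hinjχ huz)
      rw [← h8]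
      exact hu
    have hρz : ρ z = (y : Ω) := by
      have h1 : χX y ∈ X' := by rw [hy]; exact z.2
      have h2 := hρinv y h1
      have e : (⟨χX y, h1⟩ : X') = z := Subtype.ext hy
      rw [e] at h2
      exact h2
    rw [hσ₂app]
    have e1 : (⟨ρ z, hρX z⟩ : ↥(P ⊔ U)) = y := Subtype.ext hρz
    have h3 : σ₁ z ∈ U := by
      rw [hσ₁app, e1]
      exact hψU y hyU
    rw [← hχU]
    exact ⟨⟨σ₁ z, hσ₁N z⟩, h3, rfl⟩
  have hσ₂NS : σ₂ ∈ NS.Hom X' := (hNSHom _ _).mpr (h X' hσ₂N)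
  -- the restriction of `χ` to `Y = ψ(X)`
  obtain ⟨Y, hY⟩ : ∃ Y, ψ.range = Y := ⟨_, rfl⟩
  have hYN : Y ≤ normalizerIn S U := by
    rw [← hY]
    rintro _ ⟨y, rfl⟩
    exact hψN y
  have hχYNS : χ.comp (Subgroup.inclusion hYN) ∈ NS.Hom Y := restrict_mem NS hYN hχNS
  obtain ⟨χY, hχYe⟩ : ∃ χY : Y →* Ω, χY = χ.comp (Subgroup.inclusion hYN) := ⟨_, rfl⟩
  rw [← hχYe] at hχYNS
  have hχYapp : ∀ y : Y, χY y = χ ⟨y, hYN y.2⟩ := fun y => by rw [hχYe]; rfl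
  obtain ⟨Y', hY'⟩ : ∃ Y', χY.range = Y' := ⟨_, rfl⟩
  obtain ⟨τ, hτNS, hτinv, hτrange⟩ := exists_inv_mem NS hχYNS hY'
  -- `ψ = τ ∘ σ₂ ∘ χX`
  have hχXX' : ∀ y : ↥(P ⊔ U), χX y ∈ X' := by
    intro y
    rw [← hX']
    exact ⟨y, rfl⟩
  have hc1 : σ₂.comp (χX.codRestrict X' hχXX') ∈ NS.Hom (P ⊔ U) :=
    NS.comp_mem hχXNS hσ₂NS hχXX'
  have hψY : ∀ y : ↥(P ⊔ U), ψ y ∈ Y := by
    intro y
    rw [← hY]
    exact ⟨y, rfl⟩
  have hval1 : ∀ y : ↥(P ⊔ U), (σ₂.comp (χX.codRestrict X' hχXX')) y = χY ⟨ψ y, hψY y⟩ := by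
    intro y
    show σ₂ ⟨χX y, hχXX' y⟩ = _
    rw [hσ₂app, hχYapp]
    have hρy : ρ ⟨χX y, hχXX' y⟩ = (y : Ω) := hρinv y (hχXX' y)
    have e1 : (⟨ρ ⟨χX y, hχXX' y⟩, hρX _⟩ : ↥(P ⊔ U)) = y := Subtype.ext hρy
    have h4 : σ₁ ⟨χX y, hχXX' y⟩ = ψ y := by rw [hσ₁app, e1]
    congr 1
    exact Subtype.ext h4
  have hc1Y' : ∀ y : ↥(P ⊔ U), (σ₂.comp (χX.codRestrict X' hχXX')) y ∈ Y' := by
    intro y
    rw [hval1, ← hY']
    exact ⟨_, rfl⟩
  have hc2 : τ.comp ((σ₂.comp (χX.codRestrict X' hχXX')).codRestrict Y' hc1Y') ∈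
      NS.Hom (P ⊔ U) := NS.comp_mem hc1 hτNS hc1Y'
  have hψeq : τ.comp ((σ₂.comp (χX.codRestrict X' hχXX')).codRestrict Y' hc1Y') = ψ := by
    ext y
    show τ ⟨(σ₂.comp (χX.codRestrict X' hχXX')) y, hc1Y' y⟩ = ψ y
    have h5 : χY ⟨ψ y, hψY y⟩ ∈ Y' := by rw [← hY']; exact ⟨_, rfl⟩
    have h6 := hτinv ⟨ψ y, hψY y⟩ h5
    have e : (⟨(σ₂.comp (χX.codRestrict X' hχXX')) y, hc1Y' y⟩ : Y') =
        ⟨χY ⟨ψ y, hψY y⟩, h5⟩ := Subtype.ext (hval1 y)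
    rw [e]
    exact h6
  rw [hψeq] at hc2
  have hφNS : ψ.comp (Subgroup.inclusion (le_sup_left : P ≤ P ⊔ U)) ∈ NS.Hom P :=
    restrict_mem NS le_sup_left hc2
  have e : ψ.comp (Subgroup.inclusion (le_sup_left : P ≤ P ⊔ U)) = φ := by
    ext x
    exact hext x
  rw [e] at hφNS
  exact (hNSHom _ _).mp hφNS

/-- The normalizer system of a nontrivial characteristic subgroup `U` of `N_S(Q) < S` lies in
`N_F(V)`, if `N_F(Q')` does for all fully normalized `Q' ≠ 1` with `|N_S(Q')| > |N_S(Q)|`. -/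
theorem nctl_of_char_of_max [Finite S] (p : ℕ) [Fact p.Prime] (hS : IsPGroup p S)
    (F : FusionSystem S) (hF : F.IsSaturated p) (Q : Subgroup Ω) {V : Subgroup Ω} (hVS : V ≤ S)
    (hSN : S ≤ Subgroup.normalizer (V : Set Ω))
    (hmax : ∀ Q' : Subgroup Ω, F.IsFullyNormalized Q' → Q' ≠ ⊥ →
      Nat.card (normalizerIn S Q) < Nat.card (normalizerIn S Q') → NCtl F Q' V)
    (hne : normalizerIn S Q ≠ S)
    {U : Subgroup Ω} (hUR : U ≤ normalizerIn S Q) (hU1 : U ≠ ⊥)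
    (hUc : (U.subgroupOf (normalizerIn S Q)).Characteristic) : NCtl F U V := by
  have hRS : normalizerIn S Q ≤ S := inf_le_left
  obtain ⟨g, hgN, hgR⟩ := exists_mem_normalizerIn_not_mem p hS hRS hne
  have hgU : g ∈ Subgroup.normalizer (U : Set Ω) := mem_normalizer_of_characteristic hUR hUc hgN.2
  have hRN : normalizerIn S Q ≤ Subgroup.normalizer (U : Set Ω) :=
    fun y hy => mem_normalizer_of_characteristic hUR hUc (Subgroup.le_normalizer hy)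
  have hRNU : normalizerIn S Q ≤ normalizerIn S U := fun y hy => ⟨hRS hy, hRN hy⟩
  have hUS : U ≤ S := hUR.trans hRS
  have hNUfin : Finite (normalizerIn S U) := finite_of_le inf_le_left
  have hlt : Nat.card (normalizerIn S Q) < Nat.card (normalizerIn S U) := by
    have hfin : ((normalizerIn S U : Subgroup Ω) : Set Ω).Finite := Set.toFinite _
    have hss : ((normalizerIn S Q : Subgroup Ω) : Set Ω) ⊂
        ((normalizerIn S U : Subgroup Ω) : Set Ω) := by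
      refine ⟨hRNU, fun h => hgR (h ⟨hgN.1, hgU⟩)⟩
    exact hfin.card_lt_card hss
  obtain ⟨U', hconj, hFA, hRec⟩ := hF U hUS
  obtain ⟨χ, hχ, hχN, hχU⟩ := Cfsg.Agent.S5079.result p hS F U' U hFA hRec hconj
  have hU'fn : F.IsFullyNormalized U' :=
    isFullyNormalized_of_automized_receptive F p hS hFA (Cfsg.Agent.S5078.result F U' hRec)
  have hUNU : U ≤ normalizerIn S U := hUR.trans hRNU
  have hU'1 : U' ≠ ⊥ := by
    intro h
    apply hU1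
    rw [h, Subgroup.map_eq_bot_iff_of_injective _ (F.injective_of_mem hχ)] at hχU
    rw [eq_bot_iff]
    intro y hy
    have h1 : (⟨y, hUNU hy⟩ : ↥(normalizerIn S U)) ∈ U.subgroupOf (normalizerIn S U) := hy
    rw [hχU, Subgroup.mem_bot] at h1
    rw [Subgroup.mem_bot]
    exact congrArg (fun z : ↥(normalizerIn S U) => (z : Ω)) h1
  have hcard : Nat.card (normalizerIn S U) ≤ Nat.card (normalizerIn S U') :=
    hU'fn.2 U (isConj_symm F hconj)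
  have hU'ctl : NCtl F U' V := hmax U' hU'fn hU'1 (lt_of_lt_of_le hlt hcard)
  -- maps with source larger than `N_S(Q)` lie in `N_F(V)`
  have hab := ctl_above p hS F hF hVS hSN (Nat.card (normalizerIn S Q)) (by
    intro P hP hm α hα
    have hPfin : Finite P := finite_of_le hP.1
    have hP1 : P ≠ ⊥ := by
      intro h
      rw [h, Subgroup.card_bot] at hm
      have : 0 < Nat.card (normalizerIn S Q) := by
        have : Finite (normalizerIn S Q) := finite_of_le hRS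
        exact Nat.card_pos
      omega
    have hPN : P ≤ normalizerIn S P := fun y hy => ⟨hP.1 hy, Subgroup.le_normalizer hy⟩
    have hNPfin : Finite (normalizerIn S P) := finite_of_le inf_le_left
    have h1 : NCtl F P V := hmax P hP hP1 (lt_of_lt_of_le hm (card_le_of_le hPN))
    exact h1 P (autHom_mem_normalizerHom F hP.1 hα))
  have hχV : χ ∈ F.normalizerHom V (normalizerIn S U) := hab _ χ hχ hlt
  exact nctl_transport F hUS hVS hχV hχN hχU hU'ctl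

end Cfsg.Agent.Helper26.GF
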