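import Mathlib
import Cfsg.Agent.Helper26.GFTransport

set_option autoImplicit false
set_option linter.style.haveILetI false
set_option linter.unusedSectionVars false
set_option linter.unusedVariables false

/-! Glauberman functors: hypotheses, and the constrained case. -/

namespace Cfsg.Agent.Helper26.GF

open Cfsg Cfsg.FusionSystem Cfsg.Agent.Helper25 Cfsg.Agent.Helper26.MasterRed
  Cfsg.Agent.Helper26.WC

universe u

/-- the hypotheses on a Glauberman functor -/
structure GHyp (p : ℕ) (W : ∀ (Q : Type u) [Group Q], Subgroup Q) : Prop where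
  hW1 : ∀ (Q : Type u) [Group Q] [Finite Q], IsPGroup p Q → Nontrivial Q → W Q ≠ ⊥
  hW2 : ∀ (Q R : Type u) [Group Q] [Group R] [Finite Q], IsPGroup p Q → ∀ φ : Q ≃* R,
    (W Q).map φ.toMonoidHom = W R
  hW3 : ∀ (L : Type u) [Group L] [Finite L] (P : Sylow p L),
    Subgroup.centralizer ((Cfsg.pCore p L : Subgroup L) : Set L) =
      Cfsg.pCore p L ⊓ Subgroup.centralizer ((Cfsg.pCore p L : Subgroup L) : Set L) →
    ¬ Cfsg.Involves ↥(Cfsg.qd p) L → (Wup W (P : Subgroup L)).Normal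

variable {p : ℕ} {W : ∀ (Q : Type u) [Group Q], Subgroup Q} {Ω : Type u} [Group Ω]

theorem gwup_char (hH : GHyp p W) {A : Subgroup Ω} [Finite A] (hA : IsPGroup p A) :
    ((Wup W A).subgroupOf A).Characteristic := by
  rw [wup_subgroupOf]
  rw [Subgroup.characteristic_iff_map_eq]
  intro φ
  exact hH.hW2 ↥A ↥A hA φ

theorem gwup_ne_bot (hH : GHyp p W) {A : Subgroup Ω} [Finite A] (hA : IsPGroup p A)
    (hA1 : A ≠ ⊥) : Wup W A ≠ ⊥ := by
  intro h
  have h1 : W ↥A ≠ ⊥ := hH.hW1 ↥A hA ((Subgroup.nontrivial_iff_ne_bot A).mpr hA1)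
  apply h1
  have h2 := wup_subgroupOf (W := W) A
  rw [h] at h2
  rw [← h2]
  exact Subgroup.bot_subgroupOf A

theorem gwup_range (hH : GHyp p W) {A : Subgroup Ω} [Finite A] (hA : IsPGroup p A)
    {G : Type u} [Group G] (ι : A →* G) (hinj : Function.Injective ι) :
    Wup W ι.range = ((Wup W A).subgroupOf A).map ι := by
  rw [wup_subgroupOf]
  have h1 := hH.hW2 ↥A ↥ι.range hA (MonoidHom.ofInjective hinj)
  unfold Wup
  rw [← h1, Subgroup.map_map]
  congr 1

theorem le_normalizer_gwup (hH : GHyp p W) {S : Subgroup Ω} [Finite S]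
    (hS : IsPGroup p S) : S ≤ Subgroup.normalizer ((Wup W S : Subgroup Ω) : Set Ω) := by
  intro g hg
  exact mem_normalizer_of_characteristic (wup_le S) (gwup_char hH hS) (Subgroup.le_normalizer hg)

variable [Fact p.Prime] {S : Subgroup Ω}

/-- The constrained case: in a model not involving `Qd(p)`, the functor subgroup is normal. -/
theorem isNormal_of_model [Finite S] (hH : GHyp p W) (hS : IsPGroup p S) (F : FusionSystem S)
    {G : Type u} [Group G] (ι : S →* G) (hM : F.IsModel p G ι)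
    (hfree : ¬ Cfsg.Involves ↥(Cfsg.qd p) G) : F.IsNormal (Wup W S) := by
  obtain ⟨hfin, hreal, ⟨T, hT⟩, hcent⟩ := hM
  have hinj := hreal.1
  have hWS : Wup W S ≤ S := wup_le S
  have hWfin : Finite (Wup W S) := finite_of_le hWS
  have hWn : (Wup W (T : Subgroup G)).Normal :=
    hH.hW3 G T (inf_of_le_right hcent).symm hfree
  have hWT : Wup W (T : Subgroup G) = ((Wup W S).subgroupOf S).map ι := by
    rw [hT]
    exact gwup_range hH hS ι hinj
  refine ⟨hWS, fun P φ hφ => ?_⟩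
  have hPS : P ≤ S := (F.le_of_mem hφ).1
  have hφS : ∀ y : P, φ y ∈ S := (F.le_of_mem hφ).2
  obtain ⟨g, hg⟩ := (hreal.2 P hPS φ hφS).mp hφ
  have hYS : P ⊔ Wup W S ≤ S := sup_le hPS hWS
  have hgW : ∀ y ∈ ((Wup W S).subgroupOf S).map ι, g * y * g⁻¹ ∈
      ((Wup W S).subgroupOf S).map ι := by
    intro y hy
    rw [← hWT] at hy ⊢
    exact hWn.conj_mem y hy g
  -- conjugation by `g` carries the image of `P ⊔ W(S)` into the image of `S`
  let K : Subgroup ↥S := ι.range.comap ((MulAut.conj g).toMonoidHom.comp ι)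
  have hK : ∀ y : S, y ∈ K ↔ g * ι y * g⁻¹ ∈ ι.range := fun y => Iff.rfl
  have hall : ∀ y : S, (y : Ω) ∈ P ⊔ Wup W S → y ∈ K := by
    apply forall_mem_sup_of hPS hWS K
    · intro y hy
      rw [hK]
      have h1 := hg ⟨y, hy⟩
      have e : (⟨((⟨(y : Ω), hy⟩ : P) : Ω), hPS hy⟩ : S) = y := Subtype.ext rfl
      rw [e] at h1
      rw [← h1]
      exact ⟨_, rfl⟩
    · intro y hy
      rw [hK]
      obtain ⟨z, -, hz⟩ := hgW _ ⟨y, hy, rfl⟩
      exact ⟨z, hz⟩
  have hconj : ∀ y : ↥(P ⊔ Wup W S), g * ι ⟨y, hYS y.2⟩ * g⁻¹ ∈ ι.range :=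
    fun y => (hK _).mp (hall ⟨y, hYS y.2⟩ y.2)
  obtain ⟨ψ, hψ, hψS, hψι⟩ := exists_hom_of_conj F ι hreal hYS g hconj
  refine ⟨ψ, hψ, fun x => ?_, ?_⟩
  · have h1 := hψι (Subgroup.inclusion le_sup_left x)
    have h2 := hg x
    have h3 : ι ⟨ψ (Subgroup.inclusion le_sup_left x), hψS _⟩ = ι ⟨φ x, hφS x⟩ := by
      rw [h1, h2]
      rfl
    exact congrArg Subtype.val (hinj h3)
  · apply map_eq_of_map_le (F.injective_of_mem hψ) _ le_sup_right
    rintro _ ⟨y, hy, rfl⟩
    have hy' : (y : Ω) ∈ Wup W S := hy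
    obtain ⟨z, hz, hze⟩ := hgW _ ⟨⟨y, hYS y.2⟩, hy', rfl⟩
    rw [← hψι y] at hze
    have h2 := hinj hze
    have h3 : (z : Ω) = ψ y := congrArg Subtype.val h2
    rw [← h3]
    exact hz

end Cfsg.Agent.Helper26.GF
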