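import Mathlib
import Cfsg.Agent.Helper26.GFModel

set_option autoImplicit false
set_option linter.style.haveILetI false
set_option linter.unusedSectionVars false
set_option linter.unusedVariables false

/-! For `Q` normal in a saturated system `F`, every map of `F` is the composite of a map of
`N_F(Q C_S(Q))` and a map that is the identity on `Q`. -/

namespace Cfsg.Agent.Helper26.GF

open Cfsg Cfsg.FusionSystem Cfsg.Agent.Helper25 Cfsg.Agent.Helper26.MasterRed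
  Cfsg.Agent.Helper26.WC

variable {Ω : Type*} [Group Ω] {S : Subgroup Ω}

set_option maxHeartbeats 1600000 in
theorem isNormal_of_sc_of_nctl [Finite S] (p : ℕ) [Fact p.Prime] (hS : IsPGroup p S)
    (F : FusionSystem S) (hF : F.IsSaturated p) {Q V : Subgroup Ω} (hQ : F.IsNormal Q)
    (hVS : V ≤ S) (hSNV : S ≤ Subgroup.normalizer (V : Set Ω))
    (hsc : ∀ (P : Subgroup Ω) (hQP : Q ≤ P) (θ : P →* Ω), θ ∈ F.Hom P →
      (∀ q : Q, θ ⟨q, hQP q.2⟩ = q) → θ ∈ F.normalizerHom V P)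
    (hR : NCtl F (Q ⊔ centralizerIn S Q) V) : F.IsNormal V := by
  have hQS : Q ≤ S := hQ.1
  have hSN : S ≤ Subgroup.normalizer (Q : Set Ω) := le_normalizer_of_isNormal F hQ
  have hscQ := stronglyClosed_of_isNormal F hQ
  have hQfin : Finite Q := finite_of_le hQS
  obtain ⟨NS, hNSe⟩ : ∃ NS : FusionSystem (normalizerIn S V), NS = normalizerSystem F V hVS :=
    ⟨_, rfl⟩
  have hNSHom : ∀ (R : Subgroup Ω) (θ : R →* Ω), θ ∈ NS.Hom R ↔ θ ∈ F.normalizerHom V R := by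
    intro R θ
    rw [hNSe]
    rfl
  have hNSF : ∀ (R : Subgroup Ω) (θ : R →* Ω), θ ∈ NS.Hom R → θ ∈ F.Hom R :=
    fun R θ hθ => ((hNSHom R θ).mp hθ).1
  apply isNormal_of_forall_mem F hVS
  intro A φ hφ
  obtain ⟨ψ, hψ, hext, hmap⟩ := hQ.2 A φ hφ
  -- it suffices to treat `ψ`
  suffices hψV : ψ ∈ NS.Hom (A ⊔ Q) by
    have h1 : ψ.comp (Subgroup.inclusion (le_sup_left : A ≤ A ⊔ Q)) ∈ NS.Hom A :=
      restrict_mem NS le_sup_left hψV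
    have e : ψ.comp (Subgroup.inclusion (le_sup_left : A ≤ A ⊔ Q)) = φ := by
      ext x
      exact hext x
    rw [e] at h1
    exact (hNSHom _ _).mp h1
  have hBS : A ⊔ Q ≤ S := (F.le_of_mem hψ).1
  have hψS : ∀ y, ψ y ∈ S := (F.le_of_mem hψ).2
  have hQB : Q ≤ A ⊔ Q := le_sup_right
  have hψQ : ∀ y : ↥(A ⊔ Q), (y : Ω) ∈ Q → ψ y ∈ Q := by
    intro y hy
    have h0 : ψ y ∈ (Q.subgroupOf (A ⊔ Q)).map ψ := ⟨y, hy, rfl⟩
    exact (show ∀ Z : Subgroup Ω, (Q.subgroupOf (A ⊔ Q)).map ψ = Z → ψ y ∈ Z from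
      fun Z hZ => hZ ▸ h0) Q hmap
  -- the restriction of `ψ` to `Q` and its extension to `N_α`
  have hrec : F.IsReceptive Q := isReceptive_of_stronglyClosed p F hF hscQ
  have hα : ψ.comp (Subgroup.inclusion hQB) ∈ F.Hom Q := restrict_mem F hQB hψ
  obtain ⟨α, hαe⟩ : ∃ α : Q →* Ω, α = ψ.comp (Subgroup.inclusion hQB) := ⟨_, rfl⟩
  rw [← hαe] at hα
  have hαapp : ∀ q : Q, α q = ψ ⟨q, hQB q.2⟩ := fun q => by rw [hαe]; rfl
  have hαr : α.range = Q := by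
    apply Subgroup.eq_of_le_of_card_ge
    · rintro _ ⟨q, rfl⟩
      rw [hαapp]
      exact hψQ _ q.2
    · exact (Nat.card_congr (MonoidHom.ofInjective (F.injective_of_mem hα)).toEquiv).le
  obtain ⟨ψ', hψ', hψ'ext⟩ := hrec.2 Q α hα hαr
  have hBN : A ⊔ Q ≤ extender S Q α := by
    intro g hg
    apply Subgroup.subset_closure
    refine ⟨hBS hg, hSN (hBS hg), ψ ⟨g, hg⟩, hψS _, fun q hq => ?_⟩
    rw [hαapp, hαapp]
    have e : (⟨((⟨g * (q : Ω) * g⁻¹, hq⟩ : Q) : Ω), hQB hq⟩ : ↥(A ⊔ Q)) =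
        ⟨g, hg⟩ * ⟨q, hQB q.2⟩ * ⟨g, hg⟩⁻¹ := Subtype.ext rfl
    rw [e, map_mul, map_mul, map_inv]
  have hCN : centralizerIn S Q ≤ extender S Q α := by
    intro c hc
    apply Subgroup.subset_closure
    refine ⟨hc.1, hSN hc.1, 1, S.one_mem, fun q hq => ?_⟩
    have e : (⟨c * (q : Ω) * c⁻¹, hq⟩ : Q) = q := by
      apply Subtype.ext
      show c * (q : Ω) * c⁻¹ = q
      have := (Subgroup.mem_centralizer_iff.mp hc.2) q q.2
      rw [← this]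
      group
    rw [e]
    simp
  have hQN : Q ≤ extender S Q α := hQB.trans hBN
  have hψ'S : ∀ y, ψ' y ∈ S := (F.le_of_mem hψ').2
  have hψ'α : ∀ y : ↥(extender S Q α), ∀ hy : (y : Ω) ∈ Q, ψ' y = α ⟨y, hy⟩ := by
    intro y hy
    exact hψ'ext y hy y.2
  have hψ'Q : ∀ y : ↥(extender S Q α), (y : Ω) ∈ Q → ψ' y ∈ Q := by
    intro y hy
    rw [hψ'α y hy, hαapp]
    exact hψQ _ hy
  have hψ'C : ∀ y : ↥(extender S Q α), (y : Ω) ∈ centralizerIn S Q →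
      ψ' y ∈ centralizerIn S Q := by
    intro y hy
    refine ⟨hψ'S y, Subgroup.mem_centralizer_iff.mpr ?_⟩
    intro q hq
    have hq' : q ∈ α.range := by rw [hαr]; exact hq
    obtain ⟨q', rfl⟩ := hq'
    have e : α q' = ψ' ⟨q', hQN q'.2⟩ := (hψ'α ⟨q', hQN q'.2⟩ q'.2).symm
    rw [e, ← map_mul, ← map_mul]
    congr 1
    apply Subtype.ext
    show (q' : Ω) * y = y * q'
    exact (Subgroup.mem_centralizer_iff.mp hy.2) q' q'.2
  -- the restriction `χ` of `ψ'` to `E = (A ⊔ Q) ⊔ R`, `R = Q C_S(Q)`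
  obtain ⟨R, hRe⟩ : ∃ R : Subgroup Ω, R = Q ⊔ centralizerIn S Q := ⟨_, rfl⟩
  have hRS : R ≤ S := by rw [hRe]; exact sup_le hQS inf_le_left
  have hRfin : Finite R := finite_of_le hRS
  have hRN : R ≤ extender S Q α := by rw [hRe]; exact sup_le hQN hCN
  have hEN : (A ⊔ Q) ⊔ R ≤ extender S Q α := sup_le hBN hRN
  have hES : (A ⊔ Q) ⊔ R ≤ S := sup_le hBS hRS
  have hSNR : S ≤ Subgroup.normalizer (R : Set Ω) := by
    rw [hRe]
    exact le_normalizer_sup_of hSN (le_normalizer_centralizerIn hSN)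
  have hχ : ψ'.comp (Subgroup.inclusion hEN) ∈ F.Hom ((A ⊔ Q) ⊔ R) := restrict_mem F hEN hψ'
  obtain ⟨χ, hχe⟩ : ∃ χ : ↥((A ⊔ Q) ⊔ R) →* Ω, χ = ψ'.comp (Subgroup.inclusion hEN) :=
    ⟨_, rfl⟩
  rw [← hχe] at hχ
  have hχapp : ∀ y : ↥((A ⊔ Q) ⊔ R), χ y = ψ' ⟨y, hEN y.2⟩ := fun y => by rw [hχe]; rfl
  have hRE : R ≤ (A ⊔ Q) ⊔ R := le_sup_right
  have hQE : Q ≤ (A ⊔ Q) ⊔ R := hQB.trans le_sup_left
  have hCE : centralizerIn S Q ≤ (A ⊔ Q) ⊔ R := by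
    refine le_trans ?_ hRE
    rw [hRe]
    exact le_sup_right
  have hχR : ∀ y : ↥((A ⊔ Q) ⊔ R), (y : Ω) ∈ R → χ y ∈ R := by
    have h1 : ∀ y : ↥((A ⊔ Q) ⊔ R), (y : Ω) ∈ Q ⊔ centralizerIn S Q →
        y ∈ (Q ⊔ centralizerIn S Q).comap χ := by
      apply forall_mem_sup_of (X := (A ⊔ Q) ⊔ R) hQE hCE
      · intro y hy
        exact Subgroup.mem_sup_left (by rw [hχapp]; exact hψ'Q _ hy)
      · intro y hy
        exact Subgroup.mem_sup_right (by rw [hχapp]; exact hψ'C _ hy)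
    intro y hy
    have hy' : (y : Ω) ∈ Q ⊔ centralizerIn S Q := by rw [← hRe]; exact hy
    have h2 : χ y ∈ Q ⊔ centralizerIn S Q := h1 y hy'
    rw [← hRe] at h2
    exact h2
  have hENR : (A ⊔ Q) ⊔ R ≤ normalizerIn S R := fun y hy => ⟨hES hy, hSNR (hES hy)⟩
  have hχN : χ ∈ F.normalizerHom R ((A ⊔ Q) ⊔ R) := by
    refine mem_normalizerHom_of_le F hRE hχ hENR
      (fun y => ⟨(F.le_of_mem hχ).2 y, hSNR ((F.le_of_mem hχ).2 y)⟩) ?_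
    apply map_eq_of_map_le (F.injective_of_mem hχ) _ hRE
    rintro _ ⟨y, hy, rfl⟩
    exact hχR y hy
  have hχV : χ ∈ NS.Hom ((A ⊔ Q) ⊔ R) := by
    apply (hNSHom _ _).mpr
    have := hR ((A ⊔ Q) ⊔ R)
    rw [← hRe] at this
    exact this hχN
  -- the restriction `χB` of `χ` to `B = A ⊔ Q`
  have hχB : χ.comp (Subgroup.inclusion (le_sup_left : A ⊔ Q ≤ (A ⊔ Q) ⊔ R)) ∈ NS.Hom (A ⊔ Q) :=
    restrict_mem NS le_sup_left hχV
  obtain ⟨χB, hχBe⟩ : ∃ χB : ↥(A ⊔ Q) →* Ω,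
      χB = χ.comp (Subgroup.inclusion (le_sup_left : A ⊔ Q ≤ (A ⊔ Q) ⊔ R)) := ⟨_, rfl⟩
  rw [← hχBe] at hχB
  have hχBapp : ∀ y : ↥(A ⊔ Q), χB y = ψ' ⟨y, hBN y.2⟩ := fun y => by
    rw [hχBe]
    exact hχapp _
  have hχBQ : ∀ q : Q, χB ⟨q, hQB q.2⟩ = α q := by
    intro q
    rw [hχBapp]
    exact hψ'α ⟨q, hQN q.2⟩ q.2
  obtain ⟨B', hB'⟩ : ∃ B', χB.range = B' := ⟨_, rfl⟩
  obtain ⟨τ, hτNS, hτinv, hτrange⟩ := exists_inv_mem NS hχB hB'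
  have hτ : τ ∈ F.Hom B' := hNSF _ _ hτNS
  have hτB : ∀ z : B', τ z ∈ A ⊔ Q := by
    intro z
    rw [← hτrange]
    exact ⟨z, rfl⟩
  have hQB' : Q ≤ B' := by
    intro q hq
    have hq' : q ∈ α.range := by rw [hαr]; exact hq
    obtain ⟨q', rfl⟩ := hq'
    rw [← hB', ← hχBQ q']
    exact ⟨_, rfl⟩
  have hθ : ψ.comp (τ.codRestrict (A ⊔ Q) hτB) ∈ F.Hom B' := F.comp_mem hτ hψ hτB
  obtain ⟨θ, hθe⟩ : ∃ θ : B' →* Ω, θ = ψ.comp (τ.codRestrict (A ⊔ Q) hτB) := ⟨_, rfl⟩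
  rw [← hθe] at hθ
  have hθapp : ∀ z : B', θ z = ψ ⟨τ z, hτB z⟩ := fun z => by rw [hθe]; rfl
  have hχBB' : ∀ y : ↥(A ⊔ Q), χB y ∈ B' := by
    intro y
    rw [← hB']
    exact ⟨y, rfl⟩
  have hθχ : ∀ y : ↥(A ⊔ Q), θ ⟨χB y, hχBB' y⟩ = ψ y := by
    intro y
    rw [hθapp]
    congr 1
    exact Subtype.ext (hτinv y (hχBB' y))
  have hθQ : ∀ q : Q, θ ⟨q, hQB' q.2⟩ = q := by
    intro q
    have hq' : (q : Ω) ∈ α.range := by rw [hαr]; exact q.2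
    obtain ⟨q', hq'e⟩ := hq'
    have e : (⟨(q : Ω), hQB' q.2⟩ : B') = ⟨χB ⟨q', hQB q'.2⟩, hχBB' _⟩ := by
      apply Subtype.ext
      show (q : Ω) = χB ⟨q', hQB q'.2⟩
      rw [hχBQ, hq'e]
    rw [e, hθχ, ← hαapp, hq'e]
  have hθV : θ ∈ NS.Hom B' := (hNSHom _ _).mpr (hsc B' hQB' θ hθ hθQ)
  have hc : θ.comp (χB.codRestrict B' hχBB') ∈ NS.Hom (A ⊔ Q) := NS.comp_mem hχB hθV hχBB'
  have e : θ.comp (χB.codRestrict B' hχBB') = ψ := by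
    ext y
    exact hθχ y
  rw [e] at hc
  exact hc

end Cfsg.Agent.Helper26.GF
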