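import Mathlib
import Cfsg.Agent.Helper26.GFDecomp
import Cfsg.Agent.Helper25.FusionNKSystem

set_option autoImplicit false
set_option linter.style.haveILetI false
set_option linter.unusedSectionVars false
set_option linter.unusedVariables false

/-! The subsystem `S C_F(Q)` of a saturated system `F` with `Q` normal in `F`. -/

namespace Cfsg.Agent.Helper26.GF

open Cfsg Cfsg.FusionSystem Cfsg.Agent.Helper25 Cfsg.Agent.Helper26.MasterRed
  Cfsg.Agent.Helper26.WC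

variable {Ω : Type*} [Group Ω] {S : Subgroup Ω}

theorem castSystem_isSaturated {T : Subgroup Ω} (h : T = S) (E : FusionSystem T) (p : ℕ)
    (hE : E.IsSaturated p) : (castSystem h E).IsSaturated p := by
  subst h
  exact hE

theorem NKvia_autInducedBy_eq {Q : Subgroup Ω} (hSN : S ≤ Subgroup.normalizer (Q : Set Ω)) :
    NKvia S Q.subtype (autInducedBy S Q) = S := by
  apply le_antisymm (NKvia_le S _ _)
  intro g hg
  rw [mem_NKvia_subtype]
  refine ⟨hg, Q.normalizerMonoidHom ⟨g, hSN hg⟩, ?_, fun x => rfl⟩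
  rw [mem_autInducedBy_iff]
  exact ⟨g, hg, fun x => rfl⟩

/-- the system `S C_F(Q)`, as a system over `S` -/
def scSys (F : FusionSystem S) (Q : Subgroup Ω) (hQS : Q ≤ S)
    (hSN : S ≤ Subgroup.normalizer (Q : Set Ω)) : FusionSystem S :=
  castSystem (NKvia_autInducedBy_eq hSN) (NKSystem F Q hQS (autInducedBy S Q))

theorem mem_scSys_iff (F : FusionSystem S) (Q : Subgroup Ω) (hQS : Q ≤ S)
    (hSN : S ≤ Subgroup.normalizer (Q : Set Ω)) (P : Subgroup Ω) (φ : P →* Ω) :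
    φ ∈ (scSys F Q hQS hSN).Hom P ↔ φ ∈ F.Hom P ∧
      ∃ ψ ∈ F.Hom (P ⊔ Q), (∀ x : P, ψ (Subgroup.inclusion le_sup_left x) = φ x) ∧
        ∃ κ ∈ autInducedBy S Q, ∀ x : Q, ψ (Subgroup.inclusion le_sup_right x) = κ x := by
  unfold scSys
  rw [castSystem_Hom, NKSystem_hom]
  constructor
  · rintro ⟨h1, -, -, h4⟩
    exact ⟨h1, h4⟩
  · rintro ⟨h1, h4⟩
    have hP := F.le_of_mem h1
    refine ⟨h1, ?_, ?_, h4⟩
    · rw [NKvia_autInducedBy_eq hSN]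
      exact hP.1
    · intro x
      rw [NKvia_autInducedBy_eq hSN]
      exact hP.2 x

theorem scSys_isSaturated [Finite S] (p : ℕ) [Fact p.Prime] (hS : IsPGroup p S)
    (F : FusionSystem S) (hF : F.IsSaturated p) {Q : Subgroup Ω} (hQ : F.IsNormal Q) :
    (scSys F Q hQ.1 (le_normalizer_of_isNormal F hQ)).IsSaturated p := by
  apply castSystem_isSaturated
  have hFC : F.IsFullyCentralized Q := by
    refine ⟨hQ.1, fun Q' hQ' => ?_⟩
    rw [eq_of_isConj_of_isNormal F hQ hQ']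
  exact NKSystem_isSaturated p hS F hF hFC (autInducedBy S Q) le_rfl

theorem scSys_sub (F : FusionSystem S) (Q : Subgroup Ω) (hQS : Q ≤ S)
    (hSN : S ≤ Subgroup.normalizer (Q : Set Ω)) (P : Subgroup Ω) (φ : P →* Ω)
    (hφ : φ ∈ (scSys F Q hQS hSN).Hom P) : φ ∈ F.Hom P :=
  ((mem_scSys_iff F Q hQS hSN P φ).mp hφ).1

/-- maps that are the identity on `Q` lie in `S C_F(Q)` -/
theorem scSys_mem_of_id (F : FusionSystem S) (Q : Subgroup Ω) (hQS : Q ≤ S)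
    (hSN : S ≤ Subgroup.normalizer (Q : Set Ω)) (P : Subgroup Ω) (hQP : Q ≤ P) (θ : P →* Ω)
    (hθ : θ ∈ F.Hom P) (hid : ∀ q : Q, θ ⟨q, hQP q.2⟩ = q) :
    θ ∈ (scSys F Q hQS hSN).Hom P := by
  rw [mem_scSys_iff]
  have hsup : P ⊔ Q = P := sup_eq_left.mpr hQP
  refine ⟨hθ, θ.comp (Subgroup.inclusion hsup.le), cast_mem F hsup hθ, fun x => rfl, 1,
    Subgroup.one_mem _, fun x => ?_⟩
  exact hid x

/-- maps of `S C_F(Q)` act on `Q` as elements of `S` -/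
theorem scSys_conj_of_mem (F : FusionSystem S) (Q : Subgroup Ω) (hQS : Q ≤ S)
    (hSN : S ≤ Subgroup.normalizer (Q : Set Ω)) (P : Subgroup Ω) (hQP : Q ≤ P) (φ : P →* Ω)
    (hφ : φ ∈ (scSys F Q hQS hSN).Hom P) :
    ∃ s ∈ S, ∀ q : Q, φ ⟨q, hQP q.2⟩ = s * q * s⁻¹ := by
  rw [mem_scSys_iff] at hφ
  obtain ⟨-, ψ, -, hext, κ, hκ, hκQ⟩ := hφ
  obtain ⟨s, hs, hsκ⟩ := (mem_autInducedBy_iff S Q κ).mp hκ
  refine ⟨s, hs, fun q => ?_⟩
  rw [← hsκ q, ← hκQ q, ← hext ⟨q, hQP q.2⟩]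
  rfl

/-- `Q` is normal in `S C_F(Q)` -/
theorem scSys_isNormal (F : FusionSystem S) (Q : Subgroup Ω) (hQS : Q ≤ S)
    (hSN : S ≤ Subgroup.normalizer (Q : Set Ω)) : (scSys F Q hQS hSN).IsNormal Q := by
  refine ⟨hQS, fun P φ hφ => ?_⟩
  have hφ' := (mem_scSys_iff F Q hQS hSN P φ).mp hφ
  obtain ⟨hφF, ψ, hψ, hext, κ, hκ, hκQ⟩ := hφ'
  have hQfinle : Q ≤ P ⊔ Q := le_sup_right
  refine ⟨ψ, ?_, hext, ?_⟩
  · rw [mem_scSys_iff]
    have hsup : (P ⊔ Q) ⊔ Q = P ⊔ Q := sup_eq_left.mpr le_sup_right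
    refine ⟨hψ, ψ.comp (Subgroup.inclusion hsup.le), cast_mem F hsup hψ, fun x => rfl, κ, hκ,
      fun x => ?_⟩
    exact hκQ x
  · ext y
    constructor
    · rintro ⟨x, hx, rfl⟩
      have e : x = Subgroup.inclusion le_sup_right (⟨x, hx⟩ : Q) := Subtype.ext rfl
      rw [e, hκQ]
      exact (κ ⟨x, hx⟩).2
    · intro hy
      refine ⟨Subgroup.inclusion le_sup_right (κ⁻¹ ⟨y, hy⟩), (κ⁻¹ ⟨y, hy⟩).2, ?_⟩
      rw [hκQ, MulAut.apply_inv_self]

end Cfsg.Agent.Helper26.GF
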