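import Mathlib
import Cfsg.Agent.S5089
import Cfsg.Agent.Helper26.FrattiniFusion
import Cfsg.Agent.Helper25.FusionNormalizerConstrained

/-! # The action of a model on `O_p(F)` -/

set_option autoImplicit false

namespace Cfsg.Agent.Helper26.ModelAut

open Cfsg Cfsg.FusionSystem Cfsg.Agent.Helper25 Cfsg.Agent.Helper26.MasterRed

variable {Ω : Type*} [Group Ω] {S : Subgroup Ω} {G : Type*} [Group G]

/-- In a model, the image of `O_p(F)` is `O_p(G)`. -/
theorem map_core_eq_pCore [Finite S] (p : ℕ) [Fact p.Prime] (hS : IsPGroup p S)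
    (F : FusionSystem S) (ι : S →* G) (hM : F.IsModel p G ι) :
    (F.core.subgroupOf S).map ι = pCore p G := by
  have hN := Cfsg.Agent.S5089.core_isNormal F
  have hnorm := normal_map_of_isModel p F ι hM hN
  have h1 := pCore_isNormal_of_isModel p F ι hM
  obtain ⟨hfin, hreal, ⟨T, hT⟩, hC⟩ := hM
  apply le_antisymm
  · apply Cfsg.Agent.Helper14.le_pCore p hnorm
    have h2 : IsPGroup p ↥(F.core.subgroupOf S) :=
      hS.of_injective (F.core.subgroupOf S).subtype (Subgroup.subtype_injective _)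
    exact h2.map ι
  · intro g hg
    have hgr : g ∈ ι.range := hT ▸ Cfsg.Agent.Helper14.pCore_le_sylow p T hg
    obtain ⟨s, rfl⟩ := hgr
    have h3 : (s : Ω) ∈ F.core := by
      apply le_sSup (a := imageAlong (realInv ι hreal.1) (pCore p G)) h1
      rw [mem_imageAlong_iff]
      exact ⟨⟨ι s, ⟨s, rfl⟩⟩, hg, realInv_apply ι hreal.1 s _⟩
    exact ⟨s, h3, rfl⟩

section Gamma

variable (F : FusionSystem S) (ι : S →* G) (hreal : F.IsRealizedBy ι)
  (Q : Subgroup Ω) (hQS : Q ≤ S) [hn : ((Q.subgroupOf S).map ι).Normal]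

/-- `Q` and its image -/
noncomputable def eQ : Q ≃* ((Q.subgroupOf S).map ι : Subgroup G) :=
  (Subgroup.subgroupOfEquivOfLe hQS).symm.trans
    ((Q.subgroupOf S).equivMapOfInjective ι hreal.1)

omit hn in
theorem eQ_coe (q : Q) :
    ((eQ F ι hreal Q hQS q : ((Q.subgroupOf S).map ι : Subgroup G)) : G) = ι ⟨q, hQS q.2⟩ := by
  unfold eQ
  rw [MulEquiv.trans_apply, Subgroup.coe_equivMapOfInjective_apply]
  rfl

/-- action of the group on `Q` -/
noncomputable def Γ' : G →* MulAut Q :=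
  (MulAut.congr (eQ F ι hreal Q hQS).symm).toMonoidHom.comp
    (MulAut.conjNormal (H := (Q.subgroupOf S).map ι))

theorem Γ'_apply (g : G) (q : Q) :
    ι ⟨((Γ' F ι hreal Q hQS g q : Q) : Ω), hQS (Γ' F ι hreal Q hQS g q).2⟩ =
      g * ι ⟨q, hQS q.2⟩ * g⁻¹ := by
  have h1 : Γ' F ι hreal Q hQS g q =
      (eQ F ι hreal Q hQS).symm (MulAut.conjNormal g (eQ F ι hreal Q hQS q)) := rfl
  rw [← eQ_coe F ι hreal Q hQS, h1, MulEquiv.apply_symm_apply, MulAut.conjNormal_apply,
    eQ_coe F ι hreal Q hQS]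

theorem Γ'_mem [Finite S] (g : G) : Γ' F ι hreal Q hQS g ∈ F.autGroup Q := by
  rw [mem_autGroup_iff F hQS]
  rw [hreal.2 Q hQS _ (fun x => hQS (Γ' F ι hreal Q hQS g x).2)]
  exact ⟨g, fun x => Γ'_apply F ι hreal Q hQS g x⟩

/-- action of the group on `Q`, in `Aut_F(Q)` -/
noncomputable def Γ [Finite S] : G →* F.autGroup Q :=
  (Γ' F ι hreal Q hQS).codRestrict _ (Γ'_mem F ι hreal Q hQS)

theorem Γ_apply [Finite S] (g : G) (q : Q) :
    ι ⟨((((Γ F ι hreal Q hQS g : F.autGroup Q) : MulAut Q) q : Q) : Ω),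
      hQS (((Γ F ι hreal Q hQS g : F.autGroup Q) : MulAut Q) q).2⟩ =
      g * ι ⟨q, hQS q.2⟩ * g⁻¹ :=
  Γ'_apply F ι hreal Q hQS g q

theorem Γ_surjective [Finite S] : Function.Surjective (Γ F ι hreal Q hQS) := by
  intro a
  have h := (mem_autGroup_iff F hQS (a : MulAut Q)).mp a.2
  rw [hreal.2 Q hQS _ (fun x => hQS ((a : MulAut Q) x).2)] at h
  obtain ⟨g, hg⟩ := h
  refine ⟨g, ?_⟩
  apply Subtype.ext
  apply MulEquiv.ext
  intro q
  apply Subtype.ext
  have h1 := Γ_apply F ι hreal Q hQS g q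
  have h2 := hg q
  have h3 := hreal.1 (h1.trans h2.symm)
  exact congrArg (fun w : S => (w : Ω)) h3

theorem Γ_ker_le [Finite S] :
    (Γ F ι hreal Q hQS).ker ≤
      Subgroup.centralizer (((Q.subgroupOf S).map ι : Subgroup G) : Set G) := by
  intro g hg
  rw [MonoidHom.mem_ker] at hg
  rw [Subgroup.mem_centralizer_iff]
  rintro _ ⟨q, hq, rfl⟩
  have h1 := Γ_apply F ι hreal Q hQS g ⟨(q : Ω), hq⟩
  rw [hg] at h1
  have h1' : ι q = g * ι q * g⁻¹ := h1
  calc ι q * g = (g * ι q * g⁻¹) * g := by rw [← h1']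
    _ = g * ι q := by group

end Gamma

/-- A model acts on `O_p(F)` through a surjection onto `Aut_F(O_p(F))` whose kernel is a
`p`-group. -/
theorem exists_hom_autGroup_core [Finite S] (p : ℕ) [Fact p.Prime] (hS : IsPGroup p S)
    (F : FusionSystem S) (ι : S →* G) (hM : F.IsModel p G ι) :
    ∃ γ : G →* F.autGroup F.core, Function.Surjective γ ∧ IsPGroup p γ.ker := by
  have hN := Cfsg.Agent.S5089.core_isNormal F
  have hnorm := normal_map_of_isModel p F ι hM hN
  have hmap := map_core_eq_pCore p hS F ι hM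
  obtain ⟨hfin, hreal, ⟨T, hT⟩, hC⟩ := hM
  refine ⟨Γ F ι hreal F.core hN.1, Γ_surjective F ι hreal F.core hN.1, ?_⟩
  have h1 : (Γ F ι hreal F.core hN.1).ker ≤ pCore p G := by
    refine (Γ_ker_le F ι hreal F.core hN.1).trans ?_
    rw [hmap]
    exact hC
  exact (Cfsg.Agent.Helper14.pCore_isPGroup (G := G) p).to_le h1

end Cfsg.Agent.Helper26.ModelAut
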