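import Mathlib
import Cfsg.Agent.Helper26.ModelAut
import Cfsg.Agent.Helper26.WCCent

set_option autoImplicit false
set_option linter.style.haveILetI false
set_option linter.unusedSectionVars false

/-! In a model, the image of a normal self-centralizing subgroup of the system is
self-centralizing. -/

namespace Cfsg.Agent.Helper26.Embed

open Cfsg Cfsg.FusionSystem Cfsg.Agent.Helper25 Cfsg.Agent.Helper26.MasterRed
  Cfsg.Agent.Helper26.ModelAut

/-- A `p'`-element centralizing a subgroup `B` of a normal `p`-subgroup `O` with `C_O(B) ≤ B`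
centralizes `O`. -/
theorem centralizes_of_centralizes_selfcentralizing {G : Type*} [Group G] {p : ℕ} [Fact p.Prime]
    {O B : Subgroup G} [Finite O] (hOn : O.Normal) (hOp : IsPGroup p O) (hBO : B ≤ O)
    (hCB : O ⊓ Subgroup.centralizer (B : Set G) ≤ B) {c : G} {m : ℕ} (hcm : c ^ m = 1)
    (hm : m.Coprime p) (hcB : ∀ b ∈ B, c * b = b * c) : ∀ x ∈ O, c * x = x * c := by
  by_contra hcon
  obtain ⟨O₀, hO₀e⟩ : ∃ O₀ : Subgroup G, O₀ = O ⊓ Subgroup.centralizer ({c} : Set G) := ⟨_, rfl⟩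
  have hO₀O : O₀ ≤ O := by rw [hO₀e]; exact inf_le_left
  have hmemO₀ : ∀ x, x ∈ O₀ ↔ x ∈ O ∧ c * x = x * c := by
    intro x
    rw [hO₀e, Subgroup.mem_inf, Subgroup.mem_centralizer_iff]
    constructor
    · rintro ⟨h1, h2⟩
      exact ⟨h1, h2 c rfl⟩
    · rintro ⟨h1, h2⟩
      refine ⟨h1, fun y hy => ?_⟩
      rw [Set.mem_singleton_iff] at hy
      rw [hy]
      exact h2
  have hne : O₀ ≠ O := by
    intro h
    apply hcon
    intro x hx
    rw [← h] at hx
    exact ((hmemO₀ x).mp hx).2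
  have hBO₀ : B ≤ O₀ := fun b hb => (hmemO₀ b).mpr ⟨hBO hb, hcB b hb⟩
  obtain ⟨g, hgN, hgO₀⟩ := exists_mem_normalizerIn_not_mem (S := O) p hOp hO₀O hne
  apply hgO₀
  rw [hmemO₀]
  refine ⟨hgN.1, ?_⟩
  -- `y = c g c⁻¹ g⁻¹`
  have hyO : c * g * c⁻¹ * g⁻¹ ∈ O := O.mul_mem (hOn.conj_mem g hgN.1 c) (O.inv_mem hgN.1)
  have hyB : c * g * c⁻¹ * g⁻¹ ∈ B := by
    apply hCB
    refine ⟨hyO, ?_⟩
    show c * g * c⁻¹ * g⁻¹ ∈ Subgroup.centralizer (B : Set G)
    rw [Subgroup.mem_centralizer_iff]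
    intro b hb
    have h1 : g⁻¹ * b * g ∈ O₀ := by
      have := ((Subgroup.mem_normalizer_iff.mp (Subgroup.inv_mem _ hgN.2)) b).mp (hBO₀ hb)
      rwa [inv_inv] at this
    have h2 : c * (g⁻¹ * b * g) = (g⁻¹ * b * g) * c := ((hmemO₀ _).mp h1).2
    have h3 : c * b = b * c := hcB b hb
    have h2' : c⁻¹ * (g⁻¹ * b * g) * c = g⁻¹ * b * g := by
      calc c⁻¹ * (g⁻¹ * b * g) * c = c⁻¹ * (g⁻¹ * b * g * c) := by group
        _ = c⁻¹ * (c * (g⁻¹ * b * g)) := by rw [h2]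
        _ = g⁻¹ * b * g := by group
    have h3' : c * b * c⁻¹ = b := by
      calc c * b * c⁻¹ = b * c * c⁻¹ := by rw [h3]
        _ = b := by group
    have e1 : (c * g * c⁻¹ * g⁻¹) * b =
        c * g * (c⁻¹ * (g⁻¹ * b * g) * c) * g⁻¹ * c⁻¹ * (c * g * c⁻¹ * g⁻¹) := by group
    rw [h2'] at e1
    have e2 : c * g * (g⁻¹ * b * g) * g⁻¹ * c⁻¹ = c * b * c⁻¹ := by group
    rw [e2, h3'] at e1
    exact e1.symm
  have hcy : c * (c * g * c⁻¹ * g⁻¹) = (c * g * c⁻¹ * g⁻¹) * c := hcB _ hyB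
  -- iterate
  have hiter : ∀ k : ℕ, c ^ k * g * (c ^ k)⁻¹ = (c * g * c⁻¹ * g⁻¹) ^ k * g := by
    intro k
    induction k with
    | zero => simp
    | succ k ih =>
      have hck : c ^ k * (c * g * c⁻¹ * g⁻¹) = (c * g * c⁻¹ * g⁻¹) * c ^ k := by
        have : Commute c (c * g * c⁻¹ * g⁻¹) := hcy
        exact (this.pow_left k).eq
      calc c ^ (k + 1) * g * (c ^ (k + 1))⁻¹
          = c ^ k * (c * g * c⁻¹ * g⁻¹) * g * (c ^ k)⁻¹ := by rw [pow_succ]; group
        _ = (c * g * c⁻¹ * g⁻¹) * (c ^ k * g * (c ^ k)⁻¹) := by rw [hck]; group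
        _ = (c * g * c⁻¹ * g⁻¹) ^ (k + 1) * g := by rw [ih, pow_succ']; group
  have h5 := hiter m
  rw [hcm] at h5
  have h6 : (c * g * c⁻¹ * g⁻¹) ^ m = 1 := by
    have : g = (c * g * c⁻¹ * g⁻¹) ^ m * g := by simpa using h5
    calc (c * g * c⁻¹ * g⁻¹) ^ m = ((c * g * c⁻¹ * g⁻¹) ^ m * g) * g⁻¹ := by group
      _ = g * g⁻¹ := by rw [← this]
      _ = 1 := mul_inv_cancel g
  obtain ⟨k, hk⟩ := hOp ⟨c * g * c⁻¹ * g⁻¹, hyO⟩
  have hk' : (c * g * c⁻¹ * g⁻¹) ^ (p ^ k) = 1 := by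
    have := congrArg (fun z : O => (z : G)) hk
    simpa using this
  have h7 : (c * g * c⁻¹ * g⁻¹) = 1 := by
    have hcop : Nat.Coprime m (p ^ k) := Nat.Coprime.pow_right k hm
    have h8 : orderOf (c * g * c⁻¹ * g⁻¹) ∣ Nat.gcd m (p ^ k) :=
      Nat.dvd_gcd (orderOf_dvd_of_pow_eq_one h6) (orderOf_dvd_of_pow_eq_one hk')
    rw [hcop] at h8
    exact orderOf_eq_one_iff.mp (Nat.dvd_one.mp h8)
  calc c * g = (c * g * c⁻¹ * g⁻¹) * g * c := by group
    _ = g * c := by rw [h7, one_mul]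

variable {Ω : Type*} [Group Ω] {S : Subgroup Ω} {G : Type*} [Group G]

/-- In a model, the image of a normal self-centralizing subgroup is self-centralizing. -/
theorem centralizer_map_le_of_isModel [Finite S] (p : ℕ) [Fact p.Prime] (hS : IsPGroup p S)
    (F : FusionSystem S) (ι : S →* G) (hM : F.IsModel p G ι) {R : Subgroup Ω}
    (hR : F.IsNormal R) (hRc : centralizerIn S R ≤ R) :
    Subgroup.centralizer (((R.subgroupOf S).map ι : Subgroup G) : Set G) ≤
      (R.subgroupOf S).map ι := by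
  have hRn := normal_map_of_isModel p F ι hM hR
  obtain ⟨hfin, hreal, ⟨T, hT⟩, hC⟩ := hM
  have hinj := hreal.1
  have hRS : R ≤ S := hR.1
  have hOn : (pCore p G).Normal := Cfsg.Agent.Helper14.pCore_normal p
  have hOp : IsPGroup p (pCore p G) := Cfsg.Agent.Helper14.pCore_isPGroup p
  have hOT : pCore p G ≤ ι.range := by
    rw [← hT]
    exact Cfsg.Agent.Helper14.pCore_le_sylow p T
  have hRp : IsPGroup p ↥((R.subgroupOf S).map ι) := by
    have h2 : IsPGroup p ↥(R.subgroupOf S) :=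
      hS.of_injective (R.subgroupOf S).subtype (Subgroup.subtype_injective _)
    exact h2.map ι
  have hRO : (R.subgroupOf S).map ι ≤ pCore p G := Cfsg.Agent.Helper14.le_pCore p hRn hRp
  -- elements of the image of `S` centralizing the image of `R` lie in the image of `R`
  have hkey : ∀ s : S, ι s ∈ Subgroup.centralizer (((R.subgroupOf S).map ι : Subgroup G) : Set G) →
      ι s ∈ (R.subgroupOf S).map ι := by
    intro s hs
    refine ⟨s, ?_, rfl⟩
    show (s : Ω) ∈ R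
    apply hRc
    refine ⟨s.2, Subgroup.mem_centralizer_iff.mpr ?_⟩
    intro r hr
    have h1 := (Subgroup.mem_centralizer_iff.mp hs) (ι ⟨r, hRS hr⟩) ⟨⟨r, hRS hr⟩, hr, rfl⟩
    rw [← map_mul, ← map_mul] at h1
    exact congrArg (fun z : S => (z : Ω)) (hinj h1)
  have hCB : pCore p G ⊓ Subgroup.centralizer (((R.subgroupOf S).map ι : Subgroup G) : Set G) ≤
      (R.subgroupOf S).map ι := by
    rintro y ⟨hyO, hyC⟩
    obtain ⟨s, rfl⟩ := hOT hyO
    exact hkey s hyC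
  -- the centralizer is a `p`-group
  have hCp : IsPGroup p ↥(Subgroup.centralizer (((R.subgroupOf S).map ι : Subgroup G) : Set G)) := by
    rintro ⟨c, hc⟩
    obtain ⟨a, m, hm, hn⟩ := Nat.exists_eq_pow_mul_and_not_dvd
      (orderOf_pos c).ne' p (Nat.Prime.ne_one Fact.out)
    have hmcop : m.Coprime p :=
      (Nat.Coprime.symm ((Nat.Prime.coprime_iff_not_dvd Fact.out).mpr hm))
    have hc' : c ^ (p ^ a) ∈
        Subgroup.centralizer (((R.subgroupOf S).map ι : Subgroup G) : Set G) :=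
      Subgroup.pow_mem _ hc _
    have h1 : (c ^ (p ^ a)) ^ m = 1 := by
      rw [← pow_mul, ← hn]
      exact pow_orderOf_eq_one c
    have h2 : ∀ x ∈ pCore p G, c ^ (p ^ a) * x = x * c ^ (p ^ a) :=
      centralizes_of_centralizes_selfcentralizing hOn hOp hRO hCB h1 hmcop
        (fun b hb => ((Subgroup.mem_centralizer_iff.mp hc') b hb).symm)
    have h3 : c ^ (p ^ a) ∈ pCore p G := by
      apply hC
      rw [Subgroup.mem_centralizer_iff]
      intro x hx
      exact (h2 x hx).symm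
    obtain ⟨k, hk⟩ := hOp ⟨c ^ (p ^ a), h3⟩
    have hk' : (c ^ (p ^ a)) ^ (p ^ k) = 1 := by
      have := congrArg (fun z : pCore p G => (z : G)) hk
      simpa using this
    refine ⟨a + k, Subtype.ext ?_⟩
    show c ^ (p ^ (a + k)) = 1
    rw [pow_add, pow_mul]
    exact hk'
  have hCn : (Subgroup.centralizer (((R.subgroupOf S).map ι : Subgroup G) : Set G)).Normal :=
    Subgroup.normal_centralizer
  intro c hc
  have h1 : c ∈ pCore p G := Cfsg.Agent.Helper14.le_pCore p hCn hCp hc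
  obtain ⟨s, rfl⟩ := hOT h1
  exact hkey s hc

end Cfsg.Agent.Helper26.Embed
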