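import Mathlib
import Cfsg.Agent.Helper25.FusionAlperin2
import Cfsg.Agent.Helper25.FusionGroup2
import Cfsg.Agent.Helper25.FusionNormal

set_option autoImplicit false

namespace Cfsg.Agent.Helper26

open Cfsg Cfsg.FusionSystem Cfsg.Agent.Helper25

variable {Ω : Type*} [Group Ω] {S : Subgroup Ω}

/-- A conjugate of a centric subgroup is centric. -/
theorem isCentric_of_isConj (F : FusionSystem S) {Q Q' : Subgroup Ω} (hQ : F.IsCentric Q)
    (h : F.IsConj Q Q') : F.IsCentric Q' :=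
  ⟨(isConj_le F h).2, fun Q'' h' => hQ.2 Q'' (isConj_trans F h h')⟩

/-- The image of a subgroup under a map of the system is conjugate to it. -/
theorem isConj_restrict_range (F : FusionSystem S) {Q P : Subgroup Ω} (hQP : Q ≤ P) {φ : P →* Ω}
    (hφ : φ ∈ F.Hom P) : F.IsConj Q (φ.comp (Subgroup.inclusion hQP)).range :=
  ⟨_, restrict_mem F hQP hφ, rfl⟩

/-- An overgroup (inside `S`) of a centric subgroup is centric. -/
theorem isCentric_of_le (F : FusionSystem S) {Q P : Subgroup Ω} (hQ : F.IsCentric Q) (hQP : Q ≤ P)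
    (hPS : P ≤ S) : F.IsCentric P := by
  refine ⟨hPS, ?_⟩
  rintro P' ⟨χ, hχ, rfl⟩
  have h1 := hQ.2 _ (isConj_restrict_range F hQP hχ)
  intro c hc
  have hc' : c ∈ centralizerIn S (χ.comp (Subgroup.inclusion hQP)).range := by
    refine ⟨hc.1, Subgroup.mem_centralizer_iff.mpr ?_⟩
    rintro _ ⟨x, rfl⟩
    exact Subgroup.mem_centralizer_iff.mp hc.2 _ ⟨Subgroup.inclusion hQP x, rfl⟩
  obtain ⟨x, hx⟩ := h1 hc'
  exact ⟨Subgroup.inclusion hQP x, hx⟩

/-- Centric for a larger system implies centric for a smaller one. -/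
theorem isCentric_of_system_le {F E : FusionSystem S} (hle : E ≤ F) {Q : Subgroup Ω}
    (hQ : F.IsCentric Q) : E.IsCentric Q :=
  ⟨hQ.1, fun Q' ⟨χ, hχ, hr⟩ => hQ.2 Q' ⟨χ, hle Q hχ, hr⟩⟩

/-- A centric subgroup is fully centralized. -/
theorem isFullyCentralized_of_isCentric [Finite S] (F : FusionSystem S) {Q : Subgroup Ω}
    (hQ : F.IsCentric Q) : F.IsFullyCentralized Q := by
  refine ⟨hQ.1, ?_⟩
  rintro Q' ⟨χ, hχ, rfl⟩
  have hC := hQ.2 _ ⟨χ, hχ, rfl⟩
  have hinj := F.injective_of_mem hχ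
  have hfin : Finite (centralizerIn S Q) := finite_of_le (inf_le_left : centralizerIn S Q ≤ S)
  have hex : ∀ d : centralizerIn S χ.range, ∃ c : centralizerIn S Q, ∃ hc : (c : Ω) ∈ Q,
      χ ⟨c, hc⟩ = d := by
    intro d
    obtain ⟨x, hx⟩ := hC d.2
    have hxC : (x : Ω) ∈ centralizerIn S Q := by
      refine ⟨hQ.1 x.2, Subgroup.mem_centralizer_iff.mpr ?_⟩
      intro y hy
      have h1 := Subgroup.mem_centralizer_iff.mp d.2.2 (χ ⟨y, hy⟩) ⟨_, rfl⟩
      rw [← hx, ← map_mul, ← map_mul] at h1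
      exact congrArg (fun z : Q => (z : Ω)) (hinj h1)
    exact ⟨⟨x, hxC⟩, x.2, hx⟩
  choose g hg hg' using hex
  have hginj : Function.Injective g := by
    intro d d' hdd
    apply Subtype.ext
    rw [← hg' d, ← hg' d']
    congr 1
    apply Subtype.ext
    exact congrArg (fun z : centralizerIn S Q => (z : Ω)) hdd
  exact Nat.card_le_card_of_injective g hginj

/-- In a saturated system a centric subgroup is receptive. -/
theorem isReceptive_of_isCentric [Finite S] (p : ℕ) [Fact p.Prime] (hS : IsPGroup p S)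
    (F : FusionSystem S) (hF : F.IsSaturated p) {Q : Subgroup Ω} (hQ : F.IsCentric Q) :
    F.IsReceptive Q :=
  Cfsg.Agent.S5077.extension_axiom p hS F hF Q (isFullyCentralized_of_isCentric F hQ)

/-- A map of a saturated system defined on `P`, fixing pointwise a centric subgroup `Q` normalized by `P`, is conjugation
by an element of `Z(Q)`. -/
theorem hom_eq_conj_of_fix_normal [Finite S] (p : ℕ) [Fact p.Prime] (hS : IsPGroup p S)
    (F : FusionSystem S) (hF : F.IsSaturated p) {Q P : Subgroup Ω} (hQP : Q ≤ P)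
    (hPN : P ≤ Subgroup.normalizer (Q : Set Ω)) (hQ : F.IsCentric Q) {α : P →* Ω}
    (hα : α ∈ F.Hom P) (hfix : ∀ x : P, (x : Ω) ∈ Q → α x = x) :
    ∃ z : Ω, z ∈ Q ∧ z ∈ Subgroup.centralizer (Q : Set Ω) ∧ ∀ y : P, α y = z * y * z⁻¹ := by
  have hPS : P ≤ S := (F.le_of_mem hα).1
  have hαS : ∀ y, α y ∈ S := (F.le_of_mem hα).2
  have hinj := F.injective_of_mem hα
  have hfinP : Finite P := finite_of_le hPS
  have hfinQ : Finite Q := finite_of_le hQ.1
  have hCQ : centralizerIn S Q ≤ Q := hQ.2 Q (isConj_refl F hQ.1)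
  -- step 1
  have h1 : ∀ g : P, (g : Ω)⁻¹ * α g ∈ Q := by
    intro g
    apply hCQ
    refine ⟨S.mul_mem (S.inv_mem (hPS g.2)) (hαS g), Subgroup.mem_centralizer_iff.mpr ?_⟩
    intro x hx
    have hgx : (g : Ω) * x * (g : Ω)⁻¹ ∈ Q := (Subgroup.mem_normalizer_iff.mp (hPN g.2) x).mp hx
    have e1 : α (g * ⟨x, hQP hx⟩ * g⁻¹) = (g : Ω) * x * (g : Ω)⁻¹ :=
      hfix (g * ⟨x, hQP hx⟩ * g⁻¹) hgx
    rw [map_mul, map_mul, map_inv, hfix ⟨x, hQP hx⟩ hx] at e1
    calc x * ((g : Ω)⁻¹ * α g) = (g : Ω)⁻¹ * ((g : Ω) * x * (g : Ω)⁻¹) * α g := by group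
      _ = (g : Ω)⁻¹ * (α g * x * (α g)⁻¹) * α g := by rw [e1]
      _ = (g : Ω)⁻¹ * α g * x := by group
  have hαP : ∀ g : P, α g ∈ P := by
    intro g
    have := P.mul_mem g.2 (hQP (h1 g))
    rwa [mul_inv_cancel_left] at this
  have hr : α.range = P := by
    have hle : α.range ≤ P := by rintro _ ⟨x, rfl⟩; exact hαP x
    have hfinr : Finite α.range := finite_of_le (hle.trans hPS)
    have hcard : Nat.card P ≤ Nat.card α.range :=
      Nat.card_le_card_of_injective (fun x => (⟨α x, x, rfl⟩ : α.range))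
        (fun x y hxy => hinj (congrArg Subtype.val hxy))
    exact Subgroup.eq_of_le_of_card_ge hle hcard
  set a : MulAut P := isoOfHom α hinj hr with ha
  have haα : ∀ y : P, ((a y : P) : Ω) = α y := fun y => rfl
  have hafix : ∀ x : P, (x : Ω) ∈ Q → a x = x := fun x hx => Subtype.ext (hfix x hx)
  -- step 3
  have hpow : ∀ (n : ℕ) (g : P), (a ^ n) g = g * (g⁻¹ * a g) ^ n := by
    intro n
    induction n with
    | zero => intro g; simp
    | succ n ih =>
      intro g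
      have hz : a (g⁻¹ * a g) = g⁻¹ * a g := hafix _ (h1 g)
      have e2 : g * (g⁻¹ * a g) ^ (n + 1) = a g * (g⁻¹ * a g) ^ n := by
        rw [pow_succ', ← mul_assoc, mul_inv_cancel_left]
      rw [e2, pow_succ', MulAut.mul_apply, ih g, map_mul, map_pow, hz]
  obtain ⟨k, hk⟩ := IsPGroup.iff_card.mp (isPGroup_of_le hS hQ.1)
  have hak : a ^ (p ^ k) = 1 := by
    ext g
    rw [hpow]
    have hzQ : ((g⁻¹ * a g : P) : Ω) ∈ Q := h1 g
    have h2 : (g⁻¹ * a g) ^ (p ^ k) = 1 := by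
      apply Subtype.ext
      have h3 : (⟨_, hzQ⟩ : Q) ^ (p ^ k) = 1 := by rw [← hk]; exact pow_card_eq_one'
      have h4 := congrArg (fun z : Q => (z : Ω)) h3
      simpa using h4
    rw [h2, mul_one]
    rfl
  -- step 4
  obtain ⟨R, ⟨χ, hχ, hχr⟩, hFN⟩ := exists_isConj_fullyNormalized F hPS
  have hRS : R ≤ S := hFN.1
  have hfinR : Finite R := finite_of_le hRS
  obtain ⟨-, hFA⟩ := Cfsg.Agent.S5077.sylow_axiom p hS F hF R hFN
  obtain ⟨-, T, hT⟩ := hFA
  set e : P ≃* R := isoOfHom χ (F.injective_of_mem hχ) hχr with he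
  have haF : a ∈ F.autGroup P := (mem_autGroup_iff F hPS a).mpr (by
    have : autHom a = α := by ext y; rfl
    rw [this]; exact hα)
  have ha'F : MulAut.congr e a ∈ F.autGroup R := congr_mem_autGroup F hχ hχr haF
  set a' : F.autGroup R := ⟨MulAut.congr e a, ha'F⟩ with ha'
  have ha'k : a' ^ (p ^ k) = 1 := by
    apply Subtype.ext
    show (MulAut.congr e a) ^ (p ^ k) = 1
    rw [← map_pow, hak, map_one]
  have hU : IsPGroup p (Subgroup.zpowers a') := by
    rintro ⟨_, m, rfl⟩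
    refine ⟨k, Subtype.ext ?_⟩
    show (a' ^ m) ^ (p ^ k) = 1
    rw [← zpow_natCast, ← zpow_mul, mul_comm, zpow_mul, zpow_natCast, ha'k, one_zpow]
  obtain ⟨β, hβ⟩ := exists_conj_le_sylow p T hU
  have h2 : β * a' * β⁻¹ ∈ (T : Subgroup (F.autGroup R)) :=
    hβ ⟨a', Subgroup.mem_zpowers a', rfl⟩
  rw [hT, Subgroup.mem_subgroupOf] at h2
  obtain ⟨s, hsS, hs⟩ := (mem_autInducedBy_iff S R _).mp h2
  have hkey : ∀ x : P, (((β : MulAut R) (e (a x)) : R) : Ω) =
      s * (((β : MulAut R) (e x) : R) : Ω) * s⁻¹ := by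
    intro x
    have h3 := hs ((β : MulAut R) (e x))
    rw [← h3]
    show _ = ((((β : MulAut R) * MulAut.congr e a * (β : MulAut R)⁻¹) ((β : MulAut R) (e x)) : R) : Ω)
    rw [MulAut.mul_apply, MulAut.mul_apply, MulAut.inv_apply_self]
    show _ = (((β : MulAut R) (e (a (e.symm (e x)))) : R) : Ω)
    rw [MulEquiv.symm_apply_apply]
  -- the composite map
  have hβmem : autHom (β : MulAut R) ∈ F.Hom R := (mem_autGroup_iff F hRS _).mp β.2
  let χ' : P →* Ω := R.subtype.comp ((β : MulAut R).toMonoidHom.comp e.toMonoidHom)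
  have hχ' : χ' ∈ F.Hom P := comp_mem' F hχ hβmem (fun x => (e x).2) (fun x => rfl)
  have hχ'inj := F.injective_of_mem hχ'
  have hχ'def : ∀ x : P, χ' x = (((β : MulAut R) (e x) : R) : Ω) := fun x => rfl
  have hCQ' := hQ.2 _ (isConj_restrict_range F hQP hχ')
  have hsC : s ∈ centralizerIn S (χ'.comp (Subgroup.inclusion hQP)).range := by
    refine ⟨hsS, Subgroup.mem_centralizer_iff.mpr ?_⟩
    rintro _ ⟨x, rfl⟩
    have h3 := hkey (Subgroup.inclusion hQP x)
    rw [hafix (Subgroup.inclusion hQP x) x.2] at h3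
    show χ' (Subgroup.inclusion hQP x) * s = s * χ' (Subgroup.inclusion hQP x)
    rw [hχ'def]
    conv_lhs => rw [h3]
    group
  obtain ⟨z₀, hz₀⟩ := hCQ' hsC
  have hz₀' : χ' (Subgroup.inclusion hQP z₀) = s := hz₀
  have hconj : ∀ y : P, a y = Subgroup.inclusion hQP z₀ * y * (Subgroup.inclusion hQP z₀)⁻¹ := by
    intro y
    apply hχ'inj
    rw [map_mul, map_mul, map_inv, hz₀', hχ'def, hχ'def]
    exact hkey y
  have hconj' : ∀ y : P, α y = (z₀ : Ω) * y * (z₀ : Ω)⁻¹ := by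
    intro y
    rw [← haα, hconj y]
    rfl
  refine ⟨(z₀ : Ω), z₀.2, Subgroup.mem_centralizer_iff.mpr ?_, hconj'⟩
  intro x hx
  have h3 := hconj' ⟨x, hQP hx⟩
  rw [hfix ⟨x, hQP hx⟩ hx] at h3
  have h4 : x = (z₀ : Ω) * x * (z₀ : Ω)⁻¹ := h3
  show x * (z₀ : Ω) = (z₀ : Ω) * x
  conv_lhs => rw [h4]
  group

/-- Two maps of a saturated system defined on `P` which agree on a centric subgroup `Q` normalized by `P` differ by
conjugation by an element of `Z(Q)`. -/
theorem hom_eq_comp_conj_of_agree_normal [Finite S] (p : ℕ) [Fact p.Prime] (hS : IsPGroup p S)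
    (F : FusionSystem S) (hF : F.IsSaturated p) {Q P : Subgroup Ω} (hQP : Q ≤ P)
    (hPN : P ≤ Subgroup.normalizer (Q : Set Ω)) (hQ : F.IsCentric Q) {φ φ' : P →* Ω}
    (hφ : φ ∈ F.Hom P) (hφ' : φ' ∈ F.Hom P) (h : ∀ x : P, (x : Ω) ∈ Q → φ x = φ' x) :
    ∃ z : P, (z : Ω) ∈ Q ∧ (z : Ω) ∈ Subgroup.centralizer (Q : Set Ω) ∧
      ∀ y : P, φ' y = φ (z * y * z⁻¹) := by
  have hPS : P ≤ S := (F.le_of_mem hφ).1
  have hφS : ∀ y, φ y ∈ S := (F.le_of_mem hφ).2
  have hφ'S : ∀ y, φ' y ∈ S := (F.le_of_mem hφ').2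
  have hCQ₁ := hQ.2 _ (isConj_restrict_range F hQP hφ)
  have hrange : ∀ y : P, φ' y ∈ φ.range := by
    intro y
    have hu : (φ y)⁻¹ * φ' y ∈ centralizerIn S (φ.comp (Subgroup.inclusion hQP)).range := by
      refine ⟨S.mul_mem (S.inv_mem (hφS y)) (hφ'S y), Subgroup.mem_centralizer_iff.mpr ?_⟩
      rintro _ ⟨x, rfl⟩
      set x' : P := Subgroup.inclusion hQP x with hx'
      have hx'Q : (x' : Ω) ∈ Q := x.2
      have hyx : ((y * x' * y⁻¹ : P) : Ω) ∈ Q :=
        (Subgroup.mem_normalizer_iff.mp (hPN y.2) _).mp hx'Q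
      have e1 := h (y * x' * y⁻¹) hyx
      rw [map_mul, map_mul, map_inv, map_mul, map_mul, map_inv, ← h x' hx'Q] at e1
      show φ x' * ((φ y)⁻¹ * φ' y) = (φ y)⁻¹ * φ' y * φ x'
      calc φ x' * ((φ y)⁻¹ * φ' y) = (φ y)⁻¹ * (φ y * φ x' * (φ y)⁻¹) * φ' y := by group
        _ = (φ y)⁻¹ * (φ' y * φ x' * (φ' y)⁻¹) * φ' y := by rw [e1]
        _ = (φ y)⁻¹ * φ' y * φ x' := by group
    obtain ⟨x₀, hx₀⟩ := hCQ₁ hu
    refine ⟨y * Subgroup.inclusion hQP x₀, ?_⟩
    rw [map_mul]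
    have : φ (Subgroup.inclusion hQP x₀) = (φ y)⁻¹ * φ' y := hx₀
    rw [this, mul_inv_cancel_left]
  obtain ⟨ρ, hρ, hρinv, -⟩ := exists_inv_mem F hφ rfl
  let α : P →* Ω := ρ.comp (φ'.codRestrict φ.range hrange)
  have hα : α ∈ F.Hom P := F.comp_mem hφ' hρ hrange
  have hfix : ∀ x : P, (x : Ω) ∈ Q → α x = x := by
    intro x hx
    show ρ ⟨φ' x, hrange x⟩ = x
    have e1 : (⟨φ' x, hrange x⟩ : φ.range) = ⟨φ x, ⟨x, rfl⟩⟩ := Subtype.ext (h x hx).symm
    rw [e1]
    exact hρinv x _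
  obtain ⟨z, hzQ, hzC, hconj⟩ := hom_eq_conj_of_fix_normal p hS F hF hQP hPN hQ hα hfix
  refine ⟨⟨z, hQP hzQ⟩, hzQ, hzC, ?_⟩
  intro y
  obtain ⟨w, hw⟩ := hrange y
  have e2 : α y = w := by
    show ρ ⟨φ' y, hrange y⟩ = w
    have e1 : (⟨φ' y, hrange y⟩ : φ.range) = ⟨φ w, ⟨w, rfl⟩⟩ := Subtype.ext hw.symm
    rw [e1]
    exact hρinv w _
  have e3 : w = ⟨z, hQP hzQ⟩ * y * (⟨z, hQP hzQ⟩ : P)⁻¹ := by
    apply Subtype.ext
    rw [← e2, hconj y]
    rfl
  rw [← hw, e3]

/-- Two maps of a saturated system defined on `P` which agree on a centric subgroup `Q ≤ P` differ by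
conjugation by an element of `Z(Q)`. -/
theorem hom_eq_comp_conj_of_agree [Finite S] (p : ℕ) [Fact p.Prime] (hS : IsPGroup p S)
    (F : FusionSystem S) (hF : F.IsSaturated p) {P : Subgroup Ω} {φ' : P →* Ω}
    (hφ' : φ' ∈ F.Hom P) :
    ∀ {Q : Subgroup Ω} (hQP : Q ≤ P) (hQ : F.IsCentric Q) {φ : P →* Ω}
      (hφ : φ ∈ F.Hom P) (h : ∀ x : P, (x : Ω) ∈ Q → φ x = φ' x),
      ∃ z : P, (z : Ω) ∈ Q ∧ (z : Ω) ∈ Subgroup.centralizer (Q : Set Ω) ∧
        ∀ y : P, φ' y = φ (z * y * z⁻¹) := by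
  have hPS : P ≤ S := (F.le_of_mem hφ').1
  have hfinP : Finite P := finite_of_le hPS
  have hPp : IsPGroup p P := isPGroup_of_le hS hPS
  have key : ∀ n : ℕ, ∀ (Q : Subgroup Ω) (hQP : Q ≤ P) (hQ : F.IsCentric Q) (φ : P →* Ω)
      (hφ : φ ∈ F.Hom P) (h : ∀ x : P, (x : Ω) ∈ Q → φ x = φ' x),
      Nat.card P - Nat.card Q = n →
      ∃ z : P, (z : Ω) ∈ Q ∧ (z : Ω) ∈ Subgroup.centralizer (Q : Set Ω) ∧
        ∀ y : P, φ' y = φ (z * y * z⁻¹) := by
    intro n
    induction n using Nat.strong_induction_on with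
    | _ n ih =>
      intro Q hQP hQ φ hφ h hn
      by_cases hQeq : Q = P
      · subst hQeq
        refine ⟨1, Q.one_mem, Subgroup.one_mem _, fun y => ?_⟩
        rw [one_mul, inv_one, mul_one]
        exact (h y y.2).symm
      · obtain ⟨g, hgN, hgQ⟩ := exists_mem_normalizerIn_not_mem (S := P) p hPp hQP hQeq
        set N : Subgroup Ω := normalizerIn P Q with hN
        have hNP : N ≤ P := inf_le_left
        have hNn : N ≤ Subgroup.normalizer (Q : Set Ω) := inf_le_right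
        have hQN : Q ≤ N := le_inf hQP Subgroup.le_normalizer
        have hlt : Q < N := lt_of_le_of_ne hQN (fun h => hgQ (h ▸ hgN))
        have hNS : N ≤ S := hNP.trans hPS
        have hNc : F.IsCentric N := isCentric_of_le F hQ hQN hNS
        have hφN := restrict_mem F hNP hφ
        have hφ'N := restrict_mem F hNP hφ'
        obtain ⟨z₁, hz₁Q, hz₁C, hz₁⟩ := hom_eq_comp_conj_of_agree_normal p hS F hF hQN hNn hQ
          hφN hφ'N (fun x hx => h (Subgroup.inclusion hNP x) hx)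
        set z₁P : P := Subgroup.inclusion hNP z₁ with hz₁P
        let φ₁ : P →* Ω := φ.comp (MulAut.conj z₁P).toMonoidHom
        have hφ₁ : φ₁ ∈ F.Hom P :=
          comp_mem' F (F.conj_mem hPS (hPS z₁P.2)) hφ
            (fun x => (z₁P * x * z₁P⁻¹ : P).2) (fun x => rfl)
        have hagree : ∀ x : P, (x : Ω) ∈ N → φ₁ x = φ' x := by
          intro x hx
          have := hz₁ ⟨x, hx⟩
          exact this.symm
        have hcardN : Nat.card Q < Nat.card N := card_lt_of_lt hNS hlt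
        have hcardNP : Nat.card N ≤ Nat.card P :=
          Nat.card_le_card_of_injective (Subgroup.inclusion hNP) (Subgroup.inclusion_injective _)
        obtain ⟨z₂, hz₂N, hz₂C, hz₂⟩ := ih (Nat.card P - Nat.card N) (by omega) N hNP hNc φ₁ hφ₁
          hagree rfl
        have hz₂CQ : (z₂ : Ω) ∈ Subgroup.centralizer (Q : Set Ω) :=
          Subgroup.centralizer_le (SetLike.coe_subset_coe.mpr hQN) hz₂C
        have hz₂Q : (z₂ : Ω) ∈ Q := hQ.2 Q (isConj_refl F hQ.1) ⟨hPS z₂.2, hz₂CQ⟩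
        refine ⟨z₁P * z₂, Q.mul_mem hz₁Q hz₂Q, Subgroup.mul_mem _ hz₁C hz₂CQ, fun y => ?_⟩
        rw [hz₂ y]
        show φ (z₁P * (z₂ * y * z₂⁻¹) * z₁P⁻¹) = _
        congr 1
        group
  intro Q hQP hQ φ hφ h
  exact key _ Q hQP hQ φ hφ h rfl

/-- Restriction lemma: if `E ≤ F` are saturated, `Q ≤ R` with `Q` centric in `F`, and a map of `F` on `R` restricts on `Q`
to a map of `E`, then it is a map of `E`. -/
theorem mem_of_restrict_centric [Finite S] (p : ℕ) [Fact p.Prime] (hS : IsPGroup p S)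
    (F : FusionSystem S) (hF : F.IsSaturated p) (E : FusionSystem S) (hE : E.IsSaturated p)
    (hle : E ≤ F) {R : Subgroup Ω} {ψ : R →* Ω} (hψ : ψ ∈ F.Hom R) :
    ∀ {Q : Subgroup Ω} (hQR : Q ≤ R) (hQ : F.IsCentric Q)
      (hres : ψ.comp (Subgroup.inclusion hQR) ∈ E.Hom Q), ψ ∈ E.Hom R := by
  have hRS : R ≤ S := (F.le_of_mem hψ).1
  have hψS : ∀ y, ψ y ∈ S := (F.le_of_mem hψ).2
  have hfinR : Finite R := finite_of_le hRS
  have hRp : IsPGroup p R := isPGroup_of_le hS hRS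
  have key : ∀ n : ℕ, ∀ (Q : Subgroup Ω) (hQR : Q ≤ R) (hQ : F.IsCentric Q)
      (hres : ψ.comp (Subgroup.inclusion hQR) ∈ E.Hom Q),
      Nat.card R - Nat.card Q = n → ψ ∈ E.Hom R := by
    intro n
    induction n using Nat.strong_induction_on with
    | _ n ih =>
      intro Q hQR hQ hres hn
      by_cases hQeq : Q = R
      · subst hQeq
        have e1 : ψ.comp (Subgroup.inclusion hQR) = ψ := by ext x; rfl
        rwa [e1] at hres
      · obtain ⟨g, hgN, hgQ⟩ := exists_mem_normalizerIn_not_mem (S := R) p hRp hQR hQeq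
        set N : Subgroup Ω := normalizerIn R Q with hN
        have hNR : N ≤ R := inf_le_left
        have hNn : N ≤ Subgroup.normalizer (Q : Set Ω) := inf_le_right
        have hQN : Q ≤ N := le_inf hQR Subgroup.le_normalizer
        have hlt : Q < N := lt_of_le_of_ne hQN (fun h => hgQ (h ▸ hgN))
        have hNS : N ≤ S := hNR.trans hRS
        have hNc : F.IsCentric N := isCentric_of_le F hQ hQN hNS
        set θ : Q →* Ω := ψ.comp (Subgroup.inclusion hQR) with hθ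
        have hθF : θ ∈ F.Hom Q := hle Q hres
        have hQ₁F : F.IsCentric θ.range := isCentric_of_isConj F hQ ⟨θ, hθF, rfl⟩
        have hrec : E.IsReceptive θ.range :=
          isReceptive_of_isCentric p hS E hE (isCentric_of_system_le hle hQ₁F)
        obtain ⟨θt, hθt, hext⟩ := hrec.2 Q θ hres rfl
        have hNext : N ≤ extender S Q θ := by
          intro g hg
          apply Subgroup.subset_closure
          refine ⟨hRS hg.1, hg.2, ψ ⟨g, hg.1⟩, hψS _, fun x hx => ?_⟩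
          have e1 : (Subgroup.inclusion hQR ⟨g * (x : Ω) * g⁻¹, hx⟩ : R) =
              ⟨g, hg.1⟩ * Subgroup.inclusion hQR x * (⟨g, hg.1⟩ : R)⁻¹ := Subtype.ext rfl
          show ψ (Subgroup.inclusion hQR ⟨g * (x : Ω) * g⁻¹, hx⟩) = _
          rw [e1, map_mul, map_mul, map_inv]
          rfl
        have hθN : θt.comp (Subgroup.inclusion hNext) ∈ E.Hom N := restrict_mem E hNext hθt
        have hψN : ψ.comp (Subgroup.inclusion hNR) ∈ F.Hom N := restrict_mem F hNR hψ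
        have hagree : ∀ x : N, (x : Ω) ∈ Q →
            (θt.comp (Subgroup.inclusion hNext)) x = (ψ.comp (Subgroup.inclusion hNR)) x := by
          intro x hx
          exact hext (x : Ω) hx (hNext x.2)
        obtain ⟨z, hzQ, hzC, hz⟩ := hom_eq_comp_conj_of_agree_normal p hS F hF hQN hNn hQ
          (hle N hθN) hψN hagree
        have hψNE : ψ.comp (Subgroup.inclusion hNR) ∈ E.Hom N :=
          comp_mem' E (E.conj_mem hNS (hNS z.2)) hθN (fun x => (z * x * z⁻¹ : N).2)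
            (fun y => hz y)
        have hcardN : Nat.card Q < Nat.card N := card_lt_of_lt hNS hlt
        have hcardNR : Nat.card N ≤ Nat.card R :=
          Nat.card_le_card_of_injective (Subgroup.inclusion hNR) (Subgroup.inclusion_injective _)
        exact ih (Nat.card R - Nat.card N) (by omega) N hNR hNc hψNE rfl
  intro Q hQR hQ hres
  exact key _ Q hQR hQ hres rfl

end Cfsg.Agent.Helper26
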