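import Mathlib
import Cfsg.Agent.Helper26.EmbedA
import Cfsg.Agent.Helper26.FusionCentric

set_option autoImplicit false
set_option linter.style.haveILetI false
set_option linter.unusedSectionVars false

/-! The model of a subsystem `E` with a normal centric subgroup `R`, inside the model of the
normalizer system of a fully normalized conjugate `R₁` of `R`: the subgroup and the embedding. -/

namespace Cfsg.Agent.Helper26.Embed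

open Cfsg Cfsg.FusionSystem Cfsg.Agent.Helper25 Cfsg.Agent.Helper26.MasterRed
  Cfsg.Agent.Helper26.ModelAut Cfsg.Agent.Helper26.WC

universe u

section Conj

variable {Ω : Type*} [Group Ω] {S : Subgroup Ω}

/-- Conjugating a map of the system by a map `χ` of the system. -/
theorem exists_conj_hom (F : FusionSystem S) {X : Subgroup Ω} {χ : X →* Ω} (hχ : χ ∈ F.Hom X)
    {P : Subgroup Ω} (hPX : P ≤ X) {ψ : P →* Ω} (hψ : ψ ∈ F.Hom P) (hψX : ∀ y, ψ y ∈ X) :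
    ∃ ψ' : ↥((P.subgroupOf X).map χ) →* Ω, ψ' ∈ F.Hom ((P.subgroupOf X).map χ) ∧
      ∀ (y : P) (h : χ ⟨y, hPX y.2⟩ ∈ (P.subgroupOf X).map χ),
        ψ' ⟨χ ⟨y, hPX y.2⟩, h⟩ = χ ⟨ψ y, hψX y⟩ := by
  have hχP : χ.comp (Subgroup.inclusion hPX) ∈ F.Hom P := restrict_mem F hPX hχ
  have hr : (χ.comp (Subgroup.inclusion hPX)).range = (P.subgroupOf X).map χ := by
    ext z
    constructor
    · rintro ⟨y, rfl⟩
      exact ⟨⟨y, hPX y.2⟩, y.2, rfl⟩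
    · rintro ⟨y, hy, rfl⟩
      exact ⟨⟨y, hy⟩, rfl⟩
  obtain ⟨ρ, hρ, hρinv, hρrange⟩ := exists_inv_mem F hχP hr
  have hρP : ∀ z, ρ z ∈ P := by
    intro z
    have h0 : ρ z ∈ ρ.range := ⟨z, rfl⟩
    exact (show ∀ Y : Subgroup Ω, ρ.range = Y → ρ z ∈ Y from fun Y hY => hY ▸ h0) P hρrange
  have hσ₁ : ψ.comp (ρ.codRestrict P hρP) ∈ F.Hom _ := F.comp_mem hρ hψ hρP
  have hσ₁X : ∀ z, (ψ.comp (ρ.codRestrict P hρP)) z ∈ X := fun z => hψX _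
  have hσ₂ := F.comp_mem hσ₁ hχ hσ₁X
  refine ⟨_, hσ₂, ?_⟩
  intro y h
  show χ ⟨ψ ⟨ρ ⟨χ ⟨y, hPX y.2⟩, h⟩, hρP _⟩, hψX _⟩ = χ ⟨ψ y, hψX y⟩
  have h1 : ρ ⟨χ ⟨y, hPX y.2⟩, h⟩ = (y : Ω) := hρinv y h
  have h2 : (⟨ρ ⟨χ ⟨y, hPX y.2⟩, h⟩, hρP _⟩ : P) = y := Subtype.ext h1
  congr 1
  apply Subtype.ext
  show ψ ⟨ρ ⟨χ ⟨y, hPX y.2⟩, h⟩, hρP _⟩ = ψ y
  rw [h2]

end Conj

/-- The setting. -/
structure Setup (p : ℕ) {Ω : Type u} [Group Ω] (S : Subgroup Ω) where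
  F : FusionSystem S
  T : Subgroup Ω
  E : FusionSystem T
  R : Subgroup Ω
  X : Subgroup Ω
  χ : X →* Ω
  R₁ : Subgroup Ω
  N₁ : FusionSystem (normalizerIn S R₁)
  L₁ : Type u
  instL : Group L₁
  ι₁ : ↥(normalizerIn S R₁) →* L₁
  hS : IsPGroup p S
  hF : F.IsSaturated p
  hTX : T ≤ X
  hE : E.IsSaturated p
  hEF : ∀ (P : Subgroup Ω) (φ : P →* Ω), φ ∈ E.Hom P → φ ∈ F.Hom P
  hRE : E.IsNormal R
  hχ : χ ∈ F.Hom X
  hχN : ∀ y, χ y ∈ normalizerIn S R₁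
  hχR : (R.subgroupOf X).map χ = R₁
  hR₁c : centralizerIn S R₁ ≤ R₁
  hN₁ : F.IsNormalizerSystem R₁ N₁
  hN₁sat : N₁.IsSaturated p
  hM₁ : N₁.IsModel p L₁ ι₁

attribute [instance] Setup.instL

variable {p : ℕ} [Fact p.Prime] {Ω : Type u} [Group Ω] {S : Subgroup Ω} [Finite S]
  (D : Setup p S)

namespace Setup

theorem hXS : D.X ≤ S := (D.F.le_of_mem D.hχ).1

theorem hTS : D.T ≤ S := D.hTX.trans D.hXS

theorem hRT : D.R ≤ D.T := D.hRE.1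

theorem hRX : D.R ≤ D.X := D.hRT.trans D.hTX

theorem hinjχ : Function.Injective D.χ := D.F.injective_of_mem D.hχ

theorem hreal : D.N₁.IsRealizedBy D.ι₁ := D.hM₁.2.1

theorem hinjι : Function.Injective D.ι₁ := D.hreal.1

theorem finT : Finite D.T := finite_of_le D.hTS

theorem hR₁S : D.R₁ ≤ S := by
  rw [← D.hχR]
  rintro _ ⟨y, -, rfl⟩
  exact (D.hχN y).1

theorem hR₁N : D.R₁ ≤ normalizerIn S D.R₁ :=
  fun y hy => ⟨D.hR₁S hy, Subgroup.le_normalizer hy⟩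

/-- the embedding of `T` into the model -/
def j : D.T →* D.L₁ :=
  D.ι₁.comp ((D.χ.comp (Subgroup.inclusion D.hTX)).codRestrict (normalizerIn S D.R₁)
    (fun t => D.hχN _))

theorem j_apply (t : D.T) : D.j t = D.ι₁ ⟨D.χ ⟨t, D.hTX t.2⟩, D.hχN _⟩ := rfl

theorem j_injective : Function.Injective D.j := by
  intro a b hab
  rw [j_apply, j_apply] at hab
  have h1 := D.hinjι hab
  have h2 : D.χ ⟨a, D.hTX a.2⟩ = D.χ ⟨b, D.hTX b.2⟩ := congrArg Subtype.val h1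
  have h3 := D.hinjχ h2
  have h4 : (a : Ω) = (b : Ω) := congrArg (fun z : D.X => (z : Ω)) h3
  exact Subtype.ext h4

/-- elements of `R₁` come from `R` -/
theorem exists_of_mem_R₁ {y : Ω} (hy : y ∈ D.R₁) : ∃ r : D.R, D.χ ⟨r, D.hRX r.2⟩ = y := by
  rw [← D.hχR] at hy
  obtain ⟨x, hx, rfl⟩ := hy
  exact ⟨⟨x, hx⟩, rfl⟩

theorem χ_mem_R₁ (r : D.R) : D.χ ⟨r, D.hRX r.2⟩ ∈ D.R₁ := by
  rw [← D.hχR]
  exact ⟨⟨r, D.hRX r.2⟩, r.2, rfl⟩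

/-- the subgroup of the model realizing `E` -/
def H : Subgroup D.L₁ where
  carrier := {g | ∃ α ∈ D.E.autGroup D.R, ∀ r : D.R,
    g * D.j ⟨r, D.hRT r.2⟩ * g⁻¹ = D.j ⟨α r, D.hRT (α r).2⟩}
  one_mem' := ⟨1, Subgroup.one_mem _, fun r => by simp⟩
  mul_mem' := by
    rintro g₁ g₂ ⟨α₁, hα₁, h₁⟩ ⟨α₂, hα₂, h₂⟩
    refine ⟨α₁ * α₂, Subgroup.mul_mem _ hα₁ hα₂, fun r => ?_⟩
    have e : g₁ * g₂ * D.j ⟨r, D.hRT r.2⟩ * (g₁ * g₂)⁻¹ =
        g₁ * (g₂ * D.j ⟨r, D.hRT r.2⟩ * g₂⁻¹) * g₁⁻¹ := by group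
    rw [e, h₂ r, h₁ (α₂ r)]
    rfl
  inv_mem' := by
    rintro g ⟨α, hα, h⟩
    refine ⟨α⁻¹, Subgroup.inv_mem _ hα, fun r => ?_⟩
    have h1 := h (α⁻¹ r)
    rw [MulAut.apply_inv_self] at h1
    rw [← h1]
    group

theorem mem_H (g : D.L₁) : g ∈ D.H ↔ ∃ α ∈ D.E.autGroup D.R, ∀ r : D.R,
    g * D.j ⟨r, D.hRT r.2⟩ * g⁻¹ = D.j ⟨α r, D.hRT (α r).2⟩ := Iff.rfl

theorem hTN : D.T ≤ Subgroup.normalizer (D.R : Set Ω) := le_normalizer_of_isNormal D.E D.hRE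

/-- conjugation by an element of `T` on `R`, as an automorphism in the system -/
theorem exists_conj_aut (t : D.T) : ∃ α ∈ D.E.autGroup D.R,
    ∀ r : D.R, ((α r : D.R) : Ω) = (t : Ω) * r * (t : Ω)⁻¹ := by
  haveI := D.finT
  have h1 : conjHom D.R (t : Ω) ∈ D.E.Hom D.R := D.E.conj_mem D.hRT t.2
  have h2 : ∀ y : D.R, conjHom D.R (t : Ω) y ∈ D.R := by
    intro y
    exact ((Subgroup.mem_normalizer_iff.mp (D.hTN t.2)) y).mp y.2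
  obtain ⟨a', ha', ha'app⟩ := exists_aut_of_hom D.E D.hRT h1 h2
  exact ⟨a', ha', fun r => ha'app r⟩

theorem j_mem_H (t : D.T) : D.j t ∈ D.H := by
  obtain ⟨α, hα, hαr⟩ := D.exists_conj_aut t
  refine ⟨α, hα, fun r => ?_⟩
  rw [← map_inv, ← map_mul, ← map_mul]
  congr 1
  apply Subtype.ext
  show (t : Ω) * r * (t : Ω)⁻¹ = α r
  rw [hαr]

/-- the embedding of `T` into `H` -/
def jH : D.T →* D.H := D.j.codRestrict D.H D.j_mem_H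

theorem jH_coe (t : D.T) : ((D.jH t : D.H) : D.L₁) = D.j t := rfl

theorem jH_injective : Function.Injective D.jH := by
  intro a b hab
  exact D.j_injective (congrArg Subtype.val hab)

end Setup

end Cfsg.Agent.Helper26.Embed
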