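import Mathlib
import Cfsg.Agent.Helper26.EmbedB

set_option autoImplicit false
set_option linter.style.haveILetI false
set_option linter.unusedSectionVars false
set_option linter.unusedVariables false

/-! The subgroup `H` of the model of `N_F(R₁)` realizes the subsystem `E`. -/

namespace Cfsg.Agent.Helper26.Embed

open Cfsg Cfsg.FusionSystem Cfsg.Agent.Helper25 Cfsg.Agent.Helper26.MasterRed
  Cfsg.Agent.Helper26.ModelAut Cfsg.Agent.Helper26.WC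

universe u

variable {p : ℕ} [Fact p.Prime] {Ω : Type u} [Group Ω] {S : Subgroup Ω} [Finite S]
  (D : Setup p S)

namespace Setup

theorem finR₁ : Finite D.R₁ := finite_of_le D.hR₁S

theorem finN₁ : Finite (normalizerIn S D.R₁) := finite_of_le inf_le_left

theorem hS₁ : IsPGroup p (normalizerIn S D.R₁) := isPGroup_of_le D.hS inf_le_left

theorem R₁_isNormal : D.N₁.IsNormal D.R₁ := normalizerSystem_isNormal D.F D.hR₁S D.N₁ D.hN₁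

theorem R₁_isCentric : D.N₁.IsCentric D.R₁ := by
  haveI := D.finN₁
  refine ⟨D.hR₁N, fun Q' hQ' => ?_⟩
  rw [eq_of_isConj_of_isNormal D.N₁ D.R₁_isNormal hQ']
  intro x hx
  exact D.hR₁c ⟨hx.1.1, hx.2⟩

/-- the conjugate by `χ` of a map of `E` defined on an overgroup of `R` and preserving `R` -/
theorem exists_conj_N₁ {Y : Subgroup Ω} (hYT : Y ≤ D.T) (hRY : D.R ≤ Y) {ψ : Y →* Ω}
    (hψ : ψ ∈ D.E.Hom Y) (hψR : ∀ y : Y, (y : Ω) ∈ D.R → ψ y ∈ D.R) :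
    ∃ (_ : (Y.subgroupOf D.X).map D.χ ≤ normalizerIn S D.R₁)
      (ψ₁ : ↥((Y.subgroupOf D.X).map D.χ) →* Ω), ψ₁ ∈ D.N₁.Hom _ ∧
      ∀ (y : Y) (h : D.χ ⟨y, D.hTX (hYT y.2)⟩ ∈ (Y.subgroupOf D.X).map D.χ),
        ψ₁ ⟨D.χ ⟨y, D.hTX (hYT y.2)⟩, h⟩ = D.χ ⟨ψ y, D.hTX ((D.E.le_of_mem hψ).2 y)⟩ := by
  haveI := D.finR₁
  have hYX : Y ≤ D.X := hYT.trans D.hTX
  have hψF : ψ ∈ D.F.Hom Y := D.hEF _ _ hψ
  have hψT : ∀ y, ψ y ∈ D.T := (D.E.le_of_mem hψ).2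
  obtain ⟨ψ₁, hψ₁, hψ₁app⟩ := exists_conj_hom D.F D.hχ hYX hψF (fun y => D.hTX (hψT y))
  have hY₁N : (Y.subgroupOf D.X).map D.χ ≤ normalizerIn S D.R₁ := by
    rintro _ ⟨y, -, rfl⟩
    exact D.hχN y
  have hR₁Y₁ : D.R₁ ≤ (Y.subgroupOf D.X).map D.χ := by
    rw [← D.hχR]
    rintro _ ⟨y, hy, rfl⟩
    exact ⟨y, hRY hy, rfl⟩
  -- elements of `Y₁`
  have hrep : ∀ z : ↥((Y.subgroupOf D.X).map D.χ), ∃ y : Y,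
      D.χ ⟨y, D.hTX (hYT y.2)⟩ = (z : Ω) := by
    rintro ⟨_, y, hy, rfl⟩
    exact ⟨⟨y, hy⟩, rfl⟩
  have hval : ∀ z, ψ₁ z ∈ normalizerIn S D.R₁ := by
    intro z
    obtain ⟨y, hy⟩ := hrep z
    have e : z = ⟨D.χ ⟨y, D.hTX (hYT y.2)⟩, hy ▸ z.2⟩ := Subtype.ext hy.symm
    rw [e, hψ₁app]
    exact D.hχN _
  refine ⟨hY₁N, ψ₁, ?_, fun y h => hψ₁app y h⟩
  rw [D.hN₁]
  refine mem_normalizerHom_of_le D.F hR₁Y₁ hψ₁ hY₁N hval ?_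
  apply map_eq_of_map_le (D.F.injective_of_mem hψ₁) _ hR₁Y₁
  rintro _ ⟨z, hz, rfl⟩
  obtain ⟨y, hy⟩ := hrep z
  have hz' : (z : Ω) ∈ D.R₁ := hz
  have hyR : (y : Ω) ∈ D.R := by
    rw [← hy] at hz'
    obtain ⟨r, hr⟩ := D.exists_of_mem_R₁ hz'
    have h1 := D.hinjχ hr
    have h2 : (r : Ω) = (y : Ω) := congrArg (fun w : D.X => (w : Ω)) h1
    rw [← h2]
    exact r.2
  have e : z = ⟨D.χ ⟨y, D.hTX (hYT y.2)⟩, hy ▸ z.2⟩ := Subtype.ext hy.symm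
  rw [e, hψ₁app]
  exact D.χ_mem_R₁ ⟨ψ y, hψR y hyR⟩

/-- a map of `E` on an overgroup of `R` preserving `R` is realized by an element of `H` -/
theorem exists_mem_H_of_hom {Y : Subgroup Ω} (hYT : Y ≤ D.T) (hRY : D.R ≤ Y) {ψ : Y →* Ω}
    (hψ : ψ ∈ D.E.Hom Y) (hψR : ∀ y : Y, (y : Ω) ∈ D.R → ψ y ∈ D.R) :
    ∃ g ∈ D.H, ∀ y : Y, D.j ⟨ψ y, (D.E.le_of_mem hψ).2 y⟩ =
      g * D.j ⟨y, hYT y.2⟩ * g⁻¹ := by
  haveI := D.finT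
  obtain ⟨hY₁N, ψ₁, hψ₁, hψ₁app⟩ := D.exists_conj_N₁ hYT hRY hψ hψR
  have hψ₁S : ∀ z, ψ₁ z ∈ normalizerIn S D.R₁ := (D.N₁.le_of_mem hψ₁).2
  obtain ⟨g, hg⟩ := (D.hreal.2 _ hY₁N ψ₁ hψ₁S).mp hψ₁
  have hmemY₁ : ∀ y : Y, D.χ ⟨y, D.hTX (hYT y.2)⟩ ∈ (Y.subgroupOf D.X).map D.χ :=
    fun y => ⟨⟨y, D.hTX (hYT y.2)⟩, y.2, rfl⟩
  have hkey : ∀ y : Y, D.j ⟨ψ y, (D.E.le_of_mem hψ).2 y⟩ = g * D.j ⟨y, hYT y.2⟩ * g⁻¹ := by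
    intro y
    have h1 := hg ⟨D.χ ⟨y, D.hTX (hYT y.2)⟩, hmemY₁ y⟩
    rw [j_apply, j_apply, ← h1]
    congr 1
    apply Subtype.ext
    exact (hψ₁app y (hmemY₁ y)).symm
  refine ⟨g, ?_, hkey⟩
  -- `g ∈ H`
  have hψRhom : ψ.comp (Subgroup.inclusion hRY) ∈ D.E.Hom D.R := restrict_mem D.E hRY hψ
  obtain ⟨α, hα, hαapp⟩ := exists_aut_of_hom D.E D.hRT hψRhom (fun r => hψR _ r.2)
  refine ⟨α, hα, fun r => ?_⟩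
  have h2 := hkey ⟨r, hRY r.2⟩
  rw [← h2]
  congr 1
  apply Subtype.ext
  exact (hαapp r).symm

/-- maps of `E` are realized in `H` -/
theorem realized_of_mem {P : Subgroup Ω} (hP : P ≤ D.T) {φ : P →* Ω} (hφT : ∀ x, φ x ∈ D.T)
    (hφ : φ ∈ D.E.Hom P) :
    ∃ g : D.H, ∀ x : P, D.jH ⟨φ x, hφT x⟩ = g * D.jH ⟨x, hP x.2⟩ * g⁻¹ := by
  obtain ⟨ψ, hψ, hext, hmap⟩ := D.hRE.2 P φ hφ
  have hsupT : P ⊔ D.R ≤ D.T := sup_le hP D.hRT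
  have hψR : ∀ y : ↥(P ⊔ D.R), (y : Ω) ∈ D.R → ψ y ∈ D.R := by
    intro y hy
    have h0 : ψ y ∈ (D.R.subgroupOf (P ⊔ D.R)).map ψ := ⟨y, hy, rfl⟩
    exact (show ∀ Z : Subgroup Ω, (D.R.subgroupOf (P ⊔ D.R)).map ψ = Z → ψ y ∈ Z from
      fun Z hZ => hZ ▸ h0) D.R hmap
  obtain ⟨g, hgH, hg⟩ := D.exists_mem_H_of_hom hsupT le_sup_right hψ hψR
  refine ⟨⟨g, hgH⟩, fun x => ?_⟩
  apply Subtype.ext
  show D.j ⟨φ x, hφT x⟩ = g * D.j ⟨x, hP x.2⟩ * g⁻¹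
  have h1 := hg (Subgroup.inclusion le_sup_left x)
  refine Eq.trans ?_ h1
  congr 1
  apply Subtype.ext
  exact (hext x).symm

end Setup

end Cfsg.Agent.Helper26.Embed
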