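import Mathlib
import Cfsg.Agent.Helper26.EmbedC
import Cfsg.Agent.Helper25.FusionPPowerNormal

set_option autoImplicit false
set_option linter.style.haveILetI false
set_option linter.unusedSectionVars false
set_option linter.unusedVariables false

/-! Maps realized in the subgroup `H` are maps of `E`. -/

namespace Cfsg.Agent.Helper26.Embed

open Cfsg Cfsg.FusionSystem Cfsg.Agent.Helper25 Cfsg.Agent.Helper26.MasterRed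
  Cfsg.Agent.Helper26.ModelAut Cfsg.Agent.Helper26.WC

universe u

variable {p : ℕ} [Fact p.Prime] {Ω : Type u} [Group Ω] {S : Subgroup Ω} [Finite S]
  (D : Setup p S)

namespace Setup

/-- maps realized in `H` are maps of `E` -/
theorem mem_of_realized {P : Subgroup Ω} (hP : P ≤ D.T) {φ : P →* Ω} (hφT : ∀ x, φ x ∈ D.T)
    {h : D.L₁} (hh : h ∈ D.H)
    (hφ : ∀ x : P, D.j ⟨φ x, hφT x⟩ = h * D.j ⟨x, hP x.2⟩ * h⁻¹) : φ ∈ D.E.Hom P := by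
  haveI := D.finT
  haveI := D.finN₁
  obtain ⟨α, hα, hαr⟩ := hh
  have hαE : autHom α ∈ D.E.Hom D.R := (mem_autGroup_iff D.E D.hRT α).mp hα
  have hsc := stronglyClosed_of_isNormal D.E D.hRE
  have hrec : D.E.IsReceptive D.R := isReceptive_of_stronglyClosed p D.E D.hE hsc
  obtain ⟨β, hβ, hβext⟩ := hrec.2 D.R (autHom α) hαE (autHom_range α)
  -- `P` lies in the domain of the extension
  have hPext : P ≤ extender D.T D.R (autHom α) := by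
    intro x hx
    apply Subgroup.subset_closure
    refine ⟨hP hx, D.hTN (hP hx), φ ⟨x, hx⟩, hφT _, fun r hr => ?_⟩
    show (((α ⟨x * (r : Ω) * x⁻¹, hr⟩ : D.R)) : Ω) = φ ⟨x, hx⟩ * ((α r : D.R) : Ω) * (φ ⟨x, hx⟩)⁻¹
    have hmem : φ ⟨x, hx⟩ * ((α r : D.R) : Ω) * (φ ⟨x, hx⟩)⁻¹ ∈ D.T :=
      D.T.mul_mem (D.T.mul_mem (hφT _) (D.hRT (α r).2)) (D.T.inv_mem (hφT _))
    have h1 : D.j ⟨((α ⟨x * (r : Ω) * x⁻¹, hr⟩ : D.R) : Ω), D.hRT (α ⟨x * (r : Ω) * x⁻¹, hr⟩).2⟩ =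
        D.j ⟨φ ⟨x, hx⟩ * ((α r : D.R) : Ω) * (φ ⟨x, hx⟩)⁻¹, hmem⟩ := by
      rw [← hαr ⟨x * (r : Ω) * x⁻¹, hr⟩]
      have e1 : (⟨x * (r : Ω) * x⁻¹, D.hRT hr⟩ : D.T) =
          ⟨x, hP hx⟩ * ⟨r, D.hRT r.2⟩ * (⟨x, hP hx⟩ : D.T)⁻¹ := Subtype.ext rfl
      have e2 : (⟨φ ⟨x, hx⟩ * ((α r : D.R) : Ω) * (φ ⟨x, hx⟩)⁻¹, hmem⟩ : D.T) =
          ⟨φ ⟨x, hx⟩, hφT _⟩ * ⟨α r, D.hRT (α r).2⟩ * (⟨φ ⟨x, hx⟩, hφT _⟩ : D.T)⁻¹ :=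
        Subtype.ext rfl
      rw [e1, e2, map_mul, map_mul, map_inv, map_mul, map_mul, map_inv, hφ ⟨x, hx⟩, ← hαr r]
      group
    have h2 := D.j_injective h1
    exact congrArg (fun w : D.T => (w : Ω)) h2
  have hRext : D.R ≤ extender D.T D.R (autHom α) :=
    le_extender D.hRT (autHom α) (fun r => D.hRT (α r).2)
  have hYext : P ⊔ D.R ≤ extender D.T D.R (autHom α) := sup_le hPext hRext
  have hYT : P ⊔ D.R ≤ D.T := sup_le hP D.hRT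
  have hβ' : β.comp (Subgroup.inclusion hYext) ∈ D.E.Hom (P ⊔ D.R) := restrict_mem D.E hYext hβ
  obtain ⟨β', hβ'e⟩ : ∃ β' : ↥(P ⊔ D.R) →* Ω, β' = β.comp (Subgroup.inclusion hYext) := ⟨_, rfl⟩
  rw [← hβ'e] at hβ'
  have hβ'app : ∀ y : ↥(P ⊔ D.R), β' y = β ⟨y, hYext y.2⟩ := fun y => by rw [hβ'e]; rfl
  have hβ'R : ∀ y : ↥(P ⊔ D.R), ∀ hy : (y : Ω) ∈ D.R, β' y = ((α ⟨y, hy⟩ : D.R) : Ω) := by
    intro y hy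
    rw [hβ'app]
    exact hβext y hy (hYext y.2)
  have hβ'T : ∀ y, β' y ∈ D.T := (D.E.le_of_mem hβ').2
  obtain ⟨hY₁N, β₁, hβ₁, hβ₁app⟩ := D.exists_conj_N₁ hYT le_sup_right hβ'
    (fun y hy => by rw [hβ'R y hy]; exact (α ⟨y, hy⟩).2)
  -- the map induced by `h`
  have hmemY₁ : ∀ y : ↥(P ⊔ D.R), D.χ ⟨y, D.hTX (hYT y.2)⟩ ∈
      ((P ⊔ D.R).subgroupOf D.X).map D.χ :=
    fun y => ⟨⟨y, D.hTX (hYT y.2)⟩, y.2, rfl⟩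
  have hrep : ∀ z : ↥(((P ⊔ D.R).subgroupOf D.X).map D.χ), ∃ y : ↥(P ⊔ D.R),
      D.χ ⟨y, D.hTX (hYT y.2)⟩ = (z : Ω) := by
    rintro ⟨_, y, hy, rfl⟩
    exact ⟨⟨y, hy⟩, rfl⟩
  have hconjY : ∀ y : ↥(P ⊔ D.R), h * D.j ⟨y, hYT y.2⟩ * h⁻¹ ∈ D.ι₁.range := by
    have h1 := forall_mem_sup_of (X := P ⊔ D.R) le_sup_left le_sup_right
      ((D.ι₁.range.comap (MulAut.conj h).toMonoidHom).comap
        (D.j.comp (Subgroup.inclusion hYT)))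
      (fun y hy => by
        show h * D.j ⟨y, hYT y.2⟩ * h⁻¹ ∈ D.ι₁.range
        have := hφ ⟨y, hy⟩
        rw [← this]
        exact ⟨_, rfl⟩)
      (fun y hy => by
        show h * D.j ⟨y, hYT y.2⟩ * h⁻¹ ∈ D.ι₁.range
        have := hαr ⟨y, hy⟩
        rw [this]
        exact ⟨_, rfl⟩)
    intro y
    exact h1 y y.2
  have hconj : ∀ z : ↥(((P ⊔ D.R).subgroupOf D.X).map D.χ),
      h * D.ι₁ ⟨z, hY₁N z.2⟩ * h⁻¹ ∈ D.ι₁.range := by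
    intro z
    obtain ⟨y, hy⟩ := hrep z
    have e : D.ι₁ ⟨z, hY₁N z.2⟩ = D.j ⟨y, hYT y.2⟩ := by
      rw [j_apply]
      congr 1
      exact Subtype.ext hy.symm
    rw [e]
    exact hconjY y
  obtain ⟨θ, hθ, hθS, hθι⟩ := exists_hom_of_conj D.N₁ D.ι₁ D.hreal hY₁N h hconj
  have hR₁Y₁ : D.R₁ ≤ ((P ⊔ D.R).subgroupOf D.X).map D.χ := by
    rw [← D.hχR]
    rintro _ ⟨y, hy, rfl⟩
    exact ⟨y, Subgroup.mem_sup_right hy, rfl⟩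
  -- `θ` on the image of `Y`
  have hθχ : ∀ y : ↥(P ⊔ D.R), ∀ (w : Ω) (hw : w ∈ D.T),
      h * D.j ⟨y, hYT y.2⟩ * h⁻¹ = D.j ⟨w, hw⟩ →
      θ ⟨D.χ ⟨y, D.hTX (hYT y.2)⟩, hmemY₁ y⟩ = D.χ ⟨w, D.hTX hw⟩ := by
    intro y w hw hyw
    have h1 := hθι ⟨D.χ ⟨y, D.hTX (hYT y.2)⟩, hmemY₁ y⟩
    have h2 : D.ι₁ ⟨θ ⟨D.χ ⟨y, D.hTX (hYT y.2)⟩, hmemY₁ y⟩, hθS _⟩ = D.ι₁ ⟨D.χ ⟨w, D.hTX hw⟩, D.hχN _⟩ := by
      rw [h1]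
      exact hyw
    exact congrArg Subtype.val (D.hinjι h2)
  -- agreement on `R₁`
  have hagree : ∀ z : ↥(((P ⊔ D.R).subgroupOf D.X).map D.χ), (z : Ω) ∈ D.R₁ → β₁ z = θ z := by
    intro z hz
    obtain ⟨r, hr⟩ := D.exists_of_mem_R₁ hz
    have e : z = ⟨D.χ ⟨((⟨r, Subgroup.mem_sup_right r.2⟩ : ↥(P ⊔ D.R)) : Ω),
        D.hTX (hYT (Subgroup.mem_sup_right r.2))⟩, hmemY₁ ⟨r, Subgroup.mem_sup_right r.2⟩⟩ :=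
      Subtype.ext hr.symm
    rw [e, hβ₁app, hθχ ⟨r, Subgroup.mem_sup_right r.2⟩ (α r) (D.hRT (α r).2) (hαr r)]
    congr 1
    apply Subtype.ext
    exact hβ'R ⟨r, Subgroup.mem_sup_right r.2⟩ r.2
  obtain ⟨z, hzR₁, -, hz⟩ := hom_eq_comp_conj_of_agree p D.hS₁ D.N₁ D.hN₁sat hθ hR₁Y₁
    D.R₁_isCentric hβ₁ hagree
  obtain ⟨z', hz'⟩ := D.exists_of_mem_R₁ hzR₁
  -- conclusion
  have hz'T : (z' : Ω) ∈ D.T := D.hRT z'.2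
  have hcY : ∀ x : P, conjHom P (z' : Ω) x ∈ P ⊔ D.R := by
    intro x
    show (z' : Ω) * x * (z' : Ω)⁻¹ ∈ P ⊔ D.R
    exact Subgroup.mul_mem _ (Subgroup.mul_mem _ (Subgroup.mem_sup_right z'.2)
      (Subgroup.mem_sup_left x.2)) (Subgroup.inv_mem _ (Subgroup.mem_sup_right z'.2))
  refine comp_mem' D.E (D.E.conj_mem hP hz'T) hβ' hcY ?_
  intro x
  -- `χ (φ x) = χ (β' (z' x z'⁻¹))`
  have h1 := hθχ (Subgroup.inclusion le_sup_left x) (φ x) (hφT x) (hφ x).symm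
  have h2 := hz ⟨D.χ ⟨x, D.hTX (hP x.2)⟩, hmemY₁ (Subgroup.inclusion le_sup_left x)⟩
  have e3 : (z * ⟨D.χ ⟨x, D.hTX (hP x.2)⟩, hmemY₁ (Subgroup.inclusion le_sup_left x)⟩ * z⁻¹ :
      ↥(((P ⊔ D.R).subgroupOf D.X).map D.χ)) =
      ⟨D.χ ⟨((⟨conjHom P (z' : Ω) x, hcY x⟩ : ↥(P ⊔ D.R)) : Ω), D.hTX (hYT (hcY x))⟩,
        hmemY₁ ⟨conjHom P (z' : Ω) x, hcY x⟩⟩ := by
    apply Subtype.ext
    show (z : Ω) * D.χ ⟨x, D.hTX (hP x.2)⟩ * (z : Ω)⁻¹ = D.χ ⟨(z' : Ω) * x * (z' : Ω)⁻¹, _⟩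
    have e4 : (⟨(z' : Ω) * x * (z' : Ω)⁻¹, D.hTX (hYT (hcY x))⟩ : D.X) =
        ⟨z', D.hRX z'.2⟩ * ⟨x, D.hTX (hP x.2)⟩ * (⟨z', D.hRX z'.2⟩ : D.X)⁻¹ := Subtype.ext rfl
    rw [e4, map_mul, map_mul, map_inv, hz']
  rw [e3, hβ₁app] at h2
  have h3 : D.χ ⟨φ x, D.hTX (hφT x)⟩ =
      D.χ ⟨β' ⟨conjHom P (z' : Ω) x, hcY x⟩, D.hTX (hβ'T _)⟩ := by
    exact h1.symm.trans h2
  have h4 := D.hinjχ h3
  exact congrArg (fun w : D.X => (w : Ω)) h4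

end Setup

end Cfsg.Agent.Helper26.Embed
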