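import Mathlib
import Cfsg.Agent.Helper26.EmbedD
import Cfsg.Agent.S5077
import Cfsg.Agent.Helper14.PCore

set_option autoImplicit false
set_option linter.style.haveILetI false
set_option linter.unusedSectionVars false
set_option linter.unusedVariables false

/-! The subgroup `H` with the embedding `jH` is a model of `E`. -/

namespace Cfsg.Agent.Helper26.Embed

open Cfsg Cfsg.FusionSystem Cfsg.Agent.Helper25 Cfsg.Agent.Helper26.MasterRed
  Cfsg.Agent.Helper26.ModelAut Cfsg.Agent.Helper26.WC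

universe u

variable {p : ℕ} [Fact p.Prime] {Ω : Type u} [Group Ω] {S : Subgroup Ω} [Finite S]
  (D : Setup p S)

namespace Setup

/-- uniqueness of the automorphism attached to an element of `H` -/
theorem aut_unique {g : D.L₁} {α α' : MulAut D.R}
    (h : ∀ r : D.R, g * D.j ⟨r, D.hRT r.2⟩ * g⁻¹ = D.j ⟨α r, D.hRT (α r).2⟩)
    (h' : ∀ r : D.R, g * D.j ⟨r, D.hRT r.2⟩ * g⁻¹ = D.j ⟨α' r, D.hRT (α' r).2⟩) : α = α' := by
  apply MulEquiv.ext
  intro r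
  apply Subtype.ext
  have h1 := (h r).symm.trans (h' r)
  have h2 := D.j_injective h1
  exact congrArg (fun w : D.T => (w : Ω)) h2

/-- the automorphism of `R` attached to an element of `H` -/
noncomputable def γfun (g : D.H) : D.E.autGroup D.R :=
  ⟨Classical.choose g.2, (Classical.choose_spec g.2).1⟩

theorem γfun_spec (g : D.H) (r : D.R) :
    (g : D.L₁) * D.j ⟨r, D.hRT r.2⟩ * (g : D.L₁)⁻¹ =
      D.j ⟨((D.γfun g : MulAut D.R) r : D.R), D.hRT (((D.γfun g : MulAut D.R) r : D.R)).2⟩ :=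
  (Classical.choose_spec g.2).2 r

theorem γfun_eq (g : D.H) {α : MulAut D.R}
    (h : ∀ r : D.R, (g : D.L₁) * D.j ⟨r, D.hRT r.2⟩ * (g : D.L₁)⁻¹ = D.j ⟨α r, D.hRT (α r).2⟩) :
    (D.γfun g : MulAut D.R) = α :=
  D.aut_unique (D.γfun_spec g) h

/-- the action of `H` on `R` -/
noncomputable def γ : D.H →* D.E.autGroup D.R :=
  MonoidHom.mk' D.γfun (by
    intro a b
    apply Subtype.ext
    apply D.γfun_eq
    intro r
    have e : ((a * b : D.H) : D.L₁) * D.j ⟨r, D.hRT r.2⟩ * ((a * b : D.H) : D.L₁)⁻¹ =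
        (a : D.L₁) * ((b : D.L₁) * D.j ⟨r, D.hRT r.2⟩ * (b : D.L₁)⁻¹) * (a : D.L₁)⁻¹ := by
      rw [Subgroup.coe_mul]
      group
    rw [e, D.γfun_spec b r, D.γfun_spec a]
    rfl)

theorem γ_apply (g : D.H) : D.γ g = D.γfun g := rfl

theorem γ_spec (g : D.H) (r : D.R) :
    (g : D.L₁) * D.j ⟨r, D.hRT r.2⟩ * (g : D.L₁)⁻¹ =
      D.j ⟨((D.γ g : MulAut D.R) r : D.R), D.hRT (((D.γ g : MulAut D.R) r : D.R)).2⟩ :=
  D.γfun_spec g r

theorem γ_eq (g : D.H) {α : MulAut D.R}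
    (h : ∀ r : D.R, (g : D.L₁) * D.j ⟨r, D.hRT r.2⟩ * (g : D.L₁)⁻¹ = D.j ⟨α r, D.hRT (α r).2⟩) :
    (D.γ g : MulAut D.R) = α :=
  D.γfun_eq g h

theorem γ_surjective : Function.Surjective D.γ := by
  intro a
  have ha : autHom (a : MulAut D.R) ∈ D.E.Hom D.R := (mem_autGroup_iff D.E D.hRT _).mp a.2
  obtain ⟨g, hgH, hg⟩ := D.exists_mem_H_of_hom D.hRT le_rfl ha (fun y _ => ((a : MulAut D.R) y).2)
  refine ⟨⟨g, hgH⟩, ?_⟩
  apply Subtype.ext
  apply D.γ_eq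
  intro r
  exact (hg r).symm

/-- elements of `H` acting trivially on `R` lie in the image of `R` -/
theorem exists_of_γ_eq_one {g : D.H} (hg : D.γ g = 1) :
    ∃ r : D.R, D.jH ⟨r, D.hRT r.2⟩ = g := by
  haveI := D.finN₁
  have hcomm : ∀ r : D.R, (g : D.L₁) * D.j ⟨r, D.hRT r.2⟩ * (g : D.L₁)⁻¹ = D.j ⟨r, D.hRT r.2⟩ := by
    intro r
    have h1 := D.γ_spec g r
    rw [hg] at h1
    exact h1
  have hRc : centralizerIn (normalizerIn S D.R₁) D.R₁ ≤ D.R₁ := fun x hx => D.hR₁c ⟨hx.1.1, hx.2⟩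
  have hcent := centralizer_map_le_of_isModel p D.hS₁ D.N₁ D.ι₁ D.hM₁ D.R₁_isNormal hRc
  have hgc : (g : D.L₁) ∈ Subgroup.centralizer
      (((D.R₁.subgroupOf (normalizerIn S D.R₁)).map D.ι₁ : Subgroup D.L₁) : Set D.L₁) := by
    rw [Subgroup.mem_centralizer_iff]
    rintro _ ⟨y, hy, rfl⟩
    have hy' : (y : Ω) ∈ D.R₁ := hy
    obtain ⟨r, hr⟩ := D.exists_of_mem_R₁ hy'
    have e : D.ι₁ y = D.j ⟨r, D.hRT r.2⟩ := by
      rw [j_apply]
      congr 1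
      exact Subtype.ext hr.symm
    rw [e]
    have h2 := hcomm r
    calc D.j ⟨r, D.hRT r.2⟩ * (g : D.L₁)
        = ((g : D.L₁) * D.j ⟨r, D.hRT r.2⟩ * (g : D.L₁)⁻¹) * (g : D.L₁) := by rw [h2]
      _ = (g : D.L₁) * D.j ⟨r, D.hRT r.2⟩ := by group
  obtain ⟨y, hy, hyg⟩ := hcent hgc
  have hy' : (y : Ω) ∈ D.R₁ := hy
  obtain ⟨r, hr⟩ := D.exists_of_mem_R₁ hy'
  refine ⟨r, ?_⟩
  apply Subtype.ext
  rw [jH_coe, j_apply, ← hyg]
  congr 1
  exact Subtype.ext hr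

theorem finL₁ : Finite D.L₁ := D.hM₁.1

theorem hTp : IsPGroup p D.T := isPGroup_of_le D.hS D.hTS

/-- the image of `T` is a Sylow subgroup of `H` -/
theorem exists_sylow : ∃ Tsyl : Sylow p D.H, (Tsyl : Subgroup D.H) = D.jH.range := by
  haveI := D.finT
  haveI := D.finL₁
  have hfn : D.E.IsFullyNormalized D.R := isFullyNormalized_of_normal D.E D.hRT D.hTN
  obtain ⟨-, -, RA, hRA⟩ := Cfsg.Agent.S5077.sylow_axiom p D.hTp D.E D.hE D.R hfn
  have hγj : ∀ (t : D.T) (α : MulAut D.R),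
      (∀ r : D.R, ((α r : D.R) : Ω) = (t : Ω) * r * (t : Ω)⁻¹) →
      (D.γ (D.jH t) : MulAut D.R) = α := by
    intro t α hα
    apply D.γ_eq
    intro r
    rw [jH_coe, ← map_inv, ← map_mul, ← map_mul]
    congr 1
    apply Subtype.ext
    show (t : Ω) * r * (t : Ω)⁻¹ = α r
    rw [hα]
  have hcomap : D.jH.range = (RA : Subgroup (D.E.autGroup D.R)).comap D.γ := by
    ext g
    constructor
    · rintro ⟨t, rfl⟩
      rw [Subgroup.mem_comap, hRA, Subgroup.mem_subgroupOf, mem_autInducedBy_iff]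
      obtain ⟨α, hα, hαr⟩ := D.exists_conj_aut t
      rw [hγj t α hαr]
      exact ⟨t, t.2, hαr⟩
    · intro hg
      rw [Subgroup.mem_comap, hRA, Subgroup.mem_subgroupOf, mem_autInducedBy_iff] at hg
      obtain ⟨t, ht, htr⟩ := hg
      have h0 : D.γ (D.jH ⟨t, ht⟩) = D.γ g := Subtype.ext (hγj ⟨t, ht⟩ _ htr)
      have h1 : D.γ (g * (D.jH ⟨t, ht⟩)⁻¹) = 1 := by
        rw [map_mul, map_inv, h0, mul_inv_cancel]
      obtain ⟨r, hr⟩ := D.exists_of_γ_eq_one h1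
      refine ⟨⟨r, D.hRT r.2⟩ * ⟨t, ht⟩, ?_⟩
      rw [map_mul, hr]
      group
  haveI : Finite D.R := finite_of_le (D.hRT.trans D.hTS)
  have hidx : ¬ p ∣ D.jH.range.index := by
    rw [hcomap, Subgroup.index_comap_of_surjective _ D.γ_surjective]
    exact RA.not_dvd_index
  have hpg : IsPGroup p D.jH.range := by
    have h1 : IsPGroup p D.T := D.hTp
    exact h1.of_surjective D.jH.rangeRestrict D.jH.rangeRestrict_surjective
  exact ⟨hpg.toSylow hidx, rfl⟩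

/-- `C_H(O_p(H)) ≤ O_p(H)` -/
theorem centralizer_pCore_le :
    Subgroup.centralizer ((pCore p D.H : Subgroup D.H) : Set D.H) ≤ pCore p D.H := by
  haveI := D.finT
  have hRHn : ((D.R.subgroupOf D.T).map D.jH).Normal := by
    constructor
    rintro _ ⟨y, hy, rfl⟩ g
    have hy' : (y : Ω) ∈ D.R := hy
    refine ⟨⟨((D.γ g : MulAut D.R) ⟨y, hy'⟩ : D.R),
      D.hRT ((D.γ g : MulAut D.R) ⟨y, hy'⟩).2⟩, ?_, ?_⟩
    · show ((((D.γ g : MulAut D.R) ⟨y, hy'⟩ : D.R)) : Ω) ∈ D.R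
      exact ((D.γ g : MulAut D.R) ⟨y, hy'⟩).2
    · apply Subtype.ext
      have h1 := D.γ_spec g ⟨y, hy'⟩
      rw [Subgroup.coe_mul, Subgroup.coe_mul, Subgroup.coe_inv, jH_coe, jH_coe]
      exact h1.symm
  have hRHp : IsPGroup p ↥((D.R.subgroupOf D.T).map D.jH) := by
    have h1 : IsPGroup p ↥(D.R.subgroupOf D.T) := D.hTp.to_subgroup _
    exact h1.map D.jH
  have hle : (D.R.subgroupOf D.T).map D.jH ≤ pCore p D.H :=
    Cfsg.Agent.Helper14.le_pCore p hRHn hRHp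
  intro g hg
  rw [Subgroup.mem_centralizer_iff] at hg
  have hγ : D.γ g = 1 := by
    apply Subtype.ext
    apply D.γ_eq
    intro r
    have hmem : D.jH ⟨r, D.hRT r.2⟩ ∈ ((pCore p D.H : Subgroup D.H) : Set D.H) :=
      hle ⟨⟨r, D.hRT r.2⟩, r.2, rfl⟩
    have h1 := hg _ hmem
    have h2 : D.j ⟨r, D.hRT r.2⟩ * (g : D.L₁) = (g : D.L₁) * D.j ⟨r, D.hRT r.2⟩ :=
      congrArg Subtype.val h1
    show (g : D.L₁) * D.j ⟨r, D.hRT r.2⟩ * (g : D.L₁)⁻¹ = D.j ⟨r, D.hRT r.2⟩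
    rw [← h2]
    group
  obtain ⟨r, hr⟩ := D.exists_of_γ_eq_one hγ
  rw [← hr]
  exact hle ⟨⟨r, D.hRT r.2⟩, r.2, rfl⟩

/-- `H` is a model of `E` -/
theorem isModel : D.E.IsModel p D.H D.jH := by
  haveI := D.finL₁
  refine ⟨inferInstance, ⟨D.jH_injective, fun P hP φ hφT =>
    ⟨fun hφ => D.realized_of_mem hP hφT hφ, ?_⟩⟩, D.exists_sylow, D.centralizer_pCore_le⟩
  rintro ⟨g, hg⟩
  exact D.mem_of_realized hP hφT g.2 (fun x => congrArg Subtype.val (hg x))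

end Setup

end Cfsg.Agent.Helper26.Embed
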