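import Mathlib
import Cfsg.Agent.Helper26.ModelFusion
import Cfsg.Agent.Helper14.PCore
import Cfsg.Agent.Helper25.FusionNormalizerConstrained
import Cfsg.Agent.Helper25.FusionIso

set_option autoImplicit false
set_option linter.unusedSectionVars false
set_option linter.unusedVariables false

/-! Uniqueness of models, over `⊤ : Subgroup Ω`. -/

namespace Cfsg.Agent.Helper26.ModelFusion

open Cfsg Cfsg.FusionSystem Cfsg.Agent.Helper25
open scoped IsMulCommutative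

universe u v

variable {Ω : Type u} [Group Ω]

/-- A realization of a system over `⊤`, as a homomorphism on `Ω`. -/
structure Real (F : FusionSystem (⊤ : Subgroup Ω)) (G₀ : Type v) [Group G₀] where
  ι₀ : Ω →* G₀
  inj : Function.Injective ι₀
  real : ∀ (P : Subgroup Ω) (φ : P →* Ω),
    φ ∈ F.Hom P ↔ ∃ g : G₀, ∀ x : P, ι₀ (φ x) = g * ι₀ x * g⁻¹

/-- from the Prelude form -/
def Real.ofRealizedBy {F : FusionSystem (⊤ : Subgroup Ω)} {G₀ : Type v} [Group G₀]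
    {ι : (⊤ : Subgroup Ω) →* G₀} (h : F.IsRealizedBy ι) : Real F G₀ where
  ι₀ := ι.comp ((MonoidHom.id Ω).codRestrict ⊤ (fun s => Subgroup.mem_top s))
  inj := by
    intro a b hab
    have := h.1 hab
    exact congrArg Subtype.val this
  real := by
    intro P φ
    exact h.2 P le_top φ (fun x => Subgroup.mem_top _)

/-- Lemma N: a subgroup normal in the system has normal image in a model. -/
theorem map_normal_of_isNormal {F : FusionSystem (⊤ : Subgroup Ω)} {G₀ : Type v} [Group G₀]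
    (r : Real F G₀) (R : Subgroup G₀) [hRn : R.Normal] (hRr : R ≤ r.ι₀.range)
    (hRc : Subgroup.centralizer (R : Set G₀) ≤ R) {Q : Subgroup Ω} (hQ : F.IsNormal Q) :
    (Q.map r.ι₀).Normal := by
  have hQnorm : Q.Normal := by
    rw [← Subgroup.normalizer_eq_top_iff]
    exact top_le_iff.mp (le_normalizer_of_isNormal F hQ)
  constructor
  rintro _ ⟨q, hq, rfl⟩ g
  -- the conjugation by `g` on `R`, as a map of the system
  let R' : Subgroup Ω := R.comap r.ι₀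
  have hex : ∀ x : R', ∃ y : Ω, r.ι₀ y = g * r.ι₀ x * g⁻¹ := by
    intro x
    have : g * r.ι₀ x * g⁻¹ ∈ R := hRn.conj_mem _ x.2 g
    obtain ⟨y, hy⟩ := hRr this
    exact ⟨y, hy⟩
  choose f hf using hex
  let φ : R' →* Ω := MonoidHom.mk' f (by
    intro a b
    apply r.inj
    rw [map_mul, hf, hf, hf]
    simp only [Subgroup.coe_mul, map_mul]
    group)
  have hφ : φ ∈ F.Hom R' := (r.real R' φ).mpr ⟨g, fun x => hf x⟩
  obtain ⟨ψ, hψ, hext, hmap⟩ := hQ.2 R' φ hφ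
  obtain ⟨g', hg'⟩ := (r.real _ ψ).mp hψ
  -- `g⁻¹ g'` centralizes `R`
  have hcen : g⁻¹ * g' ∈ Subgroup.centralizer (R : Set G₀) := by
    rw [Subgroup.mem_centralizer_iff]
    intro k hk
    obtain ⟨x, rfl⟩ := hRr hk
    have hxR' : x ∈ R' := hk
    have h1 := hg' (Subgroup.inclusion le_sup_left ⟨x, hxR'⟩)
    rw [hext] at h1
    have h2 : r.ι₀ (φ ⟨x, hxR'⟩) = g * r.ι₀ x * g⁻¹ := hf ⟨x, hxR'⟩
    rw [h2] at h1
    have h1' : g * r.ι₀ x * g⁻¹ = g' * r.ι₀ x * g'⁻¹ := h1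
    calc r.ι₀ x * (g⁻¹ * g') = g⁻¹ * (g * r.ι₀ x * g⁻¹) * g' := by group
      _ = g⁻¹ * (g' * r.ι₀ x * g'⁻¹) * g' := by rw [h1']
      _ = g⁻¹ * g' * r.ι₀ x := by group
  obtain ⟨c, hc⟩ := hRr (hRc hcen)
  -- now compute
  have hcq : c⁻¹ * q * c ∈ Q := by
    have := hQnorm.conj_mem q hq c⁻¹
    simpa using this
  have hmem : c⁻¹ * q * c ∈ R' ⊔ Q := (le_sup_right : Q ≤ R' ⊔ Q) hcq
  have h3 := hg' ⟨c⁻¹ * q * c, hmem⟩
  have h4 : ψ ⟨c⁻¹ * q * c, hmem⟩ ∈ Q := by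
    have h4' : ψ ⟨c⁻¹ * q * c, hmem⟩ ∈ (Q.subgroupOf (R' ⊔ Q)).map ψ :=
      ⟨⟨c⁻¹ * q * c, hmem⟩, hcq, rfl⟩
    rw [hmap] at h4'
    exact h4'
  refine ⟨ψ ⟨c⁻¹ * q * c, hmem⟩, h4, ?_⟩
  rw [h3]
  have h5 : g' = g * r.ι₀ c := by rw [hc]; group
  rw [h5]
  simp only [map_mul, map_inv]
  group

/-! ### The comparison isomorphism -/

namespace Ctx

variable {p : ℕ} (C : Ctx Ω p) {G₀ : Type v} [Group G₀] (r : Real C.F G₀)
  [hn : (C.Q.map r.ι₀).Normal] [Finite Ω] [Fact p.Prime]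

/-- `Q` and its image -/
noncomputable def eQ : C.Q ≃* (C.Q.map r.ι₀ : Subgroup G₀) := C.Q.equivMapOfInjective r.ι₀ r.inj

theorem eQ_coe (q : C.Q) : ((C.eQ r q : (C.Q.map r.ι₀ : Subgroup G₀)) : G₀) = r.ι₀ q :=
  Subgroup.coe_equivMapOfInjective_apply _ _ _ _

/-- action of the model on `Q` -/
noncomputable def Γ₀' : G₀ →* MulAut C.Q :=
  (MulAut.congr (C.eQ r).symm).toMonoidHom.comp (MulAut.conjNormal (H := C.Q.map r.ι₀))

theorem Γ₀'_apply (g : G₀) (q : C.Q) : r.ι₀ ((C.Γ₀' r g q : C.Q) : Ω) = g * r.ι₀ q * g⁻¹ := by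
  have h1 : C.Γ₀' r g q = (C.eQ r).symm (MulAut.conjNormal g (C.eQ r q)) := rfl
  rw [h1, ← C.eQ_coe r, MulEquiv.apply_symm_apply, MulAut.conjNormal_apply, C.eQ_coe r]

theorem Γ₀'_mem (g : G₀) : C.Γ₀' r g ∈ C.F.autGroup C.Q := by
  rw [mem_autGroup_iff C.F le_top]
  rw [r.real]
  exact ⟨g, fun x => C.Γ₀'_apply r g x⟩

/-- action of the model on `Q`, in `Aut_F(Q)` -/
noncomputable def Γ₀ : G₀ →* C.A := (C.Γ₀' r).codRestrict _ (C.Γ₀'_mem r)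

theorem Γ₀_apply (g : G₀) (q : C.Q) :
    r.ι₀ ((((C.Γ₀ r g : C.A) : MulAut C.Q) q : C.Q) : Ω) = g * r.ι₀ q * g⁻¹ :=
  C.Γ₀'_apply r g q

theorem Γ₀_ι (s : Ω) : C.Γ₀ r (r.ι₀ s) = C.π s := by
  apply C.A_ext
  intro q
  apply r.inj
  rw [C.Γ₀_apply, C.π_apply]
  simp only [map_mul, map_inv]

theorem Γ₀_surjective : Function.Surjective (C.Γ₀ r) := by
  intro a
  have h := C.autHom_mem a
  rw [r.real] at h
  obtain ⟨g, hg⟩ := h
  refine ⟨g, ?_⟩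
  apply C.A_ext
  intro q
  apply r.inj
  rw [C.Γ₀_apply]
  exact (hg q).symm

theorem Γ₀_ker (hc : Subgroup.centralizer ((C.Q.map r.ι₀ : Subgroup G₀) : Set G₀) ≤ C.Q.map r.ι₀)
    (g : G₀) (h : C.Γ₀ r g = 1) : ∃ z : C.M, g = r.ι₀ (C.i z) := by
  have hgc : g ∈ Subgroup.centralizer ((C.Q.map r.ι₀ : Subgroup G₀) : Set G₀) := by
    rw [Subgroup.mem_centralizer_iff]
    rintro _ ⟨q, hq, rfl⟩
    have h1 := C.Γ₀_apply r g ⟨q, hq⟩
    rw [h] at h1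
    have h1' : r.ι₀ q = g * r.ι₀ q * g⁻¹ := h1
    calc r.ι₀ q * g = (g * r.ι₀ q * g⁻¹) * g := by rw [← h1']
      _ = g * r.ι₀ q := by group
  obtain ⟨q, hq, rfl⟩ := hc hgc
  have h2 : C.π q = 1 := by rw [← C.Γ₀_ι r, h]
  obtain ⟨z, hz⟩ := C.mem_range_i_of_π q h2
  exact ⟨z, by rw [hz]⟩

section Main

theorem exists_γ (y : C.X) :
    ∃ γ : G₀, ∀ u : C.Na (C.t₀ y), r.ι₀ (C.ext (C.t₀ y) u) = γ * r.ι₀ u * γ⁻¹ :=
  (r.real _ _).mp (C.ext_mem _)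

/-- elements realizing the receptive extensions -/
noncomputable def γ (y : C.X) : G₀ := (C.exists_γ r y).choose

theorem hγ (y : C.X) (u : C.Na (C.t₀ y)) :
    r.ι₀ (C.ext (C.t₀ y) u) = C.γ r y * r.ι₀ u * (C.γ r y)⁻¹ :=
  (C.exists_γ r y).choose_spec u

theorem Γ₀_γ (y : C.X) : C.Γ₀ r (C.γ r y) = C.t₀ y := by
  apply C.A_ext
  intro q
  apply r.inj
  rw [C.Γ₀_apply]
  have h := C.hγ r y ⟨q, C.Q_le_Na _ q.2⟩
  rw [C.ext_Q _ q q.2] at h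
  exact h.symm

/-- lifts of the adapted transversal -/
noncomputable def τ (x : C.X) : G₀ := C.γ r (C.rep x) * r.ι₀ (C.n x)

theorem Γ₀_τ (x : C.X) : C.Γ₀ r (C.τ r x) = C.t x := by
  unfold τ t
  rw [map_mul, C.Γ₀_γ, C.Γ₀_ι]

variable (hc : Subgroup.centralizer ((C.Q.map r.ι₀ : Subgroup G₀) : Set G₀) ≤ C.Q.map r.ι₀)
include hc

theorem mem_range_of_Γ₀ (g : G₀) (h : C.Γ₀ r g ∈ C.Pbar) : g ∈ r.ι₀.range := by
  obtain ⟨s, hs⟩ := h
  obtain ⟨z, hz⟩ := C.Γ₀_ker r hc (g * (r.ι₀ s)⁻¹) (by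
    rw [map_mul, map_inv, C.Γ₀_ι, ← hs, mul_inv_cancel])
  refine ⟨C.i z * s, ?_⟩
  rw [map_mul, ← hz]
  group

theorem exists_f (g : G₀) (x : C.X) :
    ∃ s : Ω, r.ι₀ s = C.τ r x * g * (C.τ r (C.ra x (C.Γ₀ r g)))⁻¹ := by
  apply C.mem_range_of_Γ₀ r hc
  rw [map_mul, map_mul, map_inv, C.Γ₀_τ, C.Γ₀_τ]
  exact C.data.cocycle_mem x (C.Γ₀ r g)

/-- components of the comparison map -/
noncomputable def fΨ (g : G₀) (x : C.X) : Ω := (C.exists_f r hc g x).choose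

theorem ι₀_fΨ (g : G₀) (x : C.X) :
    r.ι₀ (C.fΨ r hc g x) = C.τ r x * g * (C.τ r (C.ra x (C.Γ₀ r g)))⁻¹ :=
  (C.exists_f r hc g x).choose_spec

theorem π_fΨ (g : G₀) (x : C.X) :
    C.π (C.fΨ r hc g x) = C.t x * C.Γ₀ r g * (C.t (C.ra x (C.Γ₀ r g)))⁻¹ := by
  rw [← C.Γ₀_ι r, C.ι₀_fΨ, map_mul, map_mul, map_inv, C.Γ₀_τ, C.Γ₀_τ]

/-- the comparison map into the big extension -/
noncomputable def Ψ : G₀ →* C.data.E :=
  MonoidHom.mk' (fun g => ⟨⟨C.fΨ r hc g, C.Γ₀ r g⟩, fun x => C.π_fΨ r hc g x⟩) (by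
    intro g g'
    apply Subtype.ext
    apply SemidirectProduct.ext
    · funext x
      show C.fΨ r hc (g * g') x = C.fΨ r hc g x * C.fΨ r hc g' (C.ra x (C.Γ₀ r g))
      apply r.inj
      rw [map_mul, C.ι₀_fΨ, C.ι₀_fΨ, C.ι₀_fΨ, map_mul, ← C.ra_mul]
      group
    · show C.Γ₀ r (g * g') = C.Γ₀ r g * C.Γ₀ r g'
      exact map_mul _ _ _)

theorem Ψ_right (g : G₀) : ((C.Ψ r hc g : C.data.E) : C.data.W).right = C.Γ₀ r g := rfl

theorem Ψ_left (g : G₀) (x : C.X) :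
    ((C.Ψ r hc g : C.data.E) : C.data.W).left x = C.fΨ r hc g x := rfl

theorem Ψ_ι (s : Ω) : C.Ψ r hc (r.ι₀ s) = C.data.j s := by
  apply Subtype.ext
  apply SemidirectProduct.ext
  · funext x
    show C.fΨ r hc (r.ι₀ s) x = C.jf s x
    apply r.inj
    rw [C.ι₀_fΨ, C.Γ₀_ι]
    unfold τ jf
    rw [C.hrep, C.dl_of_mem _ _ (C.jf_mem s x), C.hγ]
    simp only [map_mul, map_inv]
    group
  · show C.Γ₀ r (r.ι₀ s) = C.π s
    exact C.Γ₀_ι r s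

/-- the comparison map into the standard model -/
noncomputable def Ψq : G₀ →* C.data.G := (QuotientGroup.mk' _).comp (C.Ψ r hc)

theorem Γ_Ψq (g : G₀) : C.data.Γ (C.Ψq r hc g) = C.Γ₀ r g := rfl

theorem Ψq_ι (s : Ω) : C.Ψq r hc (r.ι₀ s) = C.data.ι s := by
  show (QuotientGroup.mk (C.Ψ r hc (r.ι₀ s)) : C.data.G) = QuotientGroup.mk (C.data.j s)
  rw [C.Ψ_ι]

theorem Ψq_bijective : Function.Bijective (C.Ψq r hc) := by
  constructor
  · rw [injective_iff_map_eq_one]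
    intro g hg
    have h1 : C.Γ₀ r g = 1 := by rw [← C.Γ_Ψq r hc, hg, map_one]
    obtain ⟨z, rfl⟩ := C.Γ₀_ker r hc g h1
    rw [C.Ψq_ι] at hg
    have h2 : C.i z = 1 := C.data.ι_injective (hg.trans (map_one _).symm)
    rw [h2, map_one]
  · intro w
    obtain ⟨g, hg⟩ := C.Γ₀_surjective r (C.data.Γ w)
    obtain ⟨z, hz⟩ := C.data.ker_Γ (w * (C.Ψq r hc g)⁻¹) (by
      rw [map_mul, map_inv, C.Γ_Ψq, hg, mul_inv_cancel])
    refine ⟨r.ι₀ (C.i z) * g, ?_⟩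
    rw [map_mul, C.Ψq_ι]
    have hz' : w * (C.Ψq r hc g)⁻¹ = C.data.ι (C.i z) := hz
    rw [← hz']
    group

/-- Every model over `⊤` (with `Q` corresponding to a self-centralizing normal subgroup) is
isomorphic to the standard one, compatibly with the embeddings. -/
theorem exists_equiv_standard :
    ∃ e : G₀ ≃* C.data.G, ∀ s : Ω, e (r.ι₀ s) = C.data.ι s :=
  ⟨MulEquiv.ofBijective (C.Ψq r hc) (C.Ψq_bijective r hc), fun s => C.Ψq_ι r hc s⟩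

end Main

end Ctx

/-! ### Models over `⊤` -/

section Top

variable {p : ℕ} [Fact p.Prime] [Finite Ω]

/-- data extracted from a model over `⊤` -/
theorem model_facts (F : FusionSystem (⊤ : Subgroup Ω)) {G₀ : Type v} [Group G₀]
    (ι : (⊤ : Subgroup Ω) →* G₀) (h : F.IsModel p G₀ ι) :
    let r := Real.ofRealizedBy h.2.1
    pCore p G₀ ≤ r.ι₀.range ∧ F.IsNormal ((pCore p G₀).comap r.ι₀) ∧
      ((pCore p G₀).comap r.ι₀).map r.ι₀ = pCore p G₀ := by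
  intro r
  obtain ⟨hfin, hreal, ⟨T, hT⟩, hC⟩ := h
  have hrange : r.ι₀.range = ι.range := by
    ext g
    constructor
    · rintro ⟨s, rfl⟩
      exact ⟨_, rfl⟩
    · rintro ⟨s, rfl⟩
      exact ⟨s.1, rfl⟩
  have hle : pCore p G₀ ≤ r.ι₀.range := by
    rw [hrange, ← hT]
    exact Cfsg.Agent.Helper14.pCore_le_sylow p T
  refine ⟨hle, ?_, Subgroup.map_comap_eq_self hle⟩
  have h1 := pCore_isNormal_of_isModel p F ι ⟨hfin, hreal, ⟨T, hT⟩, hC⟩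
  have e : imageAlong (realInv ι hreal.1) (pCore p G₀) = (pCore p G₀).comap r.ι₀ := by
    ext x
    rw [mem_imageAlong_iff, Subgroup.mem_comap]
    constructor
    · rintro ⟨t, ht, rfl⟩
      have h2 := apply_realInv ι hreal.1 t
      have h3 : r.ι₀ (realInv ι hreal.1 t) = ι ⟨realInv ι hreal.1 t, realInv_mem ι hreal.1 t⟩ := rfl
      rw [h3, h2]
      exact ht
    · intro hx
      refine ⟨⟨ι ⟨x, Subgroup.mem_top x⟩, ⟨_, rfl⟩⟩, hx, ?_⟩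
      exact realInv_apply ι hreal.1 ⟨x, Subgroup.mem_top x⟩ _
  rw [e] at h1
  exact h1

theorem core_comap_le (hS : IsPGroup p (⊤ : Subgroup Ω)) (F : FusionSystem (⊤ : Subgroup Ω))
    {Ga : Type*} {Gb : Type*} [Group Ga] [Group Gb] (ra : Real F Ga) (rb : Real F Gb)
    (hna : F.IsNormal ((pCore p Ga).comap ra.ι₀)) (hleb : pCore p Gb ≤ rb.ι₀.range)
    (hcb : Subgroup.centralizer ((pCore p Gb : Subgroup Gb) : Set Gb) ≤ pCore p Gb) :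
    (pCore p Ga).comap ra.ι₀ ≤ (pCore p Gb).comap rb.ι₀ := by
  have hN := map_normal_of_isNormal rb (pCore p Gb) hleb hcb hna
  have hΩp : IsPGroup p Ω :=
    hS.of_surjective (⊤ : Subgroup Ω).subtype (fun s => ⟨⟨s, Subgroup.mem_top s⟩, rfl⟩)
  have hP : IsPGroup p (((pCore p Ga).comap ra.ι₀).map rb.ι₀) :=
    (hΩp.to_subgroup _).map rb.ι₀
  have hle : ((pCore p Ga).comap ra.ι₀).map rb.ι₀ ≤ pCore p Gb := le_sSup ⟨hN, hP⟩
  intro x hx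
  rw [Subgroup.mem_comap]
  exact hle ⟨x, hx, rfl⟩

/-- Uniqueness of models over `⊤`. -/
theorem unique_top (hS : IsPGroup p (⊤ : Subgroup Ω)) (F : FusionSystem (⊤ : Subgroup Ω))
    (hsat : F.IsSaturated p) {G₁ : Type*} {G₂ : Type*} [Group G₁] [Group G₂]
    (ι₁ : (⊤ : Subgroup Ω) →* G₁) (ι₂ : (⊤ : Subgroup Ω) →* G₂)
    (h₁ : F.IsModel p G₁ ι₁) (h₂ : F.IsModel p G₂ ι₂) :
    ∃ φ : G₁ ≃* G₂, ∀ x : (⊤ : Subgroup Ω), φ (ι₁ x) = ι₂ x := by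
  obtain ⟨hle₁, hn₁, hm₁⟩ := model_facts F ι₁ h₁
  obtain ⟨hle₂, hn₂, hm₂⟩ := model_facts F ι₂ h₂
  set r₁ := Real.ofRealizedBy h₁.2.1 with hr₁
  set r₂ := Real.ofRealizedBy h₂.2.1 with hr₂
  have hc₁ := h₁.2.2.2
  have hc₂ := h₂.2.2.2
  have hQ : (pCore p G₁).comap r₁.ι₀ = (pCore p G₂).comap r₂.ι₀ :=
    le_antisymm (core_comap_le hS F r₁ r₂ hn₁ hle₂ hc₂) (core_comap_le hS F r₂ r₁ hn₂ hle₁ hc₁)
  -- centric
  have hQc : F.IsCentric ((pCore p G₁).comap r₁.ι₀) := by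
    refine ⟨le_top, fun Q' hQ' => ?_⟩
    rw [eq_of_isConj_of_isNormal F hn₁ hQ']
    intro x hx
    rw [Subgroup.mem_comap]
    apply hc₁
    rw [Subgroup.mem_centralizer_iff]
    intro k hk
    rw [← hm₁] at hk
    obtain ⟨q, hq, rfl⟩ := hk
    have := Subgroup.mem_centralizer_iff.mp hx.2 q hq
    rw [← map_mul, ← map_mul, this]
  let C : Ctx Ω p := ⟨F, (pCore p G₁).comap r₁.ι₀, hS, hsat, hn₁, hQc⟩
  have hmap₁ : (C.Q.map r₁.ι₀ : Subgroup G₁) = pCore p G₁ := hm₁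
  have hmap₂ : (C.Q.map r₂.ι₀ : Subgroup G₂) = pCore p G₂ := by
    show ((pCore p G₁).comap r₁.ι₀).map r₂.ι₀ = _
    rw [hQ]
    exact hm₂
  have hnn₁ : (C.Q.map r₁.ι₀ : Subgroup G₁).Normal := by
    rw [hmap₁]
    exact Cfsg.Agent.Helper14.pCore_normal p
  have hnn₂ : (C.Q.map r₂.ι₀ : Subgroup G₂).Normal := by
    rw [hmap₂]
    exact Cfsg.Agent.Helper14.pCore_normal p
  have hcc₁ : Subgroup.centralizer ((C.Q.map r₁.ι₀ : Subgroup G₁) : Set G₁) ≤ C.Q.map r₁.ι₀ := by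
    rw [hmap₁]
    exact hc₁
  have hcc₂ : Subgroup.centralizer ((C.Q.map r₂.ι₀ : Subgroup G₂) : Set G₂) ≤ C.Q.map r₂.ι₀ := by
    rw [hmap₂]
    exact hc₂
  obtain ⟨e₁, he₁⟩ := C.exists_equiv_standard r₁ hcc₁
  obtain ⟨e₂, he₂⟩ := C.exists_equiv_standard r₂ hcc₂
  refine ⟨e₁.trans e₂.symm, fun x => ?_⟩
  have h3 : ι₁ x = r₁.ι₀ x.1 := rfl
  have h4 : ι₂ x = r₂.ι₀ x.1 := rfl
  rw [h3, h4, MulEquiv.trans_apply, he₁, ← he₂, MulEquiv.symm_apply_apply]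

end Top

end Cfsg.Agent.Helper26.ModelFusion
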