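import Mathlib
import Cfsg.Agent.Helper26.EmbedE
import Cfsg.Agent.Helper26.Involves
import Cfsg.Agent.S5091

set_option autoImplicit false
set_option linter.style.haveILetI false
set_option linter.unusedSectionVars false
set_option linter.unusedVariables false

/-! The embedding theorem: the model of a saturated subsystem `E` of `F` with a normal subgroup `R`
that is centric in `F` embeds in the model of the normalizer system of any fully normalized
conjugate of `R`. -/

namespace Cfsg.Agent.Helper26.Embed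

open Cfsg Cfsg.FusionSystem Cfsg.Agent.Helper25 Cfsg.Agent.Helper26.MasterRed
  Cfsg.Agent.Helper26.ModelAut Cfsg.Agent.Helper26.WC

universe u

theorem embed {p : ℕ} [Fact p.Prime] {Ω : Type u} [Group Ω] {S : Subgroup Ω} [Finite S]
    (hS : IsPGroup p S) (F : FusionSystem S) (hF : F.IsSaturated p)
    {T : Subgroup Ω} (E : FusionSystem T) (hE : E.IsSaturated p)
    (hEF : ∀ (P : Subgroup Ω) (φ : P →* Ω), φ ∈ E.Hom P → φ ∈ F.Hom P)
    {R : Subgroup Ω} (hRE : E.IsNormal R) (hRc : F.IsCentric R)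
    {L' : Type u} [Group L'] (ι' : T →* L') (hM' : E.IsModel p L' ι')
    {R₁ : Subgroup Ω} (hconj : F.IsConj R R₁) (hR₁fn : F.IsFullyNormalized R₁)
    (N₁ : FusionSystem (normalizerIn S R₁)) (hN₁ : F.IsNormalizerSystem R₁ N₁)
    {L₁ : Type u} [Group L₁] (ι₁ : ↥(normalizerIn S R₁) →* L₁) (hM₁ : N₁.IsModel p L₁ ι₁) :
    ∃ f : L' →* L₁, Function.Injective f := by
  have hTS : T ≤ S := (F.le_of_mem (hEF T _ (subtype_mem E le_rfl))).1
  haveI : Finite T := finite_of_le hTS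
  have hTp : IsPGroup p T := isPGroup_of_le hS hTS
  have hRT : R ≤ T := hRE.1
  have hTN : T ≤ Subgroup.normalizer (R : Set Ω) := le_normalizer_of_isNormal E hRE
  obtain ⟨χ₀, hχ₀, hχ₀N, hχ₀R⟩ := exists_normalizer_hom_of_fullyNormalized p hS F hF hR₁fn hconj
  let D : Setup p S :=
    { F := F, T := T, E := E, R := R, X := normalizerIn S R, χ := χ₀, R₁ := R₁, N₁ := N₁,
      L₁ := L₁, instL := inferInstance, ι₁ := ι₁, hS := hS, hF := hF,
      hTX := fun t ht => ⟨hTS ht, hTN ht⟩, hE := hE, hEF := hEF, hRE := hRE, hχ := hχ₀,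
      hχN := hχ₀N, hχR := hχ₀R, hR₁c := hRc.2 R₁ hconj, hN₁ := hN₁,
      hN₁sat := normalizerSystem_isSaturated p hS F hF R₁ hR₁fn N₁ hN₁, hM₁ := hM₁ }
  have hMH : E.IsModel p D.H D.jH := D.isModel
  have hEcon : E.IsConstrained p := by
    refine ⟨hE, R, hRE, hRT, fun Q' hQ' => ?_⟩
    rw [eq_of_isConj_of_isNormal E hRE hQ']
    intro x hx
    exact hRc.2 R (isConj_refl F hRc.1) ⟨hTS hx.1, hx.2⟩
  obtain ⟨e, -⟩ := Cfsg.Agent.S5091.result p hTp E hEcon ι' D.jH hM' hMH
  exact ⟨D.H.subtype.comp e.toMonoidHom, D.H.subtype_injective.comp e.injective⟩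

/-- the form used: freeness of the big model passes to the small one -/
theorem not_involves_of_embed {p : ℕ} [Fact p.Prime] {Ω : Type u} [Group Ω] {S : Subgroup Ω}
    [Finite S]
    (hS : IsPGroup p S) (F : FusionSystem S) (hF : F.IsSaturated p)
    {T : Subgroup Ω} (E : FusionSystem T) (hE : E.IsSaturated p)
    (hEF : ∀ (P : Subgroup Ω) (φ : P →* Ω), φ ∈ E.Hom P → φ ∈ F.Hom P)
    {R : Subgroup Ω} (hRE : E.IsNormal R) (hRc : F.IsCentric R)
    {L' : Type u} [Group L'] (ι' : T →* L') (hM' : E.IsModel p L' ι')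
    {R₁ : Subgroup Ω} (hconj : F.IsConj R R₁) (hR₁fn : F.IsFullyNormalized R₁)
    (N₁ : FusionSystem (normalizerIn S R₁)) (hN₁ : F.IsNormalizerSystem R₁ N₁)
    {L₁ : Type u} [Group L₁] (ι₁ : ↥(normalizerIn S R₁) →* L₁) (hM₁ : N₁.IsModel p L₁ ι₁)
    {Hh : Type*} [Group Hh] (hfree : ¬ Involves Hh L₁) : ¬ Involves Hh L' := by
  obtain ⟨f, hf⟩ := embed hS F hF E hE hEF hRE hRc ι' hM' hconj hR₁fn N₁ hN₁ ι₁ hM₁
  exact fun h => hfree (involves_of_injective f hf h)

end Cfsg.Agent.Helper26.Embed
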