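import Mathlib
import Cfsg.Agent.Helper25.FusionChain
import Cfsg.Agent.Helper25.FusionNormal
import Cfsg.Agent.Helper14.PCore
import Cfsg.Agent.S5077
import Cfsg.Agent.S5079

set_option autoImplicit false

/-! A centric subgroup meeting a normal subsystem in a non-centric subgroup is not radical. -/

namespace Cfsg.Agent.Helper26

open Cfsg Cfsg.FusionSystem Cfsg.Agent.Helper25

section Stab2

variable {Q : Type*} [Group Q]

/-- the automorphisms in `A` fixing `R` elementwise and acting trivially on `Q` modulo `R` -/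
def stab2 (A : Subgroup (MulAut Q)) (R : Subgroup Q) : Subgroup A where
  carrier := {a | (∀ x ∈ R, a.1 x = x) ∧ ∀ x, x⁻¹ * a.1 x ∈ R}
  one_mem' := ⟨fun x _ => rfl, fun x => by
    show x⁻¹ * x ∈ R
    rw [inv_mul_cancel]
    exact R.one_mem⟩
  mul_mem' := by
    rintro a b ⟨ha1, ha2⟩ ⟨hb1, hb2⟩
    refine ⟨fun x hx => ?_, fun x => ?_⟩
    · show a.1 (b.1 x) = x
      rw [hb1 x hx, ha1 x hx]
    · show x⁻¹ * a.1 (b.1 x) ∈ R
      have e : x⁻¹ * a.1 (b.1 x) = (x⁻¹ * b.1 x) * ((b.1 x)⁻¹ * a.1 (b.1 x)) := by group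
      rw [e]
      exact R.mul_mem (hb2 x) (ha2 _)
  inv_mem' := by
    rintro a ⟨ha1, ha2⟩
    refine ⟨fun x hx => ?_, fun x => ?_⟩
    · show a.1⁻¹ x = x
      rw [MulAut.inv_apply]
      exact (MulEquiv.symm_apply_eq a.1).mpr (ha1 x hx).symm
    · show x⁻¹ * a.1⁻¹ x ∈ R
      have h1 := ha2 (a.1⁻¹ x)
      rw [MulAut.apply_inv_self] at h1
      have e : x⁻¹ * a.1⁻¹ x = ((a.1⁻¹ x)⁻¹ * x)⁻¹ := by group
      rw [e]
      exact R.inv_mem h1

theorem stab2_normal (A : Subgroup (MulAut Q)) (R : Subgroup Q)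
    (hinv : ∀ a ∈ A, ∀ x ∈ R, a x ∈ R) : (stab2 A R).Normal := by
  constructor
  rintro a ⟨ha1, ha2⟩ g
  have hginv : ∀ x ∈ R, g.1⁻¹ x ∈ R := fun x hx => hinv _ (A.inv_mem g.2) x hx
  refine ⟨fun x hx => ?_, fun x => ?_⟩
  · show g.1 (a.1 (g.1⁻¹ x)) = x
    rw [ha1 _ (hginv x hx), MulAut.apply_inv_self]
  · show x⁻¹ * g.1 (a.1 (g.1⁻¹ x)) ∈ R
    have h1 := hinv g.1 g.2 _ (ha2 (g.1⁻¹ x))
    rw [map_mul, map_inv, MulAut.apply_inv_self] at h1
    exact h1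

theorem stab2_isPGroup [Finite Q] (p : ℕ) [Fact p.Prime] (A : Subgroup (MulAut Q)) (R : Subgroup Q)
    (hR : IsPGroup p R) : IsPGroup p (stab2 A R) := by
  obtain ⟨n, hn⟩ := IsPGroup.iff_card.mp hR
  rintro ⟨a, ha1, ha2⟩
  refine ⟨n, ?_⟩
  apply Subtype.ext
  apply Subtype.ext
  show (a.1 ^ (p ^ n)) = 1
  have hpow : ∀ (k : ℕ) (x : Q), (a.1 ^ k) x = x * (x⁻¹ * a.1 x) ^ k := by
    intro k
    induction k with
    | zero => intro x; simp
    | succ k ih =>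
      intro x
      rw [pow_succ', MulAut.mul_apply, ih, map_mul, map_pow, ha1 _ (ha2 x), pow_succ', ← mul_assoc,
        mul_inv_cancel_left]
  ext x
  rw [hpow, MulAut.one_apply]
  have h1 : (⟨x⁻¹ * a.1 x, ha2 x⟩ : R) ^ (p ^ n) = 1 := by
    rw [← hn]
    exact pow_card_eq_one'
  have h2 : (x⁻¹ * a.1 x) ^ (p ^ n) = 1 := by
    have := congrArg Subtype.val h1
    simpa using this
  rw [h2, mul_one]

end Stab2

variable {Ω : Type*} [Group Ω] {S : Subgroup Ω}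

/-- maps of the system reflect membership in a strongly closed subgroup -/
theorem mem_iff_of_stronglyClosed (F : FusionSystem S) {T : Subgroup Ω} (hT : F.StronglyClosed T)
    {P : Subgroup Ω} {φ : P →* Ω} (hφ : φ ∈ F.Hom P) (x : P) : φ x ∈ T ↔ (x : Ω) ∈ T := by
  have key : ∀ {P' : Subgroup Ω} {φ' : P' →* Ω}, φ' ∈ F.Hom P' → ∀ x' : P', (x' : Ω) ∈ T →
      φ' x' ∈ T := by
    intro P' φ' hφ' x' hx'
    have h1 := restrict_mem F (inf_le_left : P' ⊓ T ≤ P') hφ'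
    exact hT.2 (P' ⊓ T) inf_le_right _ h1 ⟨x', x'.2, hx'⟩
  constructor
  · intro h
    obtain ⟨χ, hχ, hinv, -⟩ := exists_inv_mem F hφ rfl
    have h1 := key hχ ⟨φ x, ⟨x, rfl⟩⟩ h
    rwa [hinv x ⟨x, rfl⟩] at h1
  · exact key hφ x

theorem mem_normalizer_of_conj_mem {G : Type*} [Group G] {H : Subgroup G} {g : G}
    (h1 : ∀ x ∈ H, g * x * g⁻¹ ∈ H) (h2 : ∀ x ∈ H, g⁻¹ * x * g ∈ H) :
    g ∈ Subgroup.normalizer (H : Set G) := by
  rw [Subgroup.mem_normalizer_iff]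
  intro x
  constructor
  · exact h1 x
  · intro hx
    have := h2 _ hx
    have e : g⁻¹ * (g * x * g⁻¹) * g = x := by group
    rwa [e] at this

/-- the isomorphism `Aut_F(P) ≃ Aut_F(Q)` attached to an `F`-isomorphism `P ≃ Q` -/
noncomputable def autGroupHomOfHom (F : FusionSystem S) {P Q : Subgroup Ω} {φ : P →* Ω}
    (hφ : φ ∈ F.Hom P) (hr : φ.range = Q) : ↥(F.autGroup P) →* ↥(F.autGroup Q) :=
  ((MulAut.congr (isoOfHom φ (F.injective_of_mem hφ) hr)).toMonoidHom.comp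
    (F.autGroup P).subtype).codRestrict (F.autGroup Q)
    (fun β => congr_mem_autGroup F hφ hr β.2)

theorem autGroupHomOfHom_bijective [Finite S] (F : FusionSystem S) {P Q : Subgroup Ω} {φ : P →* Ω}
    (hφ : φ ∈ F.Hom P) (hr : φ.range = Q) :
    Function.Bijective (autGroupHomOfHom F hφ hr) := by
  have hPS : P ≤ S := (F.le_of_mem hφ).1
  have hQS : Q ≤ S := by
    rw [← hr]
    rintro _ ⟨x, rfl⟩
    exact (F.le_of_mem hφ).2 x
  have hfinP : Finite P := finite_of_le hPS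
  have hfinQ : Finite Q := finite_of_le hQS
  have hfinAP : Finite (MulAut P) :=
    Finite.of_injective (fun e : MulAut P => (e : P → P)) (fun a b h => DFunLike.coe_injective h)
  have hfinAQ : Finite (MulAut Q) :=
    Finite.of_injective (fun e : MulAut Q => (e : Q → Q)) (fun a b h => DFunLike.coe_injective h)
  have hinj : Function.Injective (autGroupHomOfHom F hφ hr) := by
    intro a b hab
    have h1 : MulAut.congr (isoOfHom φ (F.injective_of_mem hφ) hr) (a : MulAut P) =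
        MulAut.congr (isoOfHom φ (F.injective_of_mem hφ) hr) (b : MulAut P) :=
      congrArg Subtype.val hab
    exact Subtype.ext ((MulAut.congr _).injective h1)
  have hcard : Nat.card ↥(F.autGroup P) = Nat.card ↥(F.autGroup Q) :=
    card_autGroup_eq_of_isConj F ⟨φ, hφ, hr⟩
  exact (Nat.bijective_iff_injective_and_card _).mpr ⟨hinj, hcard⟩

theorem isRadical_of_isConj [Finite S] (F : FusionSystem S) (p : ℕ) {P Q : Subgroup Ω}
    {φ : P →* Ω} (hφ : φ ∈ F.Hom P) (hr : φ.range = Q) (hP : F.IsRadical p P) :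
    F.IsRadical p Q := by
  have hQS : Q ≤ S := by
    rw [← hr]
    rintro _ ⟨x, rfl⟩
    exact (F.le_of_mem hφ).2 x
  refine ⟨hQS, ?_⟩
  set e := isoOfHom φ (F.injective_of_mem hφ) hr with he
  let G : ↥(F.autGroup P) ≃* ↥(F.autGroup Q) :=
    MulEquiv.ofBijective (autGroupHomOfHom F hφ hr) (autGroupHomOfHom_bijective F hφ hr)
  have h1 := Cfsg.Agent.Helper14.pCore_map_equiv p G
  have hcomm : (F.autGroup Q).subtype.comp G.toMonoidHom =
      (MulAut.congr e).toMonoidHom.comp (F.autGroup P).subtype := by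
    ext a x
    rfl
  rw [← h1, Subgroup.map_map, hcomm, ← Subgroup.map_map, hP.2]
  ext β
  constructor
  · rintro ⟨_, ⟨x, rfl⟩, rfl⟩
    refine ⟨e x, ?_⟩
    ext y
    simp [MulAut.congr, MulAut.conj_apply]
  · rintro ⟨y, rfl⟩
    refine ⟨MulAut.conj (e.symm y), ⟨_, rfl⟩, ?_⟩
    ext z
    simp [MulAut.congr, MulAut.conj_apply]

/-- the conclusion of the main theorem -/
def HasPCoreOuter (F : FusionSystem S) (p : ℕ) (P : Subgroup Ω) : Prop :=
  ∃ φ ∈ F.Hom P, ∃ x ∈ S ⊓ Subgroup.normalizer (φ.range : Set Ω), x ∉ φ.range ∧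
    ∃ α ∈ ((pCore p ↥(F.autGroup φ.range)).map (F.autGroup φ.range).subtype :
      Subgroup (MulAut ↥φ.range)), ∀ y : ↥φ.range, ((α y : ↥φ.range) : Ω) = x * (y : Ω) * x⁻¹

theorem not_isRadical_of_hasPCoreOuter [Finite S] (F : FusionSystem S) (p : ℕ) {P : Subgroup Ω}
    (hP : F.IsCentric P) (h : HasPCoreOuter F p P) : ¬ F.IsRadical p P := by
  obtain ⟨φ, hφ, x, hx, hxP, α, hα, hαx⟩ := h
  intro hrad
  have hrad' := isRadical_of_isConj F p hφ rfl hrad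
  rw [hrad'.2] at hα
  obtain ⟨q, rfl⟩ := hα
  have hcen := hP.2 φ.range ⟨φ, hφ, rfl⟩
  have hmem : (q : Ω)⁻¹ * x ∈ centralizerIn S φ.range := by
    refine Subgroup.mem_inf.mpr ⟨S.mul_mem (S.inv_mem (hrad'.1 q.2)) hx.1, ?_⟩
    rw [Subgroup.mem_centralizer_iff]
    intro y hy
    have h1 := hαx ⟨y, hy⟩
    have h2 : ((MulAut.conj q ⟨y, hy⟩ : ↥φ.range) : Ω) = (q : Ω) * y * (q : Ω)⁻¹ := rfl
    rw [h2] at h1
    calc y * ((q : Ω)⁻¹ * x) = (q : Ω)⁻¹ * ((q : Ω) * y * (q : Ω)⁻¹) * x := by group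
      _ = (q : Ω)⁻¹ * (x * y * x⁻¹) * x := by rw [h1]
      _ = (q : Ω)⁻¹ * x * y := by group
  have h3 := hcen hmem
  apply hxP
  have e : x = (q : Ω) * ((q : Ω)⁻¹ * x) := by group
  rw [e]
  exact Subgroup.mul_mem _ q.2 h3

theorem hasPCoreOuter_of_not_centric [Finite S] (p : ℕ) [Fact p.Prime] (hS : IsPGroup p S)
    (F : FusionSystem S) (hF : F.IsSaturated p) {T : Subgroup Ω} (E : FusionSystem T)
    (hsub : E.IsSubsystemOf F) (hT : F.StronglyClosed T) (P : Subgroup Ω) (hP : F.IsCentric P)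
    (hPT : ¬ E.IsCentric (P ⊓ T)) : HasPCoreOuter F p P := by
  have hPS : P ≤ S := hP.1
  have hTS : T ≤ S := hT.1
  have hSNT : S ≤ Subgroup.normalizer (T : Set Ω) := le_normalizer_of_stronglyClosed F hT
  have hRS : P ⊓ T ≤ S := inf_le_left.trans hPS
  -- a non-self-centralizing `E`-conjugate
  have hex : ∃ Q, E.IsConj (P ⊓ T) Q ∧ ¬ centralizerIn T Q ≤ Q := by
    by_contra h
    push Not at h
    exact hPT ⟨inf_le_right, h⟩
  obtain ⟨R₃, hconjE, hnot⟩ := hex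
  have hconjF : F.IsConj (P ⊓ T) R₃ := by
    obtain ⟨χ, hχ, hr⟩ := hconjE
    exact ⟨χ, hsub _ hχ, hr⟩
  obtain ⟨c, hc, hcR₃⟩ := SetLike.not_le_iff_exists.mp hnot
  -- a fully normalized conjugate
  obtain ⟨R₂, hconj₂, hFN₂⟩ := exists_isConj_fullyNormalized F hRS
  obtain ⟨hFC₂, hFA₂⟩ := Cfsg.Agent.S5077.sylow_axiom p hS F hF R₂ hFN₂
  have hRec₂ := Cfsg.Agent.S5077.extension_axiom p hS F hF R₂ hFC₂
  obtain ⟨ψ, hψ, -, hψR⟩ := Cfsg.Agent.S5079.result p hS F R₂ (P ⊓ T) hFA₂ hRec₂ hconj₂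
  have hconj₃ : F.IsConj R₃ R₂ := isConj_trans F (isConj_symm F hconjF) hconj₂
  obtain ⟨ψ', hψ', -, hψ'R⟩ := Cfsg.Agent.S5079.result p hS F R₂ R₃ hFA₂ hRec₂ hconj₃
  have hR₃S : R₃ ≤ S := (isConj_le F hconj₃).1
  have hR₂S : R₂ ≤ S := hFN₂.1
  -- the image of `c`
  have hcN : c ∈ normalizerIn S R₃ :=
    Subgroup.mem_inf.mpr ⟨hTS hc.1, Subgroup.centralizer_le_normalizer _ hc.2⟩
  have hc'T : ψ' ⟨c, hcN⟩ ∈ T := (mem_iff_of_stronglyClosed F hT hψ' ⟨c, hcN⟩).mpr hc.1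
  have hc'cen : ψ' ⟨c, hcN⟩ ∈ Subgroup.centralizer (R₂ : Set Ω) := by
    rw [Subgroup.mem_centralizer_iff]
    intro r hr
    rw [SetLike.mem_coe, ← hψ'R] at hr
    obtain ⟨n, hn, rfl⟩ := hr
    have hn' : (n : Ω) ∈ R₃ := hn
    have h1 := (Subgroup.mem_centralizer_iff.mp hc.2) n hn'
    have h2 : n * ⟨c, hcN⟩ = ⟨c, hcN⟩ * n := Subtype.ext h1
    rw [← map_mul, ← map_mul, h2]
  have hc'R₂ : ψ' ⟨c, hcN⟩ ∉ R₂ := by
    intro h
    rw [← hψ'R] at h
    obtain ⟨n, hn, hne⟩ := h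
    have hn' : (n : Ω) ∈ R₃ := hn
    have := F.injective_of_mem hψ' hne
    rw [this] at hn'
    exact hcR₃ hn'
  -- `P` normalizes `P ⊓ T`
  have hPN : P ≤ normalizerIn S (P ⊓ T) := by
    intro x hx
    refine Subgroup.mem_inf.mpr ⟨hPS hx, ?_⟩
    have hxT := hSNT (hPS hx)
    have hxT' := hSNT (S.inv_mem (hPS hx))
    apply mem_normalizer_of_conj_mem
    · rintro y ⟨hy1, hy2⟩
      exact ⟨P.mul_mem (P.mul_mem hx hy1) (P.inv_mem hx),
        (Subgroup.mem_normalizer_iff.mp hxT y).mp hy2⟩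
    · rintro y ⟨hy1, hy2⟩
      refine ⟨P.mul_mem (P.mul_mem (P.inv_mem hx) hy1) hx, ?_⟩
      have := (Subgroup.mem_normalizer_iff.mp hxT' y).mp hy2
      rwa [inv_inv] at this
  have hφ : ψ.comp (Subgroup.inclusion hPN) ∈ F.Hom P := restrict_mem F hPN hψ
  set φ := ψ.comp (Subgroup.inclusion hPN) with hφdef
  have hP₁S : φ.range ≤ S := by
    rintro _ ⟨x, rfl⟩
    exact (F.le_of_mem hφ).2 x
  -- `φ(P) ⊓ T = R₂`
  have hP₁T : φ.range ⊓ T = R₂ := by
    ext y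
    constructor
    · rintro ⟨⟨x, rfl⟩, hyT⟩
      have hxT : (x : Ω) ∈ T := (mem_iff_of_stronglyClosed F hT hφ x).mp hyT
      rw [← hψR]
      exact ⟨Subgroup.inclusion hPN x, ⟨x.2, hxT⟩, rfl⟩
    · intro hy
      rw [← hψR] at hy
      obtain ⟨n, hn, rfl⟩ := hy
      have hn' : (n : Ω) ∈ P ⊓ T := hn
      refine Subgroup.mem_inf.mpr ⟨⟨⟨n, hn'.1⟩, ?_⟩, ?_⟩
      · show ψ (Subgroup.inclusion hPN ⟨n, hn'.1⟩) = ψ n
        congr 1
      · exact (mem_iff_of_stronglyClosed F hT hψ n).mpr hn'.2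
  -- `φ(P)` normalizes `C_T(R₂)`
  have hnormY : φ.range ≤ Subgroup.normalizer ((centralizerIn T R₂ : Subgroup Ω) : Set Ω) := by
    have key : ∀ q ∈ φ.range, ∀ y ∈ centralizerIn T R₂, q * y * q⁻¹ ∈ centralizerIn T R₂ := by
      intro q hq y hy
      have hqT := hSNT (hP₁S hq)
      refine Subgroup.mem_inf.mpr ⟨(Subgroup.mem_normalizer_iff.mp hqT y).mp hy.1, ?_⟩
      rw [Subgroup.mem_centralizer_iff]
      intro r hr
      have hr' : r ∈ φ.range ⊓ T := by rw [hP₁T]; exact hr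
      have hqr : q⁻¹ * r * q ∈ R₂ := by
        rw [← hP₁T]
        refine Subgroup.mem_inf.mpr ⟨Subgroup.mul_mem _ (Subgroup.mul_mem _ (Subgroup.inv_mem _ hq) hr'.1) hq, ?_⟩
        have := (Subgroup.mem_normalizer_iff.mp (hSNT (S.inv_mem (hP₁S hq))) r).mp hr'.2
        rwa [inv_inv] at this
      have h1 := (Subgroup.mem_centralizer_iff.mp hy.2) _ hqr
      calc r * (q * y * q⁻¹) = q * ((q⁻¹ * r * q) * y) * q⁻¹ := by group
        _ = q * (y * (q⁻¹ * r * q)) * q⁻¹ := by rw [h1]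
        _ = q * y * q⁻¹ * r := by group
    intro q hq
    apply mem_normalizer_of_conj_mem
    · exact key q hq
    · intro y hy
      have := key q⁻¹ (Subgroup.inv_mem _ hq) y hy
      rwa [inv_inv] at this
  -- the normalizer condition in `L = C_T(R₂) φ(P)`
  have hc'Y : ψ' ⟨c, hcN⟩ ∈ centralizerIn T R₂ := Subgroup.mem_inf.mpr ⟨hc'T, hc'cen⟩
  have hc'P₁ : ψ' ⟨c, hcN⟩ ∉ φ.range := by
    intro h
    apply hc'R₂
    rw [← hP₁T]
    exact Subgroup.mem_inf.mpr ⟨h, hc'T⟩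
  have hYS : centralizerIn T R₂ ≤ S := inf_le_left.trans hTS
  have hLS : centralizerIn T R₂ ⊔ φ.range ≤ S := sup_le hYS hP₁S
  have hfinL : Finite ↥(centralizerIn T R₂ ⊔ φ.range) := finite_of_le hLS
  have hLp : IsPGroup p ↥(centralizerIn T R₂ ⊔ φ.range) :=
    hS.of_injective (Subgroup.inclusion hLS) (Subgroup.inclusion_injective _)
  have hnil : Group.IsNilpotent ↥(centralizerIn T R₂ ⊔ φ.range) := hLp.isNilpotent
  have hNC := Group.normalizerCondition_of_isNilpotent (G := ↥(centralizerIn T R₂ ⊔ φ.range))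
  have hlt : (φ.range).subgroupOf (centralizerIn T R₂ ⊔ φ.range) < ⊤ := by
    rw [lt_top_iff_ne_top]
    intro h
    have : (⟨ψ' ⟨c, hcN⟩, Subgroup.mem_sup_left hc'Y⟩ : ↥(centralizerIn T R₂ ⊔ φ.range)) ∈
        (φ.range).subgroupOf (centralizerIn T R₂ ⊔ φ.range) := by
      rw [h]
      trivial
    exact hc'P₁ this
  have hlt2 := hNC _ hlt
  obtain ⟨x, hxN, hxP₁⟩ := SetLike.exists_of_lt hlt2
  have hxP₁' : (x : Ω) ∉ φ.range := hxP₁
  -- decompose `x = y q`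
  have hxL : (x : Ω) ∈ ((centralizerIn T R₂ ⊔ φ.range : Subgroup Ω) : Set Ω) := x.2
  rw [Subgroup.coe_mul_of_right_le_normalizer_left _ _ hnormY] at hxL
  obtain ⟨y, hy, q, hq, hyq⟩ := hxL
  have hyY : y ∈ centralizerIn T R₂ := hy
  have hqP₁ : q ∈ φ.range := hq
  have hyq' : y * q = (x : Ω) := hyq
  -- `y` normalizes `φ(P)`
  have hxnorm : ∀ z ∈ φ.range, (x : Ω) * z * (x : Ω)⁻¹ ∈ φ.range ∧ (x : Ω)⁻¹ * z * (x : Ω) ∈ φ.range := by
    intro z hz
    have hzL : z ∈ centralizerIn T R₂ ⊔ φ.range := Subgroup.mem_sup_right hz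
    have h1 := (Subgroup.mem_normalizer_iff.mp hxN ⟨z, hzL⟩).mp hz
    have h2 := (Subgroup.mem_normalizer_iff.mp (Subgroup.inv_mem _ hxN) ⟨z, hzL⟩).mp hz
    rw [inv_inv] at h2
    exact ⟨h1, h2⟩
  have hyx : y = (x : Ω) * q⁻¹ := by rw [← hyq']; group
  have hynorm : y ∈ Subgroup.normalizer (φ.range : Set Ω) := by
    apply mem_normalizer_of_conj_mem
    · intro z hz
      have h1 := (hxnorm (q⁻¹ * z * q)
        (Subgroup.mul_mem _ (Subgroup.mul_mem _ (Subgroup.inv_mem _ hqP₁) hz) hqP₁)).1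
      have e : y * z * y⁻¹ = (x : Ω) * (q⁻¹ * z * q) * (x : Ω)⁻¹ := by rw [hyx]; group
      rw [e]
      exact h1
    · intro z hz
      have h1 := (hxnorm z hz).2
      have e : y⁻¹ * z * y = q * ((x : Ω)⁻¹ * z * (x : Ω)) * q⁻¹ := by rw [hyx]; group
      rw [e]
      exact Subgroup.mul_mem _ (Subgroup.mul_mem _ hqP₁ h1) (Subgroup.inv_mem _ hqP₁)
  have hyP₁ : y ∉ φ.range := by
    intro h
    apply hxP₁'
    rw [← hyq']
    exact Subgroup.mul_mem _ h hqP₁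
  have hyS : y ∈ S := hYS hyY
  -- the automorphism induced by `y`
  set α : MulAut ↥φ.range := (φ.range).normalizerMonoidHom ⟨y, hynorm⟩ with hα
  have hαF : α ∈ F.autGroup φ.range :=
    autInducedBy_le_autGroup F hP₁S
      ((mem_autInducedBy_iff S φ.range _).mpr ⟨y, hyS, fun z => rfl⟩)
  have hfinP₁ : Finite ↥φ.range := finite_of_le hP₁S
  have hRp : IsPGroup p ↥(T.subgroupOf φ.range) := by
    have h1 : IsPGroup p ↥φ.range :=
      hS.of_injective (Subgroup.inclusion hP₁S) (Subgroup.inclusion_injective _)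
    exact h1.to_subgroup _
  have hKn : (stab2 (F.autGroup φ.range) (T.subgroupOf φ.range)).Normal := by
    apply stab2_normal
    intro a ha z hz
    exact autGroup_apply_mem_of_stronglyClosed F hT hP₁S a ha z hz
  have hKp := stab2_isPGroup p (F.autGroup φ.range) (T.subgroupOf φ.range) hRp
  have hKle := Cfsg.Agent.Helper14.le_pCore p hKn hKp
  have hαK : (⟨α, hαF⟩ : ↥(F.autGroup φ.range)) ∈
      stab2 (F.autGroup φ.range) (T.subgroupOf φ.range) := by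
    refine ⟨fun z hz => ?_, fun z => ?_⟩
    · apply Subtype.ext
      show y * (z : Ω) * y⁻¹ = z
      have hzT : (z : Ω) ∈ T := hz
      have hzR₂ : (z : Ω) ∈ R₂ := by
        rw [← hP₁T]
        exact Subgroup.mem_inf.mpr ⟨z.2, hzT⟩
      have := (Subgroup.mem_centralizer_iff.mp hyY.2) _ hzR₂
      rw [← this, mul_inv_cancel_right]
    · show ((z⁻¹ * α z : ↥φ.range) : Ω) ∈ T
      have e : ((z⁻¹ * α z : ↥φ.range) : Ω) = (z : Ω)⁻¹ * y * (z : Ω) * y⁻¹ := by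
        show (z : Ω)⁻¹ * (y * (z : Ω) * y⁻¹) = _
        group
      rw [e]
      have h1 := (Subgroup.mem_normalizer_iff.mp (hSNT (S.inv_mem (hP₁S z.2))) y).mp hyY.1
      rw [inv_inv] at h1
      exact T.mul_mem h1 (T.inv_mem hyY.1)
  exact ⟨φ, hφ, y, Subgroup.mem_inf.mpr ⟨hyS, hynorm⟩, hyP₁, α, ⟨⟨α, hαF⟩, hKle hαK, rfl⟩,
    fun z => rfl⟩

end Cfsg.Agent.Helper26
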