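import Mathlib
import Cfsg.Agent.Helper26.FusionNotRadical
import Cfsg.Agent.Helper25.FusionNC
import Cfsg.Agent.Helper25.FusionSat

set_option autoImplicit false
set_option linter.style.haveILetI false
set_option linter.unusedSectionVars false
set_option linter.unusedVariables false

/-! # `p`-stable fusion systems -/

namespace Cfsg.Agent.Helper26

open Cfsg Cfsg.FusionSystem Cfsg.Agent.Helper25 Subgroup

variable {Ω : Type*} [Group Ω] {S : Subgroup Ω}

/-- `p`-stability of `F` at the subgroup `Q` -/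
def PStableAt (F : FusionSystem S) (p : ℕ) (Q : Subgroup Ω) : Prop :=
  ∀ χ : MulAut Q, χ ∈ F.autGroup Q → (∀ a : Q, (χ a⁻¹) * a * (χ a⁻¹) * (χ (χ a)) = 1) →
    χ ∈ ((Cfsg.pCore p (F.autGroup Q)).map (F.autGroup Q).subtype : Subgroup (MulAut Q))

theorem pCore_autGroup_map_congr [Finite S] (F : FusionSystem S) (p : ℕ) {P Q : Subgroup Ω}
    {φ : P →* Ω} (hφ : φ ∈ F.Hom P) (hr : φ.range = Q) :
    (Cfsg.pCore p (F.autGroup Q)).map (F.autGroup Q).subtype =
      ((Cfsg.pCore p (F.autGroup P)).map (F.autGroup P).subtype).map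
        (MulAut.congr (isoOfHom φ (F.injective_of_mem hφ) hr)).toMonoidHom := by
  let G : ↥(F.autGroup P) ≃* ↥(F.autGroup Q) :=
    MulEquiv.ofBijective (autGroupHomOfHom F hφ hr) (autGroupHomOfHom_bijective F hφ hr)
  have h1 := Cfsg.Agent.Helper14.pCore_map_equiv p G
  have hcomm : (F.autGroup Q).subtype.comp G.toMonoidHom =
      (MulAut.congr (isoOfHom φ (F.injective_of_mem hφ) hr)).toMonoidHom.comp
        (F.autGroup P).subtype := by
    ext a x
    rfl
  rw [← h1, Subgroup.map_map, hcomm, ← Subgroup.map_map]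

theorem pStableAt_of_hom [Finite S] (F : FusionSystem S) (p : ℕ) {P Q : Subgroup Ω}
    {φ : P →* Ω} (hφ : φ ∈ F.Hom P) (hr : φ.range = Q) (h : PStableAt F p Q) :
    PStableAt F p P := by
  intro χ hχ hquad
  set e := isoOfHom φ (F.injective_of_mem hφ) hr with he
  have h1 : MulAut.congr e χ ∈ F.autGroup Q := congr_mem_autGroup F hφ hr hχ
  have h2 : ∀ b : Q, (MulAut.congr e χ b⁻¹) * b * (MulAut.congr e χ b⁻¹) *
      (MulAut.congr e χ (MulAut.congr e χ b)) = 1 := by
    intro b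
    obtain ⟨a, rfl⟩ := e.surjective b
    have h3 : ∀ y : P, MulAut.congr e χ (e y) = e (χ y) := by
      intro y
      simp [MulAut.congr]
    rw [← map_inv, h3, h3, h3, ← map_mul, ← map_mul, ← map_mul, hquad a, map_one]
  have h4 := h _ h1 h2
  rw [pCore_autGroup_map_congr F p hφ hr] at h4
  obtain ⟨ψ, hψ, hψχ⟩ := h4
  have h5 : ψ = χ := (MulAut.congr e).injective hψχ
  rw [← h5]
  exact hψ

theorem pStableAt_all [Finite S] (F : FusionSystem S) (p : ℕ)
    (h : ∀ Q : Subgroup Ω, F.IsFullyNormalized Q → PStableAt F p Q) :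
    ∀ Q : Subgroup Ω, Q ≤ S → PStableAt F p Q := by
  intro Q hQ
  obtain ⟨Q', ⟨φ, hφ, hr⟩, hQ'⟩ := exists_isConj_fullyNormalized F hQ
  exact pStableAt_of_hom F p hφ hr (h Q' hQ')

/-- `O_p(A) ∩ B ≤ O_p(B)` for `B ≤ A`. -/
theorem mem_pCore_map_of_le {X : Type*} [Group X] (p : ℕ) {A B : Subgroup X} (hBA : B ≤ A)
    {χ : X} (hχB : χ ∈ B) (hχ : χ ∈ (Cfsg.pCore p A).map A.subtype) :
    χ ∈ (Cfsg.pCore p B).map B.subtype := by
  set K : Subgroup B := ((Cfsg.pCore p A).map A.subtype).subgroupOf B with hK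
  have hKn : K.Normal := by
    constructor
    intro k hk b
    rw [hK, mem_subgroupOf] at hk ⊢
    obtain ⟨k', hk', hkk⟩ := hk
    refine ⟨⟨b, hBA b.2⟩ * k' * ⟨b, hBA b.2⟩⁻¹, ?_, ?_⟩
    · exact (Cfsg.Agent.Helper14.pCore_normal (G := A) p).conj_mem k' hk' _
    · simp only [Subgroup.coe_subtype, Subgroup.coe_mul, Subgroup.coe_inv] at hkk ⊢
      rw [hkk]
  have hKp : IsPGroup p K := by
    intro k
    obtain ⟨k', hk', hkk⟩ := (mem_subgroupOf.mp k.2)
    obtain ⟨n, hn⟩ := (Cfsg.Agent.Helper14.pCore_isPGroup (G := A) p) ⟨k', hk'⟩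
    refine ⟨n, ?_⟩
    have h1 : (k' : X) ^ p ^ n = 1 := by
      have := congrArg (fun z : Cfsg.pCore p A => ((z : A) : X)) hn
      simpa using this
    apply Subtype.ext
    apply Subtype.ext
    simp only [Subgroup.coe_pow, Subgroup.coe_one]
    rw [← hkk]
    exact h1
  have hle := Cfsg.Agent.Helper14.le_pCore p hKn hKp
  refine ⟨⟨χ, hχB⟩, hle ?_, rfl⟩
  rw [hK, mem_subgroupOf]
  exact hχ

/-- the automorphism group of a cyclic group is commutative -/
theorem mulAut_comm_of_isCyclic {Q : Type*} [Group Q] [IsCyclic Q] (α β : MulAut Q) :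
    α * β = β * α := by
  apply (IsCyclic.mulAutMulEquiv Q).injective
  rw [map_mul, map_mul, mul_comm]

/-- a quadratic automorphism of a finite group `Q` has order dividing `|Q|` -/
theorem pow_card_eq_one_of_quad {Q : Type*} [Group Q] [Finite Q] (χ : MulAut Q)
    (hquad : ∀ a : Q, (χ a⁻¹) * a * (χ a⁻¹) * (χ (χ a)) = 1) : χ ^ Nat.card Q = 1 := by
  have hfix : ∀ a : Q, χ (a⁻¹ * χ a) = a⁻¹ * χ a := by
    intro a
    have h1 := hquad a
    rw [map_mul]
    have h2 : χ a⁻¹ * χ (χ a) = (χ a⁻¹ * a)⁻¹ := by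
      apply eq_inv_of_mul_eq_one_right
      rw [← mul_assoc]
      exact h1
    rw [h2, mul_inv_rev, map_inv, inv_inv]
  have hpow : ∀ (n : ℕ) (a : Q), (χ ^ n) a = a * (a⁻¹ * χ a) ^ n := by
    intro n
    induction n with
    | zero => intro a; simp
    | succ n ih =>
      intro a
      rw [pow_succ' χ n, MulAut.mul_apply, ih, map_mul, map_pow, hfix,
        pow_succ' (a⁻¹ * χ a) n, ← mul_assoc, mul_inv_cancel_left]
  ext a
  rw [hpow, pow_card_eq_one', mul_one, MulAut.one_apply]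

theorem pStableAt_of_isCyclic [Finite S] (F : FusionSystem S) (p : ℕ) [Fact p.Prime]
    (hS : IsPGroup p S) {Q : Subgroup Ω} (hQ : Q ≤ S) (hcyc : IsCyclic Q) : PStableAt F p Q := by
  intro χ hχ hquad
  haveI : Finite Q := finite_of_le hQ
  have hQp : IsPGroup p Q := hS.to_le hQ
  obtain ⟨k, hk⟩ := IsPGroup.iff_card.mp hQp
  have hpow : χ ^ (p ^ k) = 1 := by
    rw [← hk]
    exact pow_card_eq_one_of_quad χ hquad
  set Z : Subgroup (F.autGroup Q) := zpowers ⟨χ, hχ⟩ with hZ
  have hZn : Z.Normal := by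
    constructor
    intro z hz b
    have : b * z * b⁻¹ = z := by
      apply Subtype.ext
      simp only [Subgroup.coe_mul, Subgroup.coe_inv]
      rw [mulAut_comm_of_isCyclic (b : MulAut Q) (z : MulAut Q), mul_inv_cancel_right]
    rw [this]
    exact hz
  have hZp : IsPGroup p Z := by
    rintro ⟨z, hz⟩
    obtain ⟨i, rfl⟩ := mem_zpowers_iff.mp hz
    refine ⟨k, ?_⟩
    apply Subtype.ext
    apply Subtype.ext
    simp only [Subgroup.coe_pow, Subgroup.coe_one, Subgroup.coe_zpow]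
    rw [← zpow_natCast, ← zpow_mul, mul_comm, zpow_mul, zpow_natCast, hpow, one_zpow]
  have hle := Cfsg.Agent.Helper14.le_pCore p hZn hZp
  exact ⟨⟨χ, hχ⟩, hle (mem_zpowers _), rfl⟩

theorem autGroup_le_of_isNormalizerSystem (F : FusionSystem S) {R : Subgroup Ω}
    (N : FusionSystem (normalizerIn S R)) (hN : F.IsNormalizerSystem R N) (Q : Subgroup Ω) :
    N.autGroup Q ≤ F.autGroup Q := by
  unfold FusionSystem.autGroup
  apply Subgroup.closure_mono
  intro α hα
  have h1 : Q.subtype.comp α.toMonoidHom ∈ F.normalizerHom R Q := (hN Q) ▸ hα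
  exact h1.1

theorem isFullyNormalized_self_of_normalizer [Finite S] {Q : Subgroup Ω} (hQS : Q ≤ S)
    (N : FusionSystem (normalizerIn S Q)) : N.IsFullyNormalized Q := by
  refine ⟨le_inf hQS le_normalizer, ?_⟩
  intro Q' _
  haveI : Finite (normalizerIn S Q) := finite_of_le (inf_le_left : normalizerIn S Q ≤ S)
  have h1 : normalizerIn (normalizerIn S Q) Q = normalizerIn S Q := by
    unfold normalizerIn
    rw [inf_assoc, inf_idem]
  rw [h1]
  exact Subgroup.card_le_of_le inf_le_left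

theorem autGroup_le_normalizerSystem_self (F : FusionSystem S) {Q : Subgroup Ω} (hQS : Q ≤ S)
    (N : FusionSystem (normalizerIn S Q)) (hN : F.IsNormalizerSystem Q N) :
    F.autGroup Q ≤ N.autGroup Q := by
  intro α hα
  have hQN : Q ≤ normalizerIn S Q := le_inf hQS le_normalizer
  rw [mem_autGroup_iff N hQN]
  rw [mem_autGroup_iff F hQS] at hα
  rw [hN Q]
  refine ⟨hα, hQN, fun x => hQN (α x).2, ?_⟩
  have hle : Q ⊔ Q ≤ Q := sup_le le_rfl le_rfl
  refine ⟨(autHom α).comp (Subgroup.inclusion hle), restrict_mem F hle hα, ?_, ?_⟩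
  · intro x
    rfl
  · ext y
    constructor
    · rintro ⟨x, hx, rfl⟩
      exact (α _).2
    · intro hy
      refine ⟨⟨(α.symm ⟨y, hy⟩ : Q), (le_sup_left : Q ≤ Q ⊔ Q) (α.symm ⟨y, hy⟩ : Q).2⟩, ?_, ?_⟩
      · rw [SetLike.mem_coe, mem_subgroupOf]
        exact (α.symm ⟨y, hy⟩ : Q).2
      · show ((α (α.symm ⟨y, hy⟩) : Q) : Ω) = y
        rw [MulEquiv.apply_symm_apply]

/-- S5247 -/
theorem pStable_iff_normalizers [Finite S] (p : ℕ) [Fact p.Prime] (hS : IsPGroup p S)
    (F : FusionSystem S) :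
    (∀ Q : Subgroup Ω, F.IsFullyNormalized Q → PStableAt F p Q) ↔
    ∀ R : Subgroup Ω, F.IsFullyNormalized R → ¬ IsCyclic ↥R →
      ∀ N : FusionSystem (normalizerIn S R), F.IsNormalizerSystem R N →
        ∀ Q : Subgroup Ω, N.IsFullyNormalized Q → PStableAt N p Q := by
  constructor
  · intro h R hR _ N hN Q hQ χ hχ hquad
    have hQS : Q ≤ S := hQ.1.trans inf_le_left
    have hall := pStableAt_all F p h Q hQS
    have hle := autGroup_le_of_isNormalizerSystem F N hN Q
    exact mem_pCore_map_of_le p hle hχ (hall χ (hle hχ) hquad)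
  · intro h Q hQ χ hχ hquad
    by_cases hcyc : IsCyclic Q
    · exact pStableAt_of_isCyclic F p hS hQ.1 hcyc χ hχ hquad
    · have hN := normalizerSystem_isNormalizerSystem F Q hQ.1
      have hle := autGroup_le_normalizerSystem_self F hQ.1 _ hN
      have h1 := h Q hQ hcyc (normalizerSystem F Q hQ.1) hN Q
        (isFullyNormalized_self_of_normalizer hQ.1 _) χ (hle hχ) hquad
      exact mem_pCore_map_of_le p hle hχ h1

end Cfsg.Agent.Helper26
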