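import Mathlib
import Cfsg.Agent.Helper26.FusionPStable
import Cfsg.Agent.Helper25.FusionAlperin
import Cfsg.Agent.Helper25.FusionFactorSat
import Cfsg.Agent.S5077
import Cfsg.Agent.S5104

set_option autoImplicit false
set_option linter.style.haveILetI false
set_option linter.unusedSectionVars false
set_option linter.unusedVariables false

/-! # The subgroup `Q*` and reduction to centric radical subgroups -/

namespace Cfsg.Agent.Helper26

open Cfsg Cfsg.FusionSystem Cfsg.Agent.Helper25 Subgroup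

variable {Ω : Type*} [Group Ω] {S : Subgroup Ω}

/-- `O_p(Aut_F(Q))` as a subgroup of `Aut(Q)` -/
def opAut (F : FusionSystem S) (p : ℕ) (Q : Subgroup Ω) : Subgroup (MulAut Q) :=
  (Cfsg.pCore p (F.autGroup Q)).map (F.autGroup Q).subtype

/-- `Q*`: the elements of `N_S(Q)` inducing an element of `O_p(Aut_F(Q))` on `Q` -/
def qStar (F : FusionSystem S) (p : ℕ) (Q : Subgroup Ω) : Subgroup Ω :=
  normalizerIn S Q ⊓
    ((opAut F p Q).comap Q.normalizerMonoidHom).map (normalizer (Q : Set Ω)).subtype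

theorem mem_qStar_iff (F : FusionSystem S) (p : ℕ) (Q : Subgroup Ω) (g : Ω) :
    g ∈ qStar F p Q ↔ g ∈ S ∧ ∃ hg : g ∈ normalizer (Q : Set Ω),
      Q.normalizerMonoidHom ⟨g, hg⟩ ∈ opAut F p Q := by
  unfold qStar normalizerIn
  constructor
  · rintro ⟨⟨hS, hN⟩, ⟨y, hy, rfl⟩⟩
    exact ⟨hS, y.2, hy⟩
  · rintro ⟨hS, hg, h⟩
    exact ⟨⟨hS, hg⟩, ⟨⟨g, hg⟩, h, rfl⟩⟩

theorem qStar_le_normalizerIn (F : FusionSystem S) (p : ℕ) (Q : Subgroup Ω) :
    qStar F p Q ≤ normalizerIn S Q := inf_le_left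

theorem opAut_le_autGroup (F : FusionSystem S) (p : ℕ) (Q : Subgroup Ω) :
    opAut F p Q ≤ F.autGroup Q := by
  rintro _ ⟨b, _, rfl⟩
  exact b.2

theorem conj_mem_opAut (F : FusionSystem S) (p : ℕ) (Q : Subgroup Ω) {α β : MulAut Q}
    (hα : α ∈ F.autGroup Q) (hβ : β ∈ opAut F p Q) : α * β * α⁻¹ ∈ opAut F p Q := by
  obtain ⟨b, hb, rfl⟩ := hβ
  have hn : (Cfsg.pCore p (F.autGroup Q)).Normal := Cfsg.Agent.Helper14.pCore_normal p
  have h1 : (⟨α, hα⟩ : F.autGroup Q) * b * (⟨α, hα⟩ : F.autGroup Q)⁻¹ ∈ Cfsg.pCore p (F.autGroup Q) :=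
    hn.conj_mem b hb _
  refine ⟨_, h1, ?_⟩
  simp only [Subgroup.coe_subtype, Subgroup.coe_mul, Subgroup.coe_inv]

theorem opAut_le_autInducedBy (F : FusionSystem S) (p : ℕ) [Fact p.Prime] {Q : Subgroup Ω}
    (hFA : F.IsFullyAutomized p Q) : opAut F p Q ≤ autInducedBy S Q := by
  obtain ⟨-, R, hR⟩ := hFA
  rintro _ ⟨b, hb, rfl⟩
  have h1 : b ∈ (R : Subgroup (F.autGroup Q)) := Cfsg.Agent.Helper14.pCore_le_sylow p R hb
  rw [hR, mem_subgroupOf] at h1
  exact h1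

theorem inn_le_opAut [Finite S] (F : FusionSystem S) (p : ℕ) [Fact p.Prime] (hS : IsPGroup p S)
    {Q : Subgroup Ω} (hQS : Q ≤ S) : Inn Q ≤ opAut F p Q := by
  have hn := inn_normal_in_autGroup F Q
  have hle : Inn Q ≤ F.autGroup Q := by
    rintro _ ⟨x, rfl⟩
    rw [mem_autGroup_iff F hQS]
    exact F.conj_mem hQS (hQS x.2)
  have hQp : IsPGroup p Q := hS.to_le hQS
  have hp : IsPGroup p ((Inn Q).subgroupOf (F.autGroup Q)) := by
    rintro ⟨⟨a, ha⟩, hmem⟩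
    obtain ⟨x, hx⟩ := (mem_subgroupOf.mp hmem)
    obtain ⟨k, hk⟩ := hQp x
    refine ⟨k, ?_⟩
    apply Subtype.ext
    apply Subtype.ext
    simp only [Subgroup.coe_pow, Subgroup.coe_one]
    have : a = MulAut.conj x := hx.symm
    rw [this, ← map_pow, hk, map_one]
  have h1 := Cfsg.Agent.Helper14.le_pCore p hn hp
  intro a ha
  exact ⟨⟨a, hle ha⟩, h1 (mem_subgroupOf.mpr ha), rfl⟩

theorem le_qStar [Finite S] (F : FusionSystem S) (p : ℕ) [Fact p.Prime] (hS : IsPGroup p S)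
    {Q : Subgroup Ω} (hQS : Q ≤ S) : Q ≤ qStar F p Q := by
  intro x hx
  rw [mem_qStar_iff]
  refine ⟨hQS hx, le_normalizer hx, ?_⟩
  apply inn_le_opAut F p hS hQS
  exact ⟨⟨x, hx⟩, by ext y; rfl⟩

theorem centralizerIn_le_qStar (F : FusionSystem S) (p : ℕ) (Q : Subgroup Ω) :
    centralizerIn S Q ≤ qStar F p Q := by
  intro g hg
  rw [mem_qStar_iff]
  have hgN : g ∈ normalizer (Q : Set Ω) := centralizer_le_normalizer _ hg.2
  refine ⟨hg.1, hgN, ?_⟩
  have h1 : Q.normalizerMonoidHom ⟨g, hgN⟩ = 1 := by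
    ext y
    show g * (y : Ω) * g⁻¹ = y
    have := (mem_centralizer_iff.mp hg.2) y y.2
    rw [← this, mul_inv_cancel_right]
  rw [h1]
  exact one_mem _

/-- Every `F`-automorphism of a fully normalized `Q` extends to an `F`-automorphism of `Q*`. -/
theorem exists_ext_qStar [Finite S] (p : ℕ) [Fact p.Prime] (hS : IsPGroup p S) (F : FusionSystem S)
    (hF : F.IsSaturated p) {Q : Subgroup Ω} (hQ : F.IsFullyNormalized Q) {α : MulAut Q}
    (hα : α ∈ F.autGroup Q) :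
    ∃ γ ∈ F.autGroup (qStar F p Q), ∀ (x : Ω) (hx : x ∈ Q) (hx' : x ∈ qStar F p Q),
      ((γ ⟨x, hx'⟩ : qStar F p Q) : Ω) = ((α ⟨x, hx⟩ : Q) : Ω) := by
  obtain ⟨hFC, hFA⟩ := Cfsg.Agent.S5077.sylow_axiom p hS F hF Q hQ
  have hrec := Cfsg.Agent.S5077.extension_axiom p hS F hF Q hFC
  have hQS : Q ≤ S := hQ.1
  have hαF : autHom α ∈ F.Hom Q := (mem_autGroup_iff F hQS α).mp hα
  obtain ⟨ψ, hψ, hψext⟩ := hrec.2 Q (autHom α) hαF (autHom_range α)
  have hQext : Q ≤ extender S Q (autHom α) := le_extender hQS (autHom α) (fun x => hQS (α x).2)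
  have hQstarS : qStar F p Q ≤ S := (qStar_le_normalizerIn F p Q).trans inf_le_left
  haveI : Finite (qStar F p Q) := finite_of_le hQstarS
  -- `Q* ≤ N_α`
  have hle : qStar F p Q ≤ extender S Q (autHom α) := by
    intro g hg
    rw [mem_qStar_iff] at hg
    obtain ⟨hgS, hgN, hgO⟩ := hg
    rw [mem_extender_iff]
    refine ⟨hgS, hgN, ?_⟩
    have h1 := opAut_le_autInducedBy F p hFA (conj_mem_opAut F p Q hα hgO)
    rw [autInducedBy_eq_map] at h1
    obtain ⟨n, hnS, hn⟩ := h1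
    refine ⟨n, hnS, ?_⟩
    intro x hx
    have h2 := congrArg (fun β : MulAut Q => ((β (α x) : Q) : Ω)) hn
    have h3 : (α * Q.normalizerMonoidHom ⟨g, hgN⟩ * α⁻¹) (α x) =
        α (Q.normalizerMonoidHom ⟨g, hgN⟩ x) := by
      simp [MulAut.mul_apply]
    simp only [h3] at h2
    have h4 : Q.normalizerMonoidHom ⟨g, hgN⟩ x = ⟨g * x * g⁻¹, hx⟩ := Subtype.ext rfl
    rw [h4] at h2
    exact h2.symm
  -- conjugation formula
  have hconj : ∀ (g : Ω) (hg : g ∈ qStar F p Q) (x : Q) (hx : g * (x : Ω) * g⁻¹ ∈ Q),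
      ψ ⟨g, hle hg⟩ * ((α x : Q) : Ω) * (ψ ⟨g, hle hg⟩)⁻¹ = ((α ⟨g * x * g⁻¹, hx⟩ : Q) : Ω) := by
    intro g hg x hx
    have h1 : ψ ⟨(x : Ω), hQext x.2⟩ = ((α x : Q) : Ω) := hψext x x.2 (hQext x.2)
    have h2 : ψ ⟨g * x * g⁻¹, hQext hx⟩ = ((α ⟨g * x * g⁻¹, hx⟩ : Q) : Ω) :=
      hψext _ hx (hQext hx)
    have h3 : (⟨g * x * g⁻¹, hQext hx⟩ : extender S Q (autHom α)) =
        ⟨g, hle hg⟩ * ⟨(x : Ω), hQext x.2⟩ * ⟨g, hle hg⟩⁻¹ := Subtype.ext rfl
    rw [← h1, ← h2, h3, map_mul, map_mul, map_inv]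
  have hnormQ : ∀ (g : Ω) (hg : g ∈ qStar F p Q) (x : Q), g * (x : Ω) * g⁻¹ ∈ Q := by
    intro g hg x
    obtain ⟨_, hgN, _⟩ := (mem_qStar_iff F p Q g).mp hg
    exact (mem_normalizer_iff.mp hgN x).mp x.2
  have hψN : ∀ (g : Ω) (hg : g ∈ qStar F p Q), ∀ y ∈ Q,
      ψ ⟨g, hle hg⟩ * y * (ψ ⟨g, hle hg⟩)⁻¹ ∈ Q := by
    intro g hg y hy
    have h1 := hconj g hg (α.symm ⟨y, hy⟩) (hnormQ g hg _)
    rw [MulEquiv.apply_symm_apply] at h1
    rw [h1]
    exact (α _).2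
  -- `ψ` maps `Q*` into `Q*`
  have hmaps : ∀ (g : Ω) (hg : g ∈ qStar F p Q), ψ ⟨g, hle hg⟩ ∈ qStar F p Q := by
    intro g hg
    rw [mem_qStar_iff]
    have hψgN : ψ ⟨g, hle hg⟩ ∈ normalizer (Q : Set Ω) := by
      apply mem_normalizer_of_conj_mem (hψN g hg)
      intro y hy
      have h1 := hψN g⁻¹ (inv_mem hg) y hy
      have h2 : ψ ⟨g⁻¹, hle (inv_mem hg)⟩ = (ψ ⟨g, hle hg⟩)⁻¹ := by
        rw [← map_inv]
        rfl
      rwa [h2, inv_inv] at h1
    refine ⟨(F.le_of_mem hψ).2 _, hψgN, ?_⟩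
    obtain ⟨_, hgN, hgO⟩ := (mem_qStar_iff F p Q g).mp hg
    have h1 : Q.normalizerMonoidHom ⟨ψ ⟨g, hle hg⟩, hψgN⟩ =
        α * Q.normalizerMonoidHom ⟨g, hgN⟩ * α⁻¹ := by
      ext y
      have h2 := hconj g hg (α.symm y) (hnormQ g hg _)
      rw [MulEquiv.apply_symm_apply] at h2
      show ψ ⟨g, hle hg⟩ * (y : Ω) * (ψ ⟨g, hle hg⟩)⁻¹ = _
      rw [h2]
      rfl
    rw [h1]
    exact conj_mem_opAut F p Q hα hgO
  -- the restriction of `ψ` to `Q*`
  have hγ₀ : ψ.comp (Subgroup.inclusion hle) ∈ F.Hom (qStar F p Q) := restrict_mem F hle hψ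
  have hrange : (ψ.comp (Subgroup.inclusion hle)).range = qStar F p Q := by
    have hle' : (ψ.comp (Subgroup.inclusion hle)).range ≤ qStar F p Q := by
      rintro _ ⟨g, rfl⟩
      exact hmaps g g.2
    apply eq_of_le_of_card_ge hle'
    have hinj := F.injective_of_mem hγ₀
    exact (Nat.card_congr (Equiv.ofInjective _ hinj)).le
  refine ⟨isoOfHom _ (F.injective_of_mem hγ₀) hrange, ?_, ?_⟩
  · rw [mem_autGroup_iff F hQstarS]
    have : autHom (isoOfHom _ (F.injective_of_mem hγ₀) hrange) =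
        ψ.comp (Subgroup.inclusion hle) := by
      ext x
      rfl
    rw [this]
    exact hγ₀
  · intro x hx hx'
    rw [isoOfHom_coe]
    exact hψext x hx (hle hx')

/-- A fully normalized `Q` with `Q* = Q` is centric and radical. -/
theorem centric_radical_of_qStar_eq [Finite S] (p : ℕ) [Fact p.Prime] (hS : IsPGroup p S)
    (F : FusionSystem S) (hF : F.IsSaturated p) {Q : Subgroup Ω} (hQ : F.IsFullyNormalized Q)
    (h : qStar F p Q = Q) : F.IsCentric Q ∧ F.IsRadical p Q := by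
  obtain ⟨hFC, hFA⟩ := Cfsg.Agent.S5077.sylow_axiom p hS F hF Q hQ
  have hQS : Q ≤ S := hQ.1
  have hC : centralizerIn S Q ≤ Q := (centralizerIn_le_qStar F p Q).trans h.le
  refine ⟨Cfsg.Agent.S5104.result p hS F hF Q hFC hC, hQS, ?_⟩
  apply le_antisymm
  · intro β hβ
    have h1 := opAut_le_autInducedBy F p hFA hβ
    rw [autInducedBy_eq_map] at h1
    obtain ⟨n, hnS, rfl⟩ := h1
    have hn : (n : Ω) ∈ qStar F p Q := by
      rw [mem_qStar_iff]
      exact ⟨hnS, n.2, hβ⟩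
    rw [h] at hn
    exact ⟨⟨n, hn⟩, by ext y; rfl⟩
  · exact inn_le_opAut F p hS hQS

/-- every `F`-automorphism of `A` extends to an `F`-automorphism of `B` -/
def ExtAll (F : FusionSystem S) (A B : Subgroup Ω) : Prop :=
  A ≤ B ∧ ∀ β ∈ F.autGroup A, ∃ γ ∈ F.autGroup B, ∀ (x : Ω) (hA : x ∈ A) (hB : x ∈ B),
    ((γ ⟨x, hB⟩ : B) : Ω) = ((β ⟨x, hA⟩ : A) : Ω)

theorem extAll_refl (F : FusionSystem S) (A : Subgroup Ω) : ExtAll F A A :=
  ⟨le_rfl, fun β hβ => ⟨β, hβ, fun _ _ _ => rfl⟩⟩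

theorem extAll_trans {F : FusionSystem S} {A B C : Subgroup Ω} (h1 : ExtAll F A B)
    (h2 : ExtAll F B C) : ExtAll F A C := by
  refine ⟨h1.1.trans h2.1, ?_⟩
  intro β hβ
  obtain ⟨γ, hγ, hγβ⟩ := h1.2 β hβ
  obtain ⟨δ, hδ, hδγ⟩ := h2.2 γ hγ
  exact ⟨δ, hδ, fun x hA hC => (hδγ x (h1.1 hA) hC).trans (hγβ x hA (h1.1 hA))⟩

theorem extAll_qStar [Finite S] (p : ℕ) [Fact p.Prime] (hS : IsPGroup p S) (F : FusionSystem S)
    (hF : F.IsSaturated p) {Q : Subgroup Ω} (hQ : F.IsFullyNormalized Q) :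
    ExtAll F Q (qStar F p Q) :=
  ⟨le_qStar F p hS hQ.1, fun _ hβ => exists_ext_qStar p hS F hF hQ hβ⟩

theorem mulAut_congr_apply {X Y : Type*} [Group X] [Group Y] (e : X ≃* Y) (χ : MulAut X) (y : X) :
    MulAut.congr e χ (e y) = e (χ y) := by
  simp [MulAut.congr]

/-- transport of `ExtAll` along a map of the system -/
theorem extAll_map [Finite S] (F : FusionSystem S) {A B : Subgroup Ω} (h : ExtAll F A B)
    {ψ : B →* Ω} (hψ : ψ ∈ F.Hom B) : ExtAll F ((A.subgroupOf B).map ψ) ψ.range := by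
  have hAB : A ≤ B := h.1
  have hψA : ψ.comp (Subgroup.inclusion hAB) ∈ F.Hom A := restrict_mem F hAB hψ
  have hrA : (ψ.comp (Subgroup.inclusion hAB)).range = (A.subgroupOf B).map ψ := by
    ext y
    constructor
    · rintro ⟨x, rfl⟩
      exact ⟨Subgroup.inclusion hAB x, mem_subgroupOf.mpr x.2, rfl⟩
    · rintro ⟨z, hz, rfl⟩
      exact ⟨⟨z, mem_subgroupOf.mp hz⟩, rfl⟩
  refine ⟨?_, ?_⟩
  · rintro _ ⟨z, _, rfl⟩
    exact ⟨z, rfl⟩
  · intro β' hβ'
    obtain ⟨⟨β, hβ⟩, hββ'⟩ := (autGroupHomOfHom_bijective F hψA hrA).2 ⟨β', hβ'⟩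
    have hββ'' : MulAut.congr (isoOfHom _ (F.injective_of_mem hψA) hrA) β = β' :=
      congrArg Subtype.val hββ'
    obtain ⟨γ, hγ, hγβ⟩ := h.2 β hβ
    refine ⟨MulAut.congr (isoOfHom ψ (F.injective_of_mem hψ) rfl) γ,
      congr_mem_autGroup F hψ rfl hγ, ?_⟩
    rintro _ ⟨x, hxA, rfl⟩ hB'
    have hxA' : (x : Ω) ∈ A := mem_subgroupOf.mp hxA
    have h1 : (⟨ψ x, hB'⟩ : ψ.range) = isoOfHom ψ (F.injective_of_mem hψ) rfl x :=
      Subtype.ext rfl
    have h2 : (⟨ψ x, ⟨x, hxA, rfl⟩⟩ : (A.subgroupOf B).map ψ) =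
        isoOfHom _ (F.injective_of_mem hψA) hrA ⟨x, hxA'⟩ := Subtype.ext rfl
    rw [h1, mulAut_congr_apply, ← hββ'', h2, mulAut_congr_apply, isoOfHom_coe, isoOfHom_coe]
    have h3 : γ x = Subgroup.inclusion hAB (β ⟨x, hxA'⟩) :=
      Subtype.ext (hγβ x hxA' x.2)
    rw [h3]
    rfl

theorem card_lt_card_of_lt'' {G : Type*} [Group G] {H K : Subgroup G} [Finite K] (h : H < K) :
    Nat.card H < Nat.card K := by
  by_contra hcon
  push Not at hcon
  exact h.ne (eq_of_le_of_card_ge h.le hcon)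

/-- Every subgroup of `S` is `F`-conjugate into a fully normalized centric radical subgroup `R`
such that all `F`-automorphisms of the image extend to `R`. -/
theorem exists_frc_extAll [Finite S] (p : ℕ) [Fact p.Prime] (hS : IsPGroup p S)
    (F : FusionSystem S) (hF : F.IsSaturated p) :
    ∀ (n : ℕ) (Q : Subgroup Ω), Q ≤ S → Nat.card S - Nat.card Q = n →
      ∃ (R : Subgroup Ω) (φ : Q →* Ω), F.IsFullyNormalized R ∧ F.IsCentric R ∧ F.IsRadical p R ∧
        φ ∈ F.Hom Q ∧ ExtAll F φ.range R := by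
  intro n
  induction n using Nat.strong_induction_on with
  | _ n ih =>
  intro Q hQ hn
  obtain ⟨Q', ⟨φ₀, hφ₀, hr₀⟩, hQ'⟩ := exists_isConj_fullyNormalized F hQ
  by_cases h : qStar F p Q' = Q'
  · obtain ⟨hc, hr⟩ := centric_radical_of_qStar_eq p hS F hF hQ' h
    refine ⟨Q', φ₀, hQ', hc, hr, hφ₀, ?_⟩
    rw [hr₀]
    exact extAll_refl F Q'
  · have hlt : Q' < qStar F p Q' := lt_of_le_of_ne (le_qStar F p hS hQ'.1) (Ne.symm h)
    have hQsS : qStar F p Q' ≤ S := (qStar_le_normalizerIn F p Q').trans inf_le_left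
    haveI : Finite (qStar F p Q') := finite_of_le hQsS
    have hcard : Nat.card Q = Nat.card Q' :=
      Nat.card_congr (isoOfHom φ₀ (F.injective_of_mem hφ₀) hr₀).toEquiv
    have hcard2 : Nat.card Q' < Nat.card (qStar F p Q') := card_lt_card_of_lt'' hlt
    have hcard3 : Nat.card (qStar F p Q') ≤ Nat.card S := Subgroup.card_le_of_le hQsS
    obtain ⟨R, ψ, hRfn, hRc, hRr, hψ, hext⟩ :=
      ih (Nat.card S - Nat.card (qStar F p Q')) (by omega) (qStar F p Q') hQsS rfl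
    have hφ₀Q' : ∀ x : Q, φ₀ x ∈ Q' := fun x => hr₀ ▸ ⟨x, rfl⟩
    have hφ : (ψ.comp (Subgroup.inclusion hlt.le)).comp (φ₀.codRestrict Q' hφ₀Q') ∈ F.Hom Q :=
      F.comp_mem hφ₀ (restrict_mem F hlt.le hψ) hφ₀Q'
    have hrange : ((ψ.comp (Subgroup.inclusion hlt.le)).comp (φ₀.codRestrict Q' hφ₀Q')).range =
        (Q'.subgroupOf (qStar F p Q')).map ψ := by
      ext y
      constructor
      · rintro ⟨x, rfl⟩
        exact ⟨Subgroup.inclusion hlt.le ⟨φ₀ x, hφ₀Q' x⟩, mem_subgroupOf.mpr (hφ₀Q' x), rfl⟩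
      · rintro ⟨z, hz, rfl⟩
        have hz0 : (z : Ω) ∈ Q' := mem_subgroupOf.mp hz
        have hz' : (z : Ω) ∈ φ₀.range := by rw [hr₀]; exact hz0
        obtain ⟨x, hx⟩ := hz'
        refine ⟨x, ?_⟩
        show ψ (Subgroup.inclusion hlt.le ⟨φ₀ x, hφ₀Q' x⟩) = ψ z
        congr 1
        exact Subtype.ext hx
    refine ⟨R, _, hRfn, hRc, hRr, hφ, ?_⟩
    rw [hrange]
    exact extAll_trans (extAll_map F (extAll_qStar p hS F hF hQ') hψ) hext

/-- S5281 -/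
theorem pStable_iff_frc [Finite S] (p : ℕ) [Fact p.Prime] (hS : IsPGroup p S)
    (F : FusionSystem S) (hF : F.IsSaturated p) :
    (∀ Q : Subgroup Ω, F.IsFullyNormalized Q → PStableAt F p Q) ↔
    ∀ R : Subgroup Ω, F.IsFullyNormalized R → F.IsCentric R → F.IsRadical p R →
      ∀ N : FusionSystem (normalizerIn S R), F.IsNormalizerSystem R N →
        ∀ Q : Subgroup Ω, N.IsFullyNormalized Q → PStableAt N p Q := by
  constructor
  · intro h R hR _ _ N hN Q hQ χ hχ hquad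
    have hQS : Q ≤ S := hQ.1.trans inf_le_left
    have hall := pStableAt_all F p h Q hQS
    have hle := autGroup_le_of_isNormalizerSystem F N hN Q
    exact mem_pCore_map_of_le p hle hχ (hall χ (hle hχ) hquad)
  · intro h Q hQ
    obtain ⟨R, φ, hRfn, hRc, hRr, hφ, hext⟩ := exists_frc_extAll p hS F hF _ Q hQ.1 rfl
    have hRS : R ≤ S := hRfn.1
    have hN := normalizerSystem_isNormalizerSystem F R hRS
    haveI : Finite (normalizerIn S R) := finite_of_le (inf_le_left : normalizerIn S R ≤ S)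
    have hNst := pStableAt_all (normalizerSystem F R hRS) p
      (h R hRfn hRc hRr (normalizerSystem F R hRS) hN)
    have hQ''R : φ.range ≤ R := hext.1
    have hRN : R ≤ normalizerIn S R := le_inf hRS le_normalizer
    have hQ''N : φ.range ≤ normalizerIn S R := hQ''R.trans hRN
    have hQ''S : φ.range ≤ S := hQ''R.trans hRS
    have hle : F.autGroup φ.range ≤ (normalizerSystem F R hRS).autGroup φ.range := by
      intro β hβ
      obtain ⟨γ, hγ, hγβ⟩ := hext.2 β hβ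
      rw [mem_autGroup_iff _ hQ''N, hN φ.range]
      refine ⟨(mem_autGroup_iff F hQ''S β).mp hβ, hQ''N, fun x => hQ''N (β x).2, ?_⟩
      have hsup : φ.range ⊔ R ≤ R := sup_le hQ''R le_rfl
      refine ⟨(autHom γ).comp (Subgroup.inclusion hsup),
        restrict_mem F hsup ((mem_autGroup_iff F hRS γ).mp hγ), ?_, ?_⟩
      · intro x
        exact hγβ x x.2 (hQ''R x.2)
      · ext y
        constructor
        · rintro ⟨x, hx, rfl⟩
          exact (γ _).2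
        · intro hy
          refine ⟨⟨(γ.symm ⟨y, hy⟩ : R), (le_sup_right : R ≤ φ.range ⊔ R) (γ.symm ⟨y, hy⟩ : R).2⟩,
            ?_, ?_⟩
          · rw [SetLike.mem_coe, mem_subgroupOf]
            exact (γ.symm ⟨y, hy⟩ : R).2
          · show ((γ (γ.symm ⟨y, hy⟩) : R) : Ω) = y
            rw [MulEquiv.apply_symm_apply]
    have hst : PStableAt F p φ.range := by
      intro χ hχ hquad
      exact mem_pCore_map_of_le p hle hχ (hNst φ.range hQ''N χ (hle hχ) hquad)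
    exact pStableAt_of_hom F p hφ rfl hst

end Cfsg.Agent.Helper26
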