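import Mathlib
import Cfsg.Agent.Helper26.EmbedF
import Cfsg.Agent.Helper26.FusionQStar
import Cfsg.Agent.S5090
import Cfsg.Prelude.Def_FusionReduction

set_option autoImplicit false
set_option linter.style.haveILetI false
set_option linter.unusedSectionVars false
set_option linter.unusedVariables false

/-! Section-freeness may be tested at the centric radical subgroups. -/

namespace Cfsg.Agent.Helper26.Embed

open Cfsg Cfsg.FusionSystem Cfsg.Agent.Helper25 Cfsg.Agent.Helper26.ModelAut

universe u

/-- If `Q = O_p(N_F(Q))` then `Q` is radical (given a model of `N_F(Q)`). -/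
theorem isRadical_of_core_eq {Ω : Type*} [Group Ω] {S : Subgroup Ω} [Finite S] (p : ℕ)
    [Fact p.Prime] (hS : IsPGroup p S)
    (F : FusionSystem S) {Q : Subgroup Ω} (hQS : Q ≤ S)
    (N : FusionSystem (normalizerIn S Q)) (hN : F.IsNormalizerSystem Q N)
    {L : Type*} [Group L] (ι : ↥(normalizerIn S Q) →* L) (hM : N.IsModel p L ι)
    (hcore : N.core = Q) : F.IsRadical p Q := by
  have hQN : Q ≤ normalizerIn S Q := fun x hx => ⟨hQS hx, Subgroup.le_normalizer hx⟩
  haveI : Finite (normalizerIn S Q) := finite_of_le inf_le_left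
  have hSN : IsPGroup p (normalizerIn S Q) := isPGroup_of_le hS inf_le_left
  have hQnorm : N.IsNormal Q := normalizerSystem_isNormal F hQS N hN
  haveI hnormal : ((Q.subgroupOf (normalizerIn S Q)).map ι).Normal :=
    Cfsg.Agent.Helper26.MasterRed.normal_map_of_isModel p N ι hM hQnorm
  have hmap : (Q.subgroupOf (normalizerIn S Q)).map ι = pCore p L := by
    have h0 := map_core_eq_pCore p hSN N ι hM
    rw [hcore] at h0
    exact h0
  obtain ⟨hfin, hreal, ⟨T, hT⟩, hC⟩ := hM
  refine ⟨hQS, ?_⟩
  rw [← normalizerSystem_autGroup F hQS N hN]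
  apply le_antisymm
  · rintro _ ⟨a, ha, rfl⟩
    obtain ⟨g, rfl⟩ := Γ_surjective N ι hreal Q hQN a
    have hker : (Γ N ι hreal Q hQN).ker ≤ pCore p L := by
      refine (Γ_ker_le N ι hreal Q hQN).trans ?_
      rw [hmap]
      exact hC
    have hK : (pCore p (N.autGroup Q)).comap (Γ N ι hreal Q hQN) ≤ pCore p L := by
      apply Cfsg.Agent.Helper14.le_pCore p
      · exact (Cfsg.Agent.Helper14.pCore_normal p).comap _
      · apply IsPGroup.comap_of_ker_isPGroup
        · exact Cfsg.Agent.Helper14.pCore_isPGroup p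
        · exact (Cfsg.Agent.Helper14.pCore_isPGroup (G := L) p).to_le hker
    have hg : g ∈ pCore p L := hK ha
    rw [← hmap] at hg
    obtain ⟨q, hq, rfl⟩ := hg
    have hq' : (q : Ω) ∈ Q := hq
    refine ⟨⟨q, hq'⟩, ?_⟩
    apply MulEquiv.ext
    intro y
    apply Subtype.ext
    have h1 := Γ_apply N ι hreal Q hQN (ι q) y
    have h2 : ι ⟨((((Γ N ι hreal Q hQN (ι q) : N.autGroup Q) : MulAut Q) y : Q) : Ω),
        hQN (((Γ N ι hreal Q hQN (ι q) : N.autGroup Q) : MulAut Q) y).2⟩ =
        ι (q * ⟨y, hQN y.2⟩ * q⁻¹) := by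
      rw [h1, map_mul, map_mul, map_inv]
    have h3 := hreal.1 h2
    have h4 := congrArg (fun w : ↥(normalizerIn S Q) => (w : Ω)) h3
    exact h4.symm
  · exact Cfsg.Agent.Helper26.inn_le_opAut N p hSN hQN

/-- Section-freeness may be tested at the centric radical subgroups. -/
theorem sectionFree_of_radical {Ω : Type u} [Group Ω] {S : Subgroup Ω} [Finite S] (p : ℕ)
    [Fact p.Prime] (hS : IsPGroup p S) (F : FusionSystem S) (hF : F.IsSaturated p)
    {Hh : Type*} [Group Hh]
    (h : ∀ Q : Subgroup Ω, F.IsFullyNormalized Q → F.IsCentric Q → F.IsRadical p Q →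
      ∀ N : FusionSystem (normalizerIn S Q), F.IsNormalizerSystem Q N →
      ∀ (L : Type u) [Group L] (ι : ↥(normalizerIn S Q) →* L), N.IsModel p L ι →
        ¬ Involves Hh L) :
    F.IsSectionFree p Hh := by
  have key : ∀ n : ℕ, ∀ Q : Subgroup Ω, Nat.card S - Nat.card Q = n →
      F.IsFullyNormalized Q → F.IsCentric Q →
      ∀ N : FusionSystem (normalizerIn S Q), F.IsNormalizerSystem Q N →
      ∀ (L : Type u) [Group L] (ι : ↥(normalizerIn S Q) →* L), N.IsModel p L ι →
        ¬ Involves Hh L := by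
    intro n
    induction n using Nat.strong_induction_on with
    | _ n ih =>
      intro Q hn hQfn hQc N hN L _ ι hM
      have hQS := hQc.1
      haveI : Finite (normalizerIn S Q) := finite_of_le inf_le_left
      have hSN : IsPGroup p (normalizerIn S Q) := isPGroup_of_le hS inf_le_left
      have hQnorm : N.IsNormal Q := normalizerSystem_isNormal F hQS N hN
      have hNsat := normalizerSystem_isSaturated p hS F hF Q hQfn N hN
      have hRN : N.IsNormal N.core := Cfsg.Agent.S5089.core_isNormal N
      have hQR : Q ≤ N.core := le_sSup hQnorm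
      by_cases hcore : N.core = Q
      · exact h Q hQfn hQc (isRadical_of_core_eq p hS F hQS N hN ι hM hcore) N hN L ι hM
      · have hRS : N.core ≤ S := hRN.1.trans inf_le_left
        have hRc : F.IsCentric N.core := isCentric_of_le F hQc hQR hRS
        obtain ⟨R₁, hconj, hR₁fn⟩ := exists_isConj_fullyNormalized F hRS
        have hR₁c := isCentric_of_isConj F hRc hconj
        have hR₁S := hR₁c.1
        obtain ⟨N₁, hN₁⟩ : ∃ N₁ : FusionSystem (normalizerIn S R₁), F.IsNormalizerSystem R₁ N₁ :=
          ⟨_, normalizerSystem_isNormalizerSystem F R₁ hR₁S⟩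
        have hcon := (normalizerSystem_isConstrained p hS F hF R₁ hR₁fn hR₁c N₁ hN₁).1
        haveI : Finite (normalizerIn S R₁) := finite_of_le inf_le_left
        have hS₁ : IsPGroup p (normalizerIn S R₁) := isPGroup_of_le hS inf_le_left
        obtain ⟨L₁, instL₁, ι₁, hM₁⟩ := Cfsg.Agent.S5090.result p hS₁ N₁ hcon
        have hcard : Nat.card Q < Nat.card R₁ := by
          rw [← card_eq_of_isConj F hconj]
          haveI : Finite N.core := finite_of_le hRS
          exact MasterRed.card_lt_of_lt hQR (Ne.symm hcore)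
        have hR₁le : Nat.card R₁ ≤ Nat.card S := MasterRed.card_le_of_le hR₁S
        have hfree₁ : ¬ Involves Hh L₁ :=
          ih (Nat.card S - Nat.card R₁) (by omega) R₁ rfl hR₁fn hR₁c N₁ hN₁ L₁ ι₁ hM₁
        exact not_involves_of_embed hS F hF N hNsat
          (fun P φ hφ => by rw [hN P] at hφ; exact hφ.1) hRN hRc ι hM hconj hR₁fn N₁ hN₁ ι₁ hM₁
          hfree₁
  intro Q hQfn hQc N hN L _ ι hM
  exact key _ Q rfl hQfn hQc N hN L ι hM

end Cfsg.Agent.Helper26.Embed
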