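import Mathlib
import Cfsg.Agent.Helper26.QdRadical

set_option autoImplicit false
set_option linter.style.haveILetI false
set_option linter.unusedSectionVars false
set_option linter.unusedVariables false

/-! Normalizer systems of section-free systems are section-free. -/

namespace Cfsg.Agent.Helper26.Embed

open Cfsg Cfsg.FusionSystem Cfsg.Agent.Helper25 Cfsg.Agent.Helper26.ModelAut
  Cfsg.Agent.Helper26.MasterRed

universe u

/-- A subgroup containing the fully normalized `Q` and centric in `N_F(Q)` is centric in `F`. -/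
theorem isCentric_of_normalizer_centric {Ω : Type*} [Group Ω] {S : Subgroup Ω} [Finite S] (p : ℕ)
    [Fact p.Prime] (hS : IsPGroup p S) (F : FusionSystem S) (hF : F.IsSaturated p)
    {Q : Subgroup Ω} (hQfn : F.IsFullyNormalized Q)
    (N : FusionSystem (normalizerIn S Q)) (hN : F.IsNormalizerSystem Q N)
    {U : Subgroup Ω} (hQU : Q ≤ U) (hUc : N.IsCentric U) : F.IsCentric U := by
  have hQS : Q ≤ S := hQfn.1
  have hUN : U ≤ normalizerIn S Q := hUc.1
  have hUS : U ≤ S := hUN.trans inf_le_left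
  haveI : Finite Q := finite_of_le hQS
  refine ⟨hUS, ?_⟩
  rintro U' ⟨φ, hφ, rfl⟩
  have hconj : F.IsConj Q (φ.comp (Subgroup.inclusion hQU)).range :=
    isConj_restrict_range F hQU hφ
  obtain ⟨ψ, hψ, hψN, hψQ⟩ :=
    exists_normalizer_hom_of_fullyNormalized p hS F hF hQfn (isConj_symm F hconj)
  have hψinj := F.injective_of_mem hψ
  have hφS : ∀ u, φ u ∈ S := (F.le_of_mem hφ).2
  -- `φ(U)` normalizes `φ(Q)`
  have hφN : ∀ u : U, φ u ∈ normalizerIn S (φ.comp (Subgroup.inclusion hQU)).range := by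
    intro u
    refine ⟨hφS u, ?_⟩
    apply Cfsg.Agent.Helper26.mem_normalizer_of_conj_mem
    · rintro _ ⟨q, rfl⟩
      have hq : (u : Ω) * q * (u : Ω)⁻¹ ∈ Q :=
        ((Subgroup.mem_normalizer_iff.mp (hUN u.2).2) q).mp q.2
      refine ⟨⟨_, hq⟩, ?_⟩
      show φ ⟨(u : Ω) * q * (u : Ω)⁻¹, _⟩ = φ u * φ ⟨q, hQU q.2⟩ * (φ u)⁻¹
      rw [← map_inv, ← map_mul, ← map_mul]
      rfl
    · rintro _ ⟨q, rfl⟩
      have hq : (u : Ω)⁻¹ * q * (u : Ω) ∈ Q := by
        have := ((Subgroup.mem_normalizer_iff.mp (Subgroup.inv_mem _ (hUN u.2).2)) q).mp q.2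
        rwa [inv_inv] at this
      refine ⟨⟨_, hq⟩, ?_⟩
      show φ ⟨(u : Ω)⁻¹ * q * (u : Ω), _⟩ = (φ u)⁻¹ * φ ⟨q, hQU q.2⟩ * φ u
      rw [← map_inv, ← map_mul, ← map_mul]
      rfl
  -- `θ = ψ ∘ φ`
  have hθ := F.comp_mem hφ hψ hφN
  obtain ⟨θ, hθe⟩ : ∃ θ : U →* Ω, θ = ψ.comp (φ.codRestrict _ hφN) := ⟨_, rfl⟩
  rw [← hθe] at hθ
  have hθapp : ∀ u : U, θ u = ψ ⟨φ u, hφN u⟩ := fun u => by rw [hθe]; rfl
  have hθval : ∀ u : U, θ u ∈ normalizerIn S Q := fun u => by rw [hθapp]; exact hψN _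
  have hθQ : (Q.subgroupOf U).map θ = Q := by
    apply map_eq_of_map_le (F.injective_of_mem hθ) _ hQU
    rintro _ ⟨u, hu, rfl⟩
    have hu' : (u : Ω) ∈ Q := hu
    rw [hθapp]
    have h0 : ψ ⟨φ u, hφN u⟩ ∈ ((φ.comp (Subgroup.inclusion hQU)).range.subgroupOf
        (normalizerIn S (φ.comp (Subgroup.inclusion hQU)).range)).map ψ := by
      refine ⟨⟨φ u, hφN u⟩, ?_, rfl⟩
      show φ u ∈ (φ.comp (Subgroup.inclusion hQU)).range
      exact ⟨⟨u, hu'⟩, rfl⟩
    exact (show ∀ Y : Subgroup Ω, ((φ.comp (Subgroup.inclusion hQU)).range.subgroupOf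
        (normalizerIn S (φ.comp (Subgroup.inclusion hQU)).range)).map ψ = Y →
        ψ ⟨φ u, hφN u⟩ ∈ Y from fun Y hY => hY ▸ h0) Q hψQ
  have hθN : θ ∈ N.Hom U := by
    rw [hN U]
    exact mem_normalizerHom_of_le F hQU hθ hUN hθval hθQ
  have hcen := hUc.2 θ.range ⟨θ, hθN, rfl⟩
  -- the centralizer
  intro c hc
  have hcN : c ∈ normalizerIn S (φ.comp (Subgroup.inclusion hQU)).range := by
    refine ⟨hc.1, ?_⟩
    apply Subgroup.centralizer_le_normalizer
    rw [Subgroup.mem_centralizer_iff]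
    rintro _ ⟨q, rfl⟩
    exact (Subgroup.mem_centralizer_iff.mp hc.2) _ ⟨⟨q, hQU q.2⟩, rfl⟩
  have hψc : ψ ⟨c, hcN⟩ ∈ centralizerIn (normalizerIn S Q) θ.range := by
    refine ⟨hψN _, ?_⟩
    show ψ ⟨c, hcN⟩ ∈ Subgroup.centralizer (θ.range : Set Ω)
    rw [Subgroup.mem_centralizer_iff]
    rintro _ ⟨u, rfl⟩
    rw [hθapp, ← map_mul, ← map_mul]
    congr 1
    apply Subtype.ext
    exact (Subgroup.mem_centralizer_iff.mp hc.2) _ ⟨u, rfl⟩
  obtain ⟨u, hu⟩ := hcen hψc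
  rw [hθapp] at hu
  have h1 := hψinj hu
  have h2 : φ u = c := congrArg Subtype.val h1
  exact ⟨u, h2⟩

/-- Normalizer systems of fully normalized subgroups of a section-free saturated system are
section-free. -/
theorem sectionFree_normalizer {Ω : Type u} [Group Ω] {S : Subgroup Ω} [Finite S] (p : ℕ)
    [Fact p.Prime] (hS : IsPGroup p S) (F : FusionSystem S) (hF : F.IsSaturated p)
    {Hh : Type*} [Group Hh] (hfree : F.IsSectionFree p Hh)
    (Q : Subgroup Ω) (hQ : F.IsFullyNormalized Q)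
    (N : FusionSystem (normalizerIn S Q)) (hN : F.IsNormalizerSystem Q N) :
    N.IsSectionFree p Hh := by
  have hQS : Q ≤ S := hQ.1
  haveI : Finite (normalizerIn S Q) := finite_of_le inf_le_left
  have hSN : IsPGroup p (normalizerIn S Q) := isPGroup_of_le hS inf_le_left
  have hQnorm : N.IsNormal Q := normalizerSystem_isNormal F hQS N hN
  have hNsat := normalizerSystem_isSaturated p hS F hF Q hQ N hN
  apply sectionFree_of_radical p hSN N hNsat
  intro U hUfn hUc hUr N' hN' L' _ ι' hM'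
  have hQU : Q ≤ U := le_of_isNormal_of_centric_radical p hSN N hQnorm hUc hUr
  have hUN : U ≤ normalizerIn S Q := hUc.1
  have hUS : U ≤ S := hUN.trans inf_le_left
  have hUF : F.IsCentric U := isCentric_of_normalizer_centric p hS F hF hQ N hN hQU hUc
  have hUnorm : N'.IsNormal U := normalizerSystem_isNormal N hUN N' hN'
  have hN'sat := normalizerSystem_isSaturated p hSN N hNsat U hUfn N' hN'
  obtain ⟨R₁, hconj, hR₁fn⟩ := exists_isConj_fullyNormalized F hUS
  have hR₁c := isCentric_of_isConj F hUF hconj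
  have hR₁S := hR₁c.1
  obtain ⟨N₁, hN₁⟩ : ∃ N₁ : FusionSystem (normalizerIn S R₁), F.IsNormalizerSystem R₁ N₁ :=
    ⟨_, normalizerSystem_isNormalizerSystem F R₁ hR₁S⟩
  have hcon := (normalizerSystem_isConstrained p hS F hF R₁ hR₁fn hR₁c N₁ hN₁).1
  haveI : Finite (normalizerIn S R₁) := finite_of_le inf_le_left
  have hS₁ : IsPGroup p (normalizerIn S R₁) := isPGroup_of_le hS inf_le_left
  obtain ⟨L₁, instL₁, ι₁, hM₁⟩ := Cfsg.Agent.S5090.result p hS₁ N₁ hcon
  have hfree₁ : ¬ Involves Hh L₁ := hfree R₁ hR₁fn hR₁c N₁ hN₁ L₁ ι₁ hM₁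
  exact not_involves_of_embed hS F hF N' hN'sat
    (fun P φ hφ => by
      rw [hN' P] at hφ
      have h1 := hφ.1
      rw [hN P] at h1
      exact h1.1) hUnorm hUF ι' hM' hconj hR₁fn N₁ hN₁ ι₁ hM₁ hfree₁

end Cfsg.Agent.Helper26.Embed
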