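import Mathlib
import Cfsg.Agent.Helper26.GFSC1
import Cfsg.Agent.Helper26.QdNormalizer

set_option autoImplicit false
set_option linter.style.haveILetI false
set_option linter.unusedSectionVars false
set_option linter.unusedVariables false

/-! The subsystem `S C_F(Q)` of a section-free system is section-free. -/

namespace Cfsg.Agent.Helper26.GF

open Cfsg Cfsg.FusionSystem Cfsg.Agent.Helper25 Cfsg.Agent.Helper26.MasterRed
  Cfsg.Agent.Helper26.WC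

universe u

section

variable {Ω : Type*} [Group Ω] {S : Subgroup Ω}

/-- For `Q` normal in `F` and a map `φ` whose source contains `Q`, some map defined on
`A C_S(Q)` agrees with `φ` on `Q`. -/
theorem exists_decomp [Finite S] (p : ℕ) [Fact p.Prime] (hS : IsPGroup p S)
    (F : FusionSystem S) (hF : F.IsSaturated p) {Q : Subgroup Ω} (hQ : F.IsNormal Q)
    {A : Subgroup Ω} (hQA : Q ≤ A) {φ : A →* Ω} (hφ : φ ∈ F.Hom A) :
    ∃ χ ∈ F.Hom (A ⊔ centralizerIn S Q),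
      ∀ q : Q, χ ⟨q, (le_sup_left : A ≤ A ⊔ centralizerIn S Q) (hQA q.2)⟩ = φ ⟨q, hQA q.2⟩ := by
  have hQS : Q ≤ S := hQ.1
  have hSN : S ≤ Subgroup.normalizer (Q : Set Ω) := le_normalizer_of_isNormal F hQ
  have hscQ := stronglyClosed_of_isNormal F hQ
  have hQfin : Finite Q := finite_of_le hQS
  have hAS : A ≤ S := (F.le_of_mem hφ).1
  have hφS : ∀ y, φ y ∈ S := (F.le_of_mem hφ).2
  have hrec : F.IsReceptive Q := isReceptive_of_stronglyClosed p F hF hscQ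
  have hα : φ.comp (Subgroup.inclusion hQA) ∈ F.Hom Q := restrict_mem F hQA hφ
  obtain ⟨α, hαe⟩ : ∃ α : Q →* Ω, α = φ.comp (Subgroup.inclusion hQA) := ⟨_, rfl⟩
  rw [← hαe] at hα
  have hαapp : ∀ q : Q, α q = φ ⟨q, hQA q.2⟩ := fun q => by rw [hαe]; rfl
  have hαr : α.range = Q := by
    apply Subgroup.eq_of_le_of_card_ge
    · rintro _ ⟨q, rfl⟩
      exact hscQ.2 Q le_rfl α hα q
    · exact (Nat.card_congr (MonoidHom.ofInjective (F.injective_of_mem hα)).toEquiv).le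
  obtain ⟨ψ', hψ', hψ'ext⟩ := hrec.2 Q α hα hαr
  have hAN : A ≤ extender S Q α := by
    intro g hg
    apply Subgroup.subset_closure
    refine ⟨hAS hg, hSN (hAS hg), φ ⟨g, hg⟩, hφS _, fun q hq => ?_⟩
    rw [hαapp, hαapp]
    have e : (⟨((⟨g * (q : Ω) * g⁻¹, hq⟩ : Q) : Ω), hQA hq⟩ : A) =
        ⟨g, hg⟩ * ⟨q, hQA q.2⟩ * ⟨g, hg⟩⁻¹ := Subtype.ext rfl
    rw [e, map_mul, map_mul, map_inv]
  have hCN : centralizerIn S Q ≤ extender S Q α := by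
    intro c hc
    apply Subgroup.subset_closure
    refine ⟨hc.1, hSN hc.1, 1, S.one_mem, fun q hq => ?_⟩
    have e : (⟨c * (q : Ω) * c⁻¹, hq⟩ : Q) = q := by
      apply Subtype.ext
      show c * (q : Ω) * c⁻¹ = q
      have := (Subgroup.mem_centralizer_iff.mp hc.2) q q.2
      rw [← this]
      group
    rw [e]
    simp
  have hEN : A ⊔ centralizerIn S Q ≤ extender S Q α := sup_le hAN hCN
  refine ⟨ψ'.comp (Subgroup.inclusion hEN), restrict_mem F hEN hψ', fun q => ?_⟩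
  rw [← hαapp]
  exact hψ'ext q q.2 _

/-- A subgroup containing `Q` that is centric in `S C_F(Q)` is centric in `F`. -/
theorem isCentric_of_sc [Finite S] (p : ℕ) [Fact p.Prime] (hS : IsPGroup p S)
    (F : FusionSystem S) (hF : F.IsSaturated p) {Q : Subgroup Ω} (hQ : F.IsNormal Q)
    (E : FusionSystem S)
    (hid : ∀ (P : Subgroup Ω) (hQP : Q ≤ P) (θ : P →* Ω), θ ∈ F.Hom P →
      (∀ q : Q, θ ⟨q, hQP q.2⟩ = q) → θ ∈ E.Hom P)
    {Q' : Subgroup Ω} (hQQ' : Q ≤ Q') (hc : E.IsCentric Q') : F.IsCentric Q' := by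
  have hQS : Q ≤ S := hQ.1
  have hscQ := stronglyClosed_of_isNormal F hQ
  have hQfin : Finite Q := finite_of_le hQS
  refine ⟨hc.1, fun Q'' hconj => ?_⟩
  obtain ⟨φ, hφ, hr⟩ := hconj
  obtain ⟨ρ, hρ, hρinv, hρr⟩ := exists_inv_mem F hφ hr
  have hQ''S : Q'' ≤ S := (F.le_of_mem hρ).1
  -- `Q ≤ Q''`
  have hmapQ : (Q.subgroupOf Q').map φ = Q := by
    apply map_eq_of_map_le (F.injective_of_mem hφ) _ hQQ'
    rintro _ ⟨y, hy, rfl⟩
    have h1 := hscQ.2 Q le_rfl _ (restrict_mem F hQQ' hφ) ⟨y, hy⟩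
    exact h1
  have hQQ'' : Q ≤ Q'' := by
    intro q hq
    rw [← hmapQ] at hq
    obtain ⟨y, -, rfl⟩ := hq
    rw [← hr]
    exact ⟨y, rfl⟩
  obtain ⟨χ, hχ, hχQ⟩ := exists_decomp p hS F hF hQ hQQ'' hρ
  have hχinj := F.injective_of_mem hχ
  have hχS : ∀ y, χ y ∈ S := (F.le_of_mem hχ).2
  -- the restriction of `χ` to `Q''`
  have hχ'' : χ.comp (Subgroup.inclusion (le_sup_left : Q'' ≤ Q'' ⊔ centralizerIn S Q)) ∈
      F.Hom Q'' := restrict_mem F le_sup_left hχ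
  obtain ⟨χ'', hχ''e⟩ : ∃ χ'' : Q'' →* Ω,
      χ'' = χ.comp (Subgroup.inclusion (le_sup_left : Q'' ≤ Q'' ⊔ centralizerIn S Q)) :=
    ⟨_, rfl⟩
  rw [← hχ''e] at hχ''
  have hχ''app : ∀ y : Q'', χ'' y = χ ⟨y, (le_sup_left : Q'' ≤ Q'' ⊔ centralizerIn S Q) y.2⟩ :=
    fun y => by rw [hχ''e]; rfl
  obtain ⟨X, hX⟩ : ∃ X, χ''.range = X := ⟨_, rfl⟩
  obtain ⟨τ, hτ, hτinv, hτr⟩ := exists_inv_mem F hχ'' hX
  have hτQ'' : ∀ z : X, τ z ∈ Q'' := by
    intro z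
    rw [← hτr]
    exact ⟨z, rfl⟩
  have hθ : ρ.comp (τ.codRestrict Q'' hτQ'') ∈ F.Hom X := F.comp_mem hτ hρ hτQ''
  obtain ⟨θ, hθe⟩ : ∃ θ : X →* Ω, θ = ρ.comp (τ.codRestrict Q'' hτQ'') := ⟨_, rfl⟩
  rw [← hθe] at hθ
  have hθapp : ∀ z : X, θ z = ρ ⟨τ z, hτQ'' z⟩ := fun z => by rw [hθe]; rfl
  have hχ''X : ∀ y : Q'', χ'' y ∈ X := by
    intro y
    rw [← hX]
    exact ⟨y, rfl⟩
  have hθχ : ∀ y : Q'', θ ⟨χ'' y, hχ''X y⟩ = ρ y := by
    intro y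
    rw [hθapp]
    congr 1
    exact Subtype.ext (hτinv y (hχ''X y))
  -- `ρ` maps `Q` onto `Q`
  have hmapQ2 : (Q.subgroupOf Q'').map ρ = Q := by
    apply map_eq_of_map_le (F.injective_of_mem hρ) _ hQQ''
    rintro _ ⟨y, hy, rfl⟩
    have h1 := hscQ.2 Q le_rfl _ (restrict_mem F hQQ'' hρ) ⟨y, hy⟩
    exact h1
  have hQX : Q ≤ X := by
    intro q hq
    have hq2 := hq
    rw [← hmapQ2] at hq2
    obtain ⟨y, hy, hyq⟩ := hq2
    rw [← hX]
    refine ⟨y, ?_⟩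
    rw [hχ''app]
    have := hχQ ⟨y, hy⟩
    rw [this]
    exact hyq
  have hθQ : ∀ q : Q, θ ⟨q, hQX q.2⟩ = q := by
    intro q
    have hq2 : (q : Ω) ∈ (Q.subgroupOf Q'').map ρ := by rw [hmapQ2]; exact q.2
    obtain ⟨y, hy, hyq⟩ := hq2
    have h1 : χ'' y = (q : Ω) := by
      rw [hχ''app]
      have := hχQ ⟨y, hy⟩
      rw [this]
      exact hyq
    have e : (⟨(q : Ω), hQX q.2⟩ : X) = ⟨χ'' y, hχ''X y⟩ := Subtype.ext h1.symm
    rw [e, hθχ]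
    exact hyq
  have hθE : θ ∈ E.Hom X := hid X hQX θ hθ hθQ
  have hθr : θ.range = Q' := by
    rw [← hρr]
    ext z
    constructor
    · rintro ⟨x, rfl⟩
      rw [hθapp]
      exact ⟨_, rfl⟩
    · rintro ⟨y, rfl⟩
      exact ⟨⟨χ'' y, hχ''X y⟩, hθχ y⟩
  have hconjE : E.IsConj Q' X := isConj_symm E ⟨θ, hθE, hθr⟩
  have hCX : centralizerIn S X ≤ X := hc.2 X hconjE
  -- conclusion
  intro c hc'
  have hcC : c ∈ centralizerIn S Q := by
    refine ⟨hc'.1, ?_⟩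
    show c ∈ Subgroup.centralizer (Q : Set Ω)
    rw [Subgroup.mem_centralizer_iff]
    intro q hq
    exact (Subgroup.mem_centralizer_iff.mp hc'.2) q (hQQ'' hq)
  have hcE : c ∈ Q'' ⊔ centralizerIn S Q := Subgroup.mem_sup_right hcC
  have hχc : χ ⟨c, hcE⟩ ∈ centralizerIn S X := by
    refine ⟨hχS _, ?_⟩
    show χ ⟨c, hcE⟩ ∈ Subgroup.centralizer (X : Set Ω)
    rw [Subgroup.mem_centralizer_iff]
    intro x hx
    have hx' : x ∈ χ''.range := by rw [hX]; exact hx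
    obtain ⟨y, rfl⟩ := hx'
    rw [hχ''app, ← map_mul, ← map_mul]
    congr 1
    apply Subtype.ext
    show (y : Ω) * c = c * y
    exact (Subgroup.mem_centralizer_iff.mp hc'.2) y y.2
  have h2 : χ ⟨c, hcE⟩ ∈ χ''.range := by rw [hX]; exact hCX hχc
  obtain ⟨y, hy⟩ := h2
  rw [hχ''app] at hy
  have h3 := hχinj hy
  have h4 : (y : Ω) = c := congrArg Subtype.val h3
  rw [← h4]
  exact y.2

end

/-- `S C_F(Q)` is section-free when `F` is. -/
theorem sectionFree_sc {Ω : Type u} [Group Ω] {S : Subgroup Ω} [Finite S] (p : ℕ) [Fact p.Prime]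
    (hS : IsPGroup p S)
    (F : FusionSystem S) (hF : F.IsSaturated p) {Q : Subgroup Ω} (hQ : F.IsNormal Q)
    (E : FusionSystem S) (hE : E.IsSaturated p)
    (hsub : ∀ (P : Subgroup Ω) (φ : P →* Ω), φ ∈ E.Hom P → φ ∈ F.Hom P)
    (hid : ∀ (P : Subgroup Ω) (hQP : Q ≤ P) (θ : P →* Ω), θ ∈ F.Hom P →
      (∀ q : Q, θ ⟨q, hQP q.2⟩ = q) → θ ∈ E.Hom P)
    (hQE : E.IsNormal Q) {Hh : Type*} [Group Hh] (hfree : F.IsSectionFree p Hh) :
    E.IsSectionFree p Hh := by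
  apply Embed.sectionFree_of_radical p hS E hE
  intro Q' hQ'fn hQ'c hQ'r N hN L _ ι hM
  have hQ'S : Q' ≤ S := hQ'c.1
  have hQQ' : Q ≤ Q' := le_of_isNormal_of_centric_radical p hS E hQE hQ'c hQ'r
  have hQ'cF : F.IsCentric Q' := isCentric_of_sc p hS F hF hQ E hid hQQ' hQ'c
  have hNsat := normalizerSystem_isSaturated p hS E hE Q' hQ'fn N hN
  have hQ'N : N.IsNormal Q' := normalizerSystem_isNormal E hQ'S N hN
  obtain ⟨R₁, hconj, hR₁fn⟩ := exists_isConj_fullyNormalized F hQ'S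
  have hR₁c := isCentric_of_isConj F hQ'cF hconj
  have hR₁S := hR₁c.1
  obtain ⟨N₁, hN₁⟩ : ∃ N₁ : FusionSystem (normalizerIn S R₁), F.IsNormalizerSystem R₁ N₁ :=
    ⟨_, normalizerSystem_isNormalizerSystem F R₁ hR₁S⟩
  have hcon := (normalizerSystem_isConstrained p hS F hF R₁ hR₁fn hR₁c N₁ hN₁).1
  haveI : Finite (normalizerIn S R₁) := finite_of_le inf_le_left
  have hS₁ : IsPGroup p (normalizerIn S R₁) := isPGroup_of_le hS inf_le_left
  obtain ⟨L₁, instL₁, ι₁, hM₁⟩ := Cfsg.Agent.S5090.result p hS₁ N₁ hcon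
  have hfree₁ : ¬ Involves Hh L₁ := hfree R₁ hR₁fn hR₁c N₁ hN₁ L₁ ι₁ hM₁
  exact Embed.not_involves_of_embed hS F hF N hNsat
    (fun P φ hφ => by rw [hN P] at hφ; exact hsub P φ hφ.1) hQ'N hQ'cF ι hM hconj hR₁fn N₁ hN₁
    ι₁ hM₁ hfree₁

end Cfsg.Agent.Helper26.GF
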