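import Mathlib
import Cfsg.Agent.Helper26.GFSC2

set_option autoImplicit false
set_option linter.style.haveILetI false
set_option linter.unusedSectionVars false
set_option linter.unusedVariables false

/-! Powers of automorphisms acting through conjugations (auxiliary lemmas). -/

namespace Cfsg.Agent.Helper26.GF

open Cfsg Cfsg.FusionSystem Cfsg.Agent.Helper25 Cfsg.Agent.Helper26.MasterRed
  Cfsg.Agent.Helper26.WC

variable {Ω : Type*} [Group Ω]

/-- an automorphism of `P` trivial on `Q` and on `P/Q` has order dividing `|Q|` -/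
theorem aut_pow_card_eq_one {P Q : Subgroup Ω} [Finite Q] (hQP : Q ≤ P) (δ : MulAut P)
    (h1 : ∀ x : P, (x : Ω) ∈ Q → δ x = x) (h2 : ∀ x : P, ((δ x : P) : Ω) * (x : Ω)⁻¹ ∈ Q) :
    δ ^ Nat.card Q = 1 := by
  ext x
  obtain ⟨z, hze⟩ : ∃ z : P, z = δ x * x⁻¹ := ⟨_, rfl⟩
  have hzQ : (z : Ω) ∈ Q := by rw [hze]; exact h2 x
  have hδx : δ x = z * x := by rw [hze]; group
  have hδz : δ z = z := h1 z hzQ
  have key : ∀ n : ℕ, (δ ^ n) x = z ^ n * x := by
    intro n
    induction n with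
    | zero => simp
    | succ n ih =>
      rw [pow_succ', MulAut.mul_apply, ih, map_mul, map_pow, hδz, hδx, pow_succ]
      group
  have hz1 : z ^ Nat.card Q = 1 := by
    have h3 : (⟨(z : Ω), hzQ⟩ : Q) ^ Nat.card Q = 1 := pow_card_eq_one'
    apply Subtype.ext
    rw [Subgroup.coe_pow, Subgroup.coe_one]
    have h4 : (((⟨(z : Ω), hzQ⟩ : Q) ^ Nat.card Q : Q) : Ω) = ((1 : Q) : Ω) := by rw [h3]
    rw [Subgroup.coe_pow, Subgroup.coe_one] at h4
    exact h4
  rw [key, hz1, one_mul]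
  rfl

/-- powers of an automorphism acting on `Q` as conjugation by `s` -/
theorem aut_pow_conj {P Q : Subgroup Ω} (hQP : Q ≤ P) (β : MulAut P) {s : Ω}
    (hs : s ∈ Subgroup.normalizer (Q : Set Ω))
    (h : ∀ x : P, (x : Ω) ∈ Q → ((β x : P) : Ω) = s * x * s⁻¹) (n : ℕ) :
    ∀ x : P, (x : Ω) ∈ Q → (((β ^ n) x : P) : Ω) = s ^ n * x * (s ^ n)⁻¹ := by
  induction n with
  | zero => intro x _; simp
  | succ n ih =>
    intro x hx
    rw [pow_succ', MulAut.mul_apply]
    have h1 := ih x hx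
    have h2 : (((β ^ n) x : P) : Ω) ∈ Q := by
      rw [h1]
      have hsn : s ^ n ∈ Subgroup.normalizer (Q : Set Ω) := Subgroup.pow_mem _ hs n
      exact ((Subgroup.mem_normalizer_iff.mp hsn) _).mp hx
    rw [h (( β ^ n) x) h2, h1, pow_succ']
    group

/-- powers of an automorphism acting modulo the kernel of `θ` as conjugation by `u` -/
theorem aut_pow_theta {Ω' : Type*} [Group Ω'] {S P : Subgroup Ω} (hPS : P ≤ S) (θ : S →* Ω')
    (β : MulAut P) {u : Ω'}
    (h : ∀ x : P, θ ⟨β x, hPS (β x).2⟩ = u * θ ⟨x, hPS x.2⟩ * u⁻¹) (n : ℕ) :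
    ∀ x : P, θ ⟨(β ^ n) x, hPS ((β ^ n) x).2⟩ = u ^ n * θ ⟨x, hPS x.2⟩ * (u ^ n)⁻¹ := by
  induction n with
  | zero => intro x; simp
  | succ n ih =>
    intro x
    rw [pow_succ', MulAut.mul_apply, h, ih, pow_succ']
    group

end Cfsg.Agent.Helper26.GF
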