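import Mathlib
import Cfsg.Agent.Helper26.GFSC3a

set_option autoImplicit false
set_option linter.style.haveILetI false
set_option linter.unusedSectionVars false
set_option linter.unusedVariables false

/-! For a system `E` whose maps act on the normal subgroup `Q` as elements of `S`, the full
preimage of a subgroup normal in `E/Q` is normal in `E`. -/

namespace Cfsg.Agent.Helper26.GF

open Cfsg Cfsg.FusionSystem Cfsg.Agent.Helper25 Cfsg.Agent.Helper26.MasterRed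
  Cfsg.Agent.Helper26.WC

section

variable {Ω Ω' : Type*} [Group Ω] [Group Ω'] {S : Subgroup Ω} [Finite S]

set_option maxHeartbeats 3200000 in
theorem isNormal_preimage_of_sc (p : ℕ) [Fact p.Prime] (hS : IsPGroup p S)
    (E : FusionSystem S) (hE : E.IsSaturated p) {Q : Subgroup Ω} (hQ : E.IsNormal Q)
    (hconj : ∀ (P : Subgroup Ω) (hQP : Q ≤ P) (φ : P →* Ω), φ ∈ E.Hom P →
      ∃ s ∈ S, ∀ q : Q, φ ⟨q, hQP q.2⟩ = s * q * s⁻¹)
    (θ : S →* Ω') (hker : ∀ s : S, θ s = 1 ↔ (s : Ω) ∈ Q) {S' : Subgroup Ω'}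
    (hrange : θ.range = S') (E' : FusionSystem S')
    (hiff : ∀ (P' : Subgroup Ω') (φ' : P' →* Ω'),
      φ' ∈ E'.Hom P' ↔ P' ≤ S' ∧ ∃ φ ∈ E.Hom (preimageAlong θ P'), InducedAlong θ φ φ')
    {U' : Subgroup Ω'} (hU' : E'.IsNormal U') : E.IsNormal (preimageAlong θ U') := by
  have hQS : Q ≤ S := hQ.1
  have hSNQ := le_normalizer_of_isNormal E hQ
  have hscQ := stronglyClosed_of_isNormal E hQ
  have hQfin : Finite Q := finite_of_le hQS
  have hU'S' : U' ≤ S' := hU'.1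
  have hscU' := stronglyClosed_of_isNormal E' hU'
  have hS'N := le_normalizer_of_isNormal E' hU'
  obtain ⟨T, hTe⟩ : ∃ T, T = preimageAlong θ U' := ⟨_, rfl⟩
  rw [← hTe]
  have hTS : T ≤ S := by rw [hTe]; exact preimageAlong_le θ U'
  have hQT : Q ≤ T := by rw [hTe]; exact ker_le_preimageAlong θ hQS hker U'
  have hmemT : ∀ (x : Ω) (hx : x ∈ S), x ∈ T ↔ θ ⟨x, hx⟩ ∈ U' := by
    intro x hx
    rw [hTe, mem_preimageAlong]
    exact ⟨fun ⟨_, h⟩ => h, fun h => ⟨hx, h⟩⟩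
  have hSNT : S ≤ Subgroup.normalizer (T : Set Ω) := by
    intro g hg
    rw [hTe]
    apply mem_normalizer_preimageAlong θ U' ⟨g, hg⟩
    apply hS'N
    rw [← hrange]
    exact ⟨_, rfl⟩
  -- maps whose source contains `Q` preserve `T`
  have key1 : ∀ (P : Subgroup Ω), Q ≤ P → ∀ ψ : P →* Ω, ψ ∈ E.Hom P → ∀ x : P, (x : Ω) ∈ T →
      ψ x ∈ T := by
    intro P hQP ψ hψ x hx
    have hPS : P ≤ S := (E.le_of_mem hψ).1
    have hpre : preimageAlong θ (imageAlong θ P) = P := by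
      rw [preimageAlong_imageAlong θ hQS hker hPS]
      exact sup_eq_left.mpr hQP
    have hP'S : imageAlong θ P ≤ S' := by
      rw [← hrange]
      rintro _ ⟨y, -, rfl⟩
      exact ⟨y, rfl⟩
    obtain ⟨P', hP', hPe⟩ : ∃ P', P' ≤ S' ∧ P = preimageAlong θ P' := ⟨_, hP'S, hpre.symm⟩
    subst hPe
    have hψS := (E.le_of_mem hψ).2
    obtain ⟨ψ', hind⟩ := exists_inducedAlong E hscQ θ hker hrange hP' hψ
    have hψ'E : ψ' ∈ E'.Hom P' := (hiff P' ψ').mpr ⟨hP', ψ, hψ, hind⟩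
    have h1 := inducedAlong_apply θ hind x (hPS x.2) (preimageAlong_map_mem θ P' x) (hψS x)
    have hxU : θ ⟨x, hPS x.2⟩ ∈ U' := (hmemT _ _).mp hx
    have h2 := hscU'.2 (P' ⊓ U') inf_le_right _ (restrict_mem E' inf_le_left hψ'E)
      ⟨θ ⟨x, hPS x.2⟩, ⟨preimageAlong_map_mem θ P' x, hxU⟩⟩
    have h3 : ψ' ⟨θ ⟨x, hPS x.2⟩, preimageAlong_map_mem θ P' x⟩ ∈ U' := h2
    rw [h1] at h3
    exact (hmemT _ _).mpr h3
  have hTsc : E.StronglyClosed T := by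
    refine ⟨hTS, fun R hRT φ hφ x => ?_⟩
    obtain ⟨ψ, hψ, hext, -⟩ := hQ.2 R φ hφ
    rw [← hext x]
    exact key1 (R ⊔ Q) le_sup_right ψ hψ _ (hRT x.2)
  apply isNormal_of_alperin p hS E hE
  intro P hP
  have hPS : P ≤ S := by
    rcases hP with rfl | hP
    · exact le_rfl
    · exact hP.1.1
  refine ⟨?_, fun α hα => map_autGroup_eq_of_stronglyClosed E hTsc hPS α hα⟩
  rcases hP with rfl | hP
  · exact hTS
  -- the essential case
  have hQP : Q ≤ P := le_of_isNormal_of_isEssential p hS E hQ hP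
  have hC : centralizerIn S P ≤ P := hP.1.2 P (isConj_refl E hPS)
  have hOp := opAutLeInn_of_isEssential E p hP
  have hpre : preimageAlong θ (imageAlong θ P) = P := by
    rw [preimageAlong_imageAlong θ hQS hker hPS]
    exact sup_eq_left.mpr hQP
  have hP'S : imageAlong θ P ≤ S' := by
    rw [← hrange]
    rintro _ ⟨y, -, rfl⟩
    exact ⟨y, rfl⟩
  obtain ⟨P', hP', hPe⟩ : ∃ P', P' ≤ S' ∧ P = preimageAlong θ P' := ⟨_, hP'S, hpre.symm⟩
  clear hpre hP'S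
  subst hPe
  let K : Subgroup (MulAut ↥(preimageAlong θ P')) :=
    { carrier := {β | β ∈ E.autGroup (preimageAlong θ P') ∧ ∃ u ∈ U',
        ∀ x : ↥(preimageAlong θ P'), θ ⟨β x, hPS (β x).2⟩ = u * θ ⟨x, hPS x.2⟩ * u⁻¹}
      one_mem' := ⟨Subgroup.one_mem _, 1, U'.one_mem, fun x => by simp⟩
      mul_mem' := by
        rintro a b ⟨ha, u, hu, hau⟩ ⟨hb, v, hv, hbv⟩
        refine ⟨Subgroup.mul_mem _ ha hb, u * v, U'.mul_mem hu hv, fun x => ?_⟩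
        rw [MulAut.mul_apply, hau, hbv]
        group
      inv_mem' := by
        rintro a ⟨ha, u, hu, hau⟩
        refine ⟨Subgroup.inv_mem _ ha, u⁻¹, U'.inv_mem hu, fun x => ?_⟩
        have h1 := hau (a⁻¹ x)
        have e : (⟨((a (a⁻¹ x) : ↥(preimageAlong θ P')) : Ω), hPS (a (a⁻¹ x)).2⟩ : S) =
            ⟨x, hPS x.2⟩ := Subtype.ext (by simp)
        rw [e] at h1
        rw [h1]
        group }
  have hKmem : ∀ β : MulAut ↥(preimageAlong θ P'), β ∈ K ↔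
      β ∈ E.autGroup (preimageAlong θ P') ∧ ∃ u ∈ U',
        ∀ x : ↥(preimageAlong θ P'), θ ⟨β x, hPS (β x).2⟩ = u * θ ⟨x, hPS x.2⟩ * u⁻¹ :=
    fun β => Iff.rfl
  have hKA : K ≤ E.autGroup (preimageAlong θ P') := fun β hβ => ((hKmem β).mp hβ).1
  have hKnorm : ∀ α ∈ E.autGroup (preimageAlong θ P'), ∀ β ∈ K, α * β * α⁻¹ ∈ K := by
    intro α hα β hβK
    obtain ⟨hβ, u, hu, hβu⟩ := (hKmem β).mp hβK
    rw [hKmem]
    refine ⟨Subgroup.mul_mem _ (Subgroup.mul_mem _ hα hβ) (Subgroup.inv_mem _ hα), ?_⟩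
    have hαE : autHom α ∈ E.Hom (preimageAlong θ P') := (mem_autGroup_iff E hPS α).mp hα
    obtain ⟨a', hind⟩ := exists_inducedAlong E hscQ θ hker hrange hP' hαE
    have ha'E : a' ∈ E'.Hom P' := (hiff P' a').mpr ⟨hP', _, hαE, hind⟩
    have ha'app : ∀ x : ↥(preimageAlong θ P'),
        a' ⟨θ ⟨x, hPS x.2⟩, preimageAlong_map_mem θ P' x⟩ = θ ⟨α x, hPS (α x).2⟩ :=
      fun x => inducedAlong_apply θ hind x (hPS x.2) _ (hPS (α x).2)
    obtain ⟨ψ', hψ', hext', hmap'⟩ := hU'.2 P' a' ha'E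
    have huX : u ∈ P' ⊔ U' := Subgroup.mem_sup_right hu
    have hψ'U : ∀ z : ↥(P' ⊔ U'), (z : Ω') ∈ U' → ψ' z ∈ U' := by
      intro z hz
      have h0 : ψ' z ∈ (U'.subgroupOf (P' ⊔ U')).map ψ' := ⟨z, hz, rfl⟩
      exact (show ∀ Y : Subgroup Ω', (U'.subgroupOf (P' ⊔ U')).map ψ' = Y → ψ' z ∈ Y from
        fun Y hY => hY ▸ h0) U' hmap'
    refine ⟨ψ' ⟨u, huX⟩, hψ'U _ hu, fun x => ?_⟩
    obtain ⟨y, hye⟩ : ∃ y : ↥(preimageAlong θ P'), y = α⁻¹ x := ⟨_, rfl⟩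
    have hαy : α y = x := by rw [hye]; simp
    have e0 : (α * β * α⁻¹) x = α (β y) := by rw [hye]; rfl
    have e1 : (⟨(((α * β * α⁻¹) x : ↥(preimageAlong θ P')) : Ω), hPS ((α * β * α⁻¹) x).2⟩ : S) =
        ⟨α (β y), hPS (α (β y)).2⟩ := Subtype.ext (by rw [e0])
    rw [e1, ← ha'app (β y)]
    have e2 : (Subgroup.inclusion (le_sup_left : P' ≤ P' ⊔ U')
        ⟨θ ⟨β y, hPS (β y).2⟩, preimageAlong_map_mem θ P' (β y)⟩) =
        ⟨u, huX⟩ * (Subgroup.inclusion (le_sup_left : P' ≤ P' ⊔ U')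
          ⟨θ ⟨y, hPS y.2⟩, preimageAlong_map_mem θ P' y⟩) * ⟨u, huX⟩⁻¹ := by
      apply Subtype.ext
      exact hβu y
    rw [← hext', e2, map_mul, map_mul, map_inv, hext', ha'app y]
    have e3 : (⟨((α y : ↥(preimageAlong θ P')) : Ω), hPS (α y).2⟩ : S) = ⟨x, hPS x.2⟩ :=
      Subtype.ext (by rw [hαy])
    rw [e3]
  have hKp : IsPGroup p K := by
    rintro ⟨β, hβK⟩
    obtain ⟨hβ, u, hu, hβu⟩ := (hKmem β).mp hβK
    have huS : u ∈ θ.range := by rw [hrange]; exact hU'S' hu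
    obtain ⟨t, rfl⟩ := huS
    obtain ⟨k, hk⟩ := hS t
    have hβ1 : ∀ x : ↥(preimageAlong θ P'),
        θ ⟨(β ^ (p ^ k)) x, hPS ((β ^ (p ^ k)) x).2⟩ = θ ⟨x, hPS x.2⟩ := by
      intro x
      rw [aut_pow_theta hPS θ β hβu (p ^ k) x, ← map_pow, hk, map_one]
      simp
    obtain ⟨β₁, hβ₁e⟩ : ∃ β₁ : MulAut ↥(preimageAlong θ P'), β₁ = β ^ (p ^ k) := ⟨_, rfl⟩
    rw [← hβ₁e] at hβ1
    have hβ₁A : β₁ ∈ E.autGroup (preimageAlong θ P') := by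
      rw [hβ₁e]
      exact Subgroup.pow_mem _ hβ _
    obtain ⟨s, hs, hsq⟩ := hconj _ hQP (autHom β₁) ((mem_autGroup_iff E hPS β₁).mp hβ₁A)
    obtain ⟨j, hj⟩ := hS ⟨s, hs⟩
    have hsj : s ^ (p ^ j) = 1 := by
      have h1 : (((⟨s, hs⟩ : S) ^ (p ^ j) : S) : Ω) = ((1 : S) : Ω) := by rw [hj]
      rw [Subgroup.coe_pow, Subgroup.coe_one] at h1
      exact h1
    have hβ₁Q : ∀ x : ↥(preimageAlong θ P'), (x : Ω) ∈ Q →
        ((β₁ x : ↥(preimageAlong θ P')) : Ω) = s * x * s⁻¹ := fun x hx => hsq ⟨x, hx⟩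
    have hβ₂Q : ∀ x : ↥(preimageAlong θ P'), (x : Ω) ∈ Q → (β₁ ^ (p ^ j)) x = x := by
      intro x hx
      apply Subtype.ext
      rw [aut_pow_conj hQP β₁ (hSNQ hs) hβ₁Q (p ^ j) x hx, hsj]
      simp
    have hβ₂θ : ∀ x : ↥(preimageAlong θ P'),
        θ ⟨(β₁ ^ (p ^ j)) x, hPS ((β₁ ^ (p ^ j)) x).2⟩ = θ ⟨x, hPS x.2⟩ := by
      intro x
      rw [aut_pow_theta hPS θ β₁ (u := 1) (fun x => by rw [hβ1 x]; simp) (p ^ j) x]
      simp
    have hβ₂Q2 : ∀ x : ↥(preimageAlong θ P'),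
        (((β₁ ^ (p ^ j)) x : ↥(preimageAlong θ P')) : Ω) * (x : Ω)⁻¹ ∈ Q := by
      intro x
      have h1 : θ (⟨(β₁ ^ (p ^ j)) x, hPS ((β₁ ^ (p ^ j)) x).2⟩ * (⟨x, hPS x.2⟩ : S)⁻¹) = 1 := by
        rw [map_mul, map_inv, hβ₂θ x, mul_inv_cancel]
      exact (hker _).mp h1
    have h3 := aut_pow_card_eq_one hQP (β₁ ^ (p ^ j)) hβ₂Q hβ₂Q2
    obtain ⟨i, hi⟩ := (IsPGroup.iff_card.mp (isPGroup_of_le hS hQS))
    refine ⟨k + j + i, ?_⟩
    apply Subtype.ext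
    show β ^ (p ^ (k + j + i)) = 1
    rw [pow_add, pow_add, pow_mul, pow_mul, ← hi, ← hβ₁e]
    exact h3
  have hKI : K ≤ Inn ↥(preimageAlong θ P') := hOp K hKA hKnorm hKp
  have hTK : autInducedBy T (preimageAlong θ P') ≤ Inn ↥(preimageAlong θ P') := by
    intro α hα
    apply hKI
    rw [mem_autInducedBy_iff] at hα
    obtain ⟨g, hgT, hg⟩ := hα
    rw [hKmem]
    refine ⟨autInducedBy_le_autGroup E hPS
      ((mem_autInducedBy_iff S _ α).mpr ⟨g, hTS hgT, hg⟩), θ ⟨g, hTS hgT⟩,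
      (hmemT _ _).mp hgT, fun x => ?_⟩
    have e : (⟨((α x : ↥(preimageAlong θ P')) : Ω), hPS (α x).2⟩ : S) =
        ⟨g, hTS hgT⟩ * ⟨x, hPS x.2⟩ * ⟨g, hTS hgT⟩⁻¹ := Subtype.ext (hg x)
    rw [e, map_mul, map_mul, map_inv]
  exact Cfsg.Agent.Helper26.MasterRed.le_of_autInducedBy_le_inn p hS hTS hSNT hPS hC hTK

end

end Cfsg.Agent.Helper26.GF
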