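import Mathlib
import Cfsg.Agent.Helper26.ModelAut
import Cfsg.Agent.Helper25.FusionQuotGroup
import Cfsg.Agent.Helper25.FusionIso7
import Cfsg.Agent.Helper25.FusionIso3

/-! # A realization stays a realization modulo a normal `p'`-subgroup -/

set_option autoImplicit false

namespace Cfsg.Agent.Helper26.ModelAut

open Cfsg Cfsg.FusionSystem Cfsg.Agent.Helper25

variable {Ω : Type*} [Group Ω] {S : Subgroup Ω} {G : Type*} [Group G]

theorem realizedBy_quotient [Finite S] [Finite G] (p : ℕ) [Fact p.Prime] (F : FusionSystem S)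
    (ι : S →* G) (hreal : F.IsRealizedBy ι) (T : Sylow p G) (hT : (T : Subgroup G) = ι.range)
    (H : Subgroup G) [H.Normal] (hH : (Nat.card H).Coprime p) :
    F.IsRealizedBy ((QuotientGroup.mk' H).comp ι) ∧
      ∃ T' : Sylow p (G ⧸ H), (T' : Subgroup (G ⧸ H)) = ((QuotientGroup.mk' H).comp ι).range := by
  have h₁ := isFactorSystem_of_isRealizedBy hreal
  have h₁' : F.IsFactorSystem ⊥ ι (groupFusionSystem (T : Subgroup G)) := by
    rw [hT]
    exact h₁
  have h₂ := groupFusion_isFactorSystem p T H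
  have h₃ := iso_comp_factor h₁' h₂ (γ := (QuotientGroup.mk' H).comp ι) (fun s => rfl)
  have hpre : preimageAlong ι ((T : Subgroup G) ⊓ H) = ⊥ := by
    ext x
    rw [mem_preimageAlong, Subgroup.mem_bot]
    constructor
    · rintro ⟨hx, h⟩
      have hxT : ι ⟨x, hx⟩ ∈ (T : Subgroup G) := h.1
      have hxH : ι ⟨x, hx⟩ ∈ H := h.2
      obtain ⟨k, hk⟩ := T.2 ⟨ι ⟨x, hx⟩, hxT⟩
      have hk' : (ι ⟨x, hx⟩) ^ p ^ k = 1 := congrArg Subtype.val hk
      have hd1 : orderOf (ι ⟨x, hx⟩) ∣ p ^ k := orderOf_dvd_of_pow_eq_one hk'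
      have hd2 : orderOf (ι ⟨x, hx⟩) ∣ Nat.card H := by
        have h1 : orderOf (⟨ι ⟨x, hx⟩, hxH⟩ : H) ∣ Nat.card H := orderOf_dvd_natCard _
        rwa [Subgroup.orderOf_mk] at h1
      have hcop : (Nat.card H).Coprime (p ^ k) := Nat.Coprime.pow_right k hH
      have h1 : orderOf (ι ⟨x, hx⟩) = 1 :=
        Nat.eq_one_of_dvd_coprimes hcop hd2 hd1
      rw [orderOf_eq_one_iff] at h1
      have h2 : (⟨x, hx⟩ : S) = 1 := hreal.1 (h1.trans (map_one ι).symm)
      exact congrArg (fun w : S => (w : Ω)) h2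
    · intro h
      subst h
      exact ⟨S.one_mem, by
        have : (⟨1, S.one_mem⟩ : S) = 1 := rfl
        rw [this, map_one]
        exact Subgroup.one_mem _⟩
  rw [hpre] at h₃
  refine ⟨isRealizedBy_of_iso h₃, T.mapSurjective (QuotientGroup.mk'_surjective H), ?_⟩
  rw [Sylow.coe_mapSurjective, MonoidHom.range_comp, hT]

end Cfsg.Agent.Helper26.ModelAut
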