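import Mathlib
import Cfsg.Agent.Helper25.FusionFactorSat
import Cfsg.Agent.Helper25.FusionTransport
import Cfsg.Agent.Helper26.FusionNotRadical
import Cfsg.Agent.Helper26.InnerFactor
import Cfsg.Agent.Helper26.InnerBasic

set_option autoImplicit false
set_option linter.style.haveILetI false
set_option linter.unusedSectionVars false
set_option linter.unusedVariables false

/-! Factor systems: full preimages of fully normalized / centric subgroups, and the normalizer
system of a full preimage. -/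

namespace Cfsg.Agent.Helper26.QdFactor

open Cfsg Cfsg.FusionSystem Cfsg.Agent.Helper25 Cfsg.Agent.Helper26.MasterRed

section

variable {Ω Ω' : Type*} [Group Ω] [Group Ω'] {S : Subgroup Ω}

/-- restriction of `θ` to the normalizer of a full preimage -/
def θN (θ : S →* Ω') (V' : Subgroup Ω') : ↥(normalizerIn S (preimageAlong θ V')) →* Ω' :=
  θ.comp (Subgroup.inclusion inf_le_left)

theorem θN_apply (θ : S →* Ω') (V' : Subgroup Ω') (s : ↥(normalizerIn S (preimageAlong θ V'))) :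
    θN θ V' s = θ ⟨s, s.2.1⟩ := rfl

variable (θ : S →* Ω') {S' : Subgroup Ω'} (hrange : θ.range = S')

include hrange in
theorem θ_mem (s : S) : θ s ∈ S' := by
  rw [← hrange]
  exact ⟨s, rfl⟩

include hrange in
theorem θ_mem_normalizer {V' : Subgroup Ω'} (hV' : V' ≤ S') {s : Ω} (hsS : s ∈ S)
    (hs : s ∈ Subgroup.normalizer ((preimageAlong θ V' : Subgroup Ω) : Set Ω)) :
    θ ⟨s, hsS⟩ ∈ Subgroup.normalizer (V' : Set Ω') := by
  have key : ∀ (t : Ω) (htS : t ∈ S),
      t ∈ Subgroup.normalizer ((preimageAlong θ V' : Subgroup Ω) : Set Ω) →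
      ∀ v ∈ V', θ ⟨t, htS⟩ * v * (θ ⟨t, htS⟩)⁻¹ ∈ V' := by
    intro t htS ht v hv
    obtain ⟨x, hx⟩ := exists_preimageAlong θ hrange hV' ⟨v, hv⟩
    have hx' : θ ⟨x, preimageAlong_le θ V' x.2⟩ = v := hx
    have h1 : t * (x : Ω) * t⁻¹ ∈ preimageAlong θ V' :=
      ((Subgroup.mem_normalizer_iff.mp ht) x).mp x.2
    obtain ⟨h2S, h2⟩ := (mem_preimageAlong _ _ _).mp h1
    have e : (⟨t * (x : Ω) * t⁻¹, h2S⟩ : S) =
        ⟨t, htS⟩ * ⟨x, preimageAlong_le θ V' x.2⟩ * ⟨t, htS⟩⁻¹ := Subtype.ext rfl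
    rw [e, map_mul, map_mul, map_inv, hx'] at h2
    exact h2
  apply Cfsg.Agent.Helper26.mem_normalizer_of_conj_mem
  · exact key s hsS hs
  · intro v hv
    have h1 := key s⁻¹ (S.inv_mem hsS) (Subgroup.inv_mem _ hs) v hv
    have e : (⟨s⁻¹, S.inv_mem hsS⟩ : S) = ⟨s, hsS⟩⁻¹ := Subtype.ext rfl
    rw [e, map_inv, inv_inv] at h1
    exact h1

include hrange in
theorem θN_mem {V' : Subgroup Ω'} (hV' : V' ≤ S') (s : ↥(normalizerIn S (preimageAlong θ V'))) :
    θN θ V' s ∈ normalizerIn S' V' :=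
  ⟨θ_mem θ hrange _, θ_mem_normalizer θ hrange hV' s.2.1 s.2.2⟩

include hrange in
theorem θN_range {V' : Subgroup Ω'} (hV' : V' ≤ S') :
    (θN θ V').range = normalizerIn S' V' := by
  apply le_antisymm
  · rintro _ ⟨s, rfl⟩
    exact θN_mem θ hrange hV' s
  · intro y hy
    have hyr : y ∈ θ.range := by rw [hrange]; exact hy.1
    obtain ⟨g, rfl⟩ := hyr
    have hg := mem_normalizer_preimageAlong θ V' g hy.2
    exact ⟨⟨g, ⟨g.2, hg⟩⟩, rfl⟩

variable {T : Subgroup Ω} (hTS : T ≤ S) (hker : ∀ s : S, θ s = 1 ↔ (s : Ω) ∈ T)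

include hTS hker in
theorem T_le_normalizerIn (V' : Subgroup Ω') : T ≤ normalizerIn S (preimageAlong θ V') :=
  fun x hx => ⟨hTS hx, Subgroup.le_normalizer (ker_le_preimageAlong θ hTS hker V' hx)⟩

include hker in
theorem θN_ker (V' : Subgroup Ω') (s : ↥(normalizerIn S (preimageAlong θ V'))) :
    θN θ V' s = 1 ↔ (s : Ω) ∈ T := hker ⟨s, s.2.1⟩

include hrange hTS hker in
theorem card_normalizerIn_preimageAlong [Finite S] {V' : Subgroup Ω'} (hV' : V' ≤ S') :
    Nat.card ↥(normalizerIn S (preimageAlong θ V')) =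
      Nat.card T * Nat.card ↥(normalizerIn S' V') := by
  have h1 := Subgroup.card_mul_index (θN θ V').ker
  rw [Subgroup.index_ker, θN_range θ hrange hV'] at h1
  rw [← h1]
  congr 1
  rw [← Subgroup.card_map_of_injective (Subgroup.subtype_injective
    (normalizerIn S (preimageAlong θ V')))]
  congr 2
  ext x
  constructor
  · rintro ⟨s, hs, rfl⟩
    exact (θN_ker θ hker V' s).mp hs
  · intro hx
    exact ⟨⟨x, T_le_normalizerIn θ hTS hker V' hx⟩, (θN_ker θ hker V' _).mpr hx, rfl⟩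

end

section Factor

variable {Ω Ω' : Type*} [Group Ω] [Group Ω'] {S : Subgroup Ω} [Finite S] (F : FusionSystem S)
  {T : Subgroup Ω} (hT : F.StronglyClosed T)
  (θ : S →* Ω') (hker : ∀ s : S, θ s = 1 ↔ (s : Ω) ∈ T) {S' : Subgroup Ω'}
  (hrange : θ.range = S') (E : FusionSystem S')
  (hiff : ∀ (P' : Subgroup Ω') (φ' : P' →* Ω'),
    φ' ∈ E.Hom P' ↔ P' ≤ S' ∧ ∃ φ ∈ F.Hom (preimageAlong θ P'), InducedAlong θ φ φ')

include hT hker hrange hiff in
/-- conjugates of a full preimage are full preimages of conjugates -/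
theorem exists_conj_of_conj_preimageAlong {U' : Subgroup Ω'} (hU' : U' ≤ S') {V : Subgroup Ω}
    (hV : F.IsConj (preimageAlong θ U') V) :
    ∃ V' : Subgroup Ω', E.IsConj U' V' ∧ V = preimageAlong θ V' := by
  obtain ⟨φ, hφ, rfl⟩ := hV
  obtain ⟨φ', hind⟩ := exists_inducedAlong F hT θ hker hrange hU' hφ
  have hφ'E : φ' ∈ E.Hom U' := (hiff _ _).mpr ⟨hU', φ, hφ, hind⟩
  exact ⟨φ'.range, ⟨φ', hφ'E, rfl⟩, range_eq_preimageAlong F hT θ hker hrange hU' hφ hind⟩

include hT hker hrange hiff in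
theorem isFullyNormalized_preimageAlong {U' : Subgroup Ω'} (hU' : E.IsFullyNormalized U') :
    F.IsFullyNormalized (preimageAlong θ U') := by
  refine ⟨preimageAlong_le θ U', fun V hV => ?_⟩
  obtain ⟨V', hV', rfl⟩ := exists_conj_of_conj_preimageAlong F hT θ hker hrange E hiff hU'.1 hV
  have hV'S : V' ≤ S' := by
    obtain ⟨φ', hφ', rfl⟩ := hV'
    rintro _ ⟨x, rfl⟩
    exact (E.le_of_mem hφ').2 x
  rw [card_normalizerIn_preimageAlong θ hrange hT.1 hker hV'S,
    card_normalizerIn_preimageAlong θ hrange hT.1 hker hU'.1]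
  exact Nat.mul_le_mul_left _ (hU'.2 V' hV')

include hT hker hrange hiff in
theorem isCentric_preimageAlong {U' : Subgroup Ω'} (hU' : E.IsCentric U') :
    F.IsCentric (preimageAlong θ U') := by
  refine ⟨preimageAlong_le θ U', fun V hV => ?_⟩
  obtain ⟨V', hV', rfl⟩ := exists_conj_of_conj_preimageAlong F hT θ hker hrange E hiff hU'.1 hV
  have hV'S : V' ≤ S' := by
    obtain ⟨φ', hφ', rfl⟩ := hV'
    rintro _ ⟨x, rfl⟩
    exact (E.le_of_mem hφ').2 x
  intro c hc
  refine (mem_preimageAlong _ _ _).mpr ⟨hc.1, ?_⟩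
  apply hU'.2 V' hV'
  refine ⟨θ_mem θ hrange _, ?_⟩
  show θ ⟨c, hc.1⟩ ∈ Subgroup.centralizer (V' : Set Ω')
  rw [Subgroup.mem_centralizer_iff]
  intro v hv
  obtain ⟨x, hx⟩ := exists_preimageAlong θ hrange hV'S ⟨v, hv⟩
  have hx' : θ ⟨x, preimageAlong_le θ V' x.2⟩ = v := hx
  have h1 : (x : Ω) * c = c * x := (Subgroup.mem_centralizer_iff.mp hc.2) x x.2
  rw [← hx', ← map_mul, ← map_mul]
  congr 1
  exact Subtype.ext h1

end Factor

end Cfsg.Agent.Helper26.QdFactor
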