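import Mathlib
import Cfsg.Agent.Helper26.QdFactorA

set_option autoImplicit false
set_option linter.style.haveILetI false
set_option linter.unusedSectionVars false
set_option linter.unusedVariables false

/-! The normalizer system of a subgroup of a factor system is the factor system of the normalizer
system of the full preimage. -/

namespace Cfsg.Agent.Helper26.QdFactor

open Cfsg Cfsg.FusionSystem Cfsg.Agent.Helper25 Cfsg.Agent.Helper26.MasterRed

section Factor

variable {Ω Ω' : Type*} [Group Ω] [Group Ω'] {S : Subgroup Ω} [Finite S] (F : FusionSystem S)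
  {T : Subgroup Ω} (hT : F.StronglyClosed T)
  (θ : S →* Ω') (hker : ∀ s : S, θ s = 1 ↔ (s : Ω) ∈ T) {S' : Subgroup Ω'}
  (hrange : θ.range = S') (E : FusionSystem S')
  (hiff : ∀ (P' : Subgroup Ω') (φ' : P' →* Ω'),
    φ' ∈ E.Hom P' ↔ P' ≤ S' ∧ ∃ φ ∈ F.Hom (preimageAlong θ P'), InducedAlong θ φ φ')

omit [Finite S] in
theorem preimageAlong_θN {U' P' : Subgroup Ω'} (hP' : P' ≤ normalizerIn S' U') :
    preimageAlong (θN θ U') P' = preimageAlong θ P' := by
  ext x
  rw [mem_preimageAlong, mem_preimageAlong]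
  constructor
  · rintro ⟨hx, h⟩
    exact ⟨hx.1, h⟩
  · rintro ⟨hxS, h⟩
    exact ⟨⟨hxS, mem_normalizer_preimageAlong θ U' ⟨x, hxS⟩ (hP' h).2⟩, h⟩

include hrange in
theorem finite_S' : Finite S' := by
  rw [← hrange]
  exact Finite.of_surjective θ.rangeRestrict θ.rangeRestrict_surjective

include hT hker hrange hiff in
theorem normalizer_isFactorSystem {U' : Subgroup Ω'} (hU' : U' ≤ S')
    (N : FusionSystem (normalizerIn S (preimageAlong θ U')))
    (hN : F.IsNormalizerSystem (preimageAlong θ U') N)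
    (N' : FusionSystem (normalizerIn S' U')) (hN' : E.IsNormalizerSystem U' N') :
    N.IsFactorSystem T (θN θ U') N' := by
  have hUS : preimageAlong θ U' ≤ S := preimageAlong_le θ U'
  have hTU : T ≤ preimageAlong θ U' := ker_le_preimageAlong θ hT.1 hker U'
  haveI hfinS' : Finite S' := finite_S' θ hrange
  haveI hfinU' : Finite U' := finite_of_le hU'
  haveI hUfin : Finite (preimageAlong θ U') := finite_of_le hUS
  have hU'N : U' ≤ normalizerIn S' U' := fun x hx => ⟨hU' hx, Subgroup.le_normalizer hx⟩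
  refine ⟨T_le_normalizerIn θ hT.1 hker U', θN_ker θ hker U', θN_range θ hrange hU',
    fun P' φ' => ?_⟩
  constructor
  · intro hφ'
    rw [hN' P'] at hφ'
    obtain ⟨hφ'E, hP'N, hval, ψ', hψ', hext, hmap⟩ := hφ'
    rw [hiff] at hψ'
    obtain ⟨hsup, ψ, hψ, hind⟩ := hψ'
    have hsupN : P' ⊔ U' ≤ normalizerIn S' U' := sup_le hP'N hU'N
    have hUX : preimageAlong θ U' ≤ preimageAlong θ (P' ⊔ U') :=
      preimageAlong_mono θ le_sup_right
    have hXS : preimageAlong θ (P' ⊔ U') ≤ S := preimageAlong_le θ _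
    have hXN : preimageAlong θ (P' ⊔ U') ≤ normalizerIn S (preimageAlong θ U') := by
      intro x hx
      obtain ⟨hxS, h⟩ := (mem_preimageAlong _ _ _).mp hx
      exact ⟨hxS, mem_normalizer_preimageAlong θ U' ⟨x, hxS⟩ (hsupN h).2⟩
    have hψS : ∀ x, ψ x ∈ S := (F.le_of_mem hψ).2
    have hψ'U : ∀ z : ↥(P' ⊔ U'), (z : Ω') ∈ U' → ψ' z ∈ U' := by
      intro z hz
      have h0 : ψ' z ∈ (U'.subgroupOf (P' ⊔ U')).map ψ' := ⟨z, hz, rfl⟩
      exact (show ∀ Y : Subgroup Ω', (U'.subgroupOf (P' ⊔ U')).map ψ' = Y → ψ' z ∈ Y from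
        fun Y hY => hY ▸ h0) U' hmap
    have hψ'surj : ∀ v ∈ U', ∃ w : ↥(P' ⊔ U'), (w : Ω') ∈ U' ∧ ψ' w = v := by
      intro v hv
      have h0 : v ∈ (U'.subgroupOf (P' ⊔ U')).map ψ' :=
        (show ∀ Y : Subgroup Ω', Y = U' → v ∈ Y from fun Y hY => hY ▸ hv) _ hmap
      obtain ⟨w, hw, hwv⟩ := h0
      exact ⟨w, hw, hwv⟩
    have hψ'N : ∀ z : ↥(P' ⊔ U'), ψ' z ∈ Subgroup.normalizer (U' : Set Ω') := by
      have key : ∀ z : ↥(P' ⊔ U'), ∀ v ∈ U', ψ' z * v * (ψ' z)⁻¹ ∈ U' := by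
        intro z v hv
        obtain ⟨w, hw, rfl⟩ := hψ'surj v hv
        rw [← map_inv, ← map_mul, ← map_mul]
        apply hψ'U
        show (z : Ω') * w * (z : Ω')⁻¹ ∈ U'
        exact ((Subgroup.mem_normalizer_iff.mp (hsupN z.2).2) w).mp hw
      intro z
      apply Cfsg.Agent.Helper26.mem_normalizer_of_conj_mem
      · exact key z
      · intro v hv
        have := key z⁻¹ v hv
        rwa [map_inv, inv_inv] at this
    have hspec : ∀ x : ↥(preimageAlong θ (P' ⊔ U')),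
        ψ' ⟨θ ⟨x, hXS x.2⟩, preimageAlong_map_mem θ _ x⟩ = θ ⟨ψ x, hψS x⟩ :=
      fun x => inducedAlong_apply θ hind x (hXS x.2) (preimageAlong_map_mem θ _ x) (hψS x)
    have hψval : ∀ x : ↥(preimageAlong θ (P' ⊔ U')),
        ψ x ∈ normalizerIn S (preimageAlong θ U') := by
      intro x
      refine ⟨hψS x, mem_normalizer_preimageAlong θ U' ⟨ψ x, hψS x⟩ ?_⟩
      rw [← hspec x]
      exact hψ'N _
    have hψN : ψ ∈ F.normalizerHom (preimageAlong θ U') (preimageAlong θ (P' ⊔ U')) := by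
      refine mem_normalizerHom_of_le F hUX hψ hXN hψval ?_
      apply map_eq_of_map_le (F.injective_of_mem hψ) _ hUX
      rintro _ ⟨x, hx, rfl⟩
      obtain ⟨hxS, hx'⟩ := (mem_preimageAlong _ _ _).mp hx
      refine (mem_preimageAlong _ _ _).mpr ⟨hψS x, ?_⟩
      rw [← hspec x]
      exact hψ'U _ hx'
    have hψN' : ψ ∈ N.Hom (preimageAlong θ (P' ⊔ U')) := by
      rw [hN]
      exact hψN
    have hP₀X : preimageAlong (θN θ U') P' ≤ preimageAlong θ (P' ⊔ U') := by
      rw [preimageAlong_θN θ hP'N]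
      exact preimageAlong_mono θ le_sup_left
    refine ⟨hP'N, ψ.comp (Subgroup.inclusion hP₀X), restrict_mem N hP₀X hψN', ?_⟩
    refine ⟨preimageAlong_le (θN θ U') P', fun x => hψval _,
      fun x => preimageAlong_map_mem (θN θ U') P' x, fun x => ?_⟩
    have h1 := hspec (Subgroup.inclusion hP₀X x)
    have hmemP' : θ ⟨x, hXS (hP₀X x.2)⟩ ∈ P' := preimageAlong_map_mem (θN θ U') P' x
    have h2 := hext ⟨θ ⟨x, hXS (hP₀X x.2)⟩, hmemP'⟩
    show φ' ⟨θ ⟨x, _⟩, _⟩ = θ ⟨ψ (Subgroup.inclusion hP₀X x), _⟩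
    rw [← h2]
    exact h1
  · rintro ⟨hP'N, φ, hφ, hind⟩
    rw [hN] at hφ
    obtain ⟨hφF, hP₀N, hφval, ψ, hψ, hext, hmap⟩ := hφ
    have hP'S : P' ≤ S' := hP'N.trans inf_le_left
    have hsup : P' ⊔ U' ≤ S' := sup_le hP'S hU'
    have heq : preimageAlong θ (P' ⊔ U') = preimageAlong (θN θ U') P' ⊔ preimageAlong θ U' := by
      rw [preimageAlong_sup θ hrange hP'S hU', preimageAlong_θN θ hP'N]
    have hψ₀ : ψ.comp (Subgroup.inclusion heq.le) ∈ F.Hom (preimageAlong θ (P' ⊔ U')) :=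
      cast_mem F heq hψ
    obtain ⟨ψ', hindψ⟩ := exists_inducedAlong F hT θ hker hrange hsup hψ₀
    have hψ'E : ψ' ∈ E.Hom (P' ⊔ U') := (hiff _ _).mpr ⟨hsup, _, hψ₀, hindψ⟩
    have hXS : preimageAlong θ (P' ⊔ U') ≤ S := preimageAlong_le θ _
    have hψS : ∀ x, ψ x ∈ S := (F.le_of_mem hψ).2
    have hspecψ : ∀ x : ↥(preimageAlong θ (P' ⊔ U')),
        ψ' ⟨θ ⟨x, hXS x.2⟩, preimageAlong_map_mem θ _ x⟩ =
          θ ⟨ψ (Subgroup.inclusion heq.le x), hψS _⟩ :=
      fun x => inducedAlong_apply θ hindψ x (hXS x.2) (preimageAlong_map_mem θ _ x) (hψS _)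
    obtain ⟨hP₀', hφS', hP'map, hφspec⟩ := hind
    have hP₀X : preimageAlong (θN θ U') P' ≤ preimageAlong θ (P' ⊔ U') := by
      rw [heq]
      exact le_sup_left
    have hUX : preimageAlong θ U' ≤ preimageAlong θ (P' ⊔ U') := by
      rw [heq]
      exact le_sup_right
    have key : ∀ y : P', ψ' (Subgroup.inclusion le_sup_left y) = φ' y := by
      intro y
      obtain ⟨x, hx⟩ := exists_preimageAlong (θN θ U') (θN_range θ hrange hU') hP'N y
      have h1 := hspecψ (Subgroup.inclusion hP₀X x)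
      have h2 := hφspec x
      have h3 := hext x
      have ey : y = ⟨θN θ U' ⟨x, hP₀' x.2⟩, hP'map x⟩ := Subtype.ext hx.symm
      rw [ey, h2]
      refine Eq.trans ?_ (h1.trans ?_)
      · congr 1
      · show θ ⟨ψ (Subgroup.inclusion heq.le (Subgroup.inclusion hP₀X x)), _⟩ =
          θ ⟨φ x, _⟩
        congr 1
        apply Subtype.ext
        show ψ (Subgroup.inclusion heq.le (Subgroup.inclusion hP₀X x)) = φ x
        rw [← h3]
        congr 1
    have hφ'E : φ' ∈ E.Hom P' := by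
      have h1 := restrict_mem E (le_sup_left : P' ≤ P' ⊔ U') hψ'E
      have e : ψ'.comp (Subgroup.inclusion (le_sup_left : P' ≤ P' ⊔ U')) = φ' :=
        MonoidHom.ext key
      rw [e] at h1
      exact h1
    rw [hN' P']
    refine ⟨hφ'E, hP'N, ?_, ψ', hψ'E, key, ?_⟩
    · intro y
      obtain ⟨x, hx⟩ := exists_preimageAlong (θN θ U') (θN_range θ hrange hU') hP'N y
      have ey : y = ⟨θN θ U' ⟨x, hP₀' x.2⟩, hP'map x⟩ := Subtype.ext hx.symm
      rw [ey, hφspec x]
      exact θN_mem θ hrange hU' _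
    · apply map_eq_of_map_le (E.injective_of_mem hψ'E) _ le_sup_right
      rintro _ ⟨z, hz, rfl⟩
      have hz' : (z : Ω') ∈ U' := hz
      obtain ⟨x, hx⟩ := exists_preimageAlong θ hrange hU' ⟨z, hz'⟩
      have hx' : θ ⟨x, preimageAlong_le θ U' x.2⟩ = (z : Ω') := hx
      have h1 := hspecψ (Subgroup.inclusion hUX x)
      have ez : z = ⟨θ ⟨(Subgroup.inclusion hUX x : ↥(preimageAlong θ (P' ⊔ U'))),
          hXS (Subgroup.inclusion hUX x).2⟩, preimageAlong_map_mem θ _ _⟩ :=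
        Subtype.ext hx'.symm
      rw [ez, h1]
      have h2 : ψ (Subgroup.inclusion heq.le (Subgroup.inclusion hUX x)) ∈ preimageAlong θ U' := by
        have h0 : ψ (Subgroup.inclusion heq.le (Subgroup.inclusion hUX x)) ∈
            ((preimageAlong θ U').subgroupOf
              (preimageAlong (θN θ U') P' ⊔ preimageAlong θ U')).map ψ :=
          ⟨_, x.2, rfl⟩
        exact (show ∀ Y : Subgroup Ω, ((preimageAlong θ U').subgroupOf
              (preimageAlong (θN θ U') P' ⊔ preimageAlong θ U')).map ψ = Y →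
            ψ (Subgroup.inclusion heq.le (Subgroup.inclusion hUX x)) ∈ Y from
          fun Y hY => hY ▸ h0) _ hmap
      obtain ⟨h3S, h3⟩ := (mem_preimageAlong _ _ _).mp h2
      exact h3

end Factor

end Cfsg.Agent.Helper26.QdFactor
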