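import Mathlib
import Cfsg.Agent.Helper14.Irreducible
import Cfsg.Agent.Helper14.PCore
import Cfsg.Agent.Helper26.Involves

set_option autoImplicit false
set_option linter.style.haveILetI false
set_option linter.unusedSectionVars false
set_option linter.unusedVariables false

/-! Group theory for the factor-system statement: a normal `p`-subgroup `V` of a finite group
with `C_P(V) ≤ V` for a Sylow `p`-subgroup `P` has `C_G(V) = Z(V) × K` with `K ⊴ G` a `p'`-group,
and then `G/K` satisfies `C(O_p) ≤ O_p`. -/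

namespace Cfsg.Agent.Helper26.QdFactor

open Cfsg Cfsg.Agent.Helper14

theorem involves_of_quotient {H : Type*} [Group H] {G : Type*} [Group G] (K : Subgroup G)
    [K.Normal] (h : Involves H (G ⧸ K)) : Involves H G := by
  obtain ⟨K', f, hf⟩ := Cfsg.Agent.Helper26.exists_surjective_of_involves h
  exact Cfsg.Agent.Helper26.involves_of_surjective (K'.comap (QuotientGroup.mk' K))
    (f.comp ((QuotientGroup.mk' K).subgroupComap K'))
    (hf.comp ((QuotientGroup.mk' K).subgroupComap_surjective_of_surjective K'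
      (QuotientGroup.mk'_surjective K)))

variable {G : Type*} [Group G] [Finite G] (p : ℕ) [Fact p.Prime]

theorem exists_normal_coprime_centralizer (P : Sylow p G) (V : Subgroup G) [hVn : V.Normal]
    (hcen : (P : Subgroup G) ⊓ Subgroup.centralizer (V : Set G) ≤ V) :
    ∃ K : Subgroup G, K.Normal ∧ (Nat.card K).Coprime p ∧
      Subgroup.centralizer (V : Set G) ≤ V ⊔ K := by
  classical
  have hCn : (Subgroup.centralizer (V : Set G)).Normal := inferInstance
  have hsyl := sylow_inf_normal_isSylowIn (p := p) P (Subgroup.centralizer (V : Set G))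
  -- the Sylow subgroup of the centralizer
  obtain ⟨PC, hPC⟩ : ∃ PC : Sylow p ↥(Subgroup.centralizer (V : Set G)),
      (PC : Subgroup ↥(Subgroup.centralizer (V : Set G))) =
        ((P : Subgroup G) ⊓ Subgroup.centralizer (V : Set G)).subgroupOf
          (Subgroup.centralizer (V : Set G)) := ⟨hsyl.toSylow, rfl⟩
  have hcentral : ∀ z ∈ (PC : Subgroup ↥(Subgroup.centralizer (V : Set G))),
      ∀ c : ↥(Subgroup.centralizer (V : Set G)), c * z = z * c := by
    intro z hz c
    rw [hPC, Subgroup.mem_subgroupOf] at hz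
    have hzV : (z : G) ∈ V := hcen hz
    apply Subtype.ext
    have := (Subgroup.mem_centralizer_iff.mp c.2) (z : G) hzV
    show (c : G) * (z : G) = (z : G) * (c : G)
    exact this.symm
  haveI hPCn : (PC : Subgroup ↥(Subgroup.centralizer (V : Set G))).Normal := by
    constructor
    intro z hz c
    rw [hcentral z hz c, mul_inv_cancel_right]
    exact hz
  have hcop : (Nat.card (PC : Subgroup ↥(Subgroup.centralizer (V : Set G)))).Coprime
      (PC : Subgroup ↥(Subgroup.centralizer (V : Set G))).index := by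
    obtain ⟨n, hn⟩ := IsPGroup.iff_card.mp PC.isPGroup'
    rw [hn]
    apply Nat.Coprime.pow_left
    rw [Nat.Prime.coprime_iff_not_dvd Fact.out]
    exact PC.not_dvd_index
  obtain ⟨M, hM⟩ := Subgroup.exists_right_complement'_of_coprime hcop
  have hMcard : (Nat.card M).Coprime p := by
    have h1 : (PC : Subgroup ↥(Subgroup.centralizer (V : Set G))).index = Nat.card M :=
      hM.symm.index_eq_card
    rw [← h1, Nat.coprime_comm, Nat.Prime.coprime_iff_not_dvd Fact.out]
    exact PC.not_dvd_index
  -- decomposition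
  have hdec : ∀ c : ↥(Subgroup.centralizer (V : Set G)),
      ∃ z ∈ (PC : Subgroup ↥(Subgroup.centralizer (V : Set G))), ∃ m ∈ M, c = z * m := by
    intro c
    obtain ⟨⟨z, m⟩, hzm, -⟩ := (Subgroup.isComplement'_def.mp hM).existsUnique c
    exact ⟨z, z.2, m, m.2, hzm.symm⟩
  -- `M` is the set of elements killed by `|M|`
  have hMchar : ∀ x : ↥(Subgroup.centralizer (V : Set G)), x ∈ M ↔ x ^ Nat.card M = 1 := by
    intro x
    constructor
    · intro hx
      have h1 : (⟨x, hx⟩ : M) ^ Nat.card M = 1 := pow_card_eq_one'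
      exact congrArg Subtype.val h1
    · intro hx
      obtain ⟨z, hz, m, hm, rfl⟩ := hdec x
      have hcomm : Commute z m := (hcentral z hz m).symm
      rw [hcomm.mul_pow] at hx
      have hm1 : m ^ Nat.card M = 1 := by
        have h1 : (⟨m, hm⟩ : M) ^ Nat.card M = 1 := pow_card_eq_one'
        exact congrArg Subtype.val h1
      rw [hm1, mul_one] at hx
      -- `z` is a `p`-element killed by a number prime to `p`
      obtain ⟨k, hk⟩ := PC.isPGroup' ⟨z, hz⟩
      have hk' : z ^ p ^ k = 1 := congrArg Subtype.val hk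
      have h1 : orderOf z ∣ Nat.card M := orderOf_dvd_of_pow_eq_one hx
      have h2 : orderOf z ∣ p ^ k := orderOf_dvd_of_pow_eq_one hk'
      have h3 : (Nat.card M).Coprime (p ^ k) := Nat.Coprime.pow_right k hMcard
      have h4 : orderOf z = 1 := Nat.eq_one_of_dvd_coprimes h3 h1 h2
      rw [orderOf_eq_one_iff] at h4
      rw [h4, one_mul]
      exact hm
  refine ⟨M.map (Subgroup.centralizer (V : Set G)).subtype, ?_, ?_, ?_⟩
  · constructor
    rintro _ ⟨m, hm, rfl⟩ g
    have hmem : g * (m : G) * g⁻¹ ∈ Subgroup.centralizer (V : Set G) := hCn.conj_mem _ m.2 g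
    refine ⟨⟨_, hmem⟩, (hMchar _).mpr ?_, rfl⟩
    apply Subtype.ext
    show (g * (m : G) * g⁻¹) ^ Nat.card M = 1
    rw [conj_pow]
    have h1 : m ^ Nat.card M = 1 := (hMchar m).mp hm
    have h2 : (m : G) ^ Nat.card M = 1 := by
      have := congrArg Subtype.val h1
      simpa using this
    rw [h2, mul_one, mul_inv_cancel]
  · rw [Subgroup.card_map_of_injective (Subgroup.subtype_injective _)]
    exact hMcard
  · intro c hc
    obtain ⟨z, hz, m, hm, hzm⟩ := hdec ⟨c, hc⟩
    have hc' : c = (z : G) * (m : G) := congrArg Subtype.val hzm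
    rw [hc']
    apply Subgroup.mul_mem
    · apply Subgroup.mem_sup_left
      rw [hPC, Subgroup.mem_subgroupOf] at hz
      exact hcen hz
    · apply Subgroup.mem_sup_right
      exact ⟨m, hm, rfl⟩

theorem centralizer_pCore_quotient_le (V : Subgroup G) [hVn : V.Normal] (hVp : IsPGroup p V)
    (K : Subgroup G) [hKn : K.Normal] (hK : (Nat.card K).Coprime p)
    (hcen : Subgroup.centralizer (V : Set G) ≤ V ⊔ K) :
    Subgroup.centralizer ((pCore p (G ⧸ K) : Subgroup (G ⧸ K)) : Set (G ⧸ K)) ≤
      pCore p (G ⧸ K) := by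
  have hVbarn : (V.map (QuotientGroup.mk' K)).Normal :=
    hVn.map _ (QuotientGroup.mk'_surjective K)
  have hVbarp : IsPGroup p ↥(V.map (QuotientGroup.mk' K)) := hVp.map _
  have hle : V.map (QuotientGroup.mk' K) ≤ pCore p (G ⧸ K) := le_pCore p hVbarn hVbarp
  have hdisj : V ⊓ K = ⊥ := by
    apply Disjoint.eq_bot
    apply Subgroup.disjoint_of_coprime_natCard
    obtain ⟨n, hn⟩ := IsPGroup.iff_card.mp hVp
    rw [hn]
    exact (Nat.Coprime.pow_right n hK).symm
  intro x hx
  obtain ⟨g, rfl⟩ := QuotientGroup.mk'_surjective K x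
  rw [Subgroup.mem_centralizer_iff] at hx
  have hg : g ∈ Subgroup.centralizer (V : Set G) := by
    rw [Subgroup.mem_centralizer_iff]
    intro v hv
    have h1 := hx (QuotientGroup.mk' K v) (hle ⟨v, hv, rfl⟩)
    rw [← map_mul, ← map_mul] at h1
    have h2 : (g * v)⁻¹ * (v * g) ∈ K := by
      have := (QuotientGroup.eq (s := K)).mp h1.symm
      exact this
    have h3 : (g * v)⁻¹ * (v * g) ∈ V := by
      have e : (g * v)⁻¹ * (v * g) = v⁻¹ * (g⁻¹ * v * g⁻¹⁻¹) := by group
      rw [e]
      exact V.mul_mem (V.inv_mem hv) (hVn.conj_mem v hv g⁻¹)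
    have h4 : (g * v)⁻¹ * (v * g) ∈ V ⊓ K := ⟨h3, h2⟩
    rw [hdisj, Subgroup.mem_bot] at h4
    have h5 : v * g = (g * v) * ((g * v)⁻¹ * (v * g)) := by group
    rw [h5, h4, mul_one]
  have h6 := hcen hg
  apply hle
  have h7 : QuotientGroup.mk' K g ∈ (V ⊔ K).map (QuotientGroup.mk' K) := ⟨g, h6, rfl⟩
  rw [Subgroup.map_sup] at h7
  have h8 : K.map (QuotientGroup.mk' K) = ⊥ := by
    rw [Subgroup.map_eq_bot_iff, QuotientGroup.ker_mk']
  rw [h8, sup_bot_eq] at h7
  exact h7

end Cfsg.Agent.Helper26.QdFactor
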