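import Mathlib
import Cfsg.Agent.Helper26.QdFactorB
import Cfsg.Agent.Helper26.QdFactorC
import Cfsg.Agent.Helper26.ModelQuot
import Cfsg.Agent.Helper26.ZJFusionD
import Cfsg.Agent.S5090
import Cfsg.Agent.S5091
import Cfsg.Agent.S5103
import Cfsg.Prelude.Def_FusionReduction

set_option autoImplicit false
set_option linter.style.haveILetI false
set_option linter.unusedSectionVars false
set_option linter.unusedVariables false

/-! Factor systems of section-free saturated systems modulo a normal subgroup are section-free. -/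

namespace Cfsg.Agent.Helper26.QdFactor

open Cfsg Cfsg.FusionSystem Cfsg.Agent.Helper25 Cfsg.Agent.Helper26.MasterRed
  Cfsg.Agent.Helper26.ModelAut

universe u v

theorem exists_lift {G₁ G₂ G₃ : Type*} [Group G₁] [Group G₂] [Group G₃] (f : G₁ →* G₂)
    (hf : Function.Surjective f) (g : G₁ →* G₃) (hker : ∀ x, f x = 1 → g x = 1) :
    ∃ ρ : G₂ →* G₃, ∀ x, ρ (f x) = g x :=
  ⟨f.liftOfSurjective hf ⟨g, fun x hx => hker x hx⟩,
    fun x => f.liftOfRightInverse_comp_apply _ _ _ x⟩

set_option maxHeartbeats 1600000 in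
theorem sectionFree_factor {Ω : Type u} [Group Ω] {S : Subgroup Ω} [Finite S] (p : ℕ)
    [Fact p.Prime] (hS : IsPGroup p S) (F : FusionSystem S) (hF : F.IsSaturated p)
    (Q : Subgroup Ω) (hQ : F.IsNormal Q) {Hh : Type*} [Group Hh]
    (hfree : F.IsSectionFree p Hh) {Ω' : Type v} [Group Ω'] {S' : Subgroup Ω'} (θ : S →* Ω')
    (E : FusionSystem S') (hE : F.IsFactorSystem Q θ E) : E.IsSectionFree p Hh := by
  obtain ⟨hQS, hker, hrange, hiff⟩ := hE
  have hT : F.StronglyClosed Q := stronglyClosed_of_isNormal F hQ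
  intro U' hU'fn hU'c N' hN' L' _ ι' hM'
  have hU'S : U' ≤ S' := hU'c.1
  have hUfn : F.IsFullyNormalized (preimageAlong θ U') :=
    isFullyNormalized_preimageAlong F hT θ hker hrange E hiff hU'fn
  have hUc : F.IsCentric (preimageAlong θ U') :=
    isCentric_preimageAlong F hT θ hker hrange E hiff hU'c
  have hUS : preimageAlong θ U' ≤ S := preimageAlong_le θ U'
  have hQU : Q ≤ preimageAlong θ U' := ker_le_preimageAlong θ hQS hker U'
  obtain ⟨N, hN⟩ : ∃ N : FusionSystem (normalizerIn S (preimageAlong θ U')),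
      F.IsNormalizerSystem (preimageAlong θ U') N :=
    ⟨_, normalizerSystem_isNormalizerSystem F _ hUS⟩
  haveI hfinN : Finite (normalizerIn S (preimageAlong θ U')) := finite_of_le inf_le_left
  have hSN : IsPGroup p (normalizerIn S (preimageAlong θ U')) := isPGroup_of_le hS inf_le_left
  have hcon : N.IsConstrained p :=
    (normalizerSystem_isConstrained p hS F hF _ hUfn hUc N hN).1
  obtain ⟨L, instL, ι, hM⟩ := Cfsg.Agent.S5090.result p hSN N hcon
  have hfreeL : ¬ Involves Hh L := hfree _ hUfn hUc N hN L ι hM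
  have hfac : N.IsFactorSystem Q (θN θ U') N' :=
    normalizer_isFactorSystem F hT θ hker hrange E hiff hU'S N hN N' hN'
  have hUN : preimageAlong θ U' ≤ normalizerIn S (preimageAlong θ U') :=
    fun x hx => ⟨hUS hx, Subgroup.le_normalizer hx⟩
  have hQN : Q ≤ normalizerIn S (preimageAlong θ U') := hQU.trans hUN
  have hNscQ : N.StronglyClosed Q := by
    refine ⟨hQN, fun R hR φ hφ x => ?_⟩
    rw [hN R] at hφ
    exact hT.2 R hR φ hφ.1 x
  -- the image of `U` in the model is normal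
  haveI hιUn : (((preimageAlong θ U').subgroupOf (normalizerIn S (preimageAlong θ U'))).map ι).Normal :=
    normal_map_of_isModel p N ι hM (normalizerSystem_isNormal F hUS N hN)
  obtain ⟨hfinL, hreal, ⟨Tsyl, hTsyl⟩, hC⟩ := hM
  have hinjι := hreal.1
  -- the image of `Q` is normal
  haveI hAn : ((Q.subgroupOf (normalizerIn S (preimageAlong θ U'))).map ι).Normal := by
    constructor
    rintro _ ⟨q, hq, rfl⟩ g
    have hq' : (q : Ω) ∈ Q := hq
    have hconj : ∀ y : Q, g * ι ⟨y, hQN y.2⟩ * g⁻¹ ∈ ι.range := by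
      intro y
      have h1 : ι ⟨y, hQN y.2⟩ ∈ ((preimageAlong θ U').subgroupOf
          (normalizerIn S (preimageAlong θ U'))).map ι := ⟨_, hQU y.2, rfl⟩
      have h2 := hιUn.conj_mem _ h1 g
      obtain ⟨z, -, hz⟩ := h2
      exact ⟨z, hz⟩
    obtain ⟨φ, hφ, hφS, hφι⟩ := exists_hom_of_conj N ι hreal hQN g hconj
    rw [hN Q] at hφ
    have h3 : φ ⟨q, hq'⟩ ∈ Q := hT.2 Q le_rfl φ hφ.1 ⟨q, hq'⟩
    refine ⟨⟨φ ⟨q, hq'⟩, hφS _⟩, h3, ?_⟩
    rw [hφι]
  -- `N` modulo `Q` is the fusion system of `L / A`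
  have h₁ := isFactorSystem_of_isRealizedBy hreal
  have h₁' : N.IsFactorSystem ⊥ ι (groupFusionSystem (Tsyl : Subgroup L)) := by
    rw [hTsyl]
    exact h₁
  have h₂ := groupFusion_isFactorSystem p Tsyl
    ((Q.subgroupOf (normalizerIn S (preimageAlong θ U'))).map ι)
  have h₃ := iso_comp_factor h₁' h₂
    (γ := (QuotientGroup.mk' ((Q.subgroupOf (normalizerIn S (preimageAlong θ U'))).map ι)).comp ι)
    (fun s => rfl)
  have hpre : preimageAlong ι ((Tsyl : Subgroup L) ⊓
      (Q.subgroupOf (normalizerIn S (preimageAlong θ U'))).map ι) = Q := by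
    ext x
    rw [mem_preimageAlong]
    constructor
    · rintro ⟨hx, -, q, hq, hqx⟩
      have h1 := hinjι hqx
      have hq' : (q : Ω) ∈ Q := hq
      have h2 : (q : Ω) = x := congrArg Subtype.val h1
      rw [← h2]
      exact hq'
    · intro hx
      refine ⟨hQN hx, ?_, ⟨⟨x, hQN hx⟩, hx, rfl⟩⟩
      rw [hTsyl]
      exact ⟨_, rfl⟩
  rw [hpre] at h₃
  -- the lift
  have hfsurj : Function.Surjective ((θN θ U').codRestrict (normalizerIn S' U')
      (θN_mem θ hrange hU'S)) := by
    intro y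
    have hy : (y : Ω') ∈ (θN θ U').range := by
      rw [θN_range θ hrange hU'S]
      exact y.2
    obtain ⟨x, hx⟩ := hy
    exact ⟨x, Subtype.ext hx⟩
  obtain ⟨ρ, hρ⟩ := exists_lift ((θN θ U').codRestrict (normalizerIn S' U')
      (θN_mem θ hrange hU'S)) hfsurj
    ((QuotientGroup.mk' ((Q.subgroupOf (normalizerIn S (preimageAlong θ U'))).map ι)).comp ι)
    (by
      intro x hx
      have h1 : θN θ U' x = 1 := congrArg Subtype.val hx
      have h2 : (x : Ω) ∈ Q := (θN_ker θ hker U' x).mp h1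
      show QuotientGroup.mk' _ (ι x) = 1
      rw [QuotientGroup.mk'_apply, QuotientGroup.eq_one_iff]
      exact ⟨x, h2, rfl⟩)
  have hiso : N'.IsFactorSystem ⊥ ρ (groupFusionSystem ((Tsyl : Subgroup L).map
      (QuotientGroup.mk' ((Q.subgroupOf (normalizerIn S (preimageAlong θ U'))).map ι)))) :=
    factor_cancel hNscQ hfac h₃ (θN_mem θ hrange hU'S) (fun s => (hρ s).symm)
  have hrealρ : N'.IsRealizedBy ρ := isRealizedBy_of_iso hiso
  have hinjρ := hrealρ.1
  have hρrange := iso_range hiso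
  haveI hfinN' : Finite (normalizerIn S' U') :=
    Finite.of_surjective _ hfsurj
  have hS'N : IsPGroup p (normalizerIn S' U') := hSN.of_surjective _ hfsurj
  -- Sylow subgroup of the quotient
  obtain ⟨Tq, hTq⟩ : ∃ Tq : Sylow p (L ⧸ (Q.subgroupOf (normalizerIn S (preimageAlong θ U'))).map ι),
      (Tq : Subgroup _) = ρ.range := by
    refine ⟨Tsyl.mapSurjective (QuotientGroup.mk'_surjective _), ?_⟩
    rw [Sylow.coe_mapSurjective, hρrange]
  -- the image of `U'`
  have hU'N' : U' ≤ normalizerIn S' U' := fun x hx => ⟨hU'S hx, Subgroup.le_normalizer hx⟩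
  have hVeq : (U'.subgroupOf (normalizerIn S' U')).map ρ =
      (((preimageAlong θ U').subgroupOf (normalizerIn S (preimageAlong θ U'))).map ι).map
        (QuotientGroup.mk' ((Q.subgroupOf (normalizerIn S (preimageAlong θ U'))).map ι)) := by
    ext y
    constructor
    · rintro ⟨u, hu, rfl⟩
      obtain ⟨x, rfl⟩ := hfsurj u
      have hu' : θN θ U' x ∈ U' := hu
      have hxU : (x : Ω) ∈ preimageAlong θ U' :=
        (mem_preimageAlong _ _ _).mpr ⟨x.2.1, hu'⟩
      rw [hρ]
      exact ⟨ι x, ⟨x, hxU, rfl⟩, rfl⟩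
    · rintro ⟨_, ⟨x, hx, rfl⟩, rfl⟩
      have hx' : (x : Ω) ∈ preimageAlong θ U' := hx
      obtain ⟨hxS, hxU⟩ := (mem_preimageAlong _ _ _).mp hx'
      refine ⟨(θN θ U').codRestrict (normalizerIn S' U') (θN_mem θ hrange hU'S) x, hxU, ?_⟩
      rw [hρ]
      rfl
  haveI hVn : ((U'.subgroupOf (normalizerIn S' U')).map ρ).Normal := by
    rw [hVeq]
    exact hιUn.map _ (QuotientGroup.mk'_surjective _)
  have hVp : IsPGroup p ↥((U'.subgroupOf (normalizerIn S' U')).map ρ) := by
    have h1 : IsPGroup p ↥(U'.subgroupOf (normalizerIn S' U')) := hS'N.to_subgroup _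
    exact h1.map ρ
  have hVcen : (Tq : Subgroup _) ⊓ Subgroup.centralizer
      (((U'.subgroupOf (normalizerIn S' U')).map ρ : Subgroup _) : Set _) ≤
      (U'.subgroupOf (normalizerIn S' U')).map ρ := by
    rintro y ⟨hyT, hyC⟩
    have hyT' : y ∈ (Tq : Subgroup _) := hyT
    rw [hTq] at hyT'
    obtain ⟨w, rfl⟩ := hyT'
    have hyC' : ρ w ∈ Subgroup.centralizer
      (((U'.subgroupOf (normalizerIn S' U')).map ρ : Subgroup _) : Set _) := hyC
    rw [Subgroup.mem_centralizer_iff] at hyC'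
    have hwc : (w : Ω') ∈ centralizerIn S' U' := by
      refine ⟨w.2.1, ?_⟩
      show (w : Ω') ∈ Subgroup.centralizer (U' : Set Ω')
      rw [Subgroup.mem_centralizer_iff]
      intro u hu
      have h1 := hyC' (ρ ⟨u, hU'N' hu⟩) ⟨⟨u, hU'N' hu⟩, hu, rfl⟩
      rw [← map_mul, ← map_mul] at h1
      have h2 := hinjρ h1
      exact congrArg Subtype.val h2
    have hwU : (w : Ω') ∈ U' := hU'c.2 U' (isConj_refl E hU'S) hwc
    exact ⟨w, hwU, rfl⟩
  obtain ⟨K, hKn, hKcop, hKcen⟩ := exists_normal_coprime_centralizer p Tq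
    ((U'.subgroupOf (normalizerIn S' U')).map ρ) hVcen
  haveI := hKn
  obtain ⟨hrealK, hsylK⟩ := realizedBy_quotient p N' ρ hrealρ Tq hTq K hKcop
  have hcentK := centralizer_pCore_quotient_le p
    ((U'.subgroupOf (normalizerIn S' U')).map ρ) hVp K hKcop hKcen
  have hM₁ : N'.IsModel p ((L ⧸ (Q.subgroupOf (normalizerIn S (preimageAlong θ U'))).map ι) ⧸ K)
      ((QuotientGroup.mk' K).comp ρ) := ⟨inferInstance, hrealK, hsylK, hcentK⟩
  have hcon' : N'.IsConstrained p := Cfsg.Agent.S5103.result p hS'N N' ι' hM'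
  obtain ⟨e, -⟩ := Cfsg.Agent.S5091.result p hS'N N' hcon' ι' ((QuotientGroup.mk' K).comp ρ) hM' hM₁
  intro hinv
  apply hfreeL
  apply involves_of_quotient ((Q.subgroupOf (normalizerIn S (preimageAlong θ U'))).map ι)
  apply involves_of_quotient K
  exact Cfsg.Agent.Helper26.involves_of_injective e.toMonoidHom e.injective hinv

end Cfsg.Agent.Helper26.QdFactor
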