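import Mathlib
import Cfsg.Agent.Helper26.GFModel
import Cfsg.Agent.Helper26.GFDecomp
import Cfsg.Agent.Helper26.GFSC2
import Cfsg.Agent.Helper26.GFSC3b
import Cfsg.Agent.S5240
import Cfsg.Agent.S5241

set_option autoImplicit false
set_option linter.style.haveILetI false
set_option linter.unusedSectionVars false
set_option linter.unusedVariables false

/-! A Glauberman functor controls fusion in saturated systems not involving `Qd(p)`. -/

namespace Cfsg.Agent.Helper26.GF

open Cfsg Cfsg.FusionSystem Cfsg.Agent.Helper25 Cfsg.Agent.Helper26.MasterRed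
  Cfsg.Agent.Helper26.WC

universe u

variable {p : ℕ} [Fact p.Prime] {W : ∀ (Q : Type u) [Group Q], Subgroup Q}

set_option maxHeartbeats 3200000 in
/-- The case of a system with a nontrivial normal subgroup. -/
theorem claimB' (hH : GHyp p W) (n : ℕ)
    (IH : ∀ m < n, ∀ (Ω : Type u) [Group Ω] (S : Subgroup Ω) [Finite S], Nat.card S = m →
      IsPGroup p S → ∀ F : FusionSystem S, F.IsSaturated p →
        F.IsSectionFree p ↥(Cfsg.qd p) → F.IsNormal (Wup W S)) :
    ∀ (k : ℕ) (Ω : Type u) [Group Ω] (S : Subgroup Ω) [Finite S], Nat.card S = n → IsPGroup p S →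
      ∀ F : FusionSystem S, F.IsSaturated p → F.IsSectionFree p ↥(Cfsg.qd p) →
      ∀ Q : Subgroup Ω, F.IsNormal Q → Q ≠ ⊥ → Nat.card Q + k = n → F.IsNormal (Wup W S) := by
  intro k
  induction k using Nat.strong_induction_on with
  | _ k ihk =>
  intro Ω _ S _ hcard hS F hF hfree Q hQ hQ1 hk
  have hQS : Q ≤ S := hQ.1
  have hSN : S ≤ Subgroup.normalizer (Q : Set Ω) := le_normalizer_of_isNormal F hQ
  have hsc := stronglyClosed_of_isNormal F hQ
  have hQfin : Finite Q := finite_of_le hQS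
  have hVS : Wup W S ≤ S := wup_le S
  have hSNV := le_normalizer_gwup hH hS
  have hQfn : F.IsFullyNormalized Q := isFullyNormalized_of_normal F hQS hSN
  have hNSQ : normalizerIn S Q = S :=
    le_antisymm inf_le_left (fun y hy => ⟨hy, hSN hy⟩)
  by_cases hCQ : centralizerIn S Q ≤ Q
  · -- the constrained case
    have hQc : F.IsCentric Q := by
      refine ⟨hQS, fun Q' hQ' => ?_⟩
      rw [eq_of_isConj_of_isNormal F hQ hQ']
      exact hCQ
    have hE := normalizerSystem_isNormalizerSystem F Q hQS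
    haveI hNfin : Finite (normalizerIn S Q) := finite_of_le inf_le_left
    have hNp : IsPGroup p (normalizerIn S Q) := isPGroup_of_le hS inf_le_left
    have hcon := (normalizerSystem_isConstrained p hS F hF Q hQfn hQc _ hE).1
    obtain ⟨G, hG, ι, hM⟩ := Cfsg.Agent.S5090.result p hNp (normalizerSystem F Q hQS) hcon
    have hnot := hfree Q hQfn hQc _ hE G ι hM
    have hVN : (normalizerSystem F Q hQS).IsNormal (Wup W (normalizerIn S Q)) :=
      isNormal_of_model hH hNp _ ι hM hnot
    rw [wup_congr hNSQ] at hVN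
    have hctl : NCtl F Q (Wup W S) := nctl_of_isNormal F hSNV _ hE hVN
    apply isNormal_of_forall_mem F hVS
    intro P φ hφ
    exact hctl P (mem_normalizerHom_of_isNormal F hQ hφ)
  · -- subgroups normal in `S` properly containing `Q`
    have hstep : ∀ U : Subgroup Ω, U ≤ S → S ≤ Subgroup.normalizer (U : Set Ω) → Q ≤ U →
        Q ≠ U → NCtl F U (Wup W S) := by
      intro U hUS hSNU hQU hQU'
      have hUfin : Finite U := finite_of_le hUS
      have hcardU := card_lt_of_lt hQU hQU'
      have hcardU' : Nat.card U ≤ n := by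
        rw [← hcard]
        exact card_le_of_le hUS
      have hU1 : U ≠ ⊥ := by
        intro h
        apply hQ1
        rw [eq_bot_iff, ← h]
        exact hQU
      have hUfn := isFullyNormalized_of_normal F hUS hSNU
      have hE := normalizerSystem_isNormalizerSystem F _ hUS
      have hNS : normalizerIn S U = S :=
        le_antisymm inf_le_left (fun y hy => ⟨hy, hSNU hy⟩)
      haveI hNfin : Finite (normalizerIn S U) := finite_of_le inf_le_left
      have hNp : IsPGroup p (normalizerIn S U) := isPGroup_of_le hS inf_le_left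
      have hNcard : Nat.card (normalizerIn S U) = n := by
        rw [hNS]
        exact hcard
      have hEsat := normalizerSystem_isSaturated p hS F hF _ hUfn _ hE
      have hEn := normalizerSystem_isNormal F hUS _ hE
      have hEfree := Embed.sectionFree_normalizer p hS F hF hfree U hUfn _ hE
      have h1 : (normalizerSystem F U hUS).IsNormal (Wup W (normalizerIn S U)) :=
        ihk (n - Nat.card U) (by omega) Ω _ hNcard hNp _ hEsat hEfree U hEn hU1 (by omega)
      rw [wup_congr hNS] at h1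
      exact nctl_of_isNormal F hSNV _ hE h1
    have hQneS : Q ≠ S := by
      intro h
      apply hCQ
      rw [h]
      exact inf_le_left
    -- the system `S C_F(Q)`
    obtain ⟨E₁, hE₁e⟩ : ∃ E₁ : FusionSystem S, E₁ = scSys F Q hQS hSN := ⟨_, rfl⟩
    have hE₁sat : E₁.IsSaturated p := by
      rw [hE₁e]
      exact scSys_isSaturated p hS F hF hQ
    have hE₁Q : E₁.IsNormal Q := by
      rw [hE₁e]
      exact scSys_isNormal F Q hQS hSN
    have hE₁sub : ∀ (P : Subgroup Ω) (φ : P →* Ω), φ ∈ E₁.Hom P → φ ∈ F.Hom P := by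
      rw [hE₁e]
      exact scSys_sub F Q hQS hSN
    have hE₁id : ∀ (P : Subgroup Ω) (hQP : Q ≤ P) (θ : P →* Ω), θ ∈ F.Hom P →
        (∀ q : Q, θ ⟨q, hQP q.2⟩ = q) → θ ∈ E₁.Hom P := by
      rw [hE₁e]
      exact scSys_mem_of_id F Q hQS hSN
    have hE₁conj : ∀ (P : Subgroup Ω) (hQP : Q ≤ P) (φ : P →* Ω), φ ∈ E₁.Hom P →
        ∃ s ∈ S, ∀ q : Q, φ ⟨q, hQP q.2⟩ = s * q * s⁻¹ := by
      rw [hE₁e]
      exact scSys_conj_of_mem F Q hQS hSN
    have hE₁free : E₁.IsSectionFree p ↥(Cfsg.qd p) :=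
      sectionFree_sc p hS F hF hQ E₁ hE₁sat hE₁sub hE₁id hE₁Q hfree
    have hsc₁ := stronglyClosed_of_isNormal E₁ hE₁Q
    -- the factor system
    have hQn : (Q.subgroupOf S).Normal := Subgroup.normal_subgroupOf_of_le_normalizer hSN
    have hker : ∀ s : S, QuotientGroup.mk' (Q.subgroupOf S) s = 1 ↔ (s : Ω) ∈ Q := by
      intro s
      rw [QuotientGroup.mk'_apply, QuotientGroup.eq_one_iff]
      rfl
    have hrange : (QuotientGroup.mk' (Q.subgroupOf S)).range = ⊤ :=
      MonoidHom.range_eq_top.mpr (QuotientGroup.mk'_surjective _)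
    have hfs := factorSystem_isFactorSystem E₁ hsc₁ (QuotientGroup.mk' (Q.subgroupOf S)) hker
      hrange
    obtain ⟨F', hF'e⟩ : ∃ F' : FusionSystem (⊤ : Subgroup (↥S ⧸ Q.subgroupOf S)),
        F' = factorSystem E₁ hsc₁ (QuotientGroup.mk' (Q.subgroupOf S)) hker hrange := ⟨_, rfl⟩
    rw [← hF'e] at hfs
    have hiff := hfs.2.2.2
    have hS' : IsPGroup p ↥(⊤ : Subgroup (↥S ⧸ Q.subgroupOf S)) :=
      (hS.to_quotient (Q.subgroupOf S)).to_subgroup ⊤
    have hF'sat : F'.IsSaturated p :=
      factor_isSaturated E₁ hsc₁ (QuotientGroup.mk' (Q.subgroupOf S)) hker hrange F' hiff p hS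
        hE₁sat
    have hF'free : F'.IsSectionFree p ↥(Cfsg.qd p) :=
      Cfsg.Agent.S5241.result p hS E₁ hE₁sat Q hE₁Q hE₁free _ F' hfs
    have hcard' : Nat.card ↥(⊤ : Subgroup (↥S ⧸ Q.subgroupOf S)) * Nat.card Q = n := by
      rw [Nat.card_congr (Subgroup.topEquiv (G := ↥S ⧸ Q.subgroupOf S)).toEquiv, ← hcard,
        Subgroup.card_eq_card_quotient_mul_card_subgroup (Q.subgroupOf S),
        Nat.card_congr (Subgroup.subgroupOfEquivOfLe hQS).toEquiv]
    have hQ1' : 1 < Nat.card Q := one_lt_card_of_ne_bot hQ1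
    have hnpos : 0 < n := by rw [← hcard]; exact Nat.card_pos
    have hlt' : Nat.card ↥(⊤ : Subgroup (↥S ⧸ Q.subgroupOf S)) < n := by
      have hpos : 0 < Nat.card ↥(⊤ : Subgroup (↥S ⧸ Q.subgroupOf S)) := Nat.card_pos
      nlinarith
    have hW' : F'.IsNormal (Wup W (⊤ : Subgroup (↥S ⧸ Q.subgroupOf S))) :=
      IH _ hlt' _ _ rfl hS' F' hF'sat hF'free
    have htop : (⊤ : Subgroup (↥S ⧸ Q.subgroupOf S)) ≠ ⊥ := by
      intro h
      apply hQneS
      apply le_antisymm hQS
      intro y hy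
      have h1 : QuotientGroup.mk' (Q.subgroupOf S) ⟨y, hy⟩ ∈
          (⊤ : Subgroup (↥S ⧸ Q.subgroupOf S)) := Subgroup.mem_top _
      rw [h, Subgroup.mem_bot] at h1
      exact (hker _).mp h1
    have hW'1 : Wup W (⊤ : Subgroup (↥S ⧸ Q.subgroupOf S)) ≠ ⊥ := gwup_ne_bot hH hS' htop
    have hW'n : (⊤ : Subgroup (↥S ⧸ Q.subgroupOf S)) ≤ Subgroup.normalizer
        ((Wup W (⊤ : Subgroup (↥S ⧸ Q.subgroupOf S)) :
          Subgroup (↥S ⧸ Q.subgroupOf S)) : Set (↥S ⧸ Q.subgroupOf S)) :=
      le_normalizer_gwup hH hS'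
    -- the preimage `T` of `W(S/Q)`
    obtain ⟨T, hTe⟩ : ∃ T : Subgroup Ω, T = preimageAlong (QuotientGroup.mk' (Q.subgroupOf S))
        (Wup W (⊤ : Subgroup (↥S ⧸ Q.subgroupOf S))) := ⟨_, rfl⟩
    have hTn : E₁.IsNormal T := by
      rw [hTe]
      exact isNormal_preimage_of_sc p hS E₁ hE₁sat hE₁Q hE₁conj
        (QuotientGroup.mk' (Q.subgroupOf S)) hker hrange F' hiff hW'
    have hTS : T ≤ S := hTn.1
    have hQT : Q ≤ T := by
      rw [hTe]
      exact ker_le_preimageAlong _ hQS hker _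
    have hQT' : Q ≠ T := by
      intro h
      apply hW'1
      rw [eq_bot_iff]
      intro y hy
      obtain ⟨z, hz⟩ := QuotientGroup.mk'_surjective (Q.subgroupOf S) y
      have hzU : (z : Ω) ∈ T := by
        rw [hTe, mem_preimageAlong]
        exact ⟨z.2, by rw [Subtype.coe_eta, hz]; exact hy⟩
      rw [← h] at hzU
      rw [Subgroup.mem_bot, ← hz]
      exact (hker z).mpr hzU
    have hTfin : Finite T := finite_of_le hTS
    have hcardT := card_lt_of_lt hQT hQT'
    have hcardT' : Nat.card T ≤ n := by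
      rw [← hcard]
      exact card_le_of_le hTS
    have hT1 : T ≠ ⊥ := by
      intro h
      apply hQ1
      rw [eq_bot_iff, ← h]
      exact hQT
    have hV₁ : E₁.IsNormal (Wup W S) :=
      ihk (n - Nat.card T) (by omega) Ω S hcard hS E₁ hE₁sat hE₁free T hTn hT1 (by omega)
    -- conclusion
    have hsc' : ∀ (P : Subgroup Ω) (hQP : Q ≤ P) (θ : P →* Ω), θ ∈ F.Hom P →
        (∀ q : Q, θ ⟨q, hQP q.2⟩ = q) → θ ∈ F.normalizerHom (Wup W S) P := by
      intro P hQP θ hθ hid
      have h1 := mem_normalizerHom_of_isNormal E₁ hV₁ (hE₁id P hQP θ hθ hid)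
      obtain ⟨-, h2, h3, ψ, hψ, hext, hmap⟩ := h1
      exact ⟨hθ, h2, h3, ψ, hE₁sub _ ψ hψ, hext, hmap⟩
    have hR : NCtl F (Q ⊔ centralizerIn S Q) (Wup W S) := by
      apply hstep _ (sup_le hQS inf_le_left)
        (le_normalizer_sup_of hSN (le_normalizer_centralizerIn hSN)) le_sup_left
      intro h
      exact hCQ (le_of_le_of_eq le_sup_right h.symm)
    exact isNormal_of_sc_of_nctl p hS F hF hQ hVS hSNV hsc' hR

set_option maxHeartbeats 1600000 in
/-- **Glauberman functors control fusion in `Qd(p)`-free saturated systems.** -/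
theorem master' (hH : GHyp p W) :
    ∀ (n : ℕ) (Ω : Type u) [Group Ω] (S : Subgroup Ω) [Finite S], Nat.card S = n →
      IsPGroup p S → ∀ F : FusionSystem S, F.IsSaturated p →
        F.IsSectionFree p ↥(Cfsg.qd p) → F.IsNormal (Wup W S) := by
  intro n
  induction n using Nat.strong_induction_on with
  | _ n IH =>
  intro Ω _ S _ hcard hS F hF hfree
  have hVS : Wup W S ≤ S := wup_le S
  have hSNV := le_normalizer_gwup hH hS
  by_cases hN : ∀ Q : Subgroup Ω, F.IsFullyNormalized Q → Q ≠ ⊥ → NCtl F Q (Wup W S)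
  · exact isNormal_of_forall_nctl p hS F hF hVS hSNV hN
  · exfalso
    have hN' : ∃ Q : Subgroup Ω, F.IsFullyNormalized Q ∧ Q ≠ ⊥ ∧ ¬ NCtl F Q (Wup W S) := by
      by_contra hc
      apply hN
      intro Q h1 h2
      by_contra h3
      exact hc ⟨Q, h1, h2, h3⟩
    -- choose `Q` with `|N_S(Q)|` as large as possible
    let T : Set ℕ := {m | ∃ Q : Subgroup Ω, F.IsFullyNormalized Q ∧ Q ≠ ⊥ ∧
      ¬ NCtl F Q (Wup W S) ∧ Nat.card (normalizerIn S Q) = m}
    have hTne : T.Nonempty := by
      obtain ⟨Q, h1, h2, h3⟩ := hN'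
      exact ⟨_, Q, h1, h2, h3, rfl⟩
    have hbdd : BddAbove T := by
      refine ⟨Nat.card S, ?_⟩
      rintro m ⟨Q, -, -, -, rfl⟩
      exact card_le_of_le inf_le_left
    obtain ⟨Q, hQfn, hQ1, hQni, hQc⟩ := Nat.sSup_mem hTne hbdd
    have hmax : ∀ Q' : Subgroup Ω, F.IsFullyNormalized Q' → Q' ≠ ⊥ →
        Nat.card (normalizerIn S Q) < Nat.card (normalizerIn S Q') → NCtl F Q' (Wup W S) := by
      intro Q' h1 h2 h3
      by_contra h4
      have h5 : Nat.card (normalizerIn S Q') ≤ sSup T := le_csSup hbdd ⟨Q', h1, h2, h4, rfl⟩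
      omega
    have hRS : normalizerIn S Q ≤ S := inf_le_left
    haveI hRfin : Finite (normalizerIn S Q) := finite_of_le hRS
    have hRp : IsPGroup p (normalizerIn S Q) := isPGroup_of_le hS hRS
    have hE := normalizerSystem_isNormalizerSystem F Q hQfn.1
    have hEsat := normalizerSystem_isSaturated p hS F hF Q hQfn _ hE
    have hEfree := Embed.sectionFree_normalizer p hS F hF hfree Q hQfn _ hE
    have hQR : Q ≤ normalizerIn S Q := fun y hy => ⟨hQfn.1 hy, Subgroup.le_normalizer hy⟩
    have hQfin : Finite Q := finite_of_le hQfn.1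
    apply hQni
    by_cases hRe : normalizerIn S Q = S
    · have hEn := normalizerSystem_isNormal F hQfn.1 _ hE
      have hRcard : Nat.card (normalizerIn S Q) = n := by
        rw [hRe]
        exact hcard
      have hQle : Nat.card Q ≤ n := by
        rw [← hcard]
        exact card_le_of_le hQfn.1
      have h1 : (normalizerSystem F Q hQfn.1).IsNormal (Wup W (normalizerIn S Q)) :=
        claimB' hH n IH (n - Nat.card Q) Ω _ hRcard hRp _ hEsat hEfree Q hEn hQ1 (by omega)
      rw [wup_congr hRe] at h1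
      exact nctl_of_isNormal F hSNV _ hE h1
    · have hlt : Nat.card (normalizerIn S Q) < n := by
        rw [← hcard]
        exact card_lt_of_lt hRS hRe
      have hRne : normalizerIn S Q ≠ ⊥ := by
        intro h
        apply hQ1
        rw [eq_bot_iff, ← h]
        exact hQR
      have hUR : Wup W (normalizerIn S Q) ≤ normalizerIn S Q := wup_le _
      have hUc := gwup_char hH hRp
      have hctlU : NCtl F (Wup W (normalizerIn S Q)) (Wup W S) :=
        nctl_of_char_of_max p hS F hF Q hVS hSNV hmax hRe hUR (gwup_ne_bot hH hRp hRne) hUc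
      have hUn : (normalizerSystem F Q hQfn.1).IsNormal (Wup W (normalizerIn S Q)) :=
        IH _ hlt Ω _ rfl hRp _ hEsat hEfree
      have hRN : normalizerIn S Q ≤ normalizerIn S (Wup W (normalizerIn S Q)) :=
        fun y hy => ⟨hRS hy, mem_normalizer_of_characteristic hUR hUc (Subgroup.le_normalizer hy)⟩
      intro P φ hφ
      apply hctlU P
      have hφE : φ ∈ (normalizerSystem F Q hQfn.1).Hom P := by rw [hE P]; exact hφ
      obtain ⟨ψ, hψ, hext, hmap⟩ := hUn.2 P φ hφE
      rw [hE] at hψ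
      exact ⟨hφ.1, hφ.2.1.trans hRN, fun x => hRN (hφ.2.2.1 x), ψ, hψ.1, hext, hmap⟩

end Cfsg.Agent.Helper26.GF
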