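import Mathlib
import Cfsg.Agent.Helper26.GFMain

set_option autoImplicit false
set_option linter.style.haveILetI false
set_option linter.unusedSectionVars false
set_option linter.unusedVariables false

/-! Control of a saturated fusion system by a subsystem: Alperin's theorem with a threshold,
transport along maps defined on normalizers, and the decomposition along a normal subgroup.
(Generalization of the `GF` library from normalizer systems to arbitrary subsystems.) -/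

namespace Cfsg.Agent.Helper26.SC

open Cfsg Cfsg.FusionSystem Cfsg.Agent.Helper25 Cfsg.Agent.Helper26.MasterRed
  Cfsg.Agent.Helper26.WC Cfsg.Agent.Helper26.GF

variable {Ω : Type*} [Group Ω] {S : Subgroup Ω}

/-- the normalizer system of `U` is contained in the subsystem `𝒩` -/
def SCtl (F : FusionSystem S) (U : Subgroup Ω) (𝒩 : FusionSystem S) : Prop :=
  ∀ P : Subgroup Ω, F.normalizerHom U P ⊆ 𝒩.Hom P

section Threshold

variable [Finite S]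

/-- The subsystem of the maps that, on sources of order more than `m`, lie in `𝒩`. -/
def thSystem (F 𝒩 : FusionSystem S)
    (h𝒩F : ∀ (R : Subgroup Ω) (θ : R →* Ω), θ ∈ 𝒩.Hom R → θ ∈ F.Hom R) (m : ℕ) :
    FusionSystem S where
  Hom P := {φ | φ ∈ F.Hom P ∧ (m < Nat.card P → φ ∈ 𝒩.Hom P)}
  le_of_mem := fun h => F.le_of_mem h.1
  injective_of_mem := fun h => F.injective_of_mem h.1
  conj_mem := by
    intro P g hP hg
    exact ⟨F.conj_mem hP hg, fun _ => 𝒩.conj_mem hP hg⟩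
  comp_mem := by
    rintro P Q φ ψ ⟨hφ, hφx⟩ ⟨hψ, hψx⟩ hPQ
    refine ⟨F.comp_mem hφ hψ hPQ, fun hm => ?_⟩
    have hQfin : Finite Q := finite_of_le (F.le_of_mem hψ).1
    have hcard : Nat.card P ≤ Nat.card Q :=
      Nat.card_le_card_of_injective (φ.codRestrict Q hPQ)
        (fun a b hab => F.injective_of_mem hφ (congrArg Subtype.val hab))
    exact 𝒩.comp_mem (hφx hm) (hψx (lt_of_lt_of_le hm hcard)) hPQ
  inv_mem := by
    rintro P φ ⟨hφ, hφx⟩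
    by_cases hm : m < Nat.card P
    · obtain ⟨ψ, hψ, hinv⟩ := 𝒩.inv_mem (hφx hm)
      exact ⟨ψ, ⟨h𝒩F _ _ hψ, fun _ => hψ⟩, hinv⟩
    · obtain ⟨ψ, hψ, hinv⟩ := F.inv_mem hφ
      refine ⟨ψ, ⟨hψ, fun hm' => ?_⟩, hinv⟩
      exfalso
      have hcard : Nat.card φ.range = Nat.card P :=
        (Nat.card_congr (MonoidHom.ofInjective (F.injective_of_mem hφ)).toEquiv).symm
      rw [hcard] at hm'
      exact hm hm'

/-- Alperin's theorem with a threshold. -/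
theorem sctl_above (p : ℕ) [Fact p.Prime] (hS : IsPGroup p S) (F : FusionSystem S)
    (hF : F.IsSaturated p) (𝒩 : FusionSystem S)
    (h𝒩F : ∀ (R : Subgroup Ω) (θ : R →* Ω), θ ∈ 𝒩.Hom R → θ ∈ F.Hom R) (m : ℕ)
    (h : ∀ P : Subgroup Ω, F.IsFullyNormalized P → m < Nat.card P → ∀ α ∈ F.autGroup P,
      autHom α ∈ 𝒩.Hom P) :
    ∀ (P : Subgroup Ω) (φ : P →* Ω), φ ∈ F.Hom P → m < Nat.card P → φ ∈ 𝒩.Hom P := by
  have hle : F ≤ thSystem F 𝒩 h𝒩F m := by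
    apply Cfsg.Agent.S5082.result p hS F hF
    intro P hP α hα
    have hPfn : F.IsFullyNormalized P := by
      rcases hP with rfl | hP
      · exact isFullyNormalized_of_normal F le_rfl Subgroup.le_normalizer
      · exact hP.2.1
    have hPS : P ≤ S := hPfn.1
    rw [mem_autGroup_iff _ hPS]
    exact ⟨(mem_autGroup_iff F hPS α).mp hα, fun hm => h P hPfn hm α hα⟩
  intro P φ hφ hm
  exact (hle P hφ).2 hm

/-- Local to global: if the normalizer systems of all nontrivial fully normalized subgroups lie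
in `𝒩`, then so does `F`. -/
theorem le_of_forall_sctl (p : ℕ) [Fact p.Prime] (hS : IsPGroup p S) (F : FusionSystem S)
    (hF : F.IsSaturated p) (𝒩 : FusionSystem S)
    (h𝒩F : ∀ (R : Subgroup Ω) (θ : R →* Ω), θ ∈ 𝒩.Hom R → θ ∈ F.Hom R)
    (h : ∀ Q : Subgroup Ω, F.IsFullyNormalized Q → Q ≠ ⊥ → SCtl F Q 𝒩) :
    ∀ (P : Subgroup Ω) (φ : P →* Ω), φ ∈ F.Hom P → φ ∈ 𝒩.Hom P := by
  intro P φ hφ
  have hPfin : Finite P := finite_of_le (F.le_of_mem hφ).1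
  refine sctl_above p hS F hF 𝒩 h𝒩F 0 ?_ P φ hφ Nat.card_pos
  intro Q hQ _ α hα
  by_cases hQ1 : Q = ⊥
  · subst hQ1
    have e : autHom α = (⊥ : Subgroup Ω).subtype := by
      ext x
      have h1 : α x = x := Subsingleton.elim _ _
      show ((α x : (⊥ : Subgroup Ω)) : Ω) = x
      rw [h1]
    rw [e]
    exact subtype_mem 𝒩 bot_le
  · exact h Q hQ hQ1 Q (autHom_mem_normalizerHom F hQ.1 hα)

end Threshold

set_option maxHeartbeats 1600000 in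
/-- If a map `χ` of `N_F(V)` defined on `N_S(U)` carries `U` onto `U'`, and the normalizer system
of `U'` lies in `N_F(V)`, then so does the normalizer system of `U`. -/
theorem sctl_transport [Finite S] (F 𝒩 : FusionSystem S)
    (h𝒩F : ∀ (R : Subgroup Ω) (θ : R →* Ω), θ ∈ 𝒩.Hom R → θ ∈ F.Hom R)
    {U U' : Subgroup Ω} (hUS : U ≤ S)
    {χ : ↥(normalizerIn S U) →* Ω} (hχV : χ ∈ 𝒩.Hom (normalizerIn S U))
    (hχN : ∀ y, χ y ∈ normalizerIn S U')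
    (hχU : (U.subgroupOf (normalizerIn S U)).map χ = U') (h : SCtl F U' 𝒩) : SCtl F U 𝒩 := by
  intro P φ hφ
  obtain ⟨hφF, hPN, hval, ψ, hψ, hext, hmap⟩ := hφ
  have hχ : χ ∈ F.Hom (normalizerIn S U) := h𝒩F _ _ hχV
  have hUN : U ≤ normalizerIn S U := fun y hy => ⟨hUS hy, Subgroup.le_normalizer hy⟩
  have hXN : P ⊔ U ≤ normalizerIn S U := sup_le hPN hUN
  have hinjχ := F.injective_of_mem hχ
  have hU'S : U' ≤ S := by
    rw [← hχU]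
    rintro _ ⟨y, -, rfl⟩
    exact (hχN y).1
  have hU'fin : Finite U' := finite_of_le hU'S
  have hNSF : ∀ (R : Subgroup Ω) (θ : R →* Ω), θ ∈ 𝒩.Hom R → θ ∈ F.Hom R := h𝒩F
  have hχNS : χ ∈ 𝒩.Hom (normalizerIn S U) := hχV
  -- the restriction of `χ` to `X = P ⊔ U`
  have hχXNS : χ.comp (Subgroup.inclusion hXN) ∈ 𝒩.Hom (P ⊔ U) := restrict_mem 𝒩 hXN hχNS
  obtain ⟨χX, hχXe⟩ : ∃ χX : ↥(P ⊔ U) →* Ω, χX = χ.comp (Subgroup.inclusion hXN) := ⟨_, rfl⟩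
  rw [← hχXe] at hχXNS
  have hχX : χX ∈ F.Hom (P ⊔ U) := hNSF _ _ hχXNS
  have hχXapp : ∀ y : ↥(P ⊔ U), χX y = χ ⟨y, hXN y.2⟩ := fun y => by rw [hχXe]; rfl
  obtain ⟨X', hX'⟩ : ∃ X', χX.range = X' := ⟨_, rfl⟩
  obtain ⟨ρ, hρNS, hρinv, hρrange⟩ := exists_inv_mem 𝒩 hχXNS hX'
  have hρ : ρ ∈ F.Hom X' := hNSF _ _ hρNS
  have hρX : ∀ z : X', ρ z ∈ P ⊔ U := by
    intro z
    rw [← hρrange]
    exact ⟨z, rfl⟩
  -- `ψ` has values in `N_S(U)`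
  have hψN : ∀ y : ↥(P ⊔ U), ψ y ∈ normalizerIn S U := by
    have h1 : ψ.range ≤ normalizerIn S U := by
      rw [range_sup_eq ψ, map_subgroupOf_eq_range ψ φ hext, hmap]
      apply sup_le _ hUN
      rintro _ ⟨y, rfl⟩
      exact hval y
    intro y
    exact h1 ⟨y, rfl⟩
  have hψU : ∀ y : ↥(P ⊔ U), (y : Ω) ∈ U → ψ y ∈ U := by
    intro y hy
    have h0 : ψ y ∈ (U.subgroupOf (P ⊔ U)).map ψ := ⟨y, hy, rfl⟩
    exact (show ∀ Y : Subgroup Ω, (U.subgroupOf (P ⊔ U)).map ψ = Y → ψ y ∈ Y from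
      fun Y hY => hY ▸ h0) U hmap
  -- the transported map
  have hσ₁ : ψ.comp (ρ.codRestrict (P ⊔ U) hρX) ∈ F.Hom X' := F.comp_mem hρ hψ hρX
  obtain ⟨σ₁, hσ₁e⟩ : ∃ σ₁ : X' →* Ω, σ₁ = ψ.comp (ρ.codRestrict (P ⊔ U) hρX) := ⟨_, rfl⟩
  rw [← hσ₁e] at hσ₁
  have hσ₁app : ∀ z : X', σ₁ z = ψ ⟨ρ z, hρX z⟩ := fun z => by rw [hσ₁e]; rfl
  have hσ₁N : ∀ z : X', σ₁ z ∈ normalizerIn S U := fun z => by rw [hσ₁app]; exact hψN _
  have hσ₂ : χ.comp (σ₁.codRestrict (normalizerIn S U) hσ₁N) ∈ F.Hom X' :=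
    F.comp_mem hσ₁ hχ hσ₁N
  obtain ⟨σ₂, hσ₂e⟩ : ∃ σ₂ : X' →* Ω, σ₂ = χ.comp (σ₁.codRestrict (normalizerIn S U) hσ₁N) :=
    ⟨_, rfl⟩
  rw [← hσ₂e] at hσ₂
  have hσ₂app : ∀ z : X', σ₂ z = χ ⟨σ₁ z, hσ₁N z⟩ := fun z => by rw [hσ₂e]; rfl
  have hX'N : X' ≤ normalizerIn S U' := by
    rw [← hX']
    rintro _ ⟨y, rfl⟩
    rw [hχXapp]
    exact hχN _
  have hU'X' : U' ≤ X' := by
    rw [← hχU, ← hX']
    rintro _ ⟨y, hy, rfl⟩
    exact ⟨⟨y, Subgroup.mem_sup_right hy⟩, hχXapp _⟩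
  have hσ₂N : σ₂ ∈ F.normalizerHom U' X' := by
    refine mem_normalizerHom_of_le F hU'X' hσ₂ hX'N (fun z => by rw [hσ₂app]; exact hχN _) ?_
    apply map_eq_of_map_le (F.injective_of_mem hσ₂) _ hU'X'
    rintro _ ⟨z, hz, rfl⟩
    obtain ⟨y, hy⟩ : ∃ y : ↥(P ⊔ U), χX y = (z : Ω) := by
      have h0 : (z : Ω) ∈ χX.range := by rw [hX']; exact z.2
      exact h0
    have hz' : (z : Ω) ∈ U' := hz
    have hyU : (y : Ω) ∈ U := by
      rw [← hχU] at hz'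
      obtain ⟨u, hu, huz⟩ := hz'
      rw [← hy, hχXapp] at huz
      have h8 : (u : Ω) = (y : Ω) := congrArg Subtype.val (hinjχ huz)
      rw [← h8]
      exact hu
    have hρz : ρ z = (y : Ω) := by
      have h1 : χX y ∈ X' := by rw [hy]; exact z.2
      have h2 := hρinv y h1
      have e : (⟨χX y, h1⟩ : X') = z := Subtype.ext hy
      rw [e] at h2
      exact h2
    rw [hσ₂app]
    have e1 : (⟨ρ z, hρX z⟩ : ↥(P ⊔ U)) = y := Subtype.ext hρz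
    have h3 : σ₁ z ∈ U := by
      rw [hσ₁app, e1]
      exact hψU y hyU
    rw [← hχU]
    exact ⟨⟨σ₁ z, hσ₁N z⟩, h3, rfl⟩
  have hσ₂NS : σ₂ ∈ 𝒩.Hom X' := h X' hσ₂N
  -- the restriction of `χ` to `Y = ψ(X)`
  obtain ⟨Y, hY⟩ : ∃ Y, ψ.range = Y := ⟨_, rfl⟩
  have hYN : Y ≤ normalizerIn S U := by
    rw [← hY]
    rintro _ ⟨y, rfl⟩
    exact hψN y
  have hχYNS : χ.comp (Subgroup.inclusion hYN) ∈ 𝒩.Hom Y := restrict_mem 𝒩 hYN hχNS
  obtain ⟨χY, hχYe⟩ : ∃ χY : Y →* Ω, χY = χ.comp (Subgroup.inclusion hYN) := ⟨_, rfl⟩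
  rw [← hχYe] at hχYNS
  have hχYapp : ∀ y : Y, χY y = χ ⟨y, hYN y.2⟩ := fun y => by rw [hχYe]; rfl
  obtain ⟨Y', hY'⟩ : ∃ Y', χY.range = Y' := ⟨_, rfl⟩
  obtain ⟨τ, hτNS, hτinv, hτrange⟩ := exists_inv_mem 𝒩 hχYNS hY'
  -- `ψ = τ ∘ σ₂ ∘ χX`
  have hχXX' : ∀ y : ↥(P ⊔ U), χX y ∈ X' := by
    intro y
    rw [← hX']
    exact ⟨y, rfl⟩
  have hc1 : σ₂.comp (χX.codRestrict X' hχXX') ∈ 𝒩.Hom (P ⊔ U) :=
    𝒩.comp_mem hχXNS hσ₂NS hχXX'
  have hψY : ∀ y : ↥(P ⊔ U), ψ y ∈ Y := by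
    intro y
    rw [← hY]
    exact ⟨y, rfl⟩
  have hval1 : ∀ y : ↥(P ⊔ U), (σ₂.comp (χX.codRestrict X' hχXX')) y = χY ⟨ψ y, hψY y⟩ := by
    intro y
    show σ₂ ⟨χX y, hχXX' y⟩ = _
    rw [hσ₂app, hχYapp]
    have hρy : ρ ⟨χX y, hχXX' y⟩ = (y : Ω) := hρinv y (hχXX' y)
    have e1 : (⟨ρ ⟨χX y, hχXX' y⟩, hρX _⟩ : ↥(P ⊔ U)) = y := Subtype.ext hρy
    have h4 : σ₁ ⟨χX y, hχXX' y⟩ = ψ y := by rw [hσ₁app, e1]
    congr 1
    exact Subtype.ext h4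
  have hc1Y' : ∀ y : ↥(P ⊔ U), (σ₂.comp (χX.codRestrict X' hχXX')) y ∈ Y' := by
    intro y
    rw [hval1, ← hY']
    exact ⟨_, rfl⟩
  have hc2 : τ.comp ((σ₂.comp (χX.codRestrict X' hχXX')).codRestrict Y' hc1Y') ∈
      𝒩.Hom (P ⊔ U) := 𝒩.comp_mem hc1 hτNS hc1Y'
  have hψeq : τ.comp ((σ₂.comp (χX.codRestrict X' hχXX')).codRestrict Y' hc1Y') = ψ := by
    ext y
    show τ ⟨(σ₂.comp (χX.codRestrict X' hχXX')) y, hc1Y' y⟩ = ψ y
    have h5 : χY ⟨ψ y, hψY y⟩ ∈ Y' := by rw [← hY']; exact ⟨_, rfl⟩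
    have h6 := hτinv ⟨ψ y, hψY y⟩ h5
    have e : (⟨(σ₂.comp (χX.codRestrict X' hχXX')) y, hc1Y' y⟩ : Y') =
        ⟨χY ⟨ψ y, hψY y⟩, h5⟩ := Subtype.ext (hval1 y)
    rw [e]
    exact h6
  rw [hψeq] at hc2
  have hφNS : ψ.comp (Subgroup.inclusion (le_sup_left : P ≤ P ⊔ U)) ∈ 𝒩.Hom P :=
    restrict_mem 𝒩 le_sup_left hc2
  have e : ψ.comp (Subgroup.inclusion (le_sup_left : P ≤ P ⊔ U)) = φ := by
    ext x
    exact hext x
  rw [e] at hφNS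
  exact hφNS

/-- The normalizer system of a nontrivial characteristic subgroup `U` of `N_S(Q) < S` lies in
`N_F(V)`, if `N_F(Q')` does for all fully normalized `Q' ≠ 1` with `|N_S(Q')| > |N_S(Q)|`. -/
theorem sctl_of_char_of_max [Finite S] (p : ℕ) [Fact p.Prime] (hS : IsPGroup p S)
    (F : FusionSystem S) (hF : F.IsSaturated p) (𝒩 : FusionSystem S)
    (h𝒩F : ∀ (R : Subgroup Ω) (θ : R →* Ω), θ ∈ 𝒩.Hom R → θ ∈ F.Hom R) (Q : Subgroup Ω)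
    (hmax : ∀ Q' : Subgroup Ω, F.IsFullyNormalized Q' → Q' ≠ ⊥ →
      Nat.card (normalizerIn S Q) < Nat.card (normalizerIn S Q') → SCtl F Q' 𝒩)
    (hne : normalizerIn S Q ≠ S)
    {U : Subgroup Ω} (hUR : U ≤ normalizerIn S Q) (hU1 : U ≠ ⊥)
    (hUc : (U.subgroupOf (normalizerIn S Q)).Characteristic) : SCtl F U 𝒩 := by
  have hRS : normalizerIn S Q ≤ S := inf_le_left
  obtain ⟨g, hgN, hgR⟩ := exists_mem_normalizerIn_not_mem p hS hRS hne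
  have hgU : g ∈ Subgroup.normalizer (U : Set Ω) := mem_normalizer_of_characteristic hUR hUc hgN.2
  have hRN : normalizerIn S Q ≤ Subgroup.normalizer (U : Set Ω) :=
    fun y hy => mem_normalizer_of_characteristic hUR hUc (Subgroup.le_normalizer hy)
  have hRNU : normalizerIn S Q ≤ normalizerIn S U := fun y hy => ⟨hRS hy, hRN hy⟩
  have hUS : U ≤ S := hUR.trans hRS
  have hNUfin : Finite (normalizerIn S U) := finite_of_le inf_le_left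
  have hlt : Nat.card (normalizerIn S Q) < Nat.card (normalizerIn S U) := by
    have hfin : ((normalizerIn S U : Subgroup Ω) : Set Ω).Finite := Set.toFinite _
    have hss : ((normalizerIn S Q : Subgroup Ω) : Set Ω) ⊂
        ((normalizerIn S U : Subgroup Ω) : Set Ω) := by
      refine ⟨hRNU, fun h => hgR (h ⟨hgN.1, hgU⟩)⟩
    exact hfin.card_lt_card hss
  obtain ⟨U', hconj, hFA, hRec⟩ := hF U hUS
  obtain ⟨χ, hχ, hχN, hχU⟩ := Cfsg.Agent.S5079.result p hS F U' U hFA hRec hconj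
  have hU'fn : F.IsFullyNormalized U' :=
    isFullyNormalized_of_automized_receptive F p hS hFA (Cfsg.Agent.S5078.result F U' hRec)
  have hUNU : U ≤ normalizerIn S U := hUR.trans hRNU
  have hU'1 : U' ≠ ⊥ := by
    intro h
    apply hU1
    rw [h, Subgroup.map_eq_bot_iff_of_injective _ (F.injective_of_mem hχ)] at hχU
    rw [eq_bot_iff]
    intro y hy
    have h1 : (⟨y, hUNU hy⟩ : ↥(normalizerIn S U)) ∈ U.subgroupOf (normalizerIn S U) := hy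
    rw [hχU, Subgroup.mem_bot] at h1
    rw [Subgroup.mem_bot]
    exact congrArg (fun z : ↥(normalizerIn S U) => (z : Ω)) h1
  have hcard : Nat.card (normalizerIn S U) ≤ Nat.card (normalizerIn S U') :=
    hU'fn.2 U (isConj_symm F hconj)
  have hU'ctl : SCtl F U' 𝒩 := hmax U' hU'fn hU'1 (lt_of_lt_of_le hlt hcard)
  -- maps with source larger than `N_S(Q)` lie in `N_F(V)`
  have hab := sctl_above p hS F hF 𝒩 h𝒩F (Nat.card (normalizerIn S Q)) (by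
    intro P hP hm α hα
    have hPfin : Finite P := finite_of_le hP.1
    have hP1 : P ≠ ⊥ := by
      intro h
      rw [h, Subgroup.card_bot] at hm
      have : 0 < Nat.card (normalizerIn S Q) := by
        have : Finite (normalizerIn S Q) := finite_of_le hRS
        exact Nat.card_pos
      omega
    have hPN : P ≤ normalizerIn S P := fun y hy => ⟨hP.1 hy, Subgroup.le_normalizer hy⟩
    have hNPfin : Finite (normalizerIn S P) := finite_of_le inf_le_left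
    have h1 : SCtl F P 𝒩 := hmax P hP hP1 (lt_of_lt_of_le hm (card_le_of_le hPN))
    exact h1 P (autHom_mem_normalizerHom F hP.1 hα))
  have hχV : χ ∈ 𝒩.Hom (normalizerIn S U) := hab _ χ hχ hlt
  exact sctl_transport F 𝒩 h𝒩F hUS hχV hχN hχU hU'ctl


set_option maxHeartbeats 1600000 in
theorem le_of_sc_of_sctl [Finite S] (p : ℕ) [Fact p.Prime] (hS : IsPGroup p S)
    (F : FusionSystem S) (hF : F.IsSaturated p) (𝒩 : FusionSystem S)
    (h𝒩F : ∀ (R : Subgroup Ω) (θ : R →* Ω), θ ∈ 𝒩.Hom R → θ ∈ F.Hom R)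
    {Q : Subgroup Ω} (hQ : F.IsNormal Q)
    (hsc : ∀ (P : Subgroup Ω) (hQP : Q ≤ P) (θ : P →* Ω), θ ∈ F.Hom P →
      (∀ q : Q, θ ⟨q, hQP q.2⟩ = q) → θ ∈ 𝒩.Hom P)
    (hR : SCtl F (Q ⊔ centralizerIn S Q) 𝒩) :
    ∀ (A : Subgroup Ω) (φ : A →* Ω), φ ∈ F.Hom A → φ ∈ 𝒩.Hom A := by
  have hQS : Q ≤ S := hQ.1
  have hSN : S ≤ Subgroup.normalizer (Q : Set Ω) := le_normalizer_of_isNormal F hQ
  have hscQ := stronglyClosed_of_isNormal F hQ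
  have hQfin : Finite Q := finite_of_le hQS
  have hNSF : ∀ (R : Subgroup Ω) (θ : R →* Ω), θ ∈ 𝒩.Hom R → θ ∈ F.Hom R := h𝒩F
  intro A φ hφ
  obtain ⟨ψ, hψ, hext, hmap⟩ := hQ.2 A φ hφ
  -- it suffices to treat `ψ`
  suffices hψV : ψ ∈ 𝒩.Hom (A ⊔ Q) by
    have h1 : ψ.comp (Subgroup.inclusion (le_sup_left : A ≤ A ⊔ Q)) ∈ 𝒩.Hom A :=
      restrict_mem 𝒩 le_sup_left hψV
    have e : ψ.comp (Subgroup.inclusion (le_sup_left : A ≤ A ⊔ Q)) = φ := by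
      ext x
      exact hext x
    rw [e] at h1
    exact h1
  have hBS : A ⊔ Q ≤ S := (F.le_of_mem hψ).1
  have hψS : ∀ y, ψ y ∈ S := (F.le_of_mem hψ).2
  have hQB : Q ≤ A ⊔ Q := le_sup_right
  have hψQ : ∀ y : ↥(A ⊔ Q), (y : Ω) ∈ Q → ψ y ∈ Q := by
    intro y hy
    have h0 : ψ y ∈ (Q.subgroupOf (A ⊔ Q)).map ψ := ⟨y, hy, rfl⟩
    exact (show ∀ Z : Subgroup Ω, (Q.subgroupOf (A ⊔ Q)).map ψ = Z → ψ y ∈ Z from
      fun Z hZ => hZ ▸ h0) Q hmap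
  -- the restriction of `ψ` to `Q` and its extension to `N_α`
  have hrec : F.IsReceptive Q := isReceptive_of_stronglyClosed p F hF hscQ
  have hα : ψ.comp (Subgroup.inclusion hQB) ∈ F.Hom Q := restrict_mem F hQB hψ
  obtain ⟨α, hαe⟩ : ∃ α : Q →* Ω, α = ψ.comp (Subgroup.inclusion hQB) := ⟨_, rfl⟩
  rw [← hαe] at hα
  have hαapp : ∀ q : Q, α q = ψ ⟨q, hQB q.2⟩ := fun q => by rw [hαe]; rfl
  have hαr : α.range = Q := by
    apply Subgroup.eq_of_le_of_card_ge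
    · rintro _ ⟨q, rfl⟩
      rw [hαapp]
      exact hψQ _ q.2
    · exact (Nat.card_congr (MonoidHom.ofInjective (F.injective_of_mem hα)).toEquiv).le
  obtain ⟨ψ', hψ', hψ'ext⟩ := hrec.2 Q α hα hαr
  have hBN : A ⊔ Q ≤ extender S Q α := by
    intro g hg
    apply Subgroup.subset_closure
    refine ⟨hBS hg, hSN (hBS hg), ψ ⟨g, hg⟩, hψS _, fun q hq => ?_⟩
    rw [hαapp, hαapp]
    have e : (⟨((⟨g * (q : Ω) * g⁻¹, hq⟩ : Q) : Ω), hQB hq⟩ : ↥(A ⊔ Q)) =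
        ⟨g, hg⟩ * ⟨q, hQB q.2⟩ * ⟨g, hg⟩⁻¹ := Subtype.ext rfl
    rw [e, map_mul, map_mul, map_inv]
  have hCN : centralizerIn S Q ≤ extender S Q α := by
    intro c hc
    apply Subgroup.subset_closure
    refine ⟨hc.1, hSN hc.1, 1, S.one_mem, fun q hq => ?_⟩
    have e : (⟨c * (q : Ω) * c⁻¹, hq⟩ : Q) = q := by
      apply Subtype.ext
      show c * (q : Ω) * c⁻¹ = q
      have := (Subgroup.mem_centralizer_iff.mp hc.2) q q.2
      rw [← this]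
      group
    rw [e]
    simp
  have hQN : Q ≤ extender S Q α := hQB.trans hBN
  have hψ'S : ∀ y, ψ' y ∈ S := (F.le_of_mem hψ').2
  have hψ'α : ∀ y : ↥(extender S Q α), ∀ hy : (y : Ω) ∈ Q, ψ' y = α ⟨y, hy⟩ := by
    intro y hy
    exact hψ'ext y hy y.2
  have hψ'Q : ∀ y : ↥(extender S Q α), (y : Ω) ∈ Q → ψ' y ∈ Q := by
    intro y hy
    rw [hψ'α y hy, hαapp]
    exact hψQ _ hy
  have hψ'C : ∀ y : ↥(extender S Q α), (y : Ω) ∈ centralizerIn S Q →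
      ψ' y ∈ centralizerIn S Q := by
    intro y hy
    refine ⟨hψ'S y, Subgroup.mem_centralizer_iff.mpr ?_⟩
    intro q hq
    have hq' : q ∈ α.range := by rw [hαr]; exact hq
    obtain ⟨q', rfl⟩ := hq'
    have e : α q' = ψ' ⟨q', hQN q'.2⟩ := (hψ'α ⟨q', hQN q'.2⟩ q'.2).symm
    rw [e, ← map_mul, ← map_mul]
    congr 1
    apply Subtype.ext
    show (q' : Ω) * y = y * q'
    exact (Subgroup.mem_centralizer_iff.mp hy.2) q' q'.2
  -- the restriction `χ` of `ψ'` to `E = (A ⊔ Q) ⊔ R`, `R = Q C_S(Q)`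
  obtain ⟨R, hRe⟩ : ∃ R : Subgroup Ω, R = Q ⊔ centralizerIn S Q := ⟨_, rfl⟩
  have hRS : R ≤ S := by rw [hRe]; exact sup_le hQS inf_le_left
  have hRfin : Finite R := finite_of_le hRS
  have hRN : R ≤ extender S Q α := by rw [hRe]; exact sup_le hQN hCN
  have hEN : (A ⊔ Q) ⊔ R ≤ extender S Q α := sup_le hBN hRN
  have hES : (A ⊔ Q) ⊔ R ≤ S := sup_le hBS hRS
  have hSNR : S ≤ Subgroup.normalizer (R : Set Ω) := by
    rw [hRe]
    exact le_normalizer_sup_of hSN (le_normalizer_centralizerIn hSN)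
  have hχ : ψ'.comp (Subgroup.inclusion hEN) ∈ F.Hom ((A ⊔ Q) ⊔ R) := restrict_mem F hEN hψ'
  obtain ⟨χ, hχe⟩ : ∃ χ : ↥((A ⊔ Q) ⊔ R) →* Ω, χ = ψ'.comp (Subgroup.inclusion hEN) :=
    ⟨_, rfl⟩
  rw [← hχe] at hχ
  have hχapp : ∀ y : ↥((A ⊔ Q) ⊔ R), χ y = ψ' ⟨y, hEN y.2⟩ := fun y => by rw [hχe]; rfl
  have hRE : R ≤ (A ⊔ Q) ⊔ R := le_sup_right
  have hQE : Q ≤ (A ⊔ Q) ⊔ R := hQB.trans le_sup_left
  have hCE : centralizerIn S Q ≤ (A ⊔ Q) ⊔ R := by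
    refine le_trans ?_ hRE
    rw [hRe]
    exact le_sup_right
  have hχR : ∀ y : ↥((A ⊔ Q) ⊔ R), (y : Ω) ∈ R → χ y ∈ R := by
    have h1 : ∀ y : ↥((A ⊔ Q) ⊔ R), (y : Ω) ∈ Q ⊔ centralizerIn S Q →
        y ∈ (Q ⊔ centralizerIn S Q).comap χ := by
      apply forall_mem_sup_of (X := (A ⊔ Q) ⊔ R) hQE hCE
      · intro y hy
        exact Subgroup.mem_sup_left (by rw [hχapp]; exact hψ'Q _ hy)
      · intro y hy
        exact Subgroup.mem_sup_right (by rw [hχapp]; exact hψ'C _ hy)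
    intro y hy
    have hy' : (y : Ω) ∈ Q ⊔ centralizerIn S Q := by rw [← hRe]; exact hy
    have h2 : χ y ∈ Q ⊔ centralizerIn S Q := h1 y hy'
    rw [← hRe] at h2
    exact h2
  have hENR : (A ⊔ Q) ⊔ R ≤ normalizerIn S R := fun y hy => ⟨hES hy, hSNR (hES hy)⟩
  have hχN : χ ∈ F.normalizerHom R ((A ⊔ Q) ⊔ R) := by
    refine mem_normalizerHom_of_le F hRE hχ hENR
      (fun y => ⟨(F.le_of_mem hχ).2 y, hSNR ((F.le_of_mem hχ).2 y)⟩) ?_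
    apply map_eq_of_map_le (F.injective_of_mem hχ) _ hRE
    rintro _ ⟨y, hy, rfl⟩
    exact hχR y hy
  have hχV : χ ∈ 𝒩.Hom ((A ⊔ Q) ⊔ R) := by
    have := hR ((A ⊔ Q) ⊔ R)
    rw [← hRe] at this
    exact this hχN
  -- the restriction `χB` of `χ` to `B = A ⊔ Q`
  have hχB : χ.comp (Subgroup.inclusion (le_sup_left : A ⊔ Q ≤ (A ⊔ Q) ⊔ R)) ∈ 𝒩.Hom (A ⊔ Q) :=
    restrict_mem 𝒩 le_sup_left hχV
  obtain ⟨χB, hχBe⟩ : ∃ χB : ↥(A ⊔ Q) →* Ω,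
      χB = χ.comp (Subgroup.inclusion (le_sup_left : A ⊔ Q ≤ (A ⊔ Q) ⊔ R)) := ⟨_, rfl⟩
  rw [← hχBe] at hχB
  have hχBapp : ∀ y : ↥(A ⊔ Q), χB y = ψ' ⟨y, hBN y.2⟩ := fun y => by
    rw [hχBe]
    exact hχapp _
  have hχBQ : ∀ q : Q, χB ⟨q, hQB q.2⟩ = α q := by
    intro q
    rw [hχBapp]
    exact hψ'α ⟨q, hQN q.2⟩ q.2
  obtain ⟨B', hB'⟩ : ∃ B', χB.range = B' := ⟨_, rfl⟩
  obtain ⟨τ, hτNS, hτinv, hτrange⟩ := exists_inv_mem 𝒩 hχB hB'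
  have hτ : τ ∈ F.Hom B' := hNSF _ _ hτNS
  have hτB : ∀ z : B', τ z ∈ A ⊔ Q := by
    intro z
    rw [← hτrange]
    exact ⟨z, rfl⟩
  have hQB' : Q ≤ B' := by
    intro q hq
    have hq' : q ∈ α.range := by rw [hαr]; exact hq
    obtain ⟨q', rfl⟩ := hq'
    rw [← hB', ← hχBQ q']
    exact ⟨_, rfl⟩
  have hθ : ψ.comp (τ.codRestrict (A ⊔ Q) hτB) ∈ F.Hom B' := F.comp_mem hτ hψ hτB
  obtain ⟨θ, hθe⟩ : ∃ θ : B' →* Ω, θ = ψ.comp (τ.codRestrict (A ⊔ Q) hτB) := ⟨_, rfl⟩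
  rw [← hθe] at hθ
  have hθapp : ∀ z : B', θ z = ψ ⟨τ z, hτB z⟩ := fun z => by rw [hθe]; rfl
  have hχBB' : ∀ y : ↥(A ⊔ Q), χB y ∈ B' := by
    intro y
    rw [← hB']
    exact ⟨y, rfl⟩
  have hθχ : ∀ y : ↥(A ⊔ Q), θ ⟨χB y, hχBB' y⟩ = ψ y := by
    intro y
    rw [hθapp]
    congr 1
    exact Subtype.ext (hτinv y (hχBB' y))
  have hθQ : ∀ q : Q, θ ⟨q, hQB' q.2⟩ = q := by
    intro q
    have hq' : (q : Ω) ∈ α.range := by rw [hαr]; exact q.2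
    obtain ⟨q', hq'e⟩ := hq'
    have e : (⟨(q : Ω), hQB' q.2⟩ : B') = ⟨χB ⟨q', hQB q'.2⟩, hχBB' _⟩ := by
      apply Subtype.ext
      show (q : Ω) = χB ⟨q', hQB q'.2⟩
      rw [hχBQ, hq'e]
    rw [e, hθχ, ← hαapp, hq'e]
  have hθV : θ ∈ 𝒩.Hom B' := hsc B' hQB' θ hθ hθQ
  have hc : θ.comp (χB.codRestrict B' hχBB') ∈ 𝒩.Hom (A ⊔ Q) := 𝒩.comp_mem hχB hθV hχBB'
  have e : θ.comp (χB.codRestrict B' hχBB') = ψ := by
    ext y
    exact hθχ y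
  rw [e] at hc
  exact hc


end Cfsg.Agent.Helper26.SC
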