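import Mathlib
import Cfsg.Agent.Helper26.OL3
import Cfsg.Agent.Helper26.OL5
import Cfsg.Agent.Helper26.OL6
import Cfsg.Agent.Helper26.SC1
import Cfsg.Agent.Helper25.FusionAlperin3
import Cfsg.Agent.Helper25.OliverB

set_option autoImplicit false
set_option linter.style.haveILetI false
set_option linter.unusedSectionVars false
set_option linter.unusedVariables false

/-! Essential subgroups of a `p`-group with an abelian subgroup of index `p`, and the control
of the maps on large subgroups by the automorphisms of `S`. -/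

namespace Cfsg.Agent.Helper26.OL

open Cfsg Cfsg.FusionSystem Cfsg.Agent.Helper25

variable {Ω : Type*} [Group Ω] {p : ℕ} [Fact p.Prime] {S A : Subgroup Ω} [Finite S]

theorem essential_cases (h : Hyp p S A) (F : FusionSystem S) {R : Subgroup Ω}
    (hR : F.IsEssential p R) (hRA : R ≠ A) :
    ZZ S ≤ R ∧ ((∃ x ∈ S, x ∉ A ∧ R = PP S x) ∨
      ((∀ r ∈ R, (∀ q ∈ R, q * r = r * q) → r ∈ ZZ S) ∧
        p * Nat.card (ZZ S) < Nat.card R)) := by
  obtain ⟨hcen, hFN, -⟩ := id hR
  have hRS : R ≤ S := hFN.1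
  have hC : centralizerIn S R ≤ R := hcen.2 R (isConj_refl F hRS)
  have hZR : ZZ S ≤ R := by
    intro z hz
    apply hC
    refine ⟨ZZ_le S hz, ?_⟩
    show z ∈ Subgroup.centralizer (R : Set Ω)
    rw [Subgroup.mem_centralizer_iff]
    intro r hr
    exact (mem_ZZ.mp hz).2 r (hRS hr)
  have hRnA : ¬ R ≤ A := by
    intro hle
    apply hRA
    apply le_antisymm hle
    intro a ha
    apply hC
    refine ⟨h.hAS ha, ?_⟩
    show a ∈ Subgroup.centralizer (R : Set Ω)
    rw [Subgroup.mem_centralizer_iff]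
    intro r hr
    exact h.hAc r (hle hr) a ha
  obtain ⟨x, hxR, hxA⟩ := SetLike.not_le_iff_exists.mp hRnA
  have hx : x ∈ S := hRS hxR
  have hPR : PP S x ≤ R := sup_le hZR ((Subgroup.zpowers_le).mpr hxR)
  refine ⟨hZR, ?_⟩
  by_cases hab : ∀ a ∈ R, ∀ b ∈ R, a * b = b * a
  · left
    refine ⟨x, hx, hxA, le_antisymm ?_ hPR⟩
    intro r hr
    exact h.mem_PP_of_comm hx hxA (hRS hr) (hab r hr x hxR)
  · right
    constructor
    · intro r hr hrc
      by_cases hrA : r ∈ A
      · exact h.mem_ZZ_of_comm hx hxA hrA (hrc x hxR).symm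
      · exfalso
        apply hab
        intro a ha b hb
        have ha' := h.mem_PP_of_comm (hRS hr) hrA (hRS ha) (hrc a ha)
        have hb' := h.mem_PP_of_comm (hRS hr) hrA (hRS hb) (hrc b hb)
        exact PP_comm (hRS hr) a ha' b hb'
    · rw [← h.card_PP hx hxA]
      haveI : Finite R := finite_of_le hRS
      by_contra hlt
      rw [not_lt] at hlt
      have := Subgroup.eq_of_le_of_card_ge hPR hlt
      apply hab
      rw [← this]
      exact PP_comm hx

set_option maxHeartbeats 1600000 in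
/-- maps on subgroups of order more than `p |Z(S)|` act on the centre as elements of
`Aut_F(S)` -/
theorem star (h : Hyp p S A) (F : FusionSystem S) (hF : F.IsSaturated p)
    (hAe : ¬ F.IsEssential p A) :
    ∀ (Q : Subgroup Ω) (φ : Q →* Ω), φ ∈ F.Hom Q → p * Nat.card (ZZ S) < Nat.card Q →
      φ ∈ (NZ F).Hom Q := by
  have hle : F ≤ SC.thSystem F (NZ F) (NZ_sub F) (p * Nat.card (ZZ S)) := by
    apply alperin_le_ind p h.hS F hF
    intro R hR IH α hα
    have hRS : R ≤ S := by
      rcases hR with hR | hR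
      · exact hR.le
      · exact hR.2.1.1
    rw [mem_autGroup_iff _ hRS]
    refine ⟨(mem_autGroup_iff F hRS α).mp hα, fun hmR => ?_⟩
    rcases hR with hR | hR
    · have hZR : ZZ S ≤ R := by rw [hR]; exact ZZ_le S
      subst hR
      exact mem_NZ_of_act F hZR ((mem_autGroup_iff F hRS α).mp hα) hα (fun z => rfl)
    · have hRA : R ≠ A := fun e => hAe (e ▸ hR)
      obtain ⟨hZR, hcase⟩ := essential_cases h F hR hRA
      rcases hcase with ⟨x, hx, hxA, rfl⟩ | ⟨hcenR, -⟩
      · exfalso
        rw [h.card_PP hx hxA] at hmR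
        exact lt_irrefl _ hmR
      · have hFN := hR.2.1
        have hFA := (Cfsg.Agent.S5077.sylow_axiom p h.hS F hF R hFN).2
        have hRne : R ≠ S := Cfsg.Agent.Helper25.Oliver.ne_of_isEssential p h.hS F hF hR
        have key := frattini_le p F hRS hFA ((NZ F).autGroup R) ?_ ?_
        · exact (mem_autGroup_iff (NZ F) hRS α).mp (key hα)
        · intro k hk t ht
          rw [mem_autGroup_iff (NZ F) hRS]
          have hktk : k * t * k⁻¹ ∈ F.autGroup R :=
            mul_mem (mul_mem hk (autInducedBy_le_autGroup F hRS ht)) (inv_mem hk)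
          refine mem_NZ_of_act F hZR ((mem_autGroup_iff F hRS _).mp hktk)
            (Subgroup.one_mem _) (fun z => ?_)
          show (((k * t * k⁻¹) ⟨z, hZR z.2⟩ : ↥R) : Ω) = z
          have hz' : ((k⁻¹ ⟨z, hZR z.2⟩ : ↥R) : Ω) ∈ ZZ S := by
            apply hcenR _ (k⁻¹ _).2
            intro q hq
            have h1 : (⟨q, hq⟩ : ↥R) = k⁻¹ (k ⟨q, hq⟩) := by simp
            have h2 : (k ⟨q, hq⟩ : ↥R) * ⟨z, hZR z.2⟩ = ⟨z, hZR z.2⟩ * k ⟨q, hq⟩ :=
              Subtype.ext ((mem_ZZ.mp z.2).2 _ (hRS (k ⟨q, hq⟩).2))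
            have h3 : k⁻¹ ((k ⟨q, hq⟩ : ↥R) * ⟨z, hZR z.2⟩) =
                k⁻¹ (⟨z, hZR z.2⟩ * k ⟨q, hq⟩) := by rw [h2]
            rw [map_mul, map_mul, ← h1] at h3
            exact congrArg Subtype.val h3
          obtain ⟨s, hs, hst⟩ := (mem_autInducedBy_iff S R t).mp ht
          have h4 : t (k⁻¹ ⟨z, hZR z.2⟩) = k⁻¹ ⟨z, hZR z.2⟩ := by
            apply Subtype.ext
            rw [hst, (mem_ZZ.mp hz').2 s hs, mul_inv_cancel_right]
          rw [MulAut.mul_apply, MulAut.mul_apply, h4, MulAut.apply_inv_self]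
        · intro n hn hnorm
          rw [mem_autGroup_iff (NZ F) hRS]
          obtain ⟨Q, hRQ, hQS, hlt, ψ, hψ, hψn⟩ :=
            exists_extension_of_normalizing p h.hS F hF hFN hRne hn hnorm
          have hψE := IH Q hQS hlt hψ
          have hψN : ψ ∈ (NZ F).Hom Q := hψE.2 (lt_trans hmR hlt)
          have hres := restrict_mem (NZ F) hRQ hψN
          have e : ψ.comp (Subgroup.inclusion hRQ) = autHom n := by
            ext y
            exact hψn y y.2 (hRQ y.2)
          rw [← e]
          exact hres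
  intro Q φ hφ hmQ
  exact (hle Q hφ).2 hmQ

end Cfsg.Agent.Helper26.OL
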