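import Mathlib
import Cfsg.Agent.Helper25.OliverA
import Cfsg.Agent.Helper26.ZI4

set_option autoImplicit false
set_option linter.style.haveILetI false
set_option linter.unusedSectionVars false
set_option linter.unusedVariables false

/-! `p`-groups whose centre has index `p²`: the subgroups between the centre and the group. -/

namespace Cfsg.Agent.Helper26.ZI

open Cfsg.Agent.Helper25.Oliver

variable {Ω : Type*} [Group Ω] {p : ℕ} [hp : Fact p.Prime]

/-- the hypotheses on `S` -/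
structure Hyp (p : ℕ) (S : Subgroup Ω) : Prop where
  hS : IsPGroup p S
  hna : ¬ ∀ a ∈ S, ∀ b ∈ S, a * b = b * a
  hcomm : ∀ a ∈ S, ∀ g ∈ S, a⁻¹ * (g * a * g⁻¹) ∈ ZS S
  hcard : Nat.card S = p ^ 2 * Nat.card (ZS S)

/-- a subgroup strictly between the centre and `S` -/
def Mid (p : ℕ) (S P : Subgroup Ω) : Prop :=
  ZS S ≤ P ∧ P ≤ S ∧ Nat.card P = p * Nat.card (ZS S)

variable {S : Subgroup Ω} [Finite S]

theorem finite_of_le' {H : Subgroup Ω} (h : H ≤ S) : Finite H :=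
  Finite.of_injective (Subgroup.inclusion h) (Subgroup.inclusion_injective h)

theorem mul_card_le_of_lt (hS : IsPGroup p S) {H K : Subgroup Ω} (hHK : H ≤ K) (hKS : K ≤ S)
    (hne : H ≠ K) : p * Nat.card H ≤ Nat.card K := by
  haveI := finite_of_le' hKS
  haveI := finite_of_le' (hHK.trans hKS)
  obtain ⟨m, hm⟩ := IsPGroup.iff_card.mp (hS.to_le (hHK.trans hKS))
  obtain ⟨n, hn⟩ := IsPGroup.iff_card.mp (hS.to_le hKS)
  have hlt : Nat.card H < Nat.card K := by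
    by_contra hcon
    exact hne (Subgroup.eq_of_le_of_card_ge hHK (not_lt.mp hcon))
  rw [hm, hn] at hlt ⊢
  have hmn : m < n := (Nat.pow_lt_pow_iff_right hp.out.one_lt).mp hlt
  calc p * p ^ m = p ^ (m + 1) := by rw [pow_succ']
    _ ≤ p ^ n := Nat.pow_le_pow_right hp.out.pos hmn

theorem ZS_le (S : Subgroup Ω) : ZS S ≤ S := inf_le_left

theorem mid_exists_not_mem {P : Subgroup Ω} (hP : Mid p S P) : ∃ x ∈ P, x ∉ ZS S := by
  by_contra hcon
  push Not at hcon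
  have h1 : P = ZS S := le_antisymm hcon hP.1
  have h2 := hP.2.2
  rw [h1] at h2
  haveI := finite_of_le' (ZS_le S)
  have h3 : 0 < Nat.card (ZS S) := Nat.card_pos
  have h4 := hp.out.one_lt
  nlinarith

theorem mid_eq_sup (hS : IsPGroup p S) {P : Subgroup Ω} (hP : Mid p S P) {x : Ω} (hxP : x ∈ P)
    (hxZ : x ∉ ZS S) : P = ZS S ⊔ Subgroup.zpowers x := by
  haveI := finite_of_le' hP.2.1
  symm
  have hle : ZS S ⊔ Subgroup.zpowers x ≤ P := sup_le hP.1 (Subgroup.zpowers_le.mpr hxP)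
  apply Subgroup.eq_of_le_of_card_ge hle
  rw [hP.2.2]
  apply mul_card_le_of_lt hS le_sup_left (hle.trans hP.2.1)
  intro h
  apply hxZ
  rw [h]
  exact Subgroup.mem_sup_right (Subgroup.mem_zpowers x)

theorem mid_comm (hS : IsPGroup p S) {P : Subgroup Ω} (hP : Mid p S P) :
    ∀ a ∈ P, ∀ b ∈ P, a * b = b * a := by
  obtain ⟨x, hxP, hxZ⟩ := mid_exists_not_mem hP
  rw [mid_eq_sup hS hP hxP hxZ]
  apply comm_sup_zpowers
  · intro a ha b hb
    exact ((mem_ZS.mp hb).2 a (mem_ZS.mp ha).1)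
  · intro b hb
    exact ((mem_ZS.mp hb).2 x (hP.2.1 hxP)).symm

theorem top_eq_sup (hH : Hyp p S) {P : Subgroup Ω} (hP : Mid p S P) {s : Ω} (hsS : s ∈ S)
    (hsP : s ∉ P) : S = P ⊔ Subgroup.zpowers s := by
  symm
  have hle : P ⊔ Subgroup.zpowers s ≤ S := sup_le hP.2.1 (Subgroup.zpowers_le.mpr hsS)
  apply Subgroup.eq_of_le_of_card_ge hle
  have h1 : p * Nat.card P ≤ Nat.card (P ⊔ Subgroup.zpowers s : Subgroup Ω) := by
    apply mul_card_le_of_lt hH.hS le_sup_left hle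
    intro h
    apply hsP
    rw [h]
    exact Subgroup.mem_sup_right (Subgroup.mem_zpowers s)
  rw [hH.hcard]
  rw [hP.2.2] at h1
  calc p ^ 2 * Nat.card (ZS S) = p * (p * Nat.card (ZS S)) := by ring
    _ ≤ _ := h1

theorem mem_Z_of_comm (hH : Hyp p S) {P : Subgroup Ω} (hP : Mid p S P) {s : Ω} (hsS : s ∈ S)
    (hsP : s ∉ P) {a : Ω} (ha : a ∈ P) (hsa : s * a = a * s) : a ∈ ZS S := by
  rw [mem_ZS]
  refine ⟨hP.2.1 ha, ?_⟩
  have hle : P ⊔ Subgroup.zpowers s ≤ Subgroup.centralizer {a} := by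
    rw [sup_le_iff]
    constructor
    · intro b hb
      rw [Subgroup.mem_centralizer_singleton_iff]
      exact (mid_comm hH.hS hP a ha b hb).symm
    · rw [Subgroup.zpowers_le, Subgroup.mem_centralizer_singleton_iff]
      exact hsa
  intro g hg
  rw [top_eq_sup hH hP hsS hsP] at hg
  exact (Subgroup.mem_centralizer_singleton_iff.mp (hle hg))

theorem mid_ne_top (hH : Hyp p S) {P : Subgroup Ω} (hP : Mid p S P) : ∃ s ∈ S, s ∉ P := by
  by_contra hcon
  push Not at hcon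
  have h1 : P = S := le_antisymm hP.2.1 hcon
  have h2 := hP.2.2
  rw [h1, hH.hcard] at h2
  haveI := finite_of_le' (ZS_le S)
  have h3 : 0 < Nat.card (ZS S) := Nat.card_pos
  have h4 := hp.out.one_lt
  have : p ^ 2 * Nat.card (ZS S) = p * (p * Nat.card (ZS S)) := by ring
  rw [this] at h2
  have h5 : p * Nat.card (ZS S) = Nat.card (ZS S) := Nat.eq_of_mul_eq_mul_left hp.out.pos h2
  nlinarith

theorem mid_self_centralizing (hH : Hyp p S) {P : Subgroup Ω} (hP : Mid p S P) {g : Ω}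
    (hgS : g ∈ S) (hg : ∀ a ∈ P, g * a = a * g) : g ∈ P := by
  by_contra hgP
  obtain ⟨x, hxP, hxZ⟩ := mid_exists_not_mem hP
  exact hxZ (mem_Z_of_comm hH hP hgS hgP hxP (hg x hxP))

theorem le_normalizer_mid (hH : Hyp p S) {P : Subgroup Ω} (hP : Mid p S P) :
    S ≤ Subgroup.normalizer (P : Set Ω) := by
  have key : ∀ g ∈ S, ∀ a ∈ P, g * a * g⁻¹ ∈ P := by
    intro g hg a ha
    have h1 := hP.1 (hH.hcomm a (hP.2.1 ha) g hg)
    have := P.mul_mem ha h1
    rwa [mul_inv_cancel_left] at this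
  intro g hg
  rw [Subgroup.mem_normalizer_iff]
  intro y
  constructor
  · exact key g hg y
  · intro hy
    have := key g⁻¹ (S.inv_mem hg) _ hy
    have e : g⁻¹ * (g * y * g⁻¹) * g⁻¹⁻¹ = y := by group
    rwa [e] at this

/-- the automorphism of `P` induced by a normalizing element -/
noncomputable def conjAut (P : Subgroup Ω) (s : Ω) (hs : s ∈ Subgroup.normalizer (P : Set Ω)) :
    MulAut ↥P := P.normalizerMonoidHom ⟨s, hs⟩

theorem conjAut_apply (P : Subgroup Ω) (s : Ω) (hs : s ∈ Subgroup.normalizer (P : Set Ω))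
    (a : ↥P) : ((conjAut P s hs a : ↥P) : Ω) = s * a * s⁻¹ := rfl

theorem fixSub_conjAut (hH : Hyp p S) {P : Subgroup Ω} (hP : Mid p S P) {s : Ω} (hsS : s ∈ S)
    (hsP : s ∉ P) :
    fixSub (conjAut P s (le_normalizer_mid hH hP hsS)) = (ZS S).subgroupOf P := by
  ext a
  rw [mem_fixSub, Subgroup.mem_subgroupOf]
  constructor
  · intro h
    have h1 : s * (a : Ω) * s⁻¹ = a := congrArg Subtype.val h
    apply mem_Z_of_comm hH hP hsS hsP a.2
    calc s * (a : Ω) = (s * a * s⁻¹) * s := by group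
      _ = a * s := by rw [h1]
  · intro h
    apply Subtype.ext
    show s * (a : Ω) * s⁻¹ = a
    rw [(mem_ZS.mp h).2 s hsS, mul_inv_cancel_right]

theorem commSub_le_fixSub_conjAut (hH : Hyp p S) {P : Subgroup Ω} (hP : Mid p S P) {s : Ω}
    (hsS : s ∈ S) (hsP : s ∉ P) (hPc : ∀ a b : ↥P, a * b = b * a) :
    commSub hPc (conjAut P s (le_normalizer_mid hH hP hsS)) ≤
      fixSub (conjAut P s (le_normalizer_mid hH hP hsS)) := by
  rw [fixSub_conjAut hH hP hsS hsP]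
  rintro _ ⟨a, rfl⟩
  rw [Subgroup.mem_subgroupOf]
  exact hH.hcomm a (hP.2.1 a.2) s hsS

theorem card_commSub_conjAut (hH : Hyp p S) {P : Subgroup Ω} (hP : Mid p S P) {s : Ω}
    (hsS : s ∈ S) (hsP : s ∉ P) (hPc : ∀ a b : ↥P, a * b = b * a) :
    Nat.card (commSub hPc (conjAut P s (le_normalizer_mid hH hP hsS))) = p := by
  haveI := finite_of_le' hP.2.1
  have h1 := card_fix_mul_card_comm hPc (conjAut P s (le_normalizer_mid hH hP hsS))
  rw [fixSub_conjAut hH hP hsS hsP, Nat.card_congr (Subgroup.subgroupOfEquivOfLe hP.1).toEquiv,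
    hP.2.2, mul_comm] at h1
  haveI := finite_of_le' (ZS_le S)
  have h3 : 0 < Nat.card (ZS S) := Nat.card_pos
  exact Nat.eq_of_mul_eq_mul_right h3 h1

/-- all commutators of `S` lie in the commutator subgroup of one such automorphism -/
theorem comm_mem_of_mid (hH : Hyp p S) {P : Subgroup Ω} (hP : Mid p S P) {s : Ω}
    (hsS : s ∈ S) (hsP : s ∉ P) (hPc : ∀ a b : ↥P, a * b = b * a) :
    ∀ a ∈ S, ∀ g ∈ S, a⁻¹ * (g * a * g⁻¹) ∈
      (commSub hPc (conjAut P s (le_normalizer_mid hH hP hsS))).map P.subtype := by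
  obtain ⟨D, hDe⟩ : ∃ D : Subgroup Ω,
    D = (commSub hPc (conjAut P s (le_normalizer_mid hH hP hsS))).map P.subtype := ⟨_, rfl⟩
  rw [← hDe]
  have hDZ : D ≤ ZS S := by
    rw [hDe]
    rintro _ ⟨x, hx, rfl⟩
    have h1 := commSub_le_fixSub_conjAut hH hP hsS hsP hPc hx
    rw [fixSub_conjAut hH hP hsS hsP, Subgroup.mem_subgroupOf] at h1
    exact h1
  have hDs : ∀ a ∈ P, a⁻¹ * (s * a * s⁻¹) ∈ D := by
    intro a ha
    rw [hDe]
    exact ⟨_, delta_mem_commSub hPc _ ⟨a, ha⟩, rfl⟩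
  have hcen : ∀ z ∈ ZS S, ∀ g ∈ S, g * z = z * g := fun z hz g hg => (mem_ZS.mp hz).2 g hg
  -- multiplicativity in the first variable
  have hmul1 : ∀ a ∈ S, ∀ b ∈ S, ∀ g ∈ S,
      (a * b)⁻¹ * (g * (a * b) * g⁻¹) = a⁻¹ * (g * a * g⁻¹) * (b⁻¹ * (g * b * g⁻¹)) := by
    intro a ha b hb g hg
    have h1 := hcen _ (hH.hcomm a ha g hg) b⁻¹ (S.inv_mem hb)
    calc (a * b)⁻¹ * (g * (a * b) * g⁻¹) = b⁻¹ * (a⁻¹ * (g * a * g⁻¹)) * (g * b * g⁻¹) := by group
      _ = a⁻¹ * (g * a * g⁻¹) * b⁻¹ * (g * b * g⁻¹) := by rw [h1]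
      _ = _ := by group
  have hmul2 : ∀ a ∈ S, ∀ g ∈ S, ∀ h ∈ S,
      a⁻¹ * (g * h * a * (g * h)⁻¹) = a⁻¹ * (g * a * g⁻¹) * (a⁻¹ * (h * a * h⁻¹)) := by
    intro a ha g hg h hh
    have h1 := hcen _ (hH.hcomm a ha h hh) g⁻¹ (S.inv_mem hg)
    calc a⁻¹ * (g * h * a * (g * h)⁻¹) = a⁻¹ * g * a * (a⁻¹ * (h * a * h⁻¹)) * g⁻¹ := by group
      _ = a⁻¹ * g * a * (g⁻¹ * (a⁻¹ * (h * a * h⁻¹))) := by rw [mul_assoc _ _ g⁻¹, ← h1]
      _ = _ := by group
  -- the subgroup of first variables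
  let T : Ω → Subgroup Ω := fun g =>
    { carrier := {a | a ∈ S ∧ (g ∈ S → a⁻¹ * (g * a * g⁻¹) ∈ D)}
      one_mem' := ⟨S.one_mem, fun _ => by simp⟩
      mul_mem' := by
        rintro a b ⟨ha, ha'⟩ ⟨hb, hb'⟩
        refine ⟨S.mul_mem ha hb, fun hg => ?_⟩
        rw [hmul1 a ha b hb g hg]
        exact D.mul_mem (ha' hg) (hb' hg)
      inv_mem' := by
        rintro a ⟨ha, ha'⟩
        refine ⟨S.inv_mem ha, fun hg => ?_⟩
        have h1 := hmul1 a ha a⁻¹ (S.inv_mem ha) g hg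
        have h2 : (a * a⁻¹)⁻¹ * (g * (a * a⁻¹) * g⁻¹) = 1 := by group
        rw [h2] at h1
        have h3 : a⁻¹⁻¹ * (g * a⁻¹ * g⁻¹) = (a⁻¹ * (g * a * g⁻¹))⁻¹ :=
          (inv_eq_of_mul_eq_one_right h1.symm).symm
        rw [h3]
        exact D.inv_mem (ha' hg) }
  have hST : ∀ g : Ω, P ≤ T g → s ∈ T g → S ≤ T g := by
    intro g h1 h2
    rw [top_eq_sup hH hP hsS hsP]
    exact sup_le h1 (Subgroup.zpowers_le.mpr h2)
  -- `g = s`
  have hTs : S ≤ T s := by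
    apply hST
    · intro a ha
      exact ⟨hP.2.1 ha, fun _ => hDs a ha⟩
    · refine ⟨hsS, fun _ => ?_⟩
      have : s⁻¹ * (s * s * s⁻¹) = 1 := by group
      rw [this]
      exact D.one_mem
  -- `g ∈ P`
  have hTb : ∀ b ∈ P, S ≤ T b := by
    intro b hb
    apply hST
    · intro a ha
      refine ⟨hP.2.1 ha, fun _ => ?_⟩
      have h1 : b * a * b⁻¹ = a := by
        rw [mid_comm hH.hS hP b hb a ha, mul_inv_cancel_right]
      rw [h1, inv_mul_cancel]
      exact D.one_mem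
    · refine ⟨hsS, fun _ => ?_⟩
      have hx : s⁻¹ * b⁻¹ * s ∈ P := by
        have := (Subgroup.mem_normalizer_iff.mp
          (le_normalizer_mid hH hP (S.inv_mem hsS))) b⁻¹ |>.mp (P.inv_mem hb)
        simpa using this
      have h1 := hDs _ hx
      have e : (s⁻¹ * b⁻¹ * s)⁻¹ * (s * (s⁻¹ * b⁻¹ * s) * s⁻¹) = s⁻¹ * (b * s * b⁻¹) := by group
      rwa [e] at h1
  -- the subgroup of second variables
  intro a ha
  let R : Subgroup Ω :=
    { carrier := {g | g ∈ S ∧ a⁻¹ * (g * a * g⁻¹) ∈ D}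
      one_mem' := ⟨S.one_mem, by simp⟩
      mul_mem' := by
        rintro g h ⟨hg, hg'⟩ ⟨hh, hh'⟩
        refine ⟨S.mul_mem hg hh, ?_⟩
        rw [hmul2 a ha g hg h hh]
        exact D.mul_mem hg' hh'
      inv_mem' := by
        rintro g ⟨hg, hg'⟩
        refine ⟨S.inv_mem hg, ?_⟩
        have h1 := hmul2 a ha g hg g⁻¹ (S.inv_mem hg)
        have h2 : a⁻¹ * (g * g⁻¹ * a * (g * g⁻¹)⁻¹) = 1 := by group
        rw [h2] at h1
        have h3 : a⁻¹ * (g⁻¹ * a * g⁻¹⁻¹) = (a⁻¹ * (g * a * g⁻¹))⁻¹ :=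
          (inv_eq_of_mul_eq_one_right h1.symm).symm
        rw [h3]
        exact D.inv_mem hg' }
  have hR : S ≤ R := by
    rw [top_eq_sup hH hP hsS hsP]
    apply sup_le
    · intro b hb
      exact ⟨hP.2.1 hb, (hTb b hb ha).2 (hP.2.1 hb)⟩
    · rw [Subgroup.zpowers_le]
      exact ⟨hsS, (hTs ha).2 hsS⟩
  intro g hg
  exact (hR hg).2

end Cfsg.Agent.Helper26.ZI
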