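import Mathlib
import Cfsg.Agent.Helper26.ZI5
import Cfsg.Agent.Helper25.OliverB
import Cfsg.Agent.Helper25.FusionNormal
import Cfsg.Agent.Helper25.FusionResidualGroup
import Cfsg.Agent.Helper25.DihedralAut
import Cfsg.Agent.S5077

set_option autoImplicit false
set_option linter.style.haveILetI false
set_option linter.unusedSectionVars false
set_option linter.unusedVariables false

/-! Essential subgroups of a saturated fusion system over a `p`-group whose centre has index
`p²`. -/

namespace Cfsg.Agent.Helper26.ZI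

open Cfsg Cfsg.FusionSystem Cfsg.Agent.Helper25 Cfsg.Agent.Helper25.Oliver

variable {Ω : Type*} [Group Ω] {p : ℕ} [hp : Fact p.Prime] {S : Subgroup Ω} [Finite S]

theorem mid_of_isEssential (hH : Hyp p S) (F : FusionSystem S) (hF : F.IsSaturated p)
    {P : Subgroup Ω} (hP : F.IsEssential p P) : Mid p S P := by
  have hPS : P ≤ S := hP.1.1
  have hcen : centralizerIn S P ≤ P := hP.1.2 P (isConj_refl F hPS)
  have hZP : ZS S ≤ P := by
    intro z hz
    apply hcen
    exact ⟨hz.1, Subgroup.centralizer_le (show (P : Set Ω) ⊆ S from hPS) hz.2⟩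
  have hne : P ≠ S := ne_of_isEssential p hH.hS F hF hP
  have hneZ : ZS S ≠ P := by
    intro h
    apply hH.hna
    have h1 : S ≤ ZS S := by
      rw [h]
      intro g hg
      apply hcen
      refine Subgroup.mem_inf.mpr ⟨hg, Subgroup.mem_centralizer_iff.mpr (fun z hz => ?_)⟩
      have hz' : z ∈ ZS S := by rw [h]; exact hz
      exact ((mem_ZS.mp hz').2 g hg).symm
    intro a ha b hb
    exact (mem_ZS.mp (h1 hb)).2 a ha
  refine ⟨hZP, hPS, ?_⟩
  have h1 := mul_card_le_of_lt hH.hS hZP hPS hneZ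
  have h2 := mul_card_le_of_lt hH.hS hPS le_rfl hne
  rw [hH.hcard] at h2
  have h3 : p * Nat.card P ≤ p * (p * Nat.card (ZS S)) := by
    calc p * Nat.card P ≤ p ^ 2 * Nat.card (ZS S) := h2
      _ = p * (p * Nat.card (ZS S)) := by ring
  have h4 := Nat.le_of_mul_le_mul_left h3 hp.out.pos
  omega

section Mid

variable {P : Subgroup Ω}

theorem centralizerIn_mid (hH : Hyp p S) (hP : Mid p S P) : centralizerIn S P = P := by
  apply le_antisymm
  · intro g hg
    apply mid_self_centralizing hH hP hg.1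
    intro a ha
    exact ((Subgroup.mem_centralizer_iff.mp hg.2) a ha).symm
  · intro a ha
    refine Subgroup.mem_inf.mpr ⟨hP.2.1 ha, Subgroup.mem_centralizer_iff.mpr (fun b hb => ?_)⟩
    exact mid_comm hH.hS hP b hb a ha

theorem card_autInducedBy_mid (hH : Hyp p S) (hP : Mid p S P) : Nat.card (autInducedBy S P) = p := by
  have h1 := card_normalizerIn_eq S P
  have hN : normalizerIn S P = S :=
    le_antisymm inf_le_left (fun g hg => ⟨hg, le_normalizer_mid hH hP hg⟩)
  rw [hN, centralizerIn_mid hH hP, hH.hcard, hP.2.2] at h1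
  haveI := finite_of_le' (ZS_le S)
  have h3 : 0 < Nat.card (ZS S) := Nat.card_pos
  have h4 : p * Nat.card (ZS S) * p = p * Nat.card (ZS S) * Nat.card (autInducedBy S P) := by
    rw [← h1]
    ring
  exact (Nat.eq_of_mul_eq_mul_left (Nat.mul_pos hp.out.pos h3) h4).symm

theorem conjAut_mem_autInducedBy (hH : Hyp p S) (hP : Mid p S P) {s : Ω} (hsS : s ∈ S) :
    conjAut P s (le_normalizer_mid hH hP hsS) ∈ autInducedBy S P := by
  rw [mem_autInducedBy_iff]
  exact ⟨s, hsS, fun x => rfl⟩

theorem conjAut_ne_one (hH : Hyp p S) (hP : Mid p S P) {s : Ω} (hsS : s ∈ S) (hsP : s ∉ P) :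
    conjAut P s (le_normalizer_mid hH hP hsS) ≠ 1 := by
  intro h
  apply hsP
  apply mid_self_centralizing hH hP hsS
  intro a ha
  have h1 := congrArg (fun α : MulAut ↥P => ((α ⟨a, ha⟩ : ↥P) : Ω)) h
  have h2 : s * a * s⁻¹ = a := h1
  calc s * a = (s * a * s⁻¹) * s := by group
    _ = a * s := by rw [h2]

/-- elements of `Aut_S(P)` are powers of a generator -/
theorem exists_pow_of_mem_autInducedBy (hH : Hyp p S) (hP : Mid p S P) {s : Ω} (hsS : s ∈ S) (hsP : s ∉ P) {k : MulAut ↥P}
    (hk : k ∈ autInducedBy S P) :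
    ∃ n : ℕ, (conjAut P s (le_normalizer_mid hH hP hsS)) ^ n = k :=
  exists_pow_eq_of_card_prime (card_autInducedBy_mid hH hP) (conjAut_mem_autInducedBy hH hP hsS)
    (conjAut_ne_one hH hP hsS hsP) hk

theorem conjAut_pow_prime (hH : Hyp p S) (hP : Mid p S P) {s : Ω} (hsS : s ∈ S) :
    (conjAut P s (le_normalizer_mid hH hP hsS)) ^ p = 1 :=
  pow_prime_eq_one_of_card_prime (card_autInducedBy_mid hH hP) (conjAut_mem_autInducedBy hH hP hsS)

end Mid

end Cfsg.Agent.Helper26.ZI
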