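import Mathlib
import Cfsg.Agent.Helper26.ZI6
import Cfsg.Agent.Helper25.FusionSat
import Cfsg.Agent.Helper25.FusionAlperin2

set_option autoImplicit false
set_option linter.style.haveILetI false
set_option linter.unusedSectionVars false
set_option linter.unusedVariables false

/-! Automizers of the subgroups of index `p` over the centre: Sylow bound, active conjugates,
extension of normalizing automorphisms, `p`-elements of `Aut_F(S)`. -/

namespace Cfsg.Agent.Helper26.ZI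

open Cfsg Cfsg.FusionSystem Cfsg.Agent.Helper25 Cfsg.Agent.Helper25.Oliver

variable {Ω : Type*} [Group Ω] {p : ℕ} [hp : Fact p.Prime] {S : Subgroup Ω} [Finite S]

theorem inn_eq_bot_of_comm {P : Subgroup Ω} (hPc : ∀ a b : ↥P, a * b = b * a) :
    Inn ↥P = ⊥ := by
  rw [eq_bot_iff]
  rintro _ ⟨g, rfl⟩
  rw [Subgroup.mem_bot]
  apply MulEquiv.ext
  intro x
  show g * x * g⁻¹ = x
  rw [hPc g x, mul_inv_cancel_right]

theorem mid_isFullyNormalized (hH : Hyp p S) (F : FusionSystem S) {P : Subgroup Ω}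
    (hP : Mid p S P) : F.IsFullyNormalized P := by
  refine ⟨hP.2.1, fun Q _ => ?_⟩
  have hN : normalizerIn S P = S :=
    le_antisymm inf_le_left (fun g hg => ⟨hg, le_normalizer_mid hH hP hg⟩)
  rw [hN]
  exact Subgroup.card_le_of_le inf_le_left

theorem conjAut_mem_autGroup (hH : Hyp p S) (F : FusionSystem S) {P : Subgroup Ω}
    (hP : Mid p S P) {s : Ω} (hsS : s ∈ S) :
    conjAut P s (le_normalizer_mid hH hP hsS) ∈ F.autGroup P :=
  autInducedBy_le_autGroup F hP.2.1 (conjAut_mem_autInducedBy hH hP hsS)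

/-- `p`-subgroups of `Aut_F(P)` have order at most `p`. -/
theorem card_le_of_isPGroup (hH : Hyp p S) (F : FusionSystem S) (hF : F.IsSaturated p)
    {P : Subgroup Ω} (hP : Mid p S P) {K : Subgroup (MulAut ↥P)} (hK : K ≤ F.autGroup P)
    (hKp : IsPGroup p K) : Nat.card K ≤ p := by
  haveI := finite_of_le' hP.2.1
  obtain ⟨-, -, R, hR⟩ :=
    Cfsg.Agent.S5077.sylow_axiom p hH.hS F hF P (mid_isFullyNormalized hH F hP)
  have hK' : IsPGroup p (K.subgroupOf (F.autGroup P)) :=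
    IsPGroup.comap_subtype (H := K) hKp (K := F.autGroup P)
  obtain ⟨R', hR'⟩ := hK'.exists_le_sylow
  have h1 : Nat.card R' = Nat.card R := by
    rw [Sylow.card_eq_multiplicity, Sylow.card_eq_multiplicity]
  have h2 : Nat.card R = p := by
    have : Nat.card R = Nat.card (R : Subgroup (F.autGroup P)) := rfl
    rw [this, hR, Nat.card_congr (Subgroup.subgroupOfEquivOfLe
      (autInducedBy_le_autGroup F hP.2.1)).toEquiv]
    exact card_autInducedBy_mid hH hP
  have h3 : Nat.card (K.subgroupOf (F.autGroup P)) = Nat.card K :=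
    Nat.card_congr (Subgroup.subgroupOfEquivOfLe hK).toEquiv
  have h4 : Nat.card (K.subgroupOf (F.autGroup P)) ≤ Nat.card (R' : Subgroup (F.autGroup P)) :=
    Subgroup.card_le_of_le hR'
  have h5 : Nat.card (R' : Subgroup (F.autGroup P)) = Nat.card R' := rfl
  omega

theorem orderOf_conjAut (hH : Hyp p S) {P : Subgroup Ω} (hP : Mid p S P) {s : Ω} (hsS : s ∈ S)
    (hsP : s ∉ P) : orderOf (conjAut P s (le_normalizer_mid hH hP hsS)) = p :=
  orderOf_eq_prime (conjAut_pow_prime hH hP hsS) (conjAut_ne_one hH hP hsS hsP)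

/-- an element of `Aut_F(P)` outside `Aut_S(P)` generates with `Aut_S(P)` a group that is not a
`p`-group -/
theorem not_isPGroup_closure (hH : Hyp p S) (F : FusionSystem S) (hF : F.IsSaturated p)
    {P : Subgroup Ω} (hP : Mid p S P) {s : Ω} (hsS : s ∈ S) (hsP : s ∉ P) {v : MulAut ↥P}
    (hv : v ∈ F.autGroup P)
    (hvu : v ∉ Subgroup.zpowers (conjAut P s (le_normalizer_mid hH hP hsS))) :
    ¬ IsPGroup p (Subgroup.closure
      ({conjAut P s (le_normalizer_mid hH hP hsS), v} : Set (MulAut ↥P))) := by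
  intro hK
  haveI := finite_of_le' hP.2.1
  obtain ⟨u, hu⟩ : ∃ u : MulAut ↥P, u = conjAut P s (le_normalizer_mid hH hP hsS) := ⟨_, rfl⟩
  rw [← hu] at hK hvu
  have huG : u ∈ F.autGroup P := hu ▸ conjAut_mem_autGroup hH F hP hsS
  have hKG : Subgroup.closure ({u, v} : Set (MulAut ↥P)) ≤ F.autGroup P := by
    rw [Subgroup.closure_le]
    rintro x (rfl | rfl)
    · exact huG
    · exact hv
  have hc := card_le_of_isPGroup hH F hF hP hKG hK
  have hzK : Subgroup.zpowers u ≤ Subgroup.closure ({u, v} : Set (MulAut ↥P)) :=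
    Subgroup.zpowers_le.mpr (Subgroup.subset_closure (by simp))
  have hcz : Nat.card (Subgroup.zpowers u) = p := by
    rw [Nat.card_zpowers, hu]
    exact orderOf_conjAut hH hP hsS hsP
  have heq : Subgroup.zpowers u = Subgroup.closure ({u, v} : Set (MulAut ↥P)) :=
    Subgroup.eq_of_le_of_card_ge hzK (by rw [hcz]; exact hc)
  apply hvu
  rw [heq]
  exact Subgroup.subset_closure (by simp)

/-- for an essential subgroup, `Aut_S(P)` is not normal in `Aut_F(P)` -/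
theorem exists_active (hH : Hyp p S) (F : FusionSystem S) (hF : F.IsSaturated p)
    {P : Subgroup Ω} (hP : F.IsEssential p P) {s : Ω} (hsS : s ∈ S) (hsP : s ∉ P) :
    ∃ g ∈ F.autGroup P,
      g * conjAut P s (le_normalizer_mid hH (mid_of_isEssential hH F hF hP) hsS) * g⁻¹ ∉
        Subgroup.zpowers (conjAut P s (le_normalizer_mid hH (mid_of_isEssential hH F hF hP) hsS)) := by
  have hmid := mid_of_isEssential hH F hF hP
  haveI := finite_of_le' hmid.2.1
  by_contra hcon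
  push Not at hcon
  obtain ⟨u, hu⟩ : ∃ u : MulAut ↥P, u = conjAut P s (le_normalizer_mid hH hmid hsS) := ⟨_, rfl⟩
  rw [← hu] at hcon
  have huG : u ∈ F.autGroup P := hu ▸ conjAut_mem_autGroup hH F hmid hsS
  have hPc : ∀ a b : ↥P, a * b = b * a := fun a b =>
    Subtype.ext (mid_comm hH.hS hmid a a.2 b b.2)
  have hOp := opAutLeInn_of_isEssential F p hP
  have hord : orderOf u = p := hu ▸ orderOf_conjAut hH hmid hsS hsP
  have h1 : Subgroup.zpowers u ≤ Inn ↥P := by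
    apply hOp _ (Subgroup.zpowers_le.mpr huG)
    · intro α hα k hk
      obtain ⟨z, rfl⟩ := Subgroup.mem_zpowers_iff.mp hk
      rw [← conj_zpow]
      exact Subgroup.zpow_mem _ (hcon α hα) z
    · apply IsPGroup.of_card (n := 1)
      rw [Nat.card_zpowers, hord, pow_one]
  rw [inn_eq_bot_of_comm hPc] at h1
  have h2 : u = 1 := (Subgroup.mem_bot).mp (h1 (Subgroup.mem_zpowers u))
  rw [hu] at h2
  exact conjAut_ne_one hH hmid hsS hsP h2

/-- an automorphism in `Aut_F(P)` normalizing `Aut_S(P)` extends to `S` -/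
theorem exists_extension (hH : Hyp p S) (F : FusionSystem S) (hF : F.IsSaturated p)
    {P : Subgroup Ω} (hP : Mid p S P) {τ : MulAut ↥P} (hτ : τ ∈ F.autGroup P)
    (hτn : ∀ k ∈ autInducedBy S P, τ * k * τ⁻¹ ∈ autInducedBy S P) :
    ∃ β : MulAut ↥S, β ∈ F.autGroup S ∧
      ∀ x : ↥P, ((β ⟨(x : Ω), hP.2.1 x.2⟩ : ↥S) : Ω) = ((τ x : ↥P) : Ω) := by
  have hPS : P ≤ S := hP.2.1
  have hFN := mid_isFullyNormalized hH F hP
  have hFC := (Cfsg.Agent.S5077.sylow_axiom p hH.hS F hF P hFN).1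
  have hrec := Cfsg.Agent.S5077.extension_axiom p hH.hS F hF P hFC
  have hφ : autHom τ ∈ F.Hom P := (mem_autGroup_iff F hPS τ).mp hτ
  obtain ⟨ψ, hψ, hψφ⟩ := hrec.2 P (autHom τ) hφ (autHom_range τ)
  have hext : S = extender S P (autHom τ) := by
    apply le_antisymm
    · intro g hg
      apply Subgroup.subset_closure
      have hgN : g ∈ Subgroup.normalizer (P : Set Ω) := le_normalizer_mid hH hP hg
      refine ⟨hg, hgN, ?_⟩
      have hcg : P.normalizerMonoidHom ⟨g, hgN⟩ ∈ autInducedBy S P :=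
        (mem_autInducedBy_iff S P _).mpr ⟨g, hg, fun x => rfl⟩
      have h1 := hτn _ hcg
      obtain ⟨h, hhS, hh⟩ := (mem_autInducedBy_iff S P _).mp h1
      refine ⟨h, hhS, fun x hx => ?_⟩
      have h2 := hh (τ x)
      simp only [MulAut.mul_apply, MulAut.inv_apply_self] at h2
      exact h2
    · exact (extender_le_normalizerIn P (autHom τ)).trans inf_le_left
  have hψ' := cast_mem F hext hψ
  obtain ⟨ψ', hψ'def⟩ : ∃ ψ' : ↥S →* Ω, ψ' = ψ.comp (Subgroup.inclusion hext.le) := ⟨_, rfl⟩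
  rw [← hψ'def] at hψ'
  have hr := range_eq_of_hom_top F hψ'
  refine ⟨isoOfHom ψ' (F.injective_of_mem hψ') hr, ?_, ?_⟩
  · rw [mem_autGroup_iff F le_rfl]
    have e : autHom (isoOfHom ψ' (F.injective_of_mem hψ') hr) = ψ' := by ext x; rfl
    rw [e]; exact hψ'
  · intro x
    show ψ' ⟨(x : Ω), hPS x.2⟩ = ((τ x : ↥P) : Ω)
    rw [hψ'def]
    simp only [MonoidHom.comp_apply]
    exact hψφ (x : Ω) x.2 _

/-- automorphisms of `S` preserve the centre -/
theorem aut_ZS (α : MulAut ↥S) {z : Ω} (hz : z ∈ ZS S) :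
    ((α ⟨z, (mem_ZS.mp hz).1⟩ : ↥S) : Ω) ∈ ZS S := by
  rw [mem_ZS]
  refine ⟨(α _).2, fun g hg => ?_⟩
  have h1 : (⟨g, hg⟩ : ↥S) = α (α⁻¹ ⟨g, hg⟩) := by simp
  have h2 : (α⁻¹ ⟨g, hg⟩ : ↥S) * ⟨z, (mem_ZS.mp hz).1⟩ =
      ⟨z, (mem_ZS.mp hz).1⟩ * (α⁻¹ ⟨g, hg⟩ : ↥S) :=
    Subtype.ext ((mem_ZS.mp hz).2 _ (α⁻¹ ⟨g, hg⟩ : ↥S).2)
  have h3 := congrArg α h2
  rw [map_mul, map_mul, ← h1] at h3
  exact congrArg Subtype.val h3

/-- `p`-elements of `Aut_F(S)` are inner -/
theorem pElement_mem_autInducedBy (F : FusionSystem S) (hF : F.IsSaturated p)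
    {ε : MulAut ↥S} (hε : ε ∈ F.autGroup S) {a : ℕ} (hεp : ε ^ (p ^ a) = 1) :
    ε ∈ autInducedBy S S := by
  obtain ⟨-, R, hR⟩ := top_isFullyAutomized p F hF
  have hKp : IsPGroup p (Subgroup.zpowers (⟨ε, hε⟩ : F.autGroup S)) := by
    rintro ⟨k, hk⟩
    obtain ⟨n, rfl⟩ := Subgroup.mem_zpowers_iff.mp hk
    refine ⟨a, Subtype.ext ?_⟩
    have h0 : (⟨ε, hε⟩ : F.autGroup S) ^ (p ^ a) = 1 := Subtype.ext hεp
    show ((⟨ε, hε⟩ : F.autGroup S) ^ n) ^ (p ^ a) = 1
    rw [← zpow_natCast, ← zpow_mul, mul_comm, zpow_mul, zpow_natCast, h0, one_zpow]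
  have hRn : (R : Subgroup (F.autGroup S)).Normal := by
    rw [hR]
    constructor
    intro n hn g
    rw [Subgroup.mem_subgroupOf] at hn ⊢
    obtain ⟨s, hs, h⟩ := (mem_autInducedBy_iff S S _).mp hn
    rw [mem_autInducedBy_iff]
    refine ⟨((g : MulAut ↥S) ⟨s, hs⟩ : ↥S), ((g : MulAut ↥S) ⟨s, hs⟩ : ↥S).2, fun x => ?_⟩
    show ((((g : MulAut ↥S) ((n : MulAut ↥S) ((g : MulAut ↥S)⁻¹ x)) : ↥S)) : Ω) = _
    have h1 : (n : MulAut ↥S) ((g : MulAut ↥S)⁻¹ x) =
        ⟨s, hs⟩ * ((g : MulAut ↥S)⁻¹ x) * (⟨s, hs⟩ : ↥S)⁻¹ := Subtype.ext (h _)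
    rw [h1, map_mul, map_mul, map_inv]
    simp
  have hsup : IsPGroup p
      (Subgroup.zpowers (⟨ε, hε⟩ : F.autGroup S) ⊔ (R : Subgroup (F.autGroup S)) :
        Subgroup (F.autGroup S)) :=
    IsPGroup.to_sup_of_normal_right hKp R.isPGroup'
  have h1 := R.is_maximal' hsup le_sup_right
  have h2 : (⟨ε, hε⟩ : F.autGroup S) ∈ (R : Subgroup (F.autGroup S)) := by
    rw [← h1]
    exact Subgroup.mem_sup_left (Subgroup.mem_zpowers _)
  rw [hR] at h2
  exact h2

theorem pElement_fix_ZS (F : FusionSystem S) (hF : F.IsSaturated p)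
    {ε : MulAut ↥S} (hε : ε ∈ F.autGroup S) {a : ℕ} (hεp : ε ^ (p ^ a) = 1)
    {z : Ω} (hz : z ∈ ZS S) : ((ε ⟨z, (mem_ZS.mp hz).1⟩ : ↥S) : Ω) = z := by
  obtain ⟨g, hg, h⟩ := (mem_autInducedBy_iff S S ε).mp (pElement_mem_autInducedBy F hF hε hεp)
  rw [h]
  show g * z * g⁻¹ = z
  rw [(mem_ZS.mp hz).2 g hg, mul_inv_cancel_right]

end Cfsg.Agent.Helper26.ZI
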