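import Mathlib
import Cfsg.Agent.Helper26.OL4
import Cfsg.Agent.Helper26.OL7
import Cfsg.Agent.Helper26.ZI7
import Cfsg.Agent.Helper25.SylowIn

set_option autoImplicit false
set_option linter.style.haveILetI false
set_option linter.unusedSectionVars false
set_option linter.unusedVariables false

/-! The automizer in `F` of an essential subgroup `Z(S)⟨x⟩`. -/

namespace Cfsg.Agent.Helper26.OL

open Cfsg Cfsg.FusionSystem Cfsg.Agent.Helper25 Cfsg.Agent.Helper26.ZI

variable {Ω : Type*} [Group Ω] {p : ℕ} [Fact p.Prime] {S A : Subgroup Ω} [Finite S]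

theorem finite_mulAut_PP {x : Ω} (hx : x ∈ S) : Finite (MulAut ↥(PP S x)) := by
  haveI := finite_PP (S := S) hx
  exact Finite.of_injective (fun e : MulAut ↥(PP S x) => (e : ↥(PP S x) → ↥(PP S x)))
    (fun a b h => DFunLike.coe_injective h)

/-- two nontrivial `p`-elements of `Aut_F(P)` with different fixed points do not generate a
`p`-group -/
theorem not_isPGroup_closure (h : Hyp p S A) (F : FusionSystem S) (hF : F.IsSaturated p)
    {x : Ω} (hx : x ∈ S) (hxA : x ∉ A) (hess : F.IsEssential p (PP S x))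
    {u₁ u₂ : MulAut ↥(PP S x)} (h1 : u₁ ∈ F.autGroup (PP S x)) (h2 : u₂ ∈ F.autGroup (PP S x))
    (hu₁ : u₁ ≠ 1) (hu₂ : u₂ ≠ 1) (hne : fixSub u₁ ≠ fixSub u₂) :
    ¬ IsPGroup p (Subgroup.closure ({u₁, u₂} : Set (MulAut ↥(PP S x)))) := by
  intro hL
  haveI := finite_PP (S := S) hx
  haveI := finite_mulAut_PP (S := S) hx
  obtain ⟨-, R, hR⟩ := (Cfsg.Agent.S5077.sylow_axiom p h.hS F hF _ hess.2.1).2
  have hU : IsPGroup p ((Subgroup.closure ({u₁, u₂} : Set (MulAut ↥(PP S x)))).subgroupOf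
      (F.autGroup (PP S x))) :=
    IsPGroup.comap_subtype (H := Subgroup.closure ({u₁, u₂} : Set (MulAut ↥(PP S x)))) hL
      (K := F.autGroup (PP S x))
  obtain ⟨k, hk⟩ := exists_conj_le_sylow p R hU
  have key : ∀ u : MulAut ↥(PP S x), ∀ hu : u ∈ F.autGroup (PP S x),
      u ∈ Subgroup.closure ({u₁, u₂} : Set (MulAut ↥(PP S x))) → u ≠ 1 →
      (fixSub u).map (k : MulAut ↥(PP S x)).toMonoidHom = Zs S x := by
    intro u hu huL hu1
    have h3 : (MulAut.conj k).toMonoidHom ⟨u, hu⟩ ∈ (R : Subgroup (F.autGroup (PP S x))) :=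
      hk ⟨⟨u, hu⟩, huL, rfl⟩
    rw [hR, Subgroup.mem_subgroupOf] at h3
    have h4 : (((MulAut.conj k).toMonoidHom ⟨u, hu⟩ : F.autGroup (PP S x)) :
        MulAut ↥(PP S x)) = (k : MulAut ↥(PP S x)) * u * (k : MulAut ↥(PP S x))⁻¹ := by
      simp [MulAut.conj_apply]
    rw [h4] at h3
    have h5 : (k : MulAut ↥(PP S x)) * u * (k : MulAut ↥(PP S x))⁻¹ ≠ 1 := by
      intro h5
      apply hu1
      have : u = (k : MulAut ↥(PP S x))⁻¹ *
          ((k : MulAut ↥(PP S x)) * u * (k : MulAut ↥(PP S x))⁻¹) * (k : MulAut ↥(PP S x)) := by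
        group
      rw [this, h5]
      group
    rw [← fixSub_conj]
    exact T_fixSub h hx hxA h3 h5
  have e1 := key u₁ h1 (Subgroup.subset_closure (by simp)) hu₁
  have e2 := key u₂ h2 (Subgroup.subset_closure (by simp)) hu₂
  apply hne
  apply Subgroup.map_injective (f := (k : MulAut ↥(PP S x)).toMonoidHom)
    (k : MulAut ↥(PP S x)).injective
  show (fixSub u₁).map (k : MulAut ↥(PP S x)).toMonoidHom =
    (fixSub u₂).map (k : MulAut ↥(PP S x)).toMonoidHom
  rw [e1, e2]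

theorem stab_iff {x : Ω} (α : MulAut ↥(PP S x)) :
    StabilizesChain (chain3 (Zs S x) ⊤) α ↔
      (∀ z ∈ Zs S x, α z = z) ∧ ∀ y, α y * y⁻¹ ∈ Zs S x := by
  constructor
  · intro hα
    refine ⟨fun z hz => ?_, fun y => ?_⟩
    · have h1 : α z * z⁻¹ ∈ (⊥ : Subgroup ↥(PP S x)) := hα 0 z hz
      rw [Subgroup.mem_bot, mul_inv_eq_one] at h1
      exact h1
    · exact hα 1 y (Subgroup.mem_top y)
  · rintro ⟨h1, h2⟩ i y hy
    match i with
    | 0 =>
      show α y * y⁻¹ ∈ (⊥ : Subgroup ↥(PP S x))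
      rw [h1 y hy, mul_inv_cancel]
      exact Subgroup.one_mem _
    | 1 => exact h2 y
    | 2 => exact Subgroup.mem_top _
    | (k + 3) => exact Subgroup.mem_top _

/-- some element of `Aut_F(P)` moves the centre of `S` -/
theorem exists_moving (h : Hyp p S A) (F : FusionSystem S) (hF : F.IsSaturated p)
    {x : Ω} (hx : x ∈ S) (hxA : x ∉ A) (hess : F.IsEssential p (PP S x)) :
    ∃ g ∈ F.autGroup (PP S x), ¬ (Zs S x).map g.toMonoidHom ≤ Zs S x := by
  by_contra hall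
  have hall : ∀ g ∈ F.autGroup (PP S x), (Zs S x).map g.toMonoidHom ≤ Zs S x := by
    intro g hg
    by_contra hgn
    exact hall ⟨g, hg, hgn⟩
  haveI := finite_PP (S := S) hx
  have hP : IsPGroup p ↥(PP S x) := h.hS.to_le (PP_le hx)
  have hA := hPc (S := S) hx
  have hmono : Monotone (chain3 (Zs S x) ⊤) := chain3_mono le_top
  set K : Subgroup (MulAut ↥(PP S x)) :=
    F.autGroup (PP S x) ⊓ chainStabilizer hP (chain3 (Zs S x) ⊤) rfl hmono (m := 2) rfl with hK
  have hKp : IsPGroup p K :=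
    (chainStabilizer_isPGroup hP (chain3 (Zs S x) ⊤) rfl hmono (m := 2) rfl).to_le inf_le_right
  have hTK : autInducedBy S (PP S x) ≤ K := by
    intro t ht
    refine Subgroup.mem_inf.mpr ⟨autInducedBy_le_autGroup F (PP_le hx) ht, ?_⟩
    show StabilizesChain (chain3 (Zs S x) ⊤) t
    rw [stab_iff]
    refine ⟨fun z hz => T_fix hx ht hz, fun y => ?_⟩
    have := T_delta h hx hxA ht y
    rw [delta_apply, hA] at this
    exact Z0_le S this
  have hnorm : ∀ α ∈ F.autGroup (PP S x), ∀ k ∈ K, α * k * α⁻¹ ∈ K := by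
    intro a ha k hk
    obtain ⟨hkG, hkst⟩ := Subgroup.mem_inf.mp hk
    have hkst : StabilizesChain (chain3 (Zs S x) ⊤) k := hkst
    rw [stab_iff] at hkst
    refine Subgroup.mem_inf.mpr ⟨mul_mem (mul_mem ha hkG) (inv_mem ha), ?_⟩
    show StabilizesChain (chain3 (Zs S x) ⊤) (a * k * a⁻¹)
    rw [stab_iff]
    have hainv : ∀ z ∈ Zs S x, a⁻¹ z ∈ Zs S x := by
      intro z hz
      exact hall a⁻¹ (inv_mem ha) ⟨z, hz, rfl⟩
    have hamap : ∀ z ∈ Zs S x, a z ∈ Zs S x := by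
      intro z hz
      exact hall a ha ⟨z, hz, rfl⟩
    refine ⟨fun z hz => ?_, fun y => ?_⟩
    · rw [MulAut.mul_apply, MulAut.mul_apply, hkst.1 _ (hainv z hz), MulAut.apply_inv_self]
    · have h1 := hamap _ (hkst.2 (a⁻¹ y))
      rw [map_mul, map_inv, MulAut.apply_inv_self] at h1
      exact h1
  have hle := opAutLeInn_of_isEssential F p hess K inf_le_left hnorm hKp
  rw [inn_eq_bot_of_comm hA] at hle
  obtain ⟨t, ht, ht1, -⟩ := exists_T_ne_one h hx hxA
  exact ht1 (Subgroup.mem_bot.mp (hle (hTK ht)))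

end Cfsg.Agent.Helper26.OL
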