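import Mathlib
import Cfsg.Agent.Helper10.S2092.DefsP
import Cfsg.Agent.Helper22.S2094RBCOMB
import Cfsg.Agent.Helper23.S2092PBASIC
import Cfsg.Agent.Helper16.S2092SOFTC
import Cfsg.Agent.Helper19.S2092WIT

set_option autoImplicit false
set_option linter.unusedSectionVars false
set_option linter.unusedVariables false

/-! S2092, part P, piece NSCONJ (driver helper10): a Weyl element of a simple root `s` acts on ALL root elements
through the reflection `s.perm` of the names: SOFTC (`nS_conj_ne`, the names `≠ ±s`), WIT (`nS_conj_self`, the names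
`s`, `neg s`) and `xr_alt` for the other names `alt s`, `alt (neg s)` of `±s`. -/

namespace Cfsg.Agent.S2092P

open scoped commutatorElement
open Matrix Cfsg.Agent.S3352P Cfsg.Agent.S2096P Cfsg.Agent.S2094P Cfsg.Agent.RGD

variable {n : ℕ} {F : Type*} [Field F] {M : Type*} [Group M] {Ys : J n → J n → F → M}
  {Yl : J n → F → M} {π : M →* Matrix (J n) (J n) F}

namespace NSCONJ

/-- if `g` acts on the root elements of the name `r` through an `ng`-equivariant `σ`, it does so on those of the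
other name `alt r` of the same root -/
theorem acts_alt (hY : CRel Ys Yl) {σ : Equiv.Perm (J n)} (hσ : NgEquivariant σ) {g : M} {r : RB n}
    (hr : r.Valid)
    (hg : ∃ η : F, η ≠ 0 ∧ ∀ u : F, g * xr Ys Yl r u * g⁻¹ = xr Ys Yl (r.map σ) (η * u)) :
    ∃ η : F, η ≠ 0 ∧ ∀ u : F, g * xr Ys Yl r.alt u * g⁻¹ = xr Ys Yl (r.alt.map σ) (η * u) := by
  obtain ⟨η, hη, hc⟩ := hg
  obtain ⟨ε, hε, he⟩ := xr_alt hY hr
  obtain ⟨ε', hε', he'⟩ := xr_alt hY (RB.valid_map hσ hr)
  have hε0 : ε ≠ 0 := by rcases hε with rfl | rfl <;> simp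
  have hε'0 : ε' ≠ 0 := by rcases hε' with rfl | rfl <;> simp
  have hε'2 : ε' * ε' = 1 := by rcases hε' with rfl | rfl <;> simp
  refine ⟨ε' * η * ε, mul_ne_zero (mul_ne_zero hε'0 hη) hε0, fun u => ?_⟩
  rw [RB.map_alt hσ, he, hc, he']
  congr 1
  calc η * (ε * u) = (ε' * ε') * (η * (ε * u)) := by rw [hε'2, one_mul]
    _ = ε' * (ε' * η * ε * u) := by ring

end NSCONJ

theorem nS_actsBy [Finite F] (hn : 2 ≤ n) (h : PHyp Ys Yl π) {s : RootB n} (hs : s.1.Simple) {m : M}
    (hm : m ∈ (datumC Ys Yl).nS s) : ActsBy Ys Yl m (RB.map s.1.perm) := by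
  have hσ : NgEquivariant s.1.perm := RB.perm_ngEquivariant s.1
  obtain ⟨hself, hneg⟩ := nS_conj_self hn h hs hm
  have hself' : ∃ η : F, η ≠ 0 ∧ ∀ u : F,
      m * xr Ys Yl s.1 u * m⁻¹ = xr Ys Yl (s.1.map s.1.perm) (η * u) := by
    rw [RB.map_perm_self hs]; exact hself
  have hneg' : ∃ η : F, η ≠ 0 ∧ ∀ u : F,
      m * xr Ys Yl s.1.neg u * m⁻¹ = xr Ys Yl (s.1.neg.map s.1.perm) (η * u) := by
    rw [RB.map_neg hσ, RB.map_perm_self hs, RB.neg_neg']; exact hneg
  intro r hr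
  by_cases h1 : r = s.1
  · rw [h1]; exact hself'
  by_cases h3 : r = s.1.neg
  · rw [h3]; exact hneg'
  by_cases h2 : r = s.1.alt
  · rw [h2]; exact NSCONJ.acts_alt h.rel hσ s.2 hself'
  by_cases h4 : r = s.1.neg.alt
  · rw [h4]; exact NSCONJ.acts_alt h.rel hσ (RB.valid_neg s.2) hneg'
  · exact nS_conj_ne hn h hs hm (r := ⟨r, hr⟩) (fun e => h1 (congrArg Subtype.val e))
      (fun e => h2 (congrArg Subtype.val e)) (fun e => h3 (congrArg Subtype.val e))
      (fun e => h4 (congrArg Subtype.val e))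

end Cfsg.Agent.S2092P
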