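import Mathlib
import Cfsg.Agent.Helper10.S2092.DefsP
import Cfsg.Agent.Helper22.S2094RBCOMB
import Cfsg.Agent.Helper29.S2092MODELW
import Cfsg.Agent.Helper26.S2092NSCONJ

set_option autoImplicit false
set_option linter.unusedSectionVars false
set_option linter.unusedVariables false

/-! S2092, part P, piece DIAGP (driver helper10): the torus `T = HhS` normalizes every root subgroup, and the scalar
by which `t ∈ T` acts on the root `r` is the value at `π t = diagonal d` of the character of `r`: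
`c (lg a b) = d a / d b`, `c (sh a) = d a / d (ng a)`. The generators `tX = wX(τ) wX(-1)`, `tY` act through
`(RB.map s.perm)² = id` (NSCONJ twice); the scalar is read off from `π`. -/

namespace Cfsg.Agent.S2092P

open scoped commutatorElement
open Matrix Cfsg.Agent.S3352P Cfsg.Agent.S2096P Cfsg.Agent.S2094P Cfsg.Agent.RGD

variable {n : ℕ} {F : Type*} [Field F] {M : Type*} [Group M] {Ys : J n → J n → F → M}
  {Yl : J n → F → M} {π : M →* Matrix (J n) (J n) F}

namespace DIAGP

theorem actsBy_mul {g g' : M} {σ σ' : RB n → RB n} (hσ' : ∀ r : RB n, r.Valid → (σ' r).Valid)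
    (hg : ActsBy Ys Yl g σ) (hg' : ActsBy Ys Yl g' σ') : ActsBy Ys Yl (g * g') (fun r => σ (σ' r)) := by
  intro r hr
  obtain ⟨η', hη', hc'⟩ := hg' r hr
  obtain ⟨η, hη, hc⟩ := hg (σ' r) (hσ' r hr)
  refine ⟨η * η', mul_ne_zero hη hη', fun u => ?_⟩
  calc g * g' * xr Ys Yl r u * (g * g')⁻¹ = g * (g' * xr Ys Yl r u * g'⁻¹) * g⁻¹ := by group
    _ = xr Ys Yl (σ (σ' r)) (η * η' * u) := by rw [hc', hc, mul_assoc]

theorem actsBy_one : ActsBy Ys Yl (1 : M) (fun r => r) := by
  intro r hr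
  exact ⟨1, one_ne_zero, fun u => by simp⟩

theorem actsBy_inv {g : M} (hg : ActsBy Ys Yl g (fun r => r)) : ActsBy Ys Yl g⁻¹ (fun r => r) := by
  intro r hr
  obtain ⟨η, hη, hc⟩ := hg r hr
  refine ⟨η⁻¹, inv_ne_zero hη, fun u => ?_⟩
  have h1 := hc (η⁻¹ * u)
  rw [mul_inv_cancel_left₀ hη] at h1
  rw [← h1]
  group

/-- the square of a Weyl element of a simple root normalizes the root subgroups -/
theorem actsBy_nS_mul [Finite F] (hn : 2 ≤ n) (h : PHyp Ys Yl π) {s : RootB n} (hs : s.1.Simple)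
    {m m' : M} (hm : m ∈ (datumC Ys Yl).nS s) (hm' : m' ∈ (datumC Ys Yl).nS s) :
    ActsBy Ys Yl (m * m') (fun r => r) := by
  have h1 := actsBy_mul (fun r hr => RB.valid_map (RB.perm_ngEquivariant s.1) hr)
    (nS_actsBy hn h hs hm) (nS_actsBy hn h hs hm')
  have e : (fun r : RB n => RB.map s.1.perm (RB.map s.1.perm r)) = fun r => r := by
    funext r
    exact RB.map_map_perm s.1 r
  rw [e] at h1
  exact h1

theorem actsBy_of_mem_T [Finite F] (hn : 2 ≤ n) (h : PHyp Ys Yl π) {t : M}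
    (ht : t ∈ (datumC Ys Yl).T) : ActsBy Ys Yl t (fun r => r) := by
  have ht' : t ∈ HhS Ys Yl := ht
  clear ht
  unfold HhS at ht'
  induction ht' using Subgroup.closure_induction with
  | mem x hx =>
    rcases hx with ⟨a, b, τ, hs, hτ, rfl⟩ | ⟨a, τ, hs, hτ, rfl⟩
    · have hv : (RB.lg a b : RB n).Valid := by
        obtain ⟨i, j, hij, rfl, rfl⟩ := hs
        exact RBCOMB.isRoot_inl_inl (fun e => by rw [e] at hij; omega)
      exact actsBy_nS_mul hn h (s := ⟨RB.lg a b, hv⟩) hs ⟨τ, hτ, rfl⟩ ⟨-1, by simp, rfl⟩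
    · exact actsBy_nS_mul hn h (s := ⟨RB.sh a, trivial⟩) hs ⟨τ, hτ, rfl⟩ ⟨-1, by simp, rfl⟩
  | one => exact actsBy_one
  | mul x y _ _ hx hy => exact actsBy_mul (fun r hr => hr) hx hy
  | inv x _ hx => exact actsBy_inv hx

theorem pi_xr (h : PHyp Ys Yl π) {r : RB n} (hr : r.Valid) (u : F) :
    π (xr Ys Yl r u) = xrm r u := by
  cases r with
  | lg a b => exact h.pis a b hr u
  | sh a => exact h.pil a u

theorem xs_apply_self {a b : J n} (hab : IsRoot a b) (u : F) : (xs a b u : Matrix (J n) (J n) F) a b = u := by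
  have h1 : ¬ (ng b = a ∧ ng a = b) := fun e => hab.2 e.1.symm
  simp [xs, Matrix.one_apply_ne hab.1, h1]

theorem xl_apply_self (a : J n) (u : F) : (xl a u : Matrix (J n) (J n) F) a (ng a) = u := by
  simp [xl, Matrix.one_apply_ne (ng_ne a).symm]

/-- the character of a root on the diagonal matrices -/
def chr (d : J n → F) : RB n → F
  | RB.lg a b => d a / d b
  | RB.sh a => d a / d (ng a)

/-- the scalar is determined by the image in the model -/
theorem scalar_eq {d : J n → F} (hd : ∀ x, d x ≠ 0) {r : RB n} (hr : r.Valid) {η : F}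
    (he : Matrix.diagonal d * xrm r 1 = xrm r η * Matrix.diagonal d) : η = chr d r := by
  cases r with
  | lg a b =>
    have h1 := congrFun (congrFun he a) b
    rw [Matrix.diagonal_mul, Matrix.mul_diagonal] at h1
    simp only [xrm] at h1
    rw [xs_apply_self hr, xs_apply_self hr] at h1
    simp only [chr]
    rw [eq_div_iff (hd b), ← h1, mul_one]
  | sh a =>
    have h1 := congrFun (congrFun he a) (ng a)
    rw [Matrix.diagonal_mul, Matrix.mul_diagonal] at h1
    simp only [xrm] at h1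
    rw [xl_apply_self, xl_apply_self] at h1
    simp only [chr]
    rw [eq_div_iff (hd (ng a)), ← h1, mul_one]

end DIAGP

/-- DIAGP -/
theorem T_actsBy [Finite F] (hn : 2 ≤ n) (h : PHyp Ys Yl π) {t : M} (ht : t ∈ (datumC Ys Yl).T) :
    ∃ c : RB n → F, ∀ r : RB n, r.Valid → c r ≠ 0 ∧ c r.neg = (c r)⁻¹ ∧
      ∀ u : F, t * xr Ys Yl r u * t⁻¹ = xr Ys Yl r (c r * u) := by
  obtain ⟨d, hd, hπ⟩ := diag_of_mem_T h ht
  have hact := DIAGP.actsBy_of_mem_T hn h ht
  refine ⟨DIAGP.chr d, fun r hr => ⟨?_, ?_, ?_⟩⟩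
  · cases r with
    | lg a b => exact div_ne_zero (hd a) (hd b)
    | sh a => exact div_ne_zero (hd a) (hd (ng a))
  · cases r with
    | lg a b => simp only [RB.neg, DIAGP.chr, inv_div]
    | sh a => simp only [RB.neg, DIAGP.chr, inv_div, ng_ng]
  · obtain ⟨η, hη, hc⟩ := hact r hr
    have h1 := congrArg π (hc 1)
    rw [map_mul, map_mul, DIAGP.pi_xr h hr, DIAGP.pi_xr h hr, hπ, mul_one] at h1
    have h2 : Matrix.diagonal d * xrm r 1 = xrm r η * Matrix.diagonal d := by
      have h3 : π t⁻¹ * Matrix.diagonal d = 1 := by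
        rw [← hπ, ← map_mul, inv_mul_cancel, map_one]
      calc Matrix.diagonal d * xrm r 1 = Matrix.diagonal d * xrm r 1 * (π t⁻¹ * Matrix.diagonal d) := by
            rw [h3, mul_one]
        _ = (Matrix.diagonal d * xrm r 1 * π t⁻¹) * Matrix.diagonal d := by
            simp only [mul_assoc]
        _ = xrm r η * Matrix.diagonal d := by rw [h1]
    have h4 := DIAGP.scalar_eq hd hr h2
    intro u
    rw [hc u, h4]

end Cfsg.Agent.S2092P
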