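import Mathlib
import Cfsg.Prelude.Def_KGroupFacts
import Cfsg.Agent.Helper2.PSLM.Defs

set_option autoImplicit false

/-! S2086 piece CS: the column swap identity for commutators of lifts of root elements. -/

namespace Cfsg.Agent.S2086P

open scoped commutatorElement
open Cfsg.Agent.Helper2.Stb

variable {n : ℕ} {K : Type*} [Field K] {G : Type*} [Group G] {E : Type*} [Group E]

/-- generic computation: `z` commutes with `x`, `⁅z, y⁆` commutes with `⁅x, y⁆`, and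
`⁅x, ⁅z, y⁆⁆` is central; then `⁅z, ⁅x, y⁆⁆ = ⁅x, ⁅z, y⁆⁆`. -/
theorem CS.comm_swap {x y z : E} (hzx : Commute z x) (hvc : Commute ⁅z, y⁆ ⁅x, y⁆)
    (hxv : ⁅x, ⁅z, y⁆⁆ ∈ Subgroup.center E) : ⁅z, ⁅x, y⁆⁆ = ⁅x, ⁅z, y⁆⁆ := by
  obtain ⟨v, hv⟩ : ∃ v, v = ⁅z, y⁆ := ⟨_, rfl⟩
  obtain ⟨c, hcd⟩ : ∃ c, c = ⁅x, y⁆ := ⟨_, rfl⟩
  have e2 : z * x * z⁻¹ = x := by rw [hzx.eq, mul_inv_cancel_right]
  have e1 : z * c * z⁻¹ = ⁅z * x * z⁻¹, v * y⁆ := by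
    rw [hcd, hv]
    simp only [commutatorElement_def]
    group
  have e3 : ⁅x, v * y⁆ = ⁅x, v⁆ * (v * c * v⁻¹) := by
    rw [hcd]
    simp only [commutatorElement_def]
    group
  rw [← hv, ← hcd] at hvc
  rw [← hv] at hxv
  have e4 : v * c * v⁻¹ = c := by rw [hvc.eq, mul_inv_cancel_right]
  rw [← hv, ← hcd]
  have e5 : ⁅z, c⁆ = z * c * z⁻¹ * c⁻¹ := commutatorElement_def z c
  rw [e5, e1, e2, e3, e4, mul_inv_cancel_right]

/-! ### CS -/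
theorem cl_col_swap (S : StD n K G) (ψ : E →* G) (hψ : Function.Surjective ψ)
    (hc : ψ.ker ≤ Subgroup.center E)
    (hcol : ∀ (i j k : Fin n) (hik : i ≠ k) (hjk : j ≠ k) (_ : i ≠ j) (s t : K),
      CL ψ (S.T (rt i k hik) s) (S.T (rt j k hjk) t))
    (i j k l : Fin n) (hij : i ≠ j) (hkl : k ≠ l) (hik : i ≠ k) (hil : i ≠ l) (hjk : j ≠ k)
    (hjl : j ≠ l) (s t : K) :
    cl ψ hψ (S.T (rt l k hkl.symm) t) (S.T (rt i j hij) s) =
      cl ψ hψ (S.T (rt i k hik) s) (S.T (rt l j hjl.symm) t) := by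
  obtain ⟨x, hx⟩ := hψ (S.T (rt i k hik) s)
  obtain ⟨y, hy⟩ := hψ (S.T (rt k j hjk.symm) 1)
  obtain ⟨z, hz⟩ := hψ (S.T (rt l k hkl.symm) t)
  have hcimg : ψ ⁅x, y⁆ = S.T (rt i j hij) s := by
    rw [map_commutatorElement, hx, hy, S.chev' i k j hik hjk.symm hij, mul_one]
  have hv : ψ ⁅z, y⁆ = S.T (rt l j hjl.symm) t := by
    rw [map_commutatorElement, hz, hy, S.chev' l k j hkl.symm hjk.symm hjl.symm, mul_one]
  have hzx : Commute z x := hcol l i k hkl.symm hik hil.symm t s z x hz hx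
  have hvc : Commute ⁅z, y⁆ ⁅x, y⁆ :=
    hcol l i j hjl.symm hij hil.symm t s _ _ hv hcimg
  have hxv : ⁅x, ⁅z, y⁆⁆ ∈ Subgroup.center E := by
    apply comm_mem_center_of_map ψ hc
    rw [hx, hv]
    exact S.comm _ _ _ _ hij hkl
  rw [← cl_eq ψ hψ hc hz hcimg, ← cl_eq ψ hψ hc hx hv]
  exact CS.comm_swap hzx hvc hxv

end Cfsg.Agent.S2086P
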