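import Mathlib
import Cfsg.Prelude.Def_KGroupFacts
import Cfsg.Agent.Helper2.PSLM.Defs

set_option autoImplicit false

/-! S2086 piece RS: the row swap identity for commutators of lifts of root elements. -/

namespace Cfsg.Agent.S2086P

open scoped commutatorElement
open Cfsg.Agent.Helper2.Stb

variable {n : ℕ} {K : Type*} [Field K] {G : Type*} [Group G] {E : Type*} [Group E]

/-- generic computation: `z` commutes with `y`, `⁅z, x⁆` commutes with `⁅x, y⁆`, and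
`⁅⁅z, x⁆, y⁆` is central; then `⁅z, ⁅x, y⁆⁆ = ⁅⁅z, x⁆, y⁆`. -/
theorem RS.comm_swap {x y z : E} (hzy : Commute z y) (hwc : Commute ⁅z, x⁆ ⁅x, y⁆)
    (hwy : ⁅⁅z, x⁆, y⁆ ∈ Subgroup.center E) : ⁅z, ⁅x, y⁆⁆ = ⁅⁅z, x⁆, y⁆ := by
  obtain ⟨w, hw⟩ : ∃ w, w = ⁅z, x⁆ := ⟨_, rfl⟩
  obtain ⟨c, hcd⟩ : ∃ c, c = ⁅x, y⁆ := ⟨_, rfl⟩
  have e2 : z * y * z⁻¹ = y := by rw [hzy.eq, mul_inv_cancel_right]
  have e1 : z * c * z⁻¹ = ⁅w * x, z * y * z⁻¹⁆ := by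
    rw [hcd, hw]
    simp only [commutatorElement_def]
    group
  have e3 : ⁅w * x, y⁆ = (w * c * w⁻¹) * ⁅w, y⁆ := by
    rw [hcd]
    simp only [commutatorElement_def]
    group
  rw [← hw, ← hcd] at hwc
  rw [← hw] at hwy
  have e4 : w * c * w⁻¹ = c := by rw [hwc.eq, mul_inv_cancel_right]
  rw [← hw, ← hcd]
  have e5 : ⁅z, c⁆ = z * c * z⁻¹ * c⁻¹ := commutatorElement_def z c
  rw [e5, e1, e2, e3, e4, Subgroup.mem_center_iff.1 hwy c, mul_inv_cancel_right]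

/-! ### RS -/
theorem cl_row_swap (S : StD n K G) (ψ : E →* G) (hψ : Function.Surjective ψ)
    (hc : ψ.ker ≤ Subgroup.center E)
    (hrow : ∀ (i j k : Fin n) (hij : i ≠ j) (hik : i ≠ k) (_ : j ≠ k) (s t : K),
      CL ψ (S.T (rt i j hij) s) (S.T (rt i k hik) t))
    (i j k l : Fin n) (hij : i ≠ j) (hkl : k ≠ l) (hik : i ≠ k) (hil : i ≠ l) (hjk : j ≠ k)
    (hjl : j ≠ l) (s t : K) :
    cl ψ hψ (S.T (rt k l hkl) t) (S.T (rt i j hij) s) =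
      cl ψ hψ (S.T (rt i l hil) (-(s * t))) (S.T (rt k j hjk.symm) 1) := by
  obtain ⟨x, hx⟩ := hψ (S.T (rt i k hik) s)
  obtain ⟨y, hy⟩ := hψ (S.T (rt k j hjk.symm) 1)
  obtain ⟨z, hz⟩ := hψ (S.T (rt k l hkl) t)
  have hcimg : ψ ⁅x, y⁆ = S.T (rt i j hij) s := by
    rw [map_commutatorElement, hx, hy, S.chev' i k j hik hjk.symm hij, mul_one]
  have hw : ψ ⁅z, x⁆ = S.T (rt i l hil) (-(s * t)) := by
    rw [map_commutatorElement, hz, hx, ← commutatorElement_inv, S.chev' i k l hik hkl hil,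
      S.T_neg]
  have hzy : Commute z y := hrow k l j hkl hjk.symm hjl.symm t 1 z y hz hy
  have hwc : Commute ⁅z, x⁆ ⁅x, y⁆ :=
    hrow i l j hil hij hjl.symm (-(s * t)) s _ _ hw hcimg
  have hwy : ⁅⁅z, x⁆, y⁆ ∈ Subgroup.center E := by
    apply comm_mem_center_of_map ψ hc
    rw [hw, hy]
    exact S.comm _ _ _ _ hij hkl.symm
  rw [← cl_eq ψ hψ hc hz hcimg, ← cl_eq ψ hψ hc hw hy]
  exact RS.comm_swap hzy hwc hwy

end Cfsg.Agent.S2086P
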