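import Mathlib
import Cfsg.Agent.Helper2.S2400.Defs

set_option autoImplicit false
set_option linter.unusedSectionVars false
set_option linter.unusedVariables false

/-! S2400, piece REL2: the relation `⁅Y k t, Y (k + 2s) u⁆ = Y (k + s) (2 e3 t u)` for a
torus-equivariant additive family of lifts, by the torus argument. -/

namespace Cfsg.Agent.S2400P

open scoped commutatorElement
open Cfsg.Lie Cfsg.Agent.Helper2.Stb Cfsg.Agent.Helper2.StPerf Cfsg.Agent.Helper2.Stein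
open Cfsg.Agent.S2086P (CL cl map_cl cl_eq commute_comm CL_of_comm)

variable {K : Type*} [Field K] {G : Type*} [Group G] {E : Type*} [Group E]

namespace REL2

theorem Y_zero {S : B2C K G} {ψ : E →* G} {Y : ZMod 8 → K → E} (hY : Lift S ψ Y) (k : ZMod 8) :
    Y k 0 = 1 := by
  have h := hY.add k 0 0
  rw [add_zero] at h
  exact mul_eq_left.mp h

theorem Y_neg {S : B2C K G} {ψ : E →* G} {Y : ZMod 8 → K → E} (hY : Lift S ψ Y) (k : ZMod 8)
    (t : K) : Y k (-t) = (Y k t)⁻¹ := by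
  apply eq_inv_of_mul_eq_one_left
  rw [hY.add, neg_add_cancel, Y_zero hY]

theorem Y_comm {S : B2C K G} {ψ : E →* G} {Y : ZMod 8 → K → E} (hY : Lift S ψ Y) (k : ZMod 8)
    (t u : K) : Commute (Y k t) (Y k u) := by
  show Y k t * Y k u = Y k u * Y k t
  rw [hY.add, hY.add, add_comm]

/-- adjacent root subgroups have commuting lifts (in either order) -/
theorem adj {S : B2C K G} {ψ : E →* G} (h45 : ∀ k, CLr S ψ k (k + 1)) (a b : ZMod 8)
    (h : b = a + 1 ∨ a = b + 1) : CLr S ψ a b := by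
  rcases h with h | h
  · rw [h]; exact h45 a
  · have := (h45 b).symm
    rw [← h] at this
    exact this

theorem conj_comm (g a b : E) : g * ⁅a, b⁆ * g⁻¹ = ⁅g * a * g⁻¹, g * b * g⁻¹⁆ := by
  simp only [commutatorElement_def]; group

theorem conj_mul_inv (g a b : E) : g * (a * b⁻¹) * g⁻¹ = (g * a * g⁻¹) * (g * b * g⁻¹)⁻¹ := by
  group

theorem aux_add {A A' B B' : E} (hz : A * B⁻¹ ∈ Subgroup.center E) (hB : Commute B B') :
    A' * A * (B * B')⁻¹ = (A * B⁻¹) * (A' * B'⁻¹) := by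
  rw [hB.eq, mul_inv_rev]
  have h := Subgroup.mem_center_iff.mp hz A'
  calc A' * A * (B⁻¹ * B'⁻¹) = (A' * (A * B⁻¹)) * B'⁻¹ := by group
    _ = (A * B⁻¹) * A' * B'⁻¹ := by rw [h]
    _ = _ := by group

/-- the abstract form of REL2 -/
theorem relII_abs (S : B2C K G) (ψ : E →* G) (hψ : Function.Surjective ψ)
    (hc : ψ.ker ≤ Subgroup.center E) {v : K} (hv0 : v ≠ 0)
    {Y : ZMod 8 → K → E} (hY : Lift S ψ Y) {p q r i : ZMod 8} {c : K} {n : ℤ}
    (hvn : v ^ n ≠ 1)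
    (hrel : ∀ t u, ⁅S.X p t, S.X q u⁆ = S.X r (c * t * u))
    (hpr : CLr S ψ p r) (h1 : cA i p = n) (h2 : cA i q = 0) (h3 : cA i r = n) (t u : K) :
    ⁅Y p t, Y q u⁆ = Y r (c * t * u) := by
  obtain ⟨g, hg⟩ := hψ (S.H i v)
  have hz : ∀ t, ⁅Y p t, Y q u⁆ * (Y r (c * t * u))⁻¹ ∈ Subgroup.center E := by
    intro t
    apply hc
    rw [MonoidHom.mem_ker, map_mul, map_inv, map_commutatorElement, hY.map, hY.map, hY.map,
      hrel, mul_inv_cancel]
  have hadd : ∀ t t', ⁅Y p (t + t'), Y q u⁆ * (Y r (c * (t + t') * u))⁻¹ =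
      (⁅Y p t, Y q u⁆ * (Y r (c * t * u))⁻¹) * (⁅Y p t', Y q u⁆ * (Y r (c * t' * u))⁻¹) := by
    intro t t'
    have hcm : Commute (Y p t) ⁅Y p t', Y q u⁆ := by
      apply hpr t (c * t' * u) _ _ (hY.map p t)
      rw [map_commutatorElement, hY.map, hY.map, hrel]
    have e1 : ⁅Y p (t + t'), Y q u⁆ = ⁅Y p t', Y q u⁆ * ⁅Y p t, Y q u⁆ := by
      rw [← hY.add]
      have : ⁅Y p t * Y p t', Y q u⁆ =
          Y p t * ⁅Y p t', Y q u⁆ * (Y p t)⁻¹ * ⁅Y p t, Y q u⁆ := by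
        simp only [commutatorElement_def]; group
      rw [this, hcm.eq, mul_inv_cancel_right]
    have e2 : Y r (c * (t + t') * u) = Y r (c * t * u) * Y r (c * t' * u) := by
      rw [hY.add]; congr 1; ring
    rw [e1, e2]
    exact aux_add (hz t) (Y_comm hY r _ _)
  have hscale : ∀ t, ⁅Y p (v ^ n * t), Y q u⁆ * (Y r (c * (v ^ n * t) * u))⁻¹ =
      ⁅Y p t, Y q u⁆ * (Y r (c * t * u))⁻¹ := by
    intro t
    have hcen := Subgroup.mem_center_iff.mp (hz t) g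
    have e0 : g * (⁅Y p t, Y q u⁆ * (Y r (c * t * u))⁻¹) * g⁻¹ =
        ⁅Y p t, Y q u⁆ * (Y r (c * t * u))⁻¹ := by
      rw [hcen, mul_inv_cancel_right]
    rw [conj_mul_inv, conj_comm, hY.conj g i v hv0 hg, hY.conj g i v hv0 hg,
      hY.conj g i v hv0 hg, h1, h2, h3, zpow_zero, one_mul] at e0
    rw [← e0]
    congr 3
    ring
  have key := mul_eq_one_of_scale
    (fun t => ⁅Y p t, Y q u⁆ * (Y r (c * t * u))⁻¹) hadd (c := v ^ n)
    (sub_ne_zero.mpr hvn) hscale t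
  exact mul_inv_eq_one.mp key

theorem cA_facts : ∀ k s : ZMod 8, IsS k → (s = 1 ∨ s = -1) →
    cA k k = 2 ∧ cA k (k + 2 * s) = 0 ∧ cA k (k + s) = 2 ∧ (k + s = k + 1 ∨ k = k + s + 1) := by
  decide

end REL2

theorem relII_of_sq (S : B2C K G) (ψ : E →* G) (hψ : Function.Surjective ψ)
    (hc : ψ.ker ≤ Subgroup.center E) {v : K} (hv0 : v ≠ 0) (hv2 : v ^ 2 ≠ 1)
    {Y : ZMod 8 → K → E} (hY : Lift S ψ Y) (h45 : ∀ k, CLr S ψ k (k + 1)) (k : ZMod 8)
    (hk : IsS k) (s : ZMod 8) (hs : s = 1 ∨ s = -1) (t u : K) :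
    ⁅Y k t, Y (k + 2 * s) u⁆ = Y (k + s) (2 * S.e3 k s * t * u) := by
  obtain ⟨f1, f2, f3, f4⟩ := REL2.cA_facts k s hk hs
  have hvn : v ^ (2 : ℤ) ≠ 1 := by
    rw [zpow_ofNat]; exact hv2
  exact REL2.relII_abs S ψ hψ hc hv0 hY hvn (S.circ.relII k hk s hs) (REL2.adj h45 _ _ f4)
    f1 f2 f3 t u

end Cfsg.Agent.S2400P
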