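import Mathlib
import Cfsg.Agent.Helper2.S2400.Defs
import Cfsg.Agent.Helper26.S2400REL2

set_option autoImplicit false
set_option linter.unusedSectionVars false
set_option linter.unusedVariables false

/-! S2400, piece REL1: the relation
`⁅Y k t, Y (k + 3s) u⁆ = Y (k + 2s) (e1 t u) * Y (k + s) (e2 t² u)` for a torus-equivariant
additive family of lifts satisfying the relations `relII`, by twisted additivity and the torus
argument. -/

namespace Cfsg.Agent.S2400P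

open scoped commutatorElement
open Cfsg.Lie Cfsg.Agent.Helper2.Stb Cfsg.Agent.Helper2.StPerf Cfsg.Agent.Helper2.Stein
open Cfsg.Agent.S2086P (CL cl map_cl cl_eq commute_comm CL_of_comm)

variable {K : Type*} [Field K] {G : Type*} [Group G] {E : Type*} [Group E]

namespace REL1

open REL2

theorem reorder {M P' Q' P Q : E} (hMP' : Commute M P') (hQ'P : Commute Q' P)
    (hMP : Commute M P) : M * P' * Q' * (P * Q) = P' * P * (M * Q' * Q) := by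
  calc M * P' * Q' * (P * Q) = P' * (M * (Q' * P)) * Q := by rw [hMP'.eq]; group
    _ = P' * (M * (P * Q')) * Q := by rw [hQ'P.eq]
    _ = P' * ((M * P) * Q') * Q := by group
    _ = P' * ((P * M) * Q') * Q := by rw [hMP.eq]
    _ = _ := by group

theorem conj_eq_comm_mul (a y : E) : a * y * a⁻¹ = ⁅a, y⁆ * y := by
  rw [commutatorElement_def]; group

/-- pure group theory: the twisted additivity of the central defect -/
theorem aux_add {W W' a R' z' zz R3 : E} (hz : W * zz⁻¹ ∈ Subgroup.center E)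
    (hz' : z' ∈ Subgroup.center E) (hW' : W' = z' * R') (hN : a * R' * a⁻¹ * zz = R3) :
    a * W' * a⁻¹ * W * R3⁻¹ = (W * zz⁻¹) * z' := by
  subst hW' hN
  have h1 := Subgroup.mem_center_iff.mp hz' a
  have h2 := Subgroup.mem_center_iff.mp hz (a * R' * a⁻¹)
  calc a * (z' * R') * a⁻¹ * W * (a * R' * a⁻¹ * zz)⁻¹
      = (a * z') * R' * a⁻¹ * W * (a * R' * a⁻¹ * zz)⁻¹ := by group
    _ = (z' * a) * R' * a⁻¹ * W * (a * R' * a⁻¹ * zz)⁻¹ := by rw [h1]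
    _ = z' * ((a * R' * a⁻¹) * (W * zz⁻¹)) * (a * R' * a⁻¹)⁻¹ := by group
    _ = z' * ((W * zz⁻¹) * (a * R' * a⁻¹)) * (a * R' * a⁻¹)⁻¹ := by rw [h2]
    _ = z' * (W * zz⁻¹) := by group
    _ = _ := (Subgroup.mem_center_iff.mp hz' _).symm

/-- the abstract form of REL1 -/
theorem relI_abs (S : B2C K G) (ψ : E →* G) (hψ : Function.Surjective ψ)
    (hc : ψ.ker ≤ Subgroup.center E) {v : K} (hv0 : v ≠ 0) (hv1 : v ≠ 1)
    {Y : ZMod 8 → K → E} (hY : Lift S ψ Y) {p q r2 r1 : ZMod 8} {c1 c2 c3 : K}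
    (hcc : c2 * 2 = c1 * c3)
    (hrel : ∀ t u, ⁅S.X p t, S.X q u⁆ = S.X r2 (c1 * t * u) * S.X r1 (c2 * t ^ 2 * u))
    (hII : ∀ t w, ⁅Y p t, Y r2 w⁆ = Y r1 (c3 * t * w))
    (hp1 : CLr S ψ p r1) (h21 : CLr S ψ r2 r1)
    (h1 : cA r1 p = 1) (h2 : cA r1 q = 0) (h3 : cA r1 r2 = 1) (h4 : cA r1 r1 = 2) (t u : K) :
    ⁅Y p t, Y q u⁆ = Y r2 (c1 * t * u) * Y r1 (c2 * t ^ 2 * u) := by
  obtain ⟨g, hg⟩ := hψ (S.H r1 v)
  have hz : ∀ t, ⁅Y p t, Y q u⁆ * (Y r2 (c1 * t * u) * Y r1 (c2 * t ^ 2 * u))⁻¹ ∈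
      Subgroup.center E := by
    intro t
    apply hc
    rw [MonoidHom.mem_ker, map_mul, map_inv, map_commutatorElement, map_mul, hY.map, hY.map,
      hY.map, hY.map, hrel, mul_inv_cancel]
  have c21 : ∀ w w', Commute (Y r2 w) (Y r1 w') := fun w w' =>
    h21 w w' _ _ (hY.map r2 w) (hY.map r1 w')
  have cp1 : ∀ w w', Commute (Y p w) (Y r1 w') := fun w w' =>
    hp1 w w' _ _ (hY.map p w) (hY.map r1 w')
  have hadd : ∀ t t', ⁅Y p (t + t'), Y q u⁆ *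
        (Y r2 (c1 * (t + t') * u) * Y r1 (c2 * (t + t') ^ 2 * u))⁻¹ =
      (⁅Y p t, Y q u⁆ * (Y r2 (c1 * t * u) * Y r1 (c2 * t ^ 2 * u))⁻¹) *
        (⁅Y p t', Y q u⁆ * (Y r2 (c1 * t' * u) * Y r1 (c2 * t' ^ 2 * u))⁻¹) := by
    intro t t'
    have e1 : ⁅Y p (t + t'), Y q u⁆ =
        Y p t * ⁅Y p t', Y q u⁆ * (Y p t)⁻¹ * ⁅Y p t, Y q u⁆ := by
      rw [← hY.add]
      simp only [commutatorElement_def]; group
    rw [e1]
    refine aux_add (R' := Y r2 (c1 * t' * u) * Y r1 (c2 * t' ^ 2 * u)) (hz t) (hz t') (by group) ?_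
    -- a * R' * a⁻¹ * R = R (t + t')
    have ea : Y p t * (Y r2 (c1 * t' * u) * Y r1 (c2 * t' ^ 2 * u)) * (Y p t)⁻¹ =
        Y r1 (c3 * t * (c1 * t' * u)) * Y r2 (c1 * t' * u) * Y r1 (c2 * t' ^ 2 * u) := by
      have e2 : Y p t * (Y r2 (c1 * t' * u) * Y r1 (c2 * t' ^ 2 * u)) * (Y p t)⁻¹ =
          (Y p t * Y r2 (c1 * t' * u) * (Y p t)⁻¹) *
            (Y p t * Y r1 (c2 * t' ^ 2 * u) * (Y p t)⁻¹) := by group
      rw [e2, conj_eq_comm_mul, hII, (cp1 t (c2 * t' ^ 2 * u)).eq, mul_inv_cancel_right]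
    rw [ea, reorder (c21 _ _).symm (c21 _ _).symm (c21 _ _).symm, hY.add, hY.add, hY.add]
    congr 2
    · ring
    · have : c3 * t * (c1 * t' * u) = c2 * 2 * t * t' * u := by rw [hcc]; ring
      rw [this]; ring
  have hscale : ∀ t, ⁅Y p (v * t), Y q u⁆ *
        (Y r2 (c1 * (v * t) * u) * Y r1 (c2 * (v * t) ^ 2 * u))⁻¹ =
      ⁅Y p t, Y q u⁆ * (Y r2 (c1 * t * u) * Y r1 (c2 * t ^ 2 * u))⁻¹ := by
    intro t
    have hcen := Subgroup.mem_center_iff.mp (hz t) g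
    have e0 : g * (⁅Y p t, Y q u⁆ * (Y r2 (c1 * t * u) * Y r1 (c2 * t ^ 2 * u))⁻¹) * g⁻¹ =
        ⁅Y p t, Y q u⁆ * (Y r2 (c1 * t * u) * Y r1 (c2 * t ^ 2 * u))⁻¹ := by
      rw [hcen, mul_inv_cancel_right]
    have e3 : g * (Y r2 (c1 * t * u) * Y r1 (c2 * t ^ 2 * u)) * g⁻¹ =
        (g * Y r2 (c1 * t * u) * g⁻¹) * (g * Y r1 (c2 * t ^ 2 * u) * g⁻¹) := by group
    rw [conj_mul_inv, conj_comm, e3, hY.conj g r1 v hv0 hg, hY.conj g r1 v hv0 hg,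
      hY.conj g r1 v hv0 hg, hY.conj g r1 v hv0 hg, h1, h2, h3, h4, zpow_zero, one_mul,
      zpow_one] at e0
    rw [← e0]
    congr 4
    · ring
    · rw [zpow_ofNat]; ring
  have key := mul_eq_one_of_scale
    (fun t => ⁅Y p t, Y q u⁆ * (Y r2 (c1 * t * u) * Y r1 (c2 * t ^ 2 * u))⁻¹) hadd (c := v)
    (sub_ne_zero.mpr hv1) hscale t
  exact mul_inv_eq_one.mp key

theorem cA_facts : ∀ k s : ZMod 8, IsS k → (s = 1 ∨ s = -1) →
    cA (k + s) k = 1 ∧ cA (k + s) (k + 3 * s) = 0 ∧ cA (k + s) (k + 2 * s) = 1 ∧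
      cA (k + s) (k + s) = 2 ∧ (k + s = k + 1 ∨ k = k + s + 1) ∧
      (k + s = k + 2 * s + 1 ∨ k + 2 * s = k + s + 1) := by
  decide

end REL1

theorem relI_of_relII (S : B2C K G) (ψ : E →* G) (hψ : Function.Surjective ψ)
    (hc : ψ.ker ≤ Subgroup.center E) {v : K} (hv0 : v ≠ 0) (hv1 : v ≠ 1)
    {Y : ZMod 8 → K → E} (hY : Lift S ψ Y) (h45 : ∀ k, CLr S ψ k (k + 1))
    (hII : ∀ k, IsS k → ∀ s : ZMod 8, s = 1 ∨ s = -1 → ∀ t u,
      ⁅Y k t, Y (k + 2 * s) u⁆ = Y (k + s) (2 * S.e3 k s * t * u))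
    (k : ZMod 8) (hk : IsS k) (s : ZMod 8) (hs : s = 1 ∨ s = -1) (t u : K) :
    ⁅Y k t, Y (k + 3 * s) u⁆ =
      Y (k + 2 * s) (S.e1 k s * t * u) * Y (k + s) (S.e2 k s * t ^ 2 * u) := by
  obtain ⟨f1, f2, f3, f4, f5, f6⟩ := REL1.cA_facts k s hk hs
  have hcc : S.e2 k s * 2 = S.e1 k s * (2 * S.e3 k s) := by
    rw [S.e213]; ring
  exact REL1.relI_abs S ψ hψ hc hv0 hv1 hY hcc (S.circ.relI k hk s hs) (hII k hk s hs)
    (REL2.adj h45 _ _ f5) (REL2.adj h45 _ _ f6) f1 f2 f3 f4 t u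

end Cfsg.Agent.S2400P
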