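import Mathlib
import Cfsg.Agent.Helper10.S2092.DefsT
import Cfsg.Agent.Helper2.S2400.MainB2
import Cfsg.Agent.Helper22.S2092B2CS
import Cfsg.Agent.Helper20.S2092LIFTB2

set_option autoImplicit false
set_option linter.unusedSectionVars false
set_option linter.unusedVariables false

/-! S2092, part T, piece CIRC4 (driver helper10): the circle relations for torus-equivariant lifts,
`|F| ≥ 4`. -/

namespace Cfsg.Agent.S2092P

open scoped commutatorElement
open Cfsg.Agent.S3352P Cfsg.Agent.S2096P Cfsg.Agent.S2400P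
open Cfsg.Agent.S2086P (CL cl)

variable {n : ℕ} {F : Type*} [Field F] {G : Type*} [Group G] {E : Type*} [Group E]

theorem circ_of_eLift_four [Fintype F] (hF : 4 ≤ Fintype.card F) (S : CnT n F G) (ψ : E →* G)
    (hψ : Function.Surjective ψ) (hc : ψ.ker ≤ Subgroup.center E) {Ys : J n → J n → F → E}
    {Yl : J n → F → E} (h : ELift S ψ Ys Yl) (i j : Fin n) (hij : i ≠ j) :
    Circ (cE1 F) (cE2 F) (cE3 F) (cX Ys Yl i j) := by
  classical
  obtain ⟨B, hBX, hBH, he1, he2, he3⟩ := exists_b2c_of_cnT S i j hij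
  obtain ⟨v, hv0, hv2⟩ := exists_sq_ne_one hF
  have hv1 : v ≠ 1 := by
    intro h1; apply hv2; rw [h1]; ring
  have hY : Lift B ψ (cX Ys Yl i j) := lift_of_eLift S ψ h i j hij B hBX hBH
  have h45 := clr_45 B ψ hψ hc hv0 hv1
  have hLL := clr_LL_of_sq B ψ hψ hc hv0 hv2
  have hII := relII_of_sq B ψ hψ hc hv0 hv2 hY h45
  have hI := relI_of_relII B ψ hψ hc hv0 hv1 hY h45 hII
  have hcirc := circ_of_lift B ψ hY h45 hLL hII hI
  rw [he1, he2, he3] at hcirc
  exact hcirc

end Cfsg.Agent.S2092P
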