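import Mathlib
import Cfsg.Agent.Helper10.S2092.DefsT
import Cfsg.Agent.Helper2.S2400.MainB2
import Cfsg.Agent.Helper23.S2092GEN
import Cfsg.Agent.Helper23.S2092POS
import Cfsg.Agent.Helper22.S2092B2CS
import Cfsg.Agent.Helper22.S2092CIRC2REL
import Cfsg.Agent.Helper19.S2092CLSAME
import Cfsg.Agent.Helper19.S2092ELIFTS

set_option autoImplicit false
set_option linter.unusedSectionVars false
set_option linter.unusedVariables false

/-! S2092, part T, piece ELIFT4 (driver helper10): the canonical lifts, including the long roots,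
for a torus parameter `v` with `v ^ 2 ≠ 1`. -/

namespace Cfsg.Agent.S2092P

open scoped commutatorElement
open Cfsg.Agent.S3352P Cfsg.Agent.S2096P Cfsg.Agent.S2400P
open Cfsg.Agent.S2086P (CL cl)

variable {n : ℕ} {F : Type*} [Field F] {G : Type*} [Group G] {E : Type*} [Group E]

namespace ELIFT4

/-- the value of the character of `a` on the torus parameter `dOne (ab a) v` -/
theorem chi_dOne_self (v : Fˣ) (a : J n) :
    chi (dOne (ab a) v) a = ((v : Fˣ) : F) ∨ chi (dOne (ab a) v) a = (((v : Fˣ) : F))⁻¹ := by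
  cases a with
  | inl i =>
    left
    rw [chi_dOne_inl]
    have : ab (Sum.inl i : J n) = i := rfl
    rw [this, if_pos rfl]
  | inr i =>
    right
    have : ab (Sum.inr i : J n) = i := rfl
    rw [this, chi_inr]
    unfold dOne
    rw [if_pos rfl]
    simp

theorem chi_dOne_self_sq_ne (v : Fˣ) (hv : ((v : Fˣ) : F) ^ 2 ≠ 1) (a : J n) :
    chi (dOne (ab a) v) a ^ 2 ≠ 1 := by
  rcases chi_dOne_self v a with h | h
  · rw [h]; exact hv
  · rw [h, inv_pow]
    intro h1
    apply hv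
    have := inv_eq_one.1 h1
    exact this

/-- same-root `CL` for the long roots (own copy, from helper19's `CLSAME.clr_same`) -/
theorem cl_same_l' [Fintype F] (hF : 3 ≤ Fintype.card F) (hn : 2 ≤ n) (S : CnT n F G) (ψ : E →* G)
    (hψ : Function.Surjective ψ) (hc : ψ.ker ≤ Subgroup.center E) (a : J n)
    (s t : F) : CL ψ (S.Xl a s) (S.Xl a t) := by
  obtain ⟨j, hj⟩ := exists_ne_fin hn (ab a)
  obtain ⟨k, ε, -, -, hk⟩ := exists_cX_l S.Xs S.Xl a j
  obtain ⟨B, hBX, -, -, -, -⟩ := exists_b2c_of_cnT S (ab a) j (Ne.symm hj)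
  have h := CLSAME.clr_same hF B ψ hψ hc k (ε * s) (ε * t)
  rw [hBX] at h
  rw [hk s, hk t]
  exact h

end ELIFT4

theorem eLift_canon [Fintype F] (hF : 3 ≤ Fintype.card F) (hn : 2 ≤ n) (S : CnT n F G) (ψ : E →* G)
    (hψ : Function.Surjective ψ) (hc : ψ.ker ≤ Subgroup.center E) (v : Fˣ)
    (hv : ((v : Fˣ) : F) ^ 2 ≠ 1) : ELift S ψ (cYs S ψ hψ v) (cYl S ψ hψ v) := by
  have hv1 : ((v : Fˣ) : F) ≠ 1 := by
    intro h1; apply hv; rw [h1]; ring
  have hS := eLiftS_canon hF S ψ hψ hc v hv1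
  have hrel := cRel_of_cRelC hn S.rel
  have hadd : ∀ a, ∀ s t : F, S.Xl a (s + t) = S.Xl a s * S.Xl a t := hrel.addl
  have hg : ∀ a, ∀ t : F, S.H (dOne (ab a) v) * S.Xl a t * (S.H (dOne (ab a) v))⁻¹ =
      S.Xl a (chi (dOne (ab a) v) a ^ 2 * t) := fun a t => S.conjl _ a t
  refine ⟨hS.maps, ?_, hS.adds, ?_, hS.conjs, ?_, hS.flip⟩
  · intro a t
    exact map_sec ψ hψ (hadd a) (hg a) (ELIFT4.chi_dOne_self_sq_ne v hv a) t
  · intro a s t
    exact sec_add ψ hψ hc (hadd a) (hg a) (ELIFT4.chi_dOne_self_sq_ne v hv a)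
      (ELIFT4.cl_same_l' hF hn S ψ hψ hc a) s t
  · intro e d he a t
    apply sec_conj ψ hψ hc
    · rw [he]
      show S.H d * S.H (dOne (ab a) v) = S.H (dOne (ab a) v) * S.H d
      rw [← map_mul, ← map_mul, mul_comm]
    · intro t'
      rw [he]
      exact S.conjl d a t'

end Cfsg.Agent.S2092P
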