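import Mathlib
import Cfsg.Agent.Helper13.S2276Defs

/-! # S2276 piece ROT: the rotation of `Fin (a+1+(t+1))` from the glued rotations -/

set_option autoImplicit false

namespace Cfsg.Agent.S2276P

open Equiv Equiv.Perm

theorem ROT.glue_castAdd {a b : ℕ} (x : Perm (Fin a)) (y : Perm (Fin b)) (i : Fin a) :
    glue x y (Fin.castAdd b i) = Fin.castAdd b (x i) := by
  simp [glue, Equiv.permCongr_apply]

theorem ROT.glue_natAdd {a b : ℕ} (x : Perm (Fin a)) (y : Perm (Fin b)) (i : Fin b) :
    glue x y (Fin.natAdd a i) = Fin.natAdd a (y i) := by
  simp [glue, Equiv.permCongr_apply]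

/-- the value of a rotated point -/
theorem ROT.val_rot (m : ℕ) (i : Fin (m + 1)) :
    ((finRotate (m + 1)) i : ℕ) = if (i : ℕ) = m then 0 else (i : ℕ) + 1 := by
  rw [coe_finRotate]
  simp [Fin.ext_iff]

/-- ROT [S-M]: the rotation of `Fin (a+1+(t+1))` is the glued rotations followed by the swap of the two
block starts. -/
theorem ROT.main (a t : ℕ) :
    finRotate (a + 1 + (t + 1)) =
      swap (Fin.castAdd (t + 1) (0 : Fin (a + 1))) (Fin.natAdd (a + 1) (0 : Fin (t + 1))) *
        glue (finRotate (a + 1)) (finRotate (t + 1)) := by
  ext i
  rw [Perm.mul_apply]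
  refine (ROT.val_rot (a + 1 + t) i).trans ?_
  induction i using Fin.addCases with
  | left j =>
    rw [ROT.glue_castAdd]
    by_cases hj : j = Fin.last a
    · subst hj
      rw [finRotate_last, swap_apply_left]
      simp only [Fin.val_castAdd, Fin.val_last, Fin.val_natAdd, Fin.val_zero]
      rw [if_neg (by omega)]
    · have hjlt : j.val < a :=
        lt_of_le_of_ne (Nat.lt_succ_iff.mp j.isLt) (fun h => hj (Fin.ext h))
      have hval : ((finRotate (a + 1)) j : ℕ) = j.val + 1 := by
        rw [ROT.val_rot, if_neg (by omega)]
      generalize (finRotate (a + 1)) j = w at hval ⊢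
      rw [swap_apply_of_ne_of_ne]
      · simp only [Fin.val_castAdd]
        rw [if_neg (by omega), hval]
      · intro h
        have := congrArg Fin.val h
        simp only [Fin.val_castAdd, Fin.val_zero] at this
        omega
      · intro h
        have := congrArg Fin.val h
        simp only [Fin.val_castAdd, Fin.val_natAdd, Fin.val_zero] at this
        omega
  | right j =>
    rw [ROT.glue_natAdd]
    by_cases hj : j = Fin.last t
    · subst hj
      rw [finRotate_last, swap_apply_right]
      simp only [Fin.val_castAdd, Fin.val_last, Fin.val_natAdd, Fin.val_zero]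
      rw [if_pos trivial]
    · have hjlt : j.val < t :=
        lt_of_le_of_ne (Nat.lt_succ_iff.mp j.isLt) (fun h => hj (Fin.ext h))
      have hval : ((finRotate (t + 1)) j : ℕ) = j.val + 1 := by
        rw [ROT.val_rot, if_neg (by omega)]
      generalize (finRotate (t + 1)) j = w at hval ⊢
      rw [swap_apply_of_ne_of_ne]
      · simp only [Fin.val_natAdd]
        rw [if_neg (by omega), hval]
        omega
      · intro h
        have := congrArg Fin.val h
        simp only [Fin.val_castAdd, Fin.val_natAdd, Fin.val_zero] at this
        omega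
      · intro h
        have := congrArg Fin.val h
        simp only [Fin.val_natAdd, Fin.val_zero] at this
        omega

end Cfsg.Agent.S2276P
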