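import Mathlib
import Cfsg.Prelude.Def_Classical
import Cfsg.Agent.Helper13.S2511Defs
import Cfsg.Agent.S2495
import Cfsg.Agent.Helper19.S2264RECIP1

/-! S2511 piece CHARDAG: the characteristic polynomial of a unitary matrix is `dag`-stable. -/

set_option autoImplicit false

namespace Cfsg.Agent.S2511P

open Polynomial Matrix
open Cfsg.Agent.S2263P Cfsg.Agent.S2264P Cfsg.Agent.S2496P

namespace CHARDAG

/-- the characteristic polynomial of the inverse (own copy, so that this file does not wait for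
piece CHARINV) -/
theorem charpoly_inv_aux {K : Type*} [Field K] {n : ℕ} (A : Matrix (Fin n) (Fin n) K)
    (hA : IsUnit A.det) : A⁻¹.charpoly = recip A.charpoly := by
  have hAu : IsUnit A := (Matrix.isUnit_iff_isUnit_det A).2 hA
  have hd : A.det ≠ 0 := hA.ne_zero
  rw [Matrix.charpoly_inv A hAu, ← Matrix.reverse_charpoly]
  unfold recip
  have h1 := Matrix.det_eq_sign_charpoly_coeff A
  have h2 : A.charpoly.coeff 0 = (-1) ^ Fintype.card (Fin n) * A.det := by
    rw [h1, ← mul_assoc, ← mul_pow]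
    simp
  rw [h2, Ring.inverse_eq_inv', mul_inv, ← inv_pow, inv_neg_one, C_mul, C_pow, C_neg, C_1]

end CHARDAG

theorem charpoly_dag {F : Type*} [Field F] {n : ℕ} (σ : F ≃+* F) (hσ2 : ∀ x, σ (σ x) = x)
    (A : Matrix (Fin n) (Fin n) F) (hA : Aᵀ * A.map (σ : F →+* F) = 1) :
    dag σ A.charpoly = A.charpoly := by
  have hdetT : IsUnit Aᵀ.det := by
    have := congrArg Matrix.det hA
    rw [Matrix.det_mul, Matrix.det_one] at this
    exact IsUnit.of_mul_eq_one _ this
  have hmap : A.map (σ : F →+* F) = (Aᵀ)⁻¹ := (Matrix.inv_eq_right_inv hA).symm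
  have h0 : A.charpoly.coeff 0 ≠ 0 := by
    intro h
    have h1 := Matrix.det_eq_sign_charpoly_coeff A
    rw [h, mul_zero] at h1
    rw [Matrix.det_transpose, h1] at hdetT
    exact not_isUnit_zero hdetT
  unfold dag
  rw [← Matrix.charpoly_map, hmap, CHARDAG.charpoly_inv_aux Aᵀ hdetT, Matrix.charpoly_transpose,
    recip_recip (Matrix.charpoly_monic A) h0]

end Cfsg.Agent.S2511P
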