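import Mathlib
import Cfsg.Prelude.Def_LieClassical
import Cfsg.Agent.Helper29.S2263Defs
import Cfsg.Agent.Helper19.S2264RECIP1
import Cfsg.Agent.S2495

/-! S2263, piece FACA: for a monic irreducible `φ` over `F` (`|F| = q²`) with `φ(0) ≠ 0` and
`w = wq q (2 deg φ) = (q^(2 deg φ) - 1)/(q + 1)`: `φ ∣ X^w - C c` and `dag σ φ ∣ X^w - C c` for a
common `c` with `c^(q+1) = 1`. -/

set_option autoImplicit false

namespace Cfsg.Agent.S2263P

open Polynomial
open Cfsg.Agent.S2264P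

namespace FACA

section

variable {F : Type*} [Field F]

theorem reverse_X_pow_sub_C {w : ℕ} (hw : 1 ≤ w) (d : F) :
    (X ^ w - C d : F[X]).reverse = 1 - C d * X ^ w := by
  ext n
  rw [coeff_reverse, natDegree_X_pow_sub_C, coeff_sub, coeff_sub, coeff_X_pow,
    coeff_C, coeff_one, coeff_C_mul, coeff_X_pow]
  by_cases hn : n ≤ w
  · rw [revAt_le hn]
    by_cases h0 : n = 0
    · subst h0
      have h1 : w - 0 = w := by omega
      have h2 : ¬ (w = 0) := by omega
      have h3 : ¬ ((0 : ℕ) = w) := by omega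
      simp [h1, h2, h3]
    · by_cases h1 : n = w
      · subst h1
        have h3 : ¬ ((0 : ℕ) = n) := by omega
        simp [h0, h3]
      · have h2 : ¬ (w - n = w) := by omega
        have h3 : ¬ (w - n = 0) := by omega
        simp [h0, h1, h2, h3]
  · have hn' : w < n := by omega
    rw [revAt_eq_self_of_lt hn']
    have h1 : ¬ (n = w) := by omega
    have h2 : ¬ (n = 0) := by omega
    simp [h1, h2]

theorem recip_X_pow_sub_C {w : ℕ} (hw : 1 ≤ w) {d : F} (hd : d ≠ 0) :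
    recip (X ^ w - C d : F[X]) = X ^ w - C d⁻¹ := by
  unfold recip
  rw [reverse_X_pow_sub_C hw]
  have h0 : (X ^ w - C d : F[X]).coeff 0 = -d := by
    rw [coeff_sub, coeff_X_pow, coeff_C_zero]
    have : ¬ ((0 : ℕ) = w) := by omega
    simp [this]
  rw [h0, mul_sub, mul_one, ← mul_assoc, ← C_mul, inv_neg, neg_mul, inv_mul_cancel₀ hd]
  simp only [map_neg, C_1, neg_mul, one_mul, sub_neg_eq_add]
  ring

end

section

variable {F : Type*} [Field F] [Fintype F] {q : ℕ}

theorem two_le_q (hF : Fintype.card F = q ^ 2) : 2 ≤ q := by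
  have h1 : 1 < Fintype.card F := Fintype.one_lt_card
  rw [hF] at h1
  by_contra hcon
  have : q ≤ 1 := by omega
  have : q ^ 2 ≤ 1 := by nlinarith
  omega

/-- the class of `X^w` in `F[X]/(φ)` is a scalar `c` with `c^(q+1) = 1` as soon as
`X^((q+1) w) ≡ 1` -/
theorem exists_scalar (hF : Fintype.card F = q ^ 2) {φ : F[X]} (hirr : Irreducible φ)
    (hm : φ.Monic) (w : ℕ) (h : φ ∣ X ^ ((q + 1) * w) - 1) :
    ∃ c : F, c ^ (q + 1) = 1 ∧ φ ∣ X ^ w - C c := by
  classical
  have hfact : Fact (Irreducible φ) := ⟨hirr⟩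
  have hq := two_le_q hF
  have hmf : Module.Finite F (AdjoinRoot φ) := hm.finite_adjoinRoot
  have hfinK : Finite (AdjoinRoot φ) := Module.finite_of_finite F
  set α : AdjoinRoot φ := AdjoinRoot.root φ with hα
  have hpow : α ^ ((q + 1) * w) = 1 := by
    have h1 : AdjoinRoot.mk φ (X ^ ((q + 1) * w) - 1) = 0 := AdjoinRoot.mk_eq_zero.mpr h
    rw [map_sub, map_pow, AdjoinRoot.mk_X, map_one, sub_eq_zero] at h1
    exact h1
  have hc' : (α ^ w) ^ (Fintype.card F - 1) = 1 := by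
    rw [hF]
    have : q ^ 2 - 1 = (q + 1) * (q - 1) := by
      obtain ⟨k, rfl⟩ : ∃ k, q = k + 1 := ⟨q - 1, by omega⟩
      have : (k + 1) ^ 2 = (k + 1 + 1) * k + 1 := by ring
      simp only [Nat.add_sub_cancel]
      omega
    rw [this, ← pow_mul, ← mul_assoc, mul_comm w, pow_mul, hpow, one_pow]
  obtain ⟨c, hc⟩ := Cfsg.Agent.S2495.mem_range_of_pow (F := F) (α ^ w) hc'
  have hcq : c ^ (q + 1) = 1 := by
    apply (algebraMap F (AdjoinRoot φ)).injective
    rw [map_pow, hc, ← pow_mul, mul_comm, hpow, map_one]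
  refine ⟨c, hcq, ?_⟩
  rw [← AdjoinRoot.mk_eq_zero, map_sub, map_pow, AdjoinRoot.mk_X, AdjoinRoot.mk_C,
    ← AdjoinRoot.algebraMap_eq, hc, sub_self]

theorem succ_dvd_pow_two_mul_sub_one (q a : ℕ) : q + 1 ∣ q ^ (2 * a) - 1 := by
  have h1 : q ^ 2 - 1 ∣ q ^ (2 * a) - 1 := by
    simpa only [one_pow, pow_mul] using Nat.sub_dvd_pow_sub_pow (q ^ 2) 1 a
  have h2 : q + 1 ∣ q ^ 2 - 1 := by
    rcases Nat.eq_zero_or_pos q with h | h
    · subst h; simp
    · obtain ⟨k, rfl⟩ : ∃ k, q = k + 1 := ⟨q - 1, by omega⟩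
      refine ⟨k, ?_⟩
      have : (k + 1) ^ 2 = (k + 1 + 1) * k + 1 := by ring
      omega
  exact h2.trans h1

end

end FACA

section poly

variable {F : Type*} [Field F]

variable [Fintype F] {p f q : ℕ} [Fact p.Prime]

open FACA in
/-- FACA: a pair `φ`, `dag σ φ` -/
theorem fac_pair (hF : Fintype.card F = q ^ 2) (σ : F ≃+* F) (hσ : ∀ x, σ x = x ^ q)
    {φ : F[X]} (hirr : Irreducible φ) (hm : φ.Monic) (h0 : φ.coeff 0 ≠ 0) :
    ∃ c : F, c ^ (q + 1) = 1 ∧ φ ∣ X ^ (wq q (2 * φ.natDegree)) - C c ∧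
      dag σ φ ∣ X ^ (wq q (2 * φ.natDegree)) - C c := by
  classical
  have hfact : Fact (Irreducible φ) := ⟨hirr⟩
  have hq := two_le_q hF
  set a := φ.natDegree with ha
  have ha1 : 1 ≤ a := Irreducible.natDegree_pos hirr
  have hmf : Module.Finite F (AdjoinRoot φ) := hm.finite_adjoinRoot
  have hfinK : Finite (AdjoinRoot φ) := Module.finite_of_finite F
  have hfr : Module.finrank F (AdjoinRoot φ) = a := by
    rw [(AdjoinRoot.powerBasis hm.ne_zero).finrank, AdjoinRoot.powerBasis_dim]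
  have hfinK' := Fintype.ofFinite (AdjoinRoot φ)
  have hcardK : Fintype.card (AdjoinRoot φ) = q ^ (2 * a) := by
    rw [Module.card_eq_pow_finrank (K := F) (V := AdjoinRoot φ), hfr, hF, ← pow_mul]
  set α : AdjoinRoot φ := AdjoinRoot.root φ with hα
  have hα0 : α ≠ 0 := by
    intro h
    have h1 := AdjoinRoot.eval₂_root φ
    rw [← hα, h, Polynomial.eval₂_at_zero] at h1
    exact h0 ((AdjoinRoot.of φ).injective (h1.trans (map_zero _).symm))
  have hpow : α ^ (q ^ (2 * a) - 1) = 1 := by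
    rw [← hcardK]
    exact FiniteField.pow_card_sub_one_eq_one α hα0
  -- the exponent
  have hw : wq q (2 * a) = (q ^ (2 * a) - 1) / (q + 1) := by
    unfold wq
    rw [if_pos (even_two_mul a)]
  have hmul : (q + 1) * wq q (2 * a) = q ^ (2 * a) - 1 := by
    rw [hw]
    exact Nat.mul_div_cancel' (succ_dvd_pow_two_mul_sub_one q a)
  have hw1 : 1 ≤ wq q (2 * a) := by
    by_contra hcon
    have h0' : wq q (2 * a) = 0 := by omega
    rw [h0', mul_zero] at hmul
    have : q ^ 2 ≤ q ^ (2 * a) := Nat.pow_le_pow_right (by omega) (by omega)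
    have : 4 ≤ q ^ 2 := by nlinarith
    omega
  have hdvd : φ ∣ X ^ ((q + 1) * wq q (2 * a)) - 1 := by
    rw [← AdjoinRoot.mk_eq_zero, map_sub, map_pow, AdjoinRoot.mk_X, map_one, hmul, hpow, sub_self]
  obtain ⟨c, hcq, hc⟩ := exists_scalar hF hirr hm (wq q (2 * a)) hdvd
  refine ⟨c, hcq, hc, ?_⟩
  obtain ⟨r, hr⟩ := hc
  have hc0 : c ≠ 0 := by
    intro h
    rw [h, zero_pow (by omega)] at hcq
    exact zero_ne_one hcq
  have hσc : (σ c)⁻¹ = c := by
    rw [hσ]
    apply inv_eq_of_mul_eq_one_left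
    rw [← pow_succ', hcq]
  have hdag : dag σ (X ^ (wq q (2 * a)) - C c) = X ^ (wq q (2 * a)) - C c := by
    unfold dag
    rw [Polynomial.map_sub, Polynomial.map_pow, Polynomial.map_X, Polynomial.map_C]
    have hσ0 : (σ : F →+* F) c ≠ 0 := by
      show σ c ≠ 0
      rw [hσ]; exact pow_ne_zero _ hc0
    rw [recip_X_pow_sub_C hw1 hσ0]
    show X ^ wq q (2 * a) - C (σ c)⁻¹ = _
    rw [hσc]
  have hmulr : dag σ (X ^ (wq q (2 * a)) - C c) = dag σ φ * dag σ r := by
    rw [hr]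
    unfold dag
    rw [Polynomial.map_mul, recip_mul]
  rw [← hdag, hmulr]
  exact dvd_mul_right _ _

end poly

end Cfsg.Agent.S2263P
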