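import Mathlib
import Cfsg.Prelude.Def_LieClassical
import Cfsg.Agent.Helper29.S2263Defs
import Cfsg.Agent.Helper11.S2262USELF
import Cfsg.Agent.Helper26.S2263FACA

/-! S2263, piece FACB: a `dag`-self-dual monic irreducible `φ` over `F` (`|F| = q²`) has odd degree
`a` and `φ ∣ X^w - C c`, `w = wq q a = (q^a + 1)/(q + 1)`, `c^(q+1) = 1`. -/

set_option autoImplicit false

namespace Cfsg.Agent.S2263P

open Polynomial
open Cfsg.Agent.S2264P

section poly

variable {F : Type*} [Field F]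

variable [Fintype F] {p f q : ℕ} [Fact p.Prime]

open FACA in
/-- FACB: a `dag`-self-dual irreducible factor -/
theorem fac_selfdual (hF : Fintype.card F = q ^ 2) (σ : F ≃+* F) (hσ : ∀ x, σ x = x ^ q)
    {φ : F[X]} (hirr : Irreducible φ) (hm : φ.Monic) (hr : dag σ φ = φ) :
    Odd φ.natDegree ∧ ∃ c : F, c ^ (q + 1) = 1 ∧ φ ∣ X ^ (wq q φ.natDegree) - C c := by
  obtain ⟨hodd, hdvd⟩ := Cfsg.Agent.S2262P.uselfrec_odd hF σ hσ hirr hm hr
  refine ⟨hodd, ?_⟩
  have hw : wq q φ.natDegree = (q ^ φ.natDegree + 1) / (q + 1) := by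
    unfold wq
    rw [if_neg (Nat.not_even_iff_odd.mpr hodd)]
  have hmul : (q + 1) * wq q φ.natDegree = q ^ φ.natDegree + 1 := by
    rw [hw]
    apply Nat.mul_div_cancel'
    have := Odd.nat_add_dvd_pow_add_pow q 1 hodd
    rwa [one_pow] at this
  apply exists_scalar hF hirr hm
  rw [hmul]
  exact hdvd

end poly

end Cfsg.Agent.S2263P
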