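import Mathlib
import Cfsg.Prelude.Def_Classical
import Cfsg.Agent.Helper13.S2511Defs
import Cfsg.Agent.S2495
import Cfsg.Agent.Helper19.S2264RECIP1
import Cfsg.Agent.Helper23.S2510NORMROOT
import Cfsg.Agent.Helper26.S2263FACA
import Cfsg.Agent.Helper26.S2263FACB
import Cfsg.Agent.Helper23.S2263UPFACTS

/-! S2511 pieces ROOTI, ROOTII: the irreducible factors of the minimal polynomial of a bad element of
`SU_n(q)` divide `X^(wq q n) - 1`. -/

set_option autoImplicit false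

namespace Cfsg.Agent.S2511P

open Polynomial Matrix
open Cfsg.Agent.S2263P Cfsg.Agent.S2264P Cfsg.Agent.S2496P

namespace ROOTI

/-! own copies of the arithmetic pieces ARITHGS / ARITHWQ (so that this file does not wait for them) -/

namespace ARITHH

/-- `(q+1) * wq q s = q^s - (-1)^s` over `ℤ` -/
theorem wq_int {q : ℕ} (hq : 2 ≤ q) (s : ℕ) :
    ((q : ℤ) + 1) * (wq q s : ℤ) = (q : ℤ) ^ s - (-1) ^ s := by
  have h := wq_mul hq s
  have h1 : 1 ≤ q ^ s := Nat.one_le_pow _ _ (by omega)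
  split_ifs at h with hs
  · rw [hs.neg_one_pow]
    have : ((q + 1) * wq q s : ℕ) = ((q ^ s - 1 : ℕ) : ℤ) := by rw [h]
    rw [Nat.cast_sub h1] at this
    push_cast at this
    exact this
  · rw [(Nat.not_even_iff_odd.1 hs).neg_one_pow]
    have : ((q + 1) * wq q s : ℕ) = ((q ^ s + 1 : ℕ) : ℤ) := by rw [h]
    push_cast at this
    rw [this]; ring

theorem gs_int (q n : ℕ) : (Cfsg.Agent.S2495.gs q n : ℤ) * ((q : ℤ) - 1) = (q : ℤ) ^ n - 1 := by
  unfold Cfsg.Agent.S2495.gs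
  push_cast
  exact geom_sum_mul (q : ℤ) n

end ARITHH

theorem gs_sq_eq_aux {q : ℕ} (hq : 2 ≤ q) (d : ℕ) (hd : Odd d) :
    Cfsg.Agent.S2495.gs (q ^ 2) d = wq q d * Cfsg.Agent.S2495.gs q d := by
  have h1 := ARITHH.gs_int (q ^ 2) d
  have h2 := ARITHH.gs_int q d
  have h3 := ARITHH.wq_int hq d
  rw [hd.neg_one_pow] at h3
  push_cast at h1
  have hq1 : ((q : ℤ) - 1) ≠ 0 := by
    have : (2 : ℤ) ≤ q := by exact_mod_cast hq
    omega
  have hq2 : ((q : ℤ) + 1) ≠ 0 := by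
    have : (2 : ℤ) ≤ q := by exact_mod_cast hq
    omega
  have key : (Cfsg.Agent.S2495.gs (q ^ 2) d : ℤ) * (((q : ℤ) - 1) * ((q : ℤ) + 1)) =
      ((wq q d : ℤ) * (Cfsg.Agent.S2495.gs q d : ℤ)) * (((q : ℤ) - 1) * ((q : ℤ) + 1)) := by
    have e1 : (Cfsg.Agent.S2495.gs (q ^ 2) d : ℤ) * (((q : ℤ) - 1) * ((q : ℤ) + 1)) =
        ((q : ℤ) ^ 2) ^ d - 1 := by rw [← h1]; ring
    have e2 : ((wq q d : ℤ) * (Cfsg.Agent.S2495.gs q d : ℤ)) * (((q : ℤ) - 1) * ((q : ℤ) + 1)) =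
        ((Cfsg.Agent.S2495.gs q d : ℤ) * ((q : ℤ) - 1)) * (((q : ℤ) + 1) * (wq q d : ℤ)) := by ring
    rw [e1, e2, h2, h3]; ring
  have := mul_right_cancel₀ (mul_ne_zero hq1 hq2) key
  exact_mod_cast this

theorem gs_odd_mod_aux (q d : ℕ) (hd : Odd d) :
    Cfsg.Agent.S2495.gs q d % (q + 1) = 1 % (q + 1) := by
  obtain ⟨k, rfl⟩ := hd
  induction k with
  | zero => simp [Cfsg.Agent.S2495.gs]
  | succ k ih =>
    have h1 : Cfsg.Agent.S2495.gs q (2 * (k + 1) + 1) =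
        Cfsg.Agent.S2495.gs q (2 * k + 1) + q ^ (2 * k + 1) * (q + 1) := by
      unfold Cfsg.Agent.S2495.gs
      have : 2 * (k + 1) + 1 = (2 * k + 1) + 1 + 1 := by ring
      rw [this, Finset.sum_range_succ, Finset.sum_range_succ]
      ring
    rw [h1, Nat.add_mul_mod_self_right, ih]

theorem wq_two_mul_aux {q : ℕ} (hq : 2 ≤ q) (d : ℕ) (hd : 1 ≤ d) :
    wq q (2 * d) = Cfsg.Agent.S2495.gs (q ^ 2) d * (q - 1) := by
  have h1 := ARITHH.gs_int (q ^ 2) d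
  have h3 := ARITHH.wq_int hq (2 * d)
  rw [(even_two_mul d).neg_one_pow] at h3
  push_cast at h1
  have hq2 : ((q : ℤ) + 1) ≠ 0 := by
    have : (2 : ℤ) ≤ q := by exact_mod_cast hq
    omega
  have key : ((q : ℤ) + 1) * (wq q (2 * d) : ℤ) =
      ((q : ℤ) + 1) * ((Cfsg.Agent.S2495.gs (q ^ 2) d : ℤ) * ((q : ℤ) - 1)) := by
    rw [h3]
    have : ((q : ℤ) + 1) * ((Cfsg.Agent.S2495.gs (q ^ 2) d : ℤ) * ((q : ℤ) - 1)) =
        (Cfsg.Agent.S2495.gs (q ^ 2) d : ℤ) * (((q : ℤ)) ^ 2 - 1) := by ring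
    rw [this, h1]; ring
  have h4 := mul_left_cancel₀ hq2 key
  have h5 : ((q - 1 : ℕ) : ℤ) = (q : ℤ) - 1 := by
    rw [Nat.cast_sub (by omega)]; simp
  rw [← h5] at h4
  exact_mod_cast h4

theorem wq_mul_right_aux {q : ℕ} (hq : 2 ≤ q) (s m : ℕ) (hs : 1 ≤ s) (hm : 1 ≤ m) :
    ∃ R : ℕ, wq q (s * m) = wq q s * R ∧
      (R % (q + 1) = m % (q + 1) ∨ (R + m) % (q + 1) = 0) := by
  set Q : ℤ := (q : ℤ) ^ s with hQ
  set ε : ℤ := (-1) ^ s with hε
  set G : ℤ := ∑ i ∈ Finset.range m, Q ^ i * ε ^ (m - 1 - i) with hG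
  have hgeom : G * (Q - ε) = Q ^ m - ε ^ m := geom_sum₂_mul Q ε m
  have h1 := ARITHH.wq_int hq s
  have h2 := ARITHH.wq_int hq (s * m)
  rw [pow_mul, pow_mul, ← hQ, ← hε] at h2
  rw [← hQ, ← hε] at h1
  have hq2 : ((q : ℤ) + 1) ≠ 0 := by
    have : (2 : ℤ) ≤ q := by exact_mod_cast hq
    omega
  have key : (wq q (s * m) : ℤ) = (wq q s : ℤ) * G := by
    apply mul_left_cancel₀ hq2
    rw [h2, ← hgeom, ← h1]; ring
  have hpos1 : (0 : ℤ) < wq q s := by exact_mod_cast wq_pos hq hs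
  have hpos2 : (0 : ℤ) < wq q (s * m) := by
    exact_mod_cast wq_pos hq (Nat.one_le_iff_ne_zero.2 (Nat.mul_ne_zero (by omega) (by omega)))
  have hGpos : 0 ≤ G := by
    by_contra hneg
    push Not at hneg
    have : (wq q s : ℤ) * G < 0 := mul_neg_of_pos_of_neg hpos1 hneg
    omega
  obtain ⟨R, hR⟩ := Int.eq_ofNat_of_zero_le hGpos
  refine ⟨R, ?_, ?_⟩
  · rw [hR] at key
    exact_mod_cast key
  · -- congruence modulo `q + 1`
    have hqz : ((q : ZMod (q + 1)) : ZMod (q + 1)) = -1 := by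
      have : ((q + 1 : ℕ) : ZMod (q + 1)) = 0 := ZMod.natCast_self (q + 1)
      push_cast at this
      exact eq_neg_of_add_eq_zero_left this
    have hQz : ((Q : ℤ) : ZMod (q + 1)) = ((ε : ℤ) : ZMod (q + 1)) := by
      rw [hQ, hε]; push_cast; rw [hqz]
    have hGz : ((G : ℤ) : ZMod (q + 1)) = (m : ZMod (q + 1)) * ((ε : ℤ) : ZMod (q + 1)) ^ (m - 1) := by
      rw [hG]
      push_cast
      rw [hQz]
      have : ∀ i ∈ Finset.range m, ((ε : ℤ) : ZMod (q + 1)) ^ i * ((ε : ℤ) : ZMod (q + 1)) ^ (m - 1 - i) =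
          ((ε : ℤ) : ZMod (q + 1)) ^ (m - 1) := by
        intro i hi
        rw [Finset.mem_range] at hi
        rw [← pow_add]
        congr 1
        omega
      rw [Finset.sum_congr rfl this, Finset.sum_const, Finset.card_range, nsmul_eq_mul]
    have hRz : ((R : ℕ) : ZMod (q + 1)) = (m : ZMod (q + 1)) * ((ε : ℤ) : ZMod (q + 1)) ^ (m - 1) := by
      rw [← hGz, hR]; push_cast; rfl
    have hεz : ((ε : ℤ) : ZMod (q + 1)) ^ (m - 1) = 1 ∨ ((ε : ℤ) : ZMod (q + 1)) ^ (m - 1) = -1 := by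
      rw [hε]; push_cast
      rw [← pow_mul]
      exact neg_one_pow_eq_or _ _
    rcases hεz with h | h
    · left
      rw [h, mul_one] at hRz
      exact (ZMod.natCast_eq_natCast_iff' R m (q + 1)).1 hRz
    · right
      rw [h, mul_neg, mul_one] at hRz
      have : ((R + m : ℕ) : ZMod (q + 1)) = 0 := by
        push_cast; rw [hRz]; ring
      rw [ZMod.natCast_eq_zero_iff] at this
      exact Nat.mod_eq_zero_of_dvd this



/-- the common last step -/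
theorem dvd_of_R {F : Type*} [Field F] {q : ℕ} (c : F) (hc : c ^ (q + 1) = 1) (m' R w : ℕ)
    (hcm : c ^ m' = 1) (hR : R % (q + 1) = m' % (q + 1) ∨ (R + m') % (q + 1) = 0) (ψ : F[X])
    (hψ : ψ ∣ X ^ w - C c) : ψ ∣ X ^ (w * R) - 1 := by
  have hcR : c ^ R = 1 := by
    rcases hR with h | h
    · rw [pow_eq_pow_mod R hc, h, ← pow_eq_pow_mod m' hc, hcm]
    · have h1 : c ^ (R + m') = 1 := by
        rw [pow_eq_pow_mod (R + m') hc, h, pow_zero]
      rw [pow_add, hcm, mul_one] at h1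
      exact h1
  have h1 : (X ^ w - C c : F[X]) ∣ (X ^ w) ^ R - (C c) ^ R := sub_dvd_pow_sub_pow _ _ R
  rw [← pow_mul, ← C_pow, hcR, C_1] at h1
  exact dvd_trans hψ h1

/-- the root of `AdjoinRoot φ` raised to `w` is `c` when `φ ∣ X^w - C c` -/
theorem root_pow_eq {F : Type*} [Field F] (φ : F[X]) (w : ℕ) (c : F) (h : φ ∣ X ^ w - C c) :
    (AdjoinRoot.root φ) ^ w = algebraMap F (AdjoinRoot φ) c := by
  have h1 : AdjoinRoot.mk φ (X ^ w - C c) = 0 := AdjoinRoot.mk_eq_zero.2 h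
  rw [map_sub, map_pow, AdjoinRoot.mk_X, AdjoinRoot.mk_C, sub_eq_zero] at h1
  rw [h1]
  rfl

end ROOTI

variable {F : Type*} [Field F] [Fintype F] {n q : ℕ}

theorem selfdual_dvd (hF : Fintype.card F = q ^ 2) (σ : F ≃+* F) (hσ : ∀ x, σ x = x ^ q)
    {φ : F[X]} (hirr : Irreducible φ) (hm : φ.Monic) (hr : dag σ φ = φ) (m' : ℕ) (hm' : 1 ≤ m')
    (hdet : ((-1) ^ φ.natDegree * φ.coeff 0) ^ m' = 1) :
    φ ∣ X ^ (wq q (φ.natDegree * m')) - 1 := by
  have hq : 2 ≤ q := FACA.two_le_q hF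
  have hfact : Fact (Irreducible φ) := ⟨hirr⟩
  obtain ⟨hodd, c, hc, hdvd⟩ := fac_selfdual hF σ hσ hirr hm hr
  set d := φ.natDegree with hd
  have hd1 : 1 ≤ d := Irreducible.natDegree_pos hirr
  -- the norm of the root
  have h1 := ROOTI.root_pow_eq φ (wq q d) c hdvd
  have h2 := Cfsg.Agent.S2510P.root_pow_gs φ hm hirr
  rw [hF, ← hd, ROOTI.gs_sq_eq_aux hq d hodd, pow_mul, h1, ← map_pow] at h2
  have h3 : c ^ Cfsg.Agent.S2495.gs q d = (-1) ^ d * φ.coeff 0 :=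
    (algebraMap F (AdjoinRoot φ)).injective h2
  have h4 : c ^ Cfsg.Agent.S2495.gs q d = c := by
    rw [pow_eq_pow_mod _ hc, ROOTI.gs_odd_mod_aux q d hodd, ← pow_eq_pow_mod _ hc, pow_one]
  rw [← h3, h4] at hdet
  obtain ⟨R, hR1, hR2⟩ := ROOTI.wq_mul_right_aux hq d m' hd1 hm'
  rw [hR1]
  exact ROOTI.dvd_of_R c hc m' R _ hdet hR2 φ hdvd

theorem pair_dvd (hF : Fintype.card F = q ^ 2) (σ : F ≃+* F) (hσ : ∀ x, σ x = x ^ q)
    {φ : F[X]} (hirr : Irreducible φ) (hm : φ.Monic) (h0 : φ.coeff 0 ≠ 0) (m' : ℕ) (hm' : 1 ≤ m')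
    (hdet : (φ.coeff 0 * (dag σ φ).coeff 0) ^ m' = 1) :
    φ ∣ X ^ (wq q (2 * φ.natDegree * m')) - 1 ∧
      dag σ φ ∣ X ^ (wq q (2 * φ.natDegree * m')) - 1 := by
  have hq : 2 ≤ q := FACA.two_le_q hF
  have hfact : Fact (Irreducible φ) := ⟨hirr⟩
  obtain ⟨c, hc, hdvd1, hdvd2⟩ := fac_pair hF σ hσ hirr hm h0
  set d := φ.natDegree with hd
  have hd1 : 1 ≤ d := Irreducible.natDegree_pos hirr
  -- `(-1)^(q-1) = 1` in `F`
  have hneg : ((-1 : F)) ^ (q - 1) = 1 := by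
    rcases Nat.even_or_odd q with he | ho
    · obtain ⟨p, hchar, j, hp, hqp⟩ := FiniteField.card' F
      rw [hF] at hqp
      have h2p : 2 ∣ p := by
        have : 2 ∣ p ^ (j : ℕ) := by
          rw [← hqp]; exact Dvd.dvd.pow he.two_dvd (by norm_num)
        exact (Nat.Prime.dvd_of_dvd_pow Nat.prime_two this)
      have hp2 : p = 2 := ((Nat.prime_dvd_prime_iff_eq Nat.prime_two hp).1 h2p).symm
      subst hp2
      have : (-1 : F) = 1 := CharTwo.neg_eq 1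
      rw [this, one_pow]
    · have : Even (q - 1) := by
        obtain ⟨k, hk⟩ := ho
        exact ⟨k, by omega⟩
      exact this.neg_one_pow
  -- the norm of the root
  have h1 := ROOTI.root_pow_eq φ (wq q (2 * d)) c hdvd1
  have h2 := Cfsg.Agent.S2510P.root_pow_gs φ hm hirr
  rw [hF, ← hd] at h2
  rw [ROOTI.wq_two_mul_aux hq d hd1, pow_mul, h2, ← map_pow] at h1
  have h3 : ((-1) ^ d * φ.coeff 0) ^ (q - 1) = c :=
    (algebraMap F (AdjoinRoot φ)).injective h1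
  have h4 : φ.coeff 0 ^ (q - 1) = c := by
    rw [mul_pow, ← pow_mul, mul_comm d, pow_mul, hneg, one_pow, one_mul] at h3
    exact h3
  -- the constant coefficient of `dag σ φ`
  have hmσ : (φ.map (σ : F →+* F)).Monic := hm.map _
  have h5 : (dag σ φ).coeff 0 = (φ.coeff 0 ^ q)⁻¹ := by
    unfold dag
    rw [coeff_zero_recip hmσ, coeff_map, RingHom.coe_coe, hσ]
  have h6 : φ.coeff 0 * (dag σ φ).coeff 0 = c⁻¹ := by
    rw [h5, ← h4]
    have hq1 : q = (q - 1) + 1 := by omega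
    have h7 : φ.coeff 0 ^ q = φ.coeff 0 ^ (q - 1) * φ.coeff 0 := by
      rw [← pow_succ, ← hq1]
    rw [h7, mul_inv, mul_comm, mul_assoc, inv_mul_cancel₀ h0, mul_one]
  rw [h6, inv_pow, inv_eq_one] at hdet
  obtain ⟨R, hR1, hR2⟩ := ROOTI.wq_mul_right_aux hq (2 * d) m' (by omega) hm'
  rw [hR1]
  exact ⟨ROOTI.dvd_of_R c hc m' R _ hdet hR2 φ hdvd1,
    ROOTI.dvd_of_R c hc m' R _ hdet hR2 (dag σ φ) hdvd2⟩

end Cfsg.Agent.S2511P
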