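import Mathlib
import Cfsg.Agent.Helper9.Repl2
import Cfsg.Agent.Helper10.WCElt
import Cfsg.Agent.Helper14.Amalgam5
import Cfsg.Agent.Helper14.PCore

set_option autoImplicit false
set_option linter.unusedSectionVars false
set_option linter.unusedVariables false

/-! # The Thompson subgroup `J_A` and the local quadratic hypothesis (Thompson replacement) -/

namespace Cfsg.Agent.Helper26.GJ

open Cfsg Subgroup Cfsg.Agent.Helper26 Cfsg.Agent.Helper14 Cfsg.Agent.Helper10
open scoped commutatorElement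

variable {G : Type*} [Group G]

/-- if `J(T) ≤ Q ≤ T` then `J(T) = J(Q)` (as families) -/
theorem famEl_eq_of_le [Finite G] {T Q : Subgroup G} (hQT : Q ≤ T)
    (h : ∀ A ∈ famEl 0 T, A ≤ Q) : famEl 0 Q = famEl 0 T := by
  obtain ⟨A₀, hA₀⟩ := famEl_nonempty 0 T
  have h0 := famEl_restrict hA₀ (h A₀ hA₀) hQT
  apply Set.Subset.antisymm h0.2
  intro A hA
  exact (famEl_restrict hA (h A hA) hQT).1

/-- conjugation by a normalizing element preserves `J(Q)` -/
theorem thompsonSubgroupAOf_le_normalizer (Q : Subgroup G) :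
    normalizer (Q : Set G) ≤ normalizer ((Cfsg.thompsonSubgroupAOf Q : Subgroup G) : Set G) := by
  intro h hh
  have key : ∀ k ∈ normalizer (Q : Set G),
      (Cfsg.thompsonSubgroupAOf Q).map (MulAut.conj k).toMonoidHom ≤ Cfsg.thompsonSubgroupAOf Q := by
    intro k hk
    rw [thompsonSubgroupAOf_eq, (Subgroup.gc_map_comap (MulAut.conj k).toMonoidHom).l_sSup]
    apply iSup₂_le
    intro A hA
    have h1 := famEl_equiv (MulAut.conj k) hA
    have h2 : Q.map (MulAut.conj k).toMonoidHom = Q := by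
      ext y
      constructor
      · rintro ⟨z, hz, rfl⟩
        exact (mem_normalizer_iff.mp hk z).mp hz
      · intro hy
        refine ⟨k⁻¹ * y * k, ?_, ?_⟩
        · have := (mem_normalizer_iff.mp (inv_mem hk) y).mp hy
          simpa using this
        · simp [MulAut.conj_apply, mul_assoc]
    rw [h2] at h1
    exact le_sSup h1
  rw [mem_normalizer_iff]
  intro y
  constructor
  · intro hy
    exact key h hh ⟨y, hy, rfl⟩
  · intro hy
    have := key h⁻¹ (inv_mem hh) ⟨h * y * h⁻¹, hy, rfl⟩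
    simpa [MulAut.conj_apply, mul_assoc] using this

/-- **Thompson replacement, local form**: if `J(T)` is not normal in `H` (`T` a Sylow
`p`-subgroup of `H`), some element of `T` outside `O_p(H)` acts quadratically on `Z(O_p(H))`. -/
theorem hloc_quad [Finite G] {p : ℕ} [Fact p.Prime] (H T : Subgroup G) (hTH : T ≤ H)
    (hTp : IsPGroup p ↥T) (hTi : ¬ p ∣ T.relIndex H)
    (hnn : ¬ H ≤ normalizer ((Cfsg.thompsonSubgroupAOf T : Subgroup G) : Set G)) :
    ∃ g : G, g ∈ T ∧ g ∉ Cfsg.pCoreOf p H ∧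
      ⁅⁅Cfsg.pCoreOf p H ⊓ centralizer ((Cfsg.pCoreOf p H : Subgroup G) : Set G),
        zpowers g⁆, zpowers g⁆ = ⊥ := by
  set Q := Cfsg.pCoreOf p H with hQ
  set B := Q ⊓ centralizer (Q : Set G) with hB
  have hT : IsSylowIn p T H := isSylowIn_of_relIndex hTH hTp hTi
  have hQT : Q ≤ T := pCoreOf_le_of_isSylowIn hT
  have hHQ : H ≤ normalizer (Q : Set G) := le_normalizer_pCoreOf p H
  have hBab : ∀ x ∈ B, ∀ y ∈ B, x * y = y * x := by
    intro x hx y hy
    exact mem_centralizer_iff.mp hy.2 x hx.1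
  -- some `A` is not inside `Q`
  have h1 : ∃ A ∈ famEl 0 T, ¬ A ≤ Q := by
    by_contra hcon
    push Not at hcon
    apply hnn
    have heq := famEl_eq_of_le hQT hcon
    have : Cfsg.thompsonSubgroupAOf T = Cfsg.thompsonSubgroupAOf Q := by
      rw [thompsonSubgroupAOf_eq, thompsonSubgroupAOf_eq, heq]
    rw [this]
    exact hHQ.trans (thompsonSubgroupAOf_le_normalizer Q)
  -- the final step, given a suitable `A`
  have fin : ∀ A ∈ famEl 0 T, ¬ A ≤ Q → ⁅B, A⁆ ≤ A →
      ∃ g : G, g ∈ T ∧ g ∉ Q ∧ ⁅⁅B, zpowers g⁆, zpowers g⁆ = ⊥ := by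
    intro A hA hAQ hBA
    obtain ⟨g, hgA, hgQ⟩ := SetLike.not_le_iff_exists.mp hAQ
    refine ⟨g, hA.1 hgA, hgQ, ?_⟩
    rw [eq_bot_iff]
    have hz : zpowers g ≤ A := by
      rw [zpowers_le]; exact hgA
    calc ⁅⁅B, zpowers g⁆, zpowers g⁆ ≤ ⁅A, A⁆ :=
          commutator_mono ((commutator_mono le_rfl hz).trans hBA) hz
      _ ≤ ⊥ := by
          rw [commutator_le]
          intro a ha b hb
          rw [mem_bot, commutatorElement_eq_one_iff_mul_comm]
          exact hA.2.1.1 a ha b hb
  by_cases hall : ∀ A ∈ famEl 0 T, B ≤ A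
  · obtain ⟨A, hA, hAQ⟩ := h1
    apply fin A hA hAQ
    rw [commutator_le]
    intro b hb a ha
    have : ⁅b, a⁆ = 1 := by
      rw [commutatorElement_eq_one_iff_mul_comm]
      exact hA.2.1.1 b (hall A hA hb) a ha
    rw [this]; exact one_mem _
  · push Not at hall
    obtain ⟨A, hA, hBA⟩ := hall
    have hBT : B ≤ T := inf_le_left.trans hQT
    have hTB : T ≤ normalizer (B : Set G) := by
      intro t ht
      have htQ := hHQ (hTH ht)
      rw [mem_normalizer_iff]
      intro y
      have hconj : ∀ k ∈ normalizer (Q : Set G), ∀ z ∈ B, k * z * k⁻¹ ∈ B := by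
        intro k hk z hz
        refine ⟨(mem_normalizer_iff.mp hk z).mp hz.1, ?_⟩
        apply mem_centralizer_iff.mpr
        intro q hq
        have hq' : k⁻¹ * q * k ∈ Q := by
          have := (mem_normalizer_iff.mp (inv_mem hk) q).mp hq
          simpa using this
        have := mem_centralizer_iff.mp hz.2 _ hq'
        calc q * (k * z * k⁻¹) = k * ((k⁻¹ * q * k) * z) * k⁻¹ := by group
          _ = k * (z * (k⁻¹ * q * k)) * k⁻¹ := by rw [this]
          _ = k * z * k⁻¹ * q := by group
      constructor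
      · intro hy
        exact hconj t htQ y hy
      · intro hy
        have := hconj t⁻¹ (inv_mem htQ) _ hy
        simpa [mul_assoc] using this
    have hBB : ⁅B, B⁆ ≤ A := by
      have : ⁅B, B⁆ = ⊥ := by
        rw [eq_bot_iff, commutator_le]
        intro a ha b hb
        rw [mem_bot, commutatorElement_eq_one_iff_mul_comm]
        exact hBab a ha b hb
      rw [this]; exact bot_le
    obtain ⟨A', hA', -, hBA', hBN⟩ := Cfsg.Agent.Helper9.Repl2.famEl_repl2 0 (Or.inl rfl) T B hTp
      hBT hTB (fun _ => hBab) A hA hBB hBA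
    have hA'Q : ¬ A' ≤ Q := by
      intro hle
      apply hBA'
      intro b hb
      apply mem_famEl_of_commute hA' (hBT hb) (pow_zero b)
      intro a ha
      exact mem_centralizer_iff.mp hb.2 a (hle ha)
    apply fin A' hA' hA'Q
    rw [commutator_le]
    intro b hb a ha
    have hn := hBN hb
    have h2 : b * a * b⁻¹ ∈ A' := (mem_normalizer_iff.mp hn a).mp ha
    have : ⁅b, a⁆ = (b * a * b⁻¹) * a⁻¹ := by
      rw [commutatorElement_def]
    rw [this]
    exact mul_mem h2 (inv_mem ha)

end Cfsg.Agent.Helper26.GJ
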