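import Mathlib

set_option autoImplicit false

/-! S3557 piece DISS: dissection lemma. Mathlib only. -/

namespace Cfsg.Agent.S3557P

open MulAction

/-- DISS: dissection lemma. -/
theorem DISS {P Ω : Type*} [Group P] [MulAction P Ω] (O1 : Set Ω)
    (hinv : ∀ (g : P) (x : Ω), g • x ∈ O1 ↔ x ∈ O1)
    (htr : ∀ v ∉ O1, ∀ u ∈ O1, ∀ u' ∈ O1, ∃ s : P, s • v = v ∧ s • u = u') (z w : P) :
    ∃ σ : Equiv.Perm Ω, (∀ x ∈ O1, σ x = z • x) ∧ (∀ x ∉ O1, σ x = w • x) ∧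
      ∀ a b : Ω, ∃ g : P, σ a = g • a ∧ σ b = g • b := by
  classical
  let f : Ω → Ω := fun x => if x ∈ O1 then z • x else w • x
  let f' : Ω → Ω := fun x => if x ∈ O1 then z⁻¹ • x else w⁻¹ • x
  have hf1 : ∀ x ∈ O1, f x = z • x := fun x hx => if_pos hx
  have hf2 : ∀ x ∉ O1, f x = w • x := fun x hx => if_neg hx
  have hf'1 : ∀ x ∈ O1, f' x = z⁻¹ • x := fun x hx => if_pos hx
  have hf'2 : ∀ x ∉ O1, f' x = w⁻¹ • x := fun x hx => if_neg hx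
  have hl : Function.LeftInverse f' f := by
    intro x
    by_cases hx : x ∈ O1
    · rw [hf1 x hx, hf'1 _ ((hinv z x).2 hx), inv_smul_smul]
    · rw [hf2 x hx, hf'2 _ (fun h => hx ((hinv w x).1 h)), inv_smul_smul]
  have hr : Function.RightInverse f' f := by
    intro x
    by_cases hx : x ∈ O1
    · rw [hf'1 x hx, hf1 _ ((hinv z⁻¹ x).2 hx), smul_inv_smul]
    · rw [hf'2 x hx, hf2 _ (fun h => hx ((hinv w⁻¹ x).1 h)), smul_inv_smul]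
  refine ⟨⟨f, f', hl, hr⟩, fun x hx => hf1 x hx, fun x hx => hf2 x hx, ?_⟩
  intro a b
  show ∃ g : P, f a = g • a ∧ f b = g • b
  by_cases ha : a ∈ O1
  · by_cases hb : b ∈ O1
    · exact ⟨z, hf1 a ha, hf1 b hb⟩
    · -- mixed: a ∈ O1, b ∉ O1
      have h1 : w⁻¹ • (z • a) ∈ O1 := (hinv w⁻¹ _).2 ((hinv z a).2 ha)
      obtain ⟨s, hsb, hsa⟩ := htr b hb a ha _ h1
      refine ⟨w * s, ?_, ?_⟩
      · rw [hf1 a ha, mul_smul, hsa, smul_inv_smul]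
      · rw [hf2 b hb, mul_smul, hsb]
  · by_cases hb : b ∈ O1
    · have h1 : w⁻¹ • (z • b) ∈ O1 := (hinv w⁻¹ _).2 ((hinv z b).2 hb)
      obtain ⟨s, hsa, hsb⟩ := htr a ha b hb _ h1
      refine ⟨w * s, ?_, ?_⟩
      · rw [hf2 a ha, mul_smul, hsa]
      · rw [hf1 b hb, mul_smul, hsb, smul_inv_smul]
    · exact ⟨w, hf2 a ha, hf2 b hb⟩

end Cfsg.Agent.S3557P
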