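import Cfsg.Agent.Helper26.S3818Defs
import Cfsg.Agent.Helper4.S3818A2
import Cfsg.Agent.Helper22.S3818A5
import Cfsg.Agent.Helper22.S3818AR
import Cfsg.Agent.Helper22.S3818FR4
import Cfsg.Agent.Helper2.S3818FR2
import Cfsg.Agent.Helper23.S3818FR3
import Cfsg.Agent.Helper23.S3818GT4b
import Cfsg.Agent.Helper23.S3818GT4c
import Cfsg.Agent.Helper17.S3818GT1
import Cfsg.Agent.Helper9.S3818TR
import Cfsg.Agent.Helper9.S3818A1
import Cfsg.Agent.Helper10.S3818SECTION
import Cfsg.Agent.Helper18.S3818GT4a1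
import Cfsg.Agent.Helper18.S3818GT4a
import Cfsg.Agent.Helper11.S3818A7
import Cfsg.Agent.Helper14.S3818A3
import Cfsg.Agent.Helper14.S3818A3fin
import Cfsg.Agent.Helper14.S3818FRMAIN
import Cfsg.Agent.Helper1.S3818GT2
import Cfsg.Agent.Helper1.S3818GT3
import Cfsg.Agent.Helper11.S3818A4
import Cfsg.Agent.Helper15.S3818A6

set_option autoImplicit false

namespace Cfsg.Agent.S3818P

open Module

universe u v w







theorem nontrivial_of_irr {G : Type*} [Group G] {k : Type*} [Field k] {V : Type*} [AddCommGroup V]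
    [Module k V] (ρ : Representation k G V) [ρ.IsIrreducible] : Nontrivial V := by
  by_contra h
  rw [not_nontrivial_iff_subsingleton] at h
  have hne : (⊥ : Subrepresentation ρ) ≠ ⊤ := bot_ne_top
  apply hne
  apply Subrepresentation.toSubmodule_injective
  exact Subsingleton.elim _ _

/-- MAIN_F: the faithful case over `F`, when the centre is scalar and every abelian normal subgroup
is central. -/
theorem MAIN_F {G : Type u} [Group G] [Finite G] [Group.IsSolvable G] {p : ℕ}
    (hp : p.Prime) (hp3 : 3 < p) (x : G) (hx : x ^ p = 1)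
    (hgen : Subgroup.normalClosure ({x} : Set G) = ⊤) (IH : IHyp G p)
    {F : Type v} [Field F] {V : Type w} [AddCommGroup V] [Module F V] [FiniteDimensional F V]
    (ρ : Representation F G V) [ρ.IsIrreducible] (hfaith : Function.Injective ρ)
    (hsc : ∀ z ∈ Subgroup.center G, ∃ c : F, ρ z = c • 1)
    (hab : ∀ N : Subgroup G, N.Normal → (∀ a ∈ N, ∀ b ∈ N, a * b = b * a) →
      N ≤ Subgroup.center G)
    (hxc : x ∉ Subgroup.center G) : Bound ρ x := by
  classical
  haveI : Nontrivial V := nontrivial_of_irr ρ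
  have hnc : ¬ (⊤ : Subgroup G) ≤ Subgroup.center G := fun h => hxc (h (Subgroup.mem_top x))
  obtain ⟨Q, r, hQn, hr, hQr, hQ1, hcomm, hZeq, hpow, hchief⟩ := GT1_exists_Q hnc hab
  haveI := hQn
  choose! ζ hζ using hsc
  -- x moves some element of Q
  have hxnt : ∃ u ∈ Q, x * u * x⁻¹ ≠ u := by
    by_contra hcon
    push Not at hcon
    apply hQ1
    have hle : Subgroup.normalClosure ({x} : Set G) ≤ Subgroup.centralizer (Q : Set G) := by
      apply Subgroup.normalClosure_le_normal
      intro y hy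
      rw [Set.mem_singleton_iff] at hy
      rw [hy, SetLike.mem_coe, Subgroup.mem_centralizer_iff]
      intro u hu
      have := hcon u hu
      -- x * u * x⁻¹ = u → u * x = x * u
      have h2 : x * u = u * x := by
        calc x * u = x * u * x⁻¹ * x := by group
          _ = u * x := by rw [this]
      exact h2.symm
    rw [hgen] at hle
    intro u hu
    rw [Subgroup.mem_center_iff]
    intro g
    have hg : g ∈ Subgroup.centralizer (Q : Set G) := hle (Subgroup.mem_top g)
    rw [Subgroup.mem_centralizer_iff] at hg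
    exact (hg u hu).symm
  have hn : 0 < finrank F V := Module.finrank_pos
  by_cases htriv : ∀ u ∈ Q, x * u * x⁻¹ * u⁻¹ ∈ Subgroup.center G
  · have h3 := GT3_trivial_on_quotient ρ hfaith Q r hr hQr ζ hζ x p hp hx htriv hxnt
    unfold Bound
    nlinarith
  · push Not at htriv
    obtain ⟨a, c₀, ha, hc, hlt⟩ :=
      GT4a_induction hp x hx hgen IH Q r hr hQr hQ1 hcomm hpow hchief htriv
    -- Q is nonabelian
    have hnab : ∃ u ∈ Q, ∃ v ∈ Q, u * v ≠ v * u := by
      by_contra hcon
      push Not at hcon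
      exact hQ1 (hab Q hQn hcon)
    have ha2 : 2 ≤ a := by
      apply GT4c_two_le Q r a hr hnab
      rw [hZeq]
      exact ha
    have hc₀a : c₀ ≤ a := by omega
    have hj : 2 ≤ a - c₀ := by omega
    have hZQ : Q ⊓ Subgroup.center G ≤ Q := inf_le_left
    have hxQ : ∀ u ∈ Q, x * u * x⁻¹ ∈ Q := fun u hu => hQn.conj_mem u hu x
    have hZc : ∀ z ∈ Q ⊓ Subgroup.center G, ∀ g : G, g * z = z * g := by
      intro z hz g
      exact (Subgroup.mem_center_iff.mp hz.2 g)
    have hmod : r = p ∨ r ^ (a - c₀) % p = 1 := by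
      by_cases hrp : r = p
      · exact Or.inl hrp
      · exact Or.inr (GT4b_mod Q (Q ⊓ Subgroup.center G) hZQ hZc x p hp hx hxQ r a c₀ hr hrp ha hc)
    have hQbot : Q ≠ ⊥ := by
      intro h
      apply hQ1
      rw [h]
      exact bot_le
    have hrF : (r : F) ≠ 0 := GT2_char ρ hfaith Q r hr hQr hQbot
    have hDF : ((r ^ a : ℕ) : F) ≠ 0 := by
      rw [Nat.cast_pow]
      exact pow_ne_zero _ hrF
    have hcomm' : ∀ u ∈ Q, ∀ v ∈ Q, u * v * u⁻¹ * v⁻¹ ∈ Q ⊓ Subgroup.center G := by
      intro u hu v hv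
      refine ⟨?_, hcomm u hu v hv⟩
      exact Q.mul_mem (Q.mul_mem (Q.mul_mem hu hv) (Q.inv_mem hu)) (Q.inv_mem hv)
    have hζ' : ∀ z ∈ Q ⊓ Subgroup.center G, ρ z = ζ z • 1 := fun z hz => hζ z hz.2
    have hxZ : ∀ z ∈ Q ⊓ Subgroup.center G, x * z * x⁻¹ = z := by
      intro z hz
      have := hZc z hz x
      rw [this]
      group
    have hFR := FR_main ρ hfaith Q (Q ⊓ Subgroup.center G) hZeq.symm hcomm' ζ hζ' x p hp hx hxQ hxZ
      hxnt (r ^ a) (r ^ c₀) ha hc hDF 1
    rw [one_smul] at hFR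
    have hD : r ^ a = r ^ c₀ * r ^ (a - c₀) := by
      rw [← pow_add]
      congr 1
      omega
    have hCpos : 0 < r ^ c₀ := pow_pos hr.pos _
    exact AR_arith p r (a - c₀) (r ^ (a - c₀)) (r ^ c₀) (r ^ a) _ _ hp hp3 hr hj rfl hmod hD hCpos hFR

/-- A `ρ`-invariant submodule of an irreducible representation is `⊥` or `⊤`. -/
theorem eq_bot_or_top_of_invariant {G : Type*} [Group G] {k : Type*} [Field k] {V : Type*}
    [AddCommGroup V] [Module k V] (ρ : Representation k G V) [ρ.IsIrreducible]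
    (U : Submodule k V) (hU : ∀ g : G, ∀ v ∈ U, ρ g v ∈ U) : U = ⊥ ∨ U = ⊤ := by
  let K : Subrepresentation ρ := ⟨U, fun g v hv => hU g v hv⟩
  rcases eq_bot_or_eq_top K with h | h
  · left
    have := congrArg Subrepresentation.toSubmodule h
    exact this
  · right
    have := congrArg Subrepresentation.toSubmodule h
    exact this

/-- The faithful step. -/
theorem thmA_faithful_step {G : Type u} [Group G] [Finite G] [Group.IsSolvable G] {p : ℕ}
    (hp : p.Prime) (hp3 : 3 < p) (x : G) (hx : x ^ p = 1)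
    (hgen : Subgroup.normalClosure ({x} : Set G) = ⊤) (IH : IHyp G p)
    {k : Type v} [Field k] {V : Type w} [AddCommGroup V] [Module k V] [FiniteDimensional k V]
    (ρ : Representation k G V) [ρ.IsIrreducible] (hfaith : Function.Injective ρ)
    (hx1 : x ≠ 1) : Bound ρ x := by
  classical
  haveI : Nontrivial V := nontrivial_of_irr ρ
  have hn : 0 < finrank k V := Module.finrank_pos
  by_cases hxc : x ∈ Subgroup.center G
  · -- ker (ρ x - 1) is invariant
    have hinv : ∀ g : G, ∀ v ∈ LinearMap.ker (ρ x - 1), ρ g v ∈ LinearMap.ker (ρ x - 1) := by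
      intro g v hv
      rw [LinearMap.mem_ker, LinearMap.sub_apply, Module.End.one_apply, sub_eq_zero] at hv ⊢
      have hcomm : x * g = g * x := (Subgroup.mem_center_iff.mp hxc g).symm
      calc ρ x (ρ g v) = ρ (x * g) v := by rw [map_mul]; rfl
        _ = ρ (g * x) v := by rw [hcomm]
        _ = ρ g (ρ x v) := by rw [map_mul]; rfl
        _ = ρ g v := by rw [hv]
    rcases eq_bot_or_top_of_invariant ρ _ hinv with h | h
    · unfold Bound
      rw [h, finrank_bot]
      simpa using hn
    · exfalso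
      apply hx1
      apply hfaith
      rw [map_one]
      rw [LinearMap.ker_eq_top] at h
      exact sub_eq_zero.mp h
  · by_cases hab : ∀ N : Subgroup G, N.Normal → (∀ a ∈ N, ∀ b ∈ N, a * b = b * a) →
        N ≤ Subgroup.center G
    · obtain ⟨F, iF, iA, iM, iT, iFD, ρF, hirr, hρF, hsc⟩ := A7_scalars ρ
      letI := iF
      letI := iA
      letI := iM
      haveI := iT
      haveI := iFD
      haveI := hirr
      haveI : FiniteDimensional F V := FiniteDimensional.right k F V
      have hfaithF : Function.Injective ρF := by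
        intro g h hgh
        apply hfaith
        ext v
        rw [← hρF g v, ← hρF h v, hgh]
      have hB := MAIN_F hp hp3 x hx hgen IH ρF hfaithF hsc hab hxc
      exact TR_transfer ρ ρF hρF x hB
    · push Not at hab
      obtain ⟨N, hNn, hNab, hNc⟩ := hab
      haveI := hNn
      rcases A6_aux_core hp hp3 x hx hgen ρ hfaith N (A4_abelian_normal hp hp3 x hx hgen ρ N hNab) with h | h
      · exact h
      · exact absurd h hNc

/-- Passing to the faithful quotient: data. -/
theorem quot_data {G : Type u} [Group G] [Finite G] [Group.IsSolvable G] {p : ℕ} (x : G)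
    (hx : x ^ p = 1) (hgen : Subgroup.normalClosure ({x} : Set G) = ⊤) (N : Subgroup G) [N.Normal] :
    ((x : G ⧸ N)) ^ p = 1 ∧ Subgroup.normalClosure ({(x : G ⧸ N)} : Set (G ⧸ N)) = ⊤ ∧
      Nat.card (G ⧸ N) ≤ Nat.card G := by
  refine ⟨?_, ?_, ?_⟩
  · rw [← QuotientGroup.mk_pow, hx]; rfl
  · have h := Subgroup.map_normalClosure ({x} : Set G) (QuotientGroup.mk' N)
      (QuotientGroup.mk'_surjective N)
    rw [hgen, Set.image_singleton] at h
    have h2 : Subgroup.normalClosure ({(x : G ⧸ N)} : Set (G ⧸ N)) =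
        Subgroup.map (QuotientGroup.mk' N) ⊤ := h.symm
    rw [h2, ← MonoidHom.range_eq_map]
    exact MonoidHom.range_eq_top.mpr (QuotientGroup.mk'_surjective N)
  · exact Nat.card_le_card_of_surjective _ (QuotientGroup.mk'_surjective N)

theorem bound_of_quot {G : Type u} [Group G] {k : Type v} [Field k] {V : Type w}
    [AddCommGroup V] [Module k V] (τ : Representation k G V)
    (σ : Representation k (G ⧸ MonoidHom.ker τ) V)
    (hσ : ∀ g : G, σ (g : G ⧸ MonoidHom.ker τ) = τ g) (x : G)
    (h : Bound σ (x : G ⧸ MonoidHom.ker τ)) : Bound τ x := by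
  unfold Bound at *
  rw [hσ x] at h
  exact h

/-- Theorem A' for `ZMod r` and modules in the universe of `G` (strong induction on `|G|`). -/
theorem thmA_fin {p : ℕ} (hp : p.Prime) (hp3 : 3 < p) (n : ℕ) :
    ∀ (H : Type u) [Group H] [Finite H] [Group.IsSolvable H], Nat.card H ≤ n →
    ∀ (y : H), y ^ p = 1 → Subgroup.normalClosure ({y} : Set H) = ⊤ →
    ∀ (r : ℕ) [Fact r.Prime] (W : Type u) [AddCommGroup W] [Module (ZMod r) W]
      [FiniteDimensional (ZMod r) W] (τ : Representation (ZMod r) H W),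
      τ.IsIrreducible → τ y ≠ 1 → Bound τ y := by
  induction n with
  | zero =>
    intro H _ _ _ hcard
    exfalso
    have := Nat.card_pos (α := H)
    omega
  | succ n ih =>
    intro H _ _ _ hcard y hy hgen r _ W _ _ _ τ hτ hτy
    haveI := hτ
    obtain ⟨σ, hσirr, hσinj, hσ⟩ := QUOT_exists τ
    haveI := hσirr
    obtain ⟨hy', hgen', hcard'⟩ := quot_data y hy hgen (MonoidHom.ker τ)
    have hne : ((y : H ⧸ MonoidHom.ker τ)) ≠ 1 := by
      intro h
      apply hτy
      rw [← hσ y, h, map_one]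
    have IH : IHyp (H ⧸ MonoidHom.ker τ) p := by
      intro K _ _ _ hK z hz hzgen s _ U _ _ _ υ hυ hυz
      exact ih K (by omega) z hz hzgen s U υ hυ hυz
    exact bound_of_quot τ σ hσ y
      (thmA_faithful_step hp hp3 _ hy' hgen' IH σ hσinj hne)

/-- **Theorem A'** (exported). -/
theorem flavellA {G : Type u} [Group G] [Finite G] [Group.IsSolvable G] {p : ℕ}
    (hp : p.Prime) (hp3 : 3 < p) (x : G) (hx : x ^ p = 1)
    (hgen : Subgroup.normalClosure ({x} : Set G) = ⊤)
    {k : Type v} [Field k] {V : Type w} [AddCommGroup V] [Module k V] [FiniteDimensional k V]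
    (ρ : Representation k G V) [ρ.IsIrreducible] (hx1 : ρ x ≠ 1) : Bound ρ x := by
  obtain ⟨σ, hσirr, hσinj, hσ⟩ := QUOT_exists ρ
  haveI := hσirr
  obtain ⟨hy', hgen', _⟩ := quot_data x hx hgen (MonoidHom.ker ρ)
  have hne : ((x : G ⧸ MonoidHom.ker ρ)) ≠ 1 := by
    intro h
    apply hx1
    rw [← hσ x, h, map_one]
  have IH : IHyp (G ⧸ MonoidHom.ker ρ) p := by
    intro K _ _ _ _ z hz hzgen s _ U _ _ _ υ hυ hυz
    exact thmA_fin hp hp3 (Nat.card K) K le_rfl z hz hzgen s U υ hυ hυz
  exact bound_of_quot ρ σ hσ x (thmA_faithful_step hp hp3 _ hy' hgen' IH σ hσinj hne)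

end Cfsg.Agent.S3818P
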