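import Mathlib
import Cfsg.Agent.Helper10.S4017Defs

set_option autoImplicit false

/-! Piece B3 of S4017 (driver helper10): Case B with `a ≥ 3` is contradictory: two hyperplanes of
`Q` meet. -/

namespace Cfsg.Agent.S4017P

/-- elements of a `p`-subgroup are `p`-elements -/
theorem B3_aux_pel {G : Type*} [Group G] {p : ℕ} (hp : p.Prime) {H : Subgroup G}
    (hH : IsPGroup p H) {x : G} (hx : x ∈ H) : IsPEl p x := by
  haveI := Fact.mk hp
  obtain ⟨k, hk⟩ := (IsPGroup.iff_orderOf.1 hH) ⟨x, hx⟩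
  exact ⟨k, by rw [← hk, Subgroup.orderOf_mk]⟩

/-- conjugates of `p`-elements are `p`-elements -/
theorem B3_aux_conj {G : Type*} [Group G] {p : ℕ} {x : G} (hx : IsPEl p x) (g : G) :
    IsPEl p (g * x * g⁻¹) := by
  obtain ⟨k, hk⟩ := hx
  refine ⟨k, ?_⟩
  have := (MulAut.conj g).orderOf_eq x
  rw [MulAut.conj_apply] at this
  rw [this, hk]

/-- the `±1` action is multiplicative -/
theorem B3_aux_pm {G : Type*} [Group G] {y v1 v2 : G}
    (h1 : v1 * y * v1⁻¹ = y ∨ v1 * y * v1⁻¹ = y⁻¹)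
    (h2 : v2 * y * v2⁻¹ = y ∨ v2 * y * v2⁻¹ = y⁻¹)
    (hsame : (v1 * y * v1⁻¹ = y) ↔ (v2 * y * v2⁻¹ = y)) :
    (v1 * v2⁻¹) * y = y * (v1 * v2⁻¹) := by
  by_cases hc : v2 * y * v2⁻¹ = y
  · have hc1 := hsame.2 hc
    have a1 : Commute v1 y := mul_inv_eq_iff_eq_mul.1 hc1
    have a2 : Commute v2 y := mul_inv_eq_iff_eq_mul.1 hc
    exact (a1.mul_left a2.inv_left).eq
  · have hc1 : ¬ v1 * y * v1⁻¹ = y := fun h => hc (hsame.1 h)
    have e1 : v1 * y * v1⁻¹ = y⁻¹ := h1.resolve_left hc1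
    have e2 : v2 * y * v2⁻¹ = y⁻¹ := h2.resolve_left hc
    have s1 : SemiconjBy v1 y y⁻¹ := mul_inv_eq_iff_eq_mul.1 e1
    have s2 : SemiconjBy v2 y y⁻¹ := mul_inv_eq_iff_eq_mul.1 e2
    have s1' : SemiconjBy v1 y⁻¹ y := by simpa using s1.inv_right
    have s2' : SemiconjBy v2 y⁻¹ y := by simpa using s2.inv_right
    have s3 : SemiconjBy v2⁻¹ y y⁻¹ := SemiconjBy.inv_symm_left_iff.2 s2'
    exact (s1'.mul_left s3).eq

theorem B3 {G : Type*} [Group G] [Finite G] {p a : ℕ} {Q : Subgroup G} {z : G}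
    (h : Cfg G p a Q z) (f : Facts G p a Q z) (ha3 : 3 ≤ a)
    (hny : ∀ y : G, NYh p Q y → NYc p Q y)
    (hby : ∀ t ∈ Q, t ≠ 1 → ∃ y ∈ U p t, NYh p Q y) : False := by
  classical
  haveI := Fact.mk h.hp
  have hp := h.hp
  obtain ⟨v0, hv0Q, hv0⟩ := f.znc
  have hv01 : v0 ≠ 1 := by
    rintro rfl
    exact hv0 (by simp)
  obtain ⟨y, hyU, hyN⟩ := hby v0 hv0Q hv01
  obtain ⟨Pst, hPp, hPcard, hPQ, hPcen⟩ := hny y hyN
  obtain ⟨hy1, hyp, hypm, -⟩ := hyN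
  set y' := z * y * z⁻¹ with hy'
  have hy'p : IsPEl p y' := B3_aux_conj hyp z
  have hzQ : ∀ v ∈ Q, z⁻¹ * v * z ∈ Q := fun v hv =>
    (Subgroup.mem_normalizer_iff''.1 h.hzN v).1 hv
  -- `Q` acts by `±1` on `y'`
  have hypm' : ∀ v ∈ Q, v * y' * v⁻¹ = y' ∨ v * y' * v⁻¹ = y'⁻¹ := by
    intro v hv
    have e : v * y' * v⁻¹ = z * ((z⁻¹ * v * z) * y * (z⁻¹ * v * z)⁻¹) * z⁻¹ := by
      rw [hy']
      group
    rcases hypm _ (hzQ v hv) with h1 | h1
    · left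
      rw [e, h1]
    · right
      rw [e, h1, hy']
      group
  -- pigeonhole
  haveI : Fintype ↥Q := Fintype.ofFinite ↥Q
  have hcard : Fintype.card (Bool × Bool) < Fintype.card ↥Q := by
    rw [← Nat.card_eq_fintype_card, ← Nat.card_eq_fintype_card, h.hQ]
    have : (2 : ℕ) ^ 3 ≤ 2 ^ a := Nat.pow_le_pow_right (by norm_num) ha3
    simp only [Nat.card_eq_fintype_card, Fintype.card_prod, Fintype.card_bool]
    omega
  obtain ⟨v1, v2, hne, heq⟩ := Fintype.exists_ne_map_eq_of_card_lt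
    (fun v : ↥Q => (decide ((v : G) * y * (v : G)⁻¹ = y), decide ((v : G) * y' * (v : G)⁻¹ = y')))
    hcard
  simp only [Prod.mk.injEq, decide_eq_decide] at heq
  set s' : G := (v1 : G) * (v2 : G)⁻¹ with hs'
  have hs'Q : s' ∈ Q := Q.mul_mem v1.2 (Q.inv_mem v2.2)
  have hs'1 : s' ≠ 1 := by
    intro h1
    apply hne
    apply Subtype.ext
    exact mul_inv_eq_one.1 h1
  have hs'y : s' * y = y * s' := B3_aux_pm (hypm _ v1.2) (hypm _ v2.2) heq.1
  have hs'y' : s' * y' = y' * s' := B3_aux_pm (hypm' _ v1.2) (hypm' _ v2.2) heq.2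
  have hs'ord : orderOf s' = 2 := by
    apply orderOf_eq_prime
    · rw [pow_two]
      exact f.elem s' hs'Q
    · exact hs'1
  -- `U p s'`
  have hUp : IsPGroup p (U p s') := f.utp s' hs'ord
  have hUab := h.hab (U p s') hUp
  have hyU' : y ∈ U p s' := Subgroup.subset_closure ⟨hs'y.symm, hyp⟩
  have hy'U' : y' ∈ U p s' := Subgroup.subset_closure ⟨hs'y'.symm, hy'p⟩
  have hU1 : ∀ x ∈ U p s', x ∈ Pst := by
    intro x hx
    exact hPcen x (hUab x hx y hyU') (B3_aux_pel hp hUp hx)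
  have hU2 : ∀ x ∈ U p s', z⁻¹ * x * z ∈ Pst := by
    intro x hx
    have hx' : IsPEl p (z⁻¹ * x * z) := by
      have := B3_aux_conj (B3_aux_pel hp hUp hx) z⁻¹
      rwa [inv_inv] at this
    apply hPcen _ _ hx'
    have hc : x * y' = y' * x := hUab x hx y' hy'U'
    rw [hy'] at hc
    have : z⁻¹ * x * z * y = z⁻¹ * (x * (z * y * z⁻¹)) * z := by group
    rw [this, hc]
    group
  -- the second Sylow subgroup
  obtain ⟨c, hcU, hcN⟩ := hby s' hs'Q hs'1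
  obtain ⟨Pst', hP'p, hP'card, hP'Q, hP'cen⟩ := hny c hcN
  have hPab := h.hab Pst hPp
  have hle : Pst ≤ Pst' := by
    intro x hx
    exact hP'cen x (hPab x hx c (hU1 c hcU)) (B3_aux_pel hp hPp hx)
  have hPeq : Pst = Pst' := Subgroup.eq_of_le_of_card_ge hle (by rw [hPcard, hP'card])
  have hzP : ∀ x ∈ Pst, z * x * z⁻¹ ∈ Pst := by
    intro x hx
    rw [hPeq]
    apply hP'cen _ _ (B3_aux_conj (B3_aux_pel hp hPp hx) z)
    have hc : x * (z⁻¹ * c * z) = (z⁻¹ * c * z) * x := hPab x hx _ (hU2 c hcU)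
    have : z * x * z⁻¹ * c = z * (x * (z⁻¹ * c * z)) * z⁻¹ := by group
    rw [this, hc]
    group
  have hzN : z ∈ Subgroup.normalizer (Pst : Set G) :=
    Subgroup.mem_normalizer_fintype (fun n hn => hzP n hn)
  -- `z ∈ Pst`
  have hzpg : IsPGroup p (Subgroup.zpowers z) := by
    obtain ⟨k, hk⟩ := h.hzp
    apply IsPGroup.of_card (n := k)
    rw [Nat.card_zpowers, hk]
  have hinf := hzpg.inf_normalizer_sylow (Sylow.ofCard Pst hPcard)
  have hzPst : z ∈ Pst := by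
    have : z ∈ Subgroup.zpowers z ⊓ Subgroup.normalizer ((Sylow.ofCard Pst hPcard : Sylow p G) : Set G) :=
      ⟨Subgroup.mem_zpowers z, hzN⟩
    rw [hinf] at this
    exact this.2
  have hfin := f.zout Pst hPp hPQ z h.hzN h.hzp (Subgroup.mem_sup_left hzPst)
  obtain ⟨v, hvQ, hv⟩ := f.znc
  exact hv (hfin v hvQ)

end Cfsg.Agent.S4017P

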