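import Mathlib
import Cfsg.Prelude.Def_Local
import Cfsg.Prelude.Def_SolvableStructure

/-!
# S4394: definitions (helper26)

`GoodZ p T Z`: the class of `p`-groups used in the induction for S4394 (normal Sylow subgroups of
minimal non-nilpotent groups and their quotients by central subgroups).  `Z` is a central subgroup
containing all commutators and all `p`-th powers such that `[x, T] = Z` for every `x ∉ Z`
(`T` abelian with `Z = ⊤`, or `Z = Z(T) = T' = Φ(T)` and `T` "semi-extraspecial"), together with a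
condition (only for `p ≤ 3`) excluding `D₈`-like behaviour when `|T : Z| = p²`.
-/

set_option autoImplicit false

namespace Cfsg.Agent.S4394P

/-- see the module docstring. -/
def GoodZ (p : ℕ) (T : Type*) [Group T] (Z : Subgroup T) : Prop :=
  Z ≤ Subgroup.center T ∧ (∀ x y : T, x * y * x⁻¹ * y⁻¹ ∈ Z) ∧ (∀ x : T, x ^ p ∈ Z) ∧
  (∀ x : T, x ∉ Z → ∀ z ∈ Z, ∃ t : T, x * t * x⁻¹ * t⁻¹ = z) ∧
  (p ≤ 3 → Z.index = p ^ 2 → ∀ A : Subgroup T, Z ≤ A → A.index = p →
    ∀ N : Subgroup T, N ≤ Z → N ≠ Z → ∃ a ∈ A, a ^ p ∉ N)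

/-- `T` is good for `p`. -/
def Good (p : ℕ) (T : Type*) [Group T] : Prop := ∃ Z : Subgroup T, GoodZ p T Z

/-- Data of an "irreducible coprime automorphism" `y` of the `p`-subgroup `P` of `X`
(the situation of the normal Sylow subgroup of a minimal non-nilpotent group). -/
structure SchData (p : ℕ) {X : Type*} [Group X] (P : Subgroup X) (y : X) : Prop where
  pgrp : IsPGroup p P
  nrm : ∀ u ∈ P, y * u * y⁻¹ ∈ P
  cop : (orderOf y).Coprime p
  nc : ∃ u ∈ P, y * u ≠ u * y
  irr : ∀ M : Subgroup X, M ≤ P → M ≠ P → (∀ m ∈ M, y * m * y⁻¹ ∈ M) → ∀ m ∈ M, y * m = m * y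

end Cfsg.Agent.S4394P
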