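import Mathlib
import Cfsg.Agent.Helper26.S4394Defs
import Cfsg.Agent.Helper11.S4394NORM

/-!
# S4394, piece TH2 (helper26): the module part of the Thompson-style argument
-/

set_option autoImplicit false

namespace Cfsg.Agent.S4394P

open Cfsg

/-- pointwise stabilizer of a subgroup, as a subgroup of `MulAut V`. -/
def pwStab {V : Type*} [Group V] (W : Subgroup V) : Subgroup (MulAut V) where
  carrier := {g | ∀ w ∈ W, g w = w}
  mul_mem' := by
    intro a b ha hb w hw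
    rw [MulAut.mul_apply, hb w hw, ha w hw]
  one_mem' := by intro w _; rfl
  inv_mem' := by
    intro a ha w hw
    have := ha w hw
    calc a⁻¹ w = a⁻¹ (a w) := by rw [this]
      _ = w := by simp

theorem mem_pwStab {V : Type*} [Group V] (W : Subgroup V) (g : MulAut V) :
    g ∈ pwStab W ↔ ∀ w ∈ W, g w = w := Iff.rfl

/-- (K) -/
theorem th2_K {V : Type*} [Group V] (A R₁ : Subgroup (MulAut V)) (hcomm : ⁅R₁, A⁆ = R₁)
    (W : Subgroup V) (hWR : ∀ r ∈ R₁, ∀ w ∈ W, r w ∈ W) (hWA : ∀ a ∈ A, ∀ w ∈ W, a w = w) :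
    ∀ r ∈ R₁, ∀ w ∈ W, r w = w := by
  have h : ⁅R₁, A⁆ ≤ pwStab W := by
    rw [Subgroup.commutator_le]
    intro r hr a ha w hw
    rw [commutatorElement_def]
    simp only [MulAut.mul_apply]
    have h1 : a⁻¹ w = w := (pwStab W).inv_mem (fun w hw => hWA a ha w hw) w hw
    have h2 : r⁻¹ w ∈ W := hWR r⁻¹ (R₁.inv_mem hr) w hw
    rw [h1, hWA a ha _ h2]
    simp
  intro r hr w hw
  have hr' : r ∈ ⁅R₁, A⁆ := by rw [hcomm]; exact hr
  exact h hr' w hw


/-- `[V,R₁]`. -/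
def commSub {V : Type*} [Group V] (R₁ : Subgroup (MulAut V)) : Subgroup V :=
  Subgroup.closure {x : V | ∃ r ∈ R₁, ∃ v : V, x = r v * v⁻¹}

theorem commSub_inv_R {V : Type*} [Group V] (R₁ : Subgroup (MulAut V)) :
    ∀ r ∈ R₁, ∀ u ∈ commSub R₁, r u ∈ commSub R₁ := by
  intro r hr u hu
  unfold commSub at hu ⊢
  induction hu using Subgroup.closure_induction with
  | mem x hx =>
    obtain ⟨r', hr', v, rfl⟩ := hx
    apply Subgroup.subset_closure
    refine ⟨r * r' * r⁻¹, R₁.mul_mem (R₁.mul_mem hr hr') (R₁.inv_mem hr), r v, ?_⟩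
    simp [map_mul, map_inv]
  | one => rw [map_one]; exact Subgroup.one_mem _
  | mul x y _ _ hx hy => rw [map_mul]; exact Subgroup.mul_mem _ hx hy
  | inv x _ hx => rw [map_inv]; exact Subgroup.inv_mem _ hx

theorem commSub_inv_A {V : Type*} [Group V] (A R₁ : Subgroup (MulAut V))
    (hAR₁ : A ≤ Subgroup.normalizer (R₁ : Set (MulAut V))) :
    ∀ a ∈ A, ∀ u ∈ commSub R₁, a u ∈ commSub R₁ := by
  intro a ha u hu
  unfold commSub at hu ⊢
  induction hu using Subgroup.closure_induction with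
  | mem x hx =>
    obtain ⟨r', hr', v, rfl⟩ := hx
    apply Subgroup.subset_closure
    refine ⟨a * r' * a⁻¹, (Subgroup.mem_normalizer_iff.mp (hAR₁ ha) r').mp hr', a v, ?_⟩
    simp [map_mul, map_inv]
  | one => rw [map_one]; exact Subgroup.one_mem _
  | mul x y _ _ hx hy => rw [map_mul]; exact Subgroup.mul_mem _ hx hy
  | inv x _ hx => rw [map_inv]; exact Subgroup.inv_mem _ hx


/-- an element of `A` commuting with `R₁` fixes every `R₁`-invariant subgroup `U₀` on which its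
commutators fall into `[V,R₁]`. -/
theorem th2_fix {p : ℕ} [Fact p.Prime] {V : Type*} [Group V] [Finite V]
    (hVc : ∀ a b : V, a * b = b * a) (hVp : IsPGroup p V) (A R₁ : Subgroup (MulAut V))
    (hR₁ : ¬ p ∣ Nat.card R₁) (hcomm : ⁅R₁, A⁆ = R₁)
    (Z : Subgroup V) (hz1 : ∀ a ∈ A, ∀ z ∈ Z, a z = z) (hz2 : ∀ a ∈ A, ∀ v : V, a v * v⁻¹ ∈ Z)
    (a₀ : MulAut V) (ha₀ : a₀ ∈ A) (hc : ∀ r ∈ R₁, a₀ * r = r * a₀)
    (U₀ : Subgroup V) (hU₀ : ∀ r ∈ R₁, ∀ u ∈ U₀, r u ∈ U₀)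
    (hin : ∀ u ∈ U₀, a₀ u * u⁻¹ ∈ commSub R₁) : ∀ u ∈ U₀, a₀ u = u := by
  set W : Subgroup V := Subgroup.closure {x : V | ∃ u ∈ U₀, x = a₀ u * u⁻¹} with hW
  have hWZ : W ≤ Z := by
    rw [hW, Subgroup.closure_le]
    rintro x ⟨u, _, rfl⟩
    exact hz2 a₀ ha₀ u
  have hWU : W ≤ commSub R₁ := by
    rw [hW, Subgroup.closure_le]
    rintro x ⟨u, hu, rfl⟩
    exact hin u hu
  have hWR : ∀ r ∈ R₁, ∀ w ∈ W, r w ∈ W := by
    intro r hr w hw
    rw [hW] at hw ⊢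
    induction hw using Subgroup.closure_induction with
    | mem x hx =>
      obtain ⟨u, hu, rfl⟩ := hx
      apply Subgroup.subset_closure
      refine ⟨r u, hU₀ r hr u hu, ?_⟩
      have h1 : r (a₀ u) = a₀ (r u) := by
        have := congrArg (fun f : MulAut V => f u) (hc r hr)
        simpa [MulAut.mul_apply] using this.symm
      rw [map_mul, map_inv, h1]
    | one => rw [map_one]; exact Subgroup.one_mem _
    | mul x y _ _ hx hy => rw [map_mul]; exact Subgroup.mul_mem _ hx hy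
    | inv x _ hx => rw [map_inv]; exact Subgroup.inv_mem _ hx
  have hfix := th2_K A R₁ hcomm W hWR (fun a ha w hw => hz1 a ha w (hWZ hw))
  intro u hu
  have hw : a₀ u * u⁻¹ ∈ W := Subgroup.subset_closure ⟨u, hu, rfl⟩
  have h1 : a₀ u * u⁻¹ = 1 :=
    NORM hVc hVp R₁ hR₁ _ (hWU hw) (fun r hr => hfix r hr _ hw)
  exact mul_inv_eq_one.mp h1


theorem TH2 {p : ℕ} [Fact p.Prime] {V : Type*} [Group V] [Finite V]
    (hVc : ∀ a b : V, a * b = b * a) (hVp : IsPGroup p V) (A R₁ : Subgroup (MulAut V))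
    (t : MulAut V)
    (hAc : ∀ a ∈ A, ∀ b ∈ A, a * b = b * a) (hAp : ∀ a ∈ A, a ^ p = 1)
    (hR₁ : ¬ p ∣ Nat.card R₁) (hAR₁ : A ≤ Subgroup.normalizer (R₁ : Set (MulAut V)))
    (ht : t ∈ A) (htnc : ∃ r ∈ R₁, t * r ≠ r * t) (hcomm : ⁅R₁, A⁆ = R₁)
    (hdec : ∀ s ∈ A, ∃ a₀ ∈ A, ∃ i : ℕ, (∀ r ∈ R₁, a₀ * r = r * a₀) ∧ s = a₀ * t ^ i)
    (Z : Subgroup V) (hz1 : ∀ a ∈ A, ∀ z ∈ Z, a z = z) (hz2 : ∀ a ∈ A, ∀ v : V, a v * v⁻¹ ∈ Z)
    (hz3 : ∀ v : V, v ∉ Z → ∀ z ∈ Z, ∃ a ∈ A, a v * v⁻¹ = z) :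
    Nat.card A = p ∧ Nat.card Z = p := by
  classical
  have hp : p.Prime := Fact.out
  have ht1 : t ≠ 1 := by
    rintro rfl
    obtain ⟨r, _, h⟩ := htnc
    exact h (by simp)
  -- step 0
  have hZ1 : Z ≠ ⊥ := by
    intro h
    apply ht1
    ext v
    have := hz2 t ht v
    rw [h, Subgroup.mem_bot, mul_inv_eq_one] at this
    simpa using this
  set U := commSub R₁ with hU
  have hUR := commSub_inv_R R₁
  have hUA := commSub_inv_A A R₁ hAR₁
  -- step 2 : U ≰ Z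
  have hUZ : ∃ v ∈ U, v ∉ Z := by
    by_contra hcon
    push Not at hcon
    have hfix := th2_K A R₁ hcomm U hUR (fun a ha w hw => hz1 a ha w (hcon w hw))
    have hU1 : ∀ u ∈ U, u = 1 := fun u hu =>
      NORM hVc hVp R₁ hR₁ u hu (fun r hr => hfix r hr u hu)
    obtain ⟨r, hr, h⟩ := htnc
    apply h
    have : r = 1 := by
      ext v
      have hm : r v * v⁻¹ ∈ U := Subgroup.subset_closure ⟨r, hr, v, rfl⟩
      have := hU1 _ hm
      rw [mul_inv_eq_one] at this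
      simpa using this
    rw [this]; simp
  obtain ⟨v, hvU, hvZ⟩ := hUZ
  -- step 3
  have h3 : ∀ a₀ ∈ A, (∀ r ∈ R₁, a₀ * r = r * a₀) → ∀ u ∈ U, a₀ u = u := by
    intro a₀ ha₀ hc
    exact th2_fix hVc hVp A R₁ hR₁ hcomm Z hz1 hz2 a₀ ha₀ hc U hUR
      (fun u hu => U.mul_mem (hUA a₀ ha₀ u hu) (U.inv_mem hu))
  -- step 4
  have hpow : ∀ i : ℕ, t ^ i ∈ A := fun i => A.pow_mem ht i
  have h4 : ∀ z ∈ Z, ∃ i : ℕ, i < p ∧ z = (t ^ i) v * v⁻¹ := by
    intro z hz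
    obtain ⟨a, ha, hav⟩ := hz3 v hvZ z hz
    obtain ⟨a₀, ha₀, i, hc, rfl⟩ := hdec a ha
    refine ⟨i % p, Nat.mod_lt _ hp.pos, ?_⟩
    have h5 : a₀ * t ^ i = t ^ i * a₀ := hAc a₀ ha₀ _ (hpow i)
    have h6 : (t ^ i) v = (t ^ (i % p)) v := by
      have : t ^ i = t ^ (i % p) := by
        conv_lhs => rw [← Nat.div_add_mod i p, pow_add, pow_mul, hAp t ht, one_pow, one_mul]
      rw [this]
    rw [← hav, h5, MulAut.mul_apply, h3 a₀ ha₀ hc v hvU, h6]
  have hZU : Z ≤ U := by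
    intro z hz
    obtain ⟨i, _, rfl⟩ := h4 z hz
    exact U.mul_mem (hUA _ (hpow i) v hvU) (U.inv_mem hvU)
  have hZcard : Nat.card Z = p := by
    have hle : Nat.card Z ≤ p := by
      have hsurj : ∀ z : Z, ∃ i : Fin p, (z : V) = (t ^ (i : ℕ)) v * v⁻¹ := by
        intro z
        obtain ⟨i, hi, h⟩ := h4 z z.2
        exact ⟨⟨i, hi⟩, h⟩
      choose f hf using hsurj
      have hinj : Function.Injective f := by
        intro z₁ z₂ h
        apply Subtype.ext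
        rw [hf z₁, hf z₂, h]
      have := Nat.card_le_card_of_injective f hinj
      simpa using this
    have hZp : IsPGroup p Z := hVp.to_subgroup Z
    obtain ⟨k, hk⟩ := IsPGroup.iff_card.mp hZp
    have hk0 : k ≠ 0 := by
      rintro rfl
      apply hZ1
      rw [pow_zero] at hk
      exact (Subgroup.card_eq_one).mp hk
    have : p ^ 1 ≤ p ^ k := Nat.pow_le_pow_right hp.pos (Nat.one_le_iff_ne_zero.mpr hk0)
    rw [pow_one, ← hk] at this
    omega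
  -- step 5
  have h5 : ∀ τ ∈ A, (∀ r ∈ R₁, τ * r = r * τ) → τ = 1 := by
    intro τ hτ hc
    have := th2_fix hVc hVp A R₁ hR₁ hcomm Z hz1 hz2 τ hτ hc ⊤ (fun _ _ _ _ => Subgroup.mem_top _)
      (fun u _ => hZU (hz2 τ hτ u))
    ext w
    simpa using this w (Subgroup.mem_top _)
  -- step 6
  have hAt : A = Subgroup.zpowers t := by
    apply le_antisymm
    · intro s hs
      obtain ⟨a₀, ha₀, i, hc, rfl⟩ := hdec s hs
      rw [h5 a₀ ha₀ hc, one_mul]
      exact Subgroup.npow_mem_zpowers t i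
    · rw [Subgroup.zpowers_le]; exact ht
  refine ⟨?_, hZcard⟩
  rw [hAt, Nat.card_zpowers]
  exact orderOf_eq_prime (hAp t ht) ht1

end Cfsg.Agent.S4394P
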