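import Mathlib
import Cfsg.Agent.Helper15.S5704SEEDDefs2

set_option autoImplicit false
set_option linter.unusedSectionVars false
set_option linter.unusedVariables false

/-! # S5704, chapter SEED, sub-chapter GEND (designer helper26): definitions

`tv G y c` : the symplectic transvection `w ↦ w + c (w,y) y` on vectors.
`GE e GU GW u u' z p α β k` : `k` acts on pure tensors as
`G(u,u',z,p;α,β) : x ⊗ w ↦ x ⊗ w + (w,p) (α (x,u') u + β (x,u) u') ⊗ z - (w,z) (β (x,u') u + α (x,u) u') ⊗ p`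
(for `u ⊥ u'`, `z ⊥ p` this is `ρ(u ⊗ z, -α u' ⊗ p) ρ(u' ⊗ z, -β u ⊗ p)` in helper28's `siegO` convention).
`GFam e GU GW M lam lam' u u' z` : `M` contains `G(u,u',z,p;c lam,c lam')` for all `c` and all `p ⊥ z`. -/

namespace Cfsg.Agent.S5704P

open Matrix Cfsg.Agent.S5637P Cfsg.Agent.S5704S Cfsg.Agent.Helper28.Sg

variable {F : Type*} [Field F] {n a b : ℕ} (e : Fin n ≃ Fin a × Fin b)

/-- the symplectic transvection `t_{y,c} : w ↦ w + c (w,y) y` on vectors -/
def tv {m : ℕ} (G : Matrix (Fin m) (Fin m) F) (y : Fin m → F) (c : F) (w : Fin m → F) : Fin m → F :=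
  w + (c * bf G w y) • y

theorem tv_apply {m : ℕ} (G : Matrix (Fin m) (Fin m) F) (y : Fin m → F) (c : F) (w : Fin m → F) :
    tv G y c w = w + (c * bf G w y) • y := rfl

theorem bf_tv_tv {m : ℕ} {G : Matrix (Fin m) (Fin m) F} (hG : IsSymp G) (y : Fin m → F) (c : F)
    (w w' : Fin m → F) : bf G (tv G y c w) (tv G y c w') = bf G w w' := by
  unfold tv
  rw [bf_add_left, bf_add_right, bf_add_right, bf_smul_left, bf_smul_left, bf_smul_right,
    bf_smul_right, hG.alt y, hG.skew y w']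
  ring

theorem tv_neg_tv {m : ℕ} {G : Matrix (Fin m) (Fin m) F} (hG : IsSymp G) (y : Fin m → F) (c : F)
    (w : Fin m → F) : tv G y (-c) (tv G y c w) = w := by
  unfold tv
  rw [bf_add_left, bf_smul_left, hG.alt y, mul_zero, add_zero, neg_mul, neg_smul, add_neg_cancel_right]

theorem tv_tv_neg {m : ℕ} {G : Matrix (Fin m) (Fin m) F} (hG : IsSymp G) (y : Fin m → F) (c : F)
    (w : Fin m → F) : tv G y c (tv G y (-c) w) = w := by
  have h := tv_neg_tv hG y (-c) w
  rwa [neg_neg] at h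

/-- `bf G (t⁻¹ w) w' = bf G w (t w')` -/
theorem bf_tv_neg_left {m : ℕ} {G : Matrix (Fin m) (Fin m) F} (hG : IsSymp G) (y : Fin m → F) (c : F)
    (w w' : Fin m → F) : bf G (tv G y (-c) w) w' = bf G w (tv G y c w') := by
  rw [← bf_tv_tv hG y c (tv G y (-c) w) w', tv_tv_neg hG]

theorem XW_mulVec_tn_tv {GW : Matrix (Fin b) (Fin b) F} (hW : IsSymp GW) (y : Fin b → F) (c : F)
    (x : Fin a → F) (w : Fin b → F) :
    ((XW e GW y c : GL (Fin n) F) : Matrix (Fin n) (Fin n) F) *ᵥ tn e x w = tn e x (tv GW y c w) :=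
  XW_mulVec_tn e hW y c x w

theorem XU_mulVec_tn_tv {GU : Matrix (Fin a) (Fin a) F} (hU : IsSymp GU) (v : Fin a → F) (s : F)
    (x : Fin a → F) (w : Fin b → F) :
    ((XU e GU v s : GL (Fin n) F) : Matrix (Fin n) (Fin n) F) *ᵥ tn e x w = tn e (tv GU v s x) w :=
  XU_mulVec_tn e hU v s x w

/-- `k` acts on pure tensors as `G(u,u',z,p;α,β)` -/
def GE (GU : Matrix (Fin a) (Fin a) F) (GW : Matrix (Fin b) (Fin b) F) (u u' : Fin a → F)
    (z p : Fin b → F) (α β : F) (k : GL (Fin n) F) : Prop :=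
  ∀ (x : Fin a → F) (w : Fin b → F),
    (k : Matrix (Fin n) (Fin n) F) *ᵥ tn e x w =
      tn e x w + bf GW w p • tn e ((α * bf GU x u') • u + (β * bf GU x u) • u') z -
        bf GW w z • tn e ((β * bf GU x u') • u + (α * bf GU x u) • u') p

/-- `M` contains `G(u,u',z,p;c lam,c lam')` for all `c` and all `p ⊥ z` -/
def GFam (GU : Matrix (Fin a) (Fin a) F) (GW : Matrix (Fin b) (Fin b) F)
    (M : Subgroup (GL (Fin n) F)) (lam lam' : F) (u u' : Fin a → F) (z : Fin b → F) : Prop :=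
  ∀ (c : F) (p : Fin b → F), bf GW p z = 0 →
    ∃ k : GL (Fin n) F, k ∈ M ∧ GE e GU GW u u' z p (c * lam) (c * lam') k

/-- the bridge from helper15's `EGp` -/
theorem GE_of_EGp {GU : Matrix (Fin a) (Fin a) F} {GW : Matrix (Fin b) (Fin b) F} {u u' : Fin a → F}
    {z p : Fin b → F} {lam lam' c : F} {k : GL (Fin n) F}
    (h : EGp e GW z p (c • (lam • RK GU u u' + lam' • RK GU u' u))
      (-(c • (lam' • RK GU u u' + lam • RK GU u' u))) 0 k) :
    GE e GU GW u u' z p (c * lam) (c * lam') k := by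
  intro x w
  rw [h x w, zero_mulVec, tn_zero_left, add_zero, neg_mulVec, smul_mulVec, smul_mulVec,
    add_mulVec, add_mulVec, smul_mulVec, smul_mulVec, smul_mulVec, smul_mulVec, RK_mulVec,
    RK_mulVec, tn_neg_left, smul_neg, ← sub_eq_add_neg]
  simp only [smul_add, smul_smul, mul_assoc]

end Cfsg.Agent.S5704P
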