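import Mathlib
import Cfsg.Agent.Helper24.S5704.Defs
import Cfsg.Agent.Helper28.S5704QZ

set_option autoImplicit false
set_option linter.unusedSectionVars false
set_option linter.unusedVariables false

/-! # S5704, chapter (1) ROOTS (helper26): corollaries of QZOMEGA (helper28) in the tensor setting `P = 1`.

* `ROOTS.polar_tn` : `polar Q x (u ⊗ z) = bf GU (cps e (psi GW z) x) u`.
* `ROOTS.radAt_mem_omega` : an isometry `g` with `RadAt e GW z g` lies in `omegaGL ⇑Q`.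
* `ROOTS.XW_iso`, `ROOTS.XW_radAt`, `ROOTS.XW_mem_omega`, `ROOTS.XW_mem_H` : the root elements `1 ⊗ t_{z,c}`.
* `ROOTS.XU_iso`, `ROOTS.XU_mem_omega`, `ROOTS.XU_mem_H` : the root elements `t_{u,c} ⊗ 1` (by swapping the factors). -/

namespace Cfsg.Agent.S5704P

open Matrix Cfsg.Agent.S5637P Cfsg.Agent.S5704S Cfsg.Agent.S5634P

variable {F : Type*} [Field F] {n a b : ℕ} (e : Fin n ≃ Fin a × Fin b)

theorem ROOTS.bf_sum_left {m : ℕ} {α : Type*} (G : Matrix (Fin m) (Fin m) F) (s : Finset α)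
    (f : α → Fin m → F) (y : Fin m → F) : bf G (∑ i ∈ s, f i) y = ∑ i ∈ s, bf G (f i) y := by
  unfold bf
  rw [sum_dotProduct]

theorem ROOTS.bf_single_left {m : ℕ} (G : Matrix (Fin m) (Fin m) F) (j : Fin m) (z : Fin m → F) :
    bf G (Pi.single j 1) z = psi G z j := by
  unfold bf psi
  rw [single_dotProduct, one_mul]

/-- `polar Q x (u ⊗ z) = bf GU (c_{ψ_z} x) u` -/
theorem ROOTS.polar_tn {Q : QuadraticForm F (Fin n → F)} {GU : Matrix (Fin a) (Fin a) F}
    {GW : Matrix (Fin b) (Fin b) F} (hT : TData Q e 1 GU GW) (x : Fin n → F) (u : Fin a → F)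
    (z : Fin b → F) :
    QuadraticMap.polar ⇑Q x (tn e u z) = bf GU (cps e (psi GW z) x) u := by
  have h1 : QuadraticMap.polar ⇑Q x (tn e u z) =
      ∑ j : Fin b, QuadraticMap.polar ⇑Q (tn e (col e x j) (Pi.single j 1)) (tn e u z) := by
    conv_lhs => rw [eq_sum_tn_col e x]
    rw [← QuadraticMap.polarBilin_apply_apply, map_sum, LinearMap.sum_apply]
    rfl
  rw [h1, cps_eq_sum_col, ROOTS.bf_sum_left]
  refine Finset.sum_congr rfl fun j _ => ?_
  have h2 := hT.pol (col e x j) (Pi.single j 1) u z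
  rw [pt_one, pt_one] at h2
  rw [h2, bf_smul_left, ROOTS.bf_single_left, mul_comm]

/-- a vector killed by `c_ψ` is a sum of pure tensors `u ⊗ w` with `ψ(w) = 0` -/
theorem ROOTS.decomp_of_cps_eq_zero {ψ : Fin b → F} (hψ : ψ ≠ 0) {x : Fin n → F}
    (hx : cps e ψ x = 0) :
    ∃ w : Fin b → Fin b → F, (∀ j, ψ ⬝ᵥ w j = 0) ∧ x = ∑ j : Fin b, tn e (col e x j) (w j) := by
  obtain ⟨j0, hj0⟩ : ∃ j0, ψ j0 ≠ 0 := by
    by_contra hcon
    apply hψ
    funext j
    by_contra hj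
    exact hcon ⟨j, hj⟩
  refine ⟨fun j => Pi.single j 1 - (ψ j / ψ j0) • Pi.single j0 1, fun j => ?_, ?_⟩
  · rw [dotProduct_sub, dotProduct_smul, dotProduct_single, dotProduct_single, mul_one, mul_one,
      smul_eq_mul, div_mul_cancel₀ _ hj0, sub_self]
  · have h1 : ∑ j : Fin b, tn e (col e x j) ((ψ j / ψ j0) • Pi.single j0 1) = 0 := by
      have : ∀ j : Fin b, tn e (col e x j) ((ψ j / ψ j0) • Pi.single j0 (1 : F)) =
          tn e ((ψ j0)⁻¹ • (ψ j • col e x j)) (Pi.single j0 1) := by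
        intro j
        rw [tn_smul_right, tn_smul_left, tn_smul_left, smul_smul, div_eq_inv_mul]
      rw [Finset.sum_congr rfl fun j _ => this j, ← tn_sum_left, ← Finset.smul_sum,
        ← cps_eq_sum_col, hx, smul_zero, tn_zero_left]
    have h2 : ∑ j : Fin b, tn e (col e x j) (Pi.single j 1 - (ψ j / ψ j0) • Pi.single j0 1) =
        ∑ j : Fin b, tn e (col e x j) (Pi.single j 1) -
          ∑ j : Fin b, tn e (col e x j) ((ψ j / ψ j0) • Pi.single j0 1) := by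
      rw [← Finset.sum_sub_distrib]
      exact Finset.sum_congr rfl fun j _ => tn_sub_right e _ _ _
    rw [h2, h1, sub_zero]
    exact eq_sum_tn_col e x

theorem ROOTS.psi_ne_zero {m : ℕ} {G : Matrix (Fin m) (Fin m) F} (hG : IsSymp G) {z : Fin m → F}
    (hz : z ≠ 0) : psi G z ≠ 0 := by
  intro h
  apply hz
  apply hG.nondeg
  intro y
  rw [hG.skew, ← psi_dot, h, zero_dotProduct, neg_zero]

section fin

variable [Fintype F]

/-- ROOTS: an isometry in the unipotent radical `Q_z` lies in `Ω` -/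
theorem ROOTS.radAt_mem_omega {Q : QuadraticForm F (Fin n → F)}
    (hQ : (QuadraticMap.polarBilin Q).Nondegenerate) (hn : 8 ≤ n)
    {GU : Matrix (Fin a) (Fin a) F} {GW : Matrix (Fin b) (Fin b) F} (hT : TData Q e 1 GU GW)
    (z : Fin b → F) (g : GL (Fin n) F)
    (hiso : ∀ x, Q ((g : Matrix (Fin n) (Fin n) F) *ᵥ x) = Q x) (hR : RadAt e GW z g) :
    g ∈ Cfsg.Geo.omegaGL ⇑Q := by
  by_cases hz : z = 0
  · -- `g = 1`
    have hg : g = 1 := by
      apply gl_ext_tn e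
      intro u w
      obtain ⟨u', hu'⟩ := hR.2 u w (by rw [hz, bf_zero_right])
      rw [hz, tn_zero_right, sub_eq_zero] at hu'
      rw [hu', Units.val_one, Matrix.one_mulVec]
    rw [hg]
    exact Subgroup.one_mem _
  refine QZOMEGA.main hQ hn g hiso (Vw e z) ?_ ?_ ?_
  · intro x hx
    obtain ⟨u, rfl⟩ := (mem_Vw e).1 hx
    rw [← pt_one]
    exact hT.sing u z
  · intro x hx
    obtain ⟨u, rfl⟩ := (mem_Vw e).1 hx
    exact hR.1 u
  · intro x hx
    have hc : cps e (psi GW z) x = 0 := by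
      apply hT.sympU.nondeg
      intro u
      rw [← ROOTS.polar_tn e hT]
      exact hx _ (tn_mem_Vw e u z)
    obtain ⟨w, hw, hxw⟩ := ROOTS.decomp_of_cps_eq_zero e (ROOTS.psi_ne_zero hT.sympW hz) hc
    have hu' : ∀ j : Fin b, ∃ u' : Fin a → F,
        (g : Matrix (Fin n) (Fin n) F) *ᵥ tn e (col e x j) (w j) - tn e (col e x j) (w j) =
          tn e u' z := fun j => hR.2 _ _ (by rw [← psi_dot]; exact hw j)
    choose u' hu' using hu'
    have : (g : Matrix (Fin n) (Fin n) F) *ᵥ x - x = tn e (∑ j, u' j) z := by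
      conv_lhs => rw [hxw]
      rw [Matrix.mulVec_sum, ← Finset.sum_sub_distrib, tn_sum_left]
      exact Finset.sum_congr rfl fun j _ => hu' j
    rw [this]
    exact tn_mem_Vw e _ z

end fin

/-- `1 ⊗ t_{z,c}` is an isometry -/
theorem ROOTS.XW_iso {Q : QuadraticForm F (Fin n → F)} {GU : Matrix (Fin a) (Fin a) F}
    {GW : Matrix (Fin b) (Fin b) F} (hT : TData Q e 1 GU GW) (z : Fin b → F) (c : F)
    (x : Fin n → F) :
    Q (((XW e GW z c : GL (Fin n) F) : Matrix (Fin n) (Fin n) F) *ᵥ x) = Q x := by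
  rw [XW_mulVec e hT.sympW]
  have h1 : Q (x + c • tn e (cps e (psi GW z) x) z) =
      Q x + Q (c • tn e (cps e (psi GW z) x) z) +
        QuadraticMap.polar ⇑Q x (c • tn e (cps e (psi GW z) x) z) := by
    unfold QuadraticMap.polar
    ring
  have h2 : Q (c • tn e (cps e (psi GW z) x) z) = 0 := by
    rw [QuadraticMap.map_smul, ← pt_one, hT.sing, smul_zero]
  rw [h1, h2, QuadraticMap.polar_smul_right, ROOTS.polar_tn e hT, hT.sympU.alt, smul_zero, add_zero,
    add_zero]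

theorem ROOTS.XW_radAt {GW : Matrix (Fin b) (Fin b) F} (hW : IsSymp GW) (z : Fin b → F) (c : F) :
    RadAt e GW z (XW e GW z c) := by
  refine ⟨fun u => ?_, fun u w hw => ⟨0, ?_⟩⟩
  · rw [XW_mulVec_tn e hW, hW.alt, mul_zero, zero_smul, add_zero]
  · rw [XW_mulVec_tn e hW, hw, mul_zero, zero_smul, add_zero, sub_self, tn_zero_left]

section fin

variable [Fintype F]

theorem ROOTS.XW_mem_omega {Q : QuadraticForm F (Fin n → F)}
    (hQ : (QuadraticMap.polarBilin Q).Nondegenerate) (hn : 8 ≤ n)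
    {GU : Matrix (Fin a) (Fin a) F} {GW : Matrix (Fin b) (Fin b) F} (hT : TData Q e 1 GU GW)
    (z : Fin b → F) (c : F) : XW e GW z c ∈ Cfsg.Geo.omegaGL ⇑Q :=
  ROOTS.radAt_mem_omega e hQ hn hT z _ (ROOTS.XW_iso e hT z c) (ROOTS.XW_radAt e hT.sympW z c)

theorem ROOTS.XW_mem_H {Q : QuadraticForm F (Fin n → F)}
    (hQ : (QuadraticMap.polarBilin Q).Nondegenerate) (hn : 8 ≤ n)
    {GU : Matrix (Fin a) (Fin a) F} {GW : Matrix (Fin b) (Fin b) F} (hT : TData Q e 1 GU GW)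
    (z : Fin b → F) (c : F) : XW e GW z c ∈ Kr e ⊓ Cfsg.Geo.omegaGL ⇑Q :=
  ⟨XW_mem_Kr e hT.sympW z c, ROOTS.XW_mem_omega e hQ hn hT z c⟩

end fin

/-! ## the other factor, by swapping -/

/-- the swapped index equivalence -/
def ROOTS.esw : Fin n ≃ Fin b × Fin a := e.trans (Equiv.prodComm _ _)

theorem ROOTS.tn_esw (u : Fin a → F) (w : Fin b → F) : tn (ROOTS.esw e) w u = tn e u w := by
  funext k
  rw [tn_apply, tn_apply]
  exact mul_comm _ _

theorem ROOTS.tdata_esw {Q : QuadraticForm F (Fin n → F)} {GU : Matrix (Fin a) (Fin a) F}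
    {GW : Matrix (Fin b) (Fin b) F} (hT : TData Q e 1 GU GW) :
    TData Q (ROOTS.esw e) 1 GW GU where
  unit := hT.unit
  sympU := hT.sympW
  sympW := hT.sympU
  sing := fun w u => by
    rw [pt_one, ROOTS.tn_esw, ← pt_one]
    exact hT.sing u w
  pol := fun w u w' u' => by
    rw [pt_one, pt_one, ROOTS.tn_esw, ROOTS.tn_esw, ← pt_one, ← pt_one, hT.pol, mul_comm]

theorem ROOTS.XU_eq_XW_esw {GU : Matrix (Fin a) (Fin a) F} (hU : IsSymp GU) (u : Fin a → F) (c : F) :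
    XU e GU u c = XW (ROOTS.esw e) GU u c := by
  apply gl_ext_tn e
  intro u' w
  rw [XU_mulVec_tn e hU, ← ROOTS.tn_esw e u' w, XW_mulVec_tn (ROOTS.esw e) hU, ROOTS.tn_esw]

/-- `t_{u,c} ⊗ 1` is an isometry -/
theorem ROOTS.XU_iso {Q : QuadraticForm F (Fin n → F)} {GU : Matrix (Fin a) (Fin a) F}
    {GW : Matrix (Fin b) (Fin b) F} (hT : TData Q e 1 GU GW) (u : Fin a → F) (c : F)
    (x : Fin n → F) :
    Q (((XU e GU u c : GL (Fin n) F) : Matrix (Fin n) (Fin n) F) *ᵥ x) = Q x := by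
  rw [ROOTS.XU_eq_XW_esw e hT.sympU]
  exact ROOTS.XW_iso (ROOTS.esw e) (ROOTS.tdata_esw e hT) u c x

section fin

variable [Fintype F]

theorem ROOTS.XU_mem_omega {Q : QuadraticForm F (Fin n → F)}
    (hQ : (QuadraticMap.polarBilin Q).Nondegenerate) (hn : 8 ≤ n)
    {GU : Matrix (Fin a) (Fin a) F} {GW : Matrix (Fin b) (Fin b) F} (hT : TData Q e 1 GU GW)
    (u : Fin a → F) (c : F) : XU e GU u c ∈ Cfsg.Geo.omegaGL ⇑Q := by
  rw [ROOTS.XU_eq_XW_esw e hT.sympU]
  exact ROOTS.XW_mem_omega (ROOTS.esw e) hQ hn (ROOTS.tdata_esw e hT) u c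

theorem ROOTS.XU_mem_H {Q : QuadraticForm F (Fin n → F)}
    (hQ : (QuadraticMap.polarBilin Q).Nondegenerate) (hn : 8 ≤ n)
    {GU : Matrix (Fin a) (Fin a) F} {GW : Matrix (Fin b) (Fin b) F} (hT : TData Q e 1 GU GW)
    (u : Fin a → F) (c : F) : XU e GU u c ∈ Kr e ⊓ Cfsg.Geo.omegaGL ⇑Q :=
  ⟨XU_mem_Kr e GU u c, ROOTS.XU_mem_omega e hQ hn hT u c⟩

end fin

end Cfsg.Agent.S5704P
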