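import Mathlib
import Cfsg.Prelude.Def_Characters
import Cfsg.Agent.Helper12.LSUDefs
import Cfsg.Agent.Helper12.LSpWDefs
import Cfsg.Agent.Helper12.LSpWPDefs
import Cfsg.Agent.Helper12.LSpDefs
import Cfsg.Agent.Helper20.LSUNI

set_option autoImplicit false

/-! S2347 piece SNI: a nonzero symmetric matrix is moved to one with nonzero corner. -/

namespace Cfsg.Agent.Helper12.LSp

open Matrix Cfsg Cfsg.Agent.Helper2.Sp Cfsg.Agent.Helper12.LSU Cfsg.Agent.Helper25

variable {n : ℕ} {F : Type*} [Field F]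

/-! ### SNI -/
theorem sni_exists_corner_ne_zero (h2 : (2 : F) ≠ 0) {m : ℕ}
    (H : Matrix (Fin (m + 1)) (Fin (m + 1)) F) (hH : Hᵀ = H) (h0 : H ≠ 0) :
    ∃ A : Matrix (Fin (m + 1)) (Fin (m + 1)) F, A.det ≠ 0 ∧ (A * H * Aᵀ) 0 0 ≠ 0 := by
  classical
  have hH' : ∀ a b, H a b = H b a := by
    intro a b
    have h2 := congrFun (congrFun hH b) a
    rw [Matrix.transpose_apply] at h2
    exact h2
  have hdet : ∀ (i j : Fin (m + 1)) (c : F), i ≠ j ∨ c = 0 →
      ((1 + Matrix.single i j c).submatrix (Equiv.swap 0 i) id).det ≠ 0 := by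
    intro i j c hc
    have hd1 : (1 + Matrix.single i j c).det = 1 := by
      rcases hc with hne | hc0
      · exact Matrix.det_transvection_of_ne _ _ hne _
      · rw [hc0]
        simp
    rw [Matrix.det_permute, hd1, mul_one]
    rcases Int.units_eq_one_or (Equiv.Perm.sign (Equiv.swap (0 : Fin (m + 1)) i)) with h | h <;>
      rw [h] <;> simp
  have hrow : ∀ (i j : Fin (m + 1)) (c : F) (k : Fin (m + 1)),
      ((1 + Matrix.single i j c).submatrix (Equiv.swap 0 i) id) 0 k =
        (if k = i then 1 else 0) + (if k = j then c else 0) := by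
    intro i j c k
    rw [Matrix.submatrix_apply, Equiv.swap_apply_left, Matrix.add_apply, Matrix.one_apply,
      Matrix.single_apply]
    simp only [id, true_and, eq_comm]
  by_cases hdiag : ∃ i, H i i ≠ 0
  · obtain ⟨i, hi⟩ := hdiag
    refine ⟨(1 + Matrix.single i i (0 : F)).submatrix (Equiv.swap 0 i) id,
      hdet i i 0 (Or.inr rfl), ?_⟩
    rw [← hact_id, ni_corner (RingHom.id F) _ H i i 0 (hrow i i 0)]
    simpa using hi
  · push Not at hdiag
    obtain ⟨i, j, hij⟩ : ∃ i j, H i j ≠ 0 := by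
      by_contra hcon
      push Not at hcon
      exact h0 (by ext a b; exact hcon a b)
    have hne : i ≠ j := by
      intro h
      rw [h] at hij
      exact hij (hdiag j)
    refine ⟨(1 + Matrix.single i j (1 : F)).submatrix (Equiv.swap 0 i) id,
      hdet i j 1 (Or.inl hne), ?_⟩
    rw [← hact_id, ni_corner (RingHom.id F) _ H i j 1 (hrow i j 1), hdiag i, hdiag j, hH' j i]
    simp only [RingHom.id_apply, one_mul, mul_one, zero_add, add_zero]
    rw [← two_mul]
    exact mul_ne_zero h2 hij

end Cfsg.Agent.Helper12.LSp
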