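import Mathlib
import Cfsg.Prelude.Def_Characters
import Cfsg.Agent.Helper12.LSUDefs
import Cfsg.Agent.Helper12.LSpWDefs
import Cfsg.Agent.Helper12.LSpWPDefs
import Cfsg.Agent.Helper12.LSpDefs
import Cfsg.Agent.Helper3.LSUCOL

set_option autoImplicit false

/-! S2347 piece SCOL: realising the corner `a ^ 2 * c` and an arbitrary first column. -/

namespace Cfsg.Agent.Helper12.LSp

open Matrix Cfsg Cfsg.Agent.Helper2.Sp Cfsg.Agent.Helper12.LSU Cfsg.Agent.Helper25

variable {n : ℕ} {F : Type*} [Field F]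

/-! ### SCOL -/
theorem scol_exists_corner_col {m : ℕ} (H : Matrix (Fin (m + 1)) (Fin (m + 1)) F) (hH : Hᵀ = H)
    (hc : H 0 0 ≠ 0) (a : F) (ha : a ≠ 0) (w : Fin m → F) :
    ∃ A : Matrix (Fin (m + 1)) (Fin (m + 1)) F, A.det ≠ 0 ∧ (A * H * Aᵀ) 0 0 = a ^ 2 * H 0 0 ∧
      ∀ j : Fin m, (A * H * Aᵀ) j.succ 0 = w j := by
  classical
  obtain ⟨d, hd⟩ : ∃ d : Fin m → F, d = fun _ => 1 := ⟨_, rfl⟩
  obtain ⟨b, hb⟩ : ∃ b : Fin m → F, b = fun j => (w j / a - H j.succ 0) / H 0 0 := ⟨_, rfl⟩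
  refine ⟨col_mat a b d, ?_, ?_, ?_⟩
  · rw [col_mat_det, hd]
    simpa using ha
  · rw [← hact_id, col_hact_col, Fin.sum_univ_succ, col_mat_zero_zero]
    have hrest : ∑ l : Fin m, col_mat a b d 0 l.succ * H l.succ 0 = 0 := by
      refine Finset.sum_eq_zero fun l _ => ?_
      rw [col_mat_zero_succ, zero_mul]
    rw [hrest, add_zero, RingHom.id_apply]
    ring
  · intro j
    rw [← hact_id, col_hact_col, Fin.sum_univ_succ, col_mat_succ_zero]
    have hrest : ∑ l : Fin m, col_mat a b d j.succ l.succ * H l.succ 0 = H j.succ 0 := by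
      rw [Finset.sum_eq_single j]
      · rw [col_mat_succ_succ, if_pos rfl, hd, one_mul]
      · intro l _ hl
        rw [col_mat_succ_succ, if_neg hl, zero_mul]
      · intro h
        exact absurd (Finset.mem_univ j) h
    rw [hrest, RingHom.id_apply, hb]
    field_simp
    ring

end Cfsg.Agent.Helper12.LSp
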