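import Mathlib
import Cfsg.Prelude.Def_Characters
import Cfsg.Agent.Helper12.WGDefs
import Cfsg.Agent.Helper12.WGDefsC
import Cfsg.Agent.Helper12.WGStruct
import Cfsg.Agent.Helper12.LSpWFin
import Cfsg.Agent.Helper5.CharKer
import Cfsg.Agent.Helper2.SpPerfect
import Cfsg.Agent.Helper18.WGSPECNAT

set_option autoImplicit false

/-! # S2524, piece NONTRIV: a nontrivial irreducible character of `Sp_{2n}(F)` has a nonzero
matrix in its spectrum on the Siegel radical. -/

namespace Cfsg.Agent.S2524P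

open Matrix Cfsg Cfsg.Agent.S2333P Cfsg.Agent.Helper2.Sp Cfsg.Agent.Helper12.LSp Cfsg.Agent.Helper25

variable {F : Type*} [Field F] [Fintype F]

omit [Fintype F] in
/-- a transvection in the direction of the first basis vector lies in the Siegel radical -/
theorem nontriv_Tg_eq_US {n : ℕ} (hn : 1 ≤ n) (c : F) :
    ∃ Y : ↥(SymM n F), Tg (Pi.single (Sum.inl (⟨0, hn⟩ : Fin n)) (1 : F)) c =
      US n F (Multiplicative.ofAdd Y) := by
  have hsym : (-c) • Matrix.single (⟨0, hn⟩ : Fin n) (⟨0, hn⟩ : Fin n) (1 : F) ∈ SymM n F := by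
    rw [mem_SymM, transpose_smul, Matrix.transpose_single]
  refine ⟨⟨_, hsym⟩, ?_⟩
  apply ext_mulVec
  intro x
  rw [Tg_mulVec, US_mulVec]
  have hom : om (Pi.single (Sum.inl (⟨0, hn⟩ : Fin n)) (1 : F)) x = - x (Sum.inr ⟨0, hn⟩) := by
    rw [om_eq_sum]
    simp [Pi.single_apply]
  rw [hom]
  funext k
  rcases k with i | i
  · simp only [Pi.add_apply, Pi.smul_apply, smul_eq_mul, Sum.elim_inl, Matrix.smul_apply,
      Matrix.single_apply, Pi.single_apply]
    by_cases hi : i = ⟨0, hn⟩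
    · subst hi
      simp
    · have hi' : ¬ ((⟨0, hn⟩ : Fin n) = i) := fun h => hi h.symm
      simp [hi, hi']
  · simp

omit [Fintype F] in
/-- a normal subgroup of `Sp_{2n}(F)` containing the Siegel radical is everything -/
theorem nontriv_normal_eq_top {n : ℕ} (hn : 1 ≤ n) (N : Subgroup ↥(symplecticGroup (Fin n) F))
    (hN : N.Normal) (hU : ∀ Y : ↥(SymM n F), US n F (Multiplicative.ofAdd Y) ∈ N) : N = ⊤ := by
  rw [eq_top_iff, ← TV_eq_top (Fin n) F, TV, Subgroup.closure_le]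
  rintro _ ⟨⟨v, c⟩, rfl⟩
  rw [SetLike.mem_coe]
  show Tg v c ∈ N
  by_cases hv : v = 0
  · have h1 : Tg v c = 1 := by
      apply ext_mulVec
      intro x
      rw [Tg_mulVec, hv, smul_zero, add_zero]
      show x = (1 : Matrix (Fin n ⊕ Fin n) (Fin n ⊕ Fin n) F) *ᵥ x
      rw [Matrix.one_mulVec]
    rw [h1]
    exact N.one_mem
  · have he : (Pi.single (Sum.inl (⟨0, hn⟩ : Fin n)) (1 : F) : Fin n ⊕ Fin n → F) ≠ 0 := by
      intro h
      have := congrFun h (Sum.inl ⟨0, hn⟩)
      simp at this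
    obtain ⟨g, hg⟩ := exists_symplectic_mulVec_eq _ v he hv
    rw [← hg, ← conj_Tg]
    apply hN.conj_mem
    obtain ⟨Y, hY⟩ := nontriv_Tg_eq_US hn c
    rw [hY]
    exact hU Y

/-- **NONTRIV**: a nontrivial irreducible character has a nonzero matrix in its spectrum -/
theorem exists_spec_ne_zero (hodd : Odd (Fintype.card F)) {n : ℕ} (hn : 1 ≤ n)
    (ψ : AddChar F ℂ) (hψ : ψ ≠ 1) (χ : ↥(symplecticGroup (Fin n) F) → ℂ)
    (hχ : IsIrrCharacter ↥(symplecticGroup (Fin n) F) χ) (h1 : χ ≠ (fun _ => 1)) :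
    ∃ T : ↥(SymM n F), T ≠ 0 ∧ spec ψ χ T ≠ 0 := by
  classical
  by_contra hcon
  push Not at hcon
  have h2 : (2 : F) ≠ 0 := two_ne_zero_of_odd_card hodd
  have hconst : ∀ Y : Multiplicative ↥(SymM n F), χ (US n F Y) = spec ψ χ 0 := by
    intro Y
    rw [specU_expand h2 ψ hψ (US n F) χ Y, Finset.sum_eq_single 0]
    · have hl : lamT ψ (0 : ↥(SymM n F)) Y = 1 := by
        show ψ (Matrix.trace (((0 : ↥(SymM n F)) : Matrix (Fin n) (Fin n) F) *
          (Multiplicative.toAdd Y).1)) = 1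
        rw [AddSubgroup.coe_zero, Matrix.zero_mul, Matrix.trace_zero, AddChar.map_zero_eq_one]
      rw [hl, mul_one]
    · intro T _ hT
      have := hcon T hT
      unfold spec at this
      rw [this, zero_mul]
    · intro h
      exact absurd (Finset.mem_univ _) h
  have hker : ∀ Y : Multiplicative ↥(SymM n F), χ (US n F Y) = χ 1 := by
    intro Y
    rw [hconst Y, ← hconst 1, map_one]
  obtain ⟨χ', hχ'⟩ : ∃ χ' : IrrCharacter ↥(symplecticGroup (Fin n) F), (χ' : _ → ℂ) = χ :=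
    ⟨⟨χ, hχ⟩, rfl⟩
  have hN : Cfsg.Agent.Helper5.charKer χ' = ⊤ := by
    apply nontriv_normal_eq_top hn _ (Cfsg.Agent.Helper5.charKer_normal χ')
    intro Y
    rw [Cfsg.Agent.Helper5.mem_charKer, hχ']
    exact hker _
  have hall : ∀ g, χ g = χ 1 := by
    intro g
    have : g ∈ Cfsg.Agent.Helper5.charKer χ' := by rw [hN]; exact Subgroup.mem_top g
    rw [Cfsg.Agent.Helper5.mem_charKer, hχ'] at this
    exact this
  obtain ⟨d, hd, hd1⟩ := Cfsg.Agent.Helper24.isIrrCharacter_one hχ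
  have hinner := Cfsg.Agent.Helper24.classInner_irr_self χ'
  rw [hχ'] at hinner
  unfold classInner at hinner
  have hsum : ∑ g : ↥(symplecticGroup (Fin n) F), χ g * (starRingEnd ℂ) (χ g) =
      (Nat.card ↥(symplecticGroup (Fin n) F) : ℂ) * ((d : ℂ) * (d : ℂ)) := by
    rw [Finset.sum_congr rfl (fun g _ => by rw [hall g, hd1, Complex.conj_natCast])]
    rw [Finset.sum_const, Finset.card_univ, nsmul_eq_mul, Nat.card_eq_fintype_card]
  rw [hsum] at hinner
  have hcard : (Nat.card ↥(symplecticGroup (Fin n) F) : ℂ) ≠ 0 := by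
    have : 0 < Nat.card ↥(symplecticGroup (Fin n) F) := Nat.card_pos
    exact_mod_cast this.ne'
  rw [← mul_assoc, inv_mul_cancel₀ hcard, one_mul] at hinner
  have hdd : d * d = 1 := by exact_mod_cast hinner
  have hd1' : d = 1 := by
    rcases Nat.lt_or_ge d 2 with h | h
    · omega
    · nlinarith
  apply h1
  funext g
  rw [hall g, hd1, hd1', Nat.cast_one]

end Cfsg.Agent.S2524P
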