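import Mathlib
import Cfsg.Agent.Helper2.S2094.DefsR

set_option autoImplicit false
set_option linter.unusedSectionVars false
set_option linter.unusedVariables false

/-! S2094 chapter R, pieces CONJSL and (master lemma for) CONJSS1 (driver helper2): a short Weyl
element `wY Ys a t` acting on the abelian group generated by `X c a`, `Ys c`, `X c (ng a)`. -/

namespace Cfsg.Agent.S2094P

open Matrix Cfsg.Agent.S3352P Cfsg.Agent.S3351P Cfsg.Agent.S2096P Cfsg.Agent.RGD

variable {n : ℕ} {F : Type*} [Field F] {M : Type*} [Group M] {X : J n → J n → F → M}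
  {Ys : J n → F → M}

namespace CONJSL

theorem conj_eq_cm_inv_mul (x y : M) : y * x * y⁻¹ = (cm x y)⁻¹ * x := by
  rw [cm_def]; group

theorem conj_eq_cm_mul (x y : M) : x * y * x⁻¹ = cm x y * y := by
  rw [cm_def]; group

theorem conj_mul3 (g x y z : M) :
    g * (x * y * z) * g⁻¹ = (g * x * g⁻¹) * (g * y * g⁻¹) * (g * z * g⁻¹) := by group

theorem conj3 (p q r x : M) :
    (p * q * r) * x * (p * q * r)⁻¹ = p * (q * (r * x * r⁻¹) * q⁻¹) * p⁻¹ := by group

theorem conj_of_comm {g x : M} (h : g * x = x * g) : g * x * g⁻¹ = x := by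
  rw [h, mul_inv_cancel_right]

/-- `Ys a t` acting on `X c a v` -/
theorem conj_Ys_X (hB : BRel X Ys) {c a : J n} (hca : IsRoot c a) (t v : F) :
    Ys a t * X c a v * (Ys a t)⁻¹ = X c (ng a) (-(v * t * t)) * Ys c (-(v * t)) * X c a v := by
  rw [conj_eq_cm_inv_mul, hB.xy c a hca v t, _root_.mul_inv_rev,
    WCONJ.X_inv hB.dX (isRoot_ng_right' hca), Ys_inv hB]

/-- `Ys a s` acting on `Ys b r` -/
theorem conj_Ys_Ys (hB : BRel X Ys) {a b : J n} (hab : IsRoot a b) (s r : F) :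
    Ys a s * Ys b r * (Ys a s)⁻¹ = X a (ng b) (-(2 * s * r)) * Ys b r := by
  rw [conj_eq_cm_mul, hB.yy a b hab]

/-- the normal form of the elements of the abelian group generated by the root groups of
`ε_c - ε_a`, `ε_c`, `ε_c + ε_a` -/
def Phi (X : J n → J n → F → M) (Ys : J n → F → M) (c a : J n) (α β γ : F) : M :=
  X c a α * Ys c β * X c (ng a) γ

theorem Phi_congr {c a : J n} {α β γ α' β' γ' : F} (h1 : α = α') (h2 : β = β') (h3 : γ = γ') :
    Phi X Ys c a α β γ = Phi X Ys c a α' β' γ' := by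
  subst h1 h2 h3; rfl

theorem comm_y_xa (hB : BRel X Ys) {c a : J n} (hca : IsRoot c a) (s t : F) :
    Ys c s * X c a t = X c a t * Ys c s :=
  hB.ycomm c c a hca hca.1.symm (ng_ne c).symm s t

theorem comm_y_xn (hB : BRel X Ys) {c a : J n} (hca : IsRoot c a) (s t : F) :
    Ys c s * X c (ng a) t = X c (ng a) t * Ys c s :=
  hB.ycomm c c (ng a) (isRoot_ng_right' hca) (fun h => hca.2 h.symm) (ng_ne c).symm s t

theorem Phi_mul (hB : BRel X Ys) {c a : J n} (hca : IsRoot c a) (α β γ α' β' γ' : F) :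
    Phi X Ys c a α β γ * Phi X Ys c a α' β' γ' = Phi X Ys c a (α + α') (β + β') (γ + γ') := by
  unfold Phi
  have hca' := isRoot_ng_right' hca
  calc X c a α * Ys c β * X c (ng a) γ * (X c a α' * Ys c β' * X c (ng a) γ')
      = X c a α * Ys c β * (X c (ng a) γ * X c a α') * Ys c β' * X c (ng a) γ' := by group
    _ = X c a α * Ys c β * (X c a α' * X c (ng a) γ) * Ys c β' * X c (ng a) γ' := by
        rw [hB.dX.orth c a hca α' γ]
    _ = X c a α * (Ys c β * X c a α') * (X c (ng a) γ * Ys c β') * X c (ng a) γ' := by group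
    _ = X c a α * (X c a α' * Ys c β) * (Ys c β' * X c (ng a) γ) * X c (ng a) γ' := by
        rw [comm_y_xa hB hca, comm_y_xn hB hca]
    _ = (X c a α * X c a α') * (Ys c β * Ys c β') * (X c (ng a) γ * X c (ng a) γ') := by group
    _ = X c a (α + α') * Ys c (β + β') * X c (ng a) (γ + γ') := by
        rw [hB.dX.add c a hca, hB.yadd, hB.dX.add c (ng a) hca']

theorem xa_eq (hB : BRel X Ys) {c a : J n} (hca : IsRoot c a) (α : F) :
    X c a α = Phi X Ys c a α 0 0 := by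
  unfold Phi
  rw [Ys_zero hB, WCONJ.X_zero hB.dX (isRoot_ng_right' hca), mul_one, mul_one]

theorem y_eq (hB : BRel X Ys) {c a : J n} (hca : IsRoot c a) (β : F) :
    Ys c β = Phi X Ys c a 0 β 0 := by
  unfold Phi
  rw [WCONJ.X_zero hB.dX hca, WCONJ.X_zero hB.dX (isRoot_ng_right' hca), mul_one, one_mul]

theorem xn_eq (hB : BRel X Ys) {c a : J n} (hca : IsRoot c a) (γ : F) :
    X c (ng a) γ = Phi X Ys c a 0 0 γ := by
  unfold Phi
  rw [Ys_zero hB, WCONJ.X_zero hB.dX hca, one_mul, one_mul]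

/-- the other name of `X a (ng c)` -/
theorem X_a_ngc (hB : BRel X Ys) {c a : J n} (hca : IsRoot c a) (s : F) :
    X a (ng c) s = X c (ng a) (-s) := by
  have h := hB.dX.flip c (ng a) (isRoot_ng_right' hca) s
  rw [ng_ng] at h
  exact h

/-- `Ys a t` acting on the normal form -/
theorem conjA (hB : BRel X Ys) {c a : J n} (hca : IsRoot c a) (t α β γ : F) :
    Ys a t * Phi X Ys c a α β γ * (Ys a t)⁻¹ =
      Phi X Ys c a α (β - α * t) (γ + 2 * t * β - α * t * t) := by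
  have h1 := conj_Ys_X hB hca t α
  have h2 : Ys a t * Ys c β * (Ys a t)⁻¹ = X c (ng a) (2 * t * β) * Ys c β := by
    rw [conj_Ys_Ys hB hca.symm, X_a_ngc hB hca, neg_neg]
  have h3 : Ys a t * X c (ng a) γ * (Ys a t)⁻¹ = X c (ng a) γ :=
    conj_of_comm (hB.ycomm a c (ng a) (isRoot_ng_right' hca) (ng_ne a) hca.2 t γ)
  have e : Ys a t * Phi X Ys c a α β γ * (Ys a t)⁻¹ =
      (Ys a t * X c a α * (Ys a t)⁻¹) * (Ys a t * Ys c β * (Ys a t)⁻¹) *
        (Ys a t * X c (ng a) γ * (Ys a t)⁻¹) := by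
    unfold Phi; rw [conj_mul3]
  rw [e, h1, h2, h3, xa_eq hB hca α, y_eq hB hca β, y_eq hB hca (-(α * t)),
    xn_eq hB hca γ, xn_eq hB hca (-(α * t * t)), xn_eq hB hca (2 * t * β)]
  simp only [Phi_mul hB hca]
  apply Phi_congr <;> ring

/-- `Ys (ng a) w` acting on the normal form -/
theorem conjB (hB : BRel X Ys) {c a : J n} (hca : IsRoot c a) (w α β γ : F) :
    Ys (ng a) w * Phi X Ys c a α β γ * (Ys (ng a) w)⁻¹ =
      Phi X Ys c a (α + 2 * w * β - γ * w * w) (β - γ * w) γ := by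
  have hca' := isRoot_ng_right' hca
  have h1 : Ys (ng a) w * X c a α * (Ys (ng a) w)⁻¹ = X c a α := by
    apply conj_of_comm
    apply hB.ycomm (ng a) c a hca (ng_ne a).symm
    rw [ng_ng]; exact hca.1
  have h2 : Ys (ng a) w * Ys c β * (Ys (ng a) w)⁻¹ = X c a (2 * w * β) * Ys c β := by
    rw [conj_Ys_Ys hB (isRoot_ng_left' hca.symm), hB.dX.flip c a hca, neg_neg]
  have h3 : Ys (ng a) w * X c (ng a) γ * (Ys (ng a) w)⁻¹ =
      X c a (-(γ * w * w)) * Ys c (-(γ * w)) * X c (ng a) γ := by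
    have := conj_Ys_X hB hca' w γ
    rw [ng_ng] at this
    exact this
  have e : Ys (ng a) w * Phi X Ys c a α β γ * (Ys (ng a) w)⁻¹ =
      (Ys (ng a) w * X c a α * (Ys (ng a) w)⁻¹) * (Ys (ng a) w * Ys c β * (Ys (ng a) w)⁻¹) *
        (Ys (ng a) w * X c (ng a) γ * (Ys (ng a) w)⁻¹) := by
    unfold Phi; rw [conj_mul3]
  rw [e, h1, h2, h3, xa_eq hB hca α, xa_eq hB hca (2 * w * β), xa_eq hB hca (-(γ * w * w)),
    y_eq hB hca β, y_eq hB hca (-(γ * w)), xn_eq hB hca γ]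
  simp only [Phi_mul hB hca]
  apply Phi_congr <;> ring

/-- the master lemma: `wY Ys a t` acting on the normal form -/
theorem wY_conj_Phi (hB : BRel X Ys) {c a : J n} (hca : IsRoot c a) {t : F} (ht : t ≠ 0)
    (α β γ : F) :
    wY Ys a t * Phi X Ys c a α β γ * (wY Ys a t)⁻¹ =
      Phi X Ys c a (-(t⁻¹ * t⁻¹ * γ)) (-β) (-(t * t * α)) := by
  unfold wY
  rw [conj3, conjA hB hca, conjB hB hca, conjA hB hca]
  apply Phi_congr
  · field_simp
    ring
  · field_simp
    ring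
  · field_simp
    ring

end CONJSL

/-! ### CONJSL: a short Weyl element acting on the long root elements -/

theorem wY_conj_X_snd (hB : BRel X Ys) {c a : J n} (hca : IsRoot c a) {t : F} (ht : t ≠ 0)
    (u : F) : wY Ys a t * X c a u * (wY Ys a t)⁻¹ = X c (ng a) (-(t * t * u)) := by
  rw [CONJSL.xa_eq hB hca u, CONJSL.wY_conj_Phi hB hca ht, CONJSL.xn_eq hB hca]
  apply CONJSL.Phi_congr <;> simp

theorem wY_conj_X_ng_snd (hB : BRel X Ys) {c a : J n} (hca : IsRoot c a) {t : F} (ht : t ≠ 0)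
    (u : F) : wY Ys a t * X c (ng a) u * (wY Ys a t)⁻¹ = X c a (-(t⁻¹ * t⁻¹ * u)) := by
  rw [CONJSL.xn_eq hB hca u, CONJSL.wY_conj_Phi hB hca ht, CONJSL.xa_eq hB hca]
  apply CONJSL.Phi_congr <;> simp

theorem wY_conj_X_fst (hB : BRel X Ys) {a d : J n} (had : IsRoot a d) {t : F} (ht : t ≠ 0)
    (u : F) : wY Ys a t * X a d u * (wY Ys a t)⁻¹ = X (ng a) d (-(t⁻¹ * t⁻¹ * u)) := by
  have hda : IsRoot (ng d) a := isRoot_ng_left' had.symm
  have e1 : X a d u = X (ng d) (ng a) (-u) := by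
    rw [hB.dX.flip a d had, neg_neg]
  have e2 : X (ng a) d (-(t⁻¹ * t⁻¹ * u)) = X (ng d) a (-(t⁻¹ * t⁻¹ * (-u))) := by
    have h := hB.dX.flip (ng d) a hda (-(t⁻¹ * t⁻¹ * u))
    rw [ng_ng] at h
    rw [h]
    congr 1
    ring
  rw [e1, e2]
  exact wY_conj_X_ng_snd hB hda ht (-u)

theorem wY_conj_X_ng_fst (hB : BRel X Ys) {a d : J n} (had : IsRoot a d) {t : F} (ht : t ≠ 0)
    (u : F) : wY Ys a t * X (ng a) d u * (wY Ys a t)⁻¹ = X a d (-(t * t * u)) := by
  have hda : IsRoot (ng d) a := isRoot_ng_left' had.symm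
  have e1 : X (ng a) d u = X (ng d) a (-u) := by
    have h := hB.dX.flip (ng d) a hda u
    rw [ng_ng] at h
    exact h
  have e2 : X a d (-(t * t * u)) = X (ng d) (ng a) (-(t * t * (-u))) := by
    rw [hB.dX.flip a d had]
    congr 1
    ring
  rw [e1, e2]
  exact wY_conj_X_snd hB hda ht (-u)

theorem wY_conj_X_of_ne (hB : BRel X Ys) (a : J n) (t : F) {c d : J n} (hcd : IsRoot c d)
    (h1 : c ≠ a) (h2 : c ≠ ng a) (h3 : d ≠ a) (h4 : d ≠ ng a) (u : F) :
    wY Ys a t * X c d u * (wY Ys a t)⁻¹ = X c d u := by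
  have hA : ∀ s : F, Ys a s * X c d u = X c d u * Ys a s := fun s =>
    hB.ycomm a c d hcd h3 h2 s u
  have hN : ∀ s : F, Ys (ng a) s * X c d u = X c d u * Ys (ng a) s := fun s =>
    hB.ycomm (ng a) c d hcd h4 (by rw [ng_ng]; exact h1) s u
  unfold wY
  rw [CONJSL.conj3, CONJSL.conj_of_comm (hA t), CONJSL.conj_of_comm (hN _),
    CONJSL.conj_of_comm (hA t)]

end Cfsg.Agent.S2094P
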