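import Mathlib
import Cfsg.Agent.Helper2.S2094.DefsR
import Cfsg.Agent.Helper26.S2094CONJSL

set_option autoImplicit false
set_option linter.unusedSectionVars false
set_option linter.unusedVariables false

/-! S2094 chapter R, piece CONJSS1 (driver helper2): a short Weyl element `wY Ys a t` inverts the
short root elements `Ys c u`, `c ≠ ±a`. -/

namespace Cfsg.Agent.S2094P

open Matrix Cfsg.Agent.S3352P Cfsg.Agent.S3351P Cfsg.Agent.S2096P Cfsg.Agent.RGD

variable {n : ℕ} {F : Type*} [Field F] {M : Type*} [Group M] {X : J n → J n → F → M}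
  {Ys : J n → F → M}

/-- CONJSS1 -/
theorem wY_conj_Ys_of_ne (hB : BRel X Ys) {a c : J n} (hac : IsRoot a c) {t : F} (ht : t ≠ 0)
    (u : F) : wY Ys a t * Ys c u * (wY Ys a t)⁻¹ = Ys c (-u) := by
  have hca : IsRoot c a := hac.symm
  rw [CONJSL.y_eq hB hca u, CONJSL.wY_conj_Phi hB hca ht, CONJSL.y_eq hB hca (-u)]
  apply CONJSL.Phi_congr <;> simp

end Cfsg.Agent.S2094P
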