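import Cfsg.Agent.Helper23.S2094WCONJWB

/-! S2094 piece WCONJWB: my own landing crossed with helper23's hedge (same minute, same fully
qualified names); to avoid duplicate declarations this module is only a re-export shim of
`Cfsg.Agent.Helper23.S2094WCONJWB` (`wX_conj_wY_fst/snd/of_ne`,
`wY_conj_wX_fst/snd/ng_fst/ng_snd/of_ne`, `wY_conj_wY_of_ne/self`). -/
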