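import Mathlib
import Cfsg.Agent.Helper13.S2276Defs

/-! # S2276 piece ODDC: an odd permutation in the centraliser -/

set_option autoImplicit false

namespace Cfsg.Agent.S2276P

open Equiv Equiv.Perm

/-- ODDC [S-M]: an odd permutation in the centraliser (`Equiv.Perm.centralizer_le_alternating_iff`,
`Multiset.nodup_iff_count_le_one`). -/
theorem ODDC.main {n : ℕ} (g : Perm (Fin n))
    (h : ¬ (g.cycleType.Nodup ∧ n ≤ g.cycleType.sum + 1)) :
    ∃ z : Perm (Fin n), Perm.sign z = -1 ∧ z * g = g * z := by
  classical
  by_contra hcon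
  apply h
  have hle : Subgroup.centralizer {g} ≤ alternatingGroup (Fin n) := by
    intro z hz
    rw [Equiv.Perm.mem_alternatingGroup]
    rcases Int.units_eq_one_or (Perm.sign z) with h1 | h1
    · exact h1
    · exfalso
      apply hcon
      refine ⟨z, h1, ?_⟩
      rw [Subgroup.mem_centralizer_iff] at hz
      exact (hz g (Set.mem_singleton g)).symm
  obtain ⟨_, h2, h3⟩ := Equiv.Perm.centralizer_le_alternating_iff.1 hle
  refine ⟨Multiset.nodup_iff_count_le_one.2 h3, ?_⟩
  simpa using h2

end Cfsg.Agent.S2276P
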