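import Mathlib
import Cfsg.Prelude

/-!
# S2788, piece ORB1 : orbit counting

`y ∈ N(V)` of prime power order `r^(e+1)`, `r ≠ p`, with `z = y^(r^e)` acting nontrivially on the
elementary abelian `p`-group `V`: then `⟨y⟩` acts freely on `V \ C_V(z)`, hence
`[V : C_V(z)] = p^j` with `j > 0` and `r^(e+1) ∣ p^j - 1`.
-/

set_option autoImplicit false

namespace Cfsg.Agent.S2788P
namespace ORB1

/-- A finite group acting freely on a finite type: the order divides the cardinality. -/
theorem card_dvd_of_free {H α : Type*} [Group H] [MulAction H α] [Finite H] [Finite α]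
    (hfree : ∀ a : α, MulAction.stabilizer H a = ⊥) : Nat.card H ∣ Nat.card α := by
  classical
  have := Fintype.ofFinite H
  have := Fintype.ofFinite α
  have := Fintype.ofFinite (MulAction.orbitRel.Quotient H α)
  rw [Nat.card_eq_fintype_card, Nat.card_eq_fintype_card,
    MulAction.card_eq_sum_card_group_div_card_stabilizer H α]
  apply Finset.dvd_sum
  intro ω _
  have h1 : Fintype.card (MulAction.stabilizer H ω.out) = 1 := by
    rw [← Nat.card_eq_fintype_card, hfree]
    simp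
  rw [h1, Nat.div_one]

/-- In a cyclic `r`-group `⟨y⟩` of order `r^(e+1)`, every nontrivial element has `y^(r^e)` among
its powers. -/
theorem mem_zpowers_of_ne_one {G : Type*} [Group G] (y : G) (r e : ℕ) (hr : r.Prime)
    (hord : orderOf y = r ^ (e + 1)) (g : G) (hg : g ∈ Subgroup.zpowers y) (hg1 : g ≠ 1) :
    y ^ (r ^ e) ∈ Subgroup.zpowers g := by
  obtain ⟨i, hi⟩ := Subgroup.mem_zpowers_iff.mp hg
  subst hi
  -- d = gcd(i, r^(e+1)) = r^s with s ≤ e
  set N : ℤ := (r : ℤ) ^ (e + 1) with hN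
  have hyN : y ^ N = 1 := by
    rw [hN]
    have : y ^ (r ^ (e + 1)) = 1 := by rw [← hord]; exact pow_orderOf_eq_one y
    exact_mod_cast this
  have hnd : ¬ (N ∣ i) := by
    intro hdiv
    apply hg1
    obtain ⟨c, rfl⟩ := hdiv
    rw [zpow_mul, hyN, one_zpow]
  -- natural gcd
  have hd : (Int.gcd i N : ℕ) ∣ r ^ (e + 1) := by
    have := Int.gcd_dvd_right i N
    rw [hN] at this
    exact_mod_cast this
  obtain ⟨s, hs, hds⟩ := (Nat.dvd_prime_pow hr).mp hd
  have hse : s ≤ e := by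
    by_contra hcon
    have hs' : s = e + 1 := by omega
    apply hnd
    have := Int.gcd_dvd_left i N
    rw [hds, hs'] at this
    rw [hN]
    exact_mod_cast this
  -- Bezout
  have hbez : (Int.gcd i N : ℤ) = i * Int.gcdA i N + N * Int.gcdB i N := Int.gcd_eq_gcd_ab i N
  have hyd : y ^ (r ^ s) = (y ^ i) ^ (Int.gcdA i N) := by
    have h1 : y ^ ((Int.gcd i N : ℕ) : ℤ) = y ^ (i * Int.gcdA i N + N * Int.gcdB i N) := by
      rw [← hbez]
    rw [zpow_add, zpow_mul, zpow_mul, hyN, one_zpow, mul_one, hds] at h1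
    rw [← h1]
    exact_mod_cast rfl
  have hz : y ^ (r ^ e) = ((y ^ i) ^ (Int.gcdA i N)) ^ (r ^ (e - s)) := by
    rw [← hyd, ← pow_mul, ← pow_add]
    congr 2
    omega
  rw [hz]
  exact Subgroup.pow_mem _ (Subgroup.zpow_mem _ (Subgroup.mem_zpowers _) _) _

theorem orbit_count {G : Type*} [Group G] [Finite G] {p : ℕ} [Fact p.Prime] (V : Subgroup G)
    (hV : Cfsg.IsElementaryAbelian p V) (y : G) (hy : y ∈ Subgroup.normalizer (V : Set G))
    (r e : ℕ) (hr : r.Prime) (hrp : r ≠ p) (hord : orderOf y = r ^ (e + 1))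
    (hfaith : y ^ (r ^ e) ∉ Subgroup.centralizer (V : Set G)) :
    ∃ j, 0 < j ∧ (V ⊓ Subgroup.centralizer ({y ^ (r ^ e)} : Set G)).relIndex V = p ^ j ∧
      r ^ (e + 1) ∣ p ^ j - 1 := by
  classical
  have hp : p.Prime := Fact.out
  set z : G := y ^ (r ^ e) with hz
  set C : Subgroup G := V ⊓ Subgroup.centralizer ({z} : Set G) with hC
  have hCV : C ≤ V := inf_le_left
  -- V is a p-group
  have hVp : IsPGroup p V := by
    intro v
    refine ⟨1, ?_⟩
    rw [pow_one]
    have := hV.2 v.1 v.2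
    exact Subtype.ext (by simpa using this)
  obtain ⟨a, ha⟩ := IsPGroup.iff_card.mp hVp
  have hCp : IsPGroup p C := hVp.to_le hCV
  obtain ⟨b, hb⟩ := IsPGroup.iff_card.mp hCp
  -- the index
  have hidx : Nat.card C * C.relIndex V = Nat.card V := by
    have := Subgroup.relIndex_mul_relIndex ⊥ C V (bot_le : (⊥ : Subgroup G) ≤ C) hCV
    rwa [Subgroup.relIndex_bot_left, Subgroup.relIndex_bot_left] at this
  have hba : b ≤ a := by
    have h1 : p ^ b ∣ p ^ a := by
      rw [← ha, ← hb]; exact Subgroup.card_dvd_of_le hCV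
    exact (Nat.pow_dvd_pow_iff_le_right hp.one_lt).mp h1
  have hrel : C.relIndex V = p ^ (a - b) := by
    rw [ha, hb] at hidx
    have h2 : p ^ b * p ^ (a - b) = p ^ a := by rw [← pow_add]; congr 1; omega
    exact Nat.eq_of_mul_eq_mul_left (pow_pos hp.pos b) (hidx.trans h2.symm)
  -- membership in C
  have hmemC : ∀ v, v ∈ C ↔ v ∈ V ∧ v * z = z * v := by
    intro v
    rw [hC, Subgroup.mem_inf, Subgroup.mem_centralizer_singleton_iff]
  -- C ≠ V
  have hne : ∃ v, v ∈ V ∧ v ∉ C := by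
    by_contra hcon
    push Not at hcon
    apply hfaith
    rw [Subgroup.mem_centralizer_iff]
    intro v hv
    exact ((hmemC v).mp (hcon v hv)).2
  have hab : b < a := by
    rcases Nat.lt_or_ge b a with h | h
    · exact h
    · exfalso
      have hba' : a = b := le_antisymm h hba
      have h1 : C.relIndex V = 1 := by rw [hrel, hba']; simp
      obtain ⟨v, hvV, hvC⟩ := hne
      exact hvC (Subgroup.relIndex_eq_one.mp h1 hvV)
  -- the action of ⟨y⟩ on V \ C
  have hZN : ∀ g ∈ Subgroup.zpowers y, g ∈ Subgroup.normalizer (V : Set G) :=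
    fun g hg => (Subgroup.zpowers_le.mpr hy) hg
  have hZz : ∀ g ∈ Subgroup.zpowers y, g * z = z * g := by
    intro g hg
    obtain ⟨i, hi⟩ := Subgroup.mem_zpowers_iff.mp hg
    subst hi
    rw [hz]
    exact (((Commute.refl y).zpow_left i).pow_right _).eq
  have hinv : ∀ g ∈ Subgroup.zpowers y, ∀ v : G, v ∈ (V : Set G) \ (C : Set G) →
      g * v * g⁻¹ ∈ (V : Set G) \ (C : Set G) := by
    rintro g hg v ⟨hvV, hvC⟩
    have hgV : g * v * g⁻¹ ∈ V := (Subgroup.mem_normalizer_iff.mp (hZN g hg) v).mp hvV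
    refine ⟨hgV, ?_⟩
    intro hcon
    apply hvC
    rw [SetLike.mem_coe, hmemC] at hcon ⊢
    refine ⟨hvV, ?_⟩
    have h1 := hcon.2
    have h2 := hZz g hg
    have hgz : g * z * g⁻¹ = z := by rw [h2, mul_inv_cancel_right]
    have hgz' : g⁻¹ * z * g = z := by rw [mul_assoc, ← h2, inv_mul_cancel_left]
    calc v * z = g⁻¹ * ((g * v * g⁻¹) * (g * z * g⁻¹)) * g := by group
      _ = g⁻¹ * ((g * v * g⁻¹) * z) * g := by rw [hgz]
      _ = g⁻¹ * (z * (g * v * g⁻¹)) * g := by rw [h1]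
      _ = (g⁻¹ * z * g) * v := by group
      _ = z * v := by rw [hgz']
  let inst : MulAction (Subgroup.zpowers y) ↥((V : Set G) \ (C : Set G)) :=
    { smul := fun g v => ⟨g.1 * v.1 * g.1⁻¹, hinv g.1 g.2 v.1 v.2⟩
      one_smul := fun v => Subtype.ext (by
        show (1 : G) * v.1 * (1 : G)⁻¹ = v.1
        group)
      mul_smul := fun g h v => Subtype.ext (by
        show (g.1 * h.1) * v.1 * (g.1 * h.1)⁻¹ = g.1 * (h.1 * v.1 * h.1⁻¹) * g.1⁻¹
        group) }
  have hfree : ∀ v : ↥((V : Set G) \ (C : Set G)),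
      MulAction.stabilizer (Subgroup.zpowers y) v = ⊥ := by
    intro v
    rw [Subgroup.eq_bot_iff_forall]
    intro g hg
    by_contra hg1
    have hg1' : g.1 ≠ 1 := fun h => hg1 (Subtype.ext h)
    have hzg := mem_zpowers_of_ne_one y r e hr hord g.1 g.2 hg1'
    have hfix : g.1 * v.1 * g.1⁻¹ = v.1 := by
      have := MulAction.mem_stabilizer_iff.mp hg
      exact congrArg Subtype.val this
    have hgc : g.1 ∈ Subgroup.centralizer ({v.1} : Set G) := by
      rw [Subgroup.mem_centralizer_singleton_iff]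
      calc g.1 * v.1 = (g.1 * v.1 * g.1⁻¹) * g.1 := by group
        _ = v.1 * g.1 := by rw [hfix]
    have hzc : z ∈ Subgroup.centralizer ({v.1} : Set G) :=
      (Subgroup.zpowers_le.mpr hgc) hzg
    rw [Subgroup.mem_centralizer_singleton_iff] at hzc
    exact v.2.2 ((hmemC v.1).mpr ⟨v.2.1, hzc.symm⟩)
  have hdvd := card_dvd_of_free (H := Subgroup.zpowers y) hfree
  rw [Nat.card_zpowers, hord] at hdvd
  -- |V \ C| = p^a - p^b
  have hcard : Nat.card ↥((V : Set G) \ (C : Set G)) = p ^ a - p ^ b := by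
    rw [Nat.card_coe_set_eq, Set.ncard_sdiff (by exact_mod_cast hCV) (Set.toFinite _),
      ← Nat.card_coe_set_eq, ← Nat.card_coe_set_eq]
    change Nat.card V - Nat.card C = _
    rw [ha, hb]
  rw [hcard] at hdvd
  refine ⟨a - b, by omega, hrel, ?_⟩
  have h3 : p ^ a - p ^ b = p ^ b * (p ^ (a - b) - 1) := by
    rw [Nat.mul_sub, mul_one, ← pow_add]
    congr 2
    omega
  rw [h3] at hdvd
  have hcop : Nat.Coprime (r ^ (e + 1)) (p ^ b) :=
    Nat.Coprime.pow _ _ ((Nat.coprime_primes hr hp).mpr hrp)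
  exact hcop.dvd_of_dvd_mul_left hdvd

end ORB1
end Cfsg.Agent.S2788P
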