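import Mathlib
import Cfsg.Prelude
import Cfsg.Agent.Helper26.S2788ORB1

/-!
# S2788, piece ORB2 : the index bound

`a, h ∈ N(V)`, `y = (a * h a h⁻¹)^k` of order `r^(e+1)` with `y^(r^e)` nontrivial on `V` and
`r^(e+1) ∣ p^j - 1 → 2n ≤ j`: then `p^n ≤ [V : C_V(a)]`.
-/

set_option autoImplicit false

namespace Cfsg.Agent.S2788P
namespace ORB2

/-- Conjugation by `h ∈ N(V)` carries `C_V(a)` to `C_V(h a h⁻¹)`. -/
theorem relIndex_conj {G : Type*} [Group G] (V : Subgroup G) (a h : G)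
    (hh : h ∈ Subgroup.normalizer (V : Set G)) :
    (V ⊓ Subgroup.centralizer ({h * a * h⁻¹} : Set G)).relIndex V =
      (V ⊓ Subgroup.centralizer ({a} : Set G)).relIndex V := by
  have hVmap : V.map (MulAut.conj h).toMonoidHom = V :=
    Subgroup.mem_normalizer_iff_map_conj_eq.mp hh
  have hCmap : (V ⊓ Subgroup.centralizer ({a} : Set G)).map (MulAut.conj h).toMonoidHom =
      V ⊓ Subgroup.centralizer ({h * a * h⁻¹} : Set G) := by
    ext v
    simp only [Subgroup.mem_map, Subgroup.mem_inf, Subgroup.mem_centralizer_singleton_iff,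
      MulEquiv.coe_toMonoidHom, MulAut.conj_apply]
    constructor
    · rintro ⟨w, ⟨hwV, hwa⟩, rfl⟩
      refine ⟨(Subgroup.mem_normalizer_iff.mp hh w).mp hwV, ?_⟩
      calc h * w * h⁻¹ * (h * a * h⁻¹) = h * (w * a) * h⁻¹ := by group
        _ = h * (a * w) * h⁻¹ := by rw [hwa]
        _ = h * a * h⁻¹ * (h * w * h⁻¹) := by group
    · rintro ⟨hvV, hva⟩
      refine ⟨h⁻¹ * v * h, ⟨(Subgroup.mem_normalizer_iff''.mp hh v).mp hvV, ?_⟩, by group⟩
      calc h⁻¹ * v * h * a = h⁻¹ * (v * (h * a * h⁻¹)) * h := by group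
        _ = h⁻¹ * ((h * a * h⁻¹) * v) * h := by rw [hva]
        _ = a * (h⁻¹ * v * h) := by group
  have := Subgroup.relIndex_map_map_of_injective (f := (MulAut.conj h).toMonoidHom)
    (V ⊓ Subgroup.centralizer ({a} : Set G)) V (MulAut.conj h).injective
  rw [hVmap] at this
  rw [← hCmap]
  exact this

theorem index_bound {G : Type*} [Group G] [Finite G] {p : ℕ} [Fact p.Prime] (V : Subgroup G)
    (hV : Cfsg.IsElementaryAbelian p V) (a h : G)
    (ha : a ∈ Subgroup.normalizer (V : Set G)) (hh : h ∈ Subgroup.normalizer (V : Set G))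
    (k n r e : ℕ) (hr : r.Prime) (hrp : r ≠ p)
    (hord : orderOf ((a * (h * a * h⁻¹)) ^ k) = r ^ (e + 1))
    (hfaith : ((a * (h * a * h⁻¹)) ^ k) ^ (r ^ e) ∉ Subgroup.centralizer (V : Set G))
    (hprim : ∀ j, 0 < j → r ^ (e + 1) ∣ p ^ j - 1 → 2 * n ≤ j) :
    p ^ n ≤ (V ⊓ Subgroup.centralizer ({a} : Set G)).relIndex V := by
  have hp : p.Prime := Fact.out
  set b : G := h * a * h⁻¹ with hb
  set y : G := (a * b) ^ k with hy
  have hbN : b ∈ Subgroup.normalizer (V : Set G) :=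
    Subgroup.mul_mem _ (Subgroup.mul_mem _ hh ha) (Subgroup.inv_mem _ hh)
  have hyN : y ∈ Subgroup.normalizer (V : Set G) :=
    Subgroup.pow_mem _ (Subgroup.mul_mem _ ha hbN) k
  obtain ⟨j, hj, hidx, hdvd⟩ := ORB1.orbit_count V hV y hyN r e hr hrp hord hfaith
  have h2n : 2 * n ≤ j := hprim j hj hdvd
  -- C_V(a) ∩ C_V(b) ≤ C_V(z)
  have hle : (V ⊓ Subgroup.centralizer ({a} : Set G)) ⊓ (V ⊓ Subgroup.centralizer ({b} : Set G)) ≤
      V ⊓ Subgroup.centralizer ({y ^ (r ^ e)} : Set G) := by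
    intro v hv
    simp only [Subgroup.mem_inf, Subgroup.mem_centralizer_singleton_iff] at hv ⊢
    obtain ⟨⟨hvV, hva⟩, -, hvb⟩ := hv
    refine ⟨hvV, ?_⟩
    have hca : Commute v a := hva
    have hcb : Commute v b := hvb
    exact (((hca.mul_right hcb).pow_right k).pow_right (r ^ e)).eq
  have h1 : (V ⊓ Subgroup.centralizer ({y ^ (r ^ e)} : Set G)).relIndex V ≤
      ((V ⊓ Subgroup.centralizer ({a} : Set G)) ⊓
        (V ⊓ Subgroup.centralizer ({b} : Set G))).relIndex V := by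
    have hfin : ((V ⊓ Subgroup.centralizer ({a} : Set G)) ⊓
        (V ⊓ Subgroup.centralizer ({b} : Set G))).relIndex V ≠ 0 := by
      have : ((V ⊓ Subgroup.centralizer ({a} : Set G)) ⊓
        (V ⊓ Subgroup.centralizer ({b} : Set G))).relIndex V ∣ Nat.card V :=
        Subgroup.relIndex_dvd_card _ _
      intro h0
      rw [h0] at this
      exact (Nat.card_pos (α := V)).ne' (Nat.eq_zero_of_zero_dvd this)
    exact Nat.le_of_dvd (Nat.pos_of_ne_zero hfin) (Subgroup.relIndex_dvd_of_le_left V hle)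
  have h2 := Subgroup.relIndex_inf_le (H := V ⊓ Subgroup.centralizer ({a} : Set G))
    (K := V ⊓ Subgroup.centralizer ({b} : Set G)) (L := V)
  rw [relIndex_conj V a h hh] at h2
  set I := (V ⊓ Subgroup.centralizer ({a} : Set G)).relIndex V with hI
  have h3 : p ^ j ≤ I * I := by rw [← hidx]; exact h1.trans h2
  by_contra hcon
  push Not at hcon
  have h4 : I * I < p ^ n * p ^ n := Nat.mul_lt_mul'' hcon hcon
  have h5 : p ^ n * p ^ n ≤ p ^ j := by
    rw [← pow_add]
    exact Nat.pow_le_pow_right hp.pos (by omega)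
  omega

end ORB2
end Cfsg.Agent.S2788P
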