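import Mathlib
import Cfsg.Agent.Helper3.S5655EVDefs

set_option autoImplicit false
set_option linter.unusedSectionVars false
set_option linter.unusedVariables false

/-! # S5655 k = 1, chapter "q EVEN": piece E2VALS -/

namespace Cfsg.Agent.S5655K1.EV

open Matrix
open Cfsg.Agent.S2644 Cfsg.Agent.Helper2.SUGen Cfsg.Agent.Helper28.SimMax Cfsg.Agent.S5658P

variable {K : Type*} [Field K] {q n : ℕ}

local notation "h" => Cfsg.hermForm n K q
local notation "T" => Cfsg.unitaryTransvection n q

/-- the quadratic satisfied by a norm-one `t` with `Nm (a + t b) = c` -/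
theorem E2VALS.quad (D : Frob K q) {a b c t : K} (ht : t * D.σ t = 1) (hc : Nm D (a + t * b) = c) :
    b * D.σ a * t ^ 2 + (Nm D a + Nm D b - c) * t + a * D.σ b = 0 := by
  have e : t * Nm D (a + t * b) = b * D.σ a * t ^ 2 + (Nm D a + Nm D b) * t + a * D.σ b := by
    unfold Nm
    rw [map_add, map_mul]
    have : t * ((a + t * b) * (D.σ a + D.σ t * D.σ b))
        = b * D.σ a * t ^ 2 + (a * D.σ a) * t + (t * D.σ t) * (a * D.σ b)
          + (t * D.σ t) * (b * D.σ b) * t := by ring
    rw [this, ht]
    ring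
  rw [hc] at e
  linear_combination -e

open Classical in
theorem E2VALS.card_le [Fintype K] (D : Frob K q) {a b : K} (ha : a ≠ 0) (hb : b ≠ 0) (c : K) :
    (Finset.univ.filter (fun t : K => t * D.σ t = 1 ∧ Nm D (a + t * b) = c)).card ≤ 2 := by
  have hσa : D.σ a ≠ 0 := by
    intro h0
    exact ha ((map_eq_zero D.σ).mp h0)
  have hlead : b * D.σ a ≠ 0 := mul_ne_zero hb hσa
  set P : Polynomial K :=
    Polynomial.C (b * D.σ a) * Polynomial.X ^ 2 + Polynomial.C (Nm D a + Nm D b - c) * Polynomial.X
      + Polynomial.C (a * D.σ b) with hP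
  have hdeg : P.natDegree = 2 := Polynomial.natDegree_quadratic hlead
  have hP0 : P ≠ 0 := by
    intro h0
    rw [h0, Polynomial.natDegree_zero] at hdeg
    exact absurd hdeg (by norm_num)
  have hsub : (Finset.univ.filter (fun t : K => t * D.σ t = 1 ∧ Nm D (a + t * b) = c))
      ⊆ P.roots.toFinset := by
    intro t ht
    rw [Finset.mem_filter] at ht
    rw [Multiset.mem_toFinset, Polynomial.mem_roots hP0, Polynomial.IsRoot.def, hP]
    simp only [Polynomial.eval_add, Polynomial.eval_mul, Polynomial.eval_C, Polynomial.eval_pow,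
      Polynomial.eval_X]
    exact E2VALS.quad D ht.2.1 ht.2.2
  calc (Finset.univ.filter (fun t : K => t * D.σ t = 1 ∧ Nm D (a + t * b) = c)).card
      ≤ P.roots.toFinset.card := Finset.card_le_card hsub
    _ ≤ Multiset.card P.roots := Multiset.toFinset_card_le _
    _ ≤ P.natDegree := Polynomial.card_roots' P
    _ = 2 := hdeg

end Cfsg.Agent.S5655K1.EV
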