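import Mathlib
import Cfsg.Prelude.Def_GeometricClasses
import Cfsg.Agent.Helper2.S5886.Defs

/-! # S5886 piece PROJA: `PROJ.semi`, `PROJ.mem`, `PROJ.ulie` -/

set_option autoImplicit false

namespace Cfsg.Agent.S5886P

variable {F K V : Type*} [Field F] [Field K] [Algebra F K]
  [AddCommGroup V] [Module F V] [Module K V] [IsScalarTower F K V]

/-- the formula for `proj` applied to a vector -/
theorem PROJA.apply [Finite F] [Finite K] (σ : K ≃ₐ[F] K) (A : V →ₗ[F] V) (x : V) :
    proj σ A x = ∑ i, σ ((Algebra.traceForm F K).dualBasis (traceForm_nondegenerate F K)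
      (Module.finBasis F K) i) • A ((Module.finBasis F K i) • x) := by
  unfold proj
  simp [LinearMap.sum_apply]

/-- expansion in the basis `b` with coefficients `Tr (y b'_j)` -/
theorem PROJA.expand_b [Finite F] [Finite K] (y : K) :
    y = ∑ j, (Algebra.trace F K (y * (Algebra.traceForm F K).dualBasis (traceForm_nondegenerate F K)
      (Module.finBasis F K) j)) • (Module.finBasis F K j) := by
  have h := (Module.finBasis F K).sum_repr y
  have hrepr : ∀ j, (Module.finBasis F K).repr y j = Algebra.trace F K
      (y * (Algebra.traceForm F K).dualBasis (traceForm_nondegenerate F K) (Module.finBasis F K) j) := by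
    intro j
    have h1 := LinearMap.BilinForm.dualBasis_repr_apply (traceForm_nondegenerate F K)
      ((Algebra.traceForm F K).dualBasis (traceForm_nondegenerate F K) (Module.finBasis F K)) y j
    rw [LinearMap.BilinForm.dualBasis_dualBasis _ (Algebra.traceForm_isSymm F)
      (Module.finBasis F K)] at h1
    rw [h1, Algebra.traceForm_apply]
  conv_lhs => rw [← h]
  exact Finset.sum_congr rfl (fun j _ => by rw [hrepr j])

/-- expansion in the dual basis `b'` with coefficients `Tr (y b_i)` -/
theorem PROJA.expand_d [Finite F] [Finite K] (y : K) :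
    y = ∑ i, (Algebra.trace F K (y * Module.finBasis F K i)) •
      ((Algebra.traceForm F K).dualBasis (traceForm_nondegenerate F K) (Module.finBasis F K) i) := by
  have h := ((Algebra.traceForm F K).dualBasis (traceForm_nondegenerate F K)
    (Module.finBasis F K)).sum_repr y
  conv_lhs => rw [← h]
  refine Finset.sum_congr rfl (fun i _ => ?_)
  rw [LinearMap.BilinForm.dualBasis_repr_apply, Algebra.traceForm_apply]

/-- PROJ.semi -/
theorem PROJ.semi [Finite F] [Finite K] (σ : K ≃ₐ[F] K) (A : V →ₗ[F] V) : IsSemi σ (proj σ A) := by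
  intro k x
  rw [PROJA.apply, PROJA.apply, Finset.smul_sum]
  -- expand `A (b_i • k • x)` in the basis
  have h1 : ∀ i, A ((Module.finBasis F K i) • k • x) = ∑ j, (Algebra.trace F K
      ((Module.finBasis F K i) * k * (Algebra.traceForm F K).dualBasis (traceForm_nondegenerate F K)
        (Module.finBasis F K) j)) • A ((Module.finBasis F K j) • x) := by
    intro i
    rw [smul_smul]
    conv_lhs => rw [PROJA.expand_b (F := F) ((Module.finBasis F K i) * k)]
    rw [Finset.sum_smul, map_sum]
    refine Finset.sum_congr rfl (fun j _ => ?_)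
    rw [smul_assoc, map_smul]
  calc ∑ i, σ ((Algebra.traceForm F K).dualBasis (traceForm_nondegenerate F K)
          (Module.finBasis F K) i) • A ((Module.finBasis F K i) • k • x)
      = ∑ i, ∑ j, σ ((Algebra.trace F K (k * (Algebra.traceForm F K).dualBasis
          (traceForm_nondegenerate F K) (Module.finBasis F K) j * Module.finBasis F K i)) •
          (Algebra.traceForm F K).dualBasis (traceForm_nondegenerate F K) (Module.finBasis F K) i) •
          A ((Module.finBasis F K j) • x) := by
        refine Finset.sum_congr rfl (fun i _ => ?_)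
        rw [h1 i, Finset.smul_sum]
        refine Finset.sum_congr rfl (fun j _ => ?_)
        have hm : (Module.finBasis F K i) * k * (Algebra.traceForm F K).dualBasis
            (traceForm_nondegenerate F K) (Module.finBasis F K) j
            = k * (Algebra.traceForm F K).dualBasis (traceForm_nondegenerate F K)
              (Module.finBasis F K) j * Module.finBasis F K i := by ring
        rw [hm, map_smul σ, smul_assoc]
        exact smul_comm _ _ _
    _ = ∑ j, ∑ i, σ ((Algebra.trace F K (k * (Algebra.traceForm F K).dualBasis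
          (traceForm_nondegenerate F K) (Module.finBasis F K) j * Module.finBasis F K i)) •
          (Algebra.traceForm F K).dualBasis (traceForm_nondegenerate F K) (Module.finBasis F K) i) •
          A ((Module.finBasis F K j) • x) := Finset.sum_comm
    _ = ∑ j, σ k • σ ((Algebra.traceForm F K).dualBasis (traceForm_nondegenerate F K)
          (Module.finBasis F K) j) • A ((Module.finBasis F K j) • x) := by
        refine Finset.sum_congr rfl (fun j _ => ?_)
        rw [← Finset.sum_smul, ← map_sum, ← PROJA.expand_d (F := F), map_mul, mul_smul]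

/-- PROJ.mem : additive subgroups stable under left and right `K`-multiplication are stable under
`proj`. -/
theorem PROJ.mem [Finite F] [Finite K] (Y : AddSubgroup (V →ₗ[F] V))
    (hl : ∀ (c : K), ∀ A ∈ Y, c • A ∈ Y)
    (hr : ∀ (d : K), ∀ A ∈ Y, A ∘ₗ DistribSMul.toLinearMap F V d ∈ Y)
    (σ : K ≃ₐ[F] K) (A : V →ₗ[F] V) (hA : A ∈ Y) : proj σ A ∈ Y := by
  unfold proj
  exact Y.sum_mem (fun i _ => hl _ _ (hr _ _ hA))

/-- PROJ.ulie : `proj` preserves `ulie` of a `K`-line. -/
theorem PROJ.ulie [Finite F] [Finite K] (v : V) (σ : K ≃ₐ[F] K) (A : V →ₗ[F] V)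
    (hA : A ∈ ulie (Kline (F := F) (K := K) v)) : proj σ A ∈ ulie (Kline (F := F) (K := K) v) := by
  have hK : ∀ (c : K) (x : V), x ∈ Kline (F := F) (K := K) v → c • x ∈ Kline (F := F) (K := K) v := by
    intro c x hx
    exact (Submodule.span K {v}).smul_mem c hx
  have hmem := PROJ.mem (F := F) (K := K) (V := V)
    (_root_.Cfsg.Agent.S5886P.ulie (Kline (F := F) (K := K) v)).toAddSubgroup ?_ ?_ σ A hA
  · exact hmem
  · rintro c B ⟨hB1, hB2⟩
    refine ⟨fun x => ?_, fun x hx => ?_⟩
    · rw [LinearMap.smul_apply]
      exact hK c _ (hB1 x)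
    · rw [LinearMap.smul_apply, hB2 x hx, smul_zero]
  · rintro d B ⟨hB1, hB2⟩
    refine ⟨fun x => ?_, fun x hx => ?_⟩
    · rw [LinearMap.comp_apply]
      exact hB1 _
    · rw [LinearMap.comp_apply]
      exact hB2 _ (hK d x hx)

end Cfsg.Agent.S5886P
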