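import Mathlib
import Cfsg.Agent.Helper9.NPC
import Cfsg.Agent.Helper15.CL2
import Cfsg.Agent.S0071

set_option autoImplicit false

/-! Auxiliary results for the strengthened Frobenius criterion: lifting a normal `p`-complement
through a central `p`-subgroup, and `Z(T) ≤ J(T)`. -/

namespace Cfsg.Agent.Helper26.CF

open Cfsg Subgroup

variable {p : ℕ} [Fact p.Prime]

theorem conj_pow_of_central {G : Type*} [Group G] (g q z : G) (hz : ∀ x : G, z * x = x * z)
    (h : g * q * g⁻¹ = q * z) (n : ℕ) : g ^ n * q * (g ^ n)⁻¹ = q * z ^ n := by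
  induction n with
  | zero => simp
  | succ n ih =>
    have e1 : g ^ (n + 1) * q * (g ^ (n + 1))⁻¹ = g ^ n * (g * q * g⁻¹) * (g ^ n)⁻¹ := by
      rw [pow_succ]; group
    have e2 : g ^ n * (q * z) * (g ^ n)⁻¹ = g ^ n * q * (g ^ n)⁻¹ * z := by
      calc g ^ n * (q * z) * (g ^ n)⁻¹ = g ^ n * q * (z * (g ^ n)⁻¹) := by group
        _ = g ^ n * q * ((g ^ n)⁻¹ * z) := by rw [hz]
        _ = g ^ n * q * (g ^ n)⁻¹ * z := by group
    rw [e1, h, e2, ih, pow_succ, mul_assoc]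

/-- A normal `p`-complement lifts through a central `p`-subgroup. -/
theorem npc_of_central_quotient {G : Type*} [Group G] [Finite G] (Z : Subgroup G) [Z.Normal]
    (hZc : Z ≤ Subgroup.center G) (hZp : IsPGroup p Z)
    (h : HasNormalPComplement p (G ⧸ Z)) : HasNormalPComplement p G := by
  obtain ⟨T⟩ : Nonempty (Sylow p G) := inferInstance
  have hsurj := QuotientGroup.mk'_surjective Z
  obtain ⟨Tb, hTbe⟩ : ∃ Tb : Sylow p (G ⧸ Z), Tb = T.mapSurjective hsurj := ⟨_, rfl⟩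
  have hTb : (Tb : Subgroup (G ⧸ Z)) = (T : Subgroup G).map (QuotientGroup.mk' Z) := by
    rw [hTbe]
    exact Sylow.coe_mapSurjective hsurj T
  have hfrob := (Cfsg.Agent.S0071.result Tb).mp
    ((Cfsg.Agent.Helper9.hasNormalPComplement_iff Tb).mp h)
  refine ⟨T, (Cfsg.Agent.S0071.result T).mpr ?_⟩
  intro Q hQ g hg hcop
  have hQb : Q.map (QuotientGroup.mk' Z) ≤ Tb := by
    rw [hTb]
    exact Subgroup.map_mono hQ
  have hgb : QuotientGroup.mk' Z g ∈
      normalizer ((Q.map (QuotientGroup.mk' Z) : Subgroup (G ⧸ Z)) : Set (G ⧸ Z)) :=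
    Subgroup.le_normalizer_map _ ⟨g, hg, rfl⟩
  have hcopb : (orderOf (QuotientGroup.mk' Z g)).Coprime p :=
    Nat.Coprime.coprime_dvd_left (orderOf_map_dvd _ g) hcop
  have hcb := hfrob _ hQb _ hgb hcopb
  rw [mem_centralizer_iff]
  intro q hq
  have h1 : QuotientGroup.mk' Z q * QuotientGroup.mk' Z g =
      QuotientGroup.mk' Z g * QuotientGroup.mk' Z q :=
    mem_centralizer_iff.mp hcb _ ⟨q, hq, rfl⟩
  have hz : q⁻¹ * (g * q * g⁻¹) ∈ Z := by
    rw [← QuotientGroup.eq_one_iff]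
    have h2 : ((q⁻¹ * (g * q * g⁻¹) : G) : G ⧸ Z) =
        (QuotientGroup.mk' Z q)⁻¹ * (QuotientGroup.mk' Z g * QuotientGroup.mk' Z q *
          (QuotientGroup.mk' Z g)⁻¹) := by
      simp
    rw [h2, ← h1]
    group
  have hzc : ∀ x : G, q⁻¹ * (g * q * g⁻¹) * x = x * (q⁻¹ * (g * q * g⁻¹)) := by
    intro x
    exact ((Subgroup.mem_center_iff.mp (hZc hz)) x).symm
  have hconj : g * q * g⁻¹ = q * (q⁻¹ * (g * q * g⁻¹)) := by group
  have hpow := conj_pow_of_central g q _ hzc hconj (orderOf g)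
  rw [pow_orderOf_eq_one] at hpow
  have hz1 : (q⁻¹ * (g * q * g⁻¹)) ^ orderOf g = 1 := by
    have h3 : q = q * (q⁻¹ * (g * q * g⁻¹)) ^ orderOf g := by simpa using hpow
    exact (mul_eq_left.mp h3.symm)
  obtain ⟨k, hk⟩ := hZp ⟨_, hz⟩
  have hk' : (q⁻¹ * (g * q * g⁻¹)) ^ (p ^ k) = 1 := by
    have := congrArg (fun z : Z => (z : G)) hk
    simpa using this
  have hd1 : orderOf (q⁻¹ * (g * q * g⁻¹)) ∣ orderOf g := orderOf_dvd_of_pow_eq_one hz1
  have hd2 : orderOf (q⁻¹ * (g * q * g⁻¹)) ∣ p ^ k := orderOf_dvd_of_pow_eq_one hk'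
  have hcop2 : (orderOf g).Coprime (p ^ k) := Nat.Coprime.pow_right k hcop
  have hone : orderOf (q⁻¹ * (g * q * g⁻¹)) = 1 :=
    Nat.eq_one_of_dvd_coprimes hcop2 hd1 hd2
  rw [orderOf_eq_one_iff] at hone
  have h4 : g * q * g⁻¹ = q := by
    rw [hconj, hone, mul_one]
  calc q * g = (g * q * g⁻¹) * g := by rw [h4]
    _ = g * q := by group

/-- The centre of a finite group lies in its Thompson subgroup (abelian version). -/
theorem center_le_thompsonSubgroupA (P : Type*) [Group P] [Finite P] :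
    Subgroup.center P ≤ Cfsg.thompsonSubgroupA P := by
  obtain ⟨A, hA⟩ := Cfsg.Agent.Helper15.exists_maxAbelian (P := P)
  have h1 : Subgroup.center P ≤ A := by
    have h2 := Cfsg.Agent.Helper15.cz_maxAbelian hA
    rw [← h2]
    exact Subgroup.center_le_centralizer _
  exact h1.trans (le_sSup hA)

theorem center_le_thompsonSubgroupAOf {G : Type*} [Group G] (T : Subgroup G) [Finite T] :
    T ⊓ centralizer (T : Set G) ≤ Cfsg.thompsonSubgroupAOf T := by
  intro x hx
  have h1 : (⟨x, hx.1⟩ : T) ∈ Subgroup.center T := by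
    rw [Subgroup.mem_center_iff]
    intro y
    apply Subtype.ext
    exact mem_centralizer_iff.mp hx.2 y y.2
  exact ⟨⟨x, hx.1⟩, center_le_thompsonSubgroupA T h1, rfl⟩

end Cfsg.Agent.Helper26.CF
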