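import Mathlib
import Cfsg.Agent.Helper26.GJ1
import Cfsg.Agent.Helper10.WCQuad
import Cfsg.Agent.Helper14.Kieler

set_option autoImplicit false
set_option linter.unusedSectionVars false
set_option linter.unusedVariables false

/-! # A constrained group is generated by `C(℧¹(Z(T)))` and `N(J(T))` -/

namespace Cfsg.Agent.Helper26.GenJ

open Cfsg Subgroup Cfsg.Agent.Helper14 Cfsg.Agent.Helper10

variable {G : Type*} [Group G]

theorem pw_eq_powerClosure (p : ℕ) (K : Subgroup G) : pw p K = Cfsg.powerClosure p 1 K := by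
  unfold pw Cfsg.powerClosure
  congr 1
  ext y
  constructor
  · rintro ⟨x, hx, rfl⟩
    exact ⟨x, hx, by simp⟩
  · rintro ⟨x, hx, rfl⟩
    exact ⟨x, hx, by simp⟩

/-- **Generation lemma** (relative form): a `p`-constrained subgroup `H` with Sylow `p`-subgroup
`T` is generated by `C_H(℧¹(Z(T)))` and `N_H(J(T))`. -/
theorem gen_lemma [Finite G] {p : ℕ} [Fact p.Prime] : ∀ (n : ℕ) (H T : Subgroup G),
    Nat.card H = n → T ≤ H → IsPGroup p ↥T → ¬ p ∣ T.relIndex H →
    H ⊓ centralizer ((Cfsg.pCoreOf p H : Subgroup G) : Set G) ≤ Cfsg.pCoreOf p H →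
    H ≤ (H ⊓ centralizer ((pw p (T ⊓ centralizer (T : Set G)) : Subgroup G) : Set G)) ⊔
      (H ⊓ normalizer ((Cfsg.thompsonSubgroupAOf T : Subgroup G) : Set G)) := by
  intro n
  induction n using Nat.strong_induction_on with
  | _ n IH =>
  intro H T hcard hTH hTp hTi hcon
  by_contra hM
  set M := (H ⊓ centralizer ((pw p (T ⊓ centralizer (T : Set G)) : Subgroup G) : Set G)) ⊔
      (H ⊓ normalizer ((Cfsg.thompsonSubgroupAOf T : Subgroup G) : Set G)) with hMdef
  have hT : IsSylowIn p T H := isSylowIn_of_relIndex hTH hTp hTi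
  set Q := Cfsg.pCoreOf p H with hQ
  have hQH : Q ≤ H := pCoreOf_le p H
  have hHQ : H ≤ normalizer (Q : Set G) := le_normalizer_pCoreOf p H
  have hQT : Q ≤ T := pCoreOf_le_of_isSylowIn hT
  have hQp : IsPGroup p ↥Q := pCoreOf_isPGroup p H
  -- proper overgroups of `T` lie in `M`
  have hmax : ∀ H₂ : Subgroup G, T ≤ H₂ → H₂ ≤ H → ¬ H ≤ H₂ → H₂ ≤ M := by
    intro H₂ hTH₂ hH₂H hne
    have hlt : Nat.card ↥H₂ < n := by
      rw [← hcard]
      exact card_lt_of_le_of_not_le hH₂H hne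
    have hTi₂ := not_dvd_relIndex_of_le hTH₂ hH₂H hTi
    have hQ₂ : Q ≤ Cfsg.pCoreOf p H₂ :=
      le_pCoreOf p (hQT.trans hTH₂) (hH₂H.trans hHQ) hQp
    have hcon₂ : H₂ ⊓ centralizer ((Cfsg.pCoreOf p H₂ : Subgroup G) : Set G) ≤
        Cfsg.pCoreOf p H₂ := by
      intro x hx
      apply hQ₂
      apply hcon
      exact ⟨hH₂H hx.1, Subgroup.centralizer_le hQ₂ hx.2⟩
    have := IH _ hlt H₂ T rfl hTH₂ hTp hTi₂ hcon₂
    refine this.trans (sup_le ?_ ?_)
    · exact le_sup_of_le_left (inf_le_inf_right _ hH₂H)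
    · exact le_sup_of_le_right (inf_le_inf_right _ hH₂H)
  -- `J(T)` is not normal in `H`
  have hnn : ¬ H ≤ normalizer ((Cfsg.thompsonSubgroupAOf T : Subgroup G) : Set G) := by
    intro h
    apply hM
    exact le_sup_of_le_right (le_inf le_rfl h)
  obtain ⟨g, hgT, hgQ, hquad⟩ := Cfsg.Agent.Helper26.GJ.hloc_quad H T hTH hTp hTi hnn
  -- `Z(T) ≤ Z(Q)`
  have hZT : T ⊓ centralizer (T : Set G) ≤ Q ⊓ centralizer ((Q : Subgroup G) : Set G) := by
    intro z hz
    have hzc : z ∈ centralizer ((Q : Subgroup G) : Set G) :=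
      Subgroup.centralizer_le (by exact_mod_cast hQT) hz.2
    exact ⟨hcon ⟨hTH hz.1, hzc⟩, hzc⟩
  have hHZ := le_normalizer_self_inf_centralizer hHQ
  have hHV := le_normalizer_pw p hHZ
  have hCM : H ⊓ centralizer ((pw p (Q ⊓ centralizer ((Q : Subgroup G) : Set G)) :
      Subgroup G) : Set G) ≤ M := by
    apply le_sup_of_le_left
    apply inf_le_inf_left
    exact Subgroup.centralizer_le (pw_mono p hZT)
  have h2 : T ⊓ (H ⊓ centralizer ((pw p (Q ⊓ centralizer ((Q : Subgroup G) : Set G)) :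
      Subgroup G) : Set G)) ≤ Q :=
    core_frat_rel hT hmax hM inf_le_left (le_normalizer_inf_centralizer' hHV) hCM
  have hgpow : ∃ k : ℕ, g ^ (p ^ k) = 1 := by
    obtain ⟨k, hk⟩ := hTp ⟨g, hgT⟩
    exact ⟨k, by simpa using congrArg Subtype.val hk⟩
  obtain ⟨j, hj1, hj2⟩ := exists_pow_not_mem hgpow hgQ
  apply hj1
  apply h2
  refine ⟨T.pow_mem hgT _, hTH (T.pow_mem hgT _), ?_⟩
  apply centralizes_pw_of_quadratic
  · intro a ha b hb
    exact Subgroup.mem_centralizer_iff.1 hb.2 a ha.1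
  · exact hHZ (hTH (T.pow_mem hgT _))
  · rw [Subgroup.mem_centralizer_iff]
    intro z hz
    exact (Subgroup.mem_centralizer_iff.1 hz.2 _ hj2).symm
  · rw [eq_bot_iff, ← hquad]
    have : zpowers (g ^ p ^ j) ≤ zpowers g := by
      rw [Subgroup.zpowers_le]; exact Subgroup.pow_mem _ (Subgroup.mem_zpowers g) _
    exact Subgroup.commutator_mono (Subgroup.commutator_mono le_rfl this) this

/-- absolute form -/
theorem gen_top [Finite G] {p : ℕ} [Fact p.Prime] (S : Sylow p G)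
    (hcon : centralizer (Cfsg.pCore p G : Set G) ≤ Cfsg.pCore p G) :
    (centralizer ((Cfsg.powerClosure p 1 ((S : Subgroup G) ⊓
        centralizer ((S : Subgroup G) : Set G)) : Subgroup G) : Set G)) ⊔
      normalizer ((Cfsg.thompsonSubgroupAOf (S : Subgroup G) : Subgroup G) : Set G) = ⊤ := by
  have hTi : ¬ p ∣ (S : Subgroup G).relIndex ⊤ := by
    rw [Subgroup.relIndex_top_right]
    exact S.not_dvd_index
  have h := gen_lemma (p := p) _ (⊤ : Subgroup G) (S : Subgroup G) rfl le_top S.2 hTi (by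
    rw [pCoreOf_top, top_inf_eq]; exact hcon)
  rw [top_inf_eq, top_inf_eq, pw_eq_powerClosure] at h
  exact top_le_iff.mp h

end Cfsg.Agent.Helper26.GenJ
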