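import Mathlib
import Cfsg.Agent.Helper26.GenJ
import Cfsg.Agent.Helper26.CF1
import Cfsg.Agent.Helper3.SylowSubnormal

set_option autoImplicit false
set_option linter.unusedSectionVars false
set_option linter.unusedVariables false

/-! # Rank-one pushing up: `℧¹(Z(S))` or `C_S(Z(J(S)))` is normal -/

namespace Cfsg.Agent.Helper26.GenJ

open Cfsg Subgroup

variable {G : Type*} [Group G]

theorem normal_of_le_center {K : Subgroup G} (h : K ≤ center G) : K.Normal := by
  constructor
  intro n hn g
  have := mem_center_iff.mp (h hn) g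
  have e : g * n * g⁻¹ = n := by rw [this]; group
  rw [e]
  exact hn

/-- Frattini's argument for `S ∩ C` with `C` normal. -/
theorem frattini_inf [Finite G] {p : ℕ} [Fact p.Prime] (S : Sylow p G) (C : Subgroup G)
    [hC : C.Normal] :
    normalizer ((((S : Subgroup G) ⊓ C : Subgroup G)) : Set G) ⊔ C = ⊤ := by
  have hcardT : Nat.card (((S : Subgroup G) ⊓ C).subgroupOf C) =
      p ^ (Nat.card C).factorization p := by
    rw [card_subgroupOf_of_le inf_le_right]
    exact Cfsg.Agent.Helper3.card_sylow_inf_normal S C
  let P' : Sylow p C := Sylow.ofCard _ hcardT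
  have hP' : (P' : Subgroup C) = ((S : Subgroup G) ⊓ C).subgroupOf C :=
    Sylow.coe_ofCard _ hcardT
  have hfr := Sylow.normalizer_sup_eq_top P'
  rw [hP', subgroupOf_map_subtype, inf_assoc, inf_idem] at hfr
  exact hfr

theorem pushing_up [Finite G] {p : ℕ} [Fact p.Prime] (S : Sylow p G)
    (hE₁ : centralizer (Cfsg.pCore p G : Set G) ≤ Cfsg.pCore p G)
    (hE₂ : ∃! M : Subgroup G, IsCoatom M ∧ (S : Subgroup G) ≤ M) :
    (Cfsg.powerClosure p 1 ((S : Subgroup G) ⊓ centralizer ((S : Subgroup G) : Set G))).Normal ∨
    (((S : Subgroup G) ⊓ centralizer (Cfsg.centerThompsonAOf (S : Subgroup G) : Set G))).Normal := by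
  classical
  obtain ⟨M, ⟨hMco, hSM⟩, hMuniq⟩ := hE₂
  set V := Cfsg.powerClosure p 1 ((S : Subgroup G) ⊓ centralizer ((S : Subgroup G) : Set G))
    with hV
  set J := Cfsg.thompsonSubgroupAOf (S : Subgroup G) with hJ
  have hgen := gen_top S hE₁
  have hVZ : V ≤ (S : Subgroup G) ⊓ centralizer ((S : Subgroup G) : Set G) := by
    rw [hV]
    unfold Cfsg.powerClosure
    rw [closure_le]
    rintro _ ⟨x, hx, rfl⟩
    exact Subgroup.pow_mem _ hx _
  have hSA : (S : Subgroup G) ≤ centralizer (V : Set G) := by
    intro s hs
    apply mem_centralizer_iff.mpr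
    intro v hv
    exact (mem_centralizer_iff.mp (hVZ hv).2 s hs).symm
  have hSB : (S : Subgroup G) ≤ normalizer (J : Set G) :=
    le_normalizer.trans (Cfsg.Agent.Helper26.GJ.thompsonSubgroupAOf_le_normalizer (S : Subgroup G))
  have hprop : ∀ X : Subgroup G, (S : Subgroup G) ≤ X → X ≠ ⊤ → X ≤ M := by
    intro X hSX hX
    obtain ⟨M', hM'co, hXM'⟩ := (eq_top_or_exists_le_coatom X).resolve_left hX
    have := hMuniq M' ⟨hM'co, hSX.trans hXM'⟩
    rw [← this]
    exact hXM'
  have hcentral : V ≤ center G → V.Normal := normal_of_le_center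
  by_cases hA : centralizer (V : Set G) = ⊤
  · left
    apply hcentral
    intro v hv
    rw [mem_center_iff]
    intro g
    have hg : g ∈ centralizer (V : Set G) := by rw [hA]; exact mem_top g
    exact (mem_centralizer_iff.mp hg v hv).symm
  by_cases hB : normalizer (J : Set G) = ⊤
  · -- `J(S)` is normal
    have hJn : J.Normal := normalizer_eq_top_iff.mp hB
    have hZ₀n : (Cfsg.centerThompsonAOf (S : Subgroup G)).Normal := by
      unfold Cfsg.centerThompsonAOf
      exact Subgroup.normal_inf_normal J (centralizer (J : Set G))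
    set C := centralizer (Cfsg.centerThompsonAOf (S : Subgroup G) : Set G) with hC
    have hCn : C.Normal := Subgroup.normal_centralizer
    by_cases hN : normalizer ((((S : Subgroup G) ⊓ C : Subgroup G)) : Set G) = ⊤
    · right
      exact normalizer_eq_top_iff.mp hN
    · have hSN : (S : Subgroup G) ≤ normalizer ((((S : Subgroup G) ⊓ C : Subgroup G)) : Set G) := by
        have h1 : (S : Subgroup G) ≤ normalizer (((S : Subgroup G) : Subgroup G) : Set G) := le_normalizer
        have h2 : (S : Subgroup G) ≤ normalizer ((C : Subgroup G) : Set G) := by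
          rw [normalizer_eq_top_iff.mpr hCn]; exact le_top
        intro s hs
        rw [mem_normalizer_iff]
        intro y
        constructor
        · rintro ⟨hy1, hy2⟩
          exact ⟨((mem_normalizer_iff.mp (h1 hs)) y).mp hy1, ((mem_normalizer_iff.mp (h2 hs)) y).mp hy2⟩
        · rintro ⟨hy1, hy2⟩
          exact ⟨((mem_normalizer_iff.mp (h1 hs)) y).mpr hy1, ((mem_normalizer_iff.mp (h2 hs)) y).mpr hy2⟩
      have hNM := hprop _ hSN hN
      by_cases hCS : C ⊔ (S : Subgroup G) = ⊤
      · left
        apply hcentral
        apply hVZ.trans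
        intro z hz
        have hzJ : z ∈ J := Cfsg.Agent.Helper26.CF.center_le_thompsonSubgroupAOf (S : Subgroup G) hz
        have hJS : J ≤ (S : Subgroup G) := by
          rintro _ ⟨y, -, rfl⟩
          exact y.2
        have hzZ₀ : z ∈ Cfsg.centerThompsonAOf (S : Subgroup G) := by
          refine ⟨hzJ, ?_⟩
          apply mem_centralizer_iff.mpr
          intro y hy
          exact mem_centralizer_iff.mp hz.2 y (hJS hy)
        have h1 : C ⊔ (S : Subgroup G) ≤ centralizer ({z} : Set G) := by
          apply sup_le
          · intro c hc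
            apply mem_centralizer_iff.mpr
            intro y hy
            rw [Set.mem_singleton_iff] at hy
            subst hy
            exact mem_centralizer_iff.mp hc y hzZ₀
          · intro s hs
            apply mem_centralizer_iff.mpr
            intro y hy
            rw [Set.mem_singleton_iff] at hy
            subst hy
            exact (mem_centralizer_iff.mp hz.2 s hs).symm
        rw [hCS] at h1
        rw [mem_center_iff]
        intro g
        exact (mem_centralizer_iff.mp (h1 (mem_top g)) z rfl).symm
      · exfalso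
        have hCSM := hprop _ le_sup_right hCS
        have hfr := frattini_inf S C
        have : (⊤ : Subgroup G) ≤ M := by
          rw [← hfr]
          exact sup_le hNM (le_sup_left.trans hCSM)
        exact hMco.1 (top_le_iff.mp this)
  · exfalso
    have h1 := hprop _ hSA hA
    have h2 := hprop _ hSB hB
    have : (⊤ : Subgroup G) ≤ M := by
      rw [← hgen]
      exact sup_le h1 h2
    exact hMco.1 (top_le_iff.mp this)

end Cfsg.Agent.Helper26.GenJ
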