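import Cfsg.Agent.Helper26.SZTSC4

/-! SZT (driver helper12), piece SC0: the structure constants `a_{x x g}` for `x` conjugate into
`A0 \ 1` are non-zero. -/

set_option autoImplicit false
set_option linter.unusedSimpArgs false

namespace Cfsg.Agent.SZT

open Cfsg Cfsg.Agent.Helper11.SCTI Cfsg.Agent.Helper24
open scoped Classical ComplexConjugate

universe u

variable {G : Type u} [Group G] [Fintype G]

namespace Cfg

variable (C : Cfg G)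

theorem sconst_T0 {W₁ W₂ : G → ℂ} (T : C.IsTable W₁ W₂) (x g : G) (hx : C.T0 x)
    (hg : g ≠ 1) :
    ∑ ψ : IrrCharacter G, (ψ : G → ℂ) x * (ψ : G → ℂ) x *
      (starRingEnd ℂ) ((ψ : G → ℂ) g) / (ψ : G → ℂ) 1 ≠ 0 := by
  rw [C.sconst_expand T x g]
  obtain ⟨hQ, hR, hRQ, hRQ2⟩ := C.SC_real
  have hQ1 : (0 : ℝ) < (C.q : ℝ) - 1 := by linarith
  have hR0 : (0 : ℝ) < (C.r : ℝ) := by linarith
  have hQ2 : (64 : ℝ) ≤ (C.q : ℝ) ^ 2 := by nlinarith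
  have hx0 := hx
  obtain ⟨a, haA, ha1, hax⟩ := hx
  have ha1' : (⟨a, haA⟩ : C.A0) ≠ 1 := fun hh => ha1 (congrArg Subtype.val hh)
  have hfx : ∀ θ : C.A0 →* ℂˣ, C.cF0 θ x = 1 * indA C.A0 θ ⟨a, haA⟩ := fun θ => by
    rw [one_mul]; exact C.cF0_T0 θ ⟨a, haA⟩ ha1' hax
  rw [C.cX_T0 hx0, T.t0₁ x hx0, T.t0₂ x hx0,
    SCgen_fam_z C.A1 C.cF1 x g _ (fun θ => C.cF1_T0 θ hx0),
    SCgen_fam_z C.A2 C.cF2 x g _ (fun θ => C.cF2_T0 θ hx0)]
  have hpos24 : (0 : ℝ) < 1 + 2⁻¹ * ((2 * ((C.q : ℝ) - 1) - 2 ^ 2) / ((C.q : ℝ) ^ 2 + 1)) := by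
    have a1 : 0 ≤ (2 * ((C.q : ℝ) - 1) - 2 ^ 2) / ((C.q : ℝ) ^ 2 + 1) :=
      div_nonneg (by linarith) (by positivity)
    linarith
  have hpos12 : (0 : ℝ) < 1 - 1 / (C.q : ℝ) ^ 2 := by
    have a1 : 1 / (C.q : ℝ) ^ 2 < 1 := by
      rw [div_lt_one (by positivity)]
      linarith
    linarith
  rcases C.cases g with h | h | h | h | h | h
  · exact absurd h hg
  · -- order 2
    rw [SCgen_fam_vc C.sc_A0 C.real_A0 2 C.SC_e0 C.cF0 x g ⟨a, haA⟩ ha1' 1 1 _ hfx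
        (fun θ => C.cF0_two θ h), C.SC_cardA0, C.cX_two h]
    simp only [map_sub, map_neg, map_one, map_div₀, Complex.conj_natCast, map_ofNat, map_zero,
      Nat.cast_ofNat]
    refine SCgen_ne_zero_of_real _ ?_ hpos24
    push_cast; ring
  · -- order 4
    rw [SCgen_fam_vc C.sc_A0 C.real_A0 2 C.SC_e0 C.cF0 x g ⟨a, haA⟩ ha1' 1 1 _ hfx
        (fun θ => C.cF0_four θ h), C.SC_cardA0, C.cX_four h]
    simp only [map_sub, map_neg, map_one, map_div₀, Complex.conj_natCast, map_ofNat, map_zero,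
      Nat.cast_ofNat]
    refine SCgen_ne_zero_of_real _ ?_ hpos24
    push_cast; ring
  · -- T0
    obtain ⟨b, hbA, hb1, hbg⟩ := h
    have hb1' : (⟨b, hbA⟩ : C.A0) ≠ 1 := fun hh => hb1 (congrArg Subtype.val hh)
    have h0 : C.T0 g := ⟨b, hbA, hb1, hbg⟩
    obtain ⟨M, hM, hsum⟩ := SCgen_fam_vv C.sc_A0 C.real_A0 2 C.SC_e0 C.cF0 x g ⟨a, haA⟩ ⟨b, hbA⟩
      ha1' hb1' 1 ((C.q : ℂ) ^ 2 + 1) hfx
      (fun θ => by rw [one_mul]; exact C.cF0_T0 θ ⟨b, hbA⟩ hb1' hbg)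
    rw [hsum, C.SC_cardA0, C.cX_T0 h0]
    simp only [map_sub, map_neg, map_one, map_div₀, Complex.conj_natCast, map_ofNat, map_zero,
      Nat.cast_ofNat]
    refine SCgen_ne_zero_of_real (1 + 1 / (C.q : ℝ) ^ 2 +
      2⁻¹ * ((((C.q : ℝ) - 1) * (M : ℝ) - 2 ^ 3) / ((C.q : ℝ) ^ 2 + 1))) ?_ ?_
    · push_cast; ring
    · have hM0 : (0 : ℝ) ≤ (M : ℝ) := Nat.cast_nonneg M
      have a1 : -1 ≤ (((C.q : ℝ) - 1) * (M : ℝ) - 2 ^ 3) / ((C.q : ℝ) ^ 2 + 1) := by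
        rw [le_div_iff₀ (by positivity)]
        have := mul_nonneg hQ1.le hM0
        linarith
      have a2 : 0 < 1 / (C.q : ℝ) ^ 2 := by positivity
      linarith
  · -- T1
    rw [SCgen_fam_vc C.sc_A0 C.real_A0 2 C.SC_e0 C.cF0 x g ⟨a, haA⟩ ha1' 0 1 _ hfx
        (fun θ => C.cF0_T1 θ h), C.SC_cardA0, C.cX_T1 h]
    simp only [map_sub, map_neg, map_one, map_div₀, Complex.conj_natCast, map_ofNat, map_zero,
      Nat.cast_ofNat]
    refine SCgen_ne_zero_of_real _ ?_ hpos12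
    push_cast; ring
  · -- T2
    rw [SCgen_fam_vc C.sc_A0 C.real_A0 2 C.SC_e0 C.cF0 x g ⟨a, haA⟩ ha1' 0 1 _ hfx
        (fun θ => C.cF0_T2 θ h), C.SC_cardA0, C.cX_T2 h]
    simp only [map_sub, map_neg, map_one, map_div₀, Complex.conj_natCast, map_ofNat, map_zero,
      Nat.cast_ofNat]
    refine SCgen_ne_zero_of_real _ ?_ hpos12
    push_cast; ring

end Cfg

end Cfsg.Agent.SZT
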