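import Cfsg.Agent.Helper26.SZTSC4

/-! SZT (driver helper12), piece SC2: the structure constants `a_{x x g}` for `x` conjugate into
`A2 \ 1` are non-zero. -/

set_option autoImplicit false
set_option linter.unusedSimpArgs false

namespace Cfsg.Agent.SZT

open Cfsg Cfsg.Agent.Helper11.SCTI Cfsg.Agent.Helper24
open scoped Classical ComplexConjugate

universe u

variable {G : Type u} [Group G] [Fintype G]

namespace Cfg

variable (C : Cfg G)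

theorem sconst_T2 {W₁ W₂ : G → ℂ} (T : C.IsTable W₁ W₂) (x g : G) (hx : C.T2 x)
    (hg : g ≠ 1) :
    ∑ ψ : IrrCharacter G, (ψ : G → ℂ) x * (ψ : G → ℂ) x *
      (starRingEnd ℂ) ((ψ : G → ℂ) g) / (ψ : G → ℂ) 1 ≠ 0 := by
  rw [C.sconst_expand T x g]
  obtain ⟨hQ, hR, hRQ, hRQ2⟩ := C.SC_real
  have hQ1 : (0 : ℝ) < (C.q : ℝ) - 1 := by linarith
  have hR0 : (0 : ℝ) < (C.r : ℝ) := by linarith
  have hQ2 : (64 : ℝ) ≤ (C.q : ℝ) ^ 2 := by nlinarith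
  have hn2 : (0 : ℝ) < (C.q : ℝ) + 1 - C.r := by linarith
  have hn1 : (0 : ℝ) < (C.q : ℝ) + C.r + 1 := by linarith
  have hd2 : (0 : ℝ) < ((C.q : ℝ) + C.r + 1) * ((C.q : ℝ) - 1) := mul_pos hn1 hQ1
  have hw : (0 : ℝ) < (C.r : ℝ) * ((C.q : ℝ) - 1) / 2 := by positivity
  have hw28 : (28 : ℝ) ≤ (C.r : ℝ) * ((C.q : ℝ) - 1) := by
    have := mul_le_mul hR (show (7 : ℝ) ≤ (C.q : ℝ) - 1 by linarith) (by norm_num) hR0.le
    linarith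
  have hd2' : ((C.q : ℝ) + C.r + 1) * 7 ≤ ((C.q : ℝ) + C.r + 1) * ((C.q : ℝ) - 1) :=
    mul_le_mul_of_nonneg_left (by linarith) hn1.le
  have hx0 := hx
  obtain ⟨a, haA, ha1, hax⟩ := hx
  have ha1' : (⟨a, haA⟩ : C.A2) ≠ 1 := fun hh => ha1 (congrArg Subtype.val hh)
  have hfx : ∀ θ : C.A2 →* ℂˣ, C.cF2 θ x = (-1) * indA C.A2 θ ⟨a, haA⟩ := fun θ => by
    rw [neg_one_mul]; exact C.cF2_T2 θ ⟨a, haA⟩ ha1' hax
  rw [C.cX_T2 hx0, T.t2₁ x hx0, T.t2₂ x hx0,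
    SCgen_fam_z C.A0 C.cF0 x g _ (fun θ => C.cF0_T2 θ hx0),
    SCgen_fam_z C.A1 C.cF1 x g _ (fun θ => C.cF1_T2 θ hx0)]
  have hinv : 1 / (C.q : ℝ) ^ 2 ≤ 1 / 64 := one_div_le_one_div_of_le (by norm_num) hQ2
  rcases C.cases g with h | h | h | h | h | h
  · exact absurd h hg
  · -- order 2
    rw [SCgen_fam_vc C.sc_A2 C.real_A2 4 C.SC_e2 C.cF2 x g ⟨a, haA⟩ ha1' (-(C.r : ℂ) - 1) (-1) _
        hfx (fun θ => C.cF2_two θ h), C.SC_cardA2, C.cX_two h, T.two₁ g h, T.two₂ g h]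
    simp only [map_sub, map_neg, map_one, map_div₀, Complex.conj_natCast, map_ofNat, map_zero,
      Nat.cast_ofNat]
    refine SCgen_ne_zero_of_real (1 + 4⁻¹ * ((4 * ((C.q : ℝ) + 1 - C.r) - 4 ^ 2) *
      (-(C.r : ℝ) - 1) / (((C.q : ℝ) + C.r + 1) * ((C.q : ℝ) - 1))) +
      (-(C.r : ℝ) / 2 + -(C.r : ℝ) / 2) / ((C.r : ℝ) * ((C.q : ℝ) - 1) / 2)) ?_ ?_
    · push_cast; ring
    · have key : ((C.q : ℝ) - C.r - 3) * ((C.r : ℝ) + 1) <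
          ((C.q : ℝ) + C.r + 1) * ((C.q : ℝ) - 3) := by
        have h1 := mul_le_mul_of_nonneg_left (show (C.r : ℝ) + 1 ≤ (C.q : ℝ) - 3 by linarith)
          (show (0 : ℝ) ≤ (C.q : ℝ) - C.r - 3 by linarith)
        have h2 := mul_lt_mul_of_pos_right
          (show (C.q : ℝ) - C.r - 3 < (C.q : ℝ) + C.r + 1 by linarith)
          (show (0 : ℝ) < (C.q : ℝ) - 3 by linarith)
        linarith
      have hE : 1 + 4⁻¹ * ((4 * ((C.q : ℝ) + 1 - C.r) - 4 ^ 2) *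
          (-(C.r : ℝ) - 1) / (((C.q : ℝ) + C.r + 1) * ((C.q : ℝ) - 1))) +
          (-(C.r : ℝ) / 2 + -(C.r : ℝ) / 2) / ((C.r : ℝ) * ((C.q : ℝ) - 1) / 2) =
          (((C.q : ℝ) + C.r + 1) * ((C.q : ℝ) - 3) - ((C.q : ℝ) - C.r - 3) * ((C.r : ℝ) + 1)) /
            (((C.q : ℝ) + C.r + 1) * ((C.q : ℝ) - 1)) := by
        have e1 : ((C.q : ℝ) + C.r + 1) ≠ 0 := hn1.ne'
        have e2 : ((C.q : ℝ) - 1) ≠ 0 := hQ1.ne'
        have e3 : (C.r : ℝ) ≠ 0 := hR0.ne'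
        field_simp
        ring
      rw [hE]
      exact div_pos (by linarith) hd2
  · -- order 4
    have hW : (-1 : ℂ) * -1 * conj (W₁ g) + -1 * -1 * conj (W₂ g) = 0 := by
      simp only [neg_mul_neg, one_mul]
      rw [← map_add, T.four_add g h, map_zero]
    rw [SCgen_fam_vc C.sc_A2 C.real_A2 4 C.SC_e2 C.cF2 x g ⟨a, haA⟩ ha1' (-1) (-1) _ hfx
        (fun θ => C.cF2_four θ h), C.SC_cardA2, C.cX_four h, hW]
    simp only [map_sub, map_neg, map_one, map_div₀, Complex.conj_natCast, map_ofNat, map_zero,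
      Nat.cast_ofNat]
    refine SCgen_ne_zero_of_real (1 + 4⁻¹ * ((4 * ((C.q : ℝ) + 1 - C.r) - 4 ^ 2) * (-1) /
      (((C.q : ℝ) + C.r + 1) * ((C.q : ℝ) - 1)))) ?_ ?_
    · push_cast; ring
    · have a1 : -2 ≤ (4 * ((C.q : ℝ) + 1 - C.r) - 4 ^ 2) * (-1) /
          (((C.q : ℝ) + C.r + 1) * ((C.q : ℝ) - 1)) := by
        rw [le_div_iff₀ hd2]
        linarith
      linarith
  · -- T0
    rw [SCgen_fam_vc C.sc_A2 C.real_A2 4 C.SC_e2 C.cF2 x g ⟨a, haA⟩ ha1' 0 (-1) _ hfx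
        (fun θ => C.cF2_T0 θ h), C.SC_cardA2, C.cX_T0 h, T.t0₁ g h, T.t0₂ g h]
    simp only [map_sub, map_neg, map_one, map_div₀, Complex.conj_natCast, map_ofNat, map_zero,
      Nat.cast_ofNat]
    refine SCgen_ne_zero_of_real (1 + 1 / (C.q : ℝ) ^ 2) ?_ ?_
    · push_cast; ring
    · have : 0 < 1 / (C.q : ℝ) ^ 2 := by positivity
      linarith
  · -- T1
    rw [SCgen_fam_vc C.sc_A2 C.real_A2 4 C.SC_e2 C.cF2 x g ⟨a, haA⟩ ha1' 0 (-1) _ hfx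
        (fun θ => C.cF2_T1 θ h), C.SC_cardA2, C.cX_T1 h, T.t1₁ g h, T.t1₂ g h]
    simp only [map_sub, map_neg, map_one, map_div₀, Complex.conj_natCast, map_ofNat, map_zero,
      Nat.cast_ofNat]
    refine SCgen_ne_zero_of_real (1 - 1 / (C.q : ℝ) ^ 2 +
      (1 + 1) / ((C.r : ℝ) * ((C.q : ℝ) - 1) / 2)) ?_ ?_
    · push_cast; ring
    · have a2 : 0 < (1 + 1) / ((C.r : ℝ) * ((C.q : ℝ) - 1) / 2) := by positivity
      linarith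
  · -- T2
    obtain ⟨b, hbA, hb1, hbg⟩ := h
    have hb1' : (⟨b, hbA⟩ : C.A2) ≠ 1 := fun hh => hb1 (congrArg Subtype.val hh)
    have h0 : C.T2 g := ⟨b, hbA, hb1, hbg⟩
    obtain ⟨M, hM, hsum⟩ := SCgen_fam_vv C.sc_A2 C.real_A2 4 C.SC_e2 C.cF2 x g ⟨a, haA⟩ ⟨b, hbA⟩
      ha1' hb1' (-1) (((C.q : ℂ) + C.r + 1) * ((C.q : ℂ) - 1)) hfx
      (fun θ => by rw [neg_one_mul]; exact C.cF2_T2 θ ⟨b, hbA⟩ hb1' hbg)
    rw [hsum, C.SC_cardA2, C.cX_T2 h0, T.t2₁ g h0, T.t2₂ g h0]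
    simp only [map_sub, map_neg, map_one, map_div₀, Complex.conj_natCast, map_ofNat, map_zero,
      Nat.cast_ofNat]
    refine SCgen_ne_zero_of_real (1 - 1 / (C.q : ℝ) ^ 2 -
      4⁻¹ * ((((C.q : ℝ) + 1 - C.r) * (M : ℝ) - 4 ^ 3) /
        (((C.q : ℝ) + C.r + 1) * ((C.q : ℝ) - 1))) +
      (-1 + -1) / ((C.r : ℝ) * ((C.q : ℝ) - 1) / 2)) ?_ ?_
    · push_cast; ring
    · have hM12 : (M : ℝ) ≤ 12 := by exact_mod_cast (by omega : M ≤ 12)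
      have a1 : (((C.q : ℝ) + 1 - C.r) * (M : ℝ) - 4 ^ 3) /
          (((C.q : ℝ) + C.r + 1) * ((C.q : ℝ) - 1)) ≤ 12 / 7 := by
        rw [div_le_iff₀ hd2]
        have h1 := mul_le_mul_of_nonneg_left hM12 hn2.le
        linarith
      have a2 : -(1 / 2) ≤ (-1 + -1) / ((C.r : ℝ) * ((C.q : ℝ) - 1) / 2) := by
        rw [le_div_iff₀ hw]
        linarith
      linarith

end Cfg

end Cfsg.Agent.SZT
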