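import Cfsg.Agent.Helper12.SzTDefs
import Cfsg.Agent.Helper12.SZTVAL

/-! SZT (driver helper12), piece SEXP: expansion of the structure constant sum along the list of
irreducible characters. -/

set_option autoImplicit false

namespace Cfsg.Agent.SZT

open Cfsg Cfsg.Agent.Helper11.SCTI Cfsg.Agent.Helper24
open scoped Classical ComplexConjugate

universe u

variable {G : Type u} [Group G] [Fintype G]

namespace Cfg

variable (C : Cfg G)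

theorem sconst_expand {W₁ W₂ : G → ℂ} (T : C.IsTable W₁ W₂) (x g : G) :
    ∑ ψ : IrrCharacter G, (ψ : G → ℂ) x * (ψ : G → ℂ) x *
      (starRingEnd ℂ) ((ψ : G → ℂ) g) / (ψ : G → ℂ) 1 =
    1 + C.cX x * C.cX x * conj (C.cX g) / (C.q : ℂ) ^ 2 +
    2⁻¹ * ∑ θ : C.A0 →* ℂˣ, (if θ = 1 then 0 else
      C.cF0 θ x * C.cF0 θ x * conj (C.cF0 θ g) / ((C.q : ℂ) ^ 2 + 1)) +
    4⁻¹ * ∑ θ : C.A1 →* ℂˣ, (if θ = 1 then 0 else
      C.cF1 θ x * C.cF1 θ x * conj (C.cF1 θ g) / (((C.q : ℂ) - C.r + 1) * ((C.q : ℂ) - 1))) +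
    4⁻¹ * ∑ θ : C.A2 →* ℂˣ, (if θ = 1 then 0 else
      C.cF2 θ x * C.cF2 θ x * conj (C.cF2 θ g) / (((C.q : ℂ) + C.r + 1) * ((C.q : ℂ) - 1))) +
    (W₁ x * W₁ x * conj (W₁ g) + W₂ x * W₂ x * conj (W₂ g)) /
      ((C.r : ℂ) * ((C.q : ℂ) - 1) / 2) := by
  have h := T.rest (fun ψ => ψ x * ψ x * (starRingEnd ℂ) (ψ g) / ψ 1)
  simp only at h
  rw [h, C.cX_one, T.one₁, T.one₂]
  simp only [C.cF0_one, C.cF1_one, C.cF2_one, map_one, mul_one, div_one]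
  rw [add_div]
  ring

end Cfg

end Cfsg.Agent.SZT
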