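import Cfsg.Agent.Helper26.SZTSCgen
import Cfsg.Agent.Helper26.SZTSEXP
import Cfsg.Agent.Helper12.SZTARITH
import Cfsg.Agent.Helper12.SZTTYPES
import Cfsg.Agent.Helper12.SZTVAL

/-! SZT (driver helper12), piece SC4: the structure constants `a_{x x g}` for `x` of order 4 are
non-zero.  Also the Cfg-level helper lemmas (`SC_*`) shared with SC0/SC1/SC2. -/

set_option autoImplicit false
set_option linter.unusedSimpArgs false

namespace Cfsg.Agent.SZT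

open Cfsg Cfsg.Agent.Helper11.SCTI Cfsg.Agent.Helper24
open scoped Classical ComplexConjugate

universe u

variable {G : Type u} [Group G] [Fintype G]

namespace Cfg

variable (C : Cfg G)

theorem SC_cardA0 : (Nat.card C.A0 : ℂ) = (C.q : ℂ) - 1 := by
  rw [C.card_A0, C.cast_n0]

theorem SC_cardA1 : (Nat.card C.A1 : ℂ) = (C.q : ℂ) + C.r + 1 := by
  rw [C.card_A1]; push_cast; ring

theorem SC_cardA2 : (Nat.card C.A2 : ℂ) = (C.q : ℂ) + 1 - C.r := by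
  rw [C.card_A2, C.cast_n2]

theorem SC_e0 : 2 * Nat.card C.A0 = Nat.card (Subgroup.normalizer (C.A0 : Set G)) := by
  rw [C.card_N0, C.card_A0]

theorem SC_e1 : 4 * Nat.card C.A1 = Nat.card (Subgroup.normalizer (C.A1 : Set G)) := by
  rw [C.card_N1, C.card_A1]

theorem SC_e2 : 4 * Nat.card C.A2 = Nat.card (Subgroup.normalizer (C.A2 : Set G)) := by
  rw [C.card_N2, C.card_A2]

/-- the real facts about `q`, `r` -/
theorem SC_real : (8 : ℝ) ≤ C.q ∧ (4 : ℝ) ≤ C.r ∧ (C.r : ℝ) ^ 2 = 2 * C.q ∧ 2 * (C.r : ℝ) ≤ C.q := by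
  refine ⟨by exact_mod_cast C.hq, by exact_mod_cast C.four_le_r, by exact_mod_cast C.hr,
    by exact_mod_cast C.two_r_le_q⟩

theorem sconst_four {W₁ W₂ : G → ℂ} (T : C.IsTable W₁ W₂) (x g : G) (hx : orderOf x = 4)
    (hg : g ≠ 1) :
    ∑ ψ : IrrCharacter G, (ψ : G → ℂ) x * (ψ : G → ℂ) x *
      (starRingEnd ℂ) ((ψ : G → ℂ) g) / (ψ : G → ℂ) 1 ≠ 0 := by
  rw [C.sconst_expand T x g]
  have hW1 : W₁ x * W₁ x = -(C.q : ℂ) / 2 := by rw [← sq]; exact T.four_sq₁ x hx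
  have hW2 : W₂ x * W₂ x = -(C.q : ℂ) / 2 := by rw [← sq]; exact T.four_sq₂ x hx
  obtain ⟨hQ, hR, hRQ, hRQ2⟩ := C.SC_real
  have hQ1 : (0 : ℝ) < (C.q : ℝ) - 1 := by linarith
  have hR0 : (0 : ℝ) < (C.r : ℝ) := by linarith
  have hn2 : (0 : ℝ) < (C.q : ℝ) - C.r + 1 := by linarith
  have hn1 : (0 : ℝ) < (C.q : ℝ) + C.r + 1 := by linarith
  have hd1 : (0 : ℝ) < ((C.q : ℝ) - C.r + 1) * ((C.q : ℝ) - 1) := mul_pos hn2 hQ1
  have hd2 : (0 : ℝ) < ((C.q : ℝ) + C.r + 1) * ((C.q : ℝ) - 1) := mul_pos hn1 hQ1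
  rw [C.cX_four hx, hW1, hW2]
  rcases C.cases g with h | h | h | h | h | h
  · exact absurd h hg
  · -- order 2
    rw [SCgen_fam_cc C.sc_A0 C.cF0 x g 1 1 _ (fun θ => C.cF0_four θ hx) (fun θ => C.cF0_two θ h),
      SCgen_fam_cc C.sc_A1 C.cF1 x g (-1) ((C.r : ℂ) - 1) _ (fun θ => C.cF1_four θ hx)
        (fun θ => C.cF1_two θ h),
      SCgen_fam_cc C.sc_A2 C.cF2 x g (-1) (-(C.r : ℂ) - 1) _ (fun θ => C.cF2_four θ hx)
        (fun θ => C.cF2_two θ h),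
      C.SC_cardA0, C.SC_cardA1, C.SC_cardA2, T.two₁ g h, T.two₂ g h, C.cX_two h]
    simp only [map_sub, map_neg, map_one, map_div₀, Complex.conj_natCast, map_ofNat, map_zero,
      Nat.cast_ofNat]
    refine SCgen_ne_zero_of_real (1 + 2⁻¹ * (((C.q : ℝ) - 2) / ((C.q : ℝ) ^ 2 + 1)) +
      4⁻¹ * (((C.q : ℝ) + C.r) * ((C.r : ℝ) - 1) / (((C.q : ℝ) - C.r + 1) * ((C.q : ℝ) - 1))) -
      4⁻¹ * (((C.q : ℝ) - C.r) * ((C.r : ℝ) + 1) / (((C.q : ℝ) + C.r + 1) * ((C.q : ℝ) - 1))) +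
      (C.q : ℝ) * C.r / 2 / ((C.r : ℝ) * ((C.q : ℝ) - 1) / 2)) ?_ ?_
    · push_cast; ring
    · have a1 : 0 ≤ ((C.q : ℝ) - 2) / ((C.q : ℝ) ^ 2 + 1) :=
        div_nonneg (by linarith) (by positivity)
      have a2 : 0 ≤ ((C.q : ℝ) + C.r) * ((C.r : ℝ) - 1) /
          (((C.q : ℝ) - C.r + 1) * ((C.q : ℝ) - 1)) :=
        div_nonneg (mul_nonneg (by linarith) (by linarith)) (by linarith)
      have a3 : ((C.q : ℝ) - C.r) * ((C.r : ℝ) + 1) /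
          (((C.q : ℝ) + C.r + 1) * ((C.q : ℝ) - 1)) ≤ 1 := by
        rw [div_le_one hd2]
        exact mul_le_mul (show (C.q : ℝ) - C.r ≤ (C.q : ℝ) + C.r + 1 by linarith)
          (show (C.r : ℝ) + 1 ≤ (C.q : ℝ) - 1 by linarith) (by linarith) (by linarith)
      have a4 : 0 < (C.q : ℝ) * C.r / 2 / ((C.r : ℝ) * ((C.q : ℝ) - 1) / 2) :=
        div_pos (by positivity) (by positivity)
      linarith
  · -- order 4
    have hW : -(C.q : ℂ) / 2 * conj (W₁ g) + -(C.q : ℂ) / 2 * conj (W₂ g) = 0 := by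
      rw [← mul_add, ← map_add, T.four_add g h, map_zero, mul_zero]
    rw [SCgen_fam_cc C.sc_A0 C.cF0 x g 1 1 _ (fun θ => C.cF0_four θ hx) (fun θ => C.cF0_four θ h),
      SCgen_fam_cc C.sc_A1 C.cF1 x g (-1) (-1) _ (fun θ => C.cF1_four θ hx)
        (fun θ => C.cF1_four θ h),
      SCgen_fam_cc C.sc_A2 C.cF2 x g (-1) (-1) _ (fun θ => C.cF2_four θ hx)
        (fun θ => C.cF2_four θ h),
      C.SC_cardA0, C.SC_cardA1, C.SC_cardA2, hW, C.cX_four h]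
    simp only [map_sub, map_neg, map_one, map_div₀, Complex.conj_natCast, map_ofNat, map_zero,
      Nat.cast_ofNat]
    refine SCgen_ne_zero_of_real (1 + 2⁻¹ * (((C.q : ℝ) - 2) / ((C.q : ℝ) ^ 2 + 1)) -
      4⁻¹ * (((C.q : ℝ) + C.r) / (((C.q : ℝ) - C.r + 1) * ((C.q : ℝ) - 1))) -
      4⁻¹ * (((C.q : ℝ) - C.r) / (((C.q : ℝ) + C.r + 1) * ((C.q : ℝ) - 1)))) ?_ ?_
    · push_cast; ring
    · have a1 : 0 ≤ ((C.q : ℝ) - 2) / ((C.q : ℝ) ^ 2 + 1) :=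
        div_nonneg (by linarith) (by positivity)
      have a2 : ((C.q : ℝ) + C.r) / (((C.q : ℝ) - C.r + 1) * ((C.q : ℝ) - 1)) ≤ 1 := by
        rw [div_le_one hd1]
        have := mul_le_mul (le_refl ((C.q : ℝ) - C.r + 1))
          (show (7 : ℝ) ≤ (C.q : ℝ) - 1 by linarith) (by norm_num) (by linarith)
        linarith
      have a3 : ((C.q : ℝ) - C.r) / (((C.q : ℝ) + C.r + 1) * ((C.q : ℝ) - 1)) ≤ 1 := by
        rw [div_le_one hd2]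
        have := mul_le_mul (le_refl ((C.q : ℝ) + C.r + 1))
          (show (7 : ℝ) ≤ (C.q : ℝ) - 1 by linarith) (by norm_num) (by linarith)
        linarith
      linarith
  · -- T0
    obtain ⟨b, hbA, hb1, hbg⟩ := h
    have hb1' : (⟨b, hbA⟩ : C.A0) ≠ 1 := fun hh => hb1 (congrArg Subtype.val hh)
    have h0 : C.T0 g := ⟨b, hbA, hb1, hbg⟩
    rw [SCgen_fam_cv C.sc_A0 2 C.SC_e0 C.cF0 x g ⟨b, hbA⟩ hb1' 1 1 _ (fun θ => C.cF0_four θ hx)
        (fun θ => by rw [one_mul]; exact C.cF0_T0 θ ⟨b, hbA⟩ hb1' hbg),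
      SCgen_fam_cc C.sc_A1 C.cF1 x g (-1) 0 _ (fun θ => C.cF1_four θ hx)
        (fun θ => C.cF1_T0 θ h0),
      SCgen_fam_cc C.sc_A2 C.cF2 x g (-1) 0 _ (fun θ => C.cF2_four θ hx)
        (fun θ => C.cF2_T0 θ h0),
      T.t0₁ g h0, T.t0₂ g h0, C.cX_T0 h0]
    simp only [map_sub, map_neg, map_one, map_div₀, Complex.conj_natCast, map_ofNat, map_zero,
      Nat.cast_ofNat]
    refine SCgen_ne_zero_of_real (1 - 1 / ((C.q : ℝ) ^ 2 + 1)) ?_ ?_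
    · push_cast; ring
    · have a1 : 1 / ((C.q : ℝ) ^ 2 + 1) < 1 := by
        rw [div_lt_one (by positivity)]
        nlinarith
      linarith
  · -- T1
    obtain ⟨b, hbA, hb1, hbg⟩ := h
    have hb1' : (⟨b, hbA⟩ : C.A1) ≠ 1 := fun hh => hb1 (congrArg Subtype.val hh)
    have h0 : C.T1 g := ⟨b, hbA, hb1, hbg⟩
    rw [SCgen_fam_cc C.sc_A0 C.cF0 x g 1 0 _ (fun θ => C.cF0_four θ hx)
        (fun θ => C.cF0_T1 θ h0),
      SCgen_fam_cv C.sc_A1 4 C.SC_e1 C.cF1 x g ⟨b, hbA⟩ hb1' (-1) (-1) _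
        (fun θ => C.cF1_four θ hx)
        (fun θ => by rw [neg_one_mul]; exact C.cF1_T1 θ ⟨b, hbA⟩ hb1' hbg),
      SCgen_fam_cc C.sc_A2 C.cF2 x g (-1) 0 _ (fun θ => C.cF2_four θ hx)
        (fun θ => C.cF2_T1 θ h0),
      T.t1₁ g h0, T.t1₂ g h0, C.cX_T1 h0]
    simp only [map_sub, map_neg, map_one, map_div₀, Complex.conj_natCast, map_ofNat, map_zero,
      Nat.cast_ofNat]
    refine SCgen_ne_zero_of_real (1 + 1 / (((C.q : ℝ) - C.r + 1) * ((C.q : ℝ) - 1)) -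
      (C.q : ℝ) / ((C.r : ℝ) * ((C.q : ℝ) - 1) / 2)) ?_ ?_
    · push_cast; ring
    · have a1 : 0 < 1 / (((C.q : ℝ) - C.r + 1) * ((C.q : ℝ) - 1)) := by positivity
      have a2 : (C.q : ℝ) / ((C.r : ℝ) * ((C.q : ℝ) - 1) / 2) < 1 := by
        rw [div_lt_one (by positivity)]
        have := mul_le_mul_of_nonneg_right hR (le_of_lt hQ1)
        linarith
      linarith
  · -- T2
    obtain ⟨b, hbA, hb1, hbg⟩ := h
    have hb1' : (⟨b, hbA⟩ : C.A2) ≠ 1 := fun hh => hb1 (congrArg Subtype.val hh)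
    have h0 : C.T2 g := ⟨b, hbA, hb1, hbg⟩
    rw [SCgen_fam_cc C.sc_A0 C.cF0 x g 1 0 _ (fun θ => C.cF0_four θ hx)
        (fun θ => C.cF0_T2 θ h0),
      SCgen_fam_cc C.sc_A1 C.cF1 x g (-1) 0 _ (fun θ => C.cF1_four θ hx)
        (fun θ => C.cF1_T2 θ h0),
      SCgen_fam_cv C.sc_A2 4 C.SC_e2 C.cF2 x g ⟨b, hbA⟩ hb1' (-1) (-1) _
        (fun θ => C.cF2_four θ hx)
        (fun θ => by rw [neg_one_mul]; exact C.cF2_T2 θ ⟨b, hbA⟩ hb1' hbg),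
      T.t2₁ g h0, T.t2₂ g h0, C.cX_T2 h0]
    simp only [map_sub, map_neg, map_one, map_div₀, Complex.conj_natCast, map_ofNat, map_zero,
      Nat.cast_ofNat]
    refine SCgen_ne_zero_of_real (1 + 1 / (((C.q : ℝ) + C.r + 1) * ((C.q : ℝ) - 1)) +
      (C.q : ℝ) / ((C.r : ℝ) * ((C.q : ℝ) - 1) / 2)) ?_ ?_
    · push_cast; ring
    · have a1 : 0 < 1 / (((C.q : ℝ) + C.r + 1) * ((C.q : ℝ) - 1)) := by positivity
      have a2 : 0 < (C.q : ℝ) / ((C.r : ℝ) * ((C.q : ℝ) - 1) / 2) :=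
        div_pos (by linarith) (by positivity)
      linarith

end Cfg

end Cfsg.Agent.SZT
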