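import Mathlib
import Cfsg.Prelude.Def_GeometricClasses
import Cfsg.Prelude.Def_Classical
import Cfsg.Agent.Helper6.S5992Defs
import Cfsg.Agent.Helper27.Inv2Defs

/-! Inv2 sub-board (driver helper27), piece C2CORE: the shear trick.

* `C2CORE.isTy_of_gram` : (generic, char 2) four vectors `a, b, d, e` with Gram matrix `H ⊕ H`
  (`B a b = B d e = 1`, the other pairings `0`) and `Q (a + d) = Q (b + e) = 0` span a
  hyperbolic 4-space (`IsTy Q true 4`); also `C2CORE.linearIndependent_of_gram`,
  `C2CORE.mem_span4`.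
* `c2_core` : the piece.
-/

set_option autoImplicit false

namespace Cfsg.Agent.Inv2P

open Cfsg.Agent.Helper2.SympInvol Cfsg.Agent.Helper2.SympUnits Cfsg.Agent.S5961P Cfsg.Agent.S5992P

namespace C2CORE

variable {F V : Type*} [Field F] [AddCommGroup V] [Module F V]

theorem mem_span4 (a b d e x : V) :
    x ∈ Submodule.span F {a, b, d, e} ↔
      ∃ α β γ δ : F, x = α • a + β • b + γ • d + δ • e := by
  constructor
  · intro h
    rw [Submodule.mem_span_insert] at h
    obtain ⟨α, y, hy, rfl⟩ := h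
    rw [Submodule.mem_span_insert] at hy
    obtain ⟨β, z, hz, rfl⟩ := hy
    rw [Submodule.mem_span_insert] at hz
    obtain ⟨γ, w, hw, rfl⟩ := hz
    rw [Submodule.mem_span_singleton] at hw
    obtain ⟨δ, rfl⟩ := hw
    exact ⟨α, β, γ, δ, by abel⟩
  · rintro ⟨α, β, γ, δ, rfl⟩
    have ha : a ∈ Submodule.span F {a, b, d, e} := Submodule.subset_span (by simp)
    have hb : b ∈ Submodule.span F {a, b, d, e} := Submodule.subset_span (by simp)
    have hd : d ∈ Submodule.span F {a, b, d, e} := Submodule.subset_span (by simp)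
    have he : e ∈ Submodule.span F {a, b, d, e} := Submodule.subset_span (by simp)
    exact Submodule.add_mem _ (Submodule.add_mem _ (Submodule.add_mem _
      (Submodule.smul_mem _ _ ha) (Submodule.smul_mem _ _ hb)) (Submodule.smul_mem _ _ hd))
      (Submodule.smul_mem _ _ he)

/-- the coefficients of a combination are read off by the Gram matrix `H ⊕ H` -/
theorem coeffs (h2 : (2 : F) = 0) (Q : QuadraticForm F V) (a b d e : V)
    (hab : PB Q a b = 1) (hde : PB Q d e = 1) (had : PB Q a d = 0) (hae : PB Q a e = 0)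
    (hbd : PB Q b d = 0) (hbe : PB Q b e = 0) (α β γ δ : F) :
    PB Q (α • a + β • b + γ • d + δ • e) b = α ∧ PB Q (α • a + β • b + γ • d + δ • e) a = β ∧
    PB Q (α • a + β • b + γ • d + δ • e) e = γ ∧ PB Q (α • a + β • b + γ • d + δ • e) d = δ := by
  have haa := PB_self_zero h2 Q a
  have hbb := PB_self_zero h2 Q b
  have hdd := PB_self_zero h2 Q d
  have hee := PB_self_zero h2 Q e
  have hba : PB Q b a = 1 := by rw [PB_comm, hab]
  have hed : PB Q e d = 1 := by rw [PB_comm, hde]
  have hda : PB Q d a = 0 := by rw [PB_comm, had]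
  have hea : PB Q e a = 0 := by rw [PB_comm, hae]
  have hdb : PB Q d b = 0 := by rw [PB_comm, hbd]
  have heb : PB Q e b = 0 := by rw [PB_comm, hbe]
  refine ⟨?_, ?_, ?_, ?_⟩ <;>
  · simp only [map_add, map_smul, LinearMap.add_apply, LinearMap.smul_apply, smul_eq_mul,
      haa, hbb, hdd, hee, hab, hba, hde, hed, had, hda, hae, hea, hbd, hdb, hbe, heb]
    ring

theorem linearIndependent_of_gram (h2 : (2 : F) = 0) (Q : QuadraticForm F V) (a b d e : V)
    (hab : PB Q a b = 1) (hde : PB Q d e = 1) (had : PB Q a d = 0) (hae : PB Q a e = 0)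
    (hbd : PB Q b d = 0) (hbe : PB Q b e = 0) : LinearIndependent F ![a, b, d, e] := by
  rw [Fintype.linearIndependent_iff]
  intro g hg
  rw [Fin.sum_univ_four] at hg
  simp only [Matrix.cons_val_zero, Matrix.cons_val_one, Matrix.cons_val] at hg
  obtain ⟨c1, c2, c3, c4⟩ := coeffs h2 Q a b d e hab hde had hae hbd hbe (g 0) (g 1) (g 2) (g 3)
  rw [hg] at c1 c2 c3 c4
  simp only [map_zero, LinearMap.zero_apply] at c1 c2 c3 c4
  intro i
  fin_cases i
  · exact c1.symm
  · exact c2.symm
  · exact c3.symm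
  · exact c4.symm

omit [AddCommGroup V] in
theorem range4 (a b d e : V) : Set.range ![a, b, d, e] = {a, b, d, e} := by
  simp only [Matrix.range_cons, Matrix.range_empty, Set.union_empty, Set.singleton_union]

omit [AddCommGroup V] in
theorem range2 (a b : V) : Set.range ![a, b] = {a, b} := by
  simp only [Matrix.range_cons, Matrix.range_empty, Set.union_empty, Set.singleton_union]

theorem Q_add (Q : QuadraticForm F V) (u v : V) : Q (u + v) = Q u + Q v + PB Q u v := by
  rw [PB_apply, QuadraticMap.polar]; ring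

/-- four vectors with Gram matrix `H ⊕ H` and `Q (a + d) = Q (b + e) = 0` span a hyperbolic
4-space (characteristic two) -/
theorem isTy_of_gram (h2 : (2 : F) = 0) (Q : QuadraticForm F V) (a b d e : V)
    (hab : PB Q a b = 1) (hde : PB Q d e = 1) (had : PB Q a d = 0) (hae : PB Q a e = 0)
    (hbd : PB Q b d = 0) (hbe : PB Q b e = 0) (hQ1 : Q (a + d) = 0) (hQ2 : Q (b + e) = 0) :
    IsTy Q true 4 (Submodule.span F {a, b, d, e}) := by
  have hli := linearIndependent_of_gram h2 Q a b d e hab hde had hae hbd hbe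
  have hfr : Module.finrank F (Submodule.span F {a, b, d, e}) = 4 := by
    have := finrank_span_eq_card hli
    rw [range4] at this
    rw [this]; rfl
  have ha : a ∈ Submodule.span F {a, b, d, e} := Submodule.subset_span (by simp)
  have hb : b ∈ Submodule.span F {a, b, d, e} := Submodule.subset_span (by simp)
  have hd : d ∈ Submodule.span F {a, b, d, e} := Submodule.subset_span (by simp)
  have he : e ∈ Submodule.span F {a, b, d, e} := Submodule.subset_span (by simp)
  refine ⟨hfr, ?_, ?_⟩
  · -- nondegenerate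
    intro m hm hm0
    obtain ⟨α, β, γ, δ, rfl⟩ := (mem_span4 a b d e m).mp hm
    obtain ⟨c1, c2, c3, c4⟩ := coeffs h2 Q a b d e hab hde had hae hbd hbe α β γ δ
    by_contra hcon
    push Not at hcon
    apply hm0
    have e1 := hcon b hb
    have e2 := hcon a ha
    have e3 := hcon e he
    have e4 := hcon d hd
    rw [c1] at e1
    rw [c2] at e2
    rw [c3] at e3
    rw [c4] at e4
    rw [e1, e2, e3, e4]
    simp
  · -- plus type
    refine ⟨fun _ => rfl, fun _ => ?_⟩
    refine ⟨Submodule.span F {a + d, b + e}, ?_, ?_, ?_⟩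
    · rw [Submodule.span_le]
      intro x hx
      simp only [Set.mem_insert_iff, Set.mem_singleton_iff] at hx
      rcases hx with rfl | rfl
      · exact Submodule.add_mem _ ha hd
      · exact Submodule.add_mem _ hb he
    · intro u hu
      obtain ⟨s, r, rfl⟩ := Submodule.mem_span_pair.mp hu
      have hB : PB Q (a + d) (b + e) = 0 := by
        have hdb : PB Q d b = 0 := by rw [PB_comm, hbd]
        simp only [map_add, LinearMap.add_apply, hab, hae, hdb, hde]
        rw [add_zero, zero_add, one_add_one_eq_two, h2]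
      rw [Q_add, QuadraticMap.map_smul, QuadraticMap.map_smul, hQ1, hQ2]
      simp only [map_smul, LinearMap.smul_apply, hB]
      simp
    · rw [hfr]
      have hli2 : LinearIndependent F ![a + d, b + e] := by
        rw [LinearIndependent.pair_iff]
        intro s r hsr
        have h0 : s • a + r • b + s • d + r • e = 0 := by
          rw [← hsr, smul_add, smul_add]; abel
        obtain ⟨c1, c2, -, -⟩ := coeffs h2 Q a b d e hab hde had hae hbd hbe s r s r
        rw [h0] at c1 c2
        simp only [map_zero, LinearMap.zero_apply] at c1 c2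
        exact ⟨c1.symm, c2.symm⟩
      have := finrank_span_eq_card hli2
      rw [range2] at this
      rw [this]; rfl

end C2CORE

/-- C2CORE: the shear trick: `A = ⟨v₁ + c, N v₁, v₂, N v₂⟩` is an invariant hyperbolic 4-space -/
theorem c2_core {F V : Type*} [Field F] [AddCommGroup V] [Module F V]
    [FiniteDimensional F V] (h2 : (2 : F) = 0) (Q : QuadraticForm F V) (t : Module.End F V)
    (ht : IsInv2 Q t) (v₁ v₂ c : V) (h₁ : Q ((t - 1) v₁) = 1) (h₂ : Q ((t - 1) v₂) = 1)
    (h₁₂ : PB Q v₁ v₂ = 0) (h₁₂' : PB Q v₁ ((t - 1) v₂) = 0) (hc : t c = c)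
    (hc₁ : PB Q c v₁ = 0) (hc₂ : PB Q c v₂ = 0) (hQc : Q c = Q v₁ + Q v₂) :
    IsTy Q true 4 (Submodule.span F {v₁ + c, (t - 1) v₁, v₂, (t - 1) v₂}) ∧
    InvOn t (Submodule.span F {v₁ + c, (t - 1) v₁, v₂, (t - 1) v₂}) ∧
    rk t (Submodule.span F {v₁ + c, (t - 1) v₁, v₂, (t - 1) v₂}) = 2 := by
  have hNc : (t - 1) c = 0 := by rw [N_apply, hc, sub_self]
  have hNa : (t - 1) (v₁ + c) = (t - 1) v₁ := by rw [map_add, hNc, add_zero]
  have hcN : ∀ v, PB Q c ((t - 1) v) = 0 := by
    intro v
    rw [← PB_N_left ht, hNc, map_zero, LinearMap.zero_apply]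
  have hab : PB Q (v₁ + c) ((t - 1) v₁) = 1 := by
    rw [map_add, LinearMap.add_apply, hcN, add_zero, ← Q_N h2 ht, h₁]
  have hde : PB Q v₂ ((t - 1) v₂) = 1 := by rw [← Q_N h2 ht, h₂]
  have had : PB Q (v₁ + c) v₂ = 0 := by
    rw [map_add, LinearMap.add_apply, h₁₂, hc₂, add_zero]
  have hae : PB Q (v₁ + c) ((t - 1) v₂) = 0 := by
    rw [map_add, LinearMap.add_apply, h₁₂', hcN, add_zero]
  have hbd : PB Q ((t - 1) v₁) v₂ = 0 := by rw [PB_N_left ht, h₁₂']
  have hbe : PB Q ((t - 1) v₁) ((t - 1) v₂) = 0 := PB_N_N h2 ht v₁ v₂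
  have hQ1 : Q (v₁ + c + v₂) = 0 := by
    rw [C2CORE.Q_add, had, C2CORE.Q_add, PB_comm, hc₁, hQc]
    have : Q v₁ + (Q v₁ + Q v₂) + 0 + Q v₂ + 0 = 2 * (Q v₁ + Q v₂) := by ring
    rw [this, h2, zero_mul]
  have hQ2 : Q ((t - 1) v₁ + (t - 1) v₂) = 0 := by
    rw [← map_add, Q_N_add h2 ht, h₁, h₂, one_add_one_eq_two, h2]
  set W := Submodule.span F {v₁ + c, (t - 1) v₁, v₂, (t - 1) v₂} with hW
  have ha : v₁ + c ∈ W := Submodule.subset_span (by simp)
  have hb : (t - 1) v₁ ∈ W := Submodule.subset_span (by simp)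
  have hd : v₂ ∈ W := Submodule.subset_span (by simp)
  have he : (t - 1) v₂ ∈ W := Submodule.subset_span (by simp)
  refine ⟨C2CORE.isTy_of_gram h2 Q _ _ _ _ hab hde had hae hbd hbe hQ1 hQ2, ?_, ?_⟩
  · rw [invOn_iff_N]
    intro x hx
    obtain ⟨α, β, γ, δ, rfl⟩ := (C2CORE.mem_span4 _ _ _ _ x).mp hx
    simp only [map_add, map_smul, N_N_apply h2 ht, hNc, add_zero, smul_zero]
    exact Submodule.add_mem _ (Submodule.smul_mem _ _ hb) (Submodule.smul_mem _ _ he)
  · have hmap : W.map (t - 1) = Submodule.span F {(t - 1) v₁, (t - 1) v₂} := by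
      apply le_antisymm
      · rw [hW, Submodule.map_span_le]
        intro x hx
        simp only [Set.mem_insert_iff, Set.mem_singleton_iff] at hx
        rcases hx with rfl | rfl | rfl | rfl
        · rw [hNa]; exact Submodule.subset_span (by simp)
        · rw [N_N_apply h2 ht]; exact Submodule.zero_mem _
        · exact Submodule.subset_span (by simp)
        · rw [N_N_apply h2 ht]; exact Submodule.zero_mem _
      · rw [Submodule.span_le]
        intro x hx
        simp only [Set.mem_insert_iff, Set.mem_singleton_iff] at hx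
        rcases hx with rfl | rfl
        · exact ⟨v₁ + c, ha, hNa⟩
        · exact ⟨v₂, hd, rfl⟩
    unfold rk
    rw [hmap]
    have hli := C2CORE.linearIndependent_of_gram h2 Q _ _ _ _ hab hde had hae hbd hbe
    have hli2 : LinearIndependent F ![(t - 1) v₁, (t - 1) v₂] := by
      have := hli.comp ![(1 : Fin 4), 3] (by decide)
      convert this using 1
      ext i
      fin_cases i <;> rfl
    have := finrank_span_eq_card hli2
    rw [C2CORE.range2] at this
    rw [this]; rfl

end Cfsg.Agent.Inv2P
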