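import Mathlib
import Cfsg.Prelude.Def_LieClassical
import Cfsg.Agent.Helper13.S2263Defs

/-! S2263, piece SUM: orthogonal sums of Hermitian spaces and of isometries. -/

set_option autoImplicit false

namespace Cfsg.Agent.S2263P

open Cfsg.Agent.S2496P

namespace SUM

variable {F : Type*} [Field F] {σ : F →+* F} {V : Type*} [AddCommGroup V] [Module F V]
  {H : V → V → F}

theorem zero_left (h : IsHerm σ H) (v : V) : H 0 v = 0 := by
  have := h.smul_left 0 0 v
  rwa [zero_smul, zero_mul] at this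

theorem zero_right (h : IsHerm σ H) (u : V) : H u 0 = 0 := by
  rw [h.symm 0 u, zero_left h, map_zero]

theorem prodMap_pow {W : Type*} [AddCommGroup W] [Module F W] (X₁ : V →ₗ[F] V) (X₂ : W →ₗ[F] W)
    (k : ℕ) : (X₁.prodMap X₂) ^ k = (X₁ ^ k).prodMap (X₂ ^ k) := by
  induction k with
  | zero => simp
  | succ k ih => rw [pow_succ, pow_succ, pow_succ, ih, LinearMap.prodMap_mul]

end SUM

section sum

variable {F : Type*} [Field F] {σ : F →+* F} {V W : Type*} [AddCommGroup V] [Module F V]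
  [AddCommGroup W] [Module F W] {H₁ : V → V → F} {H₂ : W → W → F}

/-- SUM -/
theorem isHerm_Hsum (h₁ : IsHerm σ H₁) (h₂ : IsHerm σ H₂) : IsHerm σ (Hsum H₁ H₂) := by
  refine ⟨?_, ?_, ?_, ?_⟩
  · intro u u' v
    simp only [Hsum_apply, Prod.fst_add, Prod.snd_add, h₁.add_left, h₂.add_left]
    ring
  · intro c u v
    simp only [Hsum_apply, Prod.smul_fst, Prod.smul_snd, h₁.smul_left, h₂.smul_left]
    ring
  · intro u v
    simp only [Hsum_apply, map_add, ← h₁.symm, ← h₂.symm]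
  · intro u hu
    have h1 : u.1 = 0 := h₁.nondeg _ (fun v => by
      have := hu (v, 0)
      simpa only [Hsum_apply, SUM.zero_right h₂, add_zero] using this)
    have h2 : u.2 = 0 := h₂.nondeg _ (fun w => by
      have := hu (0, w)
      simpa only [Hsum_apply, SUM.zero_right h₁, zero_add] using this)
    exact Prod.ext h1 h2

/-- SUM -/
theorem Hsum_prodMap (X₁ : V →ₗ[F] V) (X₂ : W →ₗ[F] W)
    (hX₁ : ∀ u v, H₁ (X₁ u) (X₁ v) = H₁ u v) (hX₂ : ∀ u v, H₂ (X₂ u) (X₂ v) = H₂ u v)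
    (u v : V × W) :
    Hsum H₁ H₂ (X₁.prodMap X₂ u) (X₁.prodMap X₂ v) = Hsum H₁ H₂ u v := by
  simp only [Hsum_apply, LinearMap.prodMap_apply, hX₁, hX₂]

/-- SUM -/
theorem prodMap_pow_eq_one_iff (X₁ : V →ₗ[F] V) (X₂ : W →ₗ[F] W) (k : ℕ) :
    (X₁.prodMap X₂) ^ k = 1 ↔ X₁ ^ k = 1 ∧ X₂ ^ k = 1 := by
  rw [SUM.prodMap_pow]
  constructor
  · intro h
    constructor
    · ext v
      have := congrArg Prod.fst (LinearMap.congr_fun h (v, 0))
      simpa using this
    · ext w
      have := congrArg Prod.snd (LinearMap.congr_fun h (0, w))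
      simpa using this
  · rintro ⟨h1, h2⟩
    rw [h1, h2, LinearMap.prodMap_one]

end sum

end Cfsg.Agent.S2263P
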