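import Mathlib
import Cfsg.Prelude.Def_Classical
import Cfsg.Agent.Helper13.S2496Defs
import Cfsg.Agent.Helper14.S2496CONJ
import Cfsg.Agent.Helper16.S2496SCHUR
import Cfsg.Agent.Helper16.S2496GENK

/-!
# S2496, piece CENT

Endomorphisms of `K × K` commuting with `tor s` (`s` of Zsigmondy-prime order `r`) are diagonal:
the diagonal blocks commute with multiplication by a generator of `K` (GENK + SCHUR), the
off-diagonal blocks intertwine two non-conjugate generators (CONJ + SCHUR), hence vanish.
-/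

set_option autoImplicit false

namespace Cfsg.Agent.S2496P

section cent

variable {F K : Type*} [Field F] [Fintype F] [Field K] [Algebra F K] [Finite K] {p : ℕ}
  [Fact p.Prime] [CharP F p] [CharP K p] {f q : ℕ}

/-- CENT (uses GENK, CONJ, SCHUR): endomorphisms commuting with `tor s` are diagonal -/
theorem cent_tor (hq : q = p ^ f) (hF : Fintype.card F = q ^ 2) {r : ℕ} (hr : r.Prime)
    (hR : ∀ k, Odd k → ¬ r ∣ q ^ k + 1)
    (hi : orderOf ((q ^ 2 : ℕ) : ZMod r) = Module.finrank F K) (s : K) (hs : s ^ r = 1)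
    (hs1 : s ≠ 1) (X : K × K →ₗ[F] K × K)
    (hX : X ∘ₗ tor F K p f s = tor F K p f s ∘ₗ X) :
    ∃ a b : K, ∀ u, X u = (a * u.1, b * u.2) := by
  have hfin : FiniteDimensional F K := inferInstance
  set t : K := (frob K p f s)⁻¹ with ht
  have hs0 : s ≠ 0 := by
    intro h0
    rw [h0, zero_pow hr.ne_zero] at hs
    exact zero_ne_one hs
  have hfs : frob K p f s ≠ 0 := by
    rw [frob_apply]; exact pow_ne_zero _ hs0
  have htr : t ^ r = 1 := by
    rw [ht, inv_pow, ← map_pow, hs, map_one, inv_one]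
  have ht1 : t ≠ 1 := by
    intro h1
    apply hs1
    have h2 : frob K p f s = 1 := by
      rw [ht, inv_eq_one] at h1
      exact h1
    have h3 : frob K p f s = frob K p f 1 := by rw [h2, map_one]
    exact (frob K p f).injective h3
  have hi' : orderOf ((Fintype.card F : ℕ) : ZMod r) = Module.finrank F K := by rw [hF]; exact hi
  have hgs : Algebra.adjoin F {s} = ⊤ := adjoin_eq_top_of_prime_order hr s hs hs1 hi'
  have hgt : Algebra.adjoin F {t} = ⊤ := adjoin_eq_top_of_prime_order hr t htr ht1 hi'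
  obtain ⟨hc1, hc2⟩ := aeval_frob_inv_ne_zero hq hF hr hR s hs hs1
  -- the commutation relation pointwise
  have hXu : ∀ u : K × K, X (t * u.1, s * u.2) = (t * (X u).1, s * (X u).2) := by
    intro u
    have := LinearMap.congr_fun hX u
    simpa only [LinearMap.comp_apply, tor_apply] using this
  -- blocks
  set X11 : K →ₗ[F] K := (LinearMap.fst F K K) ∘ₗ X ∘ₗ (LinearMap.inl F K K) with hX11
  set X12 : K →ₗ[F] K := (LinearMap.fst F K K) ∘ₗ X ∘ₗ (LinearMap.inr F K K) with hX12
  set X21 : K →ₗ[F] K := (LinearMap.snd F K K) ∘ₗ X ∘ₗ (LinearMap.inl F K K) with hX21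
  set X22 : K →ₗ[F] K := (LinearMap.snd F K K) ∘ₗ X ∘ₗ (LinearMap.inr F K K) with hX22
  have e11 : ∀ a, X11 a = (X (a, 0)).1 := fun a => rfl
  have e12 : ∀ b, X12 b = (X (0, b)).1 := fun b => rfl
  have e21 : ∀ a, X21 a = (X (a, 0)).2 := fun a => rfl
  have e22 : ∀ b, X22 b = (X (0, b)).2 := fun b => rfl
  have k11 : ∀ a, X11 (t * a) = t * X11 a := by
    intro a
    have := hXu (a, 0)
    simp only [mul_zero] at this
    rw [e11, e11, this]
  have k21 : ∀ a, X21 (t * a) = s * X21 a := by
    intro a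
    have := hXu (a, 0)
    simp only [mul_zero] at this
    rw [e21, e21, this]
  have k12 : ∀ b, X12 (s * b) = t * X12 b := by
    intro b
    have := hXu (0, b)
    simp only [mul_zero] at this
    rw [e12, e12, this]
  have k22 : ∀ b, X22 (s * b) = s * X22 b := by
    intro b
    have := hXu (0, b)
    simp only [mul_zero] at this
    rw [e22, e22, this]
  have r11 := schur_comm t hgt X11 k11
  have r22 := schur_comm s hgs X22 k22
  have r12 : X12 = 0 := schur_zero s t hgs hc1 X12 k12
  have r21 : X21 = 0 := schur_zero t s hgt hc2 X21 k21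
  refine ⟨X11 1, X22 1, ?_⟩
  intro u
  have hu : u = (u.1, 0) + (0, u.2) := by
    ext <;> simp
  have h1 : X u = X (u.1, 0) + X (0, u.2) := by
    conv_lhs => rw [hu]
    rw [map_add]
  rw [h1]
  ext
  · show (X (u.1, 0)).1 + (X (0, u.2)).1 = X11 1 * u.1
    rw [← e11, ← e12, r12, r11 u.1]
    simp
  · show (X (u.1, 0)).2 + (X (0, u.2)).2 = X22 1 * u.2
    rw [← e21, ← e22, r21, r22 u.2]
    simp

end cent

end Cfsg.Agent.S2496P
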