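import Mathlib
import Cfsg.Agent.Helper29.S2264Defs
import Cfsg.Agent.Helper21.S2264PAIRS
import Cfsg.Agent.Helper7.S2264FACS
import Cfsg.Agent.Helper19.S2264RECIP1
import Cfsg.Agent.Helper21.S2264SELFREC
import Cfsg.Agent.Helper19.S2264REVFAC
import Cfsg.Agent.Helper14.S2264DEGONE
import Cfsg.Agent.Helper14.S2264PARTITION

/-! S2264 piece DEG (driver helper29): the degree inequality
`2 Aw μ + bonus(f₀) ≤ deg μ` for a self-reciprocal `μ` and a factor `f₀`. -/

set_option autoImplicit false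

namespace Cfsg.Agent.S2264P

open Polynomial
open scoped Classical

noncomputable section

variable {F : Type*} [Field F]

theorem deg_ineq [Fintype F] {μ f₀ : F[X]} (hμ : Good μ) (hf₀ : f₀ ∈ facs μ) :
    2 * Aw μ + (if IsUnip f₀ then mult μ f₀ else 2 * (mult μ f₀ - 1)) ≤ μ.natDegree := by
  have hμ0 : μ ≠ 0 := hμ.monic.ne_zero
  have hsum := natDegree_eq_sum hμ.monic
  have hpart := facs_eq_union μ
  have hdisj := disjoint_Su μ
  have hpairs := two_mul_Aw_le_sum hμ
  rw [hpart, Finset.sum_union hdisj] at hsum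
  have hTsub : ∀ f ∈ Sm μ ∪ Sp μ, f ∈ facs μ := by
    intro f hf
    rw [hpart]
    exact Finset.mem_union_right _ hf
  have hdeg1 : ∀ f ∈ facs μ, 1 ≤ f.natDegree := by
    intro f hf
    have hirr := ((mem_facs hμ0).mp hf).1
    have := Polynomial.natDegree_pos_iff_degree_pos.mpr (Polynomial.degree_pos_of_irreducible hirr)
    omega
  -- split `mult * deg = deg + (mult - 1) * deg` on `T`
  have hsplit : ∑ f ∈ Sm μ ∪ Sp μ, mult μ f * f.natDegree =
      ∑ f ∈ Sm μ ∪ Sp μ, f.natDegree + ∑ f ∈ Sm μ ∪ Sp μ, (mult μ f - 1) * f.natDegree := by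
    rw [← Finset.sum_add_distrib]
    apply Finset.sum_congr rfl
    intro f hf
    have h1 := mult_pos (hTsub f hf)
    obtain ⟨k, hk⟩ : ∃ k, mult μ f = k + 1 := ⟨mult μ f - 1, by omega⟩
    rw [hk, Nat.add_sub_cancel]
    ring
  by_cases hu : IsUnip f₀
  · rw [if_pos hu]
    have hf₀Su : f₀ ∈ Su μ := Finset.mem_filter.mpr ⟨hf₀, hu⟩
    have h1 : mult μ f₀ * f₀.natDegree ≤ ∑ f ∈ Su μ, mult μ f * f.natDegree :=
      Finset.single_le_sum (f := fun f => mult μ f * f.natDegree) (fun _ _ => Nat.zero_le _) hf₀Su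
    rw [natDegree_of_isUnip hu, mul_one] at h1
    have h2 : 0 ≤ ∑ f ∈ Sm μ ∪ Sp μ, (mult μ f - 1) * f.natDegree := Nat.zero_le _
    omega
  · rw [if_neg hu]
    have hf₀T : f₀ ∈ Sm μ ∪ Sp μ := by
      by_cases hr : recip f₀ = f₀
      · exact Finset.mem_union_left _ (Finset.mem_filter.mpr ⟨hf₀, hr, hu⟩)
      · exact Finset.mem_union_right _ (Finset.mem_filter.mpr ⟨hf₀, hr⟩)
    have hbonus : 2 * (mult μ f₀ - 1) ≤ ∑ f ∈ Sm μ ∪ Sp μ, (mult μ f - 1) * f.natDegree := by
      by_cases hr : recip f₀ = f₀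
      · -- self-reciprocal: degree at least 2
        obtain ⟨hirr, hmon, -⟩ := (mem_facs hμ0).mp hf₀
        have h2 := (selfrec_even hirr hmon hr hu).1
        have h3 : (mult μ f₀ - 1) * f₀.natDegree ≤
            ∑ f ∈ Sm μ ∪ Sp μ, (mult μ f - 1) * f.natDegree :=
          Finset.single_le_sum (f := fun f => (mult μ f - 1) * f.natDegree)
            (fun _ _ => Nat.zero_le _) hf₀T
        have h4 : 2 * (mult μ f₀ - 1) ≤ (mult μ f₀ - 1) * f₀.natDegree := by
          rw [mul_comm]
          exact Nat.mul_le_mul_left _ h2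
        omega
      · -- non-self-reciprocal: the pair `f₀, recip f₀`
        obtain ⟨hirr, hmon, -⟩ := (mem_facs hμ0).mp hf₀
        have hc0 := coeff_zero_ne_zero_of_mem_facs hμ.coeff0 hf₀
        have hf₁ : recip f₀ ∈ facs μ := recip_mem_facs hμ hf₀
        have hm₁ : mult μ (recip f₀) = mult μ f₀ := mult_recip hμ hf₀
        have hrr : recip (recip f₀) = f₀ := recip_recip hmon hc0
        have hne : f₀ ≠ recip f₀ := fun h => hr h.symm
        have hf₁T : recip f₀ ∈ Sm μ ∪ Sp μ := by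
          apply Finset.mem_union_right
          refine Finset.mem_filter.mpr ⟨hf₁, ?_⟩
          rw [hrr]
          exact hne
        have hsub : ({f₀, recip f₀} : Finset F[X]) ⊆ Sm μ ∪ Sp μ := by
          intro f hf
          rcases Finset.mem_insert.mp hf with rfl | hf
          · exact hf₀T
          · rw [Finset.mem_singleton.mp hf]; exact hf₁T
        have h3 := Finset.sum_le_sum_of_subset (f := fun f => (mult μ f - 1) * f.natDegree) hsub
        rw [Finset.sum_pair hne] at h3
        simp only [hm₁] at h3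
        have h4 := hdeg1 f₀ hf₀
        have h5 := hdeg1 (recip f₀) hf₁
        have h6 : (mult μ f₀ - 1) * 1 ≤ (mult μ f₀ - 1) * f₀.natDegree :=
          Nat.mul_le_mul_left _ h4
        have h7 : (mult μ f₀ - 1) * 1 ≤ (mult μ f₀ - 1) * (recip f₀).natDegree :=
          Nat.mul_le_mul_left _ h5
        omega
    have h2 : 0 ≤ ∑ f ∈ Su μ, mult μ f * f.natDegree := Nat.zero_le _
    omega

end

end Cfsg.Agent.S2264P
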