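import Mathlib
import Cfsg.Prelude.Def_LieClassical
import Cfsg.Agent.Helper29.S2263Defs

/-! S2263, piece FROBLIFT: `φ ∣ X^k - C c → φ^m ∣ X^(k p^j) - C (c^(p^j))` for `m ≤ p^j` in
characteristic `p`. -/

set_option autoImplicit false

namespace Cfsg.Agent.S2263P

open Polynomial
open Cfsg.Agent.S2264P

section poly

variable {F : Type*} [Field F]

/-- FROBLIFT -/
theorem pow_dvd_sub_C {p : ℕ} [Fact p.Prime] [CharP F p] {φ : F[X]} {k m j : ℕ} {c : F}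
    (h : φ ∣ X ^ k - C c) (hm : m ≤ p ^ j) : φ ^ m ∣ X ^ (k * p ^ j) - C (c ^ p ^ j) := by
  have h1 : φ ^ m ∣ φ ^ (p ^ j) := pow_dvd_pow φ hm
  have h2 : φ ^ (p ^ j) ∣ (X ^ k - C c) ^ (p ^ j) := pow_dvd_pow_of_dvd h _
  have h3 : (X ^ k - C c : F[X]) ^ (p ^ j) = X ^ (k * p ^ j) - C (c ^ p ^ j) := by
    rw [sub_pow_char_pow, ← pow_mul, ← C_pow]
  rw [← h3]
  exact h1.trans h2

end poly

end Cfsg.Agent.S2263P
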