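import Mathlib
import Cfsg.Agent.Helper27.S0996Defs
import Cfsg.Agent.Helper26.S0996Aux

set_option autoImplicit false

/-! S0996 piece CX: `|C_G(x₀)| = e (n + 1)` for an involution `x₀ ∈ N`. -/

namespace Cfsg.Agent.Helper26.S0996CX

universe u

variable {G : Type u} [Group G]

/-- a cyclic group has at most one involution -/
theorem invol_unique (E : Subgroup G) [Finite E] (hcyc : IsCyclic E) {c c' : G} (hc : c ∈ E)
    (hc' : c' ∈ E) (h2 : c ^ 2 = 1) (h2' : c' ^ 2 = 1) (h1 : c ≠ 1) (h1' : c' ≠ 1) : c = c' := by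
  classical
  by_contra hne
  haveI : Fintype E := Fintype.ofFinite E
  have hle := IsCyclic.card_pow_eq_one_le (α := E) (n := 2) (by norm_num)
  have hsub : ({(1 : E), ⟨c, hc⟩, ⟨c', hc'⟩} : Finset E) ⊆
      Finset.univ.filter (fun a : E => a ^ 2 = 1) := by
    intro a ha
    rw [Finset.mem_insert, Finset.mem_insert, Finset.mem_singleton] at ha
    rw [Finset.mem_filter]
    refine ⟨Finset.mem_univ _, ?_⟩
    rcases ha with rfl | rfl | rfl
    · exact one_pow 2
    · exact Subtype.ext h2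
    · exact Subtype.ext h2'
  have hcard : ({(1 : E), ⟨c, hc⟩, ⟨c', hc'⟩} : Finset E).card = 3 := by
    rw [Finset.card_insert_of_notMem, Finset.card_insert_of_notMem, Finset.card_singleton]
    · rw [Finset.mem_singleton]
      intro h
      exact hne (congrArg Subtype.val h)
    · rw [Finset.mem_insert, Finset.mem_singleton]
      rintro (h | h)
      · exact h1 (congrArg Subtype.val h).symm
      · exact h1' (congrArg Subtype.val h).symm
  have := Finset.card_le_card hsub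
  omega

end Cfsg.Agent.Helper26.S0996CX

namespace Cfsg.Agent.S0996P

open Cfsg Cfsg.Agent.Helper24 Cfsg.Agent.Helper1.W2p Cfsg.Agent.Helper26.S0996Aux

universe u

variable {G : Type u} [Group G]

section L5b
variable [Finite G] {p : ℕ} [Fact p.Prime] {P : Subgroup G} {n : ℕ}

/-- CX -/
theorem card_centralizer_invol (B : Basic p P n) (Q : Perm p P n) (x₀ : G) (hx : x₀ ∈ NP P)
    (ho : orderOf x₀ = 2) :
    Nat.card ↥(Subgroup.centralizer ({x₀} : Set G)) = eN P * (n + 1) := by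
  classical
  have hp : p.Prime := Fact.out
  have hPN : P ≤ NP P := Subgroup.le_normalizer
  -- involutions are not in `P`
  have hnotP : ∀ s : G, s ^ 2 = 1 → s ≠ 1 → s ∉ P := by
    intro s hs2 hs1 hsP
    have ho2 : orderOf s = 2 := orderOf_eq_prime hs2 hs1
    have hdvd : orderOf s ∣ Nat.card P := by
      have := orderOf_dvd_natCard (⟨s, hsP⟩ : P)
      rwa [Subgroup.orderOf_mk] at this
    rw [ho2, B.card_P] at hdvd
    have := (Nat.prime_dvd_prime_iff_eq Nat.prime_two hp).mp hdvd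
    have := B.five_le
    omega
  have hx2 : x₀ ^ 2 = 1 := by rw [← ho]; exact pow_orderOf_eq_one x₀
  have hx1 : x₀ ≠ 1 := by
    intro h
    rw [h, orderOf_one] at ho
    omega
  have hxP : x₀ ∉ P := hnotP x₀ hx2 hx1
  -- a point outside `N`
  obtain ⟨g, hg⟩ : ∃ g : G, g ∉ NP P := by
    by_contra hcon
    push Not at hcon
    have htop : NP P = ⊤ := by
      rw [eq_top_iff]
      intro g _
      exact hcon g
    have hidx := B.index_NP
    rw [htop, Subgroup.index_top] at hidx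
    have h1 := B.one_le_n
    have h5 := B.five_le
    have : 1 ≤ n * p := Nat.mul_pos (by omega) (by omega)
    omega
  obtain ⟨E, hE⟩ : ∃ E, E = EE P g := ⟨_, rfl⟩
  have hEN : E ≤ NP P := by rw [hE]; exact inf_le_left
  have hEc : Nat.card E = eN P := by rw [hE]; exact Q.rk g hg
  have hEP : E ⊓ P = ⊥ := Q.compl_inf E hEN hEc
  have hcyc : IsCyclic E := Q.compl_cyc E hEN hEc
  -- every involution of `N` is `P`-conjugate to an involution of `E`
  have hinv : ∀ s ∈ NP P, s ^ 2 = 1 → s ≠ 1 →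
      ∃ u ∈ P, ∃ c ∈ E, c ^ 2 = 1 ∧ c ≠ 1 ∧ u * c * u⁻¹ = s := by
    intro s hsN hs2 hs1
    obtain ⟨c, hcE, y, hyP, hs⟩ := Q.compl_mul E hEN hEc s hsN
    have hcP : c ∉ P := by
      intro hcP
      have hmem : c ∈ E ⊓ P := Subgroup.mem_inf.mpr ⟨hcE, hcP⟩
      rw [hEP, Subgroup.mem_bot] at hmem
      rw [hmem, one_mul] at hs
      exact hnotP s hs2 hs1 (hs ▸ hyP)
    obtain ⟨u, huP, hu⟩ := B.conj_mul c (hEN hcE) hcP y hyP
    refine ⟨u, huP, c, hcE, ?_, ?_, ?_⟩
    · have hc : c = u⁻¹ * s * u := by rw [hs, ← hu]; group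
      rw [hc]
      have : (u⁻¹ * s * u) ^ 2 = u⁻¹ * s ^ 2 * u := by
        rw [pow_two, pow_two]
        group
      rw [this, hs2]
      group
    · intro hc1
      subst hc1
      apply hs1
      rw [hs, ← hu]
      group
    · rw [hu, hs]
  obtain ⟨u₀, hu₀P, c₀, hc₀E, hc₀2, hc₀1, hu₀⟩ := hinv x₀ hx hx2 hx1
  have hconj : ∀ s ∈ NP P, s ^ 2 = 1 → s ≠ 1 → ∃ v ∈ P, v * x₀ * v⁻¹ = s := by
    intro s hsN hs2 hs1
    obtain ⟨u, huP, c, hcE, hc2, hc1, hu⟩ := hinv s hsN hs2 hs1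
    have hcc : c = c₀ :=
      Cfsg.Agent.Helper26.S0996CX.invol_unique E hcyc hcE hc₀E hc2 hc₀2 hc1 hc₀1
    refine ⟨u * u₀⁻¹, P.mul_mem huP (P.inv_mem hu₀P), ?_⟩
    rw [← hu, hcc, ← hu₀]
    group
  have hfix := Q.fixcount x₀ hx hxP
  have hkey : Nat.card {x : G | x⁻¹ * x₀ * x ∈ NP P} =
      Nat.card ↥(Subgroup.centralizer ({x₀} : Set G)) * Nat.card P := by
    apply card_mul_P _ P _
    · intro y hyP hyC
      apply B.cent_P x₀ hx hxP y hyP
      exact (Subgroup.mem_centralizer_iff.mp hyC x₀ (Set.mem_singleton x₀))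
    · intro m hm y hy
      show (m * y)⁻¹ * x₀ * (m * y) ∈ NP P
      have hm' : x₀ * m = m * x₀ := Subgroup.mem_centralizer_iff.mp hm x₀ (Set.mem_singleton x₀)
      have : (m * y)⁻¹ * x₀ * (m * y) = y⁻¹ * x₀ * y := by
        calc (m * y)⁻¹ * x₀ * (m * y) = y⁻¹ * m⁻¹ * (x₀ * m) * y := by group
          _ = y⁻¹ * m⁻¹ * (m * x₀) * y := by rw [hm']
          _ = y⁻¹ * x₀ * y := by group
      rw [this]
      exact (NP P).mul_mem ((NP P).mul_mem ((NP P).inv_mem (hPN hy)) hx) (hPN hy)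
    · intro x hxA
      have hxA' : x⁻¹ * x₀ * x ∈ NP P := hxA
      have hs2 : (x⁻¹ * x₀ * x) ^ 2 = 1 := by
        have : (x⁻¹ * x₀ * x) ^ 2 = x⁻¹ * x₀ ^ 2 * x := by
          rw [pow_two, pow_two]
          group
        rw [this, hx2]
        group
      have hs1 : x⁻¹ * x₀ * x ≠ 1 := by
        intro h
        apply hx1
        calc x₀ = x * (x⁻¹ * x₀ * x) * x⁻¹ := by group
          _ = 1 := by rw [h]; group
      obtain ⟨v, hvP, hv⟩ := hconj _ hxA' hs2 hs1
      refine ⟨v, hvP, ?_⟩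
      rw [Subgroup.mem_centralizer_iff]
      intro h hh
      rw [Set.mem_singleton_iff] at hh
      subst hh
      -- `x v x₀ v⁻¹ x⁻¹ = x₀`
      have : x * (v * h * v⁻¹) * x⁻¹ = h := by
        rw [hv]
        group
      calc h * (x * v) = (x * (v * h * v⁻¹) * x⁻¹) * (x * v) := by rw [this]
        _ = x * v * h := by group
  have hfix' : Nat.card {x : G | x⁻¹ * x₀ * x ∈ NP P} = (n + 1) * (p * eN P) := hfix
  rw [hfix', B.card_P] at hkey
  have hp0 : 0 < p := hp.pos
  have : p * (eN P * (n + 1)) = p * Nat.card ↥(Subgroup.centralizer ({x₀} : Set G)) := by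
    rw [mul_comm p (Nat.card _), ← hkey]
    ring
  exact (Nat.eq_of_mul_eq_mul_left hp0 this).symm

end L5b

end Cfsg.Agent.S0996P
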