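import Mathlib
import Cfsg.Agent.Helper27.S0996Defs
import Cfsg.Agent.Helper26.S0996Aux

set_option autoImplicit false

/-! S0996 piece NE: `|N_G(E_g)| = e (n + 1)`. -/

namespace Cfsg.Agent.S0996P

open Cfsg Cfsg.Agent.Helper24 Cfsg.Agent.Helper1.W2p Cfsg.Agent.Helper26.S0996Aux

universe u

variable {G : Type u} [Group G]

section L5b
variable [Finite G] {p : ℕ} [Fact p.Prime] {P : Subgroup G} {n : ℕ}

/-- NE -/
theorem card_normalizer_EE (B : Basic p P n) (Q : Perm p P n) (g : G) (hg : g ∉ NP P) :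
    Nat.card ↥(Subgroup.normalizer ((EE P g : Subgroup G) : Set G)) = eN P * (n + 1) := by
  classical
  obtain ⟨E, hE⟩ : ∃ E, E = EE P g := ⟨_, rfl⟩
  rw [← hE]
  have hEN : E ≤ NP P := by rw [hE]; exact inf_le_left
  have hEc : Nat.card E = eN P := by rw [hE]; exact Q.rk g hg
  have hEP : E ⊓ P = ⊥ := Q.compl_inf E hEN hEc
  have hPN : P ≤ NP P := Subgroup.le_normalizer
  have hcard1 : 1 < Nat.card E := by rw [hEc]; exact B.two_le_eN
  have hEbot : E ≠ ⊥ := (Subgroup.one_lt_card_iff_ne_bot E).mp hcard1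
  obtain ⟨h, hh1⟩ := (Subgroup.ne_bot_iff_exists_ne_one.mp hEbot)
  have hhE' : (h : G) ∈ E := h.2
  have hh1' : (h : G) ≠ 1 := fun hc => hh1 (Subtype.ext hc)
  have hhN : (h : G) ∈ NP P := hEN hhE'
  have hhP : (h : G) ∉ P := by
    intro hP
    have hmem : (h : G) ∈ E ⊓ P := Subgroup.mem_inf.mpr ⟨hhE', hP⟩
    rw [hEP] at hmem
    exact hh1' (Subgroup.mem_bot.mp hmem)
  have hfix := Q.fixcount (h : G) hhN hhP
  -- `N_G(E) ∩ P = 1`
  have hMP : ∀ y ∈ P, y ∈ Subgroup.normalizer (E : Set G) → y = 1 := by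
    intro y hyP hyM
    apply B.cent_P (h : G) hhN hhP y hyP
    -- `[y, h] ∈ E ∩ P`
    have h1 : y * (h : G) * y⁻¹ ∈ E := (Subgroup.mem_normalizer_iff.mp hyM (h : G)).mp hhE'
    have h2 : y * (h : G) * y⁻¹ * (h : G)⁻¹ ∈ E := E.mul_mem h1 (E.inv_mem hhE')
    have h3 : (h : G) * y⁻¹ * (h : G)⁻¹ ∈ P :=
      (Subgroup.mem_normalizer_iff.mp hhN y⁻¹).mp (P.inv_mem hyP)
    have h4 : y * (h : G) * y⁻¹ * (h : G)⁻¹ ∈ P := by
      have : y * (h : G) * y⁻¹ * (h : G)⁻¹ = y * ((h : G) * y⁻¹ * (h : G)⁻¹) := by group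
      rw [this]
      exact P.mul_mem hyP h3
    have h5 : y * (h : G) * y⁻¹ * (h : G)⁻¹ ∈ E ⊓ P := Subgroup.mem_inf.mpr ⟨h2, h4⟩
    rw [hEP, Subgroup.mem_bot] at h5
    calc (h : G) * y = (y * (h : G) * y⁻¹ * (h : G)⁻¹)⁻¹ * (y * (h : G)) := by group
      _ = y * (h : G) := by rw [h5, inv_one, one_mul]
  have hkey : Nat.card {x : G | x⁻¹ * (h : G) * x ∈ NP P} =
      Nat.card ↥(Subgroup.normalizer (E : Set G)) * Nat.card P := by
    apply card_mul_P _ P _ hMP
    · intro m hm y hy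
      show (m * y)⁻¹ * (h : G) * (m * y) ∈ NP P
      have h1 : m⁻¹ * (h : G) * m ∈ E := by
        rw [Subgroup.mem_normalizer_iff.mp hm (m⁻¹ * (h : G) * m)]
        have : m * (m⁻¹ * (h : G) * m) * m⁻¹ = (h : G) := by group
        rw [this]
        exact hhE'
      have : (m * y)⁻¹ * (h : G) * (m * y) = y⁻¹ * (m⁻¹ * (h : G) * m) * y := by group
      rw [this]
      exact (NP P).mul_mem ((NP P).mul_mem ((NP P).inv_mem (hPN hy)) (hEN h1)) (hPN hy)
    · intro x hx
      have hx' : x⁻¹ * (h : G) * x ∈ NP P := hx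
      -- `x⁻¹ E x ≤ N`
      have hle : cj x⁻¹ E ≤ NP P := by
        intro z hz
        rw [mem_cj, inv_inv] at hz
        by_cases hxN : x ∈ NP P
        · have : z = x⁻¹ * (x * z * x⁻¹) * x := by group
          rw [this]
          exact (NP P).mul_mem ((NP P).mul_mem ((NP P).inv_mem hxN) (hEN hz)) hxN
        · have hEx : E = EE P x := by
            apply Q.compl_ti E (EE P x) hEN inf_le_left hEc (Q.rk x hxN) (h : G) hhE' ?_ hh1'
            refine Subgroup.mem_inf.mpr ⟨hhN, ?_⟩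
            rw [mem_cj]
            exact hx'
          rw [hEx] at hz
          have := (Subgroup.mem_inf.mp hz).2
          rw [mem_cj] at this
          have e : x⁻¹ * (x * z * x⁻¹) * x = z := by group
          rw [e] at this
          exact this
      have hc : Nat.card (cj x⁻¹ E) = eN P := by rw [card_cj, hEc]
      obtain ⟨y, hyP, hy⟩ := Q.compl_conj E (cj x⁻¹ E) hEN hle hEc hc
      refine ⟨y, hyP, ?_⟩
      rw [Subgroup.mem_normalizer_iff]
      intro k
      have h1 : y * k * y⁻¹ ∈ cj y E ↔ k ∈ E := by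
        rw [mem_cj]
        have : y⁻¹ * (y * k * y⁻¹) * y = k := by group
        rw [this]
      have h2 : y * k * y⁻¹ ∈ cj x⁻¹ E ↔ x * y * k * (x * y)⁻¹ ∈ E := by
        rw [mem_cj, inv_inv]
        have : x * (y * k * y⁻¹) * x⁻¹ = x * y * k * (x * y)⁻¹ := by group
        rw [this]
      rw [← h1, ← hy, h2]
  have hfix' : Nat.card {x : G | x⁻¹ * (h : G) * x ∈ NP P} = (n + 1) * (p * eN P) := hfix
  rw [hfix', B.card_P] at hkey
  have hp : 0 < p := (Fact.out : p.Prime).pos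
  have : p * (eN P * (n + 1)) = p * Nat.card ↥(Subgroup.normalizer (E : Set G)) := by
    rw [mul_comm p (Nat.card _), ← hkey]
    ring
  exact (Nat.eq_of_mul_eq_mul_left hp this).symm

end L5b

end Cfsg.Agent.S0996P
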