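import Mathlib
import Cfsg.Agent.Helper27.S0996Defs
import Cfsg.Prelude.Def_LieExceptional

set_option autoImplicit false

/-! S0996 piece ZA: for `n = 1` the action on the cosets of `N_G(P)` is a Zassenhaus action. -/

namespace Cfsg.Agent.Helper26.S0996ZA

open Cfsg Cfsg.Agent.S0996P
open scoped commutatorElement

universe u

variable {G : Type u} [Group G]

theorem mk_eq_base_iff (H : Subgroup G) (g : G) :
    ((g : G) : G ⧸ H) = ((1 : G) : G ⧸ H) ↔ g ∈ H := by
  rw [eq_comm, QuotientGroup.eq]; simp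

theorem exists_smul_base (H : Subgroup G) (ω : G ⧸ H) : ∃ g : G, g • ω = ((1 : G) : G ⧸ H) := by
  induction ω using QuotientGroup.induction_on with
  | H x =>
    refine ⟨x⁻¹, ?_⟩
    rw [MulAction.Quotient.smul_coe]; simp

theorem smul_base_iff (H : Subgroup G) (g : G) :
    g • (((1 : G) : G ⧸ H)) = ((1 : G) : G ⧸ H) ↔ g ∈ H := by
  rw [MulAction.Quotient.smul_coe, mk_eq_base_iff]
  simp

variable [Finite G] {p : ℕ} [Fact p.Prime] {P : Subgroup G}

/-- `P` acts freely off the base point -/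
theorem free (B : Basic p P 1) {y : G} (hy : y ∈ P) (hy1 : y ≠ 1) (ω : G ⧸ NP P)
    (hfix : y • ω = ω) : ω = ((1 : G) : G ⧸ NP P) := by
  induction ω using QuotientGroup.induction_on with
  | H g =>
    rw [mk_eq_base_iff]
    apply B.conj_mem g y hy hy1
    rw [MulAction.Quotient.smul_coe, QuotientGroup.eq] at hfix
    have : g⁻¹ * y * g = ((y * g)⁻¹ * g)⁻¹ := by group
    rw [this]
    exact (NP P).inv_mem hfix

theorem card_quot (B : Basic p P 1) : Nat.card (G ⧸ NP P) = p + 1 := by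
  have := B.index_NP
  rw [Subgroup.index] at this
  rw [this]
  ring

/-- `P` is regular on the points other than the base point. -/
theorem regular (B : Basic p P 1) (y z : G ⧸ NP P)
    (hy : y ≠ ((1 : G) : G ⧸ _)) (hz : z ≠ ((1 : G) : G ⧸ _)) :
    ∃! u : P, (u : G) • y = z := by
  classical
  have hPN : P ≤ NP P := Subgroup.le_normalizer
  have hinj : Function.Injective (fun u : P => (u : G) • y) := by
    intro u v huv
    simp only at huv
    by_contra hne
    have h1 : ((v : G)⁻¹ * (u : G)) • y = y := by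
      rw [mul_smul, huv, ← mul_smul]; simp
    have h2 : (v : G)⁻¹ * (u : G) ≠ 1 := by
      intro hh
      apply hne
      have : (u : G) = (v : G) := by
        have := congrArg (fun w => (v : G) * w) hh
        simpa using this
      exact Subtype.ext this
    exact hy (free B (mul_mem (inv_mem v.2) u.2) h2 y h1)
  have hsub : Set.range (fun u : P => (u : G) • y) ⊆ ({((1 : G) : G ⧸ NP P)}ᶜ : Set _) := by
    rintro w ⟨u, rfl⟩
    simp only [Set.mem_compl_iff, Set.mem_singleton_iff]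
    intro hh
    apply hy
    have h1 : (u : G)⁻¹ • ((u : G) • y) = y := by rw [← mul_smul]; simp
    rw [hh] at h1
    rw [← h1, smul_base_iff]
    exact hPN (inv_mem u.2)
  have hcardr : (Set.range (fun u : P => (u : G) • y)).ncard = Nat.card P := by
    rw [← Nat.card_coe_set_eq]
    exact Nat.card_range_of_injective hinj
  have hcardc : (({((1 : G) : G ⧸ NP P)}ᶜ : Set _)).ncard = Nat.card P := by
    rw [Set.ncard_compl, Set.ncard_singleton, card_quot B, B.card_P]
    simp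
  have heq : Set.range (fun u : P => (u : G) • y) = ({((1 : G) : G ⧸ NP P)}ᶜ : Set _) :=
    Set.eq_of_subset_of_ncard_le hsub (by rw [hcardr, hcardc]) (Set.toFinite _)
  have hz' : z ∈ Set.range (fun u : P => (u : G) • y) := by
    rw [heq]; simpa using hz
  obtain ⟨u, hu⟩ := hz'
  simp only at hu
  refine ⟨u, hu, ?_⟩
  intro v hv
  apply hinj
  simp only
  rw [hv, hu]

/-- 2-transitivity on the cosets of `N(P)`. -/
theorem two_transitive (B : Basic p P 1) :
    MulAction.IsMultiplyPretransitive G (G ⧸ NP P) 2 := by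
  have hPN : P ≤ NP P := Subgroup.le_normalizer
  rw [MulAction.is_two_pretransitive_iff]
  intro a b c d hab hcd
  obtain ⟨g1, hg1⟩ := exists_smul_base (NP P) a
  obtain ⟨g2, hg2⟩ := exists_smul_base (NP P) c
  have hb : g1 • b ≠ ((1 : G) : G ⧸ _) := by
    intro hh
    apply hab
    have : g1 • a = g1 • b := by rw [hg1, hh]
    exact (MulAction.injective g1) this
  have hd : g2 • d ≠ ((1 : G) : G ⧸ _) := by
    intro hh
    apply hcd
    have : g2 • c = g2 • d := by rw [hg2, hh]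
    exact (MulAction.injective g2) this
  obtain ⟨u, hu, -⟩ := regular B (g1 • b) (g2 • d) hb hd
  have huN : (u : G) ∈ NP P := hPN u.2
  have hubase : (u : G) • (((1 : G) : G ⧸ NP P)) = ((1 : G) : G ⧸ _) :=
    (smul_base_iff _ _).mpr huN
  refine ⟨g2⁻¹ * (u : G) * g1, ?_, ?_⟩
  · rw [mul_smul, mul_smul, hg1, hubase, ← hg2, ← mul_smul]; simp
  · rw [mul_smul, mul_smul, hu, ← mul_smul]; simp

/-- an element fixing the base point and two further points is trivial -/
theorem three_fix_base (B : Basic p P 1) {g : G} {β γ : G ⧸ NP P}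
    (hβ : β ≠ ((1 : G) : G ⧸ _)) (hγ : γ ≠ ((1 : G) : G ⧸ _)) (hβγ : β ≠ γ)
    (hg0 : g • (((1 : G) : G ⧸ NP P)) = ((1 : G) : G ⧸ _))
    (hgβ : g • β = β) (hgγ : g • γ = γ) : g = 1 := by
  have hgN : g ∈ NP P := (smul_base_iff _ _).mp hg0
  obtain ⟨u, hu, -⟩ := regular B β γ hβ hγ
  have hu1 : (u : G) ≠ 1 := by
    intro hh
    apply hβγ
    rw [← hu, hh, one_smul]
  -- `c = g⁻¹ u⁻¹ g u ∈ P` fixes `β`
  have hcP : g⁻¹ * (u : G)⁻¹ * g * (u : G) ∈ P := by
    have h1 : g⁻¹ * (u : G)⁻¹ * g ∈ P := by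
      have := (Subgroup.mem_normalizer_iff.mp ((NP P).inv_mem hgN) (u : G)⁻¹).mp (P.inv_mem u.2)
      rwa [inv_inv] at this
    exact P.mul_mem h1 u.2
  have hcβ : (g⁻¹ * (u : G)⁻¹ * g * (u : G)) • β = β := by
    rw [mul_smul, hu, mul_smul, hgγ, ← hu, mul_smul, ← mul_smul (u : G)⁻¹, inv_mul_cancel, one_smul]
    have : g⁻¹ • β = β := by
      have h3 : g⁻¹ • (g • β) = g⁻¹ • β := congrArg (fun w => g⁻¹ • w) hgβ
      rw [← mul_smul, inv_mul_cancel, one_smul] at h3
      exact h3.symm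
    exact this
  have hc1 : g⁻¹ * (u : G)⁻¹ * g * (u : G) = 1 := by
    by_contra hne
    exact hβ (free B hcP hne β hcβ)
  have hcomm : g * (u : G) = (u : G) * g := by
    calc g * (u : G) = (u : G) * g * (g⁻¹ * (u : G)⁻¹ * g * (u : G)) := by group
      _ = (u : G) * g := by rw [hc1, mul_one]
  have hgP : g ∈ P := by
    by_contra hgP
    exact hu1 (B.cent_P g hgN hgP (u : G) u.2 hcomm)
  by_contra hg1
  exact hβ (free B hgP hg1 β hgβ)

/-- an element fixing three points is trivial -/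
theorem three_fix (B : Basic p P 1) (g : G) (a b c : G ⧸ NP P) (hab : a ≠ b) (hbc : b ≠ c)
    (hac : a ≠ c) (ha : g • a = a) (hb : g • b = b) (hc : g • c = c) : g = 1 := by
  obtain ⟨s, hs⟩ := exists_smul_base (NP P) a
  have key : s * g * s⁻¹ = 1 := by
    apply three_fix_base B (β := s • b) (γ := s • c)
    · intro hh
      apply hab
      have : s • a = s • b := by rw [hs, hh]
      exact (MulAction.injective s) this
    · intro hh
      apply hac
      have : s • a = s • c := by rw [hs, hh]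
      exact (MulAction.injective s) this
    · intro hh
      exact hbc ((MulAction.injective s) hh)
    · rw [← hs, ← mul_smul]
      have : s * g * s⁻¹ * s = s * g := by group
      rw [this, mul_smul, ha]
    · rw [← mul_smul]
      have : s * g * s⁻¹ * s = s * g := by group
      rw [this, mul_smul, hb]
    · rw [← mul_smul]
      have : s * g * s⁻¹ * s = s * g := by group
      rw [this, mul_smul, hc]
  calc g = s⁻¹ * (s * g * s⁻¹) * s := by group
    _ = 1 := by rw [key]; group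

/-- a point other than the base point -/
theorem exists_ne_base (B : Basic p P 1) : ∃ y : G ⧸ NP P, y ≠ ((1 : G) : G ⧸ _) := by
  obtain ⟨g, hg⟩ : ∃ g : G, g ∉ NP P := by
    by_contra hcon
    push Not at hcon
    have htop : NP P = ⊤ := by
      rw [eq_top_iff]
      intro g _
      exact hcon g
    have hidx := B.index_NP
    rw [htop, Subgroup.index_top] at hidx
    have h5 := B.five_le
    omega
  exact ⟨(g : G ⧸ NP P), fun h => hg ((mk_eq_base_iff _ _).mp h)⟩

/-- a nontrivial element of `P` -/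
theorem exists_ne_one_P (B : Basic p P 1) : ∃ u ∈ P, u ≠ 1 := by
  have hcard1 : 1 < Nat.card P := by
    rw [B.card_P]
    have := B.five_le
    omega
  have hbot : P ≠ ⊥ := (Subgroup.one_lt_card_iff_ne_bot P).mp hcard1
  obtain ⟨u, hu⟩ := Subgroup.ne_bot_iff_exists_ne_one.mp hbot
  exact ⟨u, u.2, fun h => hu (Subtype.ext h)⟩

/-- an element of `N ∖ P` -/
theorem exists_N_not_P (B : Basic p P 1) : ∃ h ∈ NP P, h ∉ P := by
  have hPN : P ≤ NP P := Subgroup.le_normalizer
  by_contra hcon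
  push Not at hcon
  have heq : NP P = P := le_antisymm hcon hPN
  have h1 := B.card_NP
  rw [heq, B.card_P] at h1
  have h2 := B.two_le_eN
  have h5 := B.five_le
  nlinarith

theorem faithful (B : Basic p P 1) : FaithfulSMul G (G ⧸ NP P) := by
  have hPN : P ≤ NP P := Subgroup.le_normalizer
  constructor
  intro g₁ g₂ h
  obtain ⟨y, hy⟩ := exists_ne_base B
  obtain ⟨u, huP, hu1⟩ := exists_ne_one_P B
  have hfix : ∀ a : G ⧸ NP P, (g₂⁻¹ * g₁) • a = a := by
    intro a
    rw [mul_smul, h a, ← mul_smul, inv_mul_cancel, one_smul]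
  have huy : u • y ≠ y := fun hh => hy (free B huP hu1 y hh)
  have huy0 : u • y ≠ ((1 : G) : G ⧸ NP P) := by
    intro hh
    apply hy
    have h1 : u⁻¹ • (u • y) = y := by rw [← mul_smul]; simp
    rw [hh] at h1
    rw [← h1, smul_base_iff]
    exact hPN (P.inv_mem huP)
  have := three_fix B (g₂⁻¹ * g₁) _ y (u • y) (Ne.symm hy) (Ne.symm huy) (Ne.symm huy0)
    (hfix _) (hfix _) (hfix _)
  calc g₁ = g₂ * (g₂⁻¹ * g₁) := by group
    _ = g₂ := by rw [this, mul_one]

theorem exists_two_fix (B : Basic p P 1) :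
    ∃ g : G, g ≠ 1 ∧ ∃ a b : G ⧸ NP P, a ≠ b ∧ g • a = a ∧ g • b = b := by
  have hPN : P ≤ NP P := Subgroup.le_normalizer
  obtain ⟨y, hy⟩ := exists_ne_base B
  obtain ⟨h, hhN, hhP⟩ := exists_N_not_P B
  have hh0 : h • (((1 : G) : G ⧸ NP P)) = ((1 : G) : G ⧸ _) := (smul_base_iff _ _).mpr hhN
  have hhy : h • y ≠ ((1 : G) : G ⧸ NP P) := by
    intro hh
    apply hy
    rw [← hh0] at hh
    exact (MulAction.injective h) hh
  obtain ⟨u, hu, -⟩ := regular B (h • y) y hhy hy
  refine ⟨(u : G) * h, ?_, ((1 : G) : G ⧸ NP P), y, Ne.symm hy, ?_, ?_⟩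
  · intro hh
    apply hhP
    have : h = (u : G)⁻¹ := by
      calc h = (u : G)⁻¹ * ((u : G) * h) := by group
        _ = (u : G)⁻¹ := by rw [hh, mul_one]
    rw [this]
    exact P.inv_mem u.2
  · rw [mul_smul, hh0]
    exact (smul_base_iff _ _).mpr (hPN u.2)
  · rw [mul_smul, hu]

theorem no_regular_normal (B : Basic p P 1) (R : Subgroup G) (hR : R.Normal)
    (htr : MulAction.IsPretransitive R (G ⧸ NP P)) :
    ∃ a : G ⧸ NP P, MulAction.stabilizer R a ≠ ⊥ := by
  have hPN : P ≤ NP P := Subgroup.le_normalizer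
  by_contra hcon
  push Not at hcon
  -- `R ∩ N = 1`
  have hRN : ∀ r ∈ R, r ∈ NP P → r = 1 := by
    intro r hr hrN
    have hmem : (⟨r, hr⟩ : R) ∈ MulAction.stabilizer R (((1 : G) : G ⧸ NP P)) := by
      rw [MulAction.mem_stabilizer_iff]
      show r • (((1 : G) : G ⧸ NP P)) = _
      exact (smul_base_iff _ _).mpr hrN
    rw [hcon, Subgroup.mem_bot] at hmem
    exact congrArg Subtype.val hmem
  -- `G = R N`
  have hfac : ∀ a : G, ∃ r ∈ R, r⁻¹ * a ∈ NP P := by
    intro a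
    obtain ⟨r, hr⟩ := MulAction.exists_smul_eq R (((1 : G) : G ⧸ NP P)) (a • ((1 : G) : G ⧸ NP P))
    refine ⟨(r : G), r.2, ?_⟩
    have hr' : (r : G) • (((1 : G) : G ⧸ NP P)) = a • ((1 : G) : G ⧸ NP P) := hr
    rw [← smul_base_iff, mul_smul, ← hr', ← mul_smul, inv_mul_cancel, one_smul]
  -- commutators of elements of `N` lie in `P`
  have hcyc := B.cyc
  have hNcomm : ∀ m₁ ∈ NP P, ∀ m₂ ∈ NP P, ⁅m₁, m₂⁆ ∈ P := by
    intro m₁ h₁ m₂ h₂
    have : (P.subgroupOf (NP P)).Normal := Subgroup.normal_in_normalizer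
    have hc : ∀ a b : QP P, a * b = b * a := by
      intro a b
      obtain ⟨γ, hγ⟩ := hcyc.exists_generator
      obtain ⟨i, rfl⟩ := Subgroup.mem_zpowers_iff.mp (hγ a)
      obtain ⟨j, rfl⟩ := Subgroup.mem_zpowers_iff.mp (hγ b)
      rw [← zpow_add, ← zpow_add, add_comm]
    have h3 := hc (QuotientGroup.mk (⟨m₁, h₁⟩ : NP P)) (QuotientGroup.mk (⟨m₂, h₂⟩ : NP P))
    have h4 : ((⁅(⟨m₁, h₁⟩ : NP P), ⟨m₂, h₂⟩⁆ : NP P) : QP P) = 1 := by
      rw [commutatorElement_def, QuotientGroup.mk_mul, QuotientGroup.mk_mul, QuotientGroup.mk_mul,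
        QuotientGroup.mk_inv, QuotientGroup.mk_inv, h3]
      group
    rw [QuotientGroup.eq_one_iff, Subgroup.mem_subgroupOf] at h4
    exact h4
  -- all commutators lie in `R ⊔ P`
  have hall : ∀ a b : G, ⁅a, b⁆ ∈ R ⊔ P := by
    intro a b
    obtain ⟨r₁, hr₁, hm₁⟩ := hfac a
    obtain ⟨r₂, hr₂, hm₂⟩ := hfac b
    have h1 : (QuotientGroup.mk' R) a = (QuotientGroup.mk' R) (r₁⁻¹ * a) := by
      have e1 : (QuotientGroup.mk' R) r₁ = 1 := (QuotientGroup.eq_one_iff r₁).mpr hr₁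
      rw [map_mul, map_inv, e1, inv_one, one_mul]
    have h2 : (QuotientGroup.mk' R) b = (QuotientGroup.mk' R) (r₂⁻¹ * b) := by
      have e1 : (QuotientGroup.mk' R) r₂ = 1 := (QuotientGroup.eq_one_iff r₂).mpr hr₂
      rw [map_mul, map_inv, e1, inv_one, one_mul]
    have h3 : (QuotientGroup.mk' R) ⁅a, b⁆ = (QuotientGroup.mk' R) ⁅r₁⁻¹ * a, r₂⁻¹ * b⁆ := by
      rw [map_commutatorElement, map_commutatorElement, h1, h2]
    have h4 : ⁅a, b⁆ * ⁅r₁⁻¹ * a, r₂⁻¹ * b⁆⁻¹ ∈ R := by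
      rw [← QuotientGroup.eq_one_iff, QuotientGroup.mk_mul, QuotientGroup.mk_inv]
      have : ((⁅a, b⁆ : G) : G ⧸ R) = ((⁅r₁⁻¹ * a, r₂⁻¹ * b⁆ : G) : G ⧸ R) := h3
      rw [this, mul_inv_cancel]
    have h5 : ⁅r₁⁻¹ * a, r₂⁻¹ * b⁆ ∈ P := hNcomm _ hm₁ _ hm₂
    have : ⁅a, b⁆ = (⁅a, b⁆ * ⁅r₁⁻¹ * a, r₂⁻¹ * b⁆⁻¹) * ⁅r₁⁻¹ * a, r₂⁻¹ * b⁆ := by group
    rw [this]
    exact (R ⊔ P).mul_mem (Subgroup.mem_sup_left h4) (Subgroup.mem_sup_right h5)
  have htop : R ⊔ P = ⊤ := by
    rw [eq_top_iff, ← B.perf, commutator_eq_closure, Subgroup.closure_le]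
    rintro _ ⟨a, b, rfl⟩
    exact hall a b
  obtain ⟨h, hhN, hhP⟩ := exists_N_not_P B
  have hmem : h ∈ ((R ⊔ P : Subgroup G) : Set G) := by rw [htop]; exact Subgroup.mem_top h
  rw [Subgroup.normal_mul] at hmem
  obtain ⟨r, hr, y, hy, hry⟩ := Set.mem_mul.mp hmem
  have hrN : r ∈ NP P := by
    have : r = h * y⁻¹ := by rw [← hry]; group
    rw [this]
    exact (NP P).mul_mem hhN ((NP P).inv_mem (hPN hy))
  have hr1 := hRN r hr hrN
  rw [hr1, one_mul] at hry
  exact hhP (hry ▸ hy)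

end Cfsg.Agent.Helper26.S0996ZA

namespace Cfsg.Agent.S0996P

open Cfsg Cfsg.Agent.Helper24 Cfsg.Agent.Helper1.W2p

universe u

variable {G : Type u} [Group G]

section L7
variable [Finite G] {p : ℕ} [Fact p.Prime] {P : Subgroup G} {n : ℕ}

/-- ZA -/
theorem zassenhaus_of_n_one (B : Basic p P 1) :
    Cfsg.IsZassenhausGroup G (G ⧸ NP P) ∧
      ∀ y z : G ⧸ NP P, y ≠ ((1 : G) : G ⧸ NP P) → z ≠ ((1 : G) : G ⧸ NP P) →
        ∃! u : ↥P, (u : G) • y = z := by
  refine ⟨⟨Cfsg.Agent.Helper26.S0996ZA.faithful B, Cfsg.Agent.Helper26.S0996ZA.two_transitive B,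
    Cfsg.Agent.Helper26.S0996ZA.three_fix B, Cfsg.Agent.Helper26.S0996ZA.exists_two_fix B,
    fun R hR htr => Cfsg.Agent.Helper26.S0996ZA.no_regular_normal B R hR htr⟩,
    fun y z hy hz => Cfsg.Agent.Helper26.S0996ZA.regular B y z hy hz⟩

end L7

end Cfsg.Agent.S0996P
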