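import Mathlib
import Cfsg.Prelude.Def_Characters
import Cfsg.Prelude.Def_Blocks
import Cfsg.Agent.Helper24.Abelian
import Cfsg.Agent.Helper24.Linear
import Cfsg.Agent.Helper24.Eigen
import Cfsg.Agent.Helper1.W2pDefs
import Cfsg.Agent.Lead.S4705Defs

set_option autoImplicit false
set_option linter.unusedSectionVars false

/-!
# S4705 piece TRB: the trace bound `|χ(t)| ≤ ⟨χ|_Q, 1⟩`
-/

namespace Cfsg.Agent.Helper26.S4705TRB

open Cfsg Cfsg.Agent.Helper24 Module

universe v

variable {W : Type v} [AddCommGroup W] [Module ℂ W] [FiniteDimensional ℂ W]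

/-- the trace of an endomorphism of finite order has norm at most the dimension -/
theorem norm_trace_le_of_pow_eq_one (g : Module.End ℂ W) {m : ℕ} (hm : 0 < m) (hg : g ^ m = 1) :
    ‖LinearMap.trace ℂ W g‖ ≤ (Module.finrank ℂ W : ℝ) := by
  have hsup := iSup_eigenspace_eq_top_of_pow_eq_one g hm hg
  have h1 : LinearMap.trace ℂ W g =
      ∑ μ ∈ eigenFinset g, μ * (Module.finrank ℂ (Module.End.eigenspace g μ) : ℂ) :=
    trace_eq_sum_of_eigen g g hsup id (fun _ _ hv => Module.End.mem_eigenspace_iff.mp hv)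
  have h2 := sum_finrank_eigenspace g hsup
  have h3 : (Module.finrank ℂ W : ℝ) =
      ∑ μ ∈ eigenFinset g, (Module.finrank ℂ (Module.End.eigenspace g μ) : ℝ) := by
    have := congrArg Complex.re h2
    simpa using this
  rw [h1, h3]
  refine (norm_sum_le _ _).trans (Finset.sum_le_sum ?_)
  intro μ hμ
  rw [norm_mul, norm_eq_one_of_pow_eq_one hm
    (eigenvalue_pow_eq_one g hg (mem_eigenFinset.mp hμ)), one_mul, Complex.norm_natCast]

/-- on a line, the trace of an endomorphism of finite order has norm one -/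
theorem norm_trace_eq_one_of_pow_eq_one (g : Module.End ℂ W) {m : ℕ} (hm : 0 < m)
    (hg : g ^ m = 1) (hdim : Module.finrank ℂ W = 1) : ‖LinearMap.trace ℂ W g‖ = 1 := by
  obtain ⟨v, hv0, hv⟩ := finrank_eq_one_iff'.mp hdim
  obtain ⟨c, hc⟩ := hv (g v)
  have hgc : g = c • (1 : Module.End ℂ W) := by
    apply LinearMap.ext
    intro w
    obtain ⟨a, rfl⟩ := hv w
    rw [map_smul, ← hc, LinearMap.smul_apply, Module.End.one_apply, smul_comm]
  have hpow : c ^ m = 1 := by
    have h1 : (g ^ m) v = c ^ m • v := by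
      rw [hgc, smul_pow, one_pow, LinearMap.smul_apply, Module.End.one_apply]
    rw [hg, Module.End.one_apply] at h1
    have h2 : (c ^ m - 1) • v = 0 := by rw [sub_smul, one_smul, ← h1, sub_self]
    rcases smul_eq_zero.mp h2 with h | h
    · exact sub_eq_zero.mp h
    · exact absurd h hv0
  rw [hgc, map_smul, smul_eq_mul]
  have : LinearMap.trace ℂ W (1 : Module.End ℂ W) = (Module.finrank ℂ W : ℂ) :=
    LinearMap.trace_one ℂ W
  rw [this, hdim, Nat.cast_one, mul_one]
  exact norm_eq_one_of_pow_eq_one hm hpow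

/-- the trace of `f ∘ E` for a projection `E` commuting with `f` is the trace of `f` on the
range of `E` -/
theorem trace_comp_proj (f E : Module.End ℂ W) (hE : E * E = E) (hcomm : f * E = E * f) :
    ∃ hf : ∀ x ∈ LinearMap.range E, f x ∈ LinearMap.range E,
      LinearMap.trace ℂ W (f * E) = LinearMap.trace ℂ (LinearMap.range E) (f.restrict hf) := by
  have hf : ∀ x ∈ LinearMap.range E, f x ∈ LinearMap.range E := by
    rintro x ⟨w, rfl⟩
    refine ⟨f w, ?_⟩
    have := LinearMap.congr_fun hcomm w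
    simp only [Module.End.mul_apply] at this
    exact this.symm
  refine ⟨hf, ?_⟩
  have h1 : f * E = (LinearMap.range E).subtype ∘ₗ ((f.restrict hf) ∘ₗ E.rangeRestrict) := by
    apply LinearMap.ext
    intro w
    rfl
  rw [h1, LinearMap.trace_comp_comm']
  congr 1
  apply LinearMap.ext
  rintro ⟨x, w, rfl⟩
  apply Subtype.ext
  have := LinearMap.congr_fun hE w
  simp only [Module.End.mul_apply] at this
  show f (E (E w)) = f (E w)
  rw [this]

end Cfsg.Agent.Helper26.S4705TRB

namespace Cfsg.Agent.S4705P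

open Cfsg Cfsg.Agent.Helper24 Cfsg.Agent.Helper1.W2p
open scoped ComplexConjugate

universe u

variable {G : Type u} [Group G] [Finite G]

/-! ### TRB -/
theorem trace_bound (χ : G → ℂ) (hχ : IsCharacter G χ) (Q : Subgroup G) (t : G)
    (hnorm : ∀ y ∈ Q, t * y * t⁻¹ ∈ Q) (hconj : ∀ y ∈ Q, IsConj t (t * y)) :
    ∃ n : ℕ, ∑ᶠ y : ↥Q, χ (y : G) = (n : ℂ) * (Nat.card Q : ℂ) ∧ ‖χ t‖ ≤ (n : ℝ) ∧
      (n = 1 → ‖χ t‖ = 1) := by
  classical
  obtain ⟨d, R, rfl⟩ := hχ
  have hfQ : Fintype Q := Fintype.ofFinite _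
  have hQ0 : (Nat.card Q : ℂ) ≠ 0 := by exact_mod_cast Nat.card_pos.ne'
  -- the sum over `Q` and the projection
  obtain ⟨S, hS⟩ : ∃ S : Module.End ℂ (Fin d → ℂ), S = ∑ y : Q, R (y : G) := ⟨_, rfl⟩
  -- reindexing: `R z * S = S` for `z ∈ Q`
  have hzS : ∀ z : Q, R (z : G) * S = S := by
    intro z
    rw [hS, Finset.mul_sum]
    refine Fintype.sum_equiv (Equiv.mulLeft z) _ _ ?_
    intro y
    rw [← map_mul]
    rfl
  have hSS : S * S = (Nat.card Q : ℂ) • S := by
    have h0 : S * S = (∑ z : Q, R (z : G)) * S := by rw [← hS]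
    rw [h0, Finset.sum_mul, Finset.sum_congr rfl (fun z _ => hzS z)]
    rw [Finset.sum_const, Finset.card_univ, Nat.card_eq_fintype_card, Nat.cast_smul_eq_nsmul]
  -- conjugation by `t` permutes `Q`
  have hinj : Function.Injective (fun y : Q => (⟨t * y * t⁻¹, hnorm y y.2⟩ : Q)) := by
    intro a b hab
    have h1 : t * (a : G) * t⁻¹ = t * (b : G) * t⁻¹ := congrArg Subtype.val hab
    apply Subtype.ext
    have h2 := mul_right_cancel h1
    exact mul_left_cancel h2
  have hbij : Function.Bijective (fun y : Q => (⟨t * y * t⁻¹, hnorm y y.2⟩ : Q)) :=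
    Finite.injective_iff_bijective.mp hinj
  have htS : R t * S = S * R t := by
    rw [hS, Finset.mul_sum, Finset.sum_mul]
    refine Fintype.sum_bijective _ hbij _ _ ?_
    intro y
    rw [← map_mul, ← map_mul]
    congr 1
    show t * (y : G) = t * (y : G) * t⁻¹ * t
    group
  obtain ⟨E, hEdef⟩ : ∃ E : Module.End ℂ (Fin d → ℂ), E = (Nat.card Q : ℂ)⁻¹ • S := ⟨_, rfl⟩
  have hEE : E * E = E := by
    rw [hEdef, smul_mul_smul_comm, hSS, smul_smul, mul_assoc, inv_mul_cancel₀ hQ0, mul_one]
  have hcomm : R t * E = E * R t := by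
    rw [hEdef, mul_smul_comm, smul_mul_assoc, htS]
  obtain ⟨hf, htr⟩ := Cfsg.Agent.Helper26.S4705TRB.trace_comp_proj (R t) E hEE hcomm
  -- the restriction has finite order
  have hm : 0 < orderOf t := orderOf_pos t
  have hpow : (LinearMap.restrict (R t) hf) ^ (orderOf t) = 1 := by
    have key : ∀ k : ℕ, ∀ w : LinearMap.range E,
        (((LinearMap.restrict (R t) hf) ^ k) w : Fin d → ℂ) = (R t ^ k) (w : Fin d → ℂ) := by
      intro k
      induction k with
      | zero => intro w; simp
      | succ k ih =>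
        intro w
        rw [pow_succ, pow_succ, Module.End.mul_apply, Module.End.mul_apply, ih]
        rfl
    apply LinearMap.ext
    intro w
    apply Subtype.ext
    rw [key, ← map_pow, pow_orderOf_eq_one, map_one]
    rfl
  -- the trace of `E`
  have hproj : LinearMap.IsProj (LinearMap.range E) E := by
    refine ⟨fun v => ⟨v, rfl⟩, ?_⟩
    rintro x ⟨w, rfl⟩
    have := LinearMap.congr_fun hEE w
    simpa only [Module.End.mul_apply] using this
  have htrE : LinearMap.trace ℂ (Fin d → ℂ) E = (Module.finrank ℂ (LinearMap.range E) : ℂ) :=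
    hproj.trace
  have htrE' : LinearMap.trace ℂ (Fin d → ℂ) E =
      (Nat.card Q : ℂ)⁻¹ * ∑ y : Q, R.character (y : G) := by
    rw [hEdef, map_smul, smul_eq_mul, hS, map_sum]
    rfl
  -- the trace of `R t * E`
  have hval : ∀ y : Q, R.character (t * (y : G)) = R.character t := by
    intro y
    obtain ⟨c, hc⟩ := isConj_iff.mp (hconj y y.2)
    rw [← hc, Representation.char_conj]
  have htrtE : LinearMap.trace ℂ (Fin d → ℂ) (R t * E) = R.character t := by
    rw [hEdef, mul_smul_comm, map_smul, smul_eq_mul, hS, Finset.mul_sum, map_sum]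
    have : ∀ y : Q, LinearMap.trace ℂ (Fin d → ℂ) (R t * R (y : G)) = R.character t := by
      intro y
      rw [← map_mul]
      exact hval y
    simp_rw [this]
    rw [Finset.sum_const, Finset.card_univ, ← Nat.card_eq_fintype_card, nsmul_eq_mul,
      ← mul_assoc, inv_mul_cancel₀ hQ0, one_mul]
  refine ⟨Module.finrank ℂ (LinearMap.range E), ?_, ?_, ?_⟩
  · rw [finsum_eq_sum_of_fintype]
    have h1 := htrE.symm.trans htrE'
    rw [h1]
    field_simp
  · rw [← htrtE, htr]
    exact Cfsg.Agent.Helper26.S4705TRB.norm_trace_le_of_pow_eq_one _ hm hpow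
  · intro hdim
    rw [← htrtE, htr]
    exact Cfsg.Agent.Helper26.S4705TRB.norm_trace_eq_one_of_pow_eq_one _ hm hpow hdim

end Cfsg.Agent.S4705P
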