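import Mathlib

/-!
# S4504, piece ACTa: the kernel of the conjugation action on the Sylow `p`-subgroups is the centre
-/

set_option autoImplicit false
set_option linter.unusedSectionVars false

namespace Cfsg.Agent.S4504P

universe u

variable {G : Type u} [Group G] [Finite G]

namespace ACTa

/-- conjugates of a Sylow subgroup inside a normal subgroup stay inside -/
theorem smul_le_of_normal {p : ℕ} (L : Subgroup G) [L.Normal] (Q : Sylow p G)
    (hQ : (Q : Subgroup G) ≤ L) (g : G) : ((g • Q : Sylow p G) : Subgroup G) ≤ L := by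
  intro x hx
  rw [Sylow.coe_subgroup_smul, Subgroup.mem_smul_pointwise_iff_exists] at hx
  obtain ⟨s, hs, rfl⟩ := hx
  rw [MulAut.smul_def, MulAut.conj_apply]
  exact ‹L.Normal›.conj_mem s (hQ hs) g

end ACTa

/-- **ACTa**: the kernel of the conjugation action on the Sylow `p`-subgroups is the centre. -/
theorem ker_toPermHom_sylow (p : ℕ) [Fact p.Prime] (P : Sylow p G) (hP : Nat.card P = p)
    (hnn : ¬ (P : Subgroup G).Normal)
    (hK : ∀ K : Subgroup G, K.Normal → ¬ p ∣ Nat.card K → K ≤ Subgroup.center G) :
    (MulAction.toPermHom G (Sylow p G)).ker = Subgroup.center G := by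
  have hp := (Fact.out : p.Prime)
  apply le_antisymm
  · apply hK _ (MonoidHom.normal_ker _)
    intro hdvd
    apply hnn
    obtain ⟨L, hL⟩ : ∃ L : Subgroup G, L = (MulAction.toPermHom G (Sylow p G)).ker := ⟨_, rfl⟩
    rw [← hL] at hdvd
    have hLn : L.Normal := by rw [hL]; exact MonoidHom.normal_ker _
    -- `L` normalizes every Sylow subgroup
    have hLN : ∀ Q : Sylow p G, L ≤ Subgroup.normalizer ((Q : Subgroup G) : Set G) := by
      intro Q l hl
      rw [hL, MonoidHom.mem_ker] at hl
      have := congrArg (fun σ : Equiv.Perm (Sylow p G) => σ Q) hl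
      simp only [MulAction.toPermHom_apply, MulAction.toPerm_apply, Equiv.Perm.coe_one, id_eq]
        at this
      exact Sylow.smul_eq_iff_mem_normalizer.mp this
    -- an element of order `p` in `L`
    obtain ⟨x, hx⟩ := exists_prime_orderOf_dvd_card' (G := L) p hdvd
    have hy : orderOf (x : G) = p := by rw [Subgroup.orderOf_coe]; exact hx
    have hzp : IsPGroup p (Subgroup.zpowers (x : G)) :=
      IsPGroup.of_card (n := 1) (by rw [Nat.card_zpowers, hy, pow_one])
    obtain ⟨Q, hQ⟩ := hzp.exists_le_sylow
    have hcardQ : Nat.card (Q : Subgroup G) = p := by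
      rw [Sylow.card_eq_multiplicity, ← Sylow.card_eq_multiplicity P, hP]
    have hQeq : Subgroup.zpowers (x : G) = (Q : Subgroup G) :=
      Subgroup.eq_of_le_of_card_ge hQ (by rw [hcardQ, Nat.card_zpowers, hy])
    have hQL : (Q : Subgroup G) ≤ L := by
      rw [← hQeq, Subgroup.zpowers_le]
      exact x.2
    -- every Sylow subgroup lies in `L`
    have hall : ∀ Q' : Sylow p G, (Q' : Subgroup G) ≤ L := by
      intro Q'
      obtain ⟨g, rfl⟩ := MulAction.exists_smul_eq G Q Q'
      exact ACTa.smul_le_of_normal L Q hQL g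
    -- hence every Sylow subgroup equals `P`
    have heq : ∀ Q' : Sylow p G, Q' = P := by
      intro Q'
      have hle : (Q' : Subgroup G) ≤ Subgroup.normalizer ((P : Subgroup G) : Set G) :=
        (hall Q').trans (hLN P)
      have hsup := Q'.isPGroup'.to_sup_of_normal_right' P.isPGroup' hle
      have h1 := P.is_maximal' hsup le_sup_right
      have h2 : (Q' : Subgroup G) ≤ P := by rw [← h1]; exact le_sup_left
      exact Sylow.ext (Q'.is_maximal' P.isPGroup' h2).symm
    rw [← Subgroup.normalizer_eq_top_iff, eq_top_iff]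
    intro g _
    exact Sylow.smul_eq_iff_mem_normalizer.mp (heq (g • P))
  · intro z hz
    rw [MonoidHom.mem_ker]
    ext Q : 1
    rw [MulAction.toPermHom_apply, MulAction.toPerm_apply, Equiv.Perm.coe_one, id_eq]
    exact Sylow.smul_eq_iff_mem_normalizer.mpr (Subgroup.center_le_normalizer _ hz)

end Cfsg.Agent.S4504P
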