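import Mathlib
import Cfsg.Agent.Helper1.S4503Defs

/-!
# S4504, piece ACTb: `|G| = |G : N| · p · f · |Z(G)|`
-/

set_option autoImplicit false
set_option linter.unusedSectionVars false

namespace Cfsg.Agent.S4504P

open Cfsg Cfsg.Agent.S4503P

universe u

variable {G : Type u} [Group G] [Finite G]

namespace ACTb

/-- `|M ⊔ Z| = |M| · |Z|` for `Z` normal and `M ⊓ Z = ⊥` -/
theorem card_sup_of_disjoint (M Z : Subgroup G) [Z.Normal] (hMZ : M ⊓ Z = ⊥) :
    Nat.card ↥(M ⊔ Z) = Nat.card M * Nat.card Z := by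
  rw [← Nat.card_prod]
  symm
  apply Nat.card_congr
  refine Equiv.ofBijective (fun q : M × Z => ⟨(q.1 : G) * (q.2 : G),
    Subgroup.mul_mem _ ((le_sup_left : M ≤ M ⊔ Z) q.1.2) ((le_sup_right : Z ≤ M ⊔ Z) q.2.2)⟩)
    ⟨?_, ?_⟩
  · rintro ⟨⟨m, hm⟩, ⟨y, hy⟩⟩ ⟨⟨m', hm'⟩, ⟨y', hy'⟩⟩ h
    have h' : m * y = m' * y' := congrArg Subtype.val h
    have h1 : y * y'⁻¹ = m⁻¹ * m' := by
      calc y * y'⁻¹ = m⁻¹ * (m * y) * y'⁻¹ := by group
        _ = m⁻¹ * (m' * y') * y'⁻¹ := by rw [h']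
        _ = m⁻¹ * m' := by group
    have h2 : y * y'⁻¹ = 1 := by
      have hmem : y * y'⁻¹ ∈ M ⊓ Z :=
        Subgroup.mem_inf.mpr ⟨by rw [h1]; exact M.mul_mem (M.inv_mem hm) hm',
          Z.mul_mem hy (Z.inv_mem hy')⟩
      rw [hMZ, Subgroup.mem_bot] at hmem
      exact hmem
    have hy_eq : y = y' := by
      calc y = (y * y'⁻¹) * y' := by group
        _ = y' := by rw [h2, one_mul]
    have hm_eq : m = m' := by
      subst hy_eq
      exact mul_right_cancel h'
    subst hy_eq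
    subst hm_eq
    rfl
  · rintro ⟨x, hx⟩
    have hx' : x ∈ ((M ⊔ Z : Subgroup G) : Set G) := hx
    rw [Subgroup.mul_normal, Set.mem_mul] at hx'
    obtain ⟨m, hm, z, hz, rfl⟩ := hx'
    exact ⟨(⟨m, hm⟩, ⟨z, hz⟩), rfl⟩

/-- a non-normal subgroup of prime order meets the centre trivially -/
theorem inf_center_eq_bot (p : ℕ) [Fact p.Prime] (P : Subgroup G) (hP : Nat.card P = p)
    (hnn : ¬ P.Normal) : P ⊓ Subgroup.center G = ⊥ := by
  rw [eq_bot_iff]
  intro x hx
  rw [Subgroup.mem_bot]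
  by_contra hx1
  obtain ⟨hxP, hxZ⟩ := Subgroup.mem_inf.mp hx
  apply hnn
  have hgen : Subgroup.zpowers (⟨x, hxP⟩ : P) = ⊤ :=
    zpowers_eq_top_of_prime_card hP (fun h => hx1 (congrArg Subtype.val h))
  have hle : P ≤ Subgroup.center G := by
    intro y hy
    have hy' : (⟨y, hy⟩ : P) ∈ Subgroup.zpowers (⟨x, hxP⟩ : P) := by
      rw [hgen]; exact Subgroup.mem_top _
    obtain ⟨k, hk⟩ := Subgroup.mem_zpowers_iff.mp hy'
    have : y = x ^ k := by
      have := congrArg (fun w : P => (w : G)) hk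
      simpa using this.symm
    rw [this]
    exact Subgroup.zpow_mem _ hxZ k
  constructor
  intro n hn g
  have := Subgroup.mem_center_iff.mp (hle hn) g
  rw [this, mul_inv_cancel_right]
  exact hn

end ACTb

/-- **ACTb**: `|G| = |G : N| · p · f · |Z(G)|`. -/
theorem card_eq_index_mul (p : ℕ) [Fact p.Prime] (P : Sylow p G) (hP : Nat.card P = p)
    (hnn : ¬ (P : Subgroup G).Normal)
    (hC : Subgroup.centralizer ((P : Subgroup G) : Set G) =
      (P : Subgroup G) ⊔ Subgroup.center G) :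
    Nat.card G = (Subgroup.normalizer ((P : Subgroup G) : Set G)).index * p *
      fN (P : Subgroup G) * Nat.card (Subgroup.center G) := by
  have h1 := Subgroup.index_mul_card (Subgroup.normalizer ((P : Subgroup G) : Set G))
  have hCN : Subgroup.centralizer ((P : Subgroup G) : Set G) ≤
      Subgroup.normalizer ((P : Subgroup G) : Set G) := Subgroup.centralizer_le_normalizer _
  have h2 : fN (P : Subgroup G) * Nat.card (Subgroup.centralizer ((P : Subgroup G) : Set G)) =
      Nat.card (Subgroup.normalizer ((P : Subgroup G) : Set G)) := by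
    unfold fN Subgroup.relIndex
    rw [← Nat.card_congr (Subgroup.subgroupOfEquivOfLe hCN).toEquiv]
    exact Subgroup.index_mul_card _
  have h3 : Nat.card (Subgroup.centralizer ((P : Subgroup G) : Set G)) =
      p * Nat.card (Subgroup.center G) := by
    rw [hC, ACTb.card_sup_of_disjoint _ _ (ACTb.inf_center_eq_bot p _ hP hnn), hP]
  rw [← h1, ← h2, h3]
  ring

end Cfsg.Agent.S4504P
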