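import Mathlib

/-!
# S4504, piece VCENTb: `C_G(P) = P × Z(G)` when the `p`-regular elements of `C_G(P)` are central
-/

set_option autoImplicit false
set_option linter.unusedSectionVars false

namespace Cfsg.Agent.S4504P

universe u

variable {G : Type u} [Group G] [Finite G]

namespace VCENTb

/-- a Sylow subgroup of prime order is abelian, hence lies in its own centralizer -/
theorem le_centralizer_self (p : ℕ) [Fact p.Prime] (P : Sylow p G) (hP : Nat.card P = p) :
    (P : Subgroup G) ≤ Subgroup.centralizer ((P : Subgroup G) : Set G) := by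
  have hp := (Fact.out : p.Prime)
  have hcyc : IsCyclic (P : Subgroup G) := isCyclic_of_prime_card hP
  intro x hx
  rw [Subgroup.mem_centralizer_iff]
  intro y hy
  obtain ⟨g, hg⟩ := hcyc.exists_generator
  obtain ⟨a, ha⟩ := Subgroup.mem_zpowers_iff.mp (hg ⟨x, hx⟩)
  obtain ⟨b, hb⟩ := Subgroup.mem_zpowers_iff.mp (hg ⟨y, hy⟩)
  have hx' : x = (g : G) ^ a := by
    have := congrArg (fun w : (P : Subgroup G) => (w : G)) ha
    simpa using this.symm
  have hy' : y = (g : G) ^ b := by
    have := congrArg (fun w : (P : Subgroup G) => (w : G)) hb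
    simpa using this.symm
  rw [hx', hy', ← zpow_add, ← zpow_add, add_comm]

/-- an element of `p`-power order centralizing the Sylow subgroup `P` lies in `P` -/
theorem mem_of_pow_eq_one (p : ℕ) [Fact p.Prime] (P : Sylow p G) {y : G} {a : ℕ}
    (hy : y ^ p ^ a = 1) (hyc : y ∈ Subgroup.centralizer ((P : Subgroup G) : Set G)) :
    y ∈ (P : Subgroup G) := by
  have hpg : IsPGroup p (Subgroup.zpowers y) := by
    rintro ⟨g, hg⟩
    obtain ⟨k, rfl⟩ := Subgroup.mem_zpowers_iff.mp hg
    refine ⟨a, ?_⟩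
    apply Subtype.ext
    show (y ^ k) ^ p ^ a = 1
    rw [← zpow_natCast, ← zpow_mul, mul_comm, zpow_mul, zpow_natCast, hy, one_zpow]
  have hle : Subgroup.zpowers y ≤ Subgroup.normalizer ((P : Subgroup G) : Set G) := by
    rw [Subgroup.zpowers_le]
    exact Subgroup.centralizer_le_normalizer _ hyc
  have hsup := hpg.to_sup_of_normal_right' P.isPGroup' hle
  have := P.is_maximal' hsup le_sup_right
  rw [← this]
  exact (le_sup_left : Subgroup.zpowers y ≤ _) (Subgroup.mem_zpowers y)

end VCENTb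

/-- **VCENTb**: hence `C_G(P) = P × Z(G)`. -/
theorem centralizer_eq_sup_center (p : ℕ) [Fact p.Prime] (P : Sylow p G) (hP : Nat.card P = p)
    (hZ : ∀ c ∈ Subgroup.centralizer ((P : Subgroup G) : Set G), ¬ p ∣ orderOf c →
      c ∈ Subgroup.center G) :
    Subgroup.centralizer ((P : Subgroup G) : Set G) = (P : Subgroup G) ⊔ Subgroup.center G := by
  have hp := (Fact.out : p.Prime)
  apply le_antisymm
  · intro c hc
    have hn : orderOf c ≠ 0 := (orderOf_pos c).ne'
    obtain ⟨a, m, hm, hnm⟩ := Nat.exists_eq_pow_mul_and_not_dvd hn p hp.ne_one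
    -- the `p`-part
    have hy : (c ^ m) ^ p ^ a = 1 := by
      rw [← pow_mul, mul_comm, ← hnm, pow_orderOf_eq_one]
    have hyP : c ^ m ∈ (P : Subgroup G) :=
      VCENTb.mem_of_pow_eq_one p P hy (Subgroup.pow_mem _ hc m)
    -- the `p'`-part
    have hpa : p ^ a ≠ 0 := pow_ne_zero _ hp.ne_zero
    have hw : orderOf (c ^ p ^ a) = m := by
      rw [orderOf_pow' c hpa, hnm, Nat.gcd_eq_right (Dvd.intro _ rfl),
        Nat.mul_div_cancel_left _ (Nat.pos_of_ne_zero hpa)]
    have hwZ : c ^ p ^ a ∈ Subgroup.center G :=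
      hZ _ (Subgroup.pow_mem _ hc _) (by rw [hw]; exact hm)
    -- Bezout
    have hcop : Nat.Coprime (p ^ a) m :=
      Nat.Coprime.pow_left _ ((Nat.Prime.coprime_iff_not_dvd hp).mpr hm)
    have hb := Nat.gcd_eq_gcd_ab (p ^ a) m
    rw [hcop.gcd_eq_one] at hb
    have hc1 : c = (c ^ p ^ a) ^ (Nat.gcdA (p ^ a) m) * (c ^ m) ^ (Nat.gcdB (p ^ a) m) := by
      rw [← zpow_natCast c (p ^ a), ← zpow_natCast c m, ← zpow_mul, ← zpow_mul, ← zpow_add, ← hb]
      simp
    rw [hc1]
    exact Subgroup.mul_mem _ ((le_sup_right : Subgroup.center G ≤ _) (Subgroup.zpow_mem _ hwZ _))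
      ((le_sup_left : (P : Subgroup G) ≤ _) (Subgroup.zpow_mem _ hyP _))
  · exact sup_le (VCENTb.le_centralizer_self p P hP) (Subgroup.center_le_centralizer _)

end Cfsg.Agent.S4504P
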