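import Mathlib
import Cfsg.Prelude.Def_PLocal
import Cfsg.Agent.Helper26.SylowConj

set_option autoImplicit false

/-! The subgroup generated by the `Ω₁(Z(S))`, `S` Sylow. -/

namespace Cfsg.Agent.Helper26

variable {G : Type*} [Group G]

/-- conjugating a central element of order dividing `p` of `S` gives one of `g • S`. -/
theorem conj_mem_center_smul_sylow {p : ℕ} {S : Sylow p G} {x : G} (g : G)
    (hx : x ∈ (S : Subgroup G) ⊓ Subgroup.centralizer ((S : Subgroup G) : Set G)) :
    g * x * g⁻¹ ∈ ((g • S : Sylow p G) : Subgroup G) ⊓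
      Subgroup.centralizer (((g • S : Sylow p G) : Subgroup G) : Set G) := by
  refine Subgroup.mem_inf.mpr ⟨?_, ?_⟩
  · rw [mem_sylow_smul_iff]
    have : g⁻¹ * (g * x * g⁻¹) * g = x := by group
    rw [this]; exact hx.1
  · rw [Subgroup.mem_centralizer_iff]
    intro y hy
    rw [SetLike.mem_coe, mem_sylow_smul_iff] at hy
    have := Subgroup.mem_centralizer_iff.mp hx.2 _ hy
    calc y * (g * x * g⁻¹) = g * ((g⁻¹ * y * g) * x) * g⁻¹ := by group
      _ = g * (x * (g⁻¹ * y * g)) * g⁻¹ := by rw [this]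
      _ = (g * x * g⁻¹) * y := by group

/-- `W = ⟨Ω₁(Z(S)) | S Sylow⟩` is normal. -/
theorem iSup_omegaOne_center_normal (p : ℕ) (G : Type*) [Group G] :
    (⨆ S : Sylow p G, Cfsg.omegaOne p
      (((S : Subgroup G)) ⊓ Subgroup.centralizer ((S : Subgroup G) : Set G))).Normal := by
  constructor
  intro n hn g
  have hmap : (⨆ S : Sylow p G, Cfsg.omegaOne p
      (((S : Subgroup G)) ⊓ Subgroup.centralizer ((S : Subgroup G) : Set G))).map (MulAut.conj g).toMonoidHom ≤
      ⨆ S : Sylow p G, Cfsg.omegaOne p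
      (((S : Subgroup G)) ⊓ Subgroup.centralizer ((S : Subgroup G) : Set G)) := by
    rw [Subgroup.map_iSup]
    apply iSup_le
    intro S
    refine le_trans ?_ (le_iSup (fun S : Sylow p G => Cfsg.omegaOne p
      (((S : Subgroup G)) ⊓ Subgroup.centralizer ((S : Subgroup G) : Set G))) (g • S))
    unfold Cfsg.omegaOne
    rw [Subgroup.map_le_iff_le_comap, Subgroup.closure_le]
    rintro x ⟨hx1, hx2⟩
    rw [SetLike.mem_coe, Subgroup.mem_comap]
    apply Subgroup.subset_closure
    refine ⟨conj_mem_center_smul_sylow g hx1, ?_⟩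
    show (g * x * g⁻¹) ^ p = 1
    rw [conj_pow, hx2]; group
  exact hmap ⟨n, hn, rfl⟩

theorem omegaOne_center_le_iSup (p : ℕ) (S : Sylow p G) :
    Cfsg.omegaOne p (((S : Subgroup G)) ⊓ Subgroup.centralizer ((S : Subgroup G) : Set G)) ≤
    ⨆ S : Sylow p G, Cfsg.omegaOne p
      (((S : Subgroup G)) ⊓ Subgroup.centralizer ((S : Subgroup G) : Set G)) :=
  le_iSup (fun S : Sylow p G => Cfsg.omegaOne p
      (((S : Subgroup G)) ⊓ Subgroup.centralizer ((S : Subgroup G) : Set G))) S

end Cfsg.Agent.Helper26
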