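import Mathlib
import Cfsg.Agent.Helper25.FusionAlperin2
import Cfsg.Agent.Helper25.FusionSat
import Cfsg.Agent.Helper25.SylowIn
import Cfsg.Agent.Helper26.FusionInner
import Cfsg.Agent.Helper9.PResidual
import Cfsg.Agent.S5077

set_option autoImplicit false

namespace Cfsg.Agent.Helper26

open Cfsg Cfsg.FusionSystem Cfsg.Agent.Helper25

variable {Ω : Type*} [Group Ω] {S T U : Subgroup Ω}

/-- The restriction of a fusion system over `U` to a subgroup `T ≤ U`: all maps between
subgroups of `T`. -/
def restrictSystem (F : FusionSystem U) (T : Subgroup Ω) (hTU : T ≤ U) : FusionSystem T where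
  Hom P := {φ | φ ∈ F.Hom P ∧ P ≤ T ∧ ∀ x : P, φ x ∈ T}
  le_of_mem h := ⟨h.2.1, h.2.2⟩
  injective_of_mem h := F.injective_of_mem h.1
  conj_mem := by
    intro P g hP hg
    refine ⟨F.conj_mem (hP.trans hTU) (hTU hg), hP, fun x => ?_⟩
    show g * (x : Ω) * g⁻¹ ∈ T
    exact T.mul_mem (T.mul_mem hg (hP x.2)) (T.inv_mem hg)
  comp_mem := by
    intro P Q φ ψ hφ hψ h
    exact ⟨F.comp_mem hφ.1 hψ.1 h, hφ.2.1, fun x => hψ.2.2 _⟩
  inv_mem := by
    intro P φ hφ
    obtain ⟨ψ, hψ, hψx⟩ := F.inv_mem hφ.1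
    refine ⟨ψ, ⟨hψ, ?_, ?_⟩, hψx⟩
    · rintro _ ⟨x, rfl⟩
      exact hφ.2.2 x
    · rintro ⟨_, x, rfl⟩
      rw [hψx x]
      exact hφ.2.1 x.2

theorem restrictSystem_Hom (F : FusionSystem U) (T : Subgroup Ω) (hTU : T ≤ U) (P : Subgroup Ω) :
    (restrictSystem F T hTU).Hom P = {φ | φ ∈ F.Hom P ∧ P ≤ T ∧ ∀ x : P, φ x ∈ T} := rfl

/-- automizers of a subsystem are contained in those of the big system -/
theorem autGroup_le_of_isSubsystemOf {E : FusionSystem T} {F : FusionSystem S}
    (hEF : E.IsSubsystemOf F) (hTS : T ≤ S) {P : Subgroup Ω} (hPT : P ≤ T) :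
    E.autGroup P ≤ F.autGroup P := by
  intro α hα
  rw [mem_autGroup_iff E hPT] at hα
  rw [mem_autGroup_iff F (hPT.trans hTS)]
  exact hEF P hα

theorem autInducedBy_mono {K L : Subgroup Ω} (h : K ≤ L) (P : Subgroup Ω) :
    autInducedBy K P ≤ autInducedBy L P := by
  unfold autInducedBy
  apply Subgroup.closure_mono
  rintro α ⟨g, hg, hα⟩
  exact ⟨g, h hg, hα⟩

/-- A saturated subsystem over `T ≤ U` of `F` is contained in every subsystem over `U` that contains
`O^p(Aut_F(P))` for all `P ≤ U`. -/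
theorem isSubsystemOf_of_pResidual_le [Finite S] (p : ℕ) [Fact p.Prime] (hS : IsPGroup p S)
    (F : FusionSystem S) (E : FusionSystem T) (hE : E.IsSaturated p) (hEF : E.IsSubsystemOf F)
    (hTS : T ≤ S) (F₀ : FusionSystem U) (hTU : T ≤ U)
    (hres : ∀ P : Subgroup Ω, P ≤ U →
      (pResidual p (F.autGroup P)).map (F.autGroup P).subtype ≤ F₀.autGroup P) :
    E.IsSubsystemOf F₀ := by
  have hfinT : Finite T := finite_of_le hTS
  have hTp : IsPGroup p T := isPGroup_of_le hS hTS
  have key : E ≤ restrictSystem F₀ T hTU := by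
    refine alperin_le p hTp E hE _ ?_
    intro P hP
    have hFN : E.IsFullyNormalized P := by
      rcases hP with rfl | hP
      · exact top_isFullyNormalized E
      · exact hP.2.1
    have hPT : P ≤ T := hFN.1
    have hfinP : Finite P := finite_of_le (hPT.trans hTS)
    obtain ⟨-, -, R, hR⟩ := Cfsg.Agent.S5077.sylow_axiom p hTp E hE P hFN
    have hsup := Cfsg.Agent.Helper9.sylow_sup_pResidual R
    intro α hα
    have hmem : (⟨α, hα⟩ : E.autGroup P) ∈ (F₀.autGroup P).subgroupOf (E.autGroup P) := by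
      have hle : (R : Subgroup (E.autGroup P)) ⊔ pResidual p (E.autGroup P) ≤
          (F₀.autGroup P).subgroupOf (E.autGroup P) := by
        apply sup_le
        · rw [hR]
          intro β hβ
          rw [Subgroup.mem_subgroupOf] at hβ ⊢
          exact autInducedBy_le_autGroup F₀ (hPT.trans hTU) (autInducedBy_mono hTU P hβ)
        · unfold pResidual
          rw [Subgroup.closure_le]
          intro g hg
          rw [SetLike.mem_coe, Subgroup.mem_subgroupOf]
          have hgF : (g : MulAut P) ∈ F.autGroup P :=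
            autGroup_le_of_isSubsystemOf hEF hTS hPT g.2
          have hord : orderOf (⟨(g : MulAut P), hgF⟩ : F.autGroup P) = orderOf g := by
            rw [← Subgroup.orderOf_coe, ← Subgroup.orderOf_coe g]
          have hgres : (⟨(g : MulAut P), hgF⟩ : F.autGroup P) ∈ pResidual p (F.autGroup P) := by
            apply Subgroup.subset_closure
            show Nat.Coprime (orderOf (⟨(g : MulAut P), hgF⟩ : F.autGroup P)) p
            rw [hord]
            exact hg
          exact hres P (hPT.trans hTU) ⟨_, hgres, rfl⟩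
      apply hle
      rw [hsup]
      exact Subgroup.mem_top _
    rw [Subgroup.mem_subgroupOf] at hmem
    rw [mem_autGroup_iff _ hPT]
    exact ⟨(mem_autGroup_iff F₀ (hPT.trans hTU) α).mp hmem, hPT, fun x => hPT (α x).2⟩
  intro P φ hφ
  exact (key P hφ).1

end Cfsg.Agent.Helper26
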