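import Mathlib
import Cfsg.Prelude.Def_FusionSystem
import Cfsg.Agent.Helper25.FusionResidualGroup

set_option autoImplicit false

/-! Piece UNIQ of S5113 (driver helper18): two saturated subsystems over `T` of `p`-power index in
`F` are equal.  Alperin's fusion theorem in both directions. -/

namespace Cfsg.Agent.S5113P

open Cfsg Cfsg.FusionSystem Cfsg.Agent.Helper25

universe u

/-- One direction: a saturated subsystem `E` of `F` over `T` is contained in any subsystem over `T`
of `p`-power index. -/
theorem UNIQ.aux_le {Ω : Type u} [Group Ω] {S : Subgroup Ω} [Finite S] (p : ℕ) [Fact p.Prime]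
    (hS : IsPGroup p S) (F : FusionSystem S) {T : Subgroup Ω} (hTS : T ≤ S)
    (E E' : FusionSystem T) (hE : E.IsSaturated p) (hEsub : E.IsSubsystemOf F)
    (hEi' : E'.HasPPowerIndexIn F p) : E ≤ E' := by
  have hfinT : Finite T := finite_of_le hTS
  have hTp : IsPGroup p T :=
    hS.of_injective (Subgroup.inclusion hTS) (Subgroup.inclusion_injective _)
  apply alperin_le p hTp E hE E'
  intro P hP
  have hFA := isFullyAutomized_of_alperin p hTp E hE hP
  have hPT : P ≤ T := hFA.1
  apply autGroup_le_of_automized p E hFA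
  · exact autInducedBy_le_autGroup E' hPT
  · intro α hα hcop
    have hαF : α ∈ F.autGroup P := by
      rw [mem_autGroup_iff _ (hPT.trans hTS)]
      exact hEsub _ ((mem_autGroup_iff E hPT α).mp hα)
    have hres : (⟨α, hαF⟩ : F.autGroup P) ∈ pResidual p (F.autGroup P) := by
      apply Subgroup.subset_closure
      show Nat.Coprime (orderOf (⟨α, hαF⟩ : F.autGroup P)) p
      rw [Subgroup.orderOf_mk]
      exact hcop
    exact hEi'.2.2 P hPT ⟨_, hres, rfl⟩

/-- Fusion systems over the same subgroup with the same map sets are equal. -/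
theorem UNIQ.aux_ext {Ω : Type u} [Group Ω] {T : Subgroup Ω} (E E' : FusionSystem T)
    (h : ∀ P : Subgroup Ω, E.Hom P = E'.Hom P) : E = E' := by
  cases E
  cases E'
  congr
  funext P
  exact h P

/-- UNIQ: uniqueness. -/
theorem UNIQ {Ω : Type u} [Group Ω] {S : Subgroup Ω} [Finite S] (p : ℕ) [Fact p.Prime]
    (hS : IsPGroup p S) (F : FusionSystem S) (hF : F.IsSaturated p) {T : Subgroup Ω} (hTS : T ≤ S)
    (E E' : FusionSystem T) (hE : E.IsSaturated p) (hEi : E.HasPPowerIndexIn F p)
    (hE' : E'.IsSaturated p) (hEi' : E'.HasPPowerIndexIn F p) : E' = E := by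
  have h1 : E ≤ E' := UNIQ.aux_le p hS F hTS E E' hE hEi.1 hEi'
  have h2 : E' ≤ E := UNIQ.aux_le p hS F hTS E' E hE' hEi'.1 hEi
  exact UNIQ.aux_ext E' E fun P => Set.Subset.antisymm (h2 P) (h1 P)

end Cfsg.Agent.S5113P

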