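import Mathlib
import Cfsg.Agent.Helper26.FusionAbelian

set_option autoImplicit false

/-! The inner fusion system is saturated; inner subsystems of fusion systems over abelian groups. -/

namespace Cfsg.Agent.Helper26

open Cfsg Cfsg.FusionSystem Cfsg.Agent.Helper25

variable {Ω : Type*} [Group Ω] {S : Subgroup Ω}

/-- The inner fusion system of a finite `p`-group is saturated. -/
theorem inner_isSaturated [Finite S] (p : ℕ) [Fact p.Prime] (hS : IsPGroup p S) :
    (innerFusionSystem S).IsSaturated p := by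
  intro P hP
  refine ⟨P, isConj_refl _ hP, ?_, ?_⟩
  · rw [isFullyAutomized_iff_card _ p hP]
    have heq : (innerFusionSystem S).autGroup P = autInducedBy S P := by
      apply le_antisymm
      · intro α hα
        rw [mem_autGroup_iff _ hP] at hα
        obtain ⟨-, g, hg, hgα⟩ := hα
        rw [mem_autInducedBy_iff]
        exact ⟨g, hg, hgα⟩
      · exact autInducedBy_le_autGroup _ hP
    rw [heq]
    have hfinP : Finite P := finite_of_le hP
    have hfinA : Finite (autInducedBy S P) := inferInstance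
    obtain ⟨k, hk⟩ := IsPGroup.iff_card.mp (autInducedBy_isPGroup hS P)
    rw [hk]; unfold pPart
    rw [Nat.Prime.factorization_pow (Fact.out : p.Prime)]
    simp
  · refine ⟨hP, ?_⟩
    rintro P' φ ⟨hP', g, hg, hgφ⟩ hr
    have hle : extender S P' φ ≤ S := (extender_le_normalizerIn P' φ).trans inf_le_left
    refine ⟨conjHom _ g, (innerFusionSystem S).conj_mem hle hg, ?_⟩
    intro x hxP hxN
    rw [hgφ]
    simp [conjHom, MulAut.conj_apply]

/-- In an abelian `T`, a map of the inner system is an inclusion. -/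
theorem inner_apply_of_abelian {T : Subgroup Ω} (hab : ∀ x ∈ T, ∀ y ∈ T, x * y = y * x)
    {P : Subgroup Ω} {φ : P →* Ω} (hφ : φ ∈ (innerFusionSystem T).Hom P) (x : P) : φ x = x := by
  obtain ⟨hP, g, hg, hgφ⟩ := hφ
  rw [hgφ, hab g hg x (hP x.2)]
  simp

/-- Over an abelian `S`: if `T ≤ S` is strongly closed and every `F`-map from a subgroup of `T` extends to an
element of `Aut_F(T)`, then the inner (trivial) system on `T` is a normal subsystem of `F`. -/
theorem inner_isNormalIn_of_abelian [Finite S] (p : ℕ) [Fact p.Prime] (hS : IsPGroup p S)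
    (F : FusionSystem S) (hF : F.IsSaturated p) (hab : ∀ x ∈ S, ∀ y ∈ S, x * y = y * x)
    (T : Subgroup Ω) (hTS : T ≤ S) (hsc : F.StronglyClosed T)
    (hext : ∀ (P : Subgroup Ω) (hPT : P ≤ T) (φ : P →* Ω), φ ∈ F.Hom P →
      ∃ α ∈ F.autGroup T, ∀ x : P, φ x = ((α ⟨x, hPT x.2⟩ : T) : Ω)) :
    (innerFusionSystem T).IsNormalIn F p := by
  have hfinT : Finite T := finite_of_le hTS
  have habT : ∀ x ∈ T, ∀ y ∈ T, x * y = y * x := fun x hx y hy => hab x (hTS hx) y (hTS hy)
  have hsub : (innerFusionSystem T).IsSubsystemOf F := by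
    rintro P φ ⟨hP, g, hg, hgφ⟩
    have := F.conj_mem (hP.trans hTS) (hTS hg)
    have e : φ = conjHom P g := by
      ext x; rw [hgφ x]; simp [conjHom, MulAut.conj_apply]
    rw [e]; exact this
  refine ⟨⟨inner_isSaturated p (hS.to_le hTS), hF, hsub, hsc, ?_, ?_⟩, ?_⟩
  · -- invariance
    intro P hPT φ hφ α hα
    have hle : (P.subgroupOf T).map (T.subtype.comp α.toMonoidHom) ≤ T := by
      rintro _ ⟨y, -, rfl⟩
      exact (α y).2
    refine ⟨Subgroup.subtype _, subtype_mem _ hle, ?_⟩
    intro x hφx hαx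
    have hx : φ x = x := inner_apply_of_abelian habT hφ x
    show ((α ⟨x, hPT x.2⟩ : T) : Ω) = ((α ⟨φ x, hφx⟩ : T) : Ω)
    congr 2
    exact Subtype.ext hx.symm
  · -- Frattini
    intro P hPT φ hφ
    obtain ⟨α, hα, hαφ⟩ := hext P hPT φ hφ
    refine ⟨α, hα, P.subtype, subtype_mem _ hPT, ?_⟩
    intro x hx
    exact hαφ x
  · -- extension condition
    intro α hα
    refine ⟨1, Subgroup.one_mem _, ?_, ?_⟩
    · intro x
      rw [mem_autGroup_iff _ le_rfl] at hα
      have := inner_apply_of_abelian habT hα x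
      simp only [MulAut.one_apply, Subgroup.coe_inclusion]
      exact this.symm
    · intro c _
      simp only [MulAut.one_apply, inv_mul_cancel]
      exact Subgroup.one_mem _

end Cfsg.Agent.Helper26
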