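import Mathlib
import Cfsg.Agent.Helper26.TT1

set_option autoImplicit false

/-!
# Tate transfer, part 2 (Mathlib only)

A set `X` with commuting actions `l`, `r` of a group `S` and a grading `d : X → S ⧸ Qs`
(`Qs` normal in `S`) with `d (l u x) = u * d x`, `d (r s x) = d x * s⁻¹`.  On the fibre
`Yt d = {x // d x = 1}` the subgroup `Qs` acts through `l` and through `r`, and `S` acts by
"conjugation" `l s * r s`.
-/

namespace Cfsg.Agent.Helper26.TT

variable {S : Type*} [Group S] (Qs : Subgroup S) [Qs.Normal] {X : Type*}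

/-- Commuting actions with an equivariant grading. -/
structure Grading (l r : S →* Equiv.Perm X) (d : X → S ⧸ Qs) : Prop where
  comm : ∀ u s, l u * r s = r s * l u
  dl : ∀ u x, d (l u x) = (u : S ⧸ Qs) * d x
  dr : ∀ s x, d (r s x) = d x * ((s : S ⧸ Qs))⁻¹

/-- The fibre over `1`. -/
abbrev Yt (d : X → S ⧸ Qs) : Type _ := {x : X // d x = 1}

variable {Qs} {l r : S →* Equiv.Perm X} {d : X → S ⧸ Qs}

theorem Grading.r_fibre (h : Grading Qs l r d) (t : Qs) (x : X) : d (r (t : S) x) = 1 ↔ d x = 1 := by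
  rw [h.dr, (QuotientGroup.eq_one_iff (t : S)).mpr t.2, inv_one, mul_one]

theorem Grading.l_fibre (h : Grading Qs l r d) (t : Qs) (x : X) : d (l (t : S) x) = 1 ↔ d x = 1 := by
  rw [h.dl, (QuotientGroup.eq_one_iff (t : S)).mpr t.2, one_mul]

theorem Grading.k_fibre (h : Grading Qs l r d) (s : S) (x : X) :
    d ((l s * r s) x) = 1 ↔ d x = 1 := by
  rw [Equiv.Perm.mul_apply, h.dl, h.dr, ← mul_assoc]
  constructor
  · intro h1
    have h2 : d x = ((s : S ⧸ Qs))⁻¹ * ((s : S ⧸ Qs) * d x * ((s : S ⧸ Qs))⁻¹) * (s : S ⧸ Qs) := by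
      group
    rw [h2, h1]
    group
  · intro h1
    rw [h1, mul_one, mul_inv_cancel]

/-- The right action of `Qs` on the fibre. -/
def rY (h : Grading Qs l r d) : Qs →* Equiv.Perm (Yt Qs d) where
  toFun t := (r (t : S)).subtypePerm (h.r_fibre t)
  map_one' := by
    ext x
    simp
  map_mul' t t' := by
    ext x
    show r ((t * t' : Qs) : S) x.1 = r (t : S) (r (t' : S) x.1)
    rw [Subgroup.coe_mul, map_mul, Equiv.Perm.mul_apply]

/-- The left action of `Qs` on the fibre. -/
def lY (h : Grading Qs l r d) : Qs →* Equiv.Perm (Yt Qs d) where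
  toFun t := (l (t : S)).subtypePerm (h.l_fibre t)
  map_one' := by
    ext x
    simp
  map_mul' t t' := by
    ext x
    show l ((t * t' : Qs) : S) x.1 = l (t : S) (l (t' : S) x.1)
    rw [Subgroup.coe_mul, map_mul, Equiv.Perm.mul_apply]

/-- The conjugation action of `S` on the fibre. -/
def kY (h : Grading Qs l r d) : S →* Equiv.Perm (Yt Qs d) where
  toFun s := (l s * r s).subtypePerm (h.k_fibre s)
  map_one' := by
    ext x
    simp
  map_mul' s s' := by
    ext x
    have e : l (s * s') * r (s * s') = (l s * r s) * (l s' * r s') := by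
      rw [map_mul, map_mul, mul_assoc, mul_assoc, ← mul_assoc (l s') (r s) (r s'), h.comm s' s,
        mul_assoc]
    simp only [Equiv.Perm.subtypePerm_apply, Equiv.Perm.mul_apply]
    have := congrArg (fun e : Equiv.Perm X => e x.1) e
    simpa [Equiv.Perm.mul_apply] using this

theorem rY_apply (h : Grading Qs l r d) (t : Qs) (y : Yt Qs d) :
    ((rY h t y : Yt Qs d) : X) = r (t : S) y.1 := rfl

theorem lY_apply (h : Grading Qs l r d) (t : Qs) (y : Yt Qs d) :
    ((lY h t y : Yt Qs d) : X) = l (t : S) y.1 := rfl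

theorem kY_apply (h : Grading Qs l r d) (s : S) (y : Yt Qs d) :
    ((kY h s y : Yt Qs d) : X) = l s (r s y.1) := rfl

end Cfsg.Agent.Helper26.TT
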