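import Mathlib

set_option autoImplicit false

/-!
# Tate transfer, part 3 (Mathlib only): a stable homomorphism kills `x⁻¹ α(x)` for `α` of
order prime to the order of the values.
-/

namespace Cfsg.Agent.Helper26.TT

theorem hom_comm_pow_eq_one {P : Type*} [Group P] (α : MulAut P) (P1 : Subgroup P)
    (hα : ∀ z ∈ P1, α z ∈ P1) {A : Type*} [CommGroup A] (W : P1 →* A)
    (hW : ∀ z : P1, W ⟨α z, hα z z.2⟩ = W z) (x : P) (hc : x⁻¹ * α x ∈ P1) (n : ℕ)
    (hn : α ^ n = 1) : W ⟨x⁻¹ * α x, hc⟩ ^ n = 1 := by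
  -- iterates stay in `P1`
  have hiter : ∀ (m : ℕ) (z : P), z ∈ P1 → (α ^ m) z ∈ P1 := by
    intro m
    induction m with
    | zero => intro z hz; simpa using hz
    | succ m ih =>
      intro z hz
      rw [pow_succ, MulAut.mul_apply]
      exact ih _ (hα z hz)
  have hWiter : ∀ (m : ℕ) (z : P) (hz : z ∈ P1), W ⟨(α ^ m) z, hiter m z hz⟩ = W ⟨z, hz⟩ := by
    intro m
    induction m with
    | zero => intro z hz; simp
    | succ m ih =>
      intro z hz
      have e : (α ^ (m + 1)) z = (α ^ m) (α z) := by rw [pow_succ, MulAut.mul_apply]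
      have h1 : W ⟨(α ^ (m + 1)) z, hiter (m + 1) z hz⟩ = W ⟨(α ^ m) (α z), hiter m _ (hα z hz)⟩ := by
        congr 1
      rw [h1, ih _ (hα z hz)]
      exact hW ⟨z, hz⟩
  set c : P := x⁻¹ * α x with hcdef
  -- the partial products
  have key : ∀ m : ℕ, ∃ q : P1, (α ^ m) x = x * (q : P) ∧ W q = W ⟨c, hc⟩ ^ m := by
    intro m
    induction m with
    | zero => exact ⟨1, by simp, by simp⟩
    | succ m ih =>
      obtain ⟨q, hq1, hq2⟩ := ih
      refine ⟨q * ⟨(α ^ m) c, hiter m c hc⟩, ?_, ?_⟩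
      · have e : (α ^ (m + 1)) x = (α ^ m) (α x) := by rw [pow_succ, MulAut.mul_apply]
        have e2 : α x = x * c := by rw [hcdef]; group
        rw [e, e2, map_mul, hq1]
        simp [mul_assoc]
      · rw [map_mul, hq2, hWiter m c hc, pow_succ]
  obtain ⟨q, hq1, hq2⟩ := key n
  rw [hn, MulAut.one_apply] at hq1
  have hq : q = 1 := by
    apply Subtype.ext
    have : x * (q : P) = x * 1 := by rw [mul_one]; exact hq1.symm
    exact mul_left_cancel this
  rw [← hq2, hq, map_one]

end Cfsg.Agent.Helper26.TT
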