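import Mathlib
import Cfsg.Agent.Helper26.TT1
import Cfsg.Agent.Helper26.TT2

set_option autoImplicit false

/-!
# Tate transfer, piece BY: fibre lemmas (Mathlib only)
-/

namespace Cfsg.Agent.Helper26.TT

variable {S : Type*} [Group S] {Qs : Subgroup S} [Qs.Normal] {X : Type*}
  {l r : S →* Equiv.Perm X} {d : X → S ⧸ Qs} {A : Type*} [CommGroup A]

theorem kY_twist (h : Grading Qs l r d) (s : S) (t : Qs) (y : Yt Qs d) :
    kY h s (rY h t y) = rY h ⟨s * t * s⁻¹, ‹Qs.Normal›.conj_mem t t.2 s⟩ (kY h s y) := by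
  apply Subtype.ext
  rw [kY_apply, rY_apply, rY_apply, kY_apply]
  show l s (r s (r (t : S) y.1)) = r (s * (t : S) * s⁻¹) (l s (r s y.1))
  have h1 : r (s * (t : S) * s⁻¹) (l s (r s y.1)) = l s (r (s * (t : S) * s⁻¹) (r s y.1)) := by
    have := congrArg (fun e : Equiv.Perm X => e (r s y.1)) (h.comm s (s * (t : S) * s⁻¹))
    simp only [Equiv.Perm.mul_apply] at this
    exact this.symm
  rw [h1, ← Equiv.Perm.mul_apply (r (s * (t : S) * s⁻¹)), ← map_mul, ← Equiv.Perm.mul_apply (r s),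
    ← map_mul]
  congr 3
  group

theorem kY_mem_Gp (h : Grading Qs l r d) (π : Qs →* A)
    (hπ : ∀ (s : S) (t : Qs), π ⟨s * t * s⁻¹, ‹Qs.Normal›.conj_mem t t.2 s⟩ = π t) (s : S) :
    kY h s ∈ Gp (rY h) π := by
  refine mem_Gp_of_twist (rY h) π
    (fun t => ⟨s * t * s⁻¹, ‹Qs.Normal›.conj_mem t t.2 s⟩)
    (fun t => ⟨s⁻¹ * t * s⁻¹⁻¹, ‹Qs.Normal›.conj_mem t t.2 s⁻¹⟩) ?_ ?_ ?_ ?_
  · intro t; exact hπ s t
  · intro t; exact hπ s⁻¹ t
  · intro t y; exact kY_twist h s t y
  · intro t y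
    rw [← map_inv]
    exact kY_twist h s⁻¹ t y

theorem lY_mem_Gp (h : Grading Qs l r d) (π : Qs →* A) (t : Qs) : lY h t ∈ Gp (rY h) π := by
  apply mem_Gp_of_comm
  intro t'
  ext y
  rw [Equiv.Perm.mul_apply, Equiv.Perm.mul_apply, rY_apply, lY_apply, lY_apply, rY_apply]
  have := congrArg (fun e : Equiv.Perm X => e y.1) (h.comm (t : S) (t' : S))
  simp only [Equiv.Perm.mul_apply] at this
  exact this.symm

theorem kY_coe (h : Grading Qs l r d) (t : Qs) : kY h (t : S) = lY h t * rY h t := by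
  ext y
  rfl

theorem rY_free (h : Grading Qs l r d) (hfree : ∀ s x, r s x = x → s = 1) :
    ∀ (t : Qs) (y : Yt Qs d), rY h t y = y → t = 1 := by
  intro t y hy
  have h1 : r (t : S) y.1 = y.1 := by
    rw [← rY_apply h, hy]
  exact Subtype.ext (hfree _ _ h1)

theorem shift_mem (h : Grading Qs l r d) (x : X) : d (l ((d x).out)⁻¹ x) = 1 := by
  rw [h.dl, QuotientGroup.mk_inv, QuotientGroup.out_eq', inv_mul_cancel]

theorem card_fibre [Finite X] [Finite S] (h : Grading Qs l r d) :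
    Nat.card X = Nat.card (S ⧸ Qs) * Nat.card (Yt Qs d) := by
  rw [← Nat.card_prod]
  apply Nat.card_congr
  exact
    { toFun := fun x => (d x, ⟨l ((d x).out)⁻¹ x, shift_mem h x⟩)
      invFun := fun cy => l cy.1.out cy.2.1
      left_inv := by
        intro x
        show l (d x).out (l ((d x).out)⁻¹ x) = x
        rw [← Equiv.Perm.mul_apply, ← map_mul, mul_inv_cancel, map_one]
        rfl
      right_inv := by
        rintro ⟨c, y⟩
        have h1 : d (l c.out y.1) = c := by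
          rw [h.dl, y.2, mul_one, QuotientGroup.out_eq']
        apply Prod.ext
        · exact h1
        · apply Subtype.ext
          show l ((d (l c.out y.1)).out)⁻¹ (l c.out y.1) = y.1
          rw [h1, ← Equiv.Perm.mul_apply, ← map_mul, inv_mul_cancel, map_one]
          rfl }

theorem nonempty_fibre [Nonempty X] (h : Grading Qs l r d) : Nonempty (Yt Qs d) := by
  obtain ⟨x⟩ := ‹Nonempty X›
  exact ⟨⟨l ((d x).out)⁻¹ x, shift_mem h x⟩⟩

end Cfsg.Agent.Helper26.TT
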