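import Mathlib
import Cfsg.Prelude.Def_FusionSystem
import Cfsg.Agent.Helper26.TT1
import Cfsg.Agent.Helper26.TT2
import Cfsg.Agent.Helper26.CB7
import Cfsg.Agent.Helper26.InnerBasic
import Cfsg.Agent.Helper1.TTAT
import Cfsg.Agent.Helper25.TTIM
import Cfsg.Agent.Helper8.TTTH
import Cfsg.Agent.Helper20.TTNIL
import Cfsg.Agent.Helper10.TTFOC
import Cfsg.Agent.Helper18.TTGRAD

set_option autoImplicit false

/-! Wrappers for the pieces of the Tate-transfer project proved by other seats. -/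

namespace Cfsg.Agent.Helper26.TTP

open Cfsg Cfsg.FusionSystem Cfsg.Agent.Helper25 Cfsg.Agent.Helper25.Park Cfsg.Agent.Helper26.TT
open Cfsg.Agent.Helper26.CB

universe u

/-! ### piece AT -/
section AT
variable {Y : Type*} {Q : Type*} [Group Q] {A : Type*} [CommGroup A]

theorem mem_Gp_of_resp [Finite Q] (ρ : Q →* Equiv.Perm Y) (π : Q →* A)
    (hfree : ∀ t y, ρ t y = y → t = 1) {g : Equiv.Perm Y} (h : Resp ρ π g) : g ∈ Gp ρ π :=
  Cfsg.Agent.Helper1.TT.mem_Gp_of_resp ρ π hfree h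

theorem exists_transfer [Finite Y] [Nonempty Y] [Finite Q] (ρ : Q →* Equiv.Perm Y) (π : Q →* A)
    (hfree : ∀ t y, ρ t y = y → t = 1) :
    ∃ (T : ↥(Gp ρ π) →* A) (k : ℕ), Nat.card Y = Nat.card Q * k ∧
      ∀ t : Q, T ⟨ρ t, rho_mem_Gp ρ π t⟩ = π t ^ k :=
  Cfsg.Agent.Helper1.TT.exists_transfer ρ π hfree
end AT

/-! ### piece TH -/
theorem exists_twisted {S : Type*} [Group S] [Finite S] {Qs : Subgroup S} [Qs.Normal] {X : Type*}
    [Finite X] {l r : S →* Equiv.Perm X} {d : X → S ⧸ Qs} (h : Grading Qs l r d)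
    (hfree : ∀ s x, r s x = x → s = 1) {A : Type*} [CommGroup A] (π : Qs →* A)
    (hπ : ∀ (s : S) (t : Qs), π ⟨s * t * s⁻¹, ‹Qs.Normal›.conj_mem t t.2 s⟩ = π t)
    (θ : Equiv.Perm X) (hθ : ∀ s, r s * θ = θ * r s)
    (P : Subgroup S) (hP : P ≤ Qs) (φ : P →* S) (hφ : ∀ y : P, φ y ∈ Qs)
    (hθφ : ∀ y : P, θ * l (y : S) = l (φ y) * θ) :
    ∃ θ' : Equiv.Perm (Yt Qs d), θ' ∈ Gp (rY h) π ∧
      ∀ y : P, θ' * lY h ⟨(y : S), hP y.2⟩ = lY h ⟨φ y, hφ y⟩ * θ' :=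
  Cfsg.Agent.Helper8.TT.exists_twisted h hfree π hπ θ hθ P hP φ hφ hθφ

variable {Ω : Type u} [Group Ω] {S : Subgroup Ω}

/-! ### piece IM -/
theorem exists_conj_mod_hyp [Finite S] (p : ℕ) [Fact p.Prime] (hS : IsPGroup p S)
    (F : FusionSystem S) (hF : F.IsSaturated p) {R : Subgroup Ω} {ψ : R →* Ω} (hψ : ψ ∈ F.Hom R) :
    ∃ c ∈ S, ∀ x : R, (ψ x)⁻¹ * (c * (x : Ω) * c⁻¹) ∈ F.hyperfocalSubgroup p :=
  Cfsg.Agent.Helper25.TT.exists_conj_mod_hyp p hS F hF hψ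

/-! ### piece GRAD -/
theorem exists_grading [Finite S] (p : ℕ) [Fact p.Prime] (hS : IsPGroup p S)
    (F : FusionSystem S) (hF : F.IsSaturated p) {X : Type u} (a : ↥(S.prod S) →* Equiv.Perm X)
    (hTD : ∀ x, TD F (stab a x)) (Qs : Subgroup ↥S) [Qs.Normal]
    (hQs : Qs = (F.hyperfocalSubgroup p).subgroupOf S) :
    ∃ d : X → ↥S ⧸ Qs, Grading Qs (lAct a) (rAct a) d :=
  Cfsg.Agent.Helper18.TT.exists_grading p hS F hF a hTD Qs hQs

/-! ### piece NIL -/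
theorem exists_normal_lt {G : Type*} [Group G] [Finite G] {p : ℕ} [Fact p.Prime] (hG : IsPGroup p G)
    (Q M : Subgroup G) (hQ : Q.Normal) (hM : M.Normal) (hlt : M < Q) :
    ∃ B : Subgroup G, B.Normal ∧ M ≤ B ∧ B < Q ∧ (∀ t ∈ Q, ∀ s : G, s * t * s⁻¹ * t⁻¹ ∈ B) ∧
      (∀ t ∈ Q, t ^ p ∈ B) :=
  Cfsg.Agent.Helper20.TT.exists_normal_lt hG Q M hQ hM hlt

/-! ### piece FOC -/
open Cfsg.Agent.Helper26.MasterRed in
theorem focal_le_frattini [Finite S] (p : ℕ) [Fact p.Prime] (hS : IsPGroup p S)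
    (F : FusionSystem S) (hF : F.IsSaturated p) (hN : NInner F S)
    (hsc : F.StronglyClosed ((frattini ↥S).map S.subtype)) :
    F.focalSubgroup ≤ (frattini ↥S).map S.subtype :=
  Cfsg.Agent.Helper10.TT.focal_le_frattini p hS F hF hN hsc

end Cfsg.Agent.Helper26.TTP
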