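import Mathlib
import Cfsg.Prelude.Def_FusionSystem
import Cfsg.Agent.Helper26.TT1
import Cfsg.Agent.Helper26.TT2
import Cfsg.Agent.Helper26.TT3
import Cfsg.Agent.Helper26.TTBY
import Cfsg.Agent.Helper26.TTPieces
import Cfsg.Agent.Helper26.CB7
import Cfsg.Agent.Helper25.FusionHyperfocal

set_option autoImplicit false

/-!
# Tate transfer, main step: every `S`-invariant homomorphism on `hyp(F)` has a `p'`-power that
extends to `S`.
-/

namespace Cfsg.Agent.Helper26.TT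

open Cfsg Cfsg.FusionSystem Cfsg.Agent.Helper25 Cfsg.Agent.Helper25.Park
open Cfsg.Agent.Helper26.CB Cfsg.Agent.Helper26.TTP

universe u

variable {Ω : Type u} [Group Ω] {S : Subgroup Ω}

/-- A homomorphism `V` on (the copy in `S` of) a strongly closed subgroup `Q` which is stable under
the maps of the system kills `x⁻¹ α(x)` for `α ∈ O^p(Aut_F(P))`. -/
theorem stable_kills_hyp [Finite S] (p : ℕ) [Fact p.Prime] (F : FusionSystem S)
    (Q : Subgroup Ω) (hQ : F.StronglyClosed Q) {A : Type*} [CommGroup A]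
    (V : ↥(Q.subgroupOf S) →* A)
    (hV : ∀ (P : Subgroup Ω) (hPQ : P ≤ Q) (φ : P →* Ω) (hφ : φ ∈ F.Hom P) (y : P),
      V ⟨⟨φ y, (F.le_of_mem hφ).2 y⟩, Subgroup.mem_subgroupOf.mpr (hQ.2 P hPQ φ hφ y)⟩ =
        V ⟨⟨(y : Ω), hQ.1 (hPQ y.2)⟩, Subgroup.mem_subgroupOf.mpr (hPQ y.2)⟩)
    (hp : ∀ t : ↥(Q.subgroupOf S), ∃ n : ℕ, t ^ (p ^ n) = 1)
    (hle : F.hyperfocalSubgroup p ≤ Q) :
    ∀ (t : ↥(Q.subgroupOf S)), ((t : ↥S) : Ω) ∈ F.hyperfocalSubgroup p → V t = 1 := by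
  classical
  have hpp : p.Prime := Fact.out
  -- the subgroup of `Ω` corresponding to the kernel
  set K : Subgroup Ω := (V.ker.map (Q.subgroupOf S).subtype).map S.subtype with hK
  have hKmem : ∀ (z : Ω) (hzS : z ∈ S) (hzQ : z ∈ Q),
      V ⟨⟨z, hzS⟩, Subgroup.mem_subgroupOf.mpr hzQ⟩ = 1 → z ∈ K := by
    intro z hzS hzQ h
    exact ⟨⟨z, hzS⟩, ⟨⟨⟨z, hzS⟩, Subgroup.mem_subgroupOf.mpr hzQ⟩, h, rfl⟩, rfl⟩
  have hKout : ∀ t : ↥(Q.subgroupOf S), ((t : ↥S) : Ω) ∈ K → V t = 1 := by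
    rintro t ⟨s, ⟨t', ht', rfl⟩, hst⟩
    have : t' = t := Subtype.ext (Subtype.ext hst)
    rw [← this]
    exact ht'
  suffices hgen : F.hyperfocalSubgroup p ≤ K from fun t ht => hKout t (hgen ht)
  unfold FusionSystem.hyperfocalSubgroup
  rw [Subgroup.closure_le]
  rintro _ ⟨P, α, x, hPS, hα, rfl⟩
  -- generic statement for members of `Aut_F(P)`
  have hfin : Finite P := Finite.of_injective (Subgroup.inclusion hPS) (Subgroup.inclusion_injective _)
  have hfinA : Finite (MulAut P) := by infer_instance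
  set P1 : Subgroup Ω := P ⊓ Q with hP1
  have hP1P : P1 ≤ P := inf_le_left
  have hP1Q : P1 ≤ Q := inf_le_right
  have hgenmem : ∀ (β : F.autGroup P) (x : P), (x : Ω)⁻¹ * (((β : MulAut P) x : P) : Ω) ∈
      F.hyperfocalSubgroup p → (x : Ω)⁻¹ * (((β : MulAut P) x : P) : Ω) ∈ Q := fun β x h => hle h
  -- restriction of automorphisms to `P1`
  have hres : ∀ (β : MulAut P), β ∈ F.autGroup P → ∀ z : P, (z : Ω) ∈ Q → ((β z : P) : Ω) ∈ Q := by
    intro β hβ z hz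
    have h1 : autHom β ∈ F.Hom P := (mem_autGroup_iff F hPS β).mp hβ
    have h2 := restrict_mem F hP1P h1
    have := hQ.2 P1 hP1Q _ h2 ⟨(z : Ω), ⟨z.2, hz⟩⟩
    exact this
  -- key claim on `p'`-elements
  have hprime : ∀ β : F.autGroup P, Nat.Coprime (orderOf β) p → ∀ x : P,
      (x : Ω)⁻¹ * (((β : MulAut P) x : P) : Ω) ∈ K := by
    intro β hβ x
    have hxβ : (x : Ω)⁻¹ * (((β : MulAut P) x : P) : Ω) ∈ F.hyperfocalSubgroup p := by
      apply Subgroup.subset_closure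
      refine ⟨P, β, x, hPS, ?_, rfl⟩
      exact Subgroup.subset_closure hβ
    have hcQ := hle hxβ
    -- the subgroup of `P` corresponding to `P1`
    set P1' : Subgroup P := Q.subgroupOf P with hP1'
    have hα1 : ∀ z ∈ P1', (β : MulAut P) z ∈ P1' := by
      intro z hz
      rw [hP1', Subgroup.mem_subgroupOf] at hz ⊢
      exact hres β β.2 z hz
    let W : P1' →* A :=
      { toFun := fun z => V ⟨⟨((z : P) : Ω), hPS z.1.2⟩, Subgroup.mem_subgroupOf.mpr
            (Subgroup.mem_subgroupOf.mp z.2)⟩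
        map_one' := by
          have : (⟨⟨(((1 : P1') : P) : Ω), hPS (1 : P1').1.2⟩, Subgroup.mem_subgroupOf.mpr
            (Subgroup.mem_subgroupOf.mp (1 : P1').2)⟩ : ↥(Q.subgroupOf S)) = 1 := by
            apply Subtype.ext; apply Subtype.ext; rfl
          rw [this, map_one]
        map_mul' := by
          intro z z'
          rw [← map_mul]
          congr 1 }
    have hW : ∀ z : P1', W ⟨(β : MulAut P) z, hα1 z z.2⟩ = W z := by
      intro z
      have h1 : autHom (β : MulAut P) ∈ F.Hom P := (mem_autGroup_iff F hPS β).mp β.2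
      have h2 := restrict_mem F hP1P h1
      have hz : ((z : P) : Ω) ∈ P1 := ⟨z.1.2, Subgroup.mem_subgroupOf.mp z.2⟩
      have := hV P1 hP1Q _ h2 ⟨((z : P) : Ω), hz⟩
      exact this
    have hc : x⁻¹ * (β : MulAut P) x ∈ P1' := by
      rw [hP1', Subgroup.mem_subgroupOf]
      exact hcQ
    have h1 := hom_comm_pow_eq_one (β : MulAut P) P1' hα1 W hW x hc (orderOf β) (by
      have := pow_orderOf_eq_one β
      exact congrArg Subtype.val this)
    -- `p`-power order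
    set t : ↥(Q.subgroupOf S) := ⟨⟨(x : Ω)⁻¹ * (((β : MulAut P) x : P) : Ω),
      hQ.1 hcQ⟩, Subgroup.mem_subgroupOf.mpr hcQ⟩ with ht
    have hWt : W ⟨x⁻¹ * (β : MulAut P) x, hc⟩ = V t := rfl
    obtain ⟨n, hn⟩ := hp t
    have h2 : V t ^ (p ^ n) = 1 := by rw [← map_pow, hn, map_one]
    rw [hWt] at h1
    have h3 : orderOf (V t) ∣ orderOf β := orderOf_dvd_of_pow_eq_one h1
    have h4 : orderOf (V t) ∣ p ^ n := orderOf_dvd_of_pow_eq_one h2
    have h5 : orderOf (V t) = 1 := by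
      have hc1 : Nat.Coprime (orderOf β) (p ^ n) := Nat.Coprime.pow_right n hβ
      exact Nat.eq_one_of_dvd_coprimes hc1 h3 h4
    have h6 : V t = 1 := orderOf_eq_one_iff.mp h5
    exact hKmem _ _ hcQ h6
  -- closure induction over `O^p(Aut_F(P))`
  have hall : ∀ β : F.autGroup P, β ∈ Cfsg.pResidual p (F.autGroup P) → ∀ x : P,
      (x : Ω)⁻¹ * (((β : MulAut P) x : P) : Ω) ∈ K := by
    intro β hβ
    unfold Cfsg.pResidual at hβ
    induction hβ using Subgroup.closure_induction with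
    | mem β hβ => exact hprime β hβ
    | one =>
      intro x
      simp
    | mul β γ _ _ ihβ ihγ =>
      intro x
      have e : (x : Ω)⁻¹ * ((((β * γ : F.autGroup P) : MulAut P) x : P) : Ω) =
          ((x : Ω)⁻¹ * (((γ : MulAut P) x : P) : Ω)) *
            ((((γ : MulAut P) x : P) : Ω)⁻¹ * (((β : MulAut P) ((γ : MulAut P) x) : P) : Ω)) := by
        rw [Subgroup.coe_mul, MulAut.mul_apply]
        group
      rw [e]
      exact K.mul_mem (ihγ x) (ihβ _)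
    | inv β _ ih =>
      intro x
      have e : (x : Ω)⁻¹ * ((((β⁻¹ : F.autGroup P) : MulAut P) x : P) : Ω) =
          (((((β⁻¹ : F.autGroup P) : MulAut P) x : P) : Ω)⁻¹ *
            (((β : MulAut P) (((β⁻¹ : F.autGroup P) : MulAut P) x) : P) : Ω))⁻¹ := by
        rw [Subgroup.coe_inv, MulAut.apply_inv_self]
        group
      rw [e]
      exact K.inv_mem (ih _)
  exact hall α hα x

/-- **Main step.**  For a saturated system `F` on `S` and an `S`-invariant homomorphism `π` on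
(the copy in `S` of) `hyp(F)` into a commutative group, some `p'`-power of `π` extends to `S`. -/
theorem exists_hom_of_invariant [Finite S] (p : ℕ) [Fact p.Prime] (hS : IsPGroup p S)
    (F : FusionSystem S) (hF : F.IsSaturated p)
    (Q : Subgroup Ω) (hQdef : Q = F.hyperfocalSubgroup p)
    (Qs : Subgroup ↥S) (hQs : Qs = Q.subgroupOf S) [hn : Qs.Normal]
    {A : Type*} [CommGroup A] (π : ↥Qs →* A)
    (hπ : ∀ (s : ↥S) (t : ↥Qs), π ⟨s * t * s⁻¹, hn.conj_mem t t.2 s⟩ = π t) :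
    ∃ (f : ↥S →* A) (k : ℕ), ¬ p ∣ k ∧ ∀ t : ↥Qs, f (t : ↥S) = π t ^ k := by
  classical
  have hpp : p.Prime := Fact.out
  subst hQs
  have hQs : Q.subgroupOf S = (F.hyperfocalSubgroup p).subgroupOf S := by rw [hQdef]
  have hQsc : F.StronglyClosed Q := by
    rw [hQdef]; exact hyperfocalSubgroup_stronglyClosed p hS F hF
  obtain ⟨X, hXfin, a, hTD, hst, ⟨x₀, hx₀⟩, ⟨k, hk, hcard⟩⟩ := exists_charBiset p hS F hF
  obtain ⟨d, hd⟩ := exists_grading p hS F hF a hTD (Q.subgroupOf S) hQs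
  have hfree : ∀ s x, rAct a s x = x → s = 1 := fun s x h => rAct_free a F hTD h
  have hXne : Nonempty X := ⟨x₀⟩
  have hYne : Nonempty (Yt (Q.subgroupOf S) d) := nonempty_fibre hd
  have hYfin : Finite (Yt (Q.subgroupOf S) d) := by infer_instance
  have hfreeY := rY_free hd hfree
  obtain ⟨T, k', hcardY, hT⟩ := exists_transfer (rY hd) π hfreeY
  -- the two indices agree
  have hkk : k' = k := by
    have h1 := card_fibre hd
    rw [hcardY, hcard] at h1
    have h2 : Nat.card ↥S = Nat.card (↥S ⧸ Q.subgroupOf S) * Nat.card (Q.subgroupOf S) := by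
      rw [mul_comm]
      exact (Subgroup.card_eq_card_quotient_mul_card_subgroup (Q.subgroupOf S)).trans (mul_comm _ _)
    rw [h2] at h1
    have h3 : 0 < Nat.card (↥S ⧸ Q.subgroupOf S) * Nat.card (Q.subgroupOf S) := by
      rw [← h2]; exact Nat.card_pos
    have h4 : (Nat.card (↥S ⧸ Q.subgroupOf S) * Nat.card (Q.subgroupOf S)) * k = (Nat.card (↥S ⧸ Q.subgroupOf S) * Nat.card (Q.subgroupOf S)) * k' := by
      rw [mul_comm _ k, h1]; ring
    exact (Nat.eq_of_mul_eq_mul_left h3 h4).symm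
  subst hkk
  -- the homomorphisms into `Gp`
  let κ' : ↥S →* ↥(Gp (rY hd) π) := (kY hd).codRestrict _ (kY_mem_Gp hd π hπ)
  let l' : ↥(Q.subgroupOf S) →* ↥(Gp (rY hd) π) := (lY hd).codRestrict _ (lY_mem_Gp hd π)
  let f : ↥S →* A := T.comp κ'
  let V : ↥(Q.subgroupOf S) →* A := T.comp l'
  have hfV : ∀ t : ↥(Q.subgroupOf S), f (t : ↥S) = V t * π t ^ k' := by
    intro t
    have e : κ' (t : ↥S) = l' t * ⟨rY hd t, rho_mem_Gp (rY hd) π t⟩ := by
      apply Subtype.ext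
      exact kY_coe hd t
    show T (κ' (t : ↥S)) = T (l' t) * π t ^ k'
    rw [e, map_mul, hT]
  -- stability of `V`
  have hV : ∀ (P : Subgroup Ω) (hPQ : P ≤ Q) (φ : P →* Ω) (hφ : φ ∈ F.Hom P) (y : P),
      V ⟨⟨φ y, (F.le_of_mem hφ).2 y⟩, Subgroup.mem_subgroupOf.mpr (hQsc.2 P hPQ φ hφ y)⟩ =
        V ⟨⟨(y : Ω), hQsc.1 (hPQ y.2)⟩, Subgroup.mem_subgroupOf.mpr (hPQ y.2)⟩ := by
    intro P hPQ φ hφ y
    have hPS : P ≤ S := (F.le_of_mem hφ).1
    have hφS : ∀ x, φ x ∈ S := (F.le_of_mem hφ).2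
    obtain ⟨g, hg⟩ := exists_cen_conj a F hst hPS hφ hφS
    have hθ : ∀ s, rAct a s * (g : Equiv.Perm X) = (g : Equiv.Perm X) * rAct a s :=
      (mem_Cen_iff a).1 g.2
    set P' : Subgroup ↥S := P.subgroupOf S with hP'
    have hP'Q : P' ≤ Q.subgroupOf S := by
      intro s hs
      rw [hP', Subgroup.mem_subgroupOf] at hs
      rw [Subgroup.mem_subgroupOf]
      exact hPQ hs
    let φ' : ↥P' →* ↥S :=
      (φ.codRestrict S hφS).comp (Subgroup.subgroupOfEquivOfLe hPS).toMonoidHom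
    have hφ'coe : ∀ z : ↥P', ((φ' z : ↥S) : Ω) =
        φ ⟨((z : ↥S) : Ω), Subgroup.mem_subgroupOf.mp z.2⟩ := fun z => rfl
    have hφ'Q : ∀ z : ↥P', φ' z ∈ Q.subgroupOf S := by
      intro z
      rw [Subgroup.mem_subgroupOf, hφ'coe]
      exact hQsc.2 P hPQ φ hφ _
    have hθφ : ∀ z : ↥P', (g : Equiv.Perm X) * lAct a (z : ↥S) = lAct a (φ' z) * (g : Equiv.Perm X) := by
      intro z
      have h1 := hg ⟨((z : ↥S) : Ω), Subgroup.mem_subgroupOf.mp z.2⟩
      have h2 : iota a (φ' z) = g * iota a (z : ↥S) * g⁻¹ := by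
        have e1 : (⟨φ ⟨((z : ↥S) : Ω), Subgroup.mem_subgroupOf.mp z.2⟩, hφS _⟩ : ↥S) = φ' z :=
          Subtype.ext (hφ'coe z).symm
        have e2 : (⟨((z : ↥S) : Ω), hPS (Subgroup.mem_subgroupOf.mp z.2)⟩ : ↥S) = (z : ↥S) :=
          Subtype.ext rfl
        rw [e1, e2] at h1
        exact h1
      have h3 : iota a (φ' z) * g = g * iota a (z : ↥S) := by
        rw [h2]; group
      have h4 := congrArg (fun e : ↥(Cen a) => (e : Equiv.Perm X)) h3
      simp only [Subgroup.coe_mul, coe_iota] at h4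
      exact h4.symm
    obtain ⟨θ', hθ'G, hθ'⟩ := exists_twisted hd hfree π hπ (g : Equiv.Perm X) hθ P' hP'Q φ' hφ'Q hθφ
    set y' : ↥P' := ⟨⟨(y : Ω), hPS y.2⟩, Subgroup.mem_subgroupOf.mpr y.2⟩ with hy'
    have h5 := hθ' y'
    -- conjugation in `Gp`
    have h6 : (⟨θ', hθ'G⟩ : ↥(Gp (rY hd) π)) * l' ⟨(y' : ↥S), hP'Q y'.2⟩ =
        l' ⟨φ' y', hφ'Q y'⟩ * ⟨θ', hθ'G⟩ := Subtype.ext h5
    have h7 := congrArg T h6
    rw [map_mul, map_mul, mul_comm] at h7
    have h8 : T (l' ⟨(y' : ↥S), hP'Q y'.2⟩) = T (l' ⟨φ' y', hφ'Q y'⟩) := mul_right_cancel h7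
    have e1 : (⟨⟨φ y, hφS y⟩, Subgroup.mem_subgroupOf.mpr (hQsc.2 P hPQ φ hφ y)⟩ : ↥(Q.subgroupOf S)) =
        ⟨φ' y', hφ'Q y'⟩ := by
      apply Subtype.ext; apply Subtype.ext; rfl
    have e2 : (⟨⟨(y : Ω), hQsc.1 (hPQ y.2)⟩, Subgroup.mem_subgroupOf.mpr (hPQ y.2)⟩ : ↥(Q.subgroupOf S)) =
        ⟨(y' : ↥S), hP'Q y'.2⟩ := by
      apply Subtype.ext; apply Subtype.ext; rfl
    rw [e1, e2]
    exact h8.symm
  -- `V` is trivial
  have hpow : ∀ t : ↥(Q.subgroupOf S), ∃ n : ℕ, t ^ (p ^ n) = 1 := by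
    intro t
    obtain ⟨n, hn'⟩ := (hS.to_subgroup (Q.subgroupOf S)) t
    exact ⟨n, hn'⟩
  have hV1 : ∀ t : ↥(Q.subgroupOf S), V t = 1 := by
    intro t
    apply stable_kills_hyp p F Q hQsc V hV hpow hQdef.ge t
    rw [← hQdef]
    exact Subgroup.mem_subgroupOf.mp t.2
  refine ⟨f, k', hk, fun t => ?_⟩
  rw [hfV t, hV1 t, one_mul]

end Cfsg.Agent.Helper26.TT
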