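import Mathlib
import Cfsg.Prelude.Def_FusionSystem
import Cfsg.Agent.Helper26.TT6
import Cfsg.Agent.Helper14.Frattini
import Cfsg.Agent.S5092

set_option autoImplicit false

/-!
# Tate's theorem for fusion systems: the hyperfocal subgroup is controlled by `S / Φ(S) foc`.
-/

namespace Cfsg.Agent.Helper26.TT

open Cfsg Cfsg.FusionSystem Cfsg.Agent.Helper25
open Cfsg.Agent.Helper26.TTP

universe u

variable {Ω : Type u} [Group Ω] {S : Subgroup Ω}

theorem hyperfocal_mono (p : ℕ) {H F : FusionSystem S} (hHF : H.IsSubsystemOf F) :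
    H.hyperfocalSubgroup p ≤ F.hyperfocalSubgroup p := by
  unfold hyperfocalSubgroup
  rw [Subgroup.closure_le]
  rintro _ ⟨P, α, x, hPS, hα, rfl⟩
  apply Subgroup.subset_closure
  have hle : H.autGroup P ≤ F.autGroup P := by
    intro β hβ
    rw [mem_autGroup_iff H hPS] at hβ
    rw [mem_autGroup_iff F hPS]
    exact hHF P hβ
  refine ⟨P, Subgroup.inclusion hle α, x, hPS, ?_, rfl⟩
  exact map_mem_pResidual p (Subgroup.inclusion hle) hα

theorem hyperfocal_le_focal [Finite S] (p : ℕ) [Fact p.Prime] (hS : IsPGroup p S)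
    (F : FusionSystem S) (hF : F.IsSaturated p) : F.hyperfocalSubgroup p ≤ F.focalSubgroup := by
  rw [Cfsg.Agent.S5092.result p hS F hF]
  exact le_sup_left

/-- Commutative group structure on a quotient by a normal subgroup containing all commutators. -/
def commQuot {G : Type*} [Group G] (N : Subgroup G) [N.Normal]
    (h : ∀ a b : G, a⁻¹ * b⁻¹ * a * b ∈ N) : CommGroup (G ⧸ N) :=
  { (inferInstance : Group (G ⧸ N)) with
    mul_comm := by
      intro a b
      induction a using QuotientGroup.induction_on with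
      | H a =>
        induction b using QuotientGroup.induction_on with
        | H b =>
          rw [← QuotientGroup.mk_mul, ← QuotientGroup.mk_mul, QuotientGroup.eq]
          have e : (a * b)⁻¹ * (b * a) = b⁻¹ * a⁻¹ * b * a := by group
          rw [e]
          exact h b a }

/-- The core of Tate's theorem: an `S`-invariant homomorphism `π` from `hyp(F)` to an elementary
abelian `p`-group is trivial as soon as every homomorphism `S →* A` which agrees on `hyp(F)` with a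
power of `π` kills `hyp(F)`. -/
theorem core [Finite S] (p : ℕ) [Fact p.Prime] (hS : IsPGroup p S)
    (F : FusionSystem S) (hF : F.IsSaturated p)
    (Qs : Subgroup ↥S) (hQs : Qs = (F.hyperfocalSubgroup p).subgroupOf S) [hn : Qs.Normal]
    {A : Type*} [CommGroup A] (hA : ∀ a : A, a ^ p = 1) (π : ↥Qs →* A)
    (hπ : ∀ (s : ↥S) (t : ↥Qs), π ⟨s * t * s⁻¹, hn.conj_mem t t.2 s⟩ = π t)
    (hkill : ∀ (f : ↥S →* A) (k : ℕ), (∀ t : ↥Qs, f (t : ↥S) = π t ^ k) →
      ∀ t : ↥Qs, f (t : ↥S) = 1) : ∀ t : ↥Qs, π t = 1 := by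
  have hpp : p.Prime := Fact.out
  obtain ⟨f, k, hk, hfk⟩ := exists_hom_of_invariant p hS F hF (F.hyperfocalSubgroup p) rfl Qs hQs π hπ
  intro t
  have h1 : π t ^ k = 1 := by rw [← hfk t]; exact hkill f k hfk t
  have h2 : orderOf (π t) ∣ k := orderOf_dvd_of_pow_eq_one h1
  have h3 : orderOf (π t) ∣ p := orderOf_dvd_of_pow_eq_one (hA _)
  rcases (Nat.dvd_prime hpp).mp h3 with h | h
  · exact orderOf_eq_one_iff.mp h
  · exact absurd (h ▸ h2) hk

/-- A homomorphism from `S` to an elementary abelian `p`-group kills `Φ(S)`. -/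
theorem frattini_le_ker [Finite S] (p : ℕ) [Fact p.Prime] {A : Type*} [CommGroup A]
    (hA : ∀ a : A, a ^ p = 1) (f : ↥S →* A) : frattini ↥S ≤ f.ker := by
  apply Cfsg.Agent.Helper14.frattini_le_of_elemAb p
  · intro a b
    rw [MonoidHom.mem_ker, map_commutatorElement]
    exact commutatorElement_eq_one_iff_commute.mpr (Commute.all _ _)
  · intro a
    rw [MonoidHom.mem_ker, map_pow]
    exact hA _

/-- Auxiliary form of the main argument, with the quotient `Qs / B` abstracted. -/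
theorem hyp_le_aux [Finite S] (p : ℕ) [Fact p.Prime] (hS : IsPGroup p S)
    (F : FusionSystem S) (hF : F.IsSaturated p) (H : FusionSystem S) (hH : H.IsSaturated p)
    (hle : (frattini ↥S).map S.subtype ⊔ F.focalSubgroup ≤
      (frattini ↥S).map S.subtype ⊔ H.focalSubgroup)
    (Qs : Subgroup ↥S) (hQs : Qs = (F.hyperfocalSubgroup p).subgroupOf S) [hn : Qs.Normal]
    (B : Subgroup ↥S) (hMB : ∀ s : ↥S, (s : Ω) ∈ H.hyperfocalSubgroup p → s ∈ B) (hBQ : B ≤ Qs)
    (hBcomm : ∀ t ∈ Qs, ∀ s : ↥S, s * t * s⁻¹ * t⁻¹ ∈ B) (hBpow : ∀ t ∈ Qs, t ^ p ∈ B)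
    {A : Type*} [CommGroup A] (π : ↥Qs →* A) (hsurj : Function.Surjective π)
    (hker : ∀ t : ↥Qs, π t = 1 ↔ (t : ↥S) ∈ B) : Qs ≤ B := by
  classical
  have hMS : H.hyperfocalSubgroup p ≤ S := hyperfocalSubgroup_le H p
  have hmemQ : ∀ s : ↥S, s ∈ Qs ↔ (s : Ω) ∈ F.hyperfocalSubgroup p := by
    intro s; rw [hQs, Subgroup.mem_subgroupOf]
  have hA : ∀ a : A, a ^ p = 1 := by
    intro a
    obtain ⟨t, rfl⟩ := hsurj a
    rw [← map_pow, hker]
    exact hBpow t t.2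
  have hall := core p hS F hF Qs hQs hA π ?_ ?_
  · intro s hs
    exact (hker ⟨s, hs⟩).mp (hall ⟨s, hs⟩)
  · -- invariance
    intro s t
    rw [← mul_inv_eq_one, ← map_inv, ← map_mul, hker]
    exact hBcomm t t.2 s
  · -- every extension kills `hyp(F)`
    intro f k hfk
    -- the subgroup of `Ω` corresponding to the kernel
    obtain ⟨K, hK⟩ : ∃ K : Subgroup Ω, K = f.ker.map S.subtype := ⟨_, rfl⟩
    have hKmem : ∀ s : ↥S, (s : Ω) ∈ K ↔ f s = 1 := by
      intro s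
      rw [hK]
      constructor
      · rintro ⟨s', hs', hss'⟩
        have : s' = s := Subtype.ext hss'
        rw [← this]; exact hs'
      · intro h
        exact ⟨s, h, rfl⟩
    have hΦ : (frattini ↥S).map S.subtype ≤ K := by
      rw [hK]
      exact Subgroup.map_mono (frattini_le_ker p hA f)
    have hfoc : H.focalSubgroup ≤ K := by
      unfold FusionSystem.focalSubgroup
      rw [Subgroup.closure_le]
      rintro _ ⟨P, φ, x, hφ, rfl⟩
      have hPS : P ≤ S := (H.le_of_mem hφ).1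
      have hφS : ∀ x, φ x ∈ S := (H.le_of_mem hφ).2
      obtain ⟨c, hc, hcx⟩ := exists_conj_mod_hyp p hS H hH hφ
      have hm := hcx x
      have hmS : (φ x)⁻¹ * (c * (x : Ω) * c⁻¹) ∈ S := hMS hm
      have hmB : (⟨(φ x)⁻¹ * (c * (x : Ω) * c⁻¹), hmS⟩ : ↥S) ∈ B := hMB _ hm
      have hmQ : (⟨(φ x)⁻¹ * (c * (x : Ω) * c⁻¹), hmS⟩ : ↥S) ∈ Qs := hBQ hmB
      have h1 : f ⟨(φ x)⁻¹ * (c * (x : Ω) * c⁻¹), hmS⟩ = 1 := by
        have h2 := hfk ⟨_, hmQ⟩
        have h3 : π ⟨_, hmQ⟩ = 1 := (hker ⟨_, hmQ⟩).mpr hmB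
        rw [h3, one_pow] at h2
        exact h2
      have e : (⟨(φ x)⁻¹ * (c * (x : Ω) * c⁻¹), hmS⟩ : ↥S) =
          (⟨φ x, hφS x⟩ : ↥S)⁻¹ * ((⟨c, hc⟩ : ↥S) * ⟨(x : Ω), hPS x.2⟩ * (⟨c, hc⟩ : ↥S)⁻¹) := by
        apply Subtype.ext; rfl
      rw [e, map_mul, map_mul, map_mul, map_inv, map_inv, mul_comm (f ⟨c, hc⟩) _, mul_assoc,
        mul_inv_cancel, mul_one] at h1
      have e2 : (x : Ω)⁻¹ * φ x = ((⟨(x : Ω), hPS x.2⟩ : ↥S)⁻¹ * ⟨φ x, hφS x⟩ : ↥S) := rfl
      rw [e2, SetLike.mem_coe, hKmem, map_mul, map_inv]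
      rw [inv_mul_eq_one] at h1 ⊢
      exact h1.symm
    have hQK : F.hyperfocalSubgroup p ≤ K :=
      (hyperfocal_le_focal p hS F hF).trans (le_sup_right.trans (hle.trans (sup_le hΦ hfoc)))
    intro t
    exact (hKmem _).mp (hQK ((hmemQ _).mp t.2))

/-- **Tate's theorem** (the hard direction): if `H ⊆ F` are saturated over `S` and
`Φ(S) foc(F) ≤ Φ(S) foc(H)` then `hyp(F) ≤ hyp(H)`. -/
theorem hyp_le_of_frattini [Finite S] (p : ℕ) [Fact p.Prime] (hS : IsPGroup p S)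
    (F : FusionSystem S) (hF : F.IsSaturated p) (H : FusionSystem S) (hH : H.IsSaturated p)
    (hle : (frattini ↥S).map S.subtype ⊔ F.focalSubgroup ≤
      (frattini ↥S).map S.subtype ⊔ H.focalSubgroup)
    (hMQ : H.hyperfocalSubgroup p ≤ F.hyperfocalSubgroup p) :
    F.hyperfocalSubgroup p ≤ H.hyperfocalSubgroup p := by
  classical
  by_contra hne
  have hQS : F.hyperfocalSubgroup p ≤ S := hyperfocalSubgroup_le F p
  have hQn : ((F.hyperfocalSubgroup p).subgroupOf S).Normal :=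
    Subgroup.normal_subgroupOf_of_le_normalizer (le_normalizer_hyperfocalSubgroup F p)
  have hMn : ((H.hyperfocalSubgroup p).subgroupOf S).Normal :=
    Subgroup.normal_subgroupOf_of_le_normalizer (le_normalizer_hyperfocalSubgroup H p)
  obtain ⟨Qs, hQs⟩ : ∃ Qs : Subgroup ↥S, Qs = (F.hyperfocalSubgroup p).subgroupOf S := ⟨_, rfl⟩
  obtain ⟨Ms, hMs⟩ : ∃ Ms : Subgroup ↥S, Ms = (H.hyperfocalSubgroup p).subgroupOf S := ⟨_, rfl⟩
  rw [← hQs] at hQn
  rw [← hMs] at hMn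
  have hmemQ : ∀ s : ↥S, s ∈ Qs ↔ (s : Ω) ∈ F.hyperfocalSubgroup p := by
    intro s; rw [hQs, Subgroup.mem_subgroupOf]
  have hmemM : ∀ s : ↥S, s ∈ Ms ↔ (s : Ω) ∈ H.hyperfocalSubgroup p := by
    intro s; rw [hMs, Subgroup.mem_subgroupOf]
  have hlt' : Ms < Qs := by
    refine lt_of_le_not_ge (fun s hs => (hmemQ s).mpr (hMQ ((hmemM s).mp hs))) (fun h => hne ?_)
    intro q hq
    exact (hmemM ⟨q, hQS hq⟩).mp (h ((hmemQ ⟨q, hQS hq⟩).mpr hq))
  obtain ⟨B, hBn, hMB, hBQ, hBcomm, hBpow⟩ := exists_normal_lt hS Qs Ms hQn hMn hlt'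
  -- the quotient
  have hcomm' : ∀ a b : ↥Qs, a⁻¹ * b⁻¹ * a * b ∈ B.subgroupOf Qs := by
    intro a b
    rw [Subgroup.mem_subgroupOf]
    have := hBcomm (b⁻¹ : ↥Qs) (b⁻¹ : ↥Qs).2 ((a : ↥S)⁻¹)
    simpa [mul_assoc] using this
  letI : CommGroup (↥Qs ⧸ B.subgroupOf Qs) := commQuot (B.subgroupOf Qs) hcomm'
  apply hBQ.not_ge
  exact hyp_le_aux p hS F hF H hH hle Qs hQs B (fun s hs => hMB ((hmemM s).mpr hs)) hBQ.le hBcomm hBpow
    (A := ↥Qs ⧸ B.subgroupOf Qs) (QuotientGroup.mk' (B.subgroupOf Qs))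
    (QuotientGroup.mk'_surjective _)
    (fun t => (QuotientGroup.eq_one_iff t).trans Subgroup.mem_subgroupOf)

end Cfsg.Agent.Helper26.TT
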