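import Mathlib
import Cfsg.Prelude.Def_FusionSystem
import Cfsg.Agent.Helper26.TT7
import Cfsg.Agent.Helper26.FusionInner
import Cfsg.Agent.Helper26.FusionAbelian2
import Cfsg.Agent.Helper26.InnerBasic

set_option autoImplicit false

/-!
# Consequences of Tate's theorem: a saturated system with `foc(F) ≤ Φ(S)` is inner.
-/

namespace Cfsg.Agent.Helper26.TT

open Cfsg Cfsg.FusionSystem Cfsg.Agent.Helper25
open Cfsg.Agent.Helper26.TTP Cfsg.Agent.Helper26.MasterRed

universe u

variable {Ω : Type u} [Group Ω] {S : Subgroup Ω}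

/-- A finite group in which every element of order prime to `p` is trivial is a `p`-group. -/
theorem isPGroup_of_coprime_trivial {G : Type*} [Group G] [Finite G] (p : ℕ) [Fact p.Prime]
    (h : ∀ g : G, (orderOf g).Coprime p → g = 1) : IsPGroup p G := by
  have hpp : p.Prime := Fact.out
  intro g
  have hpos : orderOf g ≠ 0 := (orderOf_pos g).ne'
  obtain ⟨e, m, hm, hem⟩ := Nat.exists_eq_pow_mul_and_not_dvd hpos p hpp.ne_one
  refine ⟨e, h _ ?_⟩
  have h1 : orderOf (g ^ p ^ e) = m := by
    rw [orderOf_pow' g (pow_pos hpp.pos e).ne', hem, Nat.gcd_eq_right (dvd_mul_right _ _)]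
    exact Nat.mul_div_cancel_left m (pow_pos hpp.pos e)
  rw [h1]
  exact ((Nat.Prime.coprime_iff_not_dvd hpp).mpr hm).symm

/-- The residual of a `p`-group is trivial. -/
theorem pResidual_eq_bot_of_isPGroup {G : Type*} [Group G] (p : ℕ) [Fact p.Prime]
    (hG : IsPGroup p G) : pResidual p G = ⊥ := by
  have hpp : p.Prime := Fact.out
  unfold pResidual
  rw [Subgroup.closure_eq_bot_iff]
  intro g hg
  obtain ⟨k, hk⟩ := hG g
  have h1 : orderOf g ∣ p ^ k := orderOf_dvd_of_pow_eq_one hk
  have hg' : (orderOf g).Coprime p := hg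
  have h2 : orderOf g = 1 :=
    Nat.eq_one_of_dvd_coprimes (Nat.Coprime.pow_right k hg') dvd_rfl h1
  exact orderOf_eq_one_iff.mp h2

theorem hyp_inner_eq_bot [Finite S] (p : ℕ) [Fact p.Prime] (hS : IsPGroup p S) :
    (innerFusionSystem S).hyperfocalSubgroup p = ⊥ := by
  unfold FusionSystem.hyperfocalSubgroup
  rw [Subgroup.closure_eq_bot_iff]
  rintro _ ⟨P, α, x, hPS, hα, rfl⟩
  have heq : (innerFusionSystem S).autGroup P = autInducedBy S P := by
    apply le_antisymm
    · intro α hα
      rw [mem_autGroup_iff _ hPS] at hα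
      obtain ⟨-, g, hg, hgα⟩ := hα
      rw [mem_autInducedBy_iff]
      exact ⟨g, hg, hgα⟩
    · exact autInducedBy_le_autGroup _ hPS
  have hp : IsPGroup p ((innerFusionSystem S).autGroup P) := by
    rw [heq]; exact autInducedBy_isPGroup hS P
  rw [pResidual_eq_bot_of_isPGroup p hp, Subgroup.mem_bot] at hα
  rw [hα]
  simp

/-- A saturated system with trivial hyperfocal subgroup is inner. -/
theorem inner_of_hyp_eq_bot [Finite S] (p : ℕ) [Fact p.Prime] (hS : IsPGroup p S)
    (F : FusionSystem S) (hF : F.IsSaturated p) (h : F.hyperfocalSubgroup p = ⊥)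
    (P : Subgroup Ω) : F.Hom P = (innerFusionSystem S).Hom P := by
  apply Cfsg.Agent.Helper26.hom_eq_inner_of_autGroup_isPGroup p hS F hF
  intro R hRS
  have hfinR : Finite R := finite_of_le hRS
  have hres : pResidual p (F.autGroup R) = ⊥ := by
    rw [Subgroup.eq_bot_iff_forall]
    intro α hα
    apply Subtype.ext
    ext x
    have h1 : (x : Ω)⁻¹ * (((α : MulAut R) x : R) : Ω) ∈ F.hyperfocalSubgroup p := by
      apply Subgroup.subset_closure
      exact ⟨R, α, x, hRS, hα, rfl⟩
    rw [h, Subgroup.mem_bot, inv_mul_eq_one] at h1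
    show (((α : MulAut R) x : R) : Ω) = (((1 : MulAut R) x : R) : Ω)
    rw [← h1]
    rfl
  apply isPGroup_of_coprime_trivial p
  intro α hα
  have : α ∈ pResidual p (F.autGroup R) := Subgroup.subset_closure hα
  rw [hres, Subgroup.mem_bot] at this
  exact this

/-- A saturated system whose focal subgroup lies in `Φ(S)` is inner. -/
theorem inner_of_focal_le_frattini [Finite S] (p : ℕ) [Fact p.Prime] (hS : IsPGroup p S)
    (F : FusionSystem S) (hF : F.IsSaturated p)
    (h : F.focalSubgroup ≤ (frattini ↥S).map S.subtype) (P : Subgroup Ω) :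
    F.Hom P = (innerFusionSystem S).Hom P := by
  apply inner_of_hyp_eq_bot p hS F hF
  have hsub : (innerFusionSystem S).IsSubsystemOf F := Cfsg.Agent.Helper26.inner_le F
  have h1 := hyp_le_of_frattini p hS F hF (innerFusionSystem S)
    (Cfsg.Agent.Helper26.inner_isSaturated p hS)
    ((sup_le le_rfl h).trans le_sup_left) (hyperfocal_mono p hsub)
  rw [hyp_inner_eq_bot p hS] at h1
  exact le_bot_iff.mp h1

end Cfsg.Agent.Helper26.TT
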