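import Mathlib
import Cfsg.Agent.Helper26.MasterRed
import Cfsg.Agent.Helper26.FusionHypFactor
import Cfsg.Agent.Helper26.TT8
import Cfsg.Agent.Helper25.FusionPPowerNormal
import Cfsg.Agent.Helper25.FusionSolvConstrained
import Cfsg.Agent.S5092
import Cfsg.Agent.S5077

set_option autoImplicit false

/-! Definitions for the criterion "every subgroup of one order is weakly embedded and has inner
normalizer system" (statement S5271). -/

namespace Cfsg.Agent.S5271P

open Cfsg Cfsg.FusionSystem Cfsg.Agent.Helper25 Cfsg.Agent.Helper26.MasterRed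

variable {Ω : Type*} [Group Ω] {S : Subgroup Ω}

/-- Every subgroup of `S` of order `m` is weakly embedded in `F`. -/
def WE (F : FusionSystem S) (m : ℕ) : Prop :=
  ∀ Q : Subgroup Ω, Q ≤ S → Nat.card Q = m →
    ∃ P : Subgroup Ω, F.StronglyClosed P ∧ F.StronglyClosed (Q ⊔ P) ∧ F.StronglyClosed (Q ⊓ P)

/-- Every fully normalized subgroup of order `m` has inner normalizer system. -/
def NI (F : FusionSystem S) (m : ℕ) : Prop :=
  ∀ H : Subgroup Ω, F.IsFullyNormalized H → Nat.card H = m → NInner F H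

/-- The subgroup `H` is invariant under the automorphism `α` of `R`. -/
def Inv {R : Subgroup Ω} (α : MulAut R) (H : Subgroup Ω) : Prop :=
  ∀ x : R, (x : Ω) ∈ H → ((α x : R) : Ω) ∈ H

/-- The extension lemma: an `F`-automorphism `α` of a receptive subgroup `E` that normalizes
`Aut_V(E)`, where `E C_S(E) ≤ V ≤ N_S(E)` and `Aut_F(V)` is a `p`-group, has `p`-power order. -/
def R1Concl (p : ℕ) (F : FusionSystem S) : Prop :=
  ∀ (E V : Subgroup Ω), F.IsReceptive E → E ≤ V → centralizerIn S E ≤ V → V ≤ normalizerIn S E →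
    IsPGroup p (F.autGroup V) → ∀ α : MulAut E, α ∈ F.autGroup E →
    (∀ v ∈ V, ∃ w ∈ V, ∀ (x : E) (hx : v * (x : Ω) * v⁻¹ ∈ E),
      ((α ⟨v * (x : Ω) * v⁻¹, hx⟩ : E) : Ω) = w * ((α x : E) : Ω) * w⁻¹) →
    ∃ k : ℕ, α ^ (p ^ k) = 1

end Cfsg.Agent.S5271P
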