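import Cfsg.Agent.Helper29.OC2K.Defs2
import Cfsg.Agent.Helper29.OC2K.Hub

set_option autoImplicit false
set_option linter.unusedSectionVars false
set_option linter.unusedVariables false

/-! # S5694 chapter CHAR2 (design helper17), Part A (driver helper26): chapter C4 `G1 M D → S Q ≤ M` in characteristic 2
(in fact characteristic free: `h2` is never used).

Same statements as helper29's `OC2K` pieces with `(h2 : (2 : F) = 0)` in place of `(h2 : (2 : F) ≠ 0)`, names prefixed `C2.`: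
`C2.SPREAD1.mem` (NEW proof by polarisation, no `±`-trick), `C2.BLK.nonsing` (NEW: `Q (e + f) = 1` for a hyperbolic pair),
`C2.SPREAD.le`, `C2.SEED.exists`, `C2.LINKS.of_one`, `C2.LINKS.symm`, `C2.CYC3.exists`, `C2.ALLLINK.step`, `C2.ALLLINK.all`,
`C2.FULL.S_le`, `C2.PROPER.exists` (copies). -/

namespace Cfsg.Agent.OC2K

open Matrix Cfsg.Agent.Helper28.Sg Cfsg.Agent.Helper28.Spin Cfsg.Agent.Helper12.OrthGen
  Cfsg.Agent.S2614 Cfsg.Agent.S5683P Cfsg.Agent.Helper28.NDM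

variable {F : Type*} [Field F] [Fintype F] {t k : ℕ} {ι : Type} [Fintype ι] [DecidableEq ι] {Q : QuadraticForm F (ι → F)} [QHyp Q] {D : Fin t → Submodule F (ι → F)}
  {M : Subgroup (OGq Q)}

/-- a block has a nonsingular vector (any characteristic): `Q (e + f) = 1` for a hyperbolic pair -/
theorem C2.BLK.nonsing (h2 : (2 : F) = 0) (hD : HD Q k D) (c : Fin t) :
    ∃ w ∈ D c, Q w ≠ 0 := by
  obtain ⟨e, f, he, hf, hp⟩ := BLK.hyp hD c
  refine ⟨e + f, (D c).add_mem he hf, ?_⟩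
  rw [Q_add, hp.Qe, hp.Qf, hp.Bef]
  simp

/-- the displacement `E(e', z) w - w` lies in `Rad M u` -/
theorem C2.SPREAD1.disp (hD : HD Q k D) (hHM : HS D ≤ M) {c b : Fin t} (hcb : c ≠ b)
    {u : ι → F} (hu : u ∈ D c) (hQu : Q u = 0) {e' z : ι → F} (he' : e' ∈ D b) (hz : z ∈ D b)
    (hQe' : Q e' = 0) (hez : B (Q) e' z = 0) {w : ι → F} (hw : w ∈ Rad M u hQu) :
    B (Q) e' w • z - B (Q) z w • e' - (Q z * B (Q) e' w) • e' ∈ Rad M u hQu := by
  have he'u : B (Q) e' u = 0 := hD.orth b c (Ne.symm hcb) e' he' u hu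
  have hz'u : B (Q) z u = 0 := hD.orth b c (Ne.symm hcb) z hz u hu
  have hp : siegO (Q) e' z hQe' hez ∈ M := hHM (SIEGMEM.mem hD he' hz hQe' hez)
  have hpu : mt (Q) (siegO (Q) e' z hQe' hez) *ᵥ u = u := by
    rw [siegO_mulVec, he'u, hz'u]
    simp
  have h1 := Rad_conj' hp hw hQu hpu rfl
  have h3 := (Rad M u hQu).sub_mem h1 hw
  convert h3 using 1
  rw [siegO_mulVec]
  abel

/-- a singular `e' ∈ D b` not perpendicular to some `w ∈ Rad M u` lies in `Lsub M u`: polarisation of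
`z ↦ E(e', z) w - w` on `e'^⊥ ∩ D b` (no `±`-trick) -/
theorem C2.SPREAD1.mem (h2 : (2 : F) = 0) (hD : HD Q k D) (hHM : HS D ≤ M) {c b : Fin t} (hcb : c ≠ b)
    {u : ι → F} (hu : u ∈ D c) (hQu : Q u = 0) {e' : ι → F} (he' : e' ∈ D b)
    (he'0 : e' ≠ 0) (hQe' : Q e' = 0) {w : ι → F} (hw : w ∈ Rad M u hQu)
    (hne : B (Q) e' w ≠ 0) : e' ∈ Lsub M u hQu := by
  -- a partner `f` of `e'` in the block, and `z ≠ 0` in the block perpendicular to `e'` and `f`
  obtain ⟨f, hf, hQf, hef⟩ := BLK.partner hD he' he'0 hQe'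
  have hee : B (Q) e' e' = 0 := B_self_of_singular (Q) hQe'
  have hff : B (Q) f f = 0 := B_self_of_singular (Q) hQf
  have hfe : B (Q) f e' = 1 := by rw [B_comm]; exact hef
  obtain ⟨z, hz, hz0, hze, hzf⟩ : ∃ z ∈ D b, z ≠ 0 ∧ B (Q) e' z = 0 ∧ B (Q) f z = 0 := by
    by_contra hcon
    push Not at hcon
    -- then `D b ≤ span {e', f}`
    have hle : D b ≤ Submodule.span F {e', f} := by
      intro x hx
      have hx' : x - B (Q) f x • e' - B (Q) e' x • f = 0 := by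
        by_contra h0
        refine hcon _ ((D b).sub_mem ((D b).sub_mem hx ((D b).smul_mem _ he')) ((D b).smul_mem _ hf))
          h0 ?_ ?_
        · simp only [B, QuadraticMap.polar_sub_right, QuadraticMap.polar_smul_right] at *
          rw [hee, hef]
          simp
        · simp only [B, QuadraticMap.polar_sub_right, QuadraticMap.polar_smul_right] at *
          rw [hff, hfe]
          simp
      have hx'' : x = B (Q) f x • e' + B (Q) e' x • f := by
        rw [sub_sub, sub_eq_zero] at hx'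
        exact hx'
      rw [hx'']
      exact Submodule.add_mem _
        (Submodule.smul_mem _ _ (Submodule.subset_span (Set.mem_insert _ _)))
        (Submodule.smul_mem _ _ (Submodule.subset_span (Set.mem_insert_of_mem _ rfl)))
    have h1 : Module.finrank F (D b) ≤ 2 := by
      classical
      refine (Submodule.finrank_mono hle).trans ?_
      have h := finrank_span_finset_le_card (R := F) ({e', f} : Finset (ι → F))
      rw [Finset.coe_insert, Finset.coe_singleton] at h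
      exact h.trans Finset.card_le_two
    have h3 := BLK.three hD b
    omega
  -- `y ∈ D b` with `B z y ≠ 0`, and `z' := y - B e' y • f ⊥ e'`
  obtain ⟨y, hy, hzy⟩ := hD.nd b z hz hz0
  have hz' : y - B (Q) e' y • f ∈ D b := (D b).sub_mem hy ((D b).smul_mem _ hf)
  have hez' : B (Q) e' (y - B (Q) e' y • f) = 0 := by
    simp only [B, QuadraticMap.polar_sub_right, QuadraticMap.polar_smul_right] at *
    rw [hef]
    simp
  have hzz' : B (Q) z (y - B (Q) e' y • f) ≠ 0 := by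
    have hzf' : B (Q) z f = 0 := by rw [B_comm]; exact hzf
    simp only [B, QuadraticMap.polar_sub_right, QuadraticMap.polar_smul_right] at *
    rw [hzf']
    simpa using hzy
  generalize y - B (Q) e' y • f = z' at hz' hez' hzz'
  -- polarisation
  have hall : ∀ s : F, (s * (B (Q) e' w * B (Q) z z')) • e' ∈ Rad M u hQu := by
    intro s
    have hsz : s • z ∈ D b := (D b).smul_mem s hz
    have hesz : B (Q) e' (s • z) = 0 := B_smul_right_zero _ s hze
    have hsum : B (Q) e' (s • z + z') = 0 := by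
      simp only [B, QuadraticMap.polar_add_right] at *
      rw [hesz, hez', add_zero]
    have a1 := C2.SPREAD1.disp hD hHM hcb hu hQu he' hsz hQe' hesz hw
    have a2 := C2.SPREAD1.disp hD hHM hcb hu hQu he' hz' hQe' hez' hw
    have a3 := C2.SPREAD1.disp hD hHM hcb hu hQu he' ((D b).add_mem hsz hz') hQe' hsum hw
    have h4 := (Rad M u hQu).sub_mem ((Rad M u hQu).add_mem a1 a2) a3
    convert h4 using 1
    rw [Q_add]
    simp only [B, QuadraticMap.polar_add_left, QuadraticMap.polar_smul_left, smul_eq_mul]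
    module
  rw [mem_Lsub]
  have hue' : B (Q) u e' = 0 := hD.orth c b hcb u hu e' he'
  refine ⟨hue', fun s hs => ?_⟩
  have hκ : B (Q) e' w * B (Q) z z' ≠ 0 := mul_ne_zero hne hzz'
  have := hall (s / (B (Q) e' w * B (Q) z z'))
  rw [div_mul_cancel₀ _ hκ] at this
  obtain ⟨_, hmem⟩ := mem_Rad.mp this
  exact hmem

theorem C2.SPREAD.le (h2 : (2 : F) = 0) (hD : HD Q k D) (hHM : HS D ≤ M) {c b : Fin t} (hcb : c ≠ b)
    {u : ι → F} (hu : u ∈ D c) (hQu : Q u = 0) {e' : ι → F} (he' : e' ∈ D b)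
    (he'0 : e' ≠ 0) (hQe' : Q e' = 0) (hmem : e' ∈ Lsub M u hQu) :
    D b ≤ Lsub M u hQu := by
  apply le_of_singular_mem (Q) (D b) (BLK.ndon hD b) (BLK.three hD b)
  intro x hx hQx
  by_cases hx0 : x = 0
  · rw [hx0]
    exact (Lsub M u hQu).zero_mem
  obtain ⟨f, hf, hQf, hef, hxf⟩ :=
    GEOA.connect (D b) (BLK.ndon hD b) (BLK.three hD b) he' hx he'0 hx0 hQe' hQx
  have hf0 : f ≠ 0 := by
    rintro rfl
    apply hef
    exact QuadraticMap.polar_zero_right _ _
  have hfe : B (Q) f e' ≠ 0 := by rw [B_comm]; exact hef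
  have hfL : f ∈ Lsub M u hQu :=
    C2.SPREAD1.mem h2 hD hHM hcb hu hQu hf hf0 hQf (LSUB.mem_rad hQu hmem) hfe
  exact C2.SPREAD1.mem h2 hD hHM hcb hu hQu hx hx0 hQx (LSUB.mem_rad hQu hfL) hxf

theorem C2.SEED.exists (h2 : (2 : F) = 0) (hD : HD Q k D) (hHM : HS D ≤ M) (hG1 : G1 M D) :
    ∃ (c b : Fin t) (u : ι → F) (hQu : Q u = 0), c ≠ b ∧ u ∈ D c ∧ u ≠ 0 ∧
      D b ≤ Lsub M u hQu := by
  obtain ⟨c, u, hQu, hu, hu0, d, hd, hdc⟩ := hG1
  have hud : B (Q) u d = 0 := Rad_perp hd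
  have hdc1 : cmp D c d ∈ Tu Q D c u := by
    rw [mem_Tu]
    exact ⟨CMP1.mem hD c d, by rw [CMP2.B_left hD hu d]; exact hud⟩
  have hdc2 : cmp D c d ∈ Rad M u hQu := SIEGMEM.Tu_le hD hHM hu hQu hdc1
  have hd' : d - cmp D c d ∈ Rad M u hQu := (Rad M u hQu).sub_mem hd hdc2
  have hd'0 : d - cmp D c d ≠ 0 := by
    intro h0
    apply hdc
    rw [sub_eq_zero] at h0
    rw [h0]
    exact CMP1.mem hD c d
  have hc0 : cmp D c (d - cmp D c d) = 0 := by
    rw [map_sub, CMP1.of_mem hD (CMP1.mem hD c d), sub_self]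
  obtain ⟨b, hb⟩ : ∃ b, cmp D b (d - cmp D c d) ≠ 0 := by
    by_contra hno
    push Not at hno
    apply hd'0
    apply CMP1.ext hD
    intro b
    rw [hno b, map_zero]
  have hcb : c ≠ b := by
    rintro rfl
    exact hb hc0
  obtain ⟨e', he', hQe', hne⟩ := GEOA.sing_nonorth (D b) (BLK.ndon hD b) (BLK.three hD b)
    (CMP1.mem hD b (d - cmp D c d)) hb
  rw [CMP2.B_left hD he'] at hne
  have he'0 : e' ≠ 0 := by
    rintro rfl
    apply hne
    simp [B]
  have hmem : e' ∈ Lsub M u hQu :=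
    C2.SPREAD1.mem h2 hD hHM hcb hu hQu he' he'0 hQe' hd' hne
  exact ⟨c, b, u, hQu, hcb, hu, hu0, C2.SPREAD.le h2 hD hHM hcb hu hQu he' he'0 hQe' hmem⟩

theorem C2.LINKS.of_one (h2 : (2 : F) = 0) (hD : HD Q k D) (hHM : HS D ≤ M) {c b : Fin t} (hcb : c ≠ b)
    {u : ι → F} (hu : u ∈ D c) (hu0 : u ≠ 0) (hQu : Q u = 0)
    (h : D b ≤ Lsub M u hQu) : Link M D b c := by
  intro x hx hx0 hQx
  have hux : u ∈ Lsub M x hQx := LSUB.swap hQu hQx (h hx)
  exact C2.SPREAD.le h2 hD hHM (Ne.symm hcb) hx hQx hu hu0 hQu hux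

theorem C2.LINKS.symm (h2 : (2 : F) = 0) (hD : HD Q k D) (hHM : HS D ≤ M) {c b : Fin t} (hcb : c ≠ b)
    (h : Link M D c b) : Link M D b c := by
  obtain ⟨e, f, he, hf, hp⟩ := BLK.hyp hD c
  have he0 : e ≠ 0 := by
    rintro rfl
    have := hp.Bef
    simp [B] at this
  exact C2.LINKS.of_one h2 hD hHM hcb he he0 hp.Qe (h e he he0 hp.Qe)

/-- the commutator of two block swaps is a 3-cycle on the blocks and lies in `Ω(Q) = S(Q)` -/
theorem C2.CYC3.exists (h2 : (2 : F) = 0) (hm : True) (hD : HD Q k D) {a b c : Fin t}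
    (hab : a ≠ b) (hbc : b ≠ c) (hac : a ≠ c) :
    ∃ g ∈ HS D, (∀ x ∈ D a, mt (Q) g *ᵥ x ∈ D b) ∧
      (∀ x ∈ D b, mt (Q) g *ᵥ x ∈ D c) ∧ (∀ x ∈ D c, mt (Q) g *ᵥ x ∈ D a) := by
  obtain ⟨g₁, h11, h12, h13⟩ := SWAP.exists hD hab
  obtain ⟨g₂, h21, h22, h23⟩ := SWAP.exists hD hbc
  have A1 : CYC3.Along D g₁ (Equiv.swap a b) := CYC3.along_swap h11 h12 h13
  have A2 : CYC3.Along D g₂ (Equiv.swap b c) := CYC3.along_swap h21 h22 h23
  have A : CYC3.Along D (g₂ * g₁ * g₂⁻¹ * g₁⁻¹)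
      (Equiv.swap b c * Equiv.swap a b * (Equiv.swap b c)⁻¹ * (Equiv.swap a b)⁻¹) :=
    ((A2.mul A1).mul (A2.inv hD)).mul (A1.inv hD)
  refine ⟨g₂ * g₁ * g₂⁻¹ * g₁⁻¹, ?_, ?_, ?_, ?_⟩
  · rw [mem_HS]
    refine ⟨STAB.of_perm hD _ A, ?_⟩
    rw [← (QHyp.om (Q := Q))]
    show g₂ * g₁ * g₂⁻¹ * g₁⁻¹ ∈ commutator _
    rw [commutator_def]
    exact Subgroup.commutator_mem_commutator (Subgroup.mem_top g₂) (Subgroup.mem_top g₁)
  · intro x hx
    have := A a x hx
    have e : (Equiv.swap b c * Equiv.swap a b * (Equiv.swap b c)⁻¹ * (Equiv.swap a b)⁻¹) a = b := by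
      simp only [Equiv.swap_inv, Equiv.Perm.mul_apply, Equiv.swap_apply_left,
        Equiv.swap_apply_right, Equiv.swap_apply_of_ne_of_ne hac.symm hbc.symm]
    rwa [e] at this
  · intro x hx
    have := A b x hx
    have e : (Equiv.swap b c * Equiv.swap a b * (Equiv.swap b c)⁻¹ * (Equiv.swap a b)⁻¹) b = c := by
      simp only [Equiv.swap_inv, Equiv.Perm.mul_apply, Equiv.swap_apply_left,
        Equiv.swap_apply_right, Equiv.swap_apply_of_ne_of_ne hab hac]
    rwa [e] at this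
  · intro x hx
    have := A c x hx
    have e : (Equiv.swap b c * Equiv.swap a b * (Equiv.swap b c)⁻¹ * (Equiv.swap a b)⁻¹) c = a := by
      simp only [Equiv.swap_inv, Equiv.Perm.mul_apply,
        Equiv.swap_apply_right, Equiv.swap_apply_of_ne_of_ne hac.symm hbc.symm,
        Equiv.swap_apply_of_ne_of_ne hab hac]
    rwa [e] at this

theorem C2.ALLLINK.step (h2 : (2 : F) = 0) (hm : True) (hD : HD Q k D) (hHM : HS D ≤ M)
    {a b c : Fin t} (hab : a ≠ b) (hbc : b ≠ c) (hac : a ≠ c) (h : Link M D a b) :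
    Link M D b c := by
  obtain ⟨g, hg, h1, h2', h3⟩ := C2.CYC3.exists h2 hm hD hab hbc hac
  exact LINKCONJ.map' hD hHM hg h1 h2' h

theorem C2.ALLLINK.all (h2 : (2 : F) = 0) (hm : True) (hD : HD Q k D) (hHM : HS D ≤ M) {c b : Fin t}
    (hcb : c ≠ b) (h : Link M D c b) : ∀ x y : Fin t, x ≠ y → Link M D x y := by
  have hA : ∀ z : Fin t, z ≠ c → Link M D c z := by
    intro z hz
    by_cases hzb : z = b
    · subst hzb; exact h
    · have h1 : Link M D b z := C2.ALLLINK.step h2 hm hD hHM hcb (Ne.symm hzb) (Ne.symm hz) h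
      have h2' : Link M D z c := C2.ALLLINK.step h2 hm hD hHM (Ne.symm hzb) hz (Ne.symm hcb) h1
      exact C2.LINKS.symm h2 hD hHM hz h2'
  intro x y hxy
  by_cases hxc : x = c
  · subst hxc; exact hA y (Ne.symm hxy)
  · have hcx : Link M D c x := hA x hxc
    by_cases hyc : y = c
    · subst hyc; exact C2.LINKS.symm h2 hD hHM (Ne.symm hxc) hcx
    · exact C2.ALLLINK.step h2 hm hD hHM (Ne.symm hxc) hxy (Ne.symm hyc) hcx

/-- **C4** (characteristic 2): an overgroup of `HS D` with a long root element leaving a block contains `S(Q)` -/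
theorem C2.FULL.S_le (h2 : (2 : F) = 0) (hm : True) (hD : HD Q k D) (hHM : HS D ≤ M)
    (hG1 : G1 M D) : S (Q) ≤ M := by
  obtain ⟨c, b, u, hQu, hcb, hu, hu0, hle⟩ := C2.SEED.exists h2 hD hHM hG1
  have hL1 : Link M D b c := C2.LINKS.of_one h2 hD hHM hcb hu hu0 hQu hle
  have hL := C2.ALLLINK.all h2 hm hD hHM (Ne.symm hcb) hL1
  obtain ⟨e, f, he, hf, hp⟩ := BLK.hyp hD c
  obtain ⟨w₀, hw₀, hQw₀⟩ := C2.BLK.nonsing h2 hD b
  have he0 : e ≠ 0 := by
    rintro rfl
    have := hp.Bef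
    simp [B] at this
  have hf0 : f ≠ 0 := by
    rintro rfl
    have := hp.Bef
    simp [B] at this
  refine S_le_of_rad (QHyp.nd (Q := Q)) hp
    (fun w h1 _ => FULLRAD.mem hD hHM hL he he0 hp.Qe h1)
    (fun w _ h2' => FULLRAD.mem hD hHM hL hf hf0 hp.Qf h2')
    (w₀ := w₀) ?_ ?_ hQw₀
  · rw [B_comm]; exact BLK.orth' hD (Ne.symm hcb) hw₀ he
  · rw [B_comm]; exact BLK.orth' hD (Ne.symm hcb) hw₀ hf

/-- `E(u, w)`, `u ∈ D c` singular, `w ∈ D b` nonsingular (`b ≠ c`), does not stabilise `D` -/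
theorem C2.PROPER.exists (h2 : (2 : F) = 0) (hD : HD Q k D) :
    ∃ g ∈ S (Q), g ∉ StabO D := by
  classical
  have ht := hD.t3
  set c : Fin t := ⟨0, by omega⟩ with hc
  set b : Fin t := ⟨1, by omega⟩ with hb
  have hbc : b ≠ c := by
    intro h; rw [hb, hc, Fin.mk.injEq] at h; omega
  obtain ⟨e, f, heN, hfN, hp⟩ := BLK.hyp hD c
  obtain ⟨w, hwN, hQw⟩ := C2.BLK.nonsing h2 hD b
  have hwe : B (Q) w e = 0 := BLK.orth' hD hbc hwN heN
  have hwf : B (Q) w f = 0 := BLK.orth' hD hbc hwN hfN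
  have hew : B (Q) e w = 0 := by rw [B_comm]; exact hwe
  refine ⟨siegO (Q) e w hp.Qe hew, siegO_mem_S _ _ _ _ _, ?_⟩
  intro hmem
  obtain ⟨σ, hσ⟩ := STAB.perm hD hmem
  have himg : mt (Q) (siegO (Q) e w hp.Qe hew) *ᵥ f =
      f + w - Q w • e := by
    rw [siegO_mulVec, hp.Bef, hwf]
    simp
  have hpure : Pure D (f + w - Q w • e) := by
    rw [← himg]; exact ⟨σ c, (hσ c f).1 hfN⟩
  have hcb : cmp D b (f + w - Q w • e) = w := by
    rw [map_sub, map_add, map_smul, CMP1.of_mem_ne hD hbc.symm hfN, CMP1.of_mem hD hwN,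
      CMP1.of_mem_ne hD hbc.symm heN]
    simp
  have hcc : cmp D c (f + w - Q w • e) = f - Q w • e := by
    rw [map_sub, map_add, map_smul, CMP1.of_mem hD hfN, CMP1.of_mem_ne hD hbc hwN,
      CMP1.of_mem hD heN]
    simp
  have hw0 : w ≠ 0 := by
    intro h0; rw [h0] at hQw; exact hQw (map_zero _)
  have hfe0 : f - Q w • e ≠ 0 := by
    intro h0
    have h1 : f = Q w • e := sub_eq_zero.1 h0
    have h3 := hp.Bef
    rw [h1] at h3
    simp only [B, QuadraticMap.polar_smul_right] at h3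
    have h4 : QuadraticMap.polar (⇑(Q)) e e = 0 := B_self_of_singular (Q) hp.Qe
    rw [h4] at h3
    simp at h3
  exact CMP1.not_pure hD hbc (by rw [hcb]; exact hw0) (by rw [hcc]; exact hfe0) hpure

end Cfsg.Agent.OC2K
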