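import Cfsg.Agent.Helper29.OC2K.Main
import Cfsg.Agent.Helper17.OC2KC2Defs
import Cfsg.Agent.Helper17.OC2KC2PM
import Cfsg.Agent.Helper20.OC2KC2GEOPAIR

set_option autoImplicit false
set_option linter.unusedSectionVars false
set_option linter.unusedVariables false

/-! # S5694 CHAR2 Part B (driver helper17), piece LOCA (helper26): a block with `v_c = 0` carries no component of `Rad M v`. -/

namespace Cfsg.Agent.OC2K

open Matrix Cfsg.Agent.Helper28.Sg Cfsg.Agent.Helper28.Spin Cfsg.Agent.Helper12.OrthGen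
  Cfsg.Agent.S2614 Cfsg.Agent.S5683P Cfsg.Agent.Helper28.NDM

variable {F : Type*} [Field F] [Fintype F] {t k : ℕ} {ι : Type} [Fintype ι] [DecidableEq ι] {Q : QuadraticForm F (ι → F)} [QHyp Q] {D : Fin t → Submodule F (ι → F)}
  {M : Subgroup (OGq Q)}

theorem C2.LOCA.loc (hD : HD Q k D) (hk : 4 ≤ k) (hHM : HS D ≤ M) (hG1 : ¬ G1 M D)
    {v : ι → F} (hv : NPV M D v) {c : Fin t} (hvc : cmp D c v = 0) {y : ι → F}
    (hy : y ∈ Rad M v hv.Qv) : cmp D c y = 0 := by
  by_contra hne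
  obtain ⟨x, hx, hQx, hxy⟩ :=
    GEOA.sing_nonorth (D c) (BLK.ndon hD c) (BLK.three hD c) (CMP1.mem hD c y) hne
  rw [CMP2.B_left hD hx] at hxy
  have hx0 : x ≠ 0 := by
    rintro rfl
    apply hxy
    simp [B]
  obtain ⟨w, hw, w', hw', hxw, hxw', hww'⟩ := C2.GEOPAIR.main hD hk hx hx0 hQx
  have hperp : ∀ z ∈ D c, B (Q) z v = 0 := by
    intro z hz
    rw [← CMP2.B_left hD hz v, hvc]
    simp [B]
  have h := C2.PM.polar hD hHM hG1 hv hx hw hw' hx0 hQx hxw hxw' (hperp x hx) (hperp w hw)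
    (hperp w' hw') hy
  rcases mul_eq_zero.mp h with h | h
  · exact hww' h
  · exact hxy h

end Cfsg.Agent.OC2K
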