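import Mathlib
import Cfsg.Agent.Helper14.GLk.Defs
import Cfsg.Agent.Helper14.SLk.Defs
import Cfsg.Agent.Helper14.GLk.COUNTT

/-! S2479, piece DIVCOUNT: tuples of `T F n n` all of whose parts are divisible by `d`
inject into `T F (n/d) (n/d)`. -/

set_option autoImplicit false

namespace Cfsg.Agent.S2479P

open Polynomial Cfsg.Agent.S2478P

universe u

namespace DIVCOUNT

variable {F : Type u} [Field F]

theorem eq_one_of_not_dvd {n d : ℕ} {t : ℕ → F[X]} (ht : t ∈ T F n n)
    (hp : ∀ m ∈ parts t, d ∣ m) (m : ℕ) (hm : ¬ d ∣ m) : t m = 1 := by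
  have h1 : m ∉ parts t := fun h => hm (hp m h)
  have h2 : (t m).natDegree = 0 := by
    unfold parts at h1
    have h3 : ¬ (1 ≤ (t m).natDegree) := h1
    omega
  exact (Polynomial.Monic.natDegree_eq_zero (ht.1 m).1).mp h2

theorem sum_reindex (d k : ℕ) (hd : 1 ≤ d) (f : ℕ → ℕ) (hf : ∀ m, ¬ d ∣ m → f m = 0) :
    ∑ m ∈ Finset.range (d * k + 1), f m = ∑ j ∈ Finset.range (k + 1), f (d * j) := by
  have hinj : Function.Injective (fun j : ℕ => d * j) := by
    intro a b hab
    exact Nat.eq_of_mul_eq_mul_left (by omega) hab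
  rw [← Finset.sum_image (s := Finset.range (k + 1)) (g := fun j : ℕ => d * j)
    (fun a _ b _ hab => hinj hab)]
  symm
  apply Finset.sum_subset
  · intro m hm
    rw [Finset.mem_image] at hm
    obtain ⟨j, hj, rfl⟩ := hm
    rw [Finset.mem_range] at hj ⊢
    have : d * j ≤ d * k := Nat.mul_le_mul_left d (by omega)
    omega
  · intro m hm hm'
    apply hf
    rintro ⟨j, rfl⟩
    apply hm'
    rw [Finset.mem_image]
    refine ⟨j, ?_, rfl⟩
    rw [Finset.mem_range] at hm ⊢
    by_contra hjk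
    have : d * (k + 1) ≤ d * j := Nat.mul_le_mul_left d (by omega)
    rw [Nat.mul_succ] at this
    omega

end DIVCOUNT

open DIVCOUNT in
-- piece DIVCOUNT
theorem card_parts_dvd_le (F : Type u) [Field F] [Fintype F] (n d : ℕ) (hd : 1 ≤ d)
    (hdn : d ∣ n) :
    Nat.card {t : ℕ → F[X] // t ∈ T F n n ∧ ∀ m ∈ parts t, d ∣ m} ≤
      A (Fintype.card F) (n / d) (n / d) := by
  classical
  obtain ⟨k, rfl⟩ := hdn
  have hk : d * k / d = k := Nat.mul_div_cancel_left k (by omega)
  rw [hk]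
  obtain ⟨hfin, hcard⟩ := card_T F k k
  have : Finite (T F k k) := hfin.to_subtype
  rw [← hcard]
  have hmem : ∀ t : {t : ℕ → F[X] // t ∈ T F (d * k) (d * k) ∧ ∀ m ∈ parts t, d ∣ m},
      (fun j => t.1 (d * j)) ∈ T F k k := by
    rintro ⟨t, ht, hp⟩
    refine ⟨fun j => ht.1 (d * j), ?_, ?_⟩
    · rintro j (rfl | hj)
      · simp only [mul_zero]
        exact ht.2.1 0 (Or.inl rfl)
      · apply ht.2.1 (d * j) (Or.inr ?_)
        have : d * (k + 1) ≤ d * j := Nat.mul_le_mul_left d (by omega)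
        rw [Nat.mul_succ] at this
        omega
    · have h1 := ht.2.2
      rw [sum_reindex d k hd (fun m => m * (t m).natDegree)] at h1
      · simp only [mul_assoc] at h1
        rw [← Finset.mul_sum] at h1
        exact Nat.eq_of_mul_eq_mul_left (by omega) h1
      · intro m hm
        show m * (t m).natDegree = 0
        rw [eq_one_of_not_dvd ht hp m hm, natDegree_one, mul_zero]
  refine Nat.card_le_card_of_injective
    (fun t : {t : ℕ → F[X] // t ∈ T F (d * k) (d * k) ∧ ∀ m ∈ parts t, d ∣ m} =>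
      (⟨fun j => t.1 (d * j), hmem t⟩ : T F k k)) ?_
  rintro ⟨t, ht, hp⟩ ⟨t', ht', hp'⟩ h
  have h1 : (fun j => t (d * j)) = fun j => t' (d * j) := congrArg Subtype.val h
  apply Subtype.ext
  funext m
  simp only
  by_cases hm : d ∣ m
  · obtain ⟨j, rfl⟩ := hm
    exact congrFun h1 j
  · rw [eq_one_of_not_dvd ht hp m hm, eq_one_of_not_dvd ht' hp' m hm]

end Cfsg.Agent.S2479P
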