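import Mathlib

/-!
# S1237 (2-groups of rank 2 with an automorphism transitive on the involutions): shared definitions
(board `s1237pieces`, driver helper26; blueprint `departures/helper26_S1237_blueprint.md`)
-/

set_option autoImplicit false

namespace Cfsg.Agent.S1237P

/-- The set-up after the first reduction: `V = {x | x * x = 1}` is a central subgroup of order 4 and the
powers of the automorphism `ψ` permute `V \ 1` transitively. -/
structure Ctx {T : Type*} [Group T] (V : Subgroup T) (ψ : MulAut T) : Prop where
  mem : ∀ x : T, x ∈ V ↔ x * x = 1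
  central : V ≤ Subgroup.center T
  card : Nat.card V = 4
  trans : ∀ s ∈ V, ∀ t ∈ V, s ≠ 1 → t ≠ 1 → ∃ k : ℕ, (ψ ^ k) s = t

/-- the subgroup generated by the squares of the elements of `M` (`= Φ(M)` for a 2-group `M`) -/
def Phi {T : Type*} [Group T] (M : Subgroup T) : Subgroup T :=
  Subgroup.closure {y : T | ∃ x ∈ M, y = x * x}

/-- `M` is a `ψ`-invariant subgroup on which `τ` acts non-trivially, minimal with this property. -/
structure MinData {T : Type*} [Group T] (ψ τ : MulAut T) (M : Subgroup T) : Prop where
  inv : ∀ x ∈ M, ψ x ∈ M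
  moves : ∃ x ∈ M, τ x ≠ x
  min : ∀ N : Subgroup T, N < M → (∀ x ∈ N, ψ x ∈ N) → ∀ x ∈ N, τ x = x

end Cfsg.Agent.S1237P
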