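import Mathlib
import Cfsg.Agent.Helper7.S2481Defs

/-!
# S2481 Hermitian chapter, piece FIELD: trace / norm / Hilbert 90 facts for `|F| = q^2`
-/

set_option autoImplicit false

namespace Cfsg.Agent.S2481P

open Polynomial
open Cfsg.Agent.Helper2.Herm (cj)

namespace FIELD

variable {F : Type*} [Field F] [Fintype F] {q : ℕ}

theorem exists_ne_conj (hF : Fintype.card F = q ^ 2) : ∃ l : F, l ^ q ≠ l := by
  classical
  have hq := Cfsg.Agent.Helper2.Herm.two_le_q hF
  by_contra hcon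
  push Not at hcon
  obtain ⟨ζ, hζ⟩ := IsCyclic.exists_generator (α := Fˣ)
  have hord : orderOf ζ = q ^ 2 - 1 := by
    rw [orderOf_eq_card_of_forall_mem_zpowers hζ, Cfsg.Agent.Helper2.Herm.card_units hF]
  have h1 : ζ ^ (q - 1) = 1 := by
    apply Units.ext
    rw [Units.val_pow_eq_pow_val, Units.val_one]
    have h2 : (ζ : F) ^ (q - 1) * (ζ : F) = 1 * (ζ : F) := by
      rw [← pow_succ, one_mul]
      have : q - 1 + 1 = q := by omega
      rw [this, hcon]
    exact mul_right_cancel₀ ζ.ne_zero h2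
  have h3 := orderOf_dvd_of_pow_eq_one h1
  rw [hord] at h3
  have h4 := Nat.le_of_dvd (by omega) h3
  have h5 : q * 2 ≤ q * q := Nat.mul_le_mul_left q hq
  have : q ^ 2 = q * q := by ring
  omega

theorem exists_trace_one (hF : Fintype.card F = q ^ 2) : ∃ l : F, l + l ^ q = 1 := by
  by_cases h2 : (2 : F) = 0
  · obtain ⟨l₀, hl₀⟩ := exists_ne_conj hF
    have hneg : ∀ x : F, -x = x := by
      intro x
      have : x + x = 0 := by rw [← two_mul, h2, zero_mul]
      exact neg_eq_of_add_eq_zero_left this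
    have hd : l₀ + l₀ ^ q ≠ 0 := by
      intro h
      apply hl₀
      have := eq_neg_of_add_eq_zero_right h
      rw [this, hneg]
    have hdq : (l₀ + l₀ ^ q) ^ q = l₀ + l₀ ^ q := by
      rw [Cfsg.Agent.Helper2.Herm.add_pow_q hF, ← pow_mul, ← pow_two,
        Cfsg.Agent.Helper2.Herm.pow_q_sq hF, add_comm]
    refine ⟨l₀ * (l₀ + l₀ ^ q)⁻¹, ?_⟩
    rw [mul_pow, inv_pow, hdq, ← add_mul, mul_inv_cancel₀ hd]
  · have h2q : (2 : F) ^ q = 2 := by
      have : (2 : F) = 1 + 1 := by norm_num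
      rw [this, Cfsg.Agent.Helper2.Herm.add_pow_q hF, one_pow]
    refine ⟨(2 : F)⁻¹, ?_⟩
    rw [inv_pow, h2q, ← two_mul, mul_inv_cancel₀ h2]

/-- the norm is onto the fixed field -/
theorem exists_norm (hF : Fintype.card F = q ^ 2) (a : F) (ha : a ^ q = a) :
    ∃ y : F, y * y ^ q = a := by
  have hq := Cfsg.Agent.Helper2.Herm.two_le_q hF
  by_cases ha0 : a = 0
  · exact ⟨0, by rw [ha0, zero_mul]⟩
  have hku : Units.mk0 a ha0 ∈ (powMonoidHom (q + 1) : Fˣ →* Fˣ).range := by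
    rw [Cfsg.Agent.Helper2.Herm.range_norm hF, MonoidHom.mem_ker, powMonoidHom_apply]
    apply Units.ext
    rw [Units.val_pow_eq_pow_val, Units.val_mk0, Units.val_one]
    have h2 : a ^ (q - 1) * a = 1 * a := by
      rw [← pow_succ, one_mul]
      have : q - 1 + 1 = q := by omega
      rw [this, ha]
    exact mul_right_cancel₀ ha0 h2
  obtain ⟨u, hu⟩ := hku
  refine ⟨(u : F), ?_⟩
  have := congrArg Units.val hu
  rw [powMonoidHom_apply, Units.val_pow_eq_pow_val, Units.val_mk0] at this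
  rw [← this, pow_succ']

/-- Hilbert 90 -/
theorem exists_div_conj (hF : Fintype.card F = q ^ 2) (c : F) (hc : c ^ (q + 1) = 1) :
    ∃ b : F, b ≠ 0 ∧ b * (b ^ q)⁻¹ = c := by
  have hq := Cfsg.Agent.Helper2.Herm.two_le_q hF
  have hc0 : c ≠ 0 := by
    rintro rfl
    rw [zero_pow (by omega)] at hc
    exact zero_ne_one hc
  -- range of the `(q-1)`-power map is the kernel of the `(q+1)`-power map
  have hrange : (powMonoidHom (q - 1) : Fˣ →* Fˣ).range = (powMonoidHom (q + 1) : Fˣ →* Fˣ).ker := by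
    have hle : (powMonoidHom (q - 1) : Fˣ →* Fˣ).range ≤
        (powMonoidHom (q + 1) : Fˣ →* Fˣ).ker := by
      rintro _ ⟨u, rfl⟩
      rw [MonoidHom.mem_ker, powMonoidHom_apply, powMonoidHom_apply, ← pow_mul, mul_comm,
        ← Cfsg.Agent.Helper2.Herm.factor hq, ← Cfsg.Agent.Helper2.Herm.card_units hF]
      exact pow_card_eq_one'
    apply Subgroup.eq_of_le_of_card_ge hle
    rw [IsCyclic.card_powMonoidHom_range, IsCyclic.card_powMonoidHom_ker,
      Cfsg.Agent.Helper2.Herm.card_units hF, Cfsg.Agent.Helper2.Herm.factor hq,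
      Nat.gcd_mul_right_left, Nat.gcd_mul_left_left,
      Nat.mul_div_cancel _ (by omega : 0 < q - 1)]
  have hcu : (Units.mk0 c hc0)⁻¹ ∈ (powMonoidHom (q - 1) : Fˣ →* Fˣ).range := by
    rw [hrange, MonoidHom.mem_ker, powMonoidHom_apply, inv_pow, inv_eq_one]
    apply Units.ext
    rw [Units.val_pow_eq_pow_val, Units.val_mk0, Units.val_one, hc]
  obtain ⟨u, hu⟩ := hcu
  refine ⟨(u : F), u.ne_zero, ?_⟩
  have h1 := congrArg Units.val hu
  rw [powMonoidHom_apply, Units.val_pow_eq_pow_val, Units.val_inv_eq_inv_val, Units.val_mk0] at h1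
  -- `u^(q-1) = c⁻¹`
  have h2 : (u : F) ^ q = (u : F) ^ (q - 1) * u := by
    rw [← pow_succ]
    congr 1
    omega
  rw [h2, h1, mul_inv, inv_inv, mul_comm c, ← mul_assoc, mul_inv_cancel₀ u.ne_zero, one_mul]

end FIELD

end Cfsg.Agent.S2481P
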