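import Mathlib
import Cfsg.Agent.Helper7.S2481Defs
import Cfsg.Agent.Helper7.S2481STBASIC

/-!
# S2481 Hermitian chapter: the involution induced by `st` on `F[X]/(f)` and two abstract lemmas
(lifting norms along a nilpotent ideal; norms in a finite field with an involution)
-/

set_option autoImplicit false

namespace Cfsg.Agent.S2481P

open Polynomial

namespace QST

section quot

variable {F : Type*} [Field F]

/-- the ring endomorphism of `F[X]/(f)` induced by `st` when `f ∣ st f` -/
noncomputable def thetaQ (σ : F →+* F) (N : ℕ) (f : F[X]) (hf : f ∣ st σ N f) :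
    (F[X] ⧸ Ideal.span {f}) →+* (F[X] ⧸ Ideal.span {f}) :=
  Ideal.Quotient.lift (Ideal.span {f}) ((Ideal.Quotient.mk (Ideal.span {f})).comp (st σ N)) (by
    intro a ha
    rw [Ideal.mem_span_singleton] at ha
    obtain ⟨c, rfl⟩ := ha
    rw [RingHom.comp_apply, RingHom.map_mul, Ideal.Quotient.eq_zero_iff_mem,
      Ideal.mem_span_singleton]
    exact Dvd.dvd.mul_right hf _)

theorem thetaQ_mk (σ : F →+* F) (N : ℕ) (f : F[X]) (hf : f ∣ st σ N f) (a : F[X]) :
    thetaQ σ N f hf (Ideal.Quotient.mk (Ideal.span {f}) a) =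
      Ideal.Quotient.mk (Ideal.span {f}) (st σ N a) := rfl

theorem thetaQ_thetaQ (σ : F →+* F) (hσ : ∀ x, σ (σ x) = x) (N : ℕ) (hN : 0 < N) (f : F[X])
    (hf : f ∣ st σ N f) (hfN : f ∣ X ^ N - 1) (x : F[X] ⧸ Ideal.span {f}) :
    thetaQ σ N f hf (thetaQ σ N f hf x) = x := by
  obtain ⟨a, rfl⟩ := Ideal.Quotient.mk_surjective x
  rw [thetaQ_mk, thetaQ_mk, Ideal.Quotient.eq, Ideal.mem_span_singleton]
  exact dvd_trans hfN (STBASIC.st_st σ hσ N hN a)

theorem mk_eq_mk_iff (f a b : F[X]) :
    Ideal.Quotient.mk (Ideal.span {f}) a = Ideal.Quotient.mk (Ideal.span {f}) b ↔ f ∣ a - b := by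
  rw [Ideal.Quotient.eq, Ideal.mem_span_singleton]

end quot

/-- lifting norms along a nilpotent ideal -/
theorem abstract_norm_lift {R : Type*} [CommRing R] (θ : R →+* R) (hθ : ∀ x, θ (θ x) = x)
    (J : Ideal R) (e : ℕ) (hJe : J ^ e = ⊥) (l : R) (hl : l + θ l = 1) :
    ∀ s : R, s - 1 ∈ J → θ s = s → ∃ y, y - 1 ∈ J ∧ y * θ y = s := by
  have key : ∀ d k : ℕ, e ≤ k + d → 1 ≤ k → ∀ s : R, s - 1 ∈ J ^ k → θ s = s →
      ∃ y, y - 1 ∈ J ∧ y * θ y = s := by
    intro d
    induction d with
    | zero =>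
      intro k hk _ s hs _
      have h0 : s - 1 ∈ (⊥ : Ideal R) := by
        rw [← hJe]
        exact Ideal.pow_le_pow_right (by omega) hs
      rw [Ideal.mem_bot, sub_eq_zero] at h0
      refine ⟨1, by simp, ?_⟩
      rw [h0, map_one, mul_one]
    | succ d ih =>
      intro k hk hk1 s hs hθs
      have hJk : J ^ k ≤ J := Ideal.pow_le_self (by omega)
      set j : R := s - 1 with hj
      have hθj : θ j = j := by rw [hj, map_sub, map_one, hθs]
      set y₁ : R := 1 + l * j with hy₁
      set t : R := y₁ * θ y₁ with ht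
      have ht_eq : t = s + l * θ l * j ^ 2 := by
        rw [ht, hy₁, map_add, map_one, map_mul, hθj]
        have : (1 + l * j) * (1 + θ l * j) = 1 + (l + θ l) * j + l * θ l * j ^ 2 := by ring
        rw [this, hl, hj]; ring
      have hθt : θ t = t := by rw [ht, map_mul, hθ, mul_comm]
      have hj2 : j ^ 2 ∈ J ^ (2 * k) := by
        rw [two_mul, pow_add, pow_two]
        exact Ideal.mul_mem_mul hs hs
      have ht1 : t - 1 ∈ J ^ k := by
        have : t - 1 = j + l * θ l * (j * j) := by rw [ht_eq, hj]; ring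
        rw [this]
        exact Ideal.add_mem _ hs (Ideal.mul_mem_left _ _ (Ideal.mul_mem_left _ _ hs))
      -- `t` is a unit
      have hnil : IsNilpotent (t - 1) := by
        refine ⟨e, ?_⟩
        have : (t - 1) ^ e ∈ J ^ e := Ideal.pow_mem_pow (hJk ht1) e
        rw [hJe, Ideal.mem_bot] at this
        exact this
      have hunit : IsUnit t := by
        have := hnil.isUnit_add_one
        rwa [sub_add_cancel] at this
      obtain ⟨u, hu⟩ := hunit
      set t' : R := ((u⁻¹ : Rˣ) : R) with ht'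
      have htt' : t * t' = 1 := by rw [← hu, ht']; exact u.mul_inv
      have hθt' : θ t' = t' := by
        have h1 : θ t' * t = 1 := by
          rw [← hθt, ← map_mul, mul_comm, htt', map_one]
        calc θ t' = θ t' * (t * t') := by rw [htt', mul_one]
          _ = (θ t' * t) * t' := by ring
          _ = t' := by rw [h1, one_mul]
      set s' : R := s * t' with hs'
      have hθs' : θ s' = s' := by rw [hs', map_mul, hθs, hθt']
      have hs'1 : s' - 1 ∈ J ^ (2 * k) := by
        have : s' - 1 = -(l * θ l * t') * j ^ 2 := by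
          have h2 : s = t - l * θ l * j ^ 2 := by rw [ht_eq]; ring
          calc s' - 1 = s * t' - t * t' := by rw [hs', htt']
            _ = (s - t) * t' := by ring
            _ = -(l * θ l * t') * j ^ 2 := by rw [h2]; ring
        rw [this]
        exact Ideal.mul_mem_left _ _ hj2
      obtain ⟨y₂, hy₂1, hy₂⟩ := ih (2 * k) (by omega) (by omega) s' hs'1 hθs'
      refine ⟨y₁ * y₂, ?_, ?_⟩
      · have : y₁ * y₂ - 1 = (l * j) * y₂ + (y₂ - 1) := by rw [hy₁]; ring
        rw [this]
        exact Ideal.add_mem _ (Ideal.mul_mem_right _ _ (Ideal.mul_mem_left _ _ (hJk hs))) hy₂1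
      · calc y₁ * y₂ * θ (y₁ * y₂) = (y₁ * θ y₁) * (y₂ * θ y₂) := by rw [map_mul]; ring
          _ = t * s' := by rw [hy₂]
          _ = s * (t * t') := by rw [hs']; ring
          _ = s := by rw [htt', mul_one]
  intro s hs hθs
  exact key e 1 (by omega) le_rfl s (by rwa [pow_one]) hθs

end QST

end Cfsg.Agent.S2481P
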