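import Mathlib
import Cfsg.Agent.Helper7.S2481Defs
import Cfsg.Agent.Helper14.SLk.Defs
import Cfsg.Agent.Helper7.S2481STBASIC
import Cfsg.Agent.Helper7.S2481PDUAL
import Cfsg.Agent.Helper7.S2481DUALST
import Cfsg.Agent.Helper4.S2481SEMIDET
import Cfsg.Agent.Helper15.S2479BLOCKX
import Cfsg.Agent.Helper15.S2479BLOCKU
import Cfsg.Agent.Helper26.S2481FIELD
import Cfsg.Agent.Helper26.S2481QST

/-!
# S2481 Hermitian chapter, piece UNITSD: unitary elements of `F[X]/(p^e)`, `p` self-dual, with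
prescribed determinant
-/

set_option autoImplicit false

namespace Cfsg.Agent.S2481P

open Polynomial
open Cfsg.Agent.Helper2.Herm (cj)
open Cfsg.Agent.S2479P (mulDet)

namespace UNITSD

/-- `mulDet` is multiplicative in the multiplier -/
theorem mulDet_mul_right {F : Type*} [Field F] (f u v : F[X]) :
    mulDet f (u * v) = mulDet f u * mulDet f v := by
  rw [Cfsg.Agent.S2479P.BLOCKX.mulDet_eq_norm, Cfsg.Agent.S2479P.BLOCKX.mulDet_eq_norm,
    Cfsg.Agent.S2479P.BLOCKX.mulDet_eq_norm, map_mul, map_mul]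

/-- `mulDet f 1 = 1` -/
theorem mulDet_one {F : Type*} [Field F] (f : F[X]) : mulDet f 1 = 1 := by
  rw [Cfsg.Agent.S2479P.BLOCKX.mulDet_eq_norm, map_one, map_one]

/-- `mulDet f u` only depends on `u` modulo `f` -/
theorem mulDet_congr {F : Type*} [Field F] (f u v : F[X]) (h : f ∣ u - v) :
    mulDet f u = mulDet f v := by
  rw [Cfsg.Agent.S2479P.BLOCKX.mulDet_eq_norm, Cfsg.Agent.S2479P.BLOCKX.mulDet_eq_norm,
    AdjoinRoot.mk_eq_mk.2 h]

/-- if `p` is irreducible and `p ∣ w` then `mulDet p w = 0` -/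
theorem mulDet_eq_zero_of_dvd {F : Type*} [Field F] (p w : F[X]) (hp : p.Monic)
    (hirr : Irreducible p) (h : p ∣ w) : mulDet p w = 0 := by
  have : Fact (Irreducible p) := ⟨hirr⟩
  have : Module.Finite F (AdjoinRoot p) := hp.finite_adjoinRoot
  rw [Cfsg.Agent.S2479P.BLOCKX.mulDet_eq_norm, AdjoinRoot.mk_eq_zero.2 h, Algebra.norm_zero]

variable {F : Type*} [Field F] [Fintype F] {q : ℕ}

theorem exists_unitary_sd (hF : Fintype.card F = q ^ 2) (N : ℕ) (hN : 0 < N) (p : F[X])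
    (hp : p.Monic) (hirr : Irreducible p) (hpX : p ≠ X) (e : ℕ) (he : 1 ≤ e)
    (hpN : p ^ e ∣ X ^ N - 1) (hsd : pdual (cj hF) p = p) (c : F) (hc : c ^ (q + 1) = 1) :
    ∃ f : F[X], p ^ e ∣ st (cj hF) N f * f - 1 ∧ mulDet p f = c := by
  have h0 : p.coeff 0 ≠ 0 := PDUAL.coeff_zero_ne_zero p hp hirr hpX
  have hpe : p ∣ p ^ e := dvd_pow_self p (by omega)
  have hf : p ^ e ∣ st (cj hF) N (p ^ e) := by
    have := DUALST.pdual_dvd_st (cj hF) N hN p hp h0 e hpN
    rwa [hsd] at this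
  have hc0 : c ≠ 0 := by
    rintro rfl
    rw [zero_pow (by omega)] at hc
    exact zero_ne_one hc
  obtain ⟨b, hb0, hb⟩ := FIELD.exists_div_conj hF c⁻¹ (by rw [inv_pow, hc, inv_one])
  obtain ⟨w, hw⟩ := Cfsg.Agent.S2479P.exists_mulDet_eq p hp hirr (Units.mk0 b hb0)
  rw [Units.val_mk0] at hw
  have hpw : ¬ p ∣ w := by
    intro h
    rw [mulDet_eq_zero_of_dvd p w hp hirr h] at hw
    exact hb0 hw.symm
  have hcop : IsCoprime w (p ^ e) := ((hirr.coprime_iff_not_dvd.2 hpw).symm).pow_right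
  obtain ⟨u, v, huv⟩ := hcop
  -- the quotient ring and its involution
  let π := Ideal.Quotient.mk (Ideal.span {p ^ e})
  let θ := QST.thetaQ (cj hF) N (p ^ e) hf
  have hθmk : ∀ a : F[X], θ (π a) = π (st (cj hF) N a) := fun a => rfl
  have hθ : ∀ x, θ (θ x) = x :=
    QST.thetaQ_thetaQ (cj hF) (Cfsg.Agent.Helper2.Herm.cj_cj hF) N hN (p ^ e) hf hpN
  have hπ : ∀ a b : F[X], π a = π b ↔ p ^ e ∣ a - b := QST.mk_eq_mk_iff (p ^ e)
  have hπpe : π (p ^ e) = 0 := by
    rw [Ideal.Quotient.eq_zero_iff_mem, Ideal.mem_span_singleton]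
  have hun : π u * π w = 1 := by
    have h1 : π (u * w + v * p ^ e) = 1 := by rw [huv, map_one]
    rw [map_add, RingHom.map_mul π u w, RingHom.map_mul π v (p ^ e), hπpe, mul_zero,
      add_zero] at h1
    exact h1
  refine ⟨st (cj hF) N w * u, ?_, ?_⟩
  · rw [← (hπ _ 1), map_one, RingHom.map_mul π, ← hθmk, RingHom.map_mul π, ← hθmk, map_mul, hθ]
    calc π w * θ (π u) * (θ (π w) * π u) = (π u * π w) * θ (π u * π w) := by
          rw [map_mul]; ring
      _ = 1 := by rw [hun, map_one, mul_one]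
  · have h1 : mulDet p (st (cj hF) N w) = b ^ q := by
      have := SEMIDET.mulDet_st hF N hN p hp hirr hpX (dvd_trans hpe hpN) w
      rw [hsd, hw, Cfsg.Agent.Helper2.Herm.cj_apply] at this
      exact this
    have h2 : mulDet p u * b = 1 := by
      rw [← hw, ← mulDet_mul_right, ← mulDet_one p]
      apply mulDet_congr
      have : u * w - 1 = -(v * p ^ e) := by linear_combination huv
      rw [this]
      exact Dvd.dvd.neg_right (Dvd.dvd.mul_left hpe v)
    have h3 : mulDet p u = b⁻¹ := eq_inv_of_mul_eq_one_left h2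
    rw [mulDet_mul_right, h1, h3]
    have hbq : b ^ q ≠ 0 := pow_ne_zero _ hb0
    have : c = (b * (b ^ q)⁻¹)⁻¹ := by rw [hb, inv_inv]
    rw [this, mul_inv, inv_inv, mul_comm]

end UNITSD

end Cfsg.Agent.S2481P
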