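import Mathlib
import Cfsg.Agent.Helper7.S2481Defs
import Cfsg.Agent.Helper14.SLk.Defs
import Cfsg.Agent.Helper14.SLk.CENT
import Cfsg.Agent.Helper7.S2481PDUAL
import Cfsg.Agent.Helper26.S2481UNITSD
import Cfsg.Agent.Helper4.S2481UNITPAIR

/-!
# S2481 Hermitian chapter, piece CENTF: a unitary family `f` with `f i = 1` off `{i0, dual i0}` and
prescribed determinant
-/

set_option autoImplicit false

namespace Cfsg.Agent.S2481P

open Polynomial
open Cfsg.Agent.Helper2.Herm (cj)
open Cfsg.Agent.S2479P (mulDet)

namespace CENTF

variable {F : Type*} [Field F] [Fintype F] {q : ℕ}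

theorem exists_f (hF : Fintype.card F = q ^ 2) (N : ℕ) (hN : 0 < N)
    {ι : Type*} [Fintype ι] [DecidableEq ι] (p : ι → F[X]) (e : ι → ℕ) (dual : ι → ι)
    (htd : IsTypeData (cj hF) p e dual) (hpN : ∀ i, p i ^ e i ∣ X ^ N - 1) (i0 : ι) (c : F)
    (hc : c ^ (q + 1) = 1) :
    ∃ f : ι → F[X], (∀ i, p i ^ e i ∣ st (cj hF) N (f (dual i)) * f i - 1) ∧
      ∏ i, mulDet (p i ^ e i) (f i) = c ^ e i0 := by
  have htriv : ∀ P : F[X], P ∣ st (cj hF) N 1 * 1 - 1 := by
    intro P
    rw [map_one, mul_one, sub_self]
    exact dvd_zero P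
  by_cases hfix : dual i0 = i0
  · -- self-dual block
    have hsd : pdual (cj hF) (p i0) = p i0 := (htd.fix_iff i0).1 hfix
    obtain ⟨f0, hf0, hdet⟩ := UNITSD.exists_unitary_sd hF N hN (p i0) (htd.monic i0)
      (htd.irred i0) (htd.ne_X i0) (e i0) (htd.one_le i0) (hpN i0) hsd c hc
    refine ⟨fun i => if i = i0 then f0 else 1, ?_, ?_⟩
    · intro i
      by_cases hi : i = i0
      · subst hi
        simp only [hfix, if_true]
        exact hf0
      · have hdi : dual i ≠ i0 := by
          intro h
          apply hi
          rw [← htd.dual_dual i, h, hfix]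
        simp only [hi, hdi, if_false]
        exact htriv _
    · rw [Finset.prod_eq_single i0]
      · simp only [if_true]
        rw [Cfsg.Agent.S2479P.mulDet_pow _ _ (htd.monic i0), hdet]
      · intro j _ hj
        simp only [hj, if_false]
        exact Cfsg.Agent.S2479P.mulDet_one_right _
      · intro h
        exact absurd (Finset.mem_univ i0) h
  · -- a pair of dual blocks
    set j0 := dual i0 with hj0
    have hji : j0 ≠ i0 := hfix
    obtain ⟨f₁, f₂, h1, h2, hdet⟩ := UNITPAIR.exists_unitary_pair hF N hN (p i0) (htd.monic i0)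
      (htd.irred i0) (htd.ne_X i0) (e i0) (htd.one_le i0) (hpN i0) c hc
    have hpj : p j0 = pdual (cj hF) (p i0) := htd.p_dual i0
    have hej : e j0 = e i0 := htd.e_dual i0
    have hdj : dual j0 = i0 := htd.dual_dual i0
    refine ⟨fun i => if i = i0 then f₁ else if i = j0 then f₂ else 1, ?_, ?_⟩
    · intro i
      by_cases hi : i = i0
      · subst hi
        simp only [if_true, ← hj0, hji, if_false]
        exact h1
      · by_cases hj : i = j0
        · subst hj
          simp only [hdj, if_true, hji, if_false]
          rw [hpj, hej]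
          exact h2
        · have hdi : dual i ≠ i0 := by
            intro h
            apply hj
            rw [← htd.dual_dual i, h]
          have hdj' : dual i ≠ j0 := by
            intro h
            apply hi
            rw [← htd.dual_dual i, h, hdj]
          simp only [hi, hj, hdi, hdj', if_false]
          exact htriv _
    · rw [Finset.prod_eq_mul i0 j0 (Ne.symm hji)]
      · simp only [if_true, hji, if_false]
        rw [Cfsg.Agent.S2479P.mulDet_pow _ _ (htd.monic i0),
          Cfsg.Agent.S2479P.mulDet_pow _ _ (htd.monic j0), hpj, hej, ← mul_pow, hdet]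
      · intro k _ hk
        simp only [hk.1, hk.2, if_false]
        exact Cfsg.Agent.S2479P.mulDet_one_right _
      · intro h
        exact absurd (Finset.mem_univ i0) h
      · intro h
        exact absurd (Finset.mem_univ j0) h

end CENTF

end Cfsg.Agent.S2481P
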