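import Mathlib
import Cfsg.Prelude.Def_Transfer
import Cfsg.Prelude.Def_SolvableStructure
import Cfsg.Agent.Helper26.S4394Defs

/-!
# S4395 (maximal Schmidt groups): definitions (helper26)

* `MNP p X`: `X` is minimal non-`p`-nilpotent.
* `NFData p q r ζ P y lam`: normal form of a minimal non-`p`-nilpotent group `X` of order `p^t q^r`:
  `X = P ⋊ ⟨y⟩`, `P` the normal Sylow `p`-subgroup, `y` of order `q^r`, `y^q` central, and
  `lam : X → F` restricts to a surjective homomorphism `P → (F, +)` with kernel `C_P(y)` which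
  intertwines conjugation by `y` with multiplication by the fixed element `ζ` of order `q` of the
  fixed field `F` of order `p^a`, `a = ord_q(p)`.
-/

set_option autoImplicit false

namespace Cfsg.Agent.S4395P

open Cfsg

/-- minimal non-`p`-nilpotent. -/
def MNP (p : ℕ) (X : Type*) [Group X] : Prop :=
  ¬ Cfsg.HasNormalPComplement p X ∧ ∀ K : Subgroup X, K ≠ ⊤ → Cfsg.HasNormalPComplement p ↥K

/-- normal form data (see the module docstring). -/
structure NFData (p q r : ℕ) {F : Type*} [Field F] (ζ : F) {X : Type*} [Group X]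
    (P : Subgroup X) (y : X) (lam : X → F) : Prop where
  mnn : Cfsg.IsMinimalNonNilpotent X
  normal : P.Normal
  sch : Cfsg.Agent.S4394P.SchData p P y
  card : Nat.card X = Nat.card P * q ^ r
  ord : orderOf y = q ^ r
  gen : ∀ x : X, ∃ u ∈ P, ∃ i : ℕ, x = u * y ^ i
  yq : ∀ u ∈ P, y ^ q * u = u * y ^ q
  add : ∀ u ∈ P, ∀ v ∈ P, lam (u * v) = lam u + lam v
  surj : ∀ f : F, ∃ u ∈ P, lam u = f
  ker : ∀ u ∈ P, lam u = 0 ↔ u ∈ Subgroup.centralizer {y}
  equiv : ∀ u ∈ P, lam (y * u * y⁻¹) = ζ * lam u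

end Cfsg.Agent.S4395P
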