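import Mathlib
import Cfsg.Prelude.Def_GeometricClasses
import Cfsg.Agent.Helper16.S5965NEC
import Cfsg.Agent.Helper15.S5965FROB

set_option autoImplicit false
open scoped MatrixGroups

/-! S5965 piece DIAGDER: a diagonal element `μ • diag(ξ^e)` of `SL_n(F)` with condition (★)
is not conjugate into the subfield subgroup. -/

namespace Cfsg.Agent.S5965P

namespace DIAGDER

/-- kernel dimension of `diagonal d - c`. -/
theorem finrank_ker_diag {F : Type*} [Field F] (n : ℕ) (d : Fin n → F) (c : F) :
    Module.finrank F (LinearMap.ker (Matrix.toLin' (Matrix.diagonal d) -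
      c • (1 : Module.End F (Fin n → F)))) = Nat.card {j // d j = c} := by
  classical
  have h1 : Matrix.toLin' (Matrix.diagonal d) - c • (1 : Module.End F (Fin n → F)) =
      (Matrix.diagonal fun j => d j - c).mulVecLin := by
    apply LinearMap.ext
    intro v
    funext i
    simp [Matrix.toLin'_apply, Matrix.mulVec_diagonal, sub_mul]
  rw [h1]
  have h2 := LinearMap.finrank_range_add_finrank_ker (Matrix.diagonal fun j => d j - c).mulVecLin
  have h3 : Module.finrank F (LinearMap.range (Matrix.diagonal fun j => d j - c).mulVecLin) =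
      Fintype.card {j // d j - c ≠ 0} := by
    have := Matrix.rank_diagonal (fun j => d j - c)
    rw [Matrix.rank] at this
    exact this
  have h4 : Module.finrank F (Fin n → F) = n := by simp
  have h5 : Fintype.card {j // ¬ (d j - c = 0)} =
      Fintype.card (Fin n) - Fintype.card {j // d j - c = 0} := Fintype.card_subtype_compl _
  have h6 : Fintype.card {j // d j - c = 0} ≤ Fintype.card (Fin n) := Fintype.card_subtype_le _
  have h7 : Nat.card {j // d j = c} = Fintype.card {j // d j - c = 0} := by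
    rw [Nat.card_eq_fintype_card]
    apply Fintype.card_congr
    exact Equiv.subtypeEquivRight (fun j => by rw [sub_eq_zero])
  rw [Fintype.card_fin] at h5 h6
  rw [h7]
  change Module.finrank F _ = Fintype.card {j // ¬ (d j - c = 0)} at h3
  omega

theorem finrank_ker_le {F V : Type*} [Field F] [AddCommGroup V] [Module F V]
    [FiniteDimensional F V] (f g E : Module.End F V) (hE : Function.Injective E)
    (h : ∀ v, f v = 0 → g (E v) = 0) :
    Module.finrank F (LinearMap.ker f) ≤ Module.finrank F (LinearMap.ker g) := by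
  calc Module.finrank F (LinearMap.ker f)
      = Module.finrank F ((LinearMap.ker f).map E) :=
        (Submodule.equivMapOfInjective E hE _).finrank_eq
    _ ≤ Module.finrank F (LinearMap.ker g) := by
        apply Submodule.finrank_mono
        rintro _ ⟨v, hv, rfl⟩
        exact LinearMap.mem_ker.mpr (h v (LinearMap.mem_ker.mp hv))

/-- conjugation invariance of eigenspace dimensions. -/
theorem finrank_ker_conj {F : Type*} [Field F] (n : ℕ) (A M P Q : Matrix (Fin n) (Fin n) F)
    (hQP : Q * P = 1) (hPQ : P * Q = 1) (ω : F) (hω : ω ≠ 0) (h : A * P = P * (ω • M)) (ζ : F) :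
    Module.finrank F (LinearMap.ker (Matrix.toLin' M - ζ • (1 : Module.End F (Fin n → F)))) =
    Module.finrank F (LinearMap.ker (Matrix.toLin' A -
      (ω * ζ) • (1 : Module.End F (Fin n → F)))) := by
  apply le_antisymm
  · apply finrank_ker_le _ _ (Matrix.toLin' P)
    · intro v w hvw
      have := congrArg (Matrix.toLin' Q) hvw
      simpa [Matrix.toLin'_apply, Matrix.mulVec_mulVec, hQP] using this
    · intro v hv
      have hv' : M.mulVec v = ζ • v := by
        have := hv
        simp only [LinearMap.sub_apply, Matrix.toLin'_apply, LinearMap.smul_apply,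
          Module.End.one_apply] at this
        exact sub_eq_zero.mp this
      simp only [LinearMap.sub_apply, Matrix.toLin'_apply, LinearMap.smul_apply,
        Module.End.one_apply, Matrix.mulVec_mulVec, h]
      rw [← Matrix.mulVec_mulVec, Matrix.smul_mulVec, hv', Matrix.mulVec_smul,
        Matrix.mulVec_smul, smul_smul, sub_self]
  · apply finrank_ker_le _ _ (Matrix.toLin' Q)
    · intro v w hvw
      have := congrArg (Matrix.toLin' P) hvw
      simpa [Matrix.toLin'_apply, Matrix.mulVec_mulVec, hPQ] using this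
    · intro v hv
      have hv' : A.mulVec v = (ω * ζ) • v := by
        have := hv
        simp only [LinearMap.sub_apply, Matrix.toLin'_apply, LinearMap.smul_apply,
          Module.End.one_apply] at this
        exact sub_eq_zero.mp this
      -- Q A = ω M Q
      have hQA : Q * A = (ω • M) * Q := by
        calc Q * A = Q * A * (P * Q) := by rw [hPQ, mul_one]
          _ = Q * (A * P) * Q := by simp only [mul_assoc]
          _ = Q * (P * (ω • M)) * Q := by rw [h]
          _ = (Q * P) * (ω • M) * Q := by simp only [mul_assoc]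
          _ = (ω • M) * Q := by rw [hQP, one_mul]
      have h1 : (ω • M).mulVec (Q.mulVec v) = (ω * ζ) • Q.mulVec v := by
        rw [Matrix.mulVec_mulVec, ← hQA, ← Matrix.mulVec_mulVec, hv', Matrix.mulVec_smul]
      have h2 : ω • (M.mulVec (Q.mulVec v)) = ω • (ζ • Q.mulVec v) := by
        rw [← Matrix.smul_mulVec, h1, smul_smul]
      have h3 : M.mulVec (Q.mulVec v) = ζ • Q.mulVec v := smul_right_injective _ hω h2
      simp only [LinearMap.sub_apply, Matrix.toLin'_apply, LinearMap.smul_apply,
        Module.End.one_apply]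
      rw [h3, sub_self]

end DIAGDER

open DIAGDER in
/-- DIAGDER (uses NEC, FROB) -/
theorem diag_derangement {F : Type*} [Field F] [Fintype F] (n : ℕ) (hn : 1 ≤ n) (F₀ : Subfield F)
    (r : ℕ) [Fact r.Prime] (hr0 : ¬ r ∣ Nat.card F₀ - 1)
    (ξ : F) (hξ : orderOf ξ = r) (μ : F) (e : Fin n → ZMod r)
    (hdet : μ ^ n * ξ ^ (∑ j, (e j).val) = 1)
    (hne : ∃ j j', e j ≠ e j')
    (hstar : ∀ a : ZMod r, ∃ b : ZMod r, Nat.card {j // e j = a + b} ≠
      Nat.card {j // e j = a + ((Nat.card F₀ : ℕ) : ZMod r) * b}) :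
    ∃ x : Matrix.SpecialLinearGroup (Fin n) F,
      (∃ z : F, ((x ^ r : Matrix.SpecialLinearGroup (Fin n) F) : Matrix (Fin n) (Fin n) F) =
        z • (1 : Matrix (Fin n) (Fin n) F)) ∧
      (∀ z : F, (x : Matrix (Fin n) (Fin n) F) ≠ z • (1 : Matrix (Fin n) (Fin n) F)) ∧
      ¬ ∃ P : Matrix.SpecialLinearGroup (Fin n) F, P⁻¹ * x * P ∈
        ((Cfsg.Geo.subfieldSubgroup F₀ 1).comap (Matrix.SpecialLinearGroup.toGL :
          Matrix.SpecialLinearGroup (Fin n) F →* GL (Fin n) F)) := by
  classical
  have hr : r.Prime := Fact.out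
  have hξr : ξ ^ r = 1 := by rw [← hξ]; exact pow_orderOf_eq_one ξ
  have hμ0 : μ ≠ 0 := by
    intro h
    rw [h, zero_pow (by omega : n ≠ 0), zero_mul] at hdet
    exact zero_ne_one hdet
  obtain ⟨d, hd⟩ : ∃ d : Fin n → F, d = fun j => μ * ξ ^ (e j).val := ⟨_, rfl⟩
  have hdetD : (Matrix.diagonal d).det = 1 := by
    rw [Matrix.det_diagonal, hd]
    simp only
    rw [Finset.prod_mul_distrib, Finset.prod_const, Finset.card_univ, Fintype.card_fin,
      Finset.prod_pow_eq_pow_sum]
    exact hdet
  -- exponent comparison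
  have hξ0 : ξ ≠ 0 := by
    intro h0
    rw [h0, zero_pow hr.ne_zero] at hξr
    exact zero_ne_one hξr
  have hexp : ∀ (j : Fin n) (m : ℕ), ξ ^ (e j).val = ξ ^ m ↔ e j = (m : ZMod r) := by
    intro j m
    have hu : orderOf (Units.mk0 ξ hξ0) = r := by
      rw [← orderOf_units, Units.val_mk0, hξ]
    have h1 : ξ ^ (e j).val = ξ ^ m ↔
        (Units.mk0 ξ hξ0) ^ (e j).val = (Units.mk0 ξ hξ0) ^ m := by
      constructor
      · intro h
        apply Units.ext
        rw [Units.val_pow_eq_pow_val, Units.val_pow_eq_pow_val, Units.val_mk0]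
        exact h
      · intro h
        have := congrArg Units.val h
        rwa [Units.val_pow_eq_pow_val, Units.val_pow_eq_pow_val, Units.val_mk0] at this
    rw [h1, pow_eq_pow_iff_modEq, hu, ← ZMod.natCast_eq_natCast_iff, ZMod.natCast_zmod_val]
  obtain ⟨x, hx⟩ : ∃ x : Matrix.SpecialLinearGroup (Fin n) F,
      (x : Matrix (Fin n) (Fin n) F) = Matrix.diagonal d := ⟨⟨Matrix.diagonal d, hdetD⟩, rfl⟩
  have hXr : (x : Matrix (Fin n) (Fin n) F) ^ r = μ ^ r • (1 : Matrix (Fin n) (Fin n) F) := by
    rw [hx, Matrix.diagonal_pow, Matrix.smul_one_eq_diagonal]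
    congr 1
    funext j
    rw [hd]
    simp only [Pi.pow_apply]
    rw [mul_pow, ← pow_mul, mul_comm (e j).val r, pow_mul, hξr, one_pow, mul_one]
  refine ⟨x, ⟨μ ^ r, ?_⟩, ?_, ?_⟩
  · rw [Matrix.SpecialLinearGroup.coe_pow]
    exact hXr
  · intro z hz
    obtain ⟨j, j', hjj'⟩ := hne
    rw [hx] at hz
    have h1 : d j = z := by
      have := congrFun (congrFun hz j) j
      simpa using this
    have h2 : d j' = z := by
      have := congrFun (congrFun hz j') j'
      simpa using this
    rw [hd] at h1 h2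
    simp only at h1 h2
    have h3 : ξ ^ (e j).val = ξ ^ (e j').val := mul_left_cancel₀ hμ0 (h1.trans h2.symm)
    rw [hexp j, ZMod.natCast_zmod_val] at h3
    exact hjj' h3
  · rintro ⟨P, hP⟩
    obtain ⟨ω, M₀, hω, hM₀, hxP⟩ := nec_of_conj_mem n hn F₀ r hr0 x P (μ ^ r) hXr hP
    rw [hx] at hxP
    have hprim : IsPrimitiveRoot ξ r := by
      have := IsPrimitiveRoot.orderOf ξ
      rwa [hξ] at this
    have hωμ : (ω / μ) ^ r = 1 := by
      rw [div_pow, hω, div_self (pow_ne_zero _ hμ0)]
    have : NeZero r := ⟨hr.ne_zero⟩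
    obtain ⟨a', ha'r, ha'⟩ := hprim.eq_pow_of_pow_eq_one hωμ
    have hωeq : ω = μ * ξ ^ a' := by
      rw [ha']; field_simp
    have hω0 : ω ≠ 0 := by
      rw [hωeq]
      exact mul_ne_zero hμ0 (pow_ne_zero _ hξ0)
    -- matrices of P and its inverse
    obtain ⟨Pm, hPm⟩ : ∃ Pm : Matrix (Fin n) (Fin n) F, Pm = (P : Matrix (Fin n) (Fin n) F) :=
      ⟨_, rfl⟩
    obtain ⟨Qm, hQm⟩ : ∃ Qm : Matrix (Fin n) (Fin n) F,
      Qm = ((P⁻¹ : Matrix.SpecialLinearGroup (Fin n) F) : Matrix (Fin n) (Fin n) F) := ⟨_, rfl⟩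
    have hQP : Qm * Pm = 1 := by
      rw [hQm, hPm, ← Matrix.SpecialLinearGroup.coe_mul, inv_mul_cancel,
        Matrix.SpecialLinearGroup.coe_one]
    have hPQ : Pm * Qm = 1 := by
      rw [hQm, hPm, ← Matrix.SpecialLinearGroup.coe_mul, mul_inv_cancel,
        Matrix.SpecialLinearGroup.coe_one]
    rw [← hPm] at hxP
    -- the key count
    have key : ∀ k : ℕ, Module.finrank F (LinearMap.ker
        (Matrix.toLin' (M₀.map F₀.subtype) - (ξ ^ k) • (1 : Module.End F (Fin n → F)))) =
        Nat.card {j // e j = ((a' + k : ℕ) : ZMod r)} := by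
      intro k
      rw [finrank_ker_conj n (Matrix.diagonal d) (M₀.map F₀.subtype) Pm Qm hQP hPQ ω hω0 hxP,
        finrank_ker_diag]
      apply Nat.card_congr
      apply Equiv.subtypeEquivRight
      intro j
      rw [hd, hωeq]
      simp only
      rw [mul_assoc, ← pow_add, mul_right_inj' hμ0, hexp]
    obtain ⟨bb, hbb⟩ := hstar (a' : ZMod r)
    apply hbb
    have e1 := key bb.val
    have e2 := key (bb.val * Nat.card F₀)
    have e3 := finrank_ker_frobenius F₀ n M₀ (ξ ^ bb.val)
    rw [← pow_mul] at e3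
    rw [e1, e2] at e3
    have c1 : ((a' + bb.val : ℕ) : ZMod r) = (a' : ZMod r) + bb := by
      rw [Nat.cast_add, ZMod.natCast_zmod_val]
    have c2 : ((a' + bb.val * Nat.card F₀ : ℕ) : ZMod r) =
        (a' : ZMod r) + ((Nat.card F₀ : ℕ) : ZMod r) * bb := by
      rw [Nat.cast_add, Nat.cast_mul, ZMod.natCast_zmod_val, mul_comm]
    rw [c1, c2] at e3
    exact e3

end Cfsg.Agent.S5965P
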