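import Mathlib
import Cfsg.Prelude.Def_LocalEven
import Cfsg.Agent.Helper26.FusionPStable
import Cfsg.Agent.Helper26.PStableQuot
import Cfsg.Agent.S5076
import Cfsg.Agent.Helper25.FusionGroup
import Cfsg.Agent.Helper25.FusionGroup2

set_option autoImplicit false
set_option linter.style.haveILetI false
set_option linter.unusedSectionVars false
set_option linter.unusedVariables false

/-! # `p`-stability of a group in the normalizer form and of its fusion system -/

namespace Cfsg.Agent.Helper26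

open Cfsg Cfsg.FusionSystem Cfsg.Agent.Helper25 Subgroup
open scoped commutatorElement

universe u

variable {G : Type u} [Group G]

/-- `Aut_G(Q)` -/
def autG (Q : Subgroup G) : Subgroup (MulAut Q) := Q.normalizerMonoidHom.range

/-- group `p`-stability at `Q`, in terms of automorphisms -/
def GStableAt (p : ℕ) (Q : Subgroup G) : Prop :=
  ∀ χ : MulAut Q, χ ∈ autG Q → (∀ a : Q, (χ a⁻¹) * a * (χ a⁻¹) * (χ (χ a)) = 1) →
    χ ∈ ((Cfsg.pCore p (autG Q)).map (autG Q).subtype : Subgroup (MulAut Q))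

theorem mk_mem_pCore_iff (p : ℕ) (Q : Subgroup G) (n : normalizer (Q : Set G)) :
    (QuotientGroup.mk (s := (centralizer (Q : Set G)).subgroupOf (normalizer (Q : Set G))) n) ∈
      Cfsg.pCore p (↥(normalizer (Q : Set G)) ⧸
        (centralizer (Q : Set G)).subgroupOf (normalizer (Q : Set G))) ↔
    Q.normalizerMonoidHom n ∈ ((Cfsg.pCore p (autG Q)).map (autG Q).subtype :
      Subgroup (MulAut Q)) := by
  let e : (↥(normalizer (Q : Set G)) ⧸
      (centralizer (Q : Set G)).subgroupOf (normalizer (Q : Set G))) ≃* autG Q :=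
    (QuotientGroup.quotientMulEquivOfEq (normalizerMonoidHom_ker (H := Q)).symm).trans
      (QuotientGroup.quotientKerEquivRange Q.normalizerMonoidHom)
  have he : ∀ m : normalizer (Q : Set G),
      ((e (QuotientGroup.mk m) : autG Q) : MulAut Q) = Q.normalizerMonoidHom m := fun m => rfl
  rw [← mem_pCore_equiv p e]
  constructor
  · intro h
    exact ⟨e (QuotientGroup.mk n), h, he n⟩
  · rintro ⟨b, hb, hbn⟩
    have h1 : b = e (QuotientGroup.mk n) := Subtype.ext (hbn.trans (he n).symm)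
    rwa [← h1]

theorem comm_comm_eq (a g : G) :
    ⁅⁅a, g⁆, g⁆ = a * (g * a⁻¹ * g⁻¹) * (g * (g * a * g⁻¹) * g⁻¹) * (g * a⁻¹ * g⁻¹) := by
  simp only [commutatorElement_def]
  group

theorem quad_iff {Q : Subgroup G} (n : normalizer (Q : Set G)) :
    ⁅⁅Q, zpowers (n : G)⁆, zpowers (n : G)⁆ = ⊥ ↔
      ∀ a : Q, (Q.normalizerMonoidHom n) a⁻¹ * a * (Q.normalizerMonoidHom n) a⁻¹ *
        (Q.normalizerMonoidHom n) ((Q.normalizerMonoidHom n) a) = 1 := by
  have key : ∀ a : Q, ((Q.normalizerMonoidHom n) a⁻¹ * a * (Q.normalizerMonoidHom n) a⁻¹ *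
        (Q.normalizerMonoidHom n) ((Q.normalizerMonoidHom n) a) = 1) ↔
        ⁅⁅(a : G), (n : G)⁆, (n : G)⁆ = 1 := by
    intro a
    rw [comm_comm_eq, ← Subtype.coe_inj]
    have h1 : (((Q.normalizerMonoidHom n) a⁻¹ * a * (Q.normalizerMonoidHom n) a⁻¹ *
        (Q.normalizerMonoidHom n) ((Q.normalizerMonoidHom n) a) : Q) : G) =
        ((n : G) * (a : G)⁻¹ * (n : G)⁻¹) * a * ((n : G) * (a : G)⁻¹ * (n : G)⁻¹) *
          ((n : G) * ((n : G) * a * (n : G)⁻¹) * (n : G)⁻¹) := rfl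
    rw [h1, Subgroup.coe_one]
    constructor
    · intro h
      have : (a : G) * ((n : G) * (a : G)⁻¹ * (n : G)⁻¹) *
          ((n : G) * ((n : G) * a * (n : G)⁻¹) * (n : G)⁻¹) * ((n : G) * (a : G)⁻¹ * (n : G)⁻¹) =
          ((n : G) * (a : G)⁻¹ * (n : G)⁻¹)⁻¹ * (((n : G) * (a : G)⁻¹ * (n : G)⁻¹) * a *
            ((n : G) * (a : G)⁻¹ * (n : G)⁻¹) *
            ((n : G) * ((n : G) * a * (n : G)⁻¹) * (n : G)⁻¹)) *
            ((n : G) * (a : G)⁻¹ * (n : G)⁻¹) := by group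
      rw [this, h]
      group
    · intro h
      have : ((n : G) * (a : G)⁻¹ * (n : G)⁻¹) * a * ((n : G) * (a : G)⁻¹ * (n : G)⁻¹) *
          ((n : G) * ((n : G) * a * (n : G)⁻¹) * (n : G)⁻¹) =
          ((n : G) * (a : G)⁻¹ * (n : G)⁻¹) * ((a : G) * ((n : G) * (a : G)⁻¹ * (n : G)⁻¹) *
          ((n : G) * ((n : G) * a * (n : G)⁻¹) * (n : G)⁻¹) * ((n : G) * (a : G)⁻¹ * (n : G)⁻¹)) *
            ((n : G) * (a : G)⁻¹ * (n : G)⁻¹)⁻¹ := by group
      rw [this, h]
      group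
  constructor
  · intro h a
    rw [key]
    have h1 : ⁅⁅(a : G), (n : G)⁆, (n : G)⁆ ∈ ⁅⁅Q, zpowers (n : G)⁆, zpowers (n : G)⁆ :=
      commutator_mem_commutator (commutator_mem_commutator a.2 (mem_zpowers _)) (mem_zpowers _)
    rw [h, mem_bot] at h1
    exact h1
  · intro h
    have h' : ∀ a ∈ Q, ⁅⁅a, (n : G)⁆, (n : G)⁆ = 1 := fun a ha => (key ⟨a, ha⟩).mp (h ⟨a, ha⟩)
    rw [commutator_eq_bot_iff_le_centralizer, commutator_le]
    intro a ha z hz
    obtain ⟨i, rfl⟩ := mem_zpowers_iff.mp hz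
    have hcomm : Commute ⁅a, (n : G)⁆ (n : G) := by
      have := h' a ha
      rw [commutatorElement_eq_one_iff_commute] at this
      exact this
    have ht : Commute (a * (n : G) * a⁻¹) (n : G) := by
      have h2 : a * (n : G) * a⁻¹ = ⁅a, (n : G)⁆ * (n : G) := by
        rw [commutatorElement_def]; group
      rw [h2]
      exact hcomm.mul_left (Commute.refl _)
    have h3 : ⁅a, (n : G) ^ i⁆ = ⁅a, (n : G)⁆ ^ i := by
      have h4 : ⁅a, (n : G)⁆ = (a * (n : G) * a⁻¹) * (n : G)⁻¹ := by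
        rw [commutatorElement_def]
      rw [h4, (ht.inv_right).mul_zpow, commutatorElement_def, conj_zpow, inv_zpow]
    rw [h3]
    apply zpow_mem
    rw [mem_centralizer_iff]
    intro y hy
    obtain ⟨j, rfl⟩ := mem_zpowers_iff.mp hy
    exact ((hcomm.zpow_right j).eq).symm

theorem pCore_map_map_equiv {X Y : Type*} [Group X] [Group Y] (p : ℕ) (E : X ≃* Y)
    (A : Subgroup X) :
    (Cfsg.pCore p (A.map (E : X →* Y))).map (A.map (E : X →* Y)).subtype =
      ((Cfsg.pCore p A).map A.subtype).map (E : X →* Y) := by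
  have h1 : (Cfsg.pCore p A).map (E.subgroupMap A).toMonoidHom =
      Cfsg.pCore p (A.map (E : X →* Y)) := Cfsg.Agent.Helper14.pCore_map_equiv p (E.subgroupMap A)
  have hcomm : (A.map (E : X →* Y)).subtype.comp (E.subgroupMap A).toMonoidHom =
      (E : X →* Y).comp A.subtype := by
    ext a
    rfl
  rw [← h1, Subgroup.map_map, hcomm, ← Subgroup.map_map]

theorem congr_apply_equiv {X Y : Type*} [Group X] [Group Y] (e : X ≃* Y) (χ : MulAut X) (y : X) :
    MulAut.congr e χ (e y) = e (χ y) := by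
  simp [MulAut.congr]

/-- conjugation by `h` as an isomorphism `Q ≃ hQh⁻¹` -/
def conjEquiv (Q : Subgroup G) (h : G) : Q ≃* cj Q h := (MulAut.conj h).subgroupMap Q

theorem conjEquiv_coe (Q : Subgroup G) (h : G) (x : Q) :
    ((conjEquiv Q h x : cj Q h) : G) = h * x * h⁻¹ := rfl

theorem autG_map_conj (Q : Subgroup G) (h : G) :
    (autG Q).map ((MulAut.congr (conjEquiv Q h) : MulAut Q ≃* MulAut (cj Q h)) :
      MulAut Q →* MulAut (cj Q h)) = autG (cj Q h) := by
  have hN := normalizer_cj Q h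
  have key : ∀ (n : normalizer (Q : Set G)) (m : normalizer ((cj Q h : Subgroup G) : Set G)),
      (m : G) = h * n * h⁻¹ →
      MulAut.congr (conjEquiv Q h) (Q.normalizerMonoidHom n) = (cj Q h).normalizerMonoidHom m := by
    intro n m hm
    ext y
    obtain ⟨x, rfl⟩ := (conjEquiv Q h).surjective y
    rw [congr_apply_equiv]
    show h * ((n : G) * x * (n : G)⁻¹) * h⁻¹ = (m : G) * (h * x * h⁻¹) * (m : G)⁻¹
    rw [hm]
    group
  apply le_antisymm
  · rintro _ ⟨_, ⟨n, rfl⟩, rfl⟩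
    have hm : h * (n : G) * h⁻¹ ∈ normalizer ((cj Q h : Subgroup G) : Set G) := by
      rw [hN]
      exact conj_mem_cj n.2
    exact ⟨⟨_, hm⟩, (key n ⟨_, hm⟩ rfl).symm⟩
  · rintro _ ⟨m, rfl⟩
    have hn : h⁻¹ * (m : G) * h ∈ normalizer (Q : Set G) := by
      have h7 : (m : G) ∈ cj (normalizer (Q : Set G)) h := hN.le m.2
      exact mem_cj.mp h7
    refine ⟨_, ⟨⟨_, hn⟩, rfl⟩, ?_⟩
    apply key
    show (m : G) = h * (h⁻¹ * (m : G) * h) * h⁻¹
    group

theorem gStableAt_of_conj (p : ℕ) (Q : Subgroup G) (h : G) (hst : GStableAt p (cj Q h)) :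
    GStableAt p Q := by
  intro χ hχ hquad
  set e := conjEquiv Q h with he
  have h1 : MulAut.congr e χ ∈ autG (cj Q h) := by
    rw [← autG_map_conj]
    exact ⟨χ, hχ, rfl⟩
  have h2 : ∀ b : cj Q h, (MulAut.congr e χ b⁻¹) * b * (MulAut.congr e χ b⁻¹) *
      (MulAut.congr e χ (MulAut.congr e χ b)) = 1 := by
    intro b
    obtain ⟨a, rfl⟩ := e.surjective b
    rw [← map_inv, congr_apply_equiv, congr_apply_equiv, congr_apply_equiv, ← map_mul,
      ← map_mul, ← map_mul, hquad a, map_one]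
  have h4 := hst _ h1 h2
  have h5 : (Cfsg.pCore p (autG (cj Q h))).map (autG (cj Q h)).subtype =
      ((Cfsg.pCore p (autG Q)).map (autG Q).subtype).map
        ((MulAut.congr e : MulAut Q ≃* MulAut (cj Q h)) : MulAut Q →* MulAut (cj Q h)) := by
    rw [← pCore_map_map_equiv, autG_map_conj]
  rw [h5] at h4
  obtain ⟨ψ, hψ, hψχ⟩ := h4
  have h6 : ψ = χ := (MulAut.congr e).injective hψχ
  rw [← h6]
  exact hψ

theorem isNormalizerPStable_iff (p : ℕ) :
    Cfsg.IsNormalizerPStable p G ↔ ∀ Q : Subgroup G, IsPGroup p Q → GStableAt p Q := by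
  constructor
  · intro h Q hQ χ hχ hquad
    obtain ⟨n, rfl⟩ := hχ
    rw [← mk_mem_pCore_iff]
    exact h Q hQ n n.2 ((quad_iff n).mpr hquad)
  · intro h Q hQ g hg hquad
    rw [mk_mem_pCore_iff]
    exact h Q hQ _ ⟨⟨g, hg⟩, rfl⟩ ((quad_iff ⟨g, hg⟩).mp hquad)

theorem autG_eq_autGroup {S Q : Subgroup G} (hQ : Q ≤ S) :
    autG Q = (groupFusionSystem S).autGroup Q := by
  rw [Cfsg.Agent.S5076.autGroup_groupFusion S Q hQ, autInducedBy_eq_map]
  unfold autG
  rw [MonoidHom.range_eq_map]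
  congr 1

theorem gStableAt_iff_pStableAt (p : ℕ) {S Q : Subgroup G} (hQ : Q ≤ S) :
    GStableAt p Q ↔ PStableAt (groupFusionSystem S) p Q := by
  unfold GStableAt PStableAt
  rw [autG_eq_autGroup hQ]

/-- S5246 -/
theorem isNormalizerPStable_iff_fusion [Finite G] (p : ℕ) [Fact p.Prime] (P : Sylow p G) :
    Cfsg.IsNormalizerPStable p G ↔
      ∀ Q : Subgroup G, (groupFusionSystem (P : Subgroup G)).IsFullyNormalized Q →
        PStableAt (groupFusionSystem (P : Subgroup G)) p Q := by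
  rw [isNormalizerPStable_iff]
  constructor
  · intro h Q hQ
    rw [← gStableAt_iff_pStableAt p hQ.1]
    exact h Q (P.isPGroup'.to_le hQ.1)
  · intro h Q hQ
    obtain ⟨R, hR⟩ := hQ.exists_le_sylow
    obtain ⟨g, hg⟩ := MulAction.exists_smul_eq G R P
    have hle : cj Q g ≤ (P : Subgroup G) := by
      rw [← hg]
      rintro _ ⟨x, hx, rfl⟩
      rw [Sylow.coe_subgroup_smul]
      exact ⟨x, hR hx, rfl⟩
    apply gStableAt_of_conj p Q g
    rw [gStableAt_iff_pStableAt p hle]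
    exact pStableAt_all _ p h _ hle

end Cfsg.Agent.Helper26
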