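import Mathlib
import Cfsg.Prelude.Def_Classical
import Cfsg.Agent.Helper21.S2549Defs

/-!
# S2549, piece EXTSC : extension of scalars of an isometry of `quadFormMinus`, any characteristic

A quadratic map `v ↦ vᵀ A v` over `F` is determined by its values on `e_c` and `e_c + e_c'`; so
if `Mᵀ A M` and `A` define the same quadratic map over `F`, they do so over every `F`-algebra.
-/

set_option autoImplicit false
set_option linter.unusedSectionVars false
open scoped Matrix
namespace Cfsg.Agent.S2549P
namespace EXTSC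

section generic
variable {ι : Type*} [Fintype ι] [DecidableEq ι]

/-- the quadratic map with coefficient matrix `A` -/
def qf {R : Type*} [CommRing R] (A : Matrix ι ι R) (v : ι → R) : R := v ⬝ᵥ (A *ᵥ v)

theorem qf_mulVec {R : Type*} [CommRing R] (A M : Matrix ι ι R) (v : ι → R) :
    qf A (M *ᵥ v) = qf (Mᵀ * A * M) v := by
  unfold qf
  rw [← Matrix.mulVec_mulVec, ← Matrix.mulVec_mulVec, Matrix.dotProduct_mulVec v Mᵀ,
    Matrix.vecMul_transpose]

theorem qf_eq_sum {R : Type*} [CommRing R] (A : Matrix ι ι R) (v : ι → R) :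
    qf A v = ∑ x : ι × ι, A x.1 x.2 * v x.1 * v x.2 := by
  unfold qf
  simp only [dotProduct, Matrix.mulVec, Finset.mul_sum]
  rw [Fintype.sum_prod_type]
  refine Finset.sum_congr rfl (fun i _ => Finset.sum_congr rfl (fun j _ => by ring))

theorem qf_add {R : Type*} [CommRing R] (A : Matrix ι ι R) (u w : ι → R) :
    qf A (u + w) = qf A u + qf A w + (u ⬝ᵥ (A *ᵥ w) + w ⬝ᵥ (A *ᵥ u)) := by
  unfold qf
  rw [Matrix.mulVec_add, dotProduct_add, add_dotProduct, add_dotProduct]
  ring

theorem qf_map_eq_zero {F K : Type*} [CommRing F] [CommRing K] (inc : F →+* K)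
    (D : Matrix ι ι F) (hD : ∀ v : ι → F, qf D v = 0) (v : ι → K) : qf (D.map inc) v = 0 := by
  have hdiag : ∀ c, D c c = 0 := by
    intro c
    have := hD (Pi.single c 1)
    simpa [qf, Matrix.mulVec_single_one, single_one_dotProduct] using this
  have hoff : ∀ c c', D c c' + D c' c = 0 := by
    intro c c'
    have h1 := hD (Pi.single c 1 + Pi.single c' 1)
    rw [qf_add, hD, hD] at h1
    simpa [Matrix.mulVec_single_one, single_one_dotProduct] using h1
  rw [qf_eq_sum]
  apply Finset.sum_ninvolution Prod.swap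
  · rintro ⟨c, c'⟩
    simp only [Matrix.map_apply, Prod.swap_prod_mk]
    have := congrArg inc (hoff c c')
    rw [map_add, map_zero] at this
    linear_combination (v c * v c') * this
  · rintro ⟨c, c'⟩ hne heq
    simp only [Prod.swap_prod_mk, Prod.mk.injEq] at heq
    apply hne
    simp only [Matrix.map_apply]
    rw [heq.1, hdiag, map_zero, zero_mul, zero_mul]
  · intro x; exact Finset.mem_univ _
  · intro x; exact Prod.swap_swap x

theorem qf_map_congr {F K : Type*} [CommRing F] [CommRing K] (inc : F →+* K)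
    (A T : Matrix ι ι F) (h : ∀ v : ι → F, qf T v = qf A v) (v : ι → K) :
    qf (T.map inc) v = qf (A.map inc) v := by
  have hD : ∀ w : ι → F, qf (T - A) w = 0 := by
    intro w
    have := h w
    unfold qf at this ⊢
    rw [Matrix.sub_mulVec, dotProduct_sub, this, sub_self]
  have := qf_map_eq_zero inc (T - A) hD v
  unfold qf at this ⊢
  have hms : (T - A).map inc = T.map inc - A.map inc := by
    ext i j
    simp
  rw [hms, Matrix.sub_mulVec, dotProduct_sub, sub_eq_zero] at this
  exact this

end generic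

/-- coefficient matrix of `quadFormMinus` -/
def AQ (m : ℕ) {R : Type*} [CommRing R] (a b : R) : Matrix (Idx m) (Idx m) R :=
  Matrix.fromBlocks (Matrix.fromBlocks 0 1 0 0) 0 0 !![1, a; 0, b]

theorem quadFormMinus_eq_qf (m : ℕ) {R : Type*} [Field R] (a b : R) (v : Idx m → R) :
    Cfsg.quadFormMinus m R a b v = qf (AQ m a b) v := by
  unfold qf AQ Cfsg.quadFormMinus
  simp only [dotProduct, Fintype.sum_sum_type, Matrix.fromBlocks_mulVec, Sum.elim_inl, Sum.elim_inr,
    Matrix.zero_mulVec, Matrix.one_mulVec, Pi.zero_apply, add_zero, zero_add,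
    Fin.sum_univ_two, Function.comp_apply, mul_zero, Finset.sum_const_zero]
  simp [Matrix.mulVec, dotProduct, Fin.sum_univ_two]
  ring

theorem AQ_map (m : ℕ) {F K : Type*} [CommRing F] [CommRing K] (inc : F →+* K) (a b : F) :
    (AQ m a b).map inc = AQ m (inc a) (inc b) := by
  unfold AQ
  rw [Matrix.fromBlocks_map, Matrix.fromBlocks_map]
  congr 1
  · congr 1 <;> simp
  · simp
  · simp
  · ext i j
    fin_cases i <;> fin_cases j <;> simp

end EXTSC

variable {F : Type*} [Field F] {a b : F} {K : Type*} [Field K]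

open EXTSC in
/-- extension of scalars of an isometry (any characteristic) -/
theorem quadFormMinus_map_mulVec (E : QExt F a b K) (m : ℕ) (g : OG m F a b) (v : Idx m → K) :
    Cfsg.quadFormMinus m K (E.inc a) (E.inc b)
      ((((g : Matrix.GeneralLinearGroup (Idx m) F) : Matrix (Idx m) (Idx m) F).map E.inc) *ᵥ v) =
      Cfsg.quadFormMinus m K (E.inc a) (E.inc b) v := by
  set M : Matrix (Idx m) (Idx m) F :=
    ((g : Matrix.GeneralLinearGroup (Idx m) F) : Matrix (Idx m) (Idx m) F) with hM
  have hg : ∀ u : Idx m → F,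
      Cfsg.quadFormMinus m F a b (M *ᵥ u) = Cfsg.quadFormMinus m F a b u := fun u => g.2 u u
  rw [quadFormMinus_eq_qf, quadFormMinus_eq_qf, qf_mulVec, ← AQ_map m E.inc a b]
  have h1 : (M.map E.inc)ᵀ * (AQ m a b).map E.inc * M.map E.inc =
      (Mᵀ * AQ m a b * M).map E.inc := by
    rw [Matrix.map_mul, Matrix.map_mul, Matrix.transpose_map]
  rw [h1]
  apply qf_map_congr
  intro u
  rw [← qf_mulVec, ← quadFormMinus_eq_qf, ← quadFormMinus_eq_qf]
  exact hg u

end Cfsg.Agent.S2549P
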