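import Mathlib
import Cfsg.Agent.Helper16.S64Defs

set_option autoImplicit false

/-! Piece A of the S3157 drive: the standard consequences of a fixed-point-free automorphism of
order 3 of a finite group. -/

open scoped commutatorElement
open Cfsg.Agent.Helper16.S64

namespace Cfsg.Agent.Helper26.S64

variable {T : Type*} [Group T] [Finite T] {ρ x : MulAut T}

omit [Finite T] in
theorem twist_injective (h : Fpf3 ρ) : Function.Injective (fun t : T => t⁻¹ * ρ t) := by
  intro t u htu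
  have htu' : t⁻¹ * ρ t = u⁻¹ * ρ u := htu
  have h1 : ρ (u * t⁻¹) = u * t⁻¹ := by
    rw [map_mul, map_inv]
    have e : ρ u = u * (t⁻¹ * ρ t) := by rw [htu']; group
    rw [e]; group
  have := h.fpf _ h1
  exact (mul_inv_eq_one.mp this).symm

theorem twist_surjective (h : Fpf3 ρ) : Function.Surjective (fun t : T => t⁻¹ * ρ t) :=
  Finite.injective_iff_surjective.mp (twist_injective h)

theorem prod_of_fpf3 (h : Fpf3 ρ) (s : T) : s * ρ s * ρ (ρ s) = 1 := by
  obtain ⟨t, rfl⟩ := twist_surjective h s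
  show t⁻¹ * ρ t * ρ (t⁻¹ * ρ t) * ρ (ρ (t⁻¹ * ρ t)) = 1
  simp only [map_mul, map_inv, h.cube]
  group

theorem comm_of_fpf3 (h : Fpf3 ρ) (s : T) : s * ρ s = ρ s * s := by
  have h1 := prod_of_fpf3 h s
  have h2 := prod_of_fpf3 h s⁻¹
  simp only [map_inv] at h2
  -- ρρs = (s ρs)⁻¹ and ρρs = (ρs s)⁻¹
  have e1 : ρ (ρ s) = (s * ρ s)⁻¹ := eq_inv_of_mul_eq_one_right h1
  have h3 : ρ (ρ s) * ρ s * s = 1 := by
    have := congrArg (fun g => g⁻¹) h2
    simp only [mul_inv_rev, inv_inv, inv_one] at this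
    rw [← mul_assoc] at this
    exact this
  have e2 : ρ (ρ s) = (ρ s * s)⁻¹ := by
    rw [mul_assoc] at h3
    exact eq_inv_of_mul_eq_one_left h3
  have := e1.symm.trans e2
  exact inv_injective this

theorem coset_of_fpf3 (h : Fpf3 ρ) (N : Subgroup T) (hN : ∀ n ∈ N, ρ n ∈ N) (t : T)
    (ht : t⁻¹ * ρ t ∈ N) : t ∈ N := by
  -- the twist restricted to `N`
  let f : ↥N → ↥N := fun n => ⟨(n : T)⁻¹ * ρ n, N.mul_mem (N.inv_mem n.2) (hN n n.2)⟩
  have hf : Function.Injective f := by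
    intro a b hab
    apply Subtype.ext
    apply twist_injective h
    exact congrArg Subtype.val hab
  have hs : Function.Surjective f := Finite.injective_iff_surjective.mp hf
  obtain ⟨n, hn⟩ := hs ⟨t⁻¹ * ρ t, ht⟩
  have h1 : (n : T)⁻¹ * ρ n = t⁻¹ * ρ t := congrArg Subtype.val hn
  have h2 : (n : T) = t := twist_injective h h1
  rw [← h2]
  exact n.2

theorem card_mod_of_fpf3 (h : Fpf3 ρ) (N : Subgroup T) (hN : ∀ n ∈ N, ρ n ∈ N) :
    Nat.card N % 3 = 1 := by
  classical
  haveI : Fintype ↥N := Fintype.ofFinite _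
  haveI : Fact (Nat.Prime 3) := ⟨Nat.prime_three⟩
  let f : Function.End ↥N := fun n => ⟨ρ n, hN n n.2⟩
  have hf : f ^ 3 ^ 1 = 1 := by
    funext n
    apply Subtype.ext
    show ρ (ρ (ρ (n : T))) = n
    exact h.cube _
  have h1 := Equiv.Perm.card_fixedPoints_modEq (f := f) (p := 3) (n := 1) hf
  have h2 : Fintype.card (Function.fixedPoints f) = 1 := by
    rw [Fintype.card_eq_one_iff]
    refine ⟨⟨1, ?_⟩, ?_⟩
    · show f 1 = 1
      apply Subtype.ext
      show ρ ((1 : ↥N) : T) = ((1 : ↥N) : T)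
      simp
    · rintro ⟨n, hn⟩
      apply Subtype.ext
      have h3 : f n = n := hn
      have h4 : ρ (n : T) = n := congrArg Subtype.val h3
      exact Subtype.ext (h.fpf _ h4)
  rw [h2] at h1
  rw [Nat.card_eq_fintype_card]
  exact h1

/-- **Piece A.** -/
theorem fpf3Facts_of_fpf3 (h : Fpf3 ρ) : Fpf3Facts ρ :=
  { cube := h.cube
    fpf := h.fpf
    prod := prod_of_fpf3 h
    comm := comm_of_fpf3 h
    coset := coset_of_fpf3 h
    card_mod := card_mod_of_fpf3 h }

end Cfsg.Agent.Helper26.S64
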