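import Mathlib
import Cfsg.Agent.Helper16.S64Defs

set_option autoImplicit false

/-! Piece C of the S3157 drive: the class-two commutator calculus. -/

open scoped commutatorElement
open Cfsg.Agent.Helper16.S64

namespace Cfsg.Agent.Helper26.S64

variable {T : Type*} [Group T] [Finite T] {ρ x : MulAut T}

section calculus

variable (hc : ∀ s t u : T, ⁅s, t⁆ * u = u * ⁅s, t⁆)
include hc

omit [Finite T] in
theorem c_mul_left (a b c : T) : ⁅a * b, c⁆ = ⁅a, c⁆ * ⁅b, c⁆ := by
  have e : ⁅a * b, c⁆ = a * ⁅b, c⁆ * a⁻¹ * ⁅a, c⁆ := by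
    simp only [commutatorElement_def]; group
  rw [e, ← hc b c a, mul_inv_cancel_right, hc]

omit [Finite T] in
theorem c_mul_right (a b c : T) : ⁅a, b * c⁆ = ⁅a, b⁆ * ⁅a, c⁆ := by
  have e : ⁅a, b * c⁆ = ⁅a, b⁆ * (b * ⁅a, c⁆ * b⁻¹) := by
    simp only [commutatorElement_def]; group
  rw [e, ← hc a c b, mul_inv_cancel_right]

omit [Finite T] hc in
theorem c_self (a : T) : ⁅a, a⁆ = 1 := commutatorElement_self a

omit [Finite T] hc in
theorem c_eq_one_of_comm {a b : T} (h : a * b = b * a) : ⁅a, b⁆ = 1 := by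
  rw [commutatorElement_eq_one_iff_mul_comm]; exact h

omit [Finite T] in
theorem c_sq_mul (s t : T) : (s * t) * (s * t) = (s * s) * (t * t) * ⁅t, s⁆ := by
  have e : (s * t) * (s * t) = s * (⁅t, s⁆ * s * t) * t := by
    simp only [commutatorElement_def]; group
  rw [e, ← mul_assoc, ← mul_assoc, ← hc t s s, ← hc t s (s * s * (t * t))]
  group

end calculus

/-- **Piece C.** -/
theorem cl2Facts (h : Fpf3Facts ρ) (hZ : Nat.card (Subgroup.center T) = 4)
    (hc : ∀ s t u : T, ⁅s, t⁆ * u = u * ⁅s, t⁆) : Cl2Facts ρ := by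
  classical
  have hcen : ∀ s t : T, ⁅s, t⁆ ∈ Subgroup.center T := fun s t =>
    Subgroup.mem_center_iff.mpr (fun g => (hc s t g).symm)
  have hml := c_mul_left hc
  have hmr := c_mul_right hc
  have hinv : ∀ a b : T, ⁅a, b⁆⁻¹ = ⁅b, a⁆ := fun a b => commutatorElement_inv a b
  have hrr : ∀ s t : T, ⁅ρ s, ρ t⁆ = ρ ⁅s, t⁆ := fun s t => (map_commutatorElement ρ s t).symm
  -- polarisation
  have hself : ∀ s : T, ⁅s, ρ s⁆ = 1 := fun s => c_eq_one_of_comm (h.comm s)
  have hpol : ∀ s t : T, ⁅ρ s, t⁆ = ⁅s, ρ t⁆ := by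
    intro s t
    have h1 : ⁅s * t, ρ (s * t)⁆ = 1 := hself (s * t)
    rw [map_mul, hml, hmr, hmr, hself s, hself t, one_mul, mul_one] at h1
    -- h1 : ⁅s, ρ t⁆ * ⁅t, ρ s⁆ = 1
    have h2 : ⁅s, ρ t⁆ = ⁅t, ρ s⁆⁻¹ := eq_inv_of_mul_eq_one_left h1
    rw [h2, hinv]
  have hrl : ∀ s t : T, ⁅ρ s, t⁆ = ρ (ρ ⁅s, t⁆) := by
    intro s t
    -- ⁅ρρ s', t⁆ = ρ ⁅s', t⁆ for all s'
    have h1 : ∀ s' : T, ⁅ρ (ρ s'), t⁆ = ρ ⁅s', t⁆ := fun s' => by rw [hpol, hrr]
    have h2 := h1 (ρ s)
    rw [h.cube] at h2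
    -- h2 : ⁅s, t⁆ = ρ ⁅ρ s, t⁆
    rw [h2, h.cube]
  have hrt : ∀ s t : T, ⁅s, ρ t⁆ = ρ (ρ ⁅s, t⁆) := fun s t => by rw [← hpol, hrl]
  -- the centre has exponent two
  have hcsq : ∀ z ∈ Subgroup.center T, z * z = 1 := by
    let Om : Subgroup T :=
      { carrier := {z | z ∈ Subgroup.center T ∧ z * z = 1}
        mul_mem' := by
          rintro a b ⟨ha, ha2⟩ ⟨hb, hb2⟩
          refine ⟨Subgroup.mul_mem _ ha hb, ?_⟩
          have hab : b * a = a * b := (Subgroup.mem_center_iff.mp ha b)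
          calc a * b * (a * b) = a * (b * a) * b := by group
            _ = a * (a * b) * b := by rw [hab]
            _ = (a * a) * (b * b) := by group
            _ = 1 := by rw [ha2, hb2, one_mul]
        one_mem' := ⟨Subgroup.one_mem _, one_mul 1⟩
        inv_mem' := by
          rintro a ⟨ha, ha2⟩
          refine ⟨Subgroup.inv_mem _ ha, ?_⟩
          rw [← mul_inv_rev, ha2, inv_one] }
    have hOmρ : ∀ n ∈ Om, ρ n ∈ Om := by
      rintro n ⟨hn, hn2⟩
      refine ⟨?_, ?_⟩
      · rw [Subgroup.mem_center_iff]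
        intro g
        have h1 := Subgroup.mem_center_iff.mp hn (ρ.symm g)
        have h2 := congrArg ρ h1
        simpa using h2
      · rw [← map_mul, hn2, map_one]
    have hOmle : Om ≤ Subgroup.center T := fun z hz => hz.1
    have hmod := h.card_mod Om hOmρ
    have hdvd : Nat.card Om ∣ 4 := hZ ▸ Subgroup.card_dvd_of_le hOmle
    -- an involution in the centre
    haveI : Fact (Nat.Prime 2) := ⟨Nat.prime_two⟩
    have h2dvd : 2 ∣ Nat.card (Subgroup.center T) := by rw [hZ]; decide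
    obtain ⟨z, hz⟩ := exists_prime_orderOf_dvd_card' (G := Subgroup.center T) 2 h2dvd
    have hzOm : (z : T) ∈ Om := by
      refine ⟨z.2, ?_⟩
      have h1 : z ^ 2 = 1 := by rw [← hz]; exact pow_orderOf_eq_one z
      have h2 := congrArg Subtype.val h1
      rw [pow_two] at h2
      exact h2
    have hz1 : (z : T) ≠ 1 := by
      intro h1
      have : z = 1 := Subtype.ext h1
      rw [this, orderOf_one] at hz
      omega
    have hcard4 : Nat.card Om = 4 := by
      have hle : Nat.card Om ≤ 4 := Nat.le_of_dvd (by norm_num) hdvd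
      have hne1 : Nat.card Om ≠ 1 := by
        intro h1
        have := (Subgroup.card_eq_one.mp h1)
        rw [this, Subgroup.mem_bot] at hzOm
        exact hz1 hzOm
      have hpos : 0 < Nat.card Om := Nat.card_pos
      interval_cases hcard : Nat.card Om <;> omega
    have heq : Om = Subgroup.center T :=
      Subgroup.eq_of_le_of_card_ge hOmle (by rw [hZ, hcard4])
    intro z hz
    rw [← heq] at hz
    exact hz.2
  have hcomsq : ∀ s t : T, ⁅s, t⁆ * ⁅s, t⁆ = 1 := fun s t => hcsq _ (hcen s t)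
  refine
    { central := hc
      mul_left := hml
      mul_right := hmr
      inv_swap := hinv
      rho_rho := hrr
      rho_left := hrl
      rho_right := hrt
      comm_sq := hcomsq
      center_sq := hcsq
      sq_central := ?_
      sq_mul := c_sq_mul hc }
  intro t u
  have h1 : ⁅t * t, u⁆ = 1 := by rw [hml, hcomsq]
  exact (commutatorElement_eq_one_iff_mul_comm.mp h1)

end Cfsg.Agent.Helper26.S64
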