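import Mathlib
import Cfsg.Agent.Helper15.S2933Defs
import Cfsg.Agent.Helper26.S64A
import Cfsg.Agent.Helper26.S64C

/-!
# S2933 piece NO256B (driver helper15)

Class 2 with a fixed-point-free `ρ` of order 3: `V2` central of order 16, `ρ`-invariant, containing
all squares, `|T| = 256`: every commutator lies in a fixed subgroup of order at most 4.
-/

set_option autoImplicit false

namespace Cfsg.Agent.S2933P

open scoped commutatorElement
open Cfsg.Agent.Helper16.S64

universe u

/-- the `ρ`-invariant subgroup generated by `S`, `ρ S` and `V2` -/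
theorem NO256B_aux_inv {T : Type u} [Group T] {ρ : MulAut T}
    (hprod : ∀ t, t * ρ t * ρ (ρ t) = 1) (V2 : Subgroup T) (hρ : ∀ x ∈ V2, ρ x ∈ V2)
    (S : Set T) : ∀ n ∈ Subgroup.closure (S ∪ ρ '' S) ⊔ V2,
      ρ n ∈ Subgroup.closure (S ∪ ρ '' S) ⊔ V2 := by
  have hE : Subgroup.closure (S ∪ ρ '' S) ⊔ V2 = Subgroup.closure ((S ∪ ρ '' S) ∪ (V2 : Set T)) := by
    rw [Subgroup.closure_union (S ∪ ρ '' S), Subgroup.closure_eq]
  rw [hE]
  intro n hn
  induction hn using Subgroup.closure_induction with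
  | mem t ht =>
    rcases ht with (ht | ⟨s, hs, rfl⟩) | ht
    · exact Subgroup.subset_closure (Or.inl (Or.inr ⟨t, ht, rfl⟩))
    · have h1 : ρ (ρ s) = (s * ρ s)⁻¹ := by
        have := hprod s
        exact eq_inv_of_mul_eq_one_right this
      rw [h1]
      refine Subgroup.inv_mem _ (Subgroup.mul_mem _ ?_ ?_)
      · exact Subgroup.subset_closure (Or.inl (Or.inl hs))
      · exact Subgroup.subset_closure (Or.inl (Or.inr ⟨s, hs, rfl⟩))
    · exact Subgroup.subset_closure (Or.inr (hρ t ht))
  | one => rw [map_one]; exact Subgroup.one_mem _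
  | mul a b _ _ iha ihb => rw [map_mul]; exact Subgroup.mul_mem _ iha ihb
  | inv a _ iha => rw [map_inv]; exact Subgroup.inv_mem _ iha

/-- the possible orders of a `ρ`-invariant subgroup containing `V2` -/
theorem NO256B_aux_card {T : Type u} [Group T] [Finite T] {ρ : MulAut T} (hf : Fpf3Facts ρ)
    (hc : Nat.card T = 256) (V2 : Subgroup T) (h16 : Nat.card V2 = 16)
    (L : Subgroup T) (hL : ∀ n ∈ L, ρ n ∈ L) (hVL : V2 ≤ L) :
    Nat.card L = 16 ∨ Nat.card L = 64 ∨ Nat.card L = 256 := by
  have h1 : Nat.card L % 3 = 1 := hf.card_mod L hL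
  have h2 : Nat.card L ∣ 256 := hc ▸ Subgroup.card_subgroup_dvd_card L
  have h3 : 16 ∣ Nat.card L := h16 ▸ Subgroup.card_dvd_of_le hVL
  obtain ⟨m, hm⟩ := h3
  rw [hm] at h2 h1
  have h4 : m ∣ 16 := by
    have : 16 * m ∣ 16 * 16 := h2
    exact Nat.dvd_of_mul_dvd_mul_left (by norm_num) this
  have h5 : m ≤ 16 := Nat.le_of_dvd (by norm_num) h4
  rw [hm]
  interval_cases m <;> omega

/-- NO256B (blueprint L6 (e)). -/
theorem NO256B {T : Type u} [Group T] [Finite T] {ρ : MulAut T} (hf : Fpf3 ρ)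
    (hc : Nat.card T = 256) (V2 : Subgroup T) (hcen : V2 ≤ Subgroup.center T)
    (h16 : Nat.card V2 = 16) (hρ : ∀ x ∈ V2, ρ x ∈ V2) (hsq : ∀ g : T, g * g ∈ V2) :
    ∃ D : Subgroup T, Nat.card D ≤ 4 ∧ ∀ g k : T, ⁅g, k⁆ ∈ D := by
  classical
  have hF : Fpf3Facts ρ := Cfsg.Agent.Helper26.S64.fpf3Facts_of_fpf3 hf
  have hcomV : ∀ v ∈ V2, ∀ g : T, g * v = v * g := fun v hv g =>
    Subgroup.mem_center_iff.mp (hcen hv) g
  -- commutators lie in `V2`
  have hV2 : ∀ s t : T, ⁅s, t⁆ ∈ V2 := by
    intro s t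
    have h1 : ⁅s, t⁆ = (s * t) * (s * t) * (t⁻¹ * (s * s)⁻¹ * t) * (t * t)⁻¹ := by
      rw [commutatorElement_def]; group
    have h2 : t⁻¹ * (s * s)⁻¹ * t = (s * s)⁻¹ := by
      have := hcomV _ (V2.inv_mem (hsq s)) t⁻¹
      rw [this]; group
    rw [h1, h2]
    exact V2.mul_mem (V2.mul_mem (hsq _) (V2.inv_mem (hsq s))) (V2.inv_mem (hsq t))
  have hcl : ∀ s t u : T, ⁅s, t⁆ * u = u * ⁅s, t⁆ := fun s t u => (hcomV _ (hV2 s t) u).symm
  have hml := Cfsg.Agent.Helper26.S64.c_mul_left hcl
  have hmr := Cfsg.Agent.Helper26.S64.c_mul_right hcl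
  have hinv : ∀ a b : T, ⁅a, b⁆⁻¹ = ⁅b, a⁆ := fun a b => commutatorElement_inv a b
  have hrr : ∀ s t : T, ⁅ρ s, ρ t⁆ = ρ ⁅s, t⁆ := fun s t => (map_commutatorElement ρ s t).symm
  have hself : ∀ s : T, ⁅s, ρ s⁆ = 1 := fun s =>
    Cfsg.Agent.Helper26.S64.c_eq_one_of_comm (hF.comm s)
  have hpol : ∀ s t : T, ⁅ρ s, t⁆ = ⁅s, ρ t⁆ := by
    intro s t
    have h1 : ⁅s * t, ρ (s * t)⁆ = 1 := hself (s * t)
    rw [map_mul, hml, hmr, hmr, hself s, hself t, one_mul, mul_one] at h1
    have h2 : ⁅s, ρ t⁆ = ⁅t, ρ s⁆⁻¹ := eq_inv_of_mul_eq_one_left h1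
    rw [h2, hinv]
  have hcV : ∀ v ∈ V2, ∀ g : T, ⁅v, g⁆ = 1 := fun v hv g =>
    Cfsg.Agent.Helper26.S64.c_eq_one_of_comm (hcomV v hv g).symm
  have hcV' : ∀ v ∈ V2, ∀ g : T, ⁅g, v⁆ = 1 := fun v hv g =>
    Cfsg.Agent.Helper26.S64.c_eq_one_of_comm (hcomV v hv g)
  -- `x` outside `V2`
  have hV2top : V2 ≠ ⊤ := by
    intro h
    have h1 : Nat.card V2 = Nat.card T := by rw [h, Subgroup.card_top]
    omega
  obtain ⟨x, hx⟩ : ∃ x : T, x ∉ V2 := by
    by_contra h
    push Not at h
    exact hV2top (eq_top_iff.mpr fun g _ => h g)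
  set E : Set T → Subgroup T := fun S => Subgroup.closure (S ∪ ρ '' S) ⊔ V2 with hE
  have hEinv : ∀ S : Set T, ∀ n ∈ E S, ρ n ∈ E S := fun S =>
    NO256B_aux_inv hF.prod V2 hρ S
  have hEV : ∀ S : Set T, V2 ≤ E S := fun S => le_sup_right
  have hEmem : ∀ S : Set T, ∀ s ∈ S, s ∈ E S := fun S s hs =>
    (le_sup_left : Subgroup.closure (S ∪ ρ '' S) ≤ E S) (Subgroup.subset_closure (Or.inl hs))
  have hEcard := fun S => NO256B_aux_card hF hc V2 h16 (E S) (hEinv S) (hEV S)
  -- `E {x}` has order at least 64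
  have hLx : 64 ≤ Nat.card (E {x}) := by
    rcases hEcard {x} with h | h | h
    · exfalso
      apply hx
      have : V2 = E {x} := Subgroup.eq_of_le_of_card_ge (hEV _) (by rw [h, h16])
      rw [this]
      exact hEmem _ x rfl
    · omega
    · omega
  -- `w` with `E {x, w} = ⊤`
  obtain ⟨w, hw⟩ : ∃ w : T, E {x, w} = ⊤ := by
    by_cases hLtop : E {x} = ⊤
    · refine ⟨x, ?_⟩
      have : ({x, x} : Set T) = {x} := by simp
      rw [this]; exact hLtop
    · obtain ⟨w, hw⟩ : ∃ w : T, w ∉ E {x} := by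
        by_contra h
        push Not at h
        exact hLtop (eq_top_iff.mpr fun g _ => h g)
      refine ⟨w, ?_⟩
      have hle : E {x} ≤ E {x, w} := by
        refine sup_le_sup_right (Subgroup.closure_mono ?_) V2
        refine Set.union_subset_union ?_ (Set.image_mono ?_) <;>
        · intro a ha
          rw [Set.mem_singleton_iff] at ha
          rw [ha]
          exact Set.mem_insert _ _
      have hne : Nat.card (E {x, w}) ≠ Nat.card (E {x}) := by
        intro h
        apply hw
        have : E {x} = E {x, w} := Subgroup.eq_of_le_of_card_ge hle (le_of_eq h)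
        rw [this]
        exact hEmem _ w (Set.mem_insert_of_mem _ rfl)
      have hge : Nat.card (E {x}) ≤ Nat.card (E {x, w}) := Subgroup.card_le_of_le hle
      have h256 : Nat.card (E {x, w}) = 256 := by
        rcases hEcard {x, w} with h | h | h <;> rcases hEcard {x} with h' | h' | h' <;> omega
      exact Subgroup.eq_top_of_card_eq _ (by rw [h256, hc])
  -- the homomorphism `k ↦ ⁅x, k⁆`
  let f : T →* T := MonoidHom.mk' (fun k => ⁅x, k⁆) (fun a b => hmr x a b)
  have hfapp : ∀ k, f k = ⁅x, k⁆ := fun k => rfl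
  have hker : E {x} ≤ f.ker := by
    refine sup_le ?_ ?_
    · rw [Subgroup.closure_le]
      rintro a (ha | ⟨s, hs, rfl⟩)
      · rw [Set.mem_singleton_iff] at ha
        rw [ha]
        show f x = 1
        rw [hfapp, commutatorElement_self]
      · rw [Set.mem_singleton_iff] at hs
        rw [hs]
        show f (ρ x) = 1
        rw [hfapp, hself]
    · intro v hv
      show f v = 1
      rw [hfapp, hcV' v hv]
  refine ⟨f.range, ?_, ?_⟩
  · have h1 : f.ker.index = Nat.card f.range := Subgroup.index_ker f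
    have h2 : Nat.card f.ker * f.ker.index = Nat.card T := Subgroup.card_mul_index f.ker
    have h3 : 64 ≤ Nat.card f.ker := hLx.trans (Subgroup.card_le_of_le hker)
    rw [h1, hc] at h2
    by_contra h
    push Not at h
    have : 64 * 5 ≤ Nat.card f.ker * Nat.card f.range := Nat.mul_le_mul h3 h
    omega
  · -- the subgroup of elements all of whose commutators lie in the range
    have hDρ : ∀ d ∈ f.range, ρ d ∈ f.range := by
      rintro _ ⟨k, rfl⟩
      refine ⟨ρ (ρ k), ?_⟩
      rw [hfapp, hfapp, ← hpol, hrr]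
    let A : Subgroup T :=
      { carrier := {g | ∀ k : T, ⁅g, k⁆ ∈ f.range}
        mul_mem' := by
          intro a b ha hb k
          rw [hml]
          exact Subgroup.mul_mem _ (ha k) (hb k)
        one_mem' := by
          intro k
          rw [commutatorElement_one_left]
          exact Subgroup.one_mem _
        inv_mem' := by
          intro a ha k
          have h1 : ⁅a⁻¹, k⁆ * ⁅a, k⁆ = 1 := by
            rw [← hml, inv_mul_cancel, commutatorElement_one_left]
          rw [eq_inv_of_mul_eq_one_left h1]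
          exact Subgroup.inv_mem _ (ha k) }
    have hAmem : ∀ g : T, g ∈ A ↔ ∀ k : T, ⁅g, k⁆ ∈ f.range := fun g => Iff.rfl
    have hAρ : ∀ g ∈ A, ρ g ∈ A := by
      intro g hg k
      rw [hpol]
      exact hg (ρ k)
    have hxA : x ∈ A := fun k => ⟨k, rfl⟩
    have hVA : V2 ≤ A := by
      intro v hv k
      rw [hcV v hv]
      exact Subgroup.one_mem _
    have hLA : E {x} ≤ A := by
      refine sup_le ?_ hVA
      rw [Subgroup.closure_le]
      rintro a (ha | ⟨s, hs, rfl⟩)
      · rw [Set.mem_singleton_iff] at ha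
        rw [ha]; exact hxA
      · rw [Set.mem_singleton_iff] at hs
        rw [hs]; exact hAρ x hxA
    -- `w ∈ A`
    let g : T →* T := MonoidHom.mk' (fun k => ⁅w, k⁆) (fun a b => hmr w a b)
    have hgapp : ∀ k, g k = ⁅w, k⁆ := fun k => rfl
    have hB : E {x, w} ≤ f.range.comap g := by
      refine sup_le ?_ ?_
      · rw [Subgroup.closure_le]
        have hx' : x ∈ f.range.comap g := by
          rw [Subgroup.mem_comap, hgapp, ← hinv]
          exact Subgroup.inv_mem _ (hxA w)
        have hρx' : ρ x ∈ f.range.comap g := by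
          rw [Subgroup.mem_comap, hgapp, ← hinv]
          exact Subgroup.inv_mem _ (hAρ x hxA w)
        have hw' : w ∈ f.range.comap g := by
          rw [Subgroup.mem_comap, hgapp, commutatorElement_self]
          exact Subgroup.one_mem _
        have hρw' : ρ w ∈ f.range.comap g := by
          rw [Subgroup.mem_comap, hgapp, hself]
          exact Subgroup.one_mem _
        rintro a (ha | ⟨s, hs, rfl⟩)
        · rcases ha with ha | ha
          · rw [ha]; exact hx'
          · rw [Set.mem_singleton_iff] at ha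
            rw [ha]; exact hw'
        · rcases hs with hs | hs
          · rw [hs]; exact hρx'
          · rw [Set.mem_singleton_iff] at hs
            rw [hs]; exact hρw'
      · intro v hv
        rw [Subgroup.mem_comap, hgapp, hcV' v hv]
        exact Subgroup.one_mem _
    have hwA : w ∈ A := by
      intro k
      have : k ∈ E {x, w} := by rw [hw]; exact Subgroup.mem_top k
      exact hB this
    have hMA : E {x, w} ≤ A := by
      refine sup_le ?_ hVA
      rw [Subgroup.closure_le]
      rintro a (ha | ⟨s, hs, rfl⟩)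
      · rcases ha with ha | ha
        · rw [ha]; exact hxA
        · rw [Set.mem_singleton_iff] at ha
          rw [ha]; exact hwA
      · rcases hs with hs | hs
        · rw [hs]; exact hAρ x hxA
        · rw [Set.mem_singleton_iff] at hs
          rw [hs]; exact hAρ w hwA
    intro a k
    have : a ∈ E {x, w} := by rw [hw]; exact Subgroup.mem_top a
    exact hMA this k

end Cfsg.Agent.S2933P
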