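import Mathlib
import Cfsg.Prelude.Def_JComponents
import Cfsg.Prelude.Def_Involutions
import Cfsg.Agent.Helper5.S2951Defs

/-!
# S2951 board, piece UNIQ (§1 P2(i)-(iii)), driver helper5
-/

set_option autoImplicit false

universe u

namespace Cfsg.Agent.S2951P

open Cfsg Subgroup Cfsg.Agent.Helper15.JComp Cfsg.Agent.S2951P

variable {G : Type u} [Group G] [Finite G] {M T K K' L L' : Subgroup G}

/-- UNIQ (S) = P2(i): existence (`K J(T) ≤ N_G(W_K)`, `c.normalizer_facts`, `exists_isMaximalTwoLocal_ge`). -/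
theorem UNIQ_exists (c : StraddleCtx M T) (hK : IsJComponent T K) (hKM : ¬ K ≤ M) :
    ∃ L : Subgroup G, IsLK T K L := by
  obtain ⟨h2, -, hJ⟩ := c.normalizer_facts hK hKM
  obtain ⟨L, hL, hle⟩ := exists_isMaximalTwoLocal_ge h2
  exact ⟨L, hL, sup_le (le_normalizer.trans hle) (hJ.trans hle)⟩

/-- UNIQ = P2(i): uniqueness (`c.unique_max`). -/
theorem UNIQ_eq (c : StraddleCtx M T) (hK : IsJComponent T K) (hKM : ¬ K ≤ M)
    (h : IsLK T K L) (h' : IsLK T K L') : L = L' := by
  rw [c.unique_max hK hKM h.1 h.2, c.unique_max hK hKM h'.1 h'.2]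

/-- UNIQ = P2(ii). -/
theorem UNIQ_le (c : StraddleCtx M T) (hK : IsJComponent T K) (hKM : ¬ K ≤ M) (h : IsLK T K L)
    {H : Subgroup G} (hH : IsTwoLocal H) (hKH : K ⊔ thompsonSubgroupOf 2 T ≤ H) : H ≤ L := by
  obtain ⟨L'', hL'', hle⟩ := exists_isMaximalTwoLocal_ge hH
  have h'' : IsLK T K L'' := ⟨hL'', hKH.trans hle⟩
  rw [UNIQ_eq c hK hKM h h'']
  exact hle

/-- UNIQ = P2(iii). -/
theorem UNIQ_normalizer (c : StraddleCtx M T) (hK : IsJComponent T K) (hKM : ¬ K ≤ M) (h : IsLK T K L)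
    {X : Subgroup G} (hX : X ≤ Z1 T K) (hX1 : X ≠ ⊥) : normalizer (X : Set G) ≤ L := by
  have hXZ0 : X ≤ Z0 T := hX.trans inf_le_left
  have hXCK : X ≤ centralizer (K : Set G) := hX.trans inf_le_right
  have hZ0le : Z0 T ≤ thompsonSubgroupOf 2 T ⊓ centralizer (thompsonSubgroupOf 2 T : Set G) :=
    omegaCenterOf_le _
  have hX2 : IsPGroup 2 X := c.hJ2.to_le ((hXZ0.trans hZ0le).trans inf_le_left)
  have hloc : IsTwoLocal (normalizer (X : Set G)) := ⟨X, hX2, hX1, rfl⟩
  refine UNIQ_le c hK hKM h hloc (sup_le ?_ ?_)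
  · -- `K` centralizes `X`
    intro k hk
    rw [mem_normalizer_iff]
    intro x
    have hcomm : ∀ y ∈ X, k * y * k⁻¹ = y := by
      intro y hy
      have := (mem_centralizer_iff.mp (hXCK hy)) k hk
      rw [this, mul_inv_cancel_right]
    constructor
    · intro hx
      rw [hcomm x hx]; exact hx
    · intro hx
      have h1 := hcomm _ hx
      have h2 : k * x * k⁻¹ = k * (k * x * k⁻¹) * k⁻¹ → x = k * x * k⁻¹ := by
        intro e
        have := congrArg (fun z => k⁻¹ * z * k) e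
        simpa [mul_assoc] using this
      rw [h2 h1.symm]; exact hx
  · -- `J(T)` centralizes `X`
    intro k hk
    rw [mem_normalizer_iff]
    intro x
    have hcomm : ∀ y ∈ X, k * y * k⁻¹ = y := by
      intro y hy
      have hy' := (hXZ0.trans hZ0le) hy
      have := (mem_centralizer_iff.mp (mem_inf.mp hy').2) k hk
      rw [this, mul_inv_cancel_right]
    constructor
    · intro hx
      rw [hcomm x hx]; exact hx
    · intro hx
      have h1 := hcomm _ hx
      have h2 : k * x * k⁻¹ = k * (k * x * k⁻¹) * k⁻¹ → x = k * x * k⁻¹ := by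
        intro e
        have := congrArg (fun z => k⁻¹ * z * k) e
        simpa [mul_assoc] using this
      rw [h2 h1.symm]; exact hx

end Cfsg.Agent.S2951P
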