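import Mathlib
import Cfsg.Prelude.Def_JComponents
import Cfsg.Prelude.Def_Involutions
import Cfsg.Agent.Helper5.S2951Defs

/-!
# S2951 board, piece LEMC (§4 Lemma C), driver helper5
-/

set_option autoImplicit false

universe u

namespace Cfsg.Agent.S2951P

open Cfsg Subgroup Cfsg.Agent.Helper15.JComp Cfsg.Agent.S2951P

variable {G : Type u} [Group G] [Finite G] {M T K K' L L' : Subgroup G}

/-- LEMC (S) = §4 (S2943). -/
theorem LEMC (c : StraddleCtx M T) (hK : IsJComponent T K) (hKM : ¬ K ≤ M) (h : IsLK T K L)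
    (hTL : T ≤ L) (hw : Z0 T ⊓ wOf K ≤ centralizer (T : Set G)) : T ≤ normalizer (K : Set G) := by
  have hKL : K ≤ L := le_sup_left.trans h.2
  have hLM : ¬ L ≤ M := fun hle => hKM (hKL.trans hle)
  obtain ⟨hov, -⟩ := c.main h.1.1 hLM hTL
  refine (jc_local c.hZ (c.hN L h.1.1) hov.1 hov.2.2 hK hKL).2.1 ?_
  have hcard : Nat.card ↥(Z0 T ⊓ wOf K) = 2 := by
    rw [jc_omega_inf_wOf c.hT2 hK]
    exact jc_card_fix c.hT2 hK
  have hne : Z0 T ⊓ wOf K ≠ ⊥ := by
    intro hbot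
    rw [hbot, Subgroup.card_bot] at hcard
    omega
  have hle : Z0 T ⊓ wOf K ≤ T ⊓ centralizer (T : Set G) ⊓ wOf K := by
    refine le_inf (le_inf ?_ hw) inf_le_right
    exact (inf_le_left.trans ((omegaCenterOf_le _).trans inf_le_left)).trans
      (Cfsg.Agent.S2941.thompsonSubgroupOf_le 2 T)
  intro hbot
  apply hne
  rw [eq_bot_iff, ← hbot]
  exact hle

end Cfsg.Agent.S2951P
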