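import Mathlib
import Cfsg.Agent.Helper26.S3050Defs

/-! # S3050, piece NS: the API of `NatStr` -/

set_option autoImplicit false

namespace Cfsg.Agent.S3050P

open Cfsg.Agent.Helper18.NatMod

variable {F : Type*} [Field F] [CharP F 2]
variable {M : Type*} [AddCommGroup M] [DistribMulAction (Matrix.SpecialLinearGroup (Fin 2) F) M]

local notation "SF" => Matrix.SpecialLinearGroup (Fin 2) F
local notation "MF" => Matrix (Fin 2) (Fin 2) F

omit [CharP F 2] in
theorem NatStr.ka_zero (ns : NatStr F M) (m : M) : ka F 0 m = 0 := by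
  have h := ns.ka_add 0 0 m
  rw [add_zero] at h
  exact left_eq_add.mp h

omit [CharP F 2] in
theorem NatStr.ka_map_zero (ns : NatStr F M) (c : F) : ka F c (0 : M) = 0 := by
  have h := ns.ka_map_add c 0 0
  rw [add_zero] at h
  exact left_eq_add.mp h

omit [CharP F 2] in
theorem NatStr.uu_fix (ns : NatStr F M) (c : F) {a : M} (ha : a ∈ fixu F M) :
    (uu c : SF) • a = a := by
  have h := ns.act (uu c) a ha
  rw [uu_coe] at h
  simp only [Matrix.of_apply, Matrix.cons_val', Matrix.cons_val_zero, Matrix.cons_val_one,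
    Matrix.cons_val_fin_one] at h
  rw [h, ns.ka_one, ns.ka_zero, smul_zero, add_zero]

omit [CharP F 2] in
theorem NatStr.ka_mem (ns : NatStr F M) (c : F) {a : M} (ha : a ∈ fixu F M) :
    ka F c a ∈ fixu F M := by
  rw [mem_fixu] at ha ⊢
  rw [← ns.ka_smul, ha]

omit [CharP F 2] in
theorem NatStr.hh_fix (ns : NatStr F M) (t : Fˣ) {a : M} (ha : a ∈ fixu F M) :
    (hh t : SF) • a = ka F (t : F) a := by
  have h := ns.act (hh t) a ha
  rw [hh_coe] at h
  simp only [Matrix.of_apply, Matrix.cons_val', Matrix.cons_val_zero, Matrix.cons_val_one,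
    Matrix.cons_val_fin_one] at h
  rw [h, ns.ka_zero, smul_zero, add_zero]

theorem NatStr.uu_ww (ns : NatStr F M) (c : F) {b : M} (hb : b ∈ fixu F M) :
    (uu c : SF) • (ww : SF) • b = ka F c b + (ww : SF) • b := by
  have h := ns.act (uu c * ww) b hb
  rw [Matrix.SpecialLinearGroup.coe_mul, uu_coe, ww_coe] at h
  simp only [Matrix.mul_apply, Fin.sum_univ_two, Matrix.of_apply, Matrix.cons_val',
    Matrix.cons_val_zero, Matrix.cons_val_one, Matrix.cons_val_fin_one] at h
  rw [← mul_smul, h]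
  have e1 : (1 : F) * 0 + c * -1 = c := by rw [mul_neg, mul_one, CharTwo.neg_eq]; ring
  have e2 : (0 : F) * 0 + 1 * -1 = 1 := by rw [mul_neg, mul_one, CharTwo.neg_eq]; ring
  rw [e1, e2, ns.ka_one]

omit [CharP F 2] in
theorem NatStr.ka_inj (ns : NatStr F M) {c : F} (hc : c ≠ 0) {m : M} (h : ka F c m = 0) :
    m = 0 := by
  have h1 : ka F (c⁻¹ * c) m = ka F c⁻¹ (ka F c m) := ns.ka_mul _ _ _
  rw [inv_mul_cancel₀ hc, ns.ka_one, h, ns.ka_map_zero] at h1
  exact h1

omit [CharP F 2] in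
theorem NatStr.ka_ww (ns : NatStr F M) (c : F) (m : M) :
    ka F c ((ww : SF) • m) = (ww : SF) • ka F c m := ns.ka_smul c ww m

/-- the full action formula -/
theorem NatStr.act_full (ns : NatStr F M) (g : SF) {a b : M} (ha : a ∈ fixu F M)
    (hb : b ∈ fixu F M) :
    g • (a + (ww : SF) • b)
      = (ka F ((g : MF) 0 0) a + ka F ((g : MF) 0 1) b)
        + (ww : SF) • (ka F ((g : MF) 1 0) a + ka F ((g : MF) 1 1) b) := by
  have h1 := ns.act g a ha
  have h2 := ns.act (g * ww) b hb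
  rw [Matrix.SpecialLinearGroup.coe_mul, ww_coe] at h2
  simp only [Matrix.mul_apply, Fin.sum_univ_two, Matrix.of_apply, Matrix.cons_val',
    Matrix.cons_val_zero, Matrix.cons_val_one, Matrix.cons_val_fin_one] at h2
  have e1 : (g : MF) 0 0 * 0 + (g : MF) 0 1 * -1 = (g : MF) 0 1 := by
    rw [mul_neg, mul_one, CharTwo.neg_eq]; ring
  have e2 : (g : MF) 1 0 * 0 + (g : MF) 1 1 * -1 = (g : MF) 1 1 := by
    rw [mul_neg, mul_one, CharTwo.neg_eq]; ring
  rw [e1, e2] at h2
  rw [smul_add, ← mul_smul, h1, h2, smul_add]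
  abel

end Cfsg.Agent.S3050P
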