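import Mathlib
import Cfsg.Agent.Helper15.S3412.Defs

/-! S3412 piece CONJISQ (driver helper15): conjugation preserves `IsQ`. -/

set_option autoImplicit false

namespace Cfsg.Agent.S3412P

open Matrix

namespace CONJISQ

/-- the centralizer of a conjugate element is the conjugate of the centralizer -/
theorem centralizer_conj_singleton {X : Type*} [Group X] (x a : X) :
    Subgroup.centralizer ({x * a * x⁻¹} : Set X)
      = (Subgroup.centralizer ({a} : Set X)).map (MulAut.conj x).toMonoidHom := by
  ext g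
  constructor
  · intro hg
    refine Subgroup.mem_map.2 ⟨x⁻¹ * g * x, ?_, ?_⟩
    · rw [Subgroup.mem_centralizer_iff]
      intro b hb
      rw [Set.mem_singleton_iff] at hb
      subst hb
      have h := (Subgroup.mem_centralizer_iff.1 hg) (x * b * x⁻¹) rfl
      -- `x b x⁻¹ g = g x b x⁻¹`
      have h1 : x⁻¹ * (x * b * x⁻¹ * g) * x = x⁻¹ * (g * (x * b * x⁻¹)) * x := by rw [h]
      calc b * (x⁻¹ * g * x) = x⁻¹ * (x * b * x⁻¹ * g) * x := by group
        _ = x⁻¹ * (g * (x * b * x⁻¹)) * x := h1
        _ = x⁻¹ * g * x * b := by group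
    · simp only [MulEquiv.coe_toMonoidHom, MulAut.conj_apply]
      group
  · rintro ⟨h, hh, rfl⟩
    rw [Subgroup.mem_centralizer_iff]
    intro b hb
    rw [Set.mem_singleton_iff] at hb
    subst hb
    have h1 := (Subgroup.mem_centralizer_iff.1 hh) a rfl
    simp only [MulEquiv.coe_toMonoidHom, MulAut.conj_apply]
    calc x * a * x⁻¹ * (x * h * x⁻¹) = x * (a * h) * x⁻¹ := by group
      _ = x * (h * a) * x⁻¹ := by rw [h1]
      _ = x * h * x⁻¹ * (x * a * x⁻¹) := by group

theorem card_map_conj {X : Type*} [Group X] (A : Subgroup X) (x : X) :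
    Nat.card (A.map (MulAut.conj x).toMonoidHom) = Nat.card A :=
  (Nat.card_congr (A.equivMapOfInjective (MulAut.conj x).toMonoidHom
    (MulAut.conj x).injective).toEquiv).symm

theorem isQ_map_conj {X : Type*} [Group X] (A : Subgroup X) (hA : IsQ A) (x : X) :
    IsQ (A.map (MulAut.conj x).toMonoidHom) := by
  obtain ⟨h1, h2, h3⟩ := hA
  refine ⟨?_, ?_, ?_⟩
  · rw [card_map_conj, h1]
  · -- self-centralizing
    ext g
    constructor
    · intro hg
      have hmem : x⁻¹ * g * x ∈ Subgroup.centralizer (A : Set X) := by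
        rw [Subgroup.mem_centralizer_iff]
        intro b hb
        have hb' : x * b * x⁻¹ ∈ A.map (MulAut.conj x).toMonoidHom := ⟨b, hb, rfl⟩
        have h := (Subgroup.mem_centralizer_iff.1 hg) _ hb'
        have h1' : x⁻¹ * (x * b * x⁻¹ * g) * x = x⁻¹ * (g * (x * b * x⁻¹)) * x := by rw [h]
        calc b * (x⁻¹ * g * x) = x⁻¹ * (x * b * x⁻¹ * g) * x := by group
          _ = x⁻¹ * (g * (x * b * x⁻¹)) * x := h1'
          _ = x⁻¹ * g * x * b := by group
      rw [h2] at hmem
      refine Subgroup.mem_map.2 ⟨x⁻¹ * g * x, hmem, ?_⟩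
      simp only [MulEquiv.coe_toMonoidHom, MulAut.conj_apply]
      group
    · rintro ⟨h, hh, rfl⟩
      rw [Subgroup.mem_centralizer_iff]
      rintro _ ⟨b, hb, rfl⟩
      have hh' : h ∈ Subgroup.centralizer (A : Set X) := by rw [h2]; exact hh
      have h1' := (Subgroup.mem_centralizer_iff.1 hh') b hb
      simp only [MulEquiv.coe_toMonoidHom, MulAut.conj_apply]
      calc x * b * x⁻¹ * (x * h * x⁻¹) = x * (b * h) * x⁻¹ := by group
        _ = x * (h * b) * x⁻¹ := by rw [h1']
        _ = x * h * x⁻¹ * (x * b * x⁻¹) := by group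
  · rintro _ ⟨a, ha, rfl⟩ hne
    have ha1 : a ≠ 1 := by
      rintro rfl
      apply hne
      simp
    have := h3 a ha ha1
    have e : ((MulAut.conj x).toMonoidHom a) = x * a * x⁻¹ := by
      simp only [MulEquiv.coe_toMonoidHom, MulAut.conj_apply]
    rw [e, centralizer_conj_singleton, card_map_conj]
    exact this

end CONJISQ

end Cfsg.Agent.S3412P
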