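import Mathlib
import Cfsg.Agent.Helper15.S3412.Defs2
import Cfsg.Agent.Helper7.AutPSL5

/-! S3412 piece SCENT (driver helper15): the transvection groups `TP v`, `TH φ` of `SL₃(3)` are
self-centralizing. -/

set_option autoImplicit false

namespace Cfsg.Agent.S3412P

open Matrix Cfsg.Agent.Helper2.RootSLn Cfsg.Agent.Helper7.AutPSL

namespace SCENT

open Cfsg.Agent.Helper7.GraphPSL (invT invT_invT)

/-- `TP v` is abelian -/
theorem TP_comm {F : Type*} [Field F] {v : Fin 3 → F}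
    {a b : Matrix.SpecialLinearGroup (Fin 3) F} (ha : a ∈ TP v) (hb : b ∈ TP v) :
    a * b = b * a := by
  obtain ⟨ψ, hψ, ham⟩ := mem_TP.1 ha
  obtain ⟨ψ', hψ', hbm⟩ := mem_TP.1 hb
  apply Subtype.ext
  rw [Matrix.SpecialLinearGroup.coe_mul, Matrix.SpecialLinearGroup.coe_mul, ham, hbm,
    tm_mul_tm, tm_mul_tm, hψ, hψ']
  simp only [mul_zero, zero_smul, add_zero]
  abel

/-- `TH φ` is abelian -/
theorem TH_comm {F : Type*} [Field F] {φ : Fin 3 → F}
    {a b : Matrix.SpecialLinearGroup (Fin 3) F} (ha : a ∈ TH φ) (hb : b ∈ TH φ) :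
    a * b = b * a := by
  obtain ⟨w, hw, ham⟩ := mem_TH.1 ha
  obtain ⟨w', hw', hbm⟩ := mem_TH.1 hb
  apply Subtype.ext
  rw [Matrix.SpecialLinearGroup.coe_mul, Matrix.SpecialLinearGroup.coe_mul, ham, hbm,
    tm_mul_tm, tm_mul_tm, hw, hw']
  simp only [mul_zero, zero_smul, add_zero]
  abel

/-- the functional `v i₀ • e_i - v i • e_{i₀}` vanishing on `v` -/
def psi {F : Type*} [Field F] (v : Fin 3 → F) (i₀ i : Fin 3) : Fin 3 → F :=
  fun j => v i₀ * (if j = i then 1 else 0) - v i * (if j = i₀ then 1 else 0)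

theorem psi_dot {F : Type*} [Field F] (v : Fin 3 → F) (i₀ i : Fin 3) : psi v i₀ i ⬝ᵥ v = 0 := by
  simp only [dotProduct, psi, Fin.sum_univ_three]
  fin_cases i₀ <;> fin_cases i <;> simp <;> ring

theorem psi_vecMul {F : Type*} [Field F] (v : Fin 3 → F) (i₀ i : Fin 3)
    (M : Matrix (Fin 3) (Fin 3) F) (j : Fin 3) :
    (psi v i₀ i ᵥ* M) j = v i₀ * M i j - v i * M i₀ j := by
  simp only [vecMul, dotProduct, psi, Fin.sum_univ_three]
  fin_cases i₀ <;> fin_cases i <;> simp <;> ring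

/-- structure of a matrix commuting with all transvections with centre `v` -/
theorem exists_of_commute {F : Type*} [Field F] {v : Fin 3 → F} (hv : v ≠ 0)
    (g : Matrix.SpecialLinearGroup (Fin 3) F)
    (hg : ∀ ψ : Fin 3 → F, ψ ⬝ᵥ v = 0 →
      (g : Matrix (Fin 3) (Fin 3) F) * tm v ψ 1 = tm v ψ 1 * (g : Matrix (Fin 3) (Fin 3) F)) :
    ∃ (a : F) (χ : Fin 3 → F), a ^ 3 = 1 ∧ χ ⬝ᵥ v = 0 ∧
      (g : Matrix (Fin 3) (Fin 3) F) = a • (1 : Matrix (Fin 3) (Fin 3) F) + vecMulVec v χ := by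
  -- step 1
  have h1 : ∀ ψ : Fin 3 → F, ψ ⬝ᵥ v = 0 →
      vecMulVec ((g : Matrix (Fin 3) (Fin 3) F) *ᵥ v) ψ
        = vecMulVec v (ψ ᵥ* (g : Matrix (Fin 3) (Fin 3) F)) := by
    intro ψ hψ
    have h := hg ψ hψ
    rw [tm, one_smul, Matrix.mul_add, Matrix.add_mul, Matrix.mul_one, Matrix.one_mul,
      Matrix.mul_vecMulVec, Matrix.vecMulVec_mul] at h
    exact add_left_cancel h
  obtain ⟨i₀, hi₀⟩ := Function.ne_iff.mp hv
  have hi₀' : v i₀ ≠ 0 := hi₀
  -- an index different from `i₀`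
  obtain ⟨k, hk⟩ : ∃ k : Fin 3, k ≠ i₀ := by
    fin_cases i₀
    · exact ⟨1, by decide⟩
    · exact ⟨0, by decide⟩
    · exact ⟨0, by decide⟩
  have hψ₀ : psi v i₀ k ≠ 0 := by
    intro h0
    have := congrFun h0 k
    simp only [psi, if_true, if_neg hk, mul_one, mul_zero, sub_zero, Pi.zero_apply] at this
    exact hi₀' this
  obtain ⟨a, ha⟩ := smul_of_vecMulVec_eq_right (h1 _ (psi_dot v i₀ k)) hψ₀
  -- step 4
  have h4 : ∀ ψ : Fin 3 → F, ψ ⬝ᵥ v = 0 → ψ ᵥ* (g : Matrix (Fin 3) (Fin 3) F) = a • ψ := by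
    intro ψ hψ
    have h := h1 ψ hψ
    rw [ha] at h
    ext j
    have hj := congrFun (congrFun h i₀) j
    simp only [vecMulVec_apply, Pi.smul_apply, smul_eq_mul] at hj
    simp only [Pi.smul_apply, smul_eq_mul]
    have : v i₀ * (a * ψ j) = v i₀ * (ψ ᵥ* (g : Matrix (Fin 3) (Fin 3) F)) j := by
      rw [← hj]; ring
    exact (mul_left_cancel₀ hi₀' this).symm
  -- step 5
  set χ : Fin 3 → F := fun j => ((g : Matrix (Fin 3) (Fin 3) F) i₀ j -
    a * (if i₀ = j then 1 else 0)) / v i₀ with hχ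
  have h5 : (g : Matrix (Fin 3) (Fin 3) F) = a • (1 : Matrix (Fin 3) (Fin 3) F) + vecMulVec v χ := by
    ext i j
    have h := congrFun (h4 _ (psi_dot v i₀ i)) j
    rw [psi_vecMul] at h
    simp only [Pi.smul_apply, smul_eq_mul, psi] at h
    simp only [Matrix.add_apply, Matrix.smul_apply, Matrix.one_apply, vecMulVec_apply, smul_eq_mul,
      hχ]
    field_simp
    have e1 : (if j = i then (1 : F) else 0) = if i = j then 1 else 0 := by
      by_cases hij : i = j
      · rw [if_pos hij, if_pos hij.symm]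
      · rw [if_neg hij, if_neg (Ne.symm hij)]
    have e2 : (if j = i₀ then (1 : F) else 0) = if i₀ = j then 1 else 0 := by
      by_cases hij : i₀ = j
      · rw [if_pos hij, if_pos hij.symm]
      · rw [if_neg hij, if_neg (Ne.symm hij)]
    rw [e1, e2] at h
    linear_combination h
  -- step 6
  have h6 : χ ⬝ᵥ v = 0 := by
    have h := ha
    rw [h5, Matrix.add_mulVec, Matrix.smul_mulVec, Matrix.one_mulVec, vecMulVec_mulVec] at h
    have h' : (χ ⬝ᵥ v) • v = 0 := by
      have : a • v + MulOpposite.op (χ ⬝ᵥ v) • v = a • v + 0 := by rw [add_zero]; exact h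
      have := add_left_cancel this
      simpa using this
    rcases smul_eq_zero.1 h' with h7 | h7
    · exact h7
    · exact absurd h7 hv
  -- step 7
  have h7 : a ≠ 0 := by
    intro h0
    rw [h0, zero_smul] at ha
    apply hv
    have : ((g⁻¹ : Matrix.SpecialLinearGroup (Fin 3) F) : Matrix (Fin 3) (Fin 3) F) *ᵥ
        ((g : Matrix (Fin 3) (Fin 3) F) *ᵥ v) = v := by
      rw [Matrix.mulVec_mulVec, ← Matrix.SpecialLinearGroup.coe_mul, inv_mul_cancel,
        Matrix.SpecialLinearGroup.coe_one, Matrix.one_mulVec]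
    rw [← this, ha, Matrix.mulVec_zero]
  -- step 8
  have h8 : (g : Matrix (Fin 3) (Fin 3) F) = a • tm v (a⁻¹ • χ) 1 := by
    rw [h5, tm, one_smul, smul_add, Matrix.vecMulVec_smul, smul_smul, mul_inv_cancel₀ h7,
      one_smul]
  have h9 : a ^ 3 = 1 := by
    have hd := g.2
    rw [h8, Matrix.det_smul, det_tm (by rw [smul_dotProduct, h6, smul_zero]), mul_one,
      Fintype.card_fin] at hd
    exact hd
  exact ⟨a, χ, h9, h6, h5⟩

theorem centralizer_TP {v : Fin 3 → ZMod 3} (hv : v ≠ 0) :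
    Subgroup.centralizer ((TP v : Subgroup L33) : Set L33) = TP v := by
  apply le_antisymm
  · intro g hg
    have hg' : ∀ ψ : Fin 3 → ZMod 3, ψ ⬝ᵥ v = 0 →
        (g : Matrix (Fin 3) (Fin 3) (ZMod 3)) * tm v ψ 1
          = tm v ψ 1 * (g : Matrix (Fin 3) (Fin 3) (ZMod 3)) := by
      intro ψ hψ
      have hmem : ts v ψ hψ 1 ∈ TP v := ts_mem_TP hψ 1
      have h := (Subgroup.mem_centralizer_iff.1 hg) _ hmem
      have h' := congrArg Subtype.val h
      rw [Matrix.SpecialLinearGroup.coe_mul, Matrix.SpecialLinearGroup.coe_mul, coe_ts] at h'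
      exact h'.symm
    obtain ⟨a, χ, ha, hχ, hgm⟩ := exists_of_commute hv g hg'
    have hall : ∀ b : ZMod 3, b ^ 3 = 1 → b = 1 := by decide
    have ha1 : a = 1 := hall a ha
    refine mem_TP.2 ⟨χ, hχ, ?_⟩
    rw [hgm, ha1, one_smul, tm, one_smul]
  · intro g hg
    rw [Subgroup.mem_centralizer_iff]
    intro h hh
    exact TP_comm hh hg

theorem centralizer_TH {φ : Fin 3 → ZMod 3} (hφ : φ ≠ 0) :
    Subgroup.centralizer ((TH φ : Subgroup L33) : Set L33) = TH φ := by
  apply le_antisymm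
  · intro g hg
    have h1 : invT g ∈ Subgroup.centralizer ((TP φ : Subgroup L33) : Set L33) := by
      rw [Subgroup.mem_centralizer_iff]
      intro t ht
      have ht' : invT t ∈ TH φ := by
        rw [← map_invT_TP φ]
        exact ⟨t, ht, rfl⟩
      have h := (Subgroup.mem_centralizer_iff.1 hg) _ ht'
      have h2 := congrArg (invT : MulAut L33) h
      rw [map_mul, map_mul, invT_invT] at h2
      exact h2
    rw [centralizer_TP hφ] at h1
    rw [← map_invT_TP φ]
    exact ⟨invT g, h1, invT_invT g⟩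
  · intro g hg
    rw [Subgroup.mem_centralizer_iff]
    intro h hh
    exact TH_comm hh hg

end SCENT

end Cfsg.Agent.S3412P
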