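import Mathlib
import Cfsg.Agent.Helper15.S3412.Defs2
import Cfsg.Agent.Helper7.AutPSL5

/-! S3412 piece SK4 (driver helper15): a transvection `1 + v φᵀ` commutes with no non-identity
element of `TP v'` when `φ · v' ≠ 0`. -/

set_option autoImplicit false

namespace Cfsg.Agent.S3412P

open Matrix Cfsg.Agent.Helper2.RootSLn Cfsg.Agent.Helper7.AutPSL

namespace SK4

theorem not_commute_of_not_orth {F : Type*} [Field F] {v φ v' : Fin 3 → F} (h : φ ⬝ᵥ v = 0)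
    (hv : v ≠ 0) (hφ : φ ≠ 0) (hv' : φ ⬝ᵥ v' ≠ 0)
    (b : Matrix.SpecialLinearGroup (Fin 3) F) (hb : b ∈ TP v') (hb1 : b ≠ 1) :
    ¬ Commute (ts v φ h 1) b := by
  intro hc
  obtain ⟨ψ, hψ, hbm⟩ := mem_TP.1 hb
  have hψ0 : ψ ≠ 0 := by
    intro h0
    apply hb1
    apply Subtype.ext
    rw [hbm, h0]
    simp [tm]
  have h1 : (ts v φ h 1 : Matrix (Fin 3) (Fin 3) F) * (b : Matrix (Fin 3) (Fin 3) F)
      = (b : Matrix (Fin 3) (Fin 3) F) * (ts v φ h 1 : Matrix (Fin 3) (Fin 3) F) := by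
    have := congrArg Subtype.val hc.eq
    simpa [Matrix.SpecialLinearGroup.coe_mul] using this
  rw [coe_ts, hbm, tm_mul_tm, tm_mul_tm] at h1
  simp only [one_smul, one_mul] at h1
  -- `(φ·v') • vψᵀ = (ψ·v) • v'φᵀ`
  have h2 : (φ ⬝ᵥ v') • vecMulVec v ψ = (ψ ⬝ᵥ v) • vecMulVec v' φ := by
    have h3 : (1 : Matrix (Fin 3) (Fin 3) F) + vecMulVec v φ + vecMulVec v' ψ
        + (φ ⬝ᵥ v') • vecMulVec v ψ
        = (1 + vecMulVec v φ + vecMulVec v' ψ) + (ψ ⬝ᵥ v) • vecMulVec v' φ := by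
      rw [h1]; abel
    exact add_left_cancel h3
  have h4 : vecMulVec ((φ ⬝ᵥ v') • v) ψ = vecMulVec ((ψ ⬝ᵥ v) • v') φ := by
    rw [Matrix.smul_vecMulVec, Matrix.smul_vecMulVec]; exact h2
  have hne : (φ ⬝ᵥ v') • v ≠ 0 := by
    intro h0
    rcases smul_eq_zero.1 h0 with h5 | h5
    · exact hv' h5
    · exact hv h5
  obtain ⟨c, hcψ⟩ := smul_of_vecMulVec_eq_left h4 hne
  have h6 : c * (φ ⬝ᵥ v') = 0 := by
    have := hψ
    rw [hcψ, smul_dotProduct, smul_eq_mul] at this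
    exact this
  rcases mul_eq_zero.1 h6 with h7 | h7
  · apply hψ0
    rw [hcψ, h7, zero_smul]
  · exact hv' h7

end SK4

end Cfsg.Agent.S3412P
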