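import Mathlib
import Cfsg.Agent.Helper15.S3412.Defs

/-! S3412 piece KERTRANS (driver helper15): `KerHyp` is transported along an isomorphism of
commuting graphs. -/

set_option autoImplicit false

namespace Cfsg.Agent.S3412P

open Matrix

namespace KERTRANS

theorem kerHyp_of_iso {H G : Type*} [Group H] [Group G]
    (f : {h : H // h ≠ 1} ≃ {g : G // g ≠ 1}) (hf : IsGraphIso f) (e : QV H ≃ QV G)
    (he : ∀ (A : QV H) (a : H) (ha : a ≠ 1), a ∈ A.1 ↔ (f ⟨a, ha⟩ : G) ∈ (e A).1)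
    (hG : KerHyp G) : KerHyp H := by
  obtain ⟨⟨A', B', hAB⟩, h2⟩ := hG
  refine ⟨⟨e.symm A', e.symm B', ?_⟩, ?_⟩
  · intro a haA haB
    by_contra ha
    have h1 := (he (e.symm A') a ha).1 haA
    have h3 := (he (e.symm B') a ha).1 haB
    rw [Equiv.apply_symm_apply] at h1 h3
    exact (f ⟨a, ha⟩).2 (hAB _ h1 h3)
  · intro A a haA ha
    have h1 := (he A a ha).1 haA
    obtain ⟨B', hB'⟩ := h2 (e A) (f ⟨a, ha⟩ : G) h1 (f ⟨a, ha⟩).2
    refine ⟨e.symm B', ?_⟩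
    intro b hbB hb hcomm
    have h3 := (he (e.symm B') b hb).1 hbB
    rw [Equiv.apply_symm_apply] at h3
    apply hB' (f ⟨b, hb⟩ : G) h3 (f ⟨b, hb⟩).2
    exact (hf ⟨a, ha⟩ ⟨b, hb⟩).1 hcomm.eq

end KERTRANS

end Cfsg.Agent.S3412P
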