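import Mathlib
import Cfsg.Agent.Helper26.S5704GENDDefs

set_option autoImplicit false
set_option linter.unusedSectionVars false
set_option linter.unusedVariables false

/-! # S5704, chapter SEED, sub-chapter GEND (designer helper26), piece GEMUL: `GE` is additive in `u'`. -/

namespace Cfsg.Agent.S5704P

open Matrix Cfsg.Agent.S5637P Cfsg.Agent.S5704S Cfsg.Agent.Helper28.Sg

variable {F : Type*} [Field F] {n a b : ℕ} (e : Fin n ≃ Fin a × Fin b)

theorem GEND.GEMUL.mul {GU : Matrix (Fin a) (Fin a) F} {GW : Matrix (Fin b) (Fin b) F}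
    (hW : IsSymp GW) {u u' u'' : Fin a → F} {z p : Fin b → F} (hzp : bf GW z p = 0) {α β : F}
    {k k' : GL (Fin n) F} (h : GE e GU GW u u' z p α β k) (h' : GE e GU GW u u'' z p α β k') :
    GE e GU GW u (u' + u'') z p α β (k * k') := by
  have hpz : bf GW p z = 0 := hW.eq_zero_symm hzp
  have kz : ∀ y, (k : Matrix (Fin n) (Fin n) F) *ᵥ tn e y z = tn e y z := fun y => by
    rw [h y z, hzp, hW.alt z, zero_smul, zero_smul, add_zero, sub_zero]
  have kp : ∀ y, (k : Matrix (Fin n) (Fin n) F) *ᵥ tn e y p = tn e y p := fun y => by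
    rw [h y p, hpz, hW.alt p, zero_smul, zero_smul, add_zero, sub_zero]
  intro x w
  rw [Units.val_mul, ← mulVec_mulVec, h' x w]
  simp only [mulVec_add, mulVec_sub, mulVec_smul]
  rw [kz, kp, h x w]
  simp only [bf_add_right, tn_add_left, tn_smul_left, smul_add, smul_smul]
  module

end Cfsg.Agent.S5704P
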