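import Mathlib
import Cfsg.Agent.Helper26.S5704GENDDefs

set_option autoImplicit false
set_option linter.unusedSectionVars false
set_option linter.unusedVariables false

/-! # S5704, chapter SEED, sub-chapter GEND (designer helper26), piece DC: the double commutator
`[G(u,u',z,z';lam,lam'), G(u,v',w,w';mu,mu')] = G(u,u,z,w';κ,0)`, `κ = lam mu' (u',v') (z',w)`. -/

namespace Cfsg.Agent.S5704P

open Matrix Cfsg.Agent.S5637P Cfsg.Agent.S5704S Cfsg.Agent.Helper28.Sg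

variable {F : Type*} [Field F] {n a b : ℕ} (e : Fin n ≃ Fin a × Fin b)

/-- an element with `GE` fixes `y ⊗ w₁` when `w₁ ⊥ z, p` -/
theorem GEND.DC.fix {GU : Matrix (Fin a) (Fin a) F} {GW : Matrix (Fin b) (Fin b) F}
    {u u' : Fin a → F} {z p : Fin b → F} {α β : F} {k : GL (Fin n) F}
    (h : GE e GU GW u u' z p α β k) (y : Fin a → F) {w₁ : Fin b → F} (h1 : bf GW w₁ p = 0)
    (h2 : bf GW w₁ z = 0) :
    (k : Matrix (Fin n) (Fin n) F) *ᵥ tn e y w₁ = tn e y w₁ := by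
  rw [h y w₁, h1, h2, zero_smul, zero_smul, add_zero, sub_zero]

/-- an element with `GE u u' ..` fixes `y ⊗ w₁` when `y ⊥ u, u'` -/
theorem GEND.DC.fix' {GU : Matrix (Fin a) (Fin a) F} {GW : Matrix (Fin b) (Fin b) F}
    {u u' : Fin a → F} {z p : Fin b → F} {α β : F} {k : GL (Fin n) F}
    (h : GE e GU GW u u' z p α β k) {y : Fin a → F} (w₁ : Fin b → F) (h1 : bf GU y u = 0)
    (h2 : bf GU y u' = 0) :
    (k : Matrix (Fin n) (Fin n) F) *ᵥ tn e y w₁ = tn e y w₁ := by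
  rw [h y w₁, h1, h2]
  simp only [mul_zero, zero_smul, add_zero, tn_zero_left, smul_zero, sub_zero]

theorem GEND.DC.main {GU : Matrix (Fin a) (Fin a) F} {GW : Matrix (Fin b) (Fin b) F}
    (hU : IsSymp GU) (hW : IsSymp GW) {u u' v' : Fin a → F} {z z' w w' : Fin b → F}
    (huu' : bf GU u u' = 0) (huv' : bf GU u v' = 0) (hzz' : bf GW z z' = 0) (hww' : bf GW w w' = 0)
    (hzw : bf GW z w = 0) (hzw' : bf GW z w' = 0) (hz'w' : bf GW z' w' = 0)
    {lam lam' mu mu' : F} {k1 k2 R : GL (Fin n) F}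
    (h1 : GE e GU GW u u' z z' lam lam' k1) (h2 : GE e GU GW u v' w w' mu mu' k2)
    (hR : GE e GU GW u u z w' (lam * mu' * bf GU u' v' * bf GW z' w) 0 R) :
    k1 * k2 = R * (k2 * k1) := by
  have hu'u : bf GU u' u = 0 := hU.eq_zero_symm huu'
  have hv'u : bf GU v' u = 0 := hU.eq_zero_symm huv'
  have huu : bf GU u u = 0 := hU.alt u
  have hu'u'0 : bf GU u' u' = 0 := hU.alt u'
  have hv'v'0 : bf GU v' v' = 0 := hU.alt v'
  have hv'u' : bf GU v' u' = - bf GU u' v' := hU.skew v' u'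
  have hwz : bf GW w z = 0 := hW.eq_zero_symm hzw
  have hw'z : bf GW w' z = 0 := hW.eq_zero_symm hzw'
  have hw'z' : bf GW w' z' = 0 := hW.eq_zero_symm hz'w'
  have hz'z : bf GW z' z = 0 := hW.eq_zero_symm hzz'
  have hw'w : bf GW w' w = 0 := hW.eq_zero_symm hww'
  have hzz : bf GW z z = 0 := hW.alt z
  have hwz' : bf GW w z' = - bf GW z' w := hW.skew w z'
  -- fixed vectors
  have k1w' : ∀ y, (k1 : Matrix (Fin n) (Fin n) F) *ᵥ tn e y w' = tn e y w' := fun y =>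
    GEND.DC.fix e h1 y hw'z' hw'z
  have k2z : ∀ y, (k2 : Matrix (Fin n) (Fin n) F) *ᵥ tn e y z = tn e y z := fun y =>
    GEND.DC.fix e h2 y hzw' hzw
  have Ru : ∀ w₁, (R : Matrix (Fin n) (Fin n) F) *ᵥ tn e u w₁ = tn e u w₁ := fun w₁ =>
    GEND.DC.fix' e hR w₁ huu huu
  have Ru' : ∀ w₁, (R : Matrix (Fin n) (Fin n) F) *ᵥ tn e u' w₁ = tn e u' w₁ := fun w₁ =>
    GEND.DC.fix' e hR w₁ hu'u hu'u
  have Rv' : ∀ w₁, (R : Matrix (Fin n) (Fin n) F) *ᵥ tn e v' w₁ = tn e v' w₁ := fun w₁ =>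
    GEND.DC.fix' e hR w₁ hv'u hv'u
  -- the other values
  have k1uw : (k1 : Matrix (Fin n) (Fin n) F) *ᵥ tn e u w = tn e u w := by
    rw [h1 u w, hwz, huu', huu]
    simp only [mul_zero, zero_smul, add_zero, tn_zero_left, smul_zero, sub_zero]
  have k1v'w : (k1 : Matrix (Fin n) (Fin n) F) *ᵥ tn e v' w =
      tn e v' w + (bf GW z' w * lam * bf GU u' v') • tn e u z := by
    rw [h1 v' w, hwz, hv'u, hwz', hv'u']
    simp only [mul_zero, zero_smul, add_zero, tn_smul_left, smul_smul]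
    module
  have k2uz' : (k2 : Matrix (Fin n) (Fin n) F) *ᵥ tn e u z' = tn e u z' := by
    rw [h2 u z', hz'w', huv', huu]
    simp only [mul_zero, zero_smul, add_zero, tn_zero_left, smul_zero, sub_zero]
  have k2u'z' : (k2 : Matrix (Fin n) (Fin n) F) *ᵥ tn e u' z' =
      tn e u' z' - (bf GW z' w * mu' * bf GU u' v') • tn e u w' := by
    rw [h2 u' z', hz'w', hu'u]
    simp only [mul_zero, zero_mul, zero_smul, add_zero, tn_smul_left, smul_smul]
    module
  apply gl_ext_tn e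
  intro x w₀
  rw [Units.val_mul, Units.val_mul, Units.val_mul, ← mulVec_mulVec, ← mulVec_mulVec,
    ← mulVec_mulVec, h2 x w₀, h1 x w₀]
  simp only [mulVec_add, mulVec_sub, mulVec_smul, tn_add_left, tn_smul_left, smul_add]
  rw [k1w', k1w', k2z, k2z, k1uw, k1v'w, k2uz', k2u'z', h1 x w₀, h2 x w₀]
  simp only [mulVec_add, mulVec_sub, mulVec_smul, tn_add_left, tn_smul_left, smul_add, smul_sub]
  rw [Ru, Ru, Ru, Ru, Ru', Ru', Rv', Rv', hR x w₀]
  simp only [tn_add_left, tn_smul_left, smul_add, smul_sub, smul_smul]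
  module

end Cfsg.Agent.S5704P
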