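import Mathlib
import Cfsg.Agent.Helper26.S5704GENDDefs
import Cfsg.Agent.Helper26.S5704ROOTS
import Cfsg.Agent.Helper26.S5704GENDDC
import Cfsg.Agent.Helper26.S5704GENDGEMUL
import Cfsg.Agent.Helper3.S5704GENDCONFIG
import Cfsg.Agent.Helper14.S5704GENDPICKV
import Cfsg.Agent.Lead.S5704GENDSIEGGE
import Cfsg.Agent.Lead.S5704GENDGESIEG
import Cfsg.Agent.Helper24.S5704GENDUMOVE
import Cfsg.Agent.Lead.S5704GENDWMOVE

set_option autoImplicit false
set_option linter.unusedSectionVars false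
set_option linter.unusedVariables false

/-! # S5704, chapter SEED (driver helper15), sub-chapter GEND (designer helper26): assembly `GEND.main`:
the `G`-family gives a seed of type (A) or (B). -/

namespace Cfsg.Agent.S5704P

open Matrix Cfsg.Agent.S5637P Cfsg.Agent.S5704S Cfsg.Agent.Helper28.Sg

variable {F : Type*} [Field F] {n a b : ℕ} (e : Fin n ≃ Fin a × Fin b)
variable {Q : QuadraticForm F (Fin n → F)} {GU : Matrix (Fin a) (Fin a) F}
  {GW : Matrix (Fin b) (Fin b) F} {M : Subgroup (GL (Fin n) F)}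

theorem GEND.notMul_smul {m : ℕ} {z w : Fin m → F} (h : NotMul z w) {s : F} (hs : s ≠ 0) :
    NotMul z (s • w) := by
  intro c hc
  apply h (s⁻¹ * c)
  rw [← smul_smul, ← hc, smul_smul, inv_mul_cancel₀ hs, one_smul]

/-- GEND: the `G`-family gives a seed of type (A) or (B) -/
theorem GEND.main [Fintype F] (hC : Ctx e Q GU GW M) (ha : 4 ≤ a) (hb5 : 5 ≤ b) {z : Fin b → F}
    (hz : z ≠ 0) {u u' : Fin a → F} (hu : u ≠ 0) (huu : bf GU u u' = 0) (hind : NotMul u u')
    {lam lam' : F} (hlam : lam ≠ 0)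
    (hG : ∀ (c : F) (p : Fin b → F), bf GW p z = 0 → ∃ k : GL (Fin n) F, k ∈ M ∧
      EGp e GW z p (c • (lam • RK GU u u' + lam' • RK GU u' u))
        (-(c • (lam' • RK GU u u' + lam • RK GU u' u))) 0 k) :
    SeedA e Q GU M ∨ SeedB e Q GW M := by
  have hT := hC.tdata
  have hU := hT.sympU
  have hW := hT.sympW
  have hF : GFam e GU GW M lam lam' u u' z := fun c p hp => by
    obtain ⟨k, hk, hE⟩ := hG c p hp
    exact ⟨k, hk, GE_of_EGp e hE⟩
  have hrootU : ∀ (v : Fin a → F) (s : F), XU e GU v s ∈ M := fun v s =>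
    hC.hHM (ROOTS.XU_mem_H e hC.nondeg hC.hn hT v s)
  have hrootW : ∀ (y : Fin b → F) (c : F), XW e GW y c ∈ M := fun y c =>
    hC.hHM (ROOTS.XW_mem_H e hC.nondeg hC.hn hT y c)
  by_cases hl' : lam' = 0
  · left
    obtain ⟨k, hk, hE⟩ := hF (-lam⁻¹) z (hW.alt z)
    rw [hl', mul_zero, neg_mul, inv_mul_cancel₀ hlam] at hE
    have h := GEND.GESIEG.inM e hT (Or.inl huu) hk hE
    rw [neg_neg, one_smul] at h
    exact ⟨u, u', z, hu, hz, huu, hind, h⟩
  · right
    obtain ⟨v, hv, hv'⟩ := GEND.PICKV.exists hU hu hind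
    have hF2 := GEND.UMOVE.fam e hU hW hrootU hF hv
    obtain ⟨z', w, w', hzz', hww', hzw, hzw', hz'w', hz'w, hnm⟩ := GEND.CONFIG.exists hW hb5 hz
    have hw : w ≠ 0 := by
      rintro rfl
      exact hz'w (bf_zero_right _ _)
    have hF3 := GEND.WMOVE.fam e hW hrootW hz hw hF2
    obtain ⟨k1, hk1, hE1⟩ := hF 1 z' (hW.eq_zero_symm hzz')
    obtain ⟨k2, hk2, hE2⟩ := hF3 1 w' (hW.eq_zero_symm hww')
    rw [one_mul, one_mul] at hE1 hE2
    have huv' : bf GU u (bf GU u' v • v) = 0 := by rw [bf_smul_right, hv, mul_zero]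
    have hκ0 : lam * lam' * bf GU u' (bf GU u' v • v) * bf GW z' w ≠ 0 := by
      rw [bf_smul_right]
      exact mul_ne_zero (mul_ne_zero (mul_ne_zero hlam hl') (mul_ne_zero hv' hv')) hz'w
    have hX : Q (tn e u z) = 0 := by
      rw [← pt_one]
      exact hT.sing u z
    have hXv : B Q (tn e u z)
        (tn e ((-(lam * lam' * bf GU u' (bf GU u' v • v) * bf GW z' w)) • u) w') = 0 := by
      have h := hT.pol u z ((-(lam * lam' * bf GU u' (bf GU u' v • v) * bf GW z' w)) • u) w'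
      rw [pt_one, pt_one] at h
      show QuadraticMap.polar ⇑Q _ _ = 0
      rw [h, hzw', mul_zero]
    have hR := GEND.SIEGGE.ge e hT u u z w' (lam * lam' * bf GU u' (bf GU u' v • v) * bf GW z' w) hX hXv
    have hcomm := GEND.DC.main e hU hW huu huv' hzz' hww' hzw hzw' hz'w' hE1 hE2 hR
    have hRM : ((siegO Q (tn e u z)
        (tn e ((-(lam * lam' * bf GU u' (bf GU u' v • v) * bf GW z' w)) • u) w') hX hXv :
          ↥(Cfsg.isometryGroup F ⇑Q)) : GL (Fin n) F) ∈ M := by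
      have h : ((siegO Q (tn e u z)
          (tn e ((-(lam * lam' * bf GU u' (bf GU u' v • v) * bf GW z' w)) • u) w') hX hXv :
            ↥(Cfsg.isometryGroup F ⇑Q)) : GL (Fin n) F) = k1 * k2 * (k2 * k1)⁻¹ := by
        rw [hcomm, mul_inv_cancel_right]
      rw [h]
      exact M.mul_mem (M.mul_mem hk1 hk2) (M.inv_mem (M.mul_mem hk2 hk1))
    have hin : InM Q (MO Q M) (tn e u z)
        (tn e ((-(lam * lam' * bf GU u' (bf GU u' v • v) * bf GW z' w)) • u) w') :=
      ⟨hX, hXv, hRM⟩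
    rw [tn_smul_left, ← tn_smul_right] at hin
    refine ⟨u, z, (-(lam * lam' * bf GU u' (bf GU u' v • v) * bf GW z' w)) • w', hu, hz, ?_,
      GEND.notMul_smul hnm (neg_ne_zero.mpr hκ0), hin⟩
    rw [bf_smul_right, hzw', mul_zero]

end Cfsg.Agent.S5704P
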