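import Mathlib
import Cfsg.Prelude.Def_ClassicalGeometry
import Cfsg.Agent.Helper16.S5955Defs
import Cfsg.Agent.Helper21.S5949CYCMAIN

set_option autoImplicit false
open scoped MatrixGroups

/-! # S5955, piece IRRDIV: an invariant subspace without fixed points whose dimension is
`i = ord_r(q)` is irreducible. -/

universe u

namespace Cfsg.Agent.S5955P

open Polynomial Cfsg.Agent.Helper2.SympInvol Cfsg.Agent.Helper2.SympUnits Cfsg.Agent.S5961P

namespace IRRDIV

/-- the restriction of `y` to an invariant subspace has order dividing `r` -/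
theorem restrict_pow {F V : Type*} [Field F] [AddCommGroup V] [Module F V]
    (r : ℕ) (y : Module.End F V) (hy : y ^ r = 1)
    (W : Submodule F V) (hW' : ∀ v ∈ W, y v ∈ W) : (y.restrict hW') ^ r = 1 := by
  ext w
  have := Cfsg.Agent.S5949P.Basic.pow_intertwine W.subtype (y.restrict hW') y (fun _ => rfl) r w
  rw [hy] at this
  exact this

/-- the restriction of `y` to an invariant subspace without fixed points has no fixed points -/
theorem restrict_ker {F V : Type*} [Field F] [AddCommGroup V] [Module F V]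
    (y : Module.End F V) (W : Submodule F V) (hW' : ∀ v ∈ W, y v ∈ W)
    (hfix : W ⊓ LinearMap.ker (y - 1) = ⊥) : LinearMap.ker (y.restrict hW' - 1) = ⊥ := by
  rw [Submodule.eq_bot_iff]
  intro w hw
  rw [LinearMap.mem_ker, LinearMap.sub_apply, sub_eq_zero] at hw
  have h1 : y (w : V) = (w : V) := congrArg Subtype.val hw
  have h2 : (w : V) ∈ W ⊓ LinearMap.ker (y - 1) := by
    refine Submodule.mem_inf.mpr ⟨w.2, ?_⟩
    rw [LinearMap.mem_ker, LinearMap.sub_apply, sub_eq_zero]
    exact h1
  rw [hfix, Submodule.mem_bot] at h2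
  exact Subtype.ext h2

/-- `ord_r(q)` divides the dimension of an invariant subspace without fixed points -/
theorem finrank_dvd {F V : Type*} [Field F] [Fintype F] [AddCommGroup V] [Module F V]
    [FiniteDimensional F V] {p : ℕ} [Fact p.Prime] [CharP F p] (r : ℕ) [Fact r.Prime]
    (hrp : r ≠ p) (y : Module.End F V) (hy : y ^ r = 1)
    (W : Submodule F V) (hW : W.map y ≤ W) (hfix : W ⊓ LinearMap.ker (y - 1) = ⊥) :
    orderOf ((Fintype.card F : ℕ) : ZMod r) ∣ Module.finrank F W := by
  have hW' : ∀ v ∈ W, y v ∈ W := fun v hv => hW ⟨v, hv, rfl⟩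
  have h1 := (Cfsg.Agent.S5949P.cyc_main r hrp (y.restrict hW') (restrict_pow r y hy W hW')).1
  rw [restrict_ker y W hW' hfix, finrank_bot, Nat.sub_zero] at h1
  exact h1

end IRRDIV

set_option linter.unusedVariables false in
/-- IRRDIV: an invariant subspace without fixed points whose dimension is `i` is irreducible -/
theorem irr_of_finrank {F V : Type*} [Field F] [Fintype F] [AddCommGroup V] [Module F V]
    [FiniteDimensional F V] {p : ℕ} [Fact p.Prime] [CharP F p] (r : ℕ) [Fact r.Prime]
    (hrp : r ≠ p) (y : Module.End F V) (hy : y ^ r = 1)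
    (E : Submodule F V) (hE : E.map y ≤ E) (hfix : E ⊓ LinearMap.ker (y - 1) = ⊥)
    (hdim : Module.finrank F E = orderOf ((Fintype.card F : ℕ) : ZMod r)) :
    ∀ U₁ : Submodule F V, U₁ ≤ E → U₁.map y ≤ U₁ → U₁ = ⊥ ∨ U₁ = E := by
  intro U₁ hU₁E hU₁
  have hfix₁ : U₁ ⊓ LinearMap.ker (y - 1) = ⊥ := by
    rw [eq_bot_iff, ← hfix]
    exact inf_le_inf_right _ hU₁E
  have hdvd := IRRDIV.finrank_dvd r hrp y hy U₁ hU₁ hfix₁
  have hle : Module.finrank F U₁ ≤ Module.finrank F E := Submodule.finrank_mono hU₁E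
  rw [← hdim] at hdvd
  obtain ⟨k, hk⟩ := hdvd
  rcases Nat.eq_zero_or_pos k with hk0 | hk0
  · left
    rw [hk0, mul_zero] at hk
    exact Submodule.finrank_eq_zero.mp hk
  · right
    apply Submodule.eq_of_le_of_finrank_le hU₁E
    rw [hk]
    exact Nat.le_mul_of_pos_right _ hk0

end Cfsg.Agent.S5955P
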