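import Mathlib
import Cfsg.Prelude.Def_ClassicalGeometry
import Cfsg.Agent.Helper16.S5955Defs
import Cfsg.Agent.Helper21.S5949Basic

set_option autoImplicit false
open scoped MatrixGroups

/-! # S5955, piece UNIQ: on an irreducible invariant subspace `E` of `y` a polynomial killing one
nonzero vector kills `E`; the monic polynomial of degree `finrank E` doing so exists and is unique;
nonzero polynomials of smaller degree are injective on `E`. -/

universe u

namespace Cfsg.Agent.S5955P

open Polynomial Cfsg.Agent.Helper2.SympInvol Cfsg.Agent.Helper2.SympUnits Cfsg.Agent.S5961P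

namespace UNIQ

variable {F V : Type*} [Field F] [AddCommGroup V] [Module F V]

/-- the linear map `P ↦ P(y) v` -/
noncomputable def evalAt (y : Module.End F V) (v : V) : F[X] →ₗ[F] V :=
  (LinearMap.applyₗ v) ∘ₗ (aeval y).toLinearMap

theorem evalAt_apply (y : Module.End F V) (v : V) (P : F[X]) : evalAt y v P = aeval y P v := rfl

theorem self_mem_range (y : Module.End F V) (v : V) : v ∈ LinearMap.range (evalAt y v) :=
  ⟨1, by rw [evalAt_apply, map_one, Module.End.one_apply]⟩

theorem range_invariant (y : Module.End F V) (v : V) :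
    (LinearMap.range (evalAt y v)).map y ≤ LinearMap.range (evalAt y v) := by
  rintro _ ⟨_, ⟨P, rfl⟩, rfl⟩
  refine ⟨X * P, ?_⟩
  rw [evalAt_apply, evalAt_apply, map_mul, aeval_X, Module.End.mul_apply]

theorem range_le (y : Module.End F V) (E : Submodule F V) (hE : E.map y ≤ E) (v : V)
    (hv : v ∈ E) : LinearMap.range (evalAt y v) ≤ E := by
  rintro _ ⟨P, rfl⟩
  rw [evalAt_apply]
  exact Cfsg.Agent.S5949P.Basic.aeval_mem_of_invariant y E hE P v hv

theorem finrank_range_le [FiniteDimensional F V] (y : Module.End F V) (v : V) (h : F[X])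
    (hh0 : h ≠ 0) (hv : aeval y h v = 0) :
    Module.finrank F (LinearMap.range (evalAt y v)) ≤ h.natDegree := by
  have hle : LinearMap.range (evalAt y v) ≤ (degreeLT F h.natDegree).map (evalAt y v) := by
    rintro _ ⟨P, rfl⟩
    refine ⟨P % h, ?_, ?_⟩
    · rw [SetLike.mem_coe, mem_degreeLT, ← degree_eq_natDegree hh0]
      exact degree_mod_lt P hh0
    · have h1 : P = h * (P / h) + P % h := (EuclideanDomain.div_add_mod P h).symm
      conv_rhs => rw [h1]
      rw [evalAt_apply, evalAt_apply, map_add, mul_comm, map_mul, LinearMap.add_apply,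
        Module.End.mul_apply, hv, map_zero, zero_add]
  have h1 : Module.finrank F (degreeLT F h.natDegree) = h.natDegree := by
    rw [LinearEquiv.finrank_eq (degreeLTEquiv F h.natDegree), Module.finrank_fin_fun]
  have hfin : Module.Finite F (degreeLT F h.natDegree) :=
    Module.Finite.equiv (degreeLTEquiv F h.natDegree).symm
  calc Module.finrank F (LinearMap.range (evalAt y v))
      ≤ Module.finrank F ((degreeLT F h.natDegree).map (evalAt y v)) :=
        Submodule.finrank_mono hle
    _ ≤ Module.finrank F (degreeLT F h.natDegree) := Submodule.finrank_map_le _ _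
    _ = h.natDegree := h1

/-- `ker g(y) ⊓ E` is invariant -/
theorem ker_inf_invariant (y : Module.End F V) (E : Submodule F V) (hE : E.map y ≤ E)
    (g : F[X]) :
    (LinearMap.ker (aeval y g) ⊓ E).map y ≤ LinearMap.ker (aeval y g) ⊓ E := by
  rintro _ ⟨u, hu, rfl⟩
  obtain ⟨hu1, hu2⟩ := Submodule.mem_inf.mp hu
  refine Submodule.mem_inf.mpr ⟨?_, hE ⟨u, hu2, rfl⟩⟩
  rw [LinearMap.mem_ker] at hu1 ⊢
  have h1 : aeval y (g * X) = aeval y (X * g) := by rw [mul_comm]
  rw [map_mul, map_mul, aeval_X] at h1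
  have h2 := LinearMap.congr_fun h1 u
  rw [Module.End.mul_apply, Module.End.mul_apply, hu1, map_zero] at h2
  exact h2

end UNIQ

/-- UNIQ -/
theorem monic_unique_of_irr {F V : Type*} [Field F] [AddCommGroup V] [Module F V]
    [FiniteDimensional F V] (y : Module.End F V) (E : Submodule F V) (hE : E.map y ≤ E)
    (hirr : ∀ U₁ : Submodule F V, U₁ ≤ E → U₁.map y ≤ U₁ → U₁ = ⊥ ∨ U₁ = E) :
    (∀ g : F[X], (∃ v ∈ E, v ≠ 0 ∧ aeval y g v = 0) → ∀ u ∈ E, aeval y g u = 0) ∧
    (∀ g g' : F[X], g.Monic → g'.Monic → g.natDegree = Module.finrank F E →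
      g'.natDegree = Module.finrank F E → (∃ v ∈ E, v ≠ 0 ∧ aeval y g v = 0) →
      (∃ v ∈ E, v ≠ 0 ∧ aeval y g' v = 0) → g = g') ∧
    (E ≠ ⊥ → ∃ g : F[X], g.Monic ∧ g.natDegree = Module.finrank F E ∧
      ∀ u ∈ E, aeval y g u = 0) ∧
    (∀ h : F[X], h ≠ 0 → h.natDegree < Module.finrank F E → ∀ v ∈ E, v ≠ 0 →
      aeval y h v ≠ 0) := by
  have hE' : ∀ v ∈ E, y v ∈ E := fun v hv => hE ⟨v, hv, rfl⟩
  have h1 : ∀ g : F[X], (∃ v ∈ E, v ≠ 0 ∧ aeval y g v = 0) → ∀ u ∈ E, aeval y g u = 0 := by
    rintro g ⟨v, hvE, hv0, hgv⟩ u hu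
    rcases hirr _ inf_le_right (UNIQ.ker_inf_invariant y E hE g) with h | h
    · exfalso
      have hv : v ∈ LinearMap.ker (aeval y g) ⊓ E :=
        Submodule.mem_inf.mpr ⟨LinearMap.mem_ker.mpr hgv, hvE⟩
      rw [h, Submodule.mem_bot] at hv
      exact hv0 hv
    · have hu' : u ∈ LinearMap.ker (aeval y g) ⊓ E := by rw [h]; exact hu
      exact LinearMap.mem_ker.mp (Submodule.mem_inf.mp hu').1
  have h4 : ∀ h : F[X], h ≠ 0 → h.natDegree < Module.finrank F E → ∀ v ∈ E, v ≠ 0 →
      aeval y h v ≠ 0 := by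
    intro h hh0 hdeg v hvE hv0 hhv
    rcases hirr _ (UNIQ.range_le y E hE v hvE) (UNIQ.range_invariant y v) with h' | h'
    · have := UNIQ.self_mem_range y v
      rw [h', Submodule.mem_bot] at this
      exact hv0 this
    · have := UNIQ.finrank_range_le y v h hh0 hhv
      rw [h'] at this
      omega
  refine ⟨h1, ?_, ?_, h4⟩
  · intro g g' hg hg' hgd hgd' hgv hgv'
    by_contra hne
    obtain ⟨v, hvE, hv0, _⟩ := id hgv
    have hpos : 0 < Module.finrank F E := by
      rw [Module.finrank_pos_iff]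
      exact ⟨⟨⟨v, hvE⟩, 0, fun h => hv0 (congrArg Subtype.val h)⟩⟩
    have hsub0 : g - g' ≠ 0 := sub_ne_zero.mpr hne
    have hdeg : (g - g').natDegree < Module.finrank F E := by
      have hg0 : g ≠ 0 := hg.ne_zero
      have hd : g.degree = g'.degree := by
        rw [degree_eq_natDegree hg0, degree_eq_natDegree hg'.ne_zero, hgd, hgd']
      have hlt := degree_sub_lt_left hd hg0 (by rw [hg.leadingCoeff, hg'.leadingCoeff])
      rw [degree_eq_natDegree hg0, hgd] at hlt
      exact (natDegree_lt_iff_degree_lt hsub0).mpr hlt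
    apply h4 (g - g') hsub0 hdeg v hvE hv0
    rw [map_sub, LinearMap.sub_apply, h1 g hgv v hvE, h1 g' hgv' v hvE, sub_zero]
  · intro _
    refine ⟨(y.restrict hE').charpoly, LinearMap.charpoly_monic _, LinearMap.charpoly_natDegree _,
      ?_⟩
    intro u hu
    have := Cfsg.Agent.S5949P.Basic.aeval_restrict_apply y E hE' (y.restrict hE').charpoly ⟨u, hu⟩
    rw [LinearMap.aeval_self_charpoly] at this
    exact this.symm

end Cfsg.Agent.S5955P
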