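import Mathlib
import Cfsg.Prelude.Def_ClassicalGeometry
import Cfsg.Agent.Helper16.S5955Defs
import Cfsg.Agent.Helper21.S5949CYCMAIN
import Cfsg.Agent.Helper26.S5955IRRDIV

set_option autoImplicit false
open scoped MatrixGroups

/-! # S5955, piece IRRSUB: a nonzero invariant subspace without fixed points contains an
irreducible invariant subspace of dimension `i = ord_r(q)`. -/

universe u

namespace Cfsg.Agent.S5955P

open Polynomial Cfsg.Agent.Helper2.SympInvol Cfsg.Agent.Helper2.SympUnits Cfsg.Agent.S5961P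

/-- IRRSUB -/
theorem exists_irr_sub {F V : Type*} [Field F] [Fintype F] [AddCommGroup V] [Module F V]
    [FiniteDimensional F V] {p : ℕ} [Fact p.Prime] [CharP F p] (r : ℕ) [Fact r.Prime]
    (hrp : r ≠ p) (y : Module.End F V) (hy : y ^ r = 1)
    (W : Submodule F V) (hW : W.map y ≤ W) (hW0 : W ≠ ⊥)
    (hfix : W ⊓ LinearMap.ker (y - 1) = ⊥) :
    ∃ U : Submodule F V, U ≤ W ∧ U.map y ≤ U ∧
      Module.finrank F U = orderOf ((Fintype.card F : ℕ) : ZMod r) ∧
      ∀ U₁ : Submodule F V, U₁ ≤ U → U₁.map y ≤ U₁ → U₁ = ⊥ ∨ U₁ = U := by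
  have hW' : ∀ v ∈ W, y v ∈ W := fun v hv => hW ⟨v, hv, rfl⟩
  have hpow := IRRDIV.restrict_pow r y hy W hW'
  have hker := IRRDIV.restrict_ker y W hW' hfix
  have hdvd := IRRDIV.finrank_dvd r hrp y hy W hW hfix
  have hpos : 0 < Module.finrank F W := by
    rw [Module.finrank_pos_iff]
    exact Submodule.nontrivial_iff_ne_bot.mpr hW0
  have hle : orderOf ((Fintype.card F : ℕ) : ZMod r) ≤ Module.finrank F W :=
    Nat.le_of_dvd hpos hdvd
  obtain ⟨W2, hW2inv, hW2dim⟩ :=
    (Cfsg.Agent.S5949P.cyc_main r hrp (y.restrict hW') hpow).2.2 0 1 (Nat.zero_le _) (by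
      rw [hker, finrank_bot, zero_add, mul_one]
      exact hle)
  rw [zero_add, mul_one] at hW2dim
  have hUle : W2.map W.subtype ≤ W := by
    rintro _ ⟨w, _, rfl⟩
    exact w.2
  have hUinv : (W2.map W.subtype).map y ≤ W2.map W.subtype := by
    rintro _ ⟨_, ⟨w, hw, rfl⟩, rfl⟩
    exact ⟨_, hW2inv ⟨w, hw, rfl⟩, rfl⟩
  have hUdim : Module.finrank F (W2.map W.subtype) =
      orderOf ((Fintype.card F : ℕ) : ZMod r) := by
    rw [Submodule.finrank_map_subtype_eq, hW2dim]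
  have hUfix : W2.map W.subtype ⊓ LinearMap.ker (y - 1) = ⊥ := by
    rw [eq_bot_iff, ← hfix]
    exact inf_le_inf_right _ hUle
  exact ⟨W2.map W.subtype, hUle, hUinv, hUdim,
    irr_of_finrank r hrp y hy _ hUinv hUfix hUdim⟩

end Cfsg.Agent.S5955P
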