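import Mathlib
import Cfsg.Agent.Helper26.QdSec2

set_option autoImplicit false
set_option linter.unusedSectionVars false
set_option linter.unusedVariables false
set_option linter.style.haveILetI false

/-! # From a natural `SL₂(p)`-pair to a `Qd(p)`-section: the core theorem -/

namespace Cfsg.Agent.Helper26.QdSec

open Cfsg.Agent.Helper18.Dickson Cfsg.Agent.Helper14

variable {X : Type*} [Group X] {p : ℕ} [hp : Fact p.Prime]

local notation "SLp" => Matrix.SpecialLinearGroup (Fin 2) (ZMod p)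

/-- pairs `(l, M)` with `l` acting on `θ` through the matrix `M` -/
def Gam (p : ℕ) [Fact p.Prime] (f₁ f₂ : X) :
    Subgroup (X × Matrix.SpecialLinearGroup (Fin 2) (ZMod p)) where
  carrier := {g | ∀ v, g.1 * theta f₁ f₂ v * g.1⁻¹ =
    theta f₁ f₂ ((g.2 : Matrix (Fin 2) (Fin 2) (ZMod p)).mulVec v)}
  one_mem' := by
    intro v
    simp
  mul_mem' := by
    intro g g' hg hg' v
    have : (g * g').1 * theta f₁ f₂ v * (g * g').1⁻¹ =
        g.1 * (g'.1 * theta f₁ f₂ v * g'.1⁻¹) * g.1⁻¹ := by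
      simp only [Prod.fst_mul, mul_inv_rev]
      group
    rw [this, hg' v, hg, Matrix.mulVec_mulVec, Prod.snd_mul, Matrix.SpecialLinearGroup.coe_mul]
  inv_mem' := by
    intro g hg v
    have h1 := hg (((g.2⁻¹ : Matrix.SpecialLinearGroup (Fin 2) (ZMod p)) :
      Matrix (Fin 2) (Fin 2) (ZMod p)).mulVec v)
    rw [Matrix.mulVec_mulVec, ← Matrix.SpecialLinearGroup.coe_mul, mul_inv_cancel,
      Matrix.SpecialLinearGroup.coe_one, Matrix.one_mulVec] at h1
    simp only [Prod.fst_inv, Prod.snd_inv, inv_inv]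
    rw [← h1]
    group

theorem mem_Gam (f₁ f₂ : X) (g : X × SLp) : g ∈ Gam p f₁ f₂ ↔
    ∀ v, g.1 * theta f₁ f₂ v * g.1⁻¹ =
      theta f₁ f₂ ((g.2 : Matrix (Fin 2) (Fin 2) (ZMod p)).mulVec v) := Iff.rfl

/-- pairs `(k, Q)` with `k` acting on the cosets `θ(v) N` through the affine map `Q` -/
def GamHat (p : ℕ) [Fact p.Prime] (f₁ f₂ : X) (N : Subgroup X) :
    Subgroup (X × Cfsg.Agent.Helper17.affSub (ZMod p)) where
  carrier := {g | ∀ v, (theta f₁ f₂ (affAct g.2 v))⁻¹ * g.1 * theta f₁ f₂ v ∈ N}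
  one_mem' := by
    intro v
    simp only [Prod.snd_one, Prod.fst_one, affAct_one, mul_one, inv_mul_cancel]
    exact N.one_mem
  mul_mem' := by
    intro g g' hg hg' v
    have h1 := hg (affAct g'.2 v)
    have h2 := hg' v
    have h3 := N.mul_mem h1 h2
    have : (theta f₁ f₂ (affAct (g * g').2 v))⁻¹ * (g * g').1 * theta f₁ f₂ v =
        (theta f₁ f₂ (affAct g.2 (affAct g'.2 v)))⁻¹ * g.1 * theta f₁ f₂ (affAct g'.2 v) *
          ((theta f₁ f₂ (affAct g'.2 v))⁻¹ * g'.1 * theta f₁ f₂ v) := by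
      rw [Prod.snd_mul, Prod.fst_mul, affAct_mul]
      group
    show _ ∈ N
    rw [this]
    exact h3
  inv_mem' := by
    intro g hg v
    have h1 := hg (affAct g.2⁻¹ v)
    rw [← affAct_mul, mul_inv_cancel, affAct_one] at h1
    have h2 := N.inv_mem h1
    have : (theta f₁ f₂ (affAct g⁻¹.2 v))⁻¹ * g⁻¹.1 * theta f₁ f₂ v =
        ((theta f₁ f₂ v)⁻¹ * g.1 * theta f₁ f₂ (affAct g.2⁻¹ v))⁻¹ := by
      simp only [Prod.fst_inv, Prod.snd_inv, mul_inv_rev, inv_inv]
      group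
    show _ ∈ N
    rw [this]
    exact h2

theorem mem_GamHat (f₁ f₂ : X) (N : Subgroup X) (g : X × Cfsg.Agent.Helper17.affSub (ZMod p)) :
    g ∈ GamHat p f₁ f₂ N ↔
      ∀ v, (theta f₁ f₂ (affAct g.2 v))⁻¹ * g.1 * theta f₁ f₂ v ∈ N := Iff.rfl

theorem neg_one_mulVec (v : Fin 2 → ZMod p) :
    ((-1 : SLp) : Matrix (Fin 2) (Fin 2) (ZMod p)).mulVec v = -v := by
  rw [Matrix.SpecialLinearGroup.coe_neg, Matrix.SpecialLinearGroup.coe_one, Matrix.neg_mulVec,
    Matrix.one_mulVec]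

/-- **Core theorem**: a natural pair in a finite group gives a `Qd(p)`-section. -/
theorem involves_qd_of_coreHyp [Finite X] (hp2 : p ≠ 2) {x y f₁ f₂ : X}
    (h : CoreHyp p x y f₁ f₂) : Cfsg.Involves ↥(Cfsg.qd p) X := by
  classical
  haveI : Finite SLp := by
    unfold Matrix.SpecialLinearGroup
    infer_instance
  have hpodd : Odd p := hp.out.odd_of_ne_two hp2
  -- the projection of `Γ` to `SL₂(p)` is onto
  obtain ⟨π, hπ⟩ : ∃ π : Gam p f₁ f₂ →* SLp,
      π = (MonoidHom.snd X SLp).comp (Gam p f₁ f₂).subtype := ⟨_, rfl⟩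
  have hπa : ∀ g : Gam p f₁ f₂, π g = (g : X × SLp).2 := by
    intro g
    rw [hπ]
    rfl
  have hxΓ : ((x, uM (1 : ZMod p)) : X × SLp) ∈ Gam p f₁ f₂ := fun v => theta_conj_x h v
  have hyΓ : ((y, lM (1 : ZMod p)) : X × SLp) ∈ Gam p f₁ f₂ := fun v => theta_conj_y h v
  have hπs : Function.Surjective π := by
    rw [← MonoidHom.range_eq_top, eq_top_iff, ← closure_uM_lM_zmod p, Subgroup.closure_le]
    intro M hM
    rcases hM with rfl | hM
    · exact ⟨⟨_, hxΓ⟩, hπa _⟩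
    · rw [Set.mem_singleton_iff] at hM
      subst hM
      exact ⟨⟨_, hyΓ⟩, hπa _⟩
  have hzc : ∀ s : SLp, s * (-1) = (-1) * s := by
    intro s
    apply Subtype.ext
    simp
  have hz2 : (-1 : SLp) * (-1) = 1 := by
    apply Subtype.ext
    simp
  obtain ⟨N, hNcov, hNtriv⟩ := exists_cover π hπs (-1) hzc hz2
  -- the image of `N` in `X`
  obtain ⟨NX, hNX⟩ : ∃ NX : Subgroup X,
      NX = N.map ((MonoidHom.fst X SLp).comp (Gam p f₁ f₂).subtype) := ⟨_, rfl⟩
  have hmemNX : ∀ l : X, l ∈ NX ↔ ∃ M : SLp, ∃ hg : (l, M) ∈ Gam p f₁ f₂,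
      (⟨(l, M), hg⟩ : Gam p f₁ f₂) ∈ N := by
    intro l
    rw [hNX]
    constructor
    · rintro ⟨⟨⟨l', M⟩, hg⟩, hn, rfl⟩
      exact ⟨M, hg, hn⟩
    · rintro ⟨M, hg, hn⟩
      exact ⟨⟨(l, M), hg⟩, hn, rfl⟩
  -- (ii) `NX` covers `SL₂(p)`
  have hcov : ∀ M : SLp, ∃ l ∈ NX, ((l, M) : X × SLp) ∈ Gam p f₁ f₂ := by
    intro M
    obtain ⟨⟨⟨l, M'⟩, hg⟩, hn, hM⟩ := hNcov M
    rw [hπa] at hM
    have hM' : M' = M := hM
    subst hM'
    exact ⟨l, (hmemNX l).mpr ⟨M', hg, hn⟩, hg⟩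
  -- (i) `NX` meets the image of `θ` trivially
  have htriv : ∀ u : Fin 2 → ZMod p, theta f₁ f₂ u ∈ NX → u = 0 := by
    intro u hu
    obtain ⟨M, hg, hn⟩ := (hmemNX _).mp hu
    have hM1 : M = 1 := by
      apply Subtype.ext
      rw [Matrix.SpecialLinearGroup.coe_one]
      apply Matrix.toLin'.injective
      apply LinearMap.ext
      intro v
      rw [Matrix.toLin'_apply, Matrix.toLin'_one, LinearMap.id_apply]
      apply theta_injective h
      rw [← hg v]
      show theta f₁ f₂ u * theta f₁ f₂ v * (theta f₁ f₂ u)⁻¹ = theta f₁ f₂ v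
      rw [theta_commute h, mul_inv_cancel_right]
    subst hM1
    have hw1 := hNtriv _ hn (by rw [hπa]) (by
      have hpw : (⟨(theta f₁ f₂ u, 1), hg⟩ : Gam p f₁ f₂) ^ p = 1 := by
        apply Subtype.ext
        rw [Subgroup.coe_pow, Subgroup.coe_one, Prod.pow_mk, theta_pow h, one_pow]
        rfl
      have hdvd := orderOf_dvd_of_pow_eq_one hpw
      exact Odd.of_dvd_nat hpodd hdvd) (by
      rintro ⟨⟨l, M'⟩, ht⟩ hπt
      rw [hπa] at hπt
      have hM' : M' = -1 := hπt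
      subst hM'
      apply Subtype.ext
      simp only [Subgroup.coe_mul, Subgroup.coe_inv, Prod.mk_mul_mk, Prod.inv_mk, mul_one,
        mul_inv_cancel]
      have h1 := ht u
      rw [neg_one_mulVec, theta_neg h] at h1
      rw [h1, inv_one])
    have h2 : theta f₁ f₂ u = 1 := by
      have := congrArg (fun g : Gam p f₁ f₂ => (g : X × SLp).1) hw1
      exact this
    apply theta_injective h
    rw [h2, theta_zero]
  -- the graph of the affine action
  obtain ⟨π₁, hπ₁⟩ : ∃ π₁ : GamHat p f₁ f₂ NX →* X,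
      π₁ = (MonoidHom.fst X _).comp (GamHat p f₁ f₂ NX).subtype := ⟨_, rfl⟩
  obtain ⟨π₂, hπ₂⟩ : ∃ π₂ : GamHat p f₁ f₂ NX →* Cfsg.Agent.Helper17.affSub (ZMod p),
      π₂ = (MonoidHom.snd X _).comp (GamHat p f₁ f₂ NX).subtype := ⟨_, rfl⟩
  have hπ₁a : ∀ g : GamHat p f₁ f₂ NX,
      π₁ g = (g : X × Cfsg.Agent.Helper17.affSub (ZMod p)).1 := by
    intro g
    rw [hπ₁]
    rfl
  have hπ₂a : ∀ g : GamHat p f₁ f₂ NX,
      π₂ g = (g : X × Cfsg.Agent.Helper17.affSub (ZMod p)).2 := by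
    intro g
    rw [hπ₂]
    rfl
  have hπ₂s : Function.Surjective π₂ := by
    rw [← MonoidHom.range_eq_top, eq_top_iff, ← range_affIota_sup_ker, sup_le_iff]
    constructor
    · rintro _ ⟨M, rfl⟩
      obtain ⟨l, hl, hg⟩ := hcov M
      have hmem : ((l, affIota (ZMod p) M) : X × Cfsg.Agent.Helper17.affSub (ZMod p)) ∈
          GamHat p f₁ f₂ NX := by
        intro v
        show (theta f₁ f₂ (affAct (affIota (ZMod p) M) v))⁻¹ * l * theta f₁ f₂ v ∈ NX
        rw [affAct_affIota, ← hg v]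
        have : (l * theta f₁ f₂ v * l⁻¹)⁻¹ * l * theta f₁ f₂ v = l := by group
        show (l * theta f₁ f₂ v * l⁻¹)⁻¹ * l * theta f₁ f₂ v ∈ NX
        rw [this]
        exact hl
      exact ⟨⟨_, hmem⟩, hπ₂a _⟩
    · intro Q hQ
      rw [exists_affTau_of_mem_ker Q hQ]
      have hmem : ((theta f₁ f₂ (affVec Q), affTau (affVec Q)) :
          X × Cfsg.Agent.Helper17.affSub (ZMod p)) ∈ GamHat p f₁ f₂ NX := by
        intro v
        show (theta f₁ f₂ (affAct (affTau (affVec Q)) v))⁻¹ * theta f₁ f₂ (affVec Q) *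
          theta f₁ f₂ v ∈ NX
        rw [affAct_affTau, add_comm, theta_add h, mul_assoc, inv_mul_cancel]
        exact NX.one_mem
      exact ⟨⟨_, hmem⟩, hπ₂a _⟩
  have hπ₁i : Function.Injective π₁ := by
    rw [injective_iff_map_eq_one]
    rintro ⟨⟨k, Q⟩, hg⟩ hk
    rw [hπ₁a] at hk
    have hk1 : k = 1 := hk
    subst hk1
    have hQ1 : Q = 1 := by
      apply eq_one_of_affAct
      intro v
      have h1 := hg v
      have h2 : (theta f₁ f₂ (affAct Q v))⁻¹ * 1 * theta f₁ f₂ v =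
          theta f₁ f₂ (v - affAct Q v) := by
        rw [mul_one, sub_eq_add_neg, add_comm, theta_add h, theta_neg h]
      have h3 : theta f₁ f₂ (v - affAct Q v) ∈ NX := by
        rw [← h2]
        exact h1
      have h4 := htriv _ h3
      exact (sub_eq_zero.mp h4).symm
    subst hQ1
    rfl
  have hinv1 : Cfsg.Involves ↥(Cfsg.Agent.Helper17.affSub (ZMod p)) (GamHat p f₁ f₂ NX) :=
    involves_of_surjective_top π₂ hπ₂s
  have hinv2 := involves_of_injective π₁ hπ₁i hinv1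
  rw [qd_eq_affSub]
  exact hinv2

end Cfsg.Agent.Helper26.QdSec
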