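import Mathlib
import Cfsg.Agent.Helper26.QdSec3

set_option autoImplicit false
set_option linter.unusedSectionVars false
set_option linter.unusedVariables false
set_option linter.style.haveILetI false

/-! # A natural pair modulo a subgroup gives a `Qd(p)`-section -/

namespace Cfsg.Agent.Helper26.QdSec

open Cfsg

universe u v w

/-- involvement is transitive -/
theorem involves_trans {A : Type u} [Group A] {B : Type v} [Group B] {C : Type w} [Group C]
    (h1 : Involves A B) (h2 : Involves B C) : Involves A C := by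
  obtain ⟨K₂, f₂, hf₂⟩ := exists_surjective_of_involves h2
  obtain ⟨K₁, f₁, hf₁⟩ := exists_surjective_of_involves h1
  exact involves_of_surjective ((K₁.comap f₂).map K₂.subtype)
    (f₁.comp ((f₂.subgroupComap K₁).comp
      ((K₁.comap f₂).equivMapOfInjective K₂.subtype K₂.subtype_injective).symm.toMonoidHom))
    (hf₁.comp ((f₂.subgroupComap_surjective_of_surjective K₁ hf₂).comp
      ((K₁.comap f₂).equivMapOfInjective K₂.subtype K₂.subtype_injective).symm.surjective))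

variable {X : Type*} [Group X] {p : ℕ} [hp : Fact p.Prime]

/-- the hypotheses on a natural pair modulo a subgroup `A₂` -/
structure SecHyp (p : ℕ) (A₂ : Subgroup X) (x y f₁ f₂ : X) : Prop where
  hx : x ∈ Subgroup.normalizer (A₂ : Set X)
  hy : y ∈ Subgroup.normalizer (A₂ : Set X)
  hf1 : f₁ ∈ Subgroup.normalizer (A₂ : Set X)
  hf2 : f₂ ∈ Subgroup.normalizer (A₂ : Set X)
  comm : (f₁ * f₂)⁻¹ * (f₂ * f₁) ∈ A₂
  pow1 : f₁ ^ p ∈ A₂
  pow2 : f₂ ^ p ∈ A₂
  r1 : (x * f₁ * x⁻¹)⁻¹ * f₁ ∈ A₂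
  r2 : (x * f₂ * x⁻¹)⁻¹ * (f₁ * f₂) ∈ A₂
  r3 : (y * f₁ * y⁻¹)⁻¹ * (f₁ * f₂) ∈ A₂
  r4 : (y * f₂ * y⁻¹)⁻¹ * f₂ ∈ A₂
  ind : ∀ i j : ℕ, f₁ ^ i * f₂ ^ j ∈ A₂ → p ∣ i ∧ p ∣ j

theorem involves_qd_of_secHyp [Finite X] (hp2 : p ≠ 2) {A₂ : Subgroup X} {x y f₁ f₂ : X}
    (h : SecHyp p A₂ x y f₁ f₂) : Involves ↥(Cfsg.qd p) X := by
  haveI hn : (A₂.subgroupOf (Subgroup.normalizer (A₂ : Set X))).Normal :=
    Subgroup.normal_in_normalizer
  let Q := ↥(Subgroup.normalizer (A₂ : Set X)) ⧸ A₂.subgroupOf (Subgroup.normalizer (A₂ : Set X))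
  let mk : ↥(Subgroup.normalizer (A₂ : Set X)) →* Q := QuotientGroup.mk' _
  have hmk : ∀ a b : ↥(Subgroup.normalizer (A₂ : Set X)),
      (a : X)⁻¹ * (b : X) ∈ A₂ → mk a = mk b := by
    intro a b hab
    exact QuotientGroup.eq.mpr (Subgroup.mem_subgroupOf.mpr hab)
  have hmk1 : ∀ a : ↥(Subgroup.normalizer (A₂ : Set X)), (a : X) ∈ A₂ → mk a = 1 := by
    intro a ha
    exact (QuotientGroup.eq_one_iff a).mpr (Subgroup.mem_subgroupOf.mpr ha)
  have hcore : CoreHyp p (mk ⟨x, h.hx⟩) (mk ⟨y, h.hy⟩) (mk ⟨f₁, h.hf1⟩) (mk ⟨f₂, h.hf2⟩) := by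
    refine ⟨?_, ?_, ?_, ?_, ?_, ?_, ?_, ?_⟩
    · rw [← map_mul, ← map_mul]
      exact hmk _ _ h.comm
    · rw [← map_pow]
      exact hmk1 _ h.pow1
    · rw [← map_pow]
      exact hmk1 _ h.pow2
    · rw [← map_inv, ← map_mul, ← map_mul]
      exact hmk _ _ h.r1
    · rw [← map_inv, ← map_mul, ← map_mul, ← map_mul]
      exact hmk _ _ h.r2
    · rw [← map_inv, ← map_mul, ← map_mul, ← map_mul]
      exact hmk _ _ h.r3
    · rw [← map_inv, ← map_mul, ← map_mul]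
      exact hmk _ _ h.r4
    · intro i j hij
      apply h.ind
      rw [← map_pow, ← map_pow, ← map_mul] at hij
      have := (QuotientGroup.eq_one_iff _).mp hij
      exact Subgroup.mem_subgroupOf.mp this
  have h1 : Involves ↥(Cfsg.qd p) Q := involves_qd_of_coreHyp hp2 hcore
  have h2 : Involves Q X :=
    involves_of_surjective (Subgroup.normalizer (A₂ : Set X)) mk (QuotientGroup.mk'_surjective _)
  exact involves_trans h1 h2

end Cfsg.Agent.Helper26.QdSec
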