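import Mathlib
import Cfsg.Agent.Helper26.QuadCore
import Cfsg.Agent.Helper18.Dickson12

set_option autoImplicit false
set_option linter.unusedSectionVars false
set_option linter.unusedVariables false
set_option linter.style.haveILetI false

/-! # A quadratic pair over a finite field yields a natural `SL₂(p)`-pair

Over a finite field `D` of odd characteristic `p`: if `a, b` act quadratically on a `D`-space, and
`v` is fixed by `b` with `(b - 1)(a - 1) v = c • v`, `c ≠ 0`, then the group generated by `a, b`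
contains `x, y` and the space contains `f₁, f₂` (independent) with
`x f₁ = f₁, x f₂ = f₁ + f₂, y f₁ = f₁ + f₂, y f₂ = f₂`. -/

namespace Cfsg.Agent.Helper26.QdLin

open Cfsg.Agent.Helper18.Dickson Cfsg.Agent.Helper26

section Trace

variable {D : Type*} [Field D]

/-- a `p`-element of `SL₂(D)`, `D` of characteristic `p`, has trace `2` -/
theorem tr_eq_two_of_pow (p : ℕ) [hp : Fact p.Prime] [CharP D p]
    (M : Matrix.SpecialLinearGroup (Fin 2) D) (k : ℕ) (hM : M ^ p ^ k = 1) : tr M = 2 := by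
  have h1 : ((M : Matrix (Fin 2) (Fin 2) D)) ^ p ^ k = 1 := by
    have := congrArg (fun x : Matrix.SpecialLinearGroup (Fin 2) D =>
      (x : Matrix (Fin 2) (Fin 2) D)) hM
    simpa using this
  have h2 : ((M : Matrix (Fin 2) (Fin 2) D) - 1) ^ p ^ k = 0 := by
    rw [sub_pow_char_pow_of_commute p k (Commute.one_right _), h1, one_pow, sub_self]
  have h3 : IsNilpotent ((M : Matrix (Fin 2) (Fin 2) D) - 1) := ⟨_, h2⟩
  have h4 := Matrix.isNilpotent_trace_of_isNilpotent h3
  have h5 : ((M : Matrix (Fin 2) (Fin 2) D) - 1).trace = 0 := by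
    obtain ⟨n, hn⟩ := h4
    exact pow_eq_zero_iff (by
      intro h0
      subst h0
      simp at hn) |>.mp hn
  rw [Matrix.trace_sub, Matrix.trace_fin_two, Matrix.trace_one] at h5
  unfold tr
  have : ((Fintype.card (Fin 2) : ℕ) : D) = 2 := by simp
  rw [this] at h5
  linear_combination h5

end Trace

section Main

variable {p : ℕ} [hp : Fact p.Prime] {D : Type*} [Field D] [Finite D] [CharP D p]
variable {H : Type*} [Group H]
variable {V : Type*} [AddCommGroup V] [Module D V]

/-- `Φ(w) = w 0 • v + w 1 • u` -/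
def phi (v u : V) : (Fin 2 → D) →ₗ[D] V where
  toFun w := w 0 • v + w 1 • u
  map_add' w w' := by
    simp only [Pi.add_apply, add_smul]
    abel
  map_smul' c w := by
    simp only [Pi.smul_apply, smul_eq_mul, RingHom.id_apply, smul_add, smul_smul]

theorem phi_apply (v u : V) (w : Fin 2 → D) : phi v u w = w 0 • v + w 1 • u := rfl

theorem conj_mulVec (g N : Matrix.SpecialLinearGroup (Fin 2) D) (w : Fin 2 → D) :
    ((g * N * g⁻¹ : Matrix.SpecialLinearGroup (Fin 2) D) : Matrix (Fin 2) (Fin 2) D).mulVec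
      ((g : Matrix (Fin 2) (Fin 2) D).mulVec w) =
    (g : Matrix (Fin 2) (Fin 2) D).mulVec ((N : Matrix (Fin 2) (Fin 2) D).mulVec w) := by
  rw [Matrix.mulVec_mulVec, Matrix.mulVec_mulVec, ← Matrix.SpecialLinearGroup.coe_mul,
    ← Matrix.SpecialLinearGroup.coe_mul, inv_mul_cancel_right]

theorem mulVec_eq_zero (g : Matrix.SpecialLinearGroup (Fin 2) D) (w : Fin 2 → D)
    (h : (g : Matrix (Fin 2) (Fin 2) D).mulVec w = 0) : w = 0 := by
  have := congrArg (fun z => ((g⁻¹ : Matrix.SpecialLinearGroup (Fin 2) D) :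
    Matrix (Fin 2) (Fin 2) D).mulVec z) h
  simp only [Matrix.mulVec_mulVec, Matrix.mulVec_zero] at this
  rw [← Matrix.SpecialLinearGroup.coe_mul, inv_mul_cancel, Matrix.SpecialLinearGroup.coe_one,
    Matrix.one_mulVec] at this
  exact this

theorem exists_natural_pair_field (hp2 : p ≠ 2) (ρ : H →* Module.End D V) (a b : H)
    (hA : IsQuadEnd (ρ a)) (hB : IsQuadEnd (ρ b)) (v : V) (hv : v ≠ 0) (hbv : ρ b v = v)
    (c : D) (hc : c ≠ 0) (hcv : ρ b (ρ a v - v) - (ρ a v - v) = c • v) :
    ∃ (x y : H) (f₁ f₂ : V), x ∈ Subgroup.closure ({a, b} : Set H) ∧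
      y ∈ Subgroup.closure ({a, b} : Set H) ∧
      ρ x f₁ = f₁ ∧ ρ x f₂ = f₁ + f₂ ∧ ρ y f₁ = f₁ + f₂ ∧ ρ y f₂ = f₂ ∧
      ∀ i j : D, i • f₁ + j • f₂ = 0 → i = 0 ∧ j = 0 := by
  classical
  obtain ⟨u, hu⟩ : ∃ u, u = ρ a v - v := ⟨_, rfl⟩
  have hav : ρ a v = v + u := by rw [hu]; abel
  have hau : ρ a u = u := by rw [hu]; exact hA v
  have hbu : ρ b u = u + c • v := by
    rw [← hu] at hcv
    rw [← hcv]; abel
  -- the action of `a`, `b` on `Φ`
  have hΦa : ∀ w : Fin 2 → D, ρ a (phi v u w) =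
      phi v u (((lM (1 : D) : Matrix.SpecialLinearGroup (Fin 2) D) :
        Matrix (Fin 2) (Fin 2) D).mulVec w) := by
    intro w
    rw [phi_apply, phi_apply, map_add, map_smul, map_smul, hav, hau, lM_coe]
    simp only [Matrix.mulVec, Matrix.of_apply, Matrix.cons_val', Matrix.cons_val_zero,
      Matrix.cons_val_one, dotProduct, Fin.sum_univ_two, Matrix.cons_val_fin_one]
    simp only [one_mul, zero_mul, add_zero, smul_add, add_smul]
    abel
  have hΦb : ∀ w : Fin 2 → D, ρ b (phi v u w) =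
      phi v u (((uM c : Matrix.SpecialLinearGroup (Fin 2) D) :
        Matrix (Fin 2) (Fin 2) D).mulVec w) := by
    intro w
    rw [phi_apply, phi_apply, map_add, map_smul, map_smul, hbv, hbu, uM_coe]
    simp only [Matrix.mulVec, Matrix.of_apply, Matrix.cons_val', Matrix.cons_val_zero,
      Matrix.cons_val_one, dotProduct, Fin.sum_univ_two, Matrix.cons_val_fin_one]
    simp only [one_mul, zero_mul, zero_add, smul_add, add_smul, smul_smul]
    rw [mul_comm c (w 1)]
    abel
  -- injectivity of `Φ`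
  have hΦinj : ∀ w : Fin 2 → D, phi v u w = 0 → w = 0 := by
    intro w hw
    have h1 : ρ b (phi v u w) - phi v u w = 0 := by rw [hw, map_zero, sub_zero]
    rw [phi_apply, map_add, map_smul, map_smul, hbv, hbu] at h1
    have h2 : (w 1 * c) • v = 0 := by
      rw [← h1, smul_add, smul_smul]; abel
    have h3 : w 1 = 0 := by
      rcases smul_eq_zero.mp h2 with h | h
      · rcases mul_eq_zero.mp h with h | h
        · exact h
        · exact absurd h hc
      · exact absurd h hv
    rw [phi_apply, h3, zero_smul, add_zero] at hw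
    have h4 : w 0 = 0 := by
      rcases smul_eq_zero.mp hw with h | h
      · exact h
      · exact absurd h hv
    ext i
    fin_cases i
    · exact h4
    · exact h3
  -- the subgroup of `SL₂(D)`
  obtain ⟨H', hH'⟩ : ∃ H' : Subgroup (Matrix.SpecialLinearGroup (Fin 2) D),
      H' = Subgroup.closure {lM (1 : D), uM c} := ⟨_, rfl⟩
  have hl : lM (1 : D) ∈ H' := hH' ▸ Subgroup.subset_closure (Set.mem_insert _ _)
  have hum : uM c ∈ H' := hH' ▸ Subgroup.subset_closure (Set.mem_insert_of_mem _ rfl)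
  have hlift : ∀ M ∈ H', ∃ h : H, h ∈ Subgroup.closure ({a, b} : Set H) ∧
      ∀ w : Fin 2 → D, ρ h (phi v u w) =
      phi v u ((M : Matrix (Fin 2) (Fin 2) D).mulVec w) := by
    intro M hM
    rw [hH'] at hM
    induction hM using Subgroup.closure_induction with
    | mem M hM =>
      rcases hM with rfl | hM
      · exact ⟨a, Subgroup.subset_closure (Set.mem_insert _ _), hΦa⟩
      · rw [Set.mem_singleton_iff] at hM
        subst hM
        exact ⟨b, Subgroup.subset_closure (Set.mem_insert_of_mem _ rfl), hΦb⟩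
    | one =>
      refine ⟨1, Subgroup.one_mem _, fun w => ?_⟩
      rw [map_one, Module.End.one_apply, Matrix.SpecialLinearGroup.coe_one, Matrix.one_mulVec]
    | mul M₁ M₂ _ _ ih₁ ih₂ =>
      obtain ⟨h₁, hh₁c, hh₁⟩ := ih₁
      obtain ⟨h₂, hh₂c, hh₂⟩ := ih₂
      refine ⟨h₁ * h₂, Subgroup.mul_mem _ hh₁c hh₂c, fun w => ?_⟩
      rw [map_mul, Module.End.mul_apply, hh₂, hh₁, Matrix.mulVec_mulVec,
        Matrix.SpecialLinearGroup.coe_mul]
    | inv M _ ih =>
      obtain ⟨h, hhc, hh⟩ := ih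
      refine ⟨h⁻¹, Subgroup.inv_mem _ hhc, fun w => ?_⟩
      have h1 := hh (((M⁻¹ : Matrix.SpecialLinearGroup (Fin 2) D) :
        Matrix (Fin 2) (Fin 2) D).mulVec w)
      rw [Matrix.mulVec_mulVec, ← Matrix.SpecialLinearGroup.coe_mul, mul_inv_cancel,
        Matrix.SpecialLinearGroup.coe_one, Matrix.one_mulVec] at h1
      rw [← h1, ← Module.End.mul_apply, ← map_mul, inv_mul_cancel, map_one,
        Module.End.one_apply]
  -- more than one Sylow `p`-subgroup
  haveI : Finite (Matrix.SpecialLinearGroup (Fin 2) D) := by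
    unfold Matrix.SpecialLinearGroup
    infer_instance
  have hsyl : 1 < Nat.card (Sylow p H') := by
    by_contra hle
    push Not at hle
    haveI : Subsingleton (Sylow p H') := Finite.card_le_one_iff_subsingleton.mp hle
    obtain ⟨P⟩ : Nonempty (Sylow p H') := inferInstance
    have hmem : ∀ z : H', z ^ p = 1 → z ∈ P := by
      intro z hz
      have hzp : IsPGroup p (Subgroup.zpowers z) := by
        rintro ⟨y, hy⟩
        obtain ⟨n, rfl⟩ := Subgroup.mem_zpowers_iff.mp hy
        refine ⟨1, ?_⟩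
        apply Subtype.ext
        rw [pow_one, Subgroup.coe_pow, Subgroup.coe_one, ← zpow_natCast, ← zpow_mul, mul_comm,
          zpow_mul, zpow_natCast, hz, one_zpow]
      obtain ⟨Q, hQ⟩ := hzp.exists_le_sylow
      rw [Subsingleton.elim P Q]
      exact hQ (Subgroup.mem_zpowers z)
    have h1 : (⟨lM (1 : D), hl⟩ : H') ∈ P := by
      apply hmem
      apply Subtype.ext
      rw [Subgroup.coe_pow, Subgroup.coe_one]
      show lM (1 : D) ^ p = 1
      rw [lM_pow, mul_one, CharP.cast_eq_zero, lM_zero]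
    have h2 : (⟨uM c, hum⟩ : H') ∈ P := by
      apply hmem
      apply Subtype.ext
      rw [Subgroup.coe_pow, Subgroup.coe_one]
      exact uM_pow_char p c
    have h3 := P.mul_mem h2 h1
    obtain ⟨k, hk⟩ := P.2 ⟨_, h3⟩
    have h4 : (uM c * lM (1 : D)) ^ p ^ k = 1 := by
      have := congrArg (fun z : P => ((z : H') : Matrix.SpecialLinearGroup (Fin 2) D)) hk
      simpa using this
    have h5 := tr_eq_two_of_pow p _ k h4
    unfold tr at h5
    rw [Matrix.SpecialLinearGroup.coe_mul, uM_coe, lM_coe] at h5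
    simp [Matrix.mul_apply, Fin.sum_univ_two] at h5
    apply hc
    linear_combination h5
  obtain ⟨g, t, ht, hgx, hgy⟩ := exists_pair_subgroup p hp2 H' hsyl
  obtain ⟨x, hxc, hx⟩ := hlift _ hgx
  obtain ⟨y, hyc, hy⟩ := hlift _ hgy
  have e1 : ((uM t : Matrix.SpecialLinearGroup (Fin 2) D) : Matrix (Fin 2) (Fin 2) D).mulVec
      ![1, 0] = ![1, 0] := by
    rw [uM_coe]
    ext i
    fin_cases i <;> simp [Matrix.mulVec, dotProduct, Fin.sum_univ_two]
  have e2 : ((uM t : Matrix.SpecialLinearGroup (Fin 2) D) : Matrix (Fin 2) (Fin 2) D).mulVec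
      ![0, t⁻¹] = ![1, 0] + ![0, t⁻¹] := by
    rw [uM_coe]
    ext i
    fin_cases i <;> simp [Matrix.mulVec, dotProduct, Fin.sum_univ_two, ht]
  have e3 : ((lM (1 / t) : Matrix.SpecialLinearGroup (Fin 2) D) :
      Matrix (Fin 2) (Fin 2) D).mulVec ![1, 0] = ![1, 0] + ![0, t⁻¹] := by
    rw [lM_coe]
    ext i
    fin_cases i <;> simp [Matrix.mulVec, dotProduct, Fin.sum_univ_two]
  have e4 : ((lM (1 / t) : Matrix.SpecialLinearGroup (Fin 2) D) :
      Matrix (Fin 2) (Fin 2) D).mulVec ![0, t⁻¹] = ![0, t⁻¹] := by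
    rw [lM_coe]
    ext i
    fin_cases i <;> simp [Matrix.mulVec, dotProduct, Fin.sum_univ_two]
  refine ⟨x, y, phi v u ((g : Matrix (Fin 2) (Fin 2) D).mulVec ![1, 0]),
    phi v u ((g : Matrix (Fin 2) (Fin 2) D).mulVec ![0, t⁻¹]), hxc, hyc, ?_, ?_, ?_, ?_, ?_⟩
  · rw [hx, conj_mulVec, e1]
  · rw [hx, conj_mulVec, e2, Matrix.mulVec_add, map_add]
  · rw [hy, conj_mulVec, e3, Matrix.mulVec_add, map_add]
  · rw [hy, conj_mulVec, e4]
  · intro i j hij
    rw [← map_smul, ← map_smul, ← map_add, ← Matrix.mulVec_smul, ← Matrix.mulVec_smul,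
      ← Matrix.mulVec_add] at hij
    have h1 := mulVec_eq_zero g _ (hΦinj _ hij)
    have h10 := congrFun h1 0
    have h11 := congrFun h1 1
    simp at h10 h11
    refine ⟨h10, ?_⟩
    rcases h11 with h | h
    · exact h
    · exact absurd h ht

end Main

end Cfsg.Agent.Helper26.QdLin
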