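import Mathlib
import Cfsg.Agent.Helper26.QdLin1
import Cfsg.Agent.Helper26.QuadStable

set_option autoImplicit false
set_option linter.unusedSectionVars false
set_option linter.unusedVariables false
set_option linter.style.haveILetI false

/-! # The irreducible case: an irreducible quadratic pair over `𝔽_p` contains a natural
`SL₂(p)`-pair. -/

namespace Cfsg.Agent.Helper26.QdLin

open Cfsg.Agent.Helper26 Polynomial

variable {p : ℕ} [hp : Fact p.Prime] {H : Type*} [Group H]
variable {V : Type*} [AddCommGroup V] [Module (ZMod p) V]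

/-- Schur: an endomorphism commuting with an irreducible action is zero or injective. -/
theorem schur_zero_or_injective (ρ : H →* Module.End (ZMod p) V)
    (hirr : ∀ W' : Submodule (ZMod p) V, (∀ h : H, ∀ w ∈ W', ρ h w ∈ W') → W' = ⊥ ∨ W' = ⊤)
    (T : Module.End (ZMod p) V) (hT : ∀ h : H, ρ h * T = T * ρ h) :
    T = 0 ∨ Function.Injective T := by
  rcases hirr (LinearMap.ker T) (by
    intro h w hw
    rw [LinearMap.mem_ker] at hw ⊢
    have := congrArg (fun f : Module.End (ZMod p) V => f w) (hT h)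
    simp only [Module.End.mul_apply] at this
    rw [← this, hw, map_zero]) with h | h
  · right
    exact LinearMap.ker_eq_bot.mp h
  · left
    exact LinearMap.ker_eq_top.mp h

/-- commutation with the generators gives commutation with the whole group -/
theorem commute_of_closure (ρ : H →* Module.End (ZMod p) V) (a b : H)
    (hab : Subgroup.closure ({a, b} : Set H) = ⊤) (T : Module.End (ZMod p) V)
    (ha : ρ a * T = T * ρ a) (hb : ρ b * T = T * ρ b) (h : H) : ρ h * T = T * ρ h := by
  have hh : h ∈ Subgroup.closure ({a, b} : Set H) := hab ▸ Subgroup.mem_top h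
  induction hh using Subgroup.closure_induction with
  | mem x hx =>
    rcases hx with rfl | hx
    · exact ha
    · rw [Set.mem_singleton_iff] at hx
      subst hx
      exact hb
  | one => rw [map_one, one_mul, mul_one]
  | mul x y _ _ ihx ihy =>
    rw [map_mul, mul_assoc, ihy, ← mul_assoc, ihx, mul_assoc]
  | inv x _ ih =>
    have h1 : ρ x⁻¹ * ρ x = 1 := by rw [← map_mul, inv_mul_cancel, map_one]
    have h2 : ρ x * ρ x⁻¹ = 1 := by rw [← map_mul, mul_inv_cancel, map_one]
    calc ρ x⁻¹ * T = ρ x⁻¹ * T * (ρ x * ρ x⁻¹) := by rw [h2, mul_one]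
      _ = ρ x⁻¹ * (T * ρ x) * ρ x⁻¹ := by simp only [mul_assoc]
      _ = ρ x⁻¹ * (ρ x * T) * ρ x⁻¹ := by rw [ih]
      _ = (ρ x⁻¹ * ρ x) * T * ρ x⁻¹ := by simp only [mul_assoc]
      _ = T * ρ x⁻¹ := by rw [h1, one_mul]

theorem exists_natural_pair_irreducible [Finite V] (hp2 : p ≠ 2)
    (ρ : H →* Module.End (ZMod p) V) (a b : H)
    (hab : Subgroup.closure ({a, b} : Set H) = ⊤)
    (hA : IsQuadEnd (ρ a)) (hB : IsQuadEnd (ρ b))
    (hirr : ∀ W' : Submodule (ZMod p) V, (∀ h : H, ∀ w ∈ W', ρ h w ∈ W') → W' = ⊥ ∨ W' = ⊤)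
    (hnt : ¬ (ρ a = 1 ∧ ρ b = 1)) :
    ∃ (x y : H) (f₁ f₂ : V), ρ x f₁ = f₁ ∧ ρ x f₂ = f₁ + f₂ ∧ ρ y f₁ = f₁ + f₂ ∧ ρ y f₂ = f₂ ∧
      ∀ i j : ZMod p, i • f₁ + j • f₂ = 0 → i = 0 ∧ j = 0 := by
  classical
  obtain ⟨α, hα⟩ : ∃ α : Module.End (ZMod p) V, α = ρ a - 1 := ⟨_, rfl⟩
  obtain ⟨β, hβ⟩ : ∃ β : Module.End (ZMod p) V, β = ρ b - 1 := ⟨_, rfl⟩
  have hαα : α * α = 0 := by rw [hα]; exact (isQuadEnd_iff _).mp hA
  have hββ : β * β = 0 := by rw [hβ]; exact (isQuadEnd_iff _).mp hB
  have hρa : ρ a = 1 + α := by rw [hα]; abel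
  have hρb : ρ b = 1 + β := by rw [hβ]; abel
  obtain ⟨γ, hγ⟩ : ∃ γ : Module.End (ZMod p) V, γ = α * β + β * α := ⟨_, rfl⟩
  have hγα : α * γ = γ * α := by
    rw [hγ, mul_add, add_mul, ← mul_assoc, ← mul_assoc, hαα, zero_mul, zero_add, mul_assoc,
      mul_assoc, hαα, mul_zero, add_zero]
  have hγβ : β * γ = γ * β := by
    rw [hγ, mul_add, add_mul, ← mul_assoc, ← mul_assoc, hββ, zero_mul, add_zero, mul_assoc,
      mul_assoc, hββ, mul_zero, zero_add]
  have hγa : ρ a * γ = γ * ρ a := by rw [hρa, add_mul, mul_add, hγα, one_mul, mul_one]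
  have hγb : ρ b * γ = γ * ρ b := by rw [hρb, add_mul, mul_add, hγβ, one_mul, mul_one]
  have hγH : ∀ h : H, ρ h * γ = γ * ρ h := commute_of_closure ρ a b hab γ hγa hγb
  -- invariance of submodules under the generators suffices
  have hinv : ∀ W' : Submodule (ZMod p) V, (∀ w ∈ W', ρ a w ∈ W') → (∀ w ∈ W', ρ b w ∈ W') →
      W' = ⊥ ∨ W' = ⊤ := by
    intro W' ha hb
    apply hirr
    have hstab : stabSub ρ W' = ⊤ := by
      rw [eq_top_iff, ← hab, Subgroup.closure_le]
      intro x hx
      rcases hx with rfl | hx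
      · exact mem_stabSub_of_quad ρ W' hA ha
      · rw [Set.mem_singleton_iff] at hx
        subst hx
        exact mem_stabSub_of_quad ρ W' hB hb
    intro h v hv
    have : h ∈ stabSub ρ W' := hstab ▸ Subgroup.mem_top h
    exact (this v hv).1
  -- `γ ≠ 0`
  have hγ0 : γ ≠ 0 := by
    intro h0
    have hanti : α * β = - (β * α) := by
      rw [hγ] at h0
      exact eq_neg_of_add_eq_zero_left h0
    rcases hinv (LinearMap.ker α ⊓ LinearMap.ker β) (by
      intro w hw
      have h1 : α w = 0 := LinearMap.mem_ker.mp hw.1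
      have : ρ a w = w := by rw [hρa, LinearMap.add_apply, Module.End.one_apply, h1, add_zero]
      rw [this]; exact hw) (by
      intro w hw
      have h1 : β w = 0 := LinearMap.mem_ker.mp hw.2
      have : ρ b w = w := by rw [hρb, LinearMap.add_apply, Module.End.one_apply, h1, add_zero]
      rw [this]; exact hw) with h | h
    · -- intersection of the kernels trivial
      have hαβ : α * β = 0 := by
        ext w
        have hw : (α * β) w ∈ LinearMap.ker α ⊓ LinearMap.ker β := by
          refine Submodule.mem_inf.mpr ⟨?_, ?_⟩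
          · rw [LinearMap.mem_ker, ← Module.End.mul_apply, ← mul_assoc, hαα, zero_mul]
            rfl
          · rw [LinearMap.mem_ker, ← Module.End.mul_apply, hanti, mul_neg, ← mul_assoc, hββ,
              zero_mul, neg_zero]
            rfl
        rw [h] at hw
        exact (Submodule.mem_bot _).mp hw
      have hβα : β * α = 0 := by
        rw [hαβ] at hanti
        exact neg_eq_zero.mp hanti.symm
      have hβ0 : β = 0 := by
        ext w
        have hw : β w ∈ LinearMap.ker α ⊓ LinearMap.ker β := by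
          refine Submodule.mem_inf.mpr ⟨?_, ?_⟩
          · rw [LinearMap.mem_ker, ← Module.End.mul_apply, hαβ]
            rfl
          · rw [LinearMap.mem_ker, ← Module.End.mul_apply, hββ]
            rfl
        rw [h] at hw
        exact (Submodule.mem_bot _).mp hw
      have hα0 : α = 0 := by
        ext w
        have hw : α w ∈ LinearMap.ker α ⊓ LinearMap.ker β := by
          refine Submodule.mem_inf.mpr ⟨?_, ?_⟩
          · rw [LinearMap.mem_ker, ← Module.End.mul_apply, hαα]
            rfl
          · rw [LinearMap.mem_ker, ← Module.End.mul_apply, hβα]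
            rfl
        rw [h] at hw
        exact (Submodule.mem_bot _).mp hw
      apply hnt
      rw [hρa, hρb, hα0, hβ0, add_zero]
      exact ⟨rfl, rfl⟩
    · apply hnt
      have hα0 : α = 0 := by
        ext w
        have hw : w ∈ LinearMap.ker α ⊓ LinearMap.ker β := h ▸ Submodule.mem_top
        exact LinearMap.mem_ker.mp hw.1
      have hβ0 : β = 0 := by
        ext w
        have hw : w ∈ LinearMap.ker α ⊓ LinearMap.ker β := h ▸ Submodule.mem_top
        exact LinearMap.mem_ker.mp hw.2
      rw [hρa, hρb, hα0, hβ0, add_zero]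
      exact ⟨rfl, rfl⟩
  -- `V` is nontrivial
  haveI : Nontrivial V := by
    by_contra hV
    rw [not_nontrivial_iff_subsingleton] at hV
    apply hγ0
    ext w
    exact Subsingleton.elim _ _
  haveI : Module.Finite (ZMod p) V := Module.Finite.of_finite
  -- polynomials in `γ` commute with the action
  have hpolyH : ∀ (g : (ZMod p)[X]) (h : H), ρ h * aeval γ g = aeval γ g * ρ h := by
    intro g h
    have h1 : aeval γ g ∈ Algebra.adjoin (ZMod p) {γ} := aeval_mem_adjoin_singleton _ _
    have h2 : Algebra.adjoin (ZMod p) {γ} ≤ Subalgebra.centralizer (ZMod p) {ρ h} := by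
      apply Algebra.adjoin_le
      intro x hx
      rw [Set.mem_singleton_iff] at hx
      subst hx
      rw [SetLike.mem_coe, Subalgebra.mem_centralizer_iff]
      intro y hy
      rw [Set.mem_singleton_iff] at hy
      subst hy
      exact hγH h
    have h3 := h2 h1
    rw [Subalgebra.mem_centralizer_iff] at h3
    exact h3 _ rfl
  have hint : IsIntegral (ZMod p) γ := IsIntegral.of_finite (ZMod p) γ
  -- the minimal polynomial is irreducible
  have hirrf : Irreducible (minpoly (ZMod p) γ) := by
    refine (irreducible_of_monic (minpoly.monic hint) (minpoly.ne_one (ZMod p) γ)).2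
      fun f g hf hg he => ?_
    rw [← hf.isUnit_iff, ← hg.isUnit_iff]
    by_contra! h
    have heval := congr_arg (Polynomial.aeval γ) he
    rw [minpoly.aeval (ZMod p) γ, map_mul] at heval
    have hcases : aeval γ f = 0 ∨ aeval γ g = 0 := by
      rcases schur_zero_or_injective ρ hirr (aeval γ f) (hpolyH f) with h0 | hinj
      · exact Or.inl h0
      · right
        ext w
        apply hinj
        rw [LinearMap.zero_apply, map_zero, ← Module.End.mul_apply, heval]
        rfl
    rcases hcases with heval | heval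
    · exact minpoly.aeval_ne_zero_of_dvdNotUnit_minpoly hint hf ⟨hf.ne_zero, g, h.2, he.symm⟩ heval
    · refine minpoly.aeval_ne_zero_of_dvdNotUnit_minpoly hint hg ⟨hg.ne_zero, f, h.1, ?_⟩ heval
      rw [mul_comm, he]
  obtain ⟨f, hf⟩ : ∃ f, f = minpoly (ZMod p) γ := ⟨_, rfl⟩
  rw [← hf] at hirrf
  haveI : Fact (Irreducible f) := ⟨hirrf⟩
  have hf0 : f ≠ 0 := hf ▸ minpoly.ne_zero hint
  haveI : Finite (AdjoinRoot f) := by
    haveI : Module.Finite (ZMod p) (AdjoinRoot f) := (AdjoinRoot.powerBasis hf0).finite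
    exact Module.finite_of_finite (ZMod p)
  haveI : CharP (AdjoinRoot f) p :=
    charP_of_injective_algebraMap (algebraMap (ZMod p) (AdjoinRoot f)).injective p
  let ι : AdjoinRoot f →+* Module.End (ZMod p) V :=
    Ideal.Quotient.lift (Ideal.span {f})
      ((aeval γ : (ZMod p)[X] →ₐ[ZMod p] Module.End (ZMod p) V) : (ZMod p)[X] →+* _) (by
        intro q hq
        obtain ⟨r, rfl⟩ := Ideal.mem_span_singleton.mp hq
        rw [map_mul, hf]
        show aeval γ (minpoly (ZMod p) γ) * _ = 0
        rw [minpoly.aeval, zero_mul])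
  have hι : ∀ g, ι (AdjoinRoot.mk f g) = aeval γ g := fun g => rfl
  letI : Module (AdjoinRoot f) V := Module.compHom V ι
  have hsmul : ∀ (d : AdjoinRoot f) (w : V), d • w = ι d w := fun d w => rfl
  have hιH : ∀ (d : AdjoinRoot f) (h : H), ρ h * ι d = ι d * ρ h := by
    intro d h
    induction d using AdjoinRoot.induction_on with
    | ih g => rw [hι]; exact hpolyH g h
  let ρ' : H →* Module.End (AdjoinRoot f) V :=
    { toFun := fun h =>
        { toFun := ρ h
          map_add' := map_add _
          map_smul' := fun d w => by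
            simp only [RingHom.id_apply, hsmul]
            have := congrArg (fun T : Module.End (ZMod p) V => T w) (hιH d h)
            exact this }
      map_one' := by
        ext w
        simp
      map_mul' := fun g h => by
        ext w
        simp }
  have hρ' : ∀ (h : H) (w : V), ρ' h w = ρ h w := fun h w => rfl
  obtain ⟨v, hv0, hβv⟩ : ∃ v : V, v ≠ 0 ∧ β v = 0 := by
    by_cases hβ0 : β = 0
    · obtain ⟨v, hv⟩ := exists_ne (0 : V)
      exact ⟨v, hv, by rw [hβ0]; rfl⟩
    · have : ∃ w, β w ≠ 0 := by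
        by_contra hcon
        push Not at hcon
        exact hβ0 (LinearMap.ext hcon)
      obtain ⟨w, hw⟩ := this
      exact ⟨β w, hw, by rw [← Module.End.mul_apply, hββ]; rfl⟩
  have hA' : IsQuadEnd (ρ' a) := fun w => hA w
  have hB' : IsQuadEnd (ρ' b) := fun w => hB w
  have hbv : ρ' b v = v := by
    rw [hρ', hρb, LinearMap.add_apply, Module.End.one_apply, hβv, add_zero]
  have hιroot : ι (AdjoinRoot.root f) = γ := by
    rw [← AdjoinRoot.mk_X, hι, aeval_X]
  have hc : AdjoinRoot.root f ≠ 0 := by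
    intro h0
    apply hγ0
    rw [← hιroot, h0, map_zero]
  have hcv : ρ' b (ρ' a v - v) - (ρ' a v - v) = AdjoinRoot.root f • v := by
    rw [hsmul, hιroot, hρ', hρ', hρa, hρb, hγ]
    simp only [LinearMap.add_apply, Module.End.one_apply, Module.End.mul_apply, hβv, map_zero]
    abel_nf
  obtain ⟨x, y, f₁, f₂, -, -, h1, h2, h3, h4, hind⟩ :=
    exists_natural_pair_field hp2 ρ' a b hA' hB' v hv0 hbv (AdjoinRoot.root f) hc hcv
  refine ⟨x, y, f₁, f₂, h1, h2, h3, h4, ?_⟩
  intro i j hij
  have hconv : ∀ (i : ZMod p) (w : V), i • w = (algebraMap (ZMod p) (AdjoinRoot f) i) • w := by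
    intro i w
    rw [hsmul, AdjoinRoot.algebraMap_eq, ← AdjoinRoot.mk_C, hι, aeval_C,
      Module.algebraMap_end_apply]
  rw [hconv i, hconv j] at hij
  obtain ⟨hi, hj⟩ := hind _ _ hij
  exact ⟨(map_eq_zero _).mp hi, (map_eq_zero _).mp hj⟩

end Cfsg.Agent.Helper26.QdLin
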