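import Mathlib
import Cfsg.Agent.Helper26.QdLin2

set_option autoImplicit false
set_option linter.unusedSectionVars false
set_option linter.unusedVariables false
set_option linter.style.haveILetI false

/-! # A quadratic pair not acting as a `p`-group has a natural `SL₂(p)`-section (linear form) -/

namespace Cfsg.Agent.Helper26.QdLin

open Cfsg.Agent.Helper26

universe v

variable {p : ℕ} [hp : Fact p.Prime] {H : Type*} [Group H]

/-- there is an invariant section `V₁ / V₂` containing a natural pair -/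
def NatPair {V : Type v} [AddCommGroup V] [Module (ZMod p) V]
    (ρ : H →* Module.End (ZMod p) V) : Prop :=
  ∃ (V₁ V₂ : Submodule (ZMod p) V), V₂ ≤ V₁ ∧ (∀ h : H, ∀ w ∈ V₁, ρ h w ∈ V₁) ∧
    (∀ h : H, ∀ w ∈ V₂, ρ h w ∈ V₂) ∧
    ∃ (x y : H) (f₁ f₂ : V), f₁ ∈ V₁ ∧ f₂ ∈ V₁ ∧ ρ x f₁ - f₁ ∈ V₂ ∧ ρ x f₂ - (f₁ + f₂) ∈ V₂ ∧
      ρ y f₁ - (f₁ + f₂) ∈ V₂ ∧ ρ y f₂ - f₂ ∈ V₂ ∧
      ∀ i j : ZMod p, i • f₁ + j • f₂ ∈ V₂ → i = 0 ∧ j = 0

variable {V : Type v} [AddCommGroup V] [Module (ZMod p) V]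

theorem natPair_of_subRep (ρ : H →* Module.End (ZMod p) V) (W' : Submodule (ZMod p) V)
    (hinv : ∀ h : H, ∀ w ∈ W', ρ h w ∈ W') (h : NatPair (subRep ρ W' hinv)) : NatPair ρ := by
  obtain ⟨V₁, V₂, hle, hi1, hi2, x, y, f₁, f₂, hf1, hf2, h1, h2, h3, h4, hind⟩ := h
  refine ⟨V₁.map W'.subtype, V₂.map W'.subtype, Submodule.map_mono hle, ?_, ?_, x, y, f₁, f₂,
    ⟨f₁, hf1, rfl⟩, ⟨f₂, hf2, rfl⟩, ⟨_, h1, rfl⟩, ⟨_, h2, rfl⟩, ⟨_, h3, rfl⟩, ⟨_, h4, rfl⟩, ?_⟩
  · rintro h w ⟨w', hw', rfl⟩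
    exact ⟨_, hi1 h w' hw', rfl⟩
  · rintro h w ⟨w', hw', rfl⟩
    exact ⟨_, hi2 h w' hw', rfl⟩
  · rintro i j ⟨w', hw', hw'e⟩
    apply hind i j
    have : w' = i • f₁ + j • f₂ := by
      apply Subtype.ext
      rw [← Submodule.subtype_apply, hw'e]
      rfl
    rw [← this]
    exact hw'

theorem natPair_of_quotRep (ρ : H →* Module.End (ZMod p) V) (W' : Submodule (ZMod p) V)
    (hinv : ∀ h : H, ∀ w ∈ W', ρ h w ∈ W') (h : NatPair (quotRep ρ W' hinv)) : NatPair ρ := by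
  obtain ⟨V₁, V₂, hle, hi1, hi2, x, y, f₁, f₂, hf1, hf2, h1, h2, h3, h4, hind⟩ := h
  obtain ⟨g₁, rfl⟩ := Submodule.Quotient.mk_surjective W' f₁
  obtain ⟨g₂, rfl⟩ := Submodule.Quotient.mk_surjective W' f₂
  refine ⟨V₁.comap W'.mkQ, V₂.comap W'.mkQ, Submodule.comap_mono hle, ?_, ?_, x, y, g₁, g₂,
    hf1, hf2, ?_, ?_, ?_, ?_, ?_⟩
  · intro h w hw
    rw [Submodule.mem_comap] at hw ⊢
    exact hi1 h _ hw
  · intro h w hw
    rw [Submodule.mem_comap] at hw ⊢
    exact hi2 h _ hw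
  · rw [Submodule.mem_comap]
    exact h1
  · rw [Submodule.mem_comap]
    exact h2
  · rw [Submodule.mem_comap]
    exact h3
  · rw [Submodule.mem_comap]
    exact h4
  · intro i j hij
    rw [Submodule.mem_comap] at hij
    exact hind i j hij

theorem exists_natural_pair_aux (hp2 : p ≠ 2) (a b : H)
    (hab : Subgroup.closure ({a, b} : Set H) = ⊤) :
    ∀ (d : ℕ) (V : Type v) [AddCommGroup V] [Module (ZMod p) V] [Module.Finite (ZMod p) V]
      (ρ : H →* Module.End (ZMod p) V), Module.finrank (ZMod p) V = d → IsQuadEnd (ρ a) →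
      IsQuadEnd (ρ b) → ¬ IsPRep p ρ → NatPair ρ := by
  intro d
  induction d using Nat.strong_induction_on with
  | _ d ih =>
    intro W _ _ _ ρ hd hA hB hnp
    by_cases hred : ∃ W' : Submodule (ZMod p) W,
        (∀ h : H, ∀ w ∈ W', ρ h w ∈ W') ∧ W' ≠ ⊥ ∧ W' ≠ ⊤
    · obtain ⟨W', hinv, hbot, htop⟩ := hred
      by_cases h1 : IsPRep p (subRep ρ W' hinv)
      · have h2 : ¬ IsPRep p (quotRep ρ W' hinv) :=
          fun h2 => hnp (isPRep_of_sub_quot p ρ W' hinv h1 h2)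
        have hlt : Module.finrank (ZMod p) (W ⧸ W') < d := by
          rw [← hd]
          have h3 := Submodule.finrank_quotient_add_finrank W'
          have hpos : 0 < Module.finrank (ZMod p) W' := by
            rw [Module.finrank_pos_iff]
            exact Submodule.nontrivial_iff_ne_bot.mpr hbot
          omega
        exact natPair_of_quotRep ρ W' hinv
          (ih _ hlt (W ⧸ W') (quotRep ρ W' hinv) rfl (isQuadEnd_quotRep ρ W' hinv hA)
            (isQuadEnd_quotRep ρ W' hinv hB) h2)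
      · have hlt : Module.finrank (ZMod p) W' < d := by
          rw [← hd]
          exact Submodule.finrank_lt htop
        exact natPair_of_subRep ρ W' hinv
          (ih _ hlt W' (subRep ρ W' hinv) rfl (isQuadEnd_subRep ρ W' hinv hA)
            (isQuadEnd_subRep ρ W' hinv hB) h1)
    · push Not at hred
      have hirr : ∀ W' : Submodule (ZMod p) W, (∀ h : H, ∀ w ∈ W', ρ h w ∈ W') →
          W' = ⊥ ∨ W' = ⊤ := by
        intro W' hinv
        by_contra hcon
        push Not at hcon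
        exact hcon.2 (hred W' hinv hcon.1)
      haveI : Finite W := Module.finite_of_finite (ZMod p)
      have hnt : ¬ (ρ a = 1 ∧ ρ b = 1) := by
        rintro ⟨ha1, hb1⟩
        apply hnp
        intro h
        exact ⟨0, eq_one_of_closure ρ a b hab ha1 hb1 _⟩
      obtain ⟨x, y, f₁, f₂, h1, h2, h3, h4, hind⟩ :=
        exists_natural_pair_irreducible hp2 ρ a b hab hA hB hirr hnt
      refine ⟨⊤, ⊥, bot_le, fun _ _ _ => Submodule.mem_top, ?_, x, y, f₁, f₂, Submodule.mem_top,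
        Submodule.mem_top, ?_, ?_, ?_, ?_, ?_⟩
      · intro h w hw
        rw [Submodule.mem_bot] at hw ⊢
        rw [hw, map_zero]
      · rw [Submodule.mem_bot, h1, sub_self]
      · rw [Submodule.mem_bot, h2, sub_self]
      · rw [Submodule.mem_bot, h3, sub_self]
      · rw [Submodule.mem_bot, h4, sub_self]
      · intro i j hij
        rw [Submodule.mem_bot] at hij
        exact hind i j hij

/-- **Linear main lemma.** -/
theorem exists_natural_pair [Finite V] (hp2 : p ≠ 2) (ρ : H →* Module.End (ZMod p) V) (a b : H)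
    (hab : Subgroup.closure ({a, b} : Set H) = ⊤) (hA : IsQuadEnd (ρ a)) (hB : IsQuadEnd (ρ b))
    (hnp : ¬ IsPRep p ρ) : NatPair ρ := by
  haveI : Module.Finite (ZMod p) V := Module.Finite.of_finite
  exact exists_natural_pair_aux hp2 a b hab _ V ρ rfl hA hB hnp

end Cfsg.Agent.Helper26.QdLin
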