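import Mathlib
import Cfsg.Agent.Helper26.QdLin3
import Cfsg.Agent.Helper26.QuadStable

set_option autoImplicit false
set_option linter.unusedSectionVars false
set_option linter.unusedVariables false
set_option linter.style.haveILetI false

/-! # Quadratic elements and natural pairs: the linear form of `Qd(p)`-free stability -/

namespace Cfsg.Agent.Helper26.QdStab

open Cfsg.Agent.Helper26 Cfsg.Agent.Helper26.QdLin

variable {p : ℕ} [hp : Fact p.Prime] {H : Type*} [Group H]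
variable {V : Type*} [AddCommGroup V] [Module (ZMod p) V]

/-- weak form of a natural pair: only invariance under the two elements is recorded -/
def NatPairW (ρ : H →* Module.End (ZMod p) V) : Prop :=
  ∃ (V₂ : Submodule (ZMod p) V) (x y : H) (f₁ f₂ : V),
    (∀ w ∈ V₂, ρ x w ∈ V₂) ∧ (∀ w ∈ V₂, ρ x⁻¹ w ∈ V₂) ∧
    (∀ w ∈ V₂, ρ y w ∈ V₂) ∧ (∀ w ∈ V₂, ρ y⁻¹ w ∈ V₂) ∧
    ρ x f₁ - f₁ ∈ V₂ ∧ ρ x f₂ - (f₁ + f₂) ∈ V₂ ∧
    ρ y f₁ - (f₁ + f₂) ∈ V₂ ∧ ρ y f₂ - f₂ ∈ V₂ ∧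
    ∀ i j : ZMod p, i • f₁ + j • f₂ ∈ V₂ → i = 0 ∧ j = 0

theorem natPairW_of_natPair (ρ : H →* Module.End (ZMod p) V) (h : NatPair ρ) : NatPairW ρ := by
  obtain ⟨V₁, V₂, hle, hi1, hi2, x, y, f₁, f₂, hf1, hf2, h1, h2, h3, h4, hind⟩ := h
  exact ⟨V₂, x, y, f₁, f₂, hi2 x, hi2 x⁻¹, hi2 y, hi2 y⁻¹, h1, h2, h3, h4, hind⟩

/-- Linear form: a quadratic element lies in a normal subgroup acting as a `p`-group, unless
there is a natural pair. -/
theorem exists_normal_of_quad' [Finite H] [Finite V] (hp2 : p ≠ 2)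
    (ρ : H →* Module.End (ZMod p) V) (hfree : ¬ NatPairW ρ) (a : H) (hA : IsQuadEnd (ρ a)) :
    ∃ D : Subgroup H, D.Normal ∧ ρ.ker ≤ D ∧ (∀ d ∈ D, ∃ k : ℕ, d ^ p ^ k ∈ ρ.ker) ∧ a ∈ D := by
  classical
  let ρb : H ⧸ ρ.ker →* Module.End (ZMod p) V := QuotientGroup.lift ρ.ker ρ le_rfl
  have hρb : ∀ x : H ⧸ ρ.ker, ρb x = 1 → x = 1 := by
    intro x hx
    induction x using QuotientGroup.induction_on with
    | H x =>
      have : ρ x = 1 := hx
      exact (QuotientGroup.eq_one_iff x).mpr this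
  let I : Subgroup (H ⧸ ρ.ker) := ⨅ P : Sylow p (H ⧸ ρ.ker), (P : Subgroup (H ⧸ ρ.ker))
  have hIn : I.Normal := Cfsg.Agent.Helper16.iInf_sylow_normal p
  have hIp : IsPGroup p I := Cfsg.Agent.Helper16.iInf_sylow_isPGroup p
  refine ⟨I.comap (QuotientGroup.mk' ρ.ker), hIn.comap _, ?_, ?_, ?_⟩
  · intro x hx
    rw [Subgroup.mem_comap]
    have : QuotientGroup.mk' ρ.ker x = 1 := (QuotientGroup.eq_one_iff x).mpr hx
    rw [this]
    exact Subgroup.one_mem _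
  · intro d hd
    rw [Subgroup.mem_comap] at hd
    obtain ⟨k, hk⟩ := hIp ⟨_, hd⟩
    refine ⟨k, ?_⟩
    have h1 := congrArg Subtype.val hk
    simp only [Subgroup.coe_pow, Subgroup.coe_one] at h1
    rw [← map_pow] at h1
    exact (QuotientGroup.eq_one_iff _).mp h1
  · rw [Subgroup.mem_comap]
    apply Cfsg.Agent.Helper16.baer_suzuki_elt p
    intro g
    by_contra hnp
    set ab : H ⧸ ρ.ker := QuotientGroup.mk' ρ.ker a with hab
    set H₀ : Subgroup (H ⧸ ρ.ker) := Subgroup.closure ({ab, g * ab * g⁻¹} : Set (H ⧸ ρ.ker))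
      with hH₀
    have ha0 : ab ∈ H₀ := Subgroup.subset_closure (Set.mem_insert _ _)
    have hb0 : g * ab * g⁻¹ ∈ H₀ := Subgroup.subset_closure (Set.mem_insert_of_mem _ rfl)
    let ρ₀ : H₀ →* Module.End (ZMod p) V := ρb.comp H₀.subtype
    have hgen : Subgroup.closure ({(⟨ab, ha0⟩ : H₀), ⟨g * ab * g⁻¹, hb0⟩} : Set H₀) = ⊤ := by
      have := Subgroup.closure_closure_coe_preimage (k := ({ab, g * ab * g⁻¹} : Set (H ⧸ ρ.ker)))
      rw [← this]
      congr 1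
      ext x
      simp only [Set.mem_insert_iff, Set.mem_singleton_iff, Set.mem_preimage]
      constructor
      · rintro (h | h)
        · left; rw [h]
        · right; rw [h]
      · rintro (h | h)
        · left; exact Subtype.ext h
        · right; exact Subtype.ext h
    have hqa : IsQuadEnd (ρb ab) := hA
    have hqb : IsQuadEnd (ρb (g * ab * g⁻¹)) := hqa.conj ρb g
    by_cases hP : IsPRep p ρ₀
    · apply hnp
      intro x
      obtain ⟨k, hk⟩ := hP x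
      refine ⟨k, ?_⟩
      apply Subtype.ext
      have : ρb ((x ^ p ^ k : H₀) : H ⧸ ρ.ker) = 1 := hk
      have h3 := hρb _ this
      exact h3
    · apply hfree
      obtain ⟨V₂, x₀, y₀, f₁, f₂, hx1, hx2, hy1, hy2, h1, h2, h3, h4, hind⟩ :=
        natPairW_of_natPair ρ₀
          (exists_natural_pair hp2 ρ₀ ⟨ab, ha0⟩ ⟨g * ab * g⁻¹, hb0⟩ hgen hqa hqb hP)
      obtain ⟨x, hx⟩ := QuotientGroup.mk_surjective (x₀ : H ⧸ ρ.ker)
      obtain ⟨y, hy⟩ := QuotientGroup.mk_surjective (y₀ : H ⧸ ρ.ker)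
      have ex : ρ x = ρ₀ x₀ := by
        show ρ x = ρb (x₀ : H ⧸ ρ.ker)
        rw [← hx]
        rfl
      have ey : ρ y = ρ₀ y₀ := by
        show ρ y = ρb (y₀ : H ⧸ ρ.ker)
        rw [← hy]
        rfl
      have ex' : ρ x⁻¹ = ρ₀ x₀⁻¹ := by
        show ρ x⁻¹ = ρb ((x₀⁻¹ : H₀) : H ⧸ ρ.ker)
        rw [Subgroup.coe_inv, ← hx]
        rfl
      have ey' : ρ y⁻¹ = ρ₀ y₀⁻¹ := by
        show ρ y⁻¹ = ρb ((y₀⁻¹ : H₀) : H ⧸ ρ.ker)
        rw [Subgroup.coe_inv, ← hy]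
        rfl
      refine ⟨V₂, x, y, f₁, f₂, ?_, ?_, ?_, ?_, ?_, ?_, ?_, ?_, hind⟩
      · rw [ex]; exact hx1
      · rw [ex']; exact hx2
      · rw [ey]; exact hy1
      · rw [ey']; exact hy2
      · rw [ex]; exact h1
      · rw [ex]; exact h2
      · rw [ey]; exact h3
      · rw [ey]; exact h4

end Cfsg.Agent.Helper26.QdStab
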