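import Mathlib
import Cfsg.Agent.Helper26.QdStab1
import Cfsg.Agent.Helper26.QuadStable2

set_option autoImplicit false
set_option linter.unusedSectionVars false
set_option linter.unusedVariables false
set_option linter.style.haveILetI false

/-! # Quadratic elements and natural pairs: multiplicative and Frattini forms -/

namespace Cfsg.Agent.Helper26.QdStab

open Cfsg.Agent.Helper26 Cfsg.Agent.Helper26.QdLin

section MulForm

variable {p : ℕ} [hp : Fact p.Prime] {H : Type*} [Group H] [Finite H]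
variable {V : Type*} [CommGroup V] [Finite V]

/-- a natural pair for an action on a commutative group (multiplicative form) -/
def NatPairMul (p : ℕ) (ρ : H →* MulAut V) : Prop :=
  ∃ (V₂ : Subgroup V) (x y : H) (f₁ f₂ : V),
    (∀ w ∈ V₂, ρ x w ∈ V₂) ∧ (∀ w ∈ V₂, ρ x⁻¹ w ∈ V₂) ∧
    (∀ w ∈ V₂, ρ y w ∈ V₂) ∧ (∀ w ∈ V₂, ρ y⁻¹ w ∈ V₂) ∧
    ρ x f₁ / f₁ ∈ V₂ ∧ ρ x f₂ / (f₁ * f₂) ∈ V₂ ∧
    ρ y f₁ / (f₁ * f₂) ∈ V₂ ∧ ρ y f₂ / f₂ ∈ V₂ ∧
    ∀ i j : ℕ, f₁ ^ i * f₂ ^ j ∈ V₂ → p ∣ i ∧ p ∣ j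

theorem exists_normal_of_quad_mul_aux' [Module (ZMod p) (Additive V)] (hp2 : p ≠ 2)
    (ρ : H →* MulAut V)
    (hfree : ¬ NatPairMul p ρ) (a : H) (ha : ∀ v : V, ρ a (ρ a v / v) = ρ a v / v) :
    ∃ D : Subgroup H, D.Normal ∧ ρ.ker ≤ D ∧ (∀ d ∈ D, ∃ k : ℕ, d ^ p ^ k ∈ ρ.ker) ∧ a ∈ D := by
  let ρL : H →* Module.End (ZMod p) (Additive V) :=
    { toFun := fun h => (MonoidHom.toAdditive ((ρ h : V ≃* V) : V →* V)).toZModLinearMap p
      map_one' := by
        ext x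
        rw [map_one ρ]
        rfl
      map_mul' := fun g h => by
        ext x
        rw [map_mul ρ]
        rfl }
  have hρL : ∀ (h : H) (w : V), ρL h (Additive.ofMul w) = Additive.ofMul (ρ h w) := fun _ _ => rfl
  have hker : ρL.ker = ρ.ker := by
    ext h
    rw [MonoidHom.mem_ker, MonoidHom.mem_ker]
    constructor
    · intro hh
      ext v
      have := congrArg (fun f => f (Additive.ofMul v)) hh
      exact congrArg Additive.toMul this
    · intro hh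
      ext x
      show (ρ h x.toMul) = x.toMul
      rw [hh]
      rfl
  have hA : IsQuadEnd (ρL a) := by
    intro w
    exact congrArg Additive.ofMul (ha w.toMul)
  have hfree' : ¬ NatPairW ρL := by
    rintro ⟨V₂, x, y, f₁, f₂, hx1, hx2, hy1, hy2, h1, h2, h3, h4, hind⟩
    apply hfree
    let V₂' : Subgroup V :=
      { carrier := {w | Additive.ofMul w ∈ V₂}
        one_mem' := V₂.zero_mem
        mul_mem' := fun ha hb => V₂.add_mem ha hb
        inv_mem' := fun ha => V₂.neg_mem ha }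
    have hV₂' : ∀ w : V, w ∈ V₂' ↔ Additive.ofMul w ∈ V₂ := fun _ => Iff.rfl
    refine ⟨V₂', x, y, f₁.toMul, f₂.toMul, ?_, ?_, ?_, ?_, ?_, ?_, ?_, ?_, ?_⟩
    · intro w hw
      exact hx1 _ hw
    · intro w hw
      exact hx2 _ hw
    · intro w hw
      exact hy1 _ hw
    · intro w hw
      exact hy2 _ hw
    · exact h1
    · exact h2
    · exact h3
    · exact h4
    · intro i j hij
      have h5 : i • f₁ + j • f₂ ∈ V₂ := hij
      rw [← Nat.cast_smul_eq_nsmul (ZMod p), ← Nat.cast_smul_eq_nsmul (ZMod p) j] at h5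
      obtain ⟨hi, hj⟩ := hind _ _ h5
      exact ⟨(ZMod.natCast_eq_zero_iff i p).mp hi, (ZMod.natCast_eq_zero_iff j p).mp hj⟩
  obtain ⟨D, hDn, hD1, hD2, hD3⟩ := exists_normal_of_quad' hp2 ρL hfree' a hA
  refine ⟨D, hDn, hker ▸ hD1, fun d hd => ?_, hD3⟩
  rw [← hker]
  exact hD2 d hd

/-- Multiplicative form. -/
theorem exists_normal_of_quad_mul' (hp2 : p ≠ 2) (hV : ∀ v : V, v ^ p = 1) (ρ : H →* MulAut V)
    (hfree : ¬ NatPairMul p ρ) (a : H) (ha : ∀ v : V, ρ a (ρ a v / v) = ρ a v / v) :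
    ∃ D : Subgroup H, D.Normal ∧ ρ.ker ≤ D ∧ (∀ d ∈ D, ∃ k : ℕ, d ^ p ^ k ∈ ρ.ker) ∧ a ∈ D :=
  @exists_normal_of_quad_mul_aux' p hp H _ _ V _ _ (AddCommGroup.zmodModule (by
    intro x
    exact congrArg Additive.ofMul (hV x.toMul))) hp2 ρ hfree a ha

end MulForm

end Cfsg.Agent.Helper26.QdStab
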