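import Mathlib
import Cfsg.Agent.Helper26.QdStab2
import Cfsg.Agent.Helper26.QdSec4
import Cfsg.Agent.Helper26.ZJe

set_option autoImplicit false
set_option linter.unusedSectionVars false
set_option linter.unusedVariables false
set_option linter.style.haveILetI false

/-! # `Qd(p)`-free groups are `p`-stable (`p` odd) -/

namespace Cfsg.Agent.Helper26.QdStab

open Cfsg.Agent.Helper26 Cfsg.Agent.Helper26.QdSec

open scoped IsMulCommutative
open scoped commutatorElement

section FratSection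

variable {L : Type*} [Group L] [Finite L] {p : ℕ} [hp : Fact p.Prime]

theorem exists_normal_of_quad_frat_aux_qd (hp2 : p ≠ 2) (A : Subgroup L) [A.Normal]
    [IsMulCommutative (↥A ⧸ frattini ↥A)] (hAp : IsPGroup p A)
    (hfree : ¬ NatPairMul p (fratRep A)) (a : L)
    (hq : ∀ x ∈ A, ⁅⁅x, a⁆, a⁆ ∈ (frattini ↥A).map A.subtype) :
    ∃ D : Subgroup L, D.Normal ∧ Cfsg.Agent.Helper14.fratStab A ≤ D ∧
      (∀ d ∈ D, ∃ k : ℕ, d ^ p ^ k ∈ Cfsg.Agent.Helper14.fratStab A) ∧ a ∈ D := by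
  have hV : ∀ v : ↥A ⧸ frattini ↥A, v ^ p = 1 := by
    intro v
    induction v using QuotientGroup.induction_on with
    | H x =>
      rw [← QuotientGroup.mk_pow, QuotientGroup.eq_one_iff]
      exact Cfsg.Agent.Helper1.IsPGroup.pow_mem_frattini hAp x
  have ha : ∀ v : ↥A ⧸ frattini ↥A, fratRep A a (fratRep A a v / v) = fratRep A a v / v := by
    intro v
    induction v using QuotientGroup.induction_on with
    | H x =>
      rw [fratRep_mk, ← QuotientGroup.mk_div, fratRep_mk, QuotientGroup.eq]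
      obtain ⟨y, hy, hyx⟩ := hq x x.2
      have e : (MulAut.conjNormal a (MulAut.conjNormal a x / x))⁻¹ * (MulAut.conjNormal a x / x)
          = y⁻¹ := by
        apply Subtype.ext
        simp only [Subgroup.coe_mul, Subgroup.coe_inv, MulAut.conjNormal_apply, Subgroup.coe_div]
        have : (y : L) = ⁅⁅(x : L), a⁆, a⁆ := hyx
        rw [this, commutatorElement_def, commutatorElement_def]
        simp only [div_eq_mul_inv]
        group
      rw [e]
      exact Subgroup.inv_mem _ hy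
  obtain ⟨D, hDn, hD1, hD2, hD3⟩ := exists_normal_of_quad_mul' hp2 hV (fratRep A) hfree a ha
  rw [fratRep_ker] at hD1 hD2
  exact ⟨D, hDn, hD1, hD2, hD3⟩

/-- elements of `A` act trivially on `A/Φ(A)` -/
theorem fratRep_of_mem (A : Subgroup L) [A.Normal] [IsMulCommutative (↥A ⧸ frattini ↥A)]
    (a : A) (w : ↥A ⧸ frattini ↥A) : fratRep A (a : L) w = w := by
  induction w using QuotientGroup.induction_on with
  | H b =>
    rw [fratRep_mk]
    have : MulAut.conjNormal (a : L) b = a * b * a⁻¹ := by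
      apply Subtype.ext
      simp [MulAut.conjNormal_apply]
    rw [this, QuotientGroup.mk_mul, QuotientGroup.mk_mul, QuotientGroup.mk_inv,
      mul_comm (a : ↥A ⧸ frattini ↥A), mul_inv_cancel_right]

/-- a natural pair on the Frattini quotient of a normal `p`-subgroup gives a `Qd(p)`-section -/
theorem involves_qd_of_natPairMul (hp2 : p ≠ 2) (A : Subgroup L) [A.Normal]
    [IsMulCommutative (↥A ⧸ frattini ↥A)] (hAp : IsPGroup p A)
    (h : NatPairMul p (fratRep A)) : Cfsg.Involves ↥(Cfsg.qd p) L := by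
  obtain ⟨V₂, x, y, f₁, f₂, hx1, hx2, hy1, hy2, h1, h2, h3, h4, hind⟩ := h
  obtain ⟨a₁, rfl⟩ := QuotientGroup.mk_surjective f₁
  obtain ⟨a₂, rfl⟩ := QuotientGroup.mk_surjective f₂
  obtain ⟨A₂, hA₂⟩ : ∃ A₂ : Subgroup L,
      A₂ = (V₂.comap (QuotientGroup.mk' (frattini ↥A))).map A.subtype := ⟨_, rfl⟩
  have hmem : ∀ a : A, (a : L) ∈ A₂ ↔ (QuotientGroup.mk a : ↥A ⧸ frattini ↥A) ∈ V₂ := by
    intro a
    rw [hA₂]
    constructor
    · rintro ⟨b, hb, hba⟩
      have : b = a := Subtype.ext hba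
      rw [← this]
      exact hb
    · intro ha
      exact ⟨a, ha, rfl⟩
  have hA₂A : ∀ l ∈ A₂, ∃ a : A, (a : L) = l := by
    intro l hl
    rw [hA₂] at hl
    obtain ⟨b, _, hb⟩ := hl
    exact ⟨b, hb⟩
  have hconj : ∀ (g : L) (a : A), g * (a : L) * g⁻¹ = ((MulAut.conjNormal g a : A) : L) := by
    intro g a
    rw [MulAut.conjNormal_apply]
  have hnorm_of : ∀ g : L, (∀ w ∈ V₂, fratRep A g w ∈ V₂) → (∀ w ∈ V₂, fratRep A g⁻¹ w ∈ V₂) →
      g ∈ Subgroup.normalizer (A₂ : Set L) := by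
    intro g hg1 hg2
    rw [Subgroup.mem_normalizer_iff]
    intro l
    constructor
    · intro hl
      obtain ⟨b, rfl⟩ := hA₂A l hl
      rw [hconj, hmem, ← fratRep_mk]
      exact hg1 _ ((hmem b).mp hl)
    · intro hl
      obtain ⟨c, hc⟩ := hA₂A _ hl
      have hcV : (QuotientGroup.mk c : ↥A ⧸ frattini ↥A) ∈ V₂ := by
        rw [← hmem, hc]
        exact hl
      have : l = ((MulAut.conjNormal g⁻¹ c : A) : L) := by
        rw [MulAut.conjNormal_apply, hc]
        group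
      rw [this, hmem, ← fratRep_mk]
      exact hg2 _ hcV
  have hnormA : ∀ a : A, (a : L) ∈ Subgroup.normalizer (A₂ : Set L) := by
    intro a
    apply hnorm_of
    · intro w hw
      rw [fratRep_of_mem]
      exact hw
    · intro w hw
      have : (a : L)⁻¹ = ((a⁻¹ : A) : L) := rfl
      rw [this, fratRep_of_mem]
      exact hw
  have hV : ∀ v : ↥A ⧸ frattini ↥A, v ^ p = 1 := by
    intro v
    induction v using QuotientGroup.induction_on with
    | H x =>
      rw [← QuotientGroup.mk_pow, QuotientGroup.eq_one_iff]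
      exact Cfsg.Agent.Helper1.IsPGroup.pow_mem_frattini hAp x
  have hinvdiv : ∀ u v : ↥A ⧸ frattini ↥A, u⁻¹ * v = (u / v)⁻¹ := by
    intro u v
    rw [inv_div, div_eq_mul_inv, mul_comm]
  have hsec : SecHyp p A₂ x y (a₁ : L) (a₂ : L) := by
    refine ⟨hnorm_of x hx1 hx2, hnorm_of y hy1 hy2, hnormA a₁, hnormA a₂, ?_, ?_, ?_, ?_, ?_, ?_,
      ?_, ?_⟩
    · have : ((a₁ : L) * (a₂ : L))⁻¹ * ((a₂ : L) * (a₁ : L)) =
          (((a₁ * a₂)⁻¹ * (a₂ * a₁) : A) : L) := by simp
      rw [this, hmem, QuotientGroup.mk_mul, QuotientGroup.mk_inv, QuotientGroup.mk_mul,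
        QuotientGroup.mk_mul, mul_comm (a₂ : ↥A ⧸ frattini ↥A), inv_mul_cancel]
      exact V₂.one_mem
    · have : (a₁ : L) ^ p = ((a₁ ^ p : A) : L) := by simp
      rw [this, hmem, QuotientGroup.mk_pow, hV]
      exact V₂.one_mem
    · have : (a₂ : L) ^ p = ((a₂ ^ p : A) : L) := by simp
      rw [this, hmem, QuotientGroup.mk_pow, hV]
      exact V₂.one_mem
    · rw [hconj]
      have : ((MulAut.conjNormal x a₁ : A) : L)⁻¹ * (a₁ : L) =
          (((MulAut.conjNormal x a₁)⁻¹ * a₁ : A) : L) := by simp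
      rw [this, hmem, QuotientGroup.mk_mul, QuotientGroup.mk_inv, ← fratRep_mk, hinvdiv]
      exact V₂.inv_mem h1
    · rw [hconj]
      have : ((MulAut.conjNormal x a₂ : A) : L)⁻¹ * ((a₁ : L) * (a₂ : L)) =
          (((MulAut.conjNormal x a₂)⁻¹ * (a₁ * a₂) : A) : L) := by simp
      rw [this, hmem, QuotientGroup.mk_mul, QuotientGroup.mk_inv, ← fratRep_mk,
        QuotientGroup.mk_mul, hinvdiv]
      exact V₂.inv_mem h2
    · rw [hconj]
      have : ((MulAut.conjNormal y a₁ : A) : L)⁻¹ * ((a₁ : L) * (a₂ : L)) =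
          (((MulAut.conjNormal y a₁)⁻¹ * (a₁ * a₂) : A) : L) := by simp
      rw [this, hmem, QuotientGroup.mk_mul, QuotientGroup.mk_inv, ← fratRep_mk,
        QuotientGroup.mk_mul, hinvdiv]
      exact V₂.inv_mem h3
    · rw [hconj]
      have : ((MulAut.conjNormal y a₂ : A) : L)⁻¹ * (a₂ : L) =
          (((MulAut.conjNormal y a₂)⁻¹ * a₂ : A) : L) := by simp
      rw [this, hmem, QuotientGroup.mk_mul, QuotientGroup.mk_inv, ← fratRep_mk, hinvdiv]
      exact V₂.inv_mem h4
    · intro i j hij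
      apply hind
      have : (a₁ : L) ^ i * (a₂ : L) ^ j = ((a₁ ^ i * a₂ ^ j : A) : L) := by simp
      rw [this, hmem, QuotientGroup.mk_mul, QuotientGroup.mk_pow, QuotientGroup.mk_pow] at hij
      exact hij
  exact involves_qd_of_secHyp hp2 hsec

/-- **Quadratic action on a normal `p`-subgroup** (`p` odd, `Qd(p)`-free). -/
theorem exists_normal_of_quad_frat_qd (hp2 : p ≠ 2) (A : Subgroup L) [A.Normal]
    (hAp : IsPGroup p A) (hfree : ¬ Cfsg.Involves ↥(Cfsg.qd p) L) (a : L)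
    (hq : ∀ x ∈ A, ⁅⁅x, a⁆, a⁆ ∈ (frattini ↥A).map A.subtype) :
    ∃ D : Subgroup L, D.Normal ∧ Subgroup.centralizer (A : Set L) ≤ D ∧
      (∀ d ∈ D, ∃ k : ℕ, d ^ p ^ k ∈ Subgroup.centralizer (A : Set L)) ∧ a ∈ D := by
  have hc : IsMulCommutative (↥A ⧸ frattini ↥A) := by
    refine ⟨⟨?_⟩⟩
    intro u v
    induction u using QuotientGroup.induction_on with
    | H x =>
      induction v using QuotientGroup.induction_on with
      | H y =>
        rw [← QuotientGroup.mk_mul, ← QuotientGroup.mk_mul, QuotientGroup.eq]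
        have h1 : ⁅y⁻¹, x⁻¹⁆ ∈ frattini ↥A :=
          Cfsg.Agent.Helper1.IsPGroup.commutator_le_frattini hAp
            (Subgroup.commutator_mem_commutator (Subgroup.mem_top _) (Subgroup.mem_top _))
        have e : (x * y)⁻¹ * (y * x) = ⁅y⁻¹, x⁻¹⁆ := by
          rw [commutatorElement_def]; group
        rw [e]
        exact h1
  have hfree' : ¬ NatPairMul p (fratRep A) :=
    fun h => hfree (involves_qd_of_natPairMul hp2 A hAp h)
  obtain ⟨D, hDn, hD1, hD2, hD3⟩ := exists_normal_of_quad_frat_aux_qd hp2 A hAp hfree' a hq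
  refine ⟨D, hDn, (Cfsg.Agent.Helper14.centralizer_le_fratStab A).trans hD1, ?_, hD3⟩
  intro d hd
  obtain ⟨k, hk⟩ := hD2 d hd
  obtain ⟨n, hn⟩ := Cfsg.Agent.Helper14.exists_pow_mem_centralizer_of_mem_fratStab A hAp _ hk
  refine ⟨k + n, ?_⟩
  rw [pow_add, pow_mul]
  exact hn

end FratSection

section Stable

open Subgroup

variable {G : Type*} [Group G] [Finite G] {p : ℕ} [hp : Fact p.Prime]

/-- **`Qd(p)`-free groups are `p`-stable** for odd `p` (quotient-free form). -/
theorem stabHypSub_of_qd_free (hp2 : p ≠ 2) (hfree : ¬ Cfsg.Involves ↥(Cfsg.qd p) G) :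
    StabHypSub p G := by
  intro P hPn hPp
  haveI := hPn
  obtain ⟨L₀, hL₀n, hCL₀, hL₀pow, hL₀max⟩ := exists_max_pQuot (p := p) (centralizer (P : Set G))
  refine ⟨L₀, hL₀n, hCL₀, hL₀pow, ?_⟩
  intro A hA hq a ha
  have hq' : ∀ x ∈ P, ⁅⁅x, a⁆, a⁆ ∈ (frattini ↥P).map P.subtype := by
    intro x hx
    have h1 : ⁅⁅x, a⁆, a⁆ ∈ ⁅⁅P, A⁆, A⁆ :=
      commutator_mem_commutator (commutator_mem_commutator hx ha) ha
    rw [hq, mem_bot] at h1
    rw [h1]
    exact one_mem _
  obtain ⟨D, hDn, hD1, hD2, hD3⟩ := exists_normal_of_quad_frat_qd hp2 P hPp hfree a hq'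
  exact hL₀max D hDn hD2 hD3

end Stable

end Cfsg.Agent.Helper26.QdStab
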