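import Mathlib
import Cfsg.Agent.Helper26.QdStab3

set_option autoImplicit false
set_option linter.unusedSectionVars false
set_option linter.unusedVariables false
set_option linter.style.haveILetI false

/-! # `Qd(p)`-free groups are `p`-stable: element form and normalizer form -/

namespace Cfsg.Agent.Helper26.QdStab

open Cfsg.Agent.Helper26 Cfsg.Agent.Helper26.QdSec

open scoped commutatorElement

open Subgroup

variable {G : Type*} [Group G] [Finite G] {p : ℕ} [hp : Fact p.Prime]

/-- **`Qd(p)`-free groups are `p`-stable** for odd `p` (quotient-free element form). -/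
theorem stabHyp_of_qd_free (hp2 : p ≠ 2) (hfree : ¬ Cfsg.Involves ↥(Cfsg.qd p) G) :
    StabHyp p G := by
  intro P hPn hPp
  haveI := hPn
  obtain ⟨L₀, hL₀n, hCL₀, hL₀pow, hL₀max⟩ := exists_max_pQuot (p := p) (centralizer (P : Set G))
  refine ⟨L₀, hL₀n, hCL₀, hL₀pow, ?_⟩
  intro a hq
  have hq' : ∀ x ∈ P, ⁅⁅x, a⁆, a⁆ ∈ (frattini ↥P).map P.subtype := by
    intro x hx
    have h1 : ⁅⁅x, a⁆, a⁆ ∈ ⁅⁅P, zpowers a⁆, zpowers a⁆ :=
      commutator_mem_commutator (commutator_mem_commutator hx (mem_zpowers a)) (mem_zpowers a)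
    rw [hq, mem_bot] at h1
    rw [h1]
    exact one_mem _
  obtain ⟨D, hDn, hD1, hD2, hD3⟩ := exists_normal_of_quad_frat_qd hp2 P hPp hfree a hq'
  exact hL₀max D hDn hD2 hD3

/-- subgroups of `Qd(p)`-free groups are `Qd(p)`-free -/
theorem not_involves_subgroup {Q : Type*} [Group Q] (hfree : ¬ Cfsg.Involves Q G)
    (K : Subgroup G) : ¬ Cfsg.Involves Q K :=
  fun h => hfree (involves_of_injective K.subtype K.subtype_injective h)

/-- sections of `Q`-free groups are `Q`-free -/
theorem not_involves_section {Q : Type*} [Group Q] (hfree : ¬ Cfsg.Involves Q G)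
    (K R : Subgroup G) [hR : (R.subgroupOf K).Normal] :
    ¬ Cfsg.Involves Q (K ⧸ R.subgroupOf K) :=
  fun h => hfree (involves_trans h
    (involves_of_surjective K (QuotientGroup.mk' _) (QuotientGroup.mk'_surjective _)))

/-- **`Qd(p)`-free groups are `p`-stable**, normalizer form. -/
theorem quad_image_le_pCore_qd (hp2 : p ≠ 2) (hfree : ¬ Cfsg.Involves ↥(Cfsg.qd p) G)
    (P : Subgroup G) (hP : IsPGroup p P) (g : G) (hg : g ∈ normalizer (P : Set G))
    (hquad : ⁅⁅P, zpowers g⁆, zpowers g⁆ = ⊥) :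
    (QuotientGroup.mk (s := (centralizer (P : Set G)).subgroupOf (normalizer (P : Set G)))
        (⟨g, hg⟩ : ↥(normalizer (P : Set G)))) ∈
      Cfsg.pCore p (↥(normalizer (P : Set G)) ⧸
        (centralizer (P : Set G)).subgroupOf (normalizer (P : Set G))) := by
  haveI hA'n : (P.subgroupOf (normalizer (P : Set G))).Normal := normal_in_normalizer
  have hA'p : IsPGroup p (P.subgroupOf (normalizer (P : Set G))) :=
    hP.comap_of_injective _ (subtype_injective _)
  have hfree' : ¬ Cfsg.Involves ↥(Cfsg.qd p) ↥(normalizer (P : Set G)) :=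
    not_involves_subgroup hfree _
  have hq : ∀ x ∈ P.subgroupOf (normalizer (P : Set G)),
      ⁅⁅x, (⟨g, hg⟩ : ↥(normalizer (P : Set G)))⁆, (⟨g, hg⟩ : ↥(normalizer (P : Set G)))⁆ ∈
      (frattini ↥(P.subgroupOf (normalizer (P : Set G)))).map
        (P.subgroupOf (normalizer (P : Set G))).subtype := by
    intro x hx
    have hxP : (x : G) ∈ P := mem_subgroupOf.mp hx
    have h1 : ⁅⁅(x : G), g⁆, g⁆ ∈ ⁅⁅P, zpowers g⁆, zpowers g⁆ :=
      commutator_mem_commutator (commutator_mem_commutator hxP (mem_zpowers g)) (mem_zpowers g)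
    rw [hquad, mem_bot] at h1
    have h3 : ⁅⁅x, (⟨g, hg⟩ : ↥(normalizer (P : Set G)))⁆,
        (⟨g, hg⟩ : ↥(normalizer (P : Set G)))⁆ = 1 := by
      apply Subtype.ext
      simpa [commutatorElement_def] using h1
    rw [h3]
    exact one_mem _
  obtain ⟨D, hDn, hD1, hD2, hD3⟩ := exists_normal_of_quad_frat_qd hp2
    (P.subgroupOf (normalizer (P : Set G))) hA'p hfree' ⟨g, hg⟩ hq
  have hmapn : (D.map (QuotientGroup.mk' ((centralizer (P : Set G)).subgroupOf
      (normalizer (P : Set G))))).Normal :=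
    hDn.map _ (QuotientGroup.mk'_surjective _)
  have hmapp : IsPGroup p (D.map (QuotientGroup.mk' ((centralizer (P : Set G)).subgroupOf
      (normalizer (P : Set G))))) := by
    rintro ⟨_, d, hd, rfl⟩
    obtain ⟨k, hk⟩ := hD2 d hd
    refine ⟨k, ?_⟩
    apply Subtype.ext
    simp only [coe_pow, coe_one]
    rw [← map_pow, QuotientGroup.mk'_apply, QuotientGroup.eq_one_iff, mem_subgroupOf,
      mem_centralizer_iff]
    intro y hy
    have hy' : (⟨y, le_normalizer hy⟩ : normalizer (P : Set G)) ∈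
        P.subgroupOf (normalizer (P : Set G)) := mem_subgroupOf.mpr hy
    have := (mem_centralizer_iff.mp hk) _ hy'
    exact congrArg Subtype.val this
  exact Cfsg.Agent.Helper14.le_pCore p hmapn hmapp (mem_map_of_mem _ hD3)

theorem isNormalizerPStable_of_qd_free (hp2 : p ≠ 2) (hfree : ¬ Cfsg.Involves ↥(Cfsg.qd p) G) :
    Cfsg.IsNormalizerPStable p G := by
  intro P hP g hg hquad
  exact quad_image_le_pCore_qd hp2 hfree P hP g hg hquad

end Cfsg.Agent.Helper26.QdStab
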