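import Mathlib
import Cfsg.Agent.Helper25.FusionChain
import Cfsg.Agent.Helper25.FusionSat
import Cfsg.Agent.S5077

set_option autoImplicit false

/-! Towards the Camina–Herzog criterion for fusion systems: elements conjugate into the centre
have trivial automizers of their cyclic subgroups; the central trick for normal subgroups. -/

namespace Cfsg.Agent.Helper26.CamHerz

open Cfsg Cfsg.FusionSystem Cfsg.Agent.Helper25

variable {Ω : Type*} [Group Ω] {S : Subgroup Ω}

/-- If `x` is conjugate in the system to a central element of `S`, then `x` commutes with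
every subgroup normal in the system. -/
theorem commute_of_isNormal (F : FusionSystem S) {N : Subgroup Ω}
    (hN : F.IsNormal N) {x z : Ω} (hz : z ∈ S ⊓ Subgroup.centralizer (S : Set Ω))
    (hxz : F.IsConjElt x z) {v : Ω} (hv : v ∈ N) : x * v = v * x := by
  obtain ⟨φ, hφ, hφx⟩ := hxz
  obtain ⟨ψ, hψ, hext, hmap⟩ := hN.2 _ φ hφ
  have hinj := F.injective_of_mem hψ
  let x' : ↥(Subgroup.zpowers x ⊔ N) := ⟨x, Subgroup.mem_sup_left (Subgroup.mem_zpowers x)⟩
  let v' : ↥(Subgroup.zpowers x ⊔ N) := ⟨v, Subgroup.mem_sup_right hv⟩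
  have h1 : ψ x' = z := by
    have := hext ⟨x, Subgroup.mem_zpowers x⟩
    rw [hφx] at this
    exact this
  have h2 : ψ v' ∈ S := (F.le_of_mem hψ).2 v'
  have h3 : z * ψ v' = ψ v' * z := (Subgroup.mem_centralizer_iff.mp hz.2 _ h2).symm
  have h4 : ψ (x' * v') = ψ (v' * x') := by rw [map_mul, map_mul, h1, h3]
  exact congrArg Subtype.val (hinj h4)

/-- A subgroup of `S` normalized by all of `S` is fully normalized. -/
theorem isFullyNormalized_of_le_normalizer [Finite S] (F : FusionSystem S) {P : Subgroup Ω}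
    (hP : P ≤ S) (hN : S ≤ Subgroup.normalizer (P : Set Ω)) : F.IsFullyNormalized P := by
  refine ⟨hP, fun Q _ => ?_⟩
  have e : normalizerIn S P = S := inf_of_le_left hN
  rw [e]
  exact Subgroup.card_le_of_le (inf_le_left : normalizerIn S Q ≤ S)

/-- Central elements generate subgroups on which `S` induces no automorphisms. -/
theorem autInducedBy_zpowers_eq_bot {z : Ω}
    (hz : z ∈ S ⊓ Subgroup.centralizer (S : Set Ω)) :
    autInducedBy S (Subgroup.zpowers z) = ⊥ := by
  rw [eq_bot_iff]
  unfold autInducedBy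
  rw [Subgroup.closure_le]
  rintro α ⟨g, hg, hα⟩
  rw [SetLike.mem_coe, Subgroup.mem_bot]
  ext x
  rw [hα x]
  obtain ⟨k, hk⟩ := Subgroup.mem_zpowers_iff.mp x.2
  have h1 : g * z = z * g := Subgroup.mem_centralizer_iff.mp hz.2 g hg
  have h2 : g * (x : Ω) = (x : Ω) * g := by
    rw [← hk]
    exact ((Commute.zpow_right (show Commute g z from h1) k)).eq
  rw [h2]
  simp

/-- The automizer of a cyclic `2`-group is a `2`-group. -/
theorem card_autGroup_zpowers [Finite S] (hS : IsPGroup 2 ↥S) (F : FusionSystem S) {z : Ω}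
    (hz : z ∈ S) : ∃ j : ℕ, Nat.card (F.autGroup (Subgroup.zpowers z)) = 2 ^ j := by
  have hfin : Finite (Subgroup.zpowers z) :=
    finite_of_le (S := S) (by rw [Subgroup.zpowers_le]; exact hz)
  have hp : IsPGroup 2 (Subgroup.zpowers z) :=
    isPGroup_of_le hS (by rw [Subgroup.zpowers_le]; exact hz)
  obtain ⟨k, hk⟩ := IsPGroup.iff_card.mp hp
  have h1 : Nat.card (MulAut (Subgroup.zpowers z)) = Nat.totient (2 ^ k) := by
    rw [IsCyclic.card_mulAut, hk]
  have h2 : ∃ m, Nat.card (MulAut (Subgroup.zpowers z)) = 2 ^ m := by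
    rcases Nat.eq_zero_or_pos k with h0 | h0
    · refine ⟨0, ?_⟩
      rw [h1, h0]
      simp
    · refine ⟨k - 1, ?_⟩
      rw [h1, Nat.totient_prime_pow Nat.prime_two h0]
      simp
  obtain ⟨m, hm⟩ := h2
  have h3 : Nat.card (F.autGroup (Subgroup.zpowers z)) ∣ 2 ^ m := by
    rw [← hm]
    exact Subgroup.card_subgroup_dvd_card _
  obtain ⟨j, -, hj⟩ := (Nat.dvd_prime_pow Nat.prime_two).mp h3
  exact ⟨j, hj⟩

/-- In a saturated system over a `2`-group the automizer of a central cyclic subgroup is trivial. -/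
theorem card_autGroup_zpowers_central [Finite S] (hS : IsPGroup 2 ↥S) (F : FusionSystem S)
    (hF : F.IsSaturated 2) {z : Ω} (hz : z ∈ S ⊓ Subgroup.centralizer (S : Set Ω)) :
    Nat.card (F.autGroup (Subgroup.zpowers z)) = 1 := by
  have : Fact (Nat.Prime 2) := ⟨Nat.prime_two⟩
  have hPS : Subgroup.zpowers z ≤ S := by rw [Subgroup.zpowers_le]; exact hz.1
  have hN : S ≤ Subgroup.normalizer ((Subgroup.zpowers z : Subgroup Ω) : Set Ω) := by
    intro g hg
    rw [Subgroup.mem_normalizer_iff]
    intro x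
    have h1 : g * z = z * g := Subgroup.mem_centralizer_iff.mp hz.2 g hg
    have key : ∀ y ∈ Subgroup.zpowers z, g * y * g⁻¹ = y := by
      intro y hy
      obtain ⟨k, hk⟩ := Subgroup.mem_zpowers_iff.mp hy
      have h2 : g * y = y * g := by
        rw [← hk]
        exact ((Commute.zpow_right (show Commute g z from h1) k)).eq
      rw [h2]; simp
    constructor
    · intro hx
      rw [key x hx]; exact hx
    · intro hx
      have h3 := key _ hx
      have h5 : g * x * g⁻¹ = x := by
        calc g * x * g⁻¹ = g⁻¹ * (g * (g * x * g⁻¹) * g⁻¹) * g := by group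
          _ = g⁻¹ * (g * x * g⁻¹) * g := by rw [h3]
          _ = x := by group
      rw [← h5]; exact hx
  have hFN := isFullyNormalized_of_le_normalizer F hPS hN
  have hFA := (Cfsg.Agent.S5077.sylow_axiom 2 hS F hF _ hFN).2
  rw [isFullyAutomized_iff_card F 2 hPS, autInducedBy_zpowers_eq_bot hz] at hFA
  obtain ⟨j, hj⟩ := card_autGroup_zpowers hS F hz.1
  rw [hj] at hFA ⊢
  unfold pPart at hFA
  rw [Nat.factorization_pow, Finsupp.smul_apply, Nat.Prime.factorization_self Nat.prime_two,
    smul_eq_mul, mul_one] at hFA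
  rw [← hFA]
  simp

/-- If `x` is conjugate in the system to a central element, the automizer of `⟨x⟩` is trivial. -/
theorem autGroup_zpowers_eq_one [Finite S] (hS : IsPGroup 2 ↥S) (F : FusionSystem S)
    (hF : F.IsSaturated 2) {x z : Ω} (hz : z ∈ S ⊓ Subgroup.centralizer (S : Set Ω))
    (hxz : F.IsConjElt x z) (α : MulAut (Subgroup.zpowers x))
    (hα : α ∈ F.autGroup (Subgroup.zpowers x)) : α = 1 := by
  obtain ⟨φ, hφ, hφx⟩ := hxz
  have hr : φ.range = Subgroup.zpowers z := by
    ext y
    constructor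
    · rintro ⟨w, rfl⟩
      obtain ⟨k, hk⟩ := Subgroup.mem_zpowers_iff.mp w.2
      have hw : w = (⟨x, Subgroup.mem_zpowers x⟩ : Subgroup.zpowers x) ^ k :=
        Subtype.ext (by simp [hk])
      rw [hw, map_zpow, hφx]
      exact Subgroup.zpow_mem_zpowers z k
    · intro hy
      obtain ⟨k, rfl⟩ := Subgroup.mem_zpowers_iff.mp hy
      exact ⟨(⟨x, Subgroup.mem_zpowers x⟩ : Subgroup.zpowers x) ^ k, by rw [map_zpow, hφx]⟩
  have hconj : F.IsConj (Subgroup.zpowers x) (Subgroup.zpowers z) := ⟨φ, hφ, hr⟩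
  have h1 := card_autGroup_eq_of_isConj F hconj
  rw [card_autGroup_zpowers_central hS F hF hz] at h1
  have h2 : (⟨α, hα⟩ : F.autGroup (Subgroup.zpowers x)) = 1 := by
    have := (Nat.card_eq_one_iff_unique.mp h1).1
    exact Subsingleton.elim _ _
  exact congrArg Subtype.val h2

end Cfsg.Agent.Helper26.CamHerz
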