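import Mathlib
import Cfsg.Agent.Helper26.CamHerz1

set_option autoImplicit false

/-! Camina–Herzog for fusion systems, part 2: involutions commute and generate a central
subgroup normal in the system. -/

namespace Cfsg.Agent.Helper26.CamHerz

open Cfsg Cfsg.FusionSystem Cfsg.Agent.Helper25
open scoped commutatorElement

variable {Ω : Type*} [Group Ω] {S : Subgroup Ω}

/-- Under the hypothesis, any two involutions of `S` commute. -/
theorem commute_of_sq_eq_one [Finite S] (hS : IsPGroup 2 ↥S) (F : FusionSystem S)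
    (hF : F.IsSaturated 2)
    (h : ∀ x ∈ S, ∃ z ∈ S ⊓ Subgroup.centralizer (S : Set Ω), F.IsConjElt x z)
    {s t : Ω} (hs : s ∈ S) (ht : t ∈ S) (hs2 : s * s = 1) (ht2 : t * t = 1) :
    s * t = t * s := by
  have hsinv : s⁻¹ = s := inv_eq_of_mul_eq_one_left hs2
  have htinv : t⁻¹ = t := inv_eq_of_mul_eq_one_left ht2
  obtain ⟨u, hu⟩ : ∃ u, u = s * t := ⟨_, rfl⟩
  have huS : u ∈ S := hu ▸ S.mul_mem hs ht
  have hconj : s * u * s⁻¹ = u⁻¹ := by
    rw [hu, mul_inv_rev, hsinv, htinv, ← mul_assoc, hs2, one_mul]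
  obtain ⟨z, hz, hxz⟩ := h u huS
  have hPS : Subgroup.zpowers u ≤ S := by rw [Subgroup.zpowers_le]; exact huS
  have key : ∀ y ∈ Subgroup.zpowers u, s * y * s⁻¹ ∈ Subgroup.zpowers u := by
    intro y hy
    obtain ⟨k, rfl⟩ := Subgroup.mem_zpowers_iff.mp hy
    rw [← conj_zpow, hconj]
    exact Subgroup.zpow_mem _ (Subgroup.inv_mem _ (Subgroup.mem_zpowers u)) k
  have hsN : s ∈ Subgroup.normalizer ((Subgroup.zpowers u : Subgroup Ω) : Set Ω) := by
    rw [Subgroup.mem_normalizer_iff]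
    intro y
    refine ⟨key y, fun hy => ?_⟩
    have h1 := key _ hy
    have e : s * (s * y * s⁻¹) * s⁻¹ = y := by
      rw [hsinv]
      calc s * (s * y * s) * s = (s * s) * y * (s * s) := by group
        _ = y := by rw [hs2]; simp
    rwa [e] at h1
  have hα : (Subgroup.zpowers u).normalizerMonoidHom ⟨s, hsN⟩ ∈
      F.autGroup (Subgroup.zpowers u) := by
    apply autInducedBy_le_autGroup F hPS
    rw [mem_autInducedBy_iff]
    exact ⟨s, hs, fun x => rfl⟩
  have h1 := autGroup_zpowers_eq_one hS F hF hz hxz _ hα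
  have h2 : s * u * s⁻¹ = u := by
    have := congrArg (fun a : MulAut (Subgroup.zpowers u) =>
      ((a ⟨u, Subgroup.mem_zpowers u⟩ : Subgroup.zpowers u) : Ω)) h1
    exact this
  rw [hconj, hu, mul_inv_rev, hsinv, htinv] at h2
  exact h2.symm

/-- The elements of `S` of order at most two, a subgroup once involutions commute. -/
def invSub (S : Subgroup Ω)
    (hc : ∀ s ∈ S, ∀ t ∈ S, s * s = 1 → t * t = 1 → s * t = t * s) : Subgroup Ω where
  carrier := {x | x ∈ S ∧ x * x = 1}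
  one_mem' := ⟨S.one_mem, one_mul 1⟩
  mul_mem' := by
    rintro a b ⟨ha, ha2⟩ ⟨hb, hb2⟩
    refine ⟨S.mul_mem ha hb, ?_⟩
    have hab := hc a ha b hb ha2 hb2
    calc a * b * (a * b) = a * (b * a) * b := by group
      _ = a * (a * b) * b := by rw [hab]
      _ = (a * a) * (b * b) := by group
      _ = 1 := by rw [ha2, hb2, one_mul]
  inv_mem' := by
    rintro a ⟨ha, ha2⟩
    refine ⟨S.inv_mem ha, ?_⟩
    rw [← mul_inv_rev, ha2, inv_one]

theorem mem_invSub_iff {hc : ∀ s ∈ S, ∀ t ∈ S, s * s = 1 → t * t = 1 → s * t = t * s} {x : Ω} :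
    x ∈ invSub S hc ↔ x ∈ S ∧ x * x = 1 := Iff.rfl

theorem invSub_le (hc : ∀ s ∈ S, ∀ t ∈ S, s * s = 1 → t * t = 1 → s * t = t * s) :
    invSub S hc ≤ S := fun _ hx => hx.1

theorem invSub_stronglyClosed (F : FusionSystem S)
    (hc : ∀ s ∈ S, ∀ t ∈ S, s * s = 1 → t * t = 1 → s * t = t * s) :
    F.StronglyClosed (invSub S hc) := by
  refine ⟨invSub_le hc, fun R hR φ hφ x => ⟨(F.le_of_mem hφ).2 x, ?_⟩⟩
  have h1 : x * x = 1 := Subtype.ext (hR x.2).2
  rw [← map_mul, h1, map_one]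

theorem invSub_commutator_le (hc : ∀ s ∈ S, ∀ t ∈ S, s * s = 1 → t * t = 1 → s * t = t * s) :
    ⁅invSub S hc, invSub S hc⁆ ≤ ⊥ := by
  rw [Subgroup.commutator_le]
  intro a ha b hb
  rw [Subgroup.mem_bot, commutatorElement_def]
  have hab := hc a ha.1 b hb.1 ha.2 hb.2
  rw [hab]
  group

theorem invSub_isNormal [Finite S] (hS : IsPGroup 2 ↥S) (F : FusionSystem S)
    (hF : F.IsSaturated 2)
    (hc : ∀ s ∈ S, ∀ t ∈ S, s * s = 1 → t * t = 1 → s * t = t * s) :
    F.IsNormal (invSub S hc) := by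
  have : Fact (Nat.Prime 2) := ⟨Nat.prime_two⟩
  refine isNormal_of_chain 2 hS F hF (invSub S hc)
    (fun i => if i = 0 then ⊥ else invSub S hc) 1 (by simp) (by simp) ?_ ?_
  · intro i hi
    have : i = 0 := by omega
    subst this
    simp
  · intro i hi
    have : i = 0 := by omega
    subst this
    simp only [zero_add, one_ne_zero, if_false, if_true]
    exact ⟨invSub_stronglyClosed F hc, invSub_commutator_le hc⟩

/-- Under the hypothesis the subgroup of involutions is central in `S`. -/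
theorem invSub_central [Finite S] (hS : IsPGroup 2 ↥S) (F : FusionSystem S)
    (hF : F.IsSaturated 2)
    (h : ∀ x ∈ S, ∃ z ∈ S ⊓ Subgroup.centralizer (S : Set Ω), F.IsConjElt x z)
    (hc : ∀ s ∈ S, ∀ t ∈ S, s * s = 1 → t * t = 1 → s * t = t * s)
    {x v : Ω} (hx : x ∈ S) (hv : v ∈ invSub S hc) : x * v = v * x := by
  obtain ⟨z, hz, hxz⟩ := h x hx
  exact commute_of_isNormal F (invSub_isNormal hS F hF hc) hz hxz hv

/-- A nontrivial `2`-group has an involution. -/
theorem invSub_ne_bot [Finite S] (hS : IsPGroup 2 ↥S)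
    (hc : ∀ s ∈ S, ∀ t ∈ S, s * s = 1 → t * t = 1 → s * t = t * s) (hne : S ≠ ⊥) :
    invSub S hc ≠ ⊥ := by
  have : Fact (Nat.Prime 2) := ⟨Nat.prime_two⟩
  have hnt : Nontrivial S := (Subgroup.nontrivial_iff_ne_bot S).mpr hne
  obtain ⟨k, hk⟩ := IsPGroup.iff_card.mp hS
  have hk0 : k ≠ 0 := by
    rintro rfl
    rw [pow_zero] at hk
    have := (Nat.card_eq_one_iff_unique.mp hk).1
    exact not_subsingleton S this
  have hdvd : 2 ∣ Nat.card S := by
    rw [hk]; exact dvd_pow_self 2 hk0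
  obtain ⟨x, hx⟩ := exists_prime_orderOf_dvd_card' 2 hdvd
  intro hbot
  have hmem : (x : Ω) ∈ invSub S hc := by
    refine ⟨x.2, ?_⟩
    have h1 : x ^ 2 = 1 := by rw [← hx]; exact pow_orderOf_eq_one x
    have h2 : ((x ^ 2 : S) : Ω) = 1 := by rw [h1]; rfl
    rw [← pow_two]
    exact h2
  rw [hbot, Subgroup.mem_bot] at hmem
  have hx1 : x = 1 := Subtype.ext hmem
  rw [hx1, orderOf_one] at hx
  omega

end Cfsg.Agent.Helper26.CamHerz
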