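import Mathlib
import Cfsg.Agent.Helper26.CamHerz2
import Cfsg.Agent.Helper25.FusionFactorSat

set_option autoImplicit false

/-! Camina–Herzog for fusion systems, part 3: passage to factor systems and the induction. -/

namespace Cfsg.Agent.Helper26.CamHerz

open Cfsg Cfsg.FusionSystem Cfsg.Agent.Helper25
open scoped commutatorElement

universe u

/-- The hypothesis "every element is conjugate into the centre" passes to factor systems. -/
theorem hyp_factor {Ω : Type*} [Group Ω] {S : Subgroup Ω} [Finite S] (p : ℕ) [Fact p.Prime]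
    (hS : IsPGroup p S) (F : FusionSystem S)
    (hF : F.IsSaturated p) {T : Subgroup Ω} (hT : F.StronglyClosed T) {Ω' : Type*} [Group Ω']
    {S' : Subgroup Ω'} (θ : S →* Ω') (E : FusionSystem S') (hE : F.IsFactorSystem T θ E)
    (h : ∀ x ∈ S, ∃ z ∈ S ⊓ Subgroup.centralizer (S : Set Ω), F.IsConjElt x z) :
    ∀ x' ∈ S', ∃ z' ∈ S' ⊓ Subgroup.centralizer (S' : Set Ω'), E.IsConjElt x' z' := by
  have hmor := (isSurjectiveMorphism_of_isFactorSystem p hS F hF hT θ E hE).1
  obtain ⟨hTS, hker, hrange, hiff⟩ := hE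
  intro x' hx'
  rw [← hrange] at hx'
  obtain ⟨xs, rfl⟩ := hx'
  obtain ⟨z, hz, φ, hφ, hφx⟩ := h xs xs.2
  have hz1 : z ∈ S := (Subgroup.mem_inf.mp hz).1
  have hz2 : z ∈ Subgroup.centralizer (S : Set Ω) := (Subgroup.mem_inf.mp hz).2
  have hcen : θ ⟨z, hz1⟩ ∈ Subgroup.centralizer (S' : Set Ω') := by
    rw [Subgroup.mem_centralizer_iff]
    intro g' hg'
    rw [SetLike.mem_coe, ← hrange] at hg'
    obtain ⟨g, rfl⟩ := hg'
    rw [← map_mul, ← map_mul]
    congr 1
    apply Subtype.ext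
    exact Subgroup.mem_centralizer_iff.mp hz2 g g.2
  have hzS' : θ ⟨z, hz1⟩ ∈ S' := by rw [← hrange]; exact ⟨_, rfl⟩
  refine ⟨θ ⟨z, hz1⟩, Subgroup.mem_inf.mpr ⟨hzS', hcen⟩, ?_⟩
  · obtain ⟨φ', hφ', hPS, hφS, hP', hind⟩ := hmor.2 _ φ hφ
    have he : Subgroup.zpowers (θ xs) = imageAlong θ (Subgroup.zpowers (xs : Ω)) := by
      ext y
      constructor
      · intro hy
        obtain ⟨k, rfl⟩ := Subgroup.mem_zpowers_iff.mp hy
        refine ⟨xs ^ k, ?_, map_zpow θ xs k⟩
        show ((xs ^ k : S) : Ω) ∈ Subgroup.zpowers (xs : Ω)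
        rw [Subgroup.coe_zpow]
        exact Subgroup.zpow_mem_zpowers _ k
      · rintro ⟨w, hw, rfl⟩
        have hw' : (w : Ω) ∈ Subgroup.zpowers (xs : Ω) := hw
        obtain ⟨k, hk⟩ := Subgroup.mem_zpowers_iff.mp hw'
        have : w = xs ^ k := Subtype.ext (by rw [Subgroup.coe_zpow, hk])
        rw [this, map_zpow]
        exact Subgroup.zpow_mem_zpowers _ k
    refine ⟨φ'.comp (Subgroup.inclusion he.le), cast_mem E he hφ', ?_⟩
    have h1 := hind ⟨xs, Subgroup.mem_zpowers _⟩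
    have h2 : (φ'.comp (Subgroup.inclusion he.le)) ⟨θ xs, Subgroup.mem_zpowers _⟩ =
        φ' ⟨θ ⟨((⟨xs, Subgroup.mem_zpowers _⟩ : Subgroup.zpowers (xs : Ω)) : Ω),
          hPS (Subgroup.mem_zpowers _)⟩, hP' ⟨xs, Subgroup.mem_zpowers _⟩⟩ := rfl
    rw [h2, h1]
    congr 1
    exact Subtype.ext hφx

/-- Camina–Herzog for saturated fusion systems on `2`-groups, elementwise form. -/
theorem comm_of_conj_center : ∀ (n : ℕ) {Ω : Type u} [Group Ω] (S : Subgroup Ω) [Finite S],
    Nat.card S = n → IsPGroup 2 ↥S → ∀ F : FusionSystem S, F.IsSaturated 2 →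
    (∀ x ∈ S, ∃ z ∈ S ⊓ Subgroup.centralizer (S : Set Ω), F.IsConjElt x z) →
    ∀ a ∈ S, ∀ b ∈ S, a * b = b * a := by
  intro n
  induction n using Nat.strong_induction_on with
  | _ n ih =>
    intro Ω _ S _ hn hS F hF h a ha b hb
    have : Fact (Nat.Prime 2) := ⟨Nat.prime_two⟩
    by_cases hne : S = ⊥
    · rw [hne, Subgroup.mem_bot] at ha hb
      rw [ha, hb]
    have hc : ∀ s ∈ S, ∀ t ∈ S, s * s = 1 → t * t = 1 → s * t = t * s :=
      fun s hs t ht hs2 ht2 => commute_of_sq_eq_one hS F hF h hs ht hs2 ht2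
    obtain ⟨N, hN⟩ : ∃ N, N = invSub S hc := ⟨_, rfl⟩
    have hNS : N ≤ S := hN ▸ invSub_le hc
    have hNsc : F.StronglyClosed N := hN ▸ invSub_stronglyClosed F hc
    have hNcen : ∀ x ∈ S, ∀ v ∈ N, x * v = v * x := by
      intro x hx v hv
      rw [hN] at hv
      exact invSub_central hS F hF h hc hx hv
    have hNne : N ≠ ⊥ := hN ▸ invSub_ne_bot hS hc hne
    have hnorm : (N.subgroupOf S).Normal := by
      refine ⟨fun v hv g => ?_⟩
      rw [Subgroup.mem_subgroupOf] at hv ⊢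
      have h1 := hNcen g g.2 v hv
      have e : ((g * v * g⁻¹ : S) : Ω) = v := by
        show (g : Ω) * v * (g : Ω)⁻¹ = v
        rw [h1]; simp
      rw [e]; exact hv
    obtain ⟨θ, hθ⟩ : ∃ θ, θ = QuotientGroup.mk' (N.subgroupOf S) := ⟨_, rfl⟩
    have hker : ∀ s : S, θ s = 1 ↔ (s : Ω) ∈ N := by
      intro s
      rw [hθ, QuotientGroup.mk'_apply, QuotientGroup.eq_one_iff]
      exact Subgroup.mem_subgroupOf
    have hrange : θ.range = ⊤ := by
      rw [hθ]
      exact MonoidHom.range_eq_top.mpr (QuotientGroup.mk'_surjective _)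
    obtain ⟨E, hE⟩ : ∃ E, E = factorSystem F hNsc θ hker hrange := ⟨_, rfl⟩
    have hEf : F.IsFactorSystem N θ E := hE ▸ factorSystem_isFactorSystem F hNsc θ hker hrange
    have hEsat : E.IsSaturated 2 := factor_isSaturated F hNsc θ hker hrange E hEf.2.2.2 2 hS hF
    have hQp : IsPGroup 2 (↥S ⧸ N.subgroupOf S) := hS.to_quotient _
    have hTp : IsPGroup 2 ↥(⊤ : Subgroup (↥S ⧸ N.subgroupOf S)) := hQp.to_subgroup _
    have hcard : Nat.card ↥(⊤ : Subgroup (↥S ⧸ N.subgroupOf S)) < n := by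
      rw [Subgroup.card_top, ← hn, Subgroup.card_eq_card_quotient_mul_card_subgroup (N.subgroupOf S)]
      have h1 : 1 < Nat.card (N.subgroupOf S) := by
        rw [Subgroup.one_lt_card_iff_ne_bot]
        intro hbot
        apply hNne
        rw [eq_bot_iff]
        intro v hv
        have : (⟨v, hNS hv⟩ : S) ∈ N.subgroupOf S := Subgroup.mem_subgroupOf.mpr hv
        rw [hbot, Subgroup.mem_bot] at this
        rw [Subgroup.mem_bot]
        exact congrArg Subtype.val this
      have h2 : 0 < Nat.card (↥S ⧸ N.subgroupOf S) := Nat.card_pos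
      nlinarith
    have hyp' := hyp_factor 2 hS F hF hNsc θ E hEf h
    have hcomm := ih _ hcard (⊤ : Subgroup (↥S ⧸ N.subgroupOf S)) rfl hTp E hEsat hyp'
    have hSS : ⁅S, S⁆ ≤ N := by
      rw [Subgroup.commutator_le]
      intro x hx y hy
      have h1 := hcomm (θ ⟨x, hx⟩) (Subgroup.mem_top _) (θ ⟨y, hy⟩) (Subgroup.mem_top _)
      have h2 : θ (⟨x, hx⟩ * ⟨y, hy⟩ * ⟨x, hx⟩⁻¹ * ⟨y, hy⟩⁻¹) = 1 := by
        rw [map_mul, map_mul, map_mul, map_inv, map_inv, h1]
        group
      exact (hker _).mp h2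
    have hSN : ⁅S, N⁆ ≤ ⊥ := by
      rw [Subgroup.commutator_le]
      intro x hx v hv
      rw [Subgroup.mem_bot, commutatorElement_def, hNcen x hx v hv]
      group
    have hSnormal : F.IsNormal S := by
      refine isNormal_of_chain 2 hS F hF S
        (fun i => if i = 0 then ⊥ else if i = 1 then N else S) 2 (by simp) (by simp) ?_ ?_
      · intro i hi
        have hi' : i = 0 ∨ i = 1 := by omega
        rcases hi' with rfl | rfl
        · simp
        · simpa using hNS
      · intro i hi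
        have hi' : i = 0 ∨ i = 1 := by omega
        rcases hi' with rfl | rfl
        · simp only [zero_add, one_ne_zero, if_false, if_true]
          exact ⟨hNsc, hSN⟩
        · simp only [Nat.reduceAdd, OfNat.ofNat_ne_zero, OfNat.ofNat_ne_one, one_ne_zero, if_false,
            if_true]
          exact ⟨⟨le_rfl, fun R _ φ hφ x => (F.le_of_mem hφ).2 x⟩, hSS⟩
    obtain ⟨z, hz, hxz⟩ := h a ha
    exact commute_of_isNormal F hSnormal hz hxz hb

end Cfsg.Agent.Helper26.CamHerz
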