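import Mathlib
import Cfsg.Agent.Helper16.H4Defs

/-!
# S4221, piece TUP2: counting the 4-tuples on which a mixed commuting pair of involutions
acts with the patterns `(πA, πA')` resp. `(πB, πC)`.
-/

namespace Cfsg.Agent.Helper26.H4

open MulAction Cfsg.Agent.Helper16.H4

variable {G : Type*} [Group G] [Finite G] {Ω : Type*} [Finite Ω] [MulAction G Ω]

set_option linter.unusedSectionVars false

omit [Finite G] in
lemma tup2_pat_iff (π : Equiv.Perm (Fin 4)) (t : G) (y : Fin 4 ↪ Ω) :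
    Pat π t y ↔ t • y 0 = y (π 0) ∧ t • y 1 = y (π 1) ∧ t • y 2 = y (π 2) ∧ t • y 3 = y (π 3) := by
  constructor
  · intro h
    exact ⟨h 0, h 1, h 2, h 3⟩
  · rintro ⟨h0, h1, h2, h3⟩ i
    fin_cases i
    exacts [h0, h1, h2, h3]

omit [Finite G] in
lemma tup2_patA_iff (t : G) (y : Fin 4 ↪ Ω) :
    Pat πA t y ↔ t • y 0 = y 0 ∧ t • y 1 = y 1 ∧ t • y 2 = y 3 ∧ t • y 3 = y 2 := by
  rw [tup2_pat_iff]
  have e0 : πA 0 = 0 := by decide
  have e1 : πA 1 = 1 := by decide
  have e2 : πA 2 = 3 := by decide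
  have e3 : πA 3 = 2 := by decide
  rw [e0, e1, e2, e3]

omit [Finite G] in
lemma tup2_patA'_iff (t : G) (y : Fin 4 ↪ Ω) :
    Pat πA' t y ↔ t • y 0 = y 1 ∧ t • y 1 = y 0 ∧ t • y 2 = y 2 ∧ t • y 3 = y 3 := by
  rw [tup2_pat_iff]
  have e0 : πA' 0 = 1 := by decide
  have e1 : πA' 1 = 0 := by decide
  have e2 : πA' 2 = 2 := by decide
  have e3 : πA' 3 = 3 := by decide
  rw [e0, e1, e2, e3]

omit [Finite G] in
lemma tup2_patB_iff (t : G) (y : Fin 4 ↪ Ω) :
    Pat πB t y ↔ t • y 0 = y 1 ∧ t • y 1 = y 0 ∧ t • y 2 = y 3 ∧ t • y 3 = y 2 := by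
  rw [tup2_pat_iff]
  have e0 : πB 0 = 1 := by decide
  have e1 : πB 1 = 0 := by decide
  have e2 : πB 2 = 3 := by decide
  have e3 : πB 3 = 2 := by decide
  rw [e0, e1, e2, e3]

omit [Finite G] in
lemma tup2_patC_iff (t : G) (y : Fin 4 ↪ Ω) :
    Pat πC t y ↔ t • y 0 = y 2 ∧ t • y 1 = y 3 ∧ t • y 2 = y 0 ∧ t • y 3 = y 1 := by
  rw [tup2_pat_iff]
  have e0 : πC 0 = 2 := by decide
  have e1 : πC 1 = 3 := by decide
  have e2 : πC 2 = 0 := by decide
  have e3 : πC 3 = 1 := by decide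
  rw [e0, e1, e2, e3]

/-- the 4-tuple `(a,b,c,d)` of pairwise distinct points. -/
def tup2_mk (a b c d : Ω) (hab : a ≠ b) (hac : a ≠ c) (had : a ≠ d) (hbc : b ≠ c)
    (hbd : b ≠ d) (hcd : c ≠ d) : Fin 4 ↪ Ω :=
  ⟨![a, b, c, d], by
    intro i j h
    fin_cases i <;> fin_cases j <;> simp_all⟩

@[simp] lemma tup2_mk_0 (a b c d : Ω) (hab : a ≠ b) (hac : a ≠ c) (had : a ≠ d) (hbc : b ≠ c)
    (hbd : b ≠ d) (hcd : c ≠ d) : tup2_mk a b c d hab hac had hbc hbd hcd 0 = a := rfl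
@[simp] lemma tup2_mk_1 (a b c d : Ω) (hab : a ≠ b) (hac : a ≠ c) (had : a ≠ d) (hbc : b ≠ c)
    (hbd : b ≠ d) (hcd : c ≠ d) : tup2_mk a b c d hab hac had hbc hbd hcd 1 = b := rfl
@[simp] lemma tup2_mk_2 (a b c d : Ω) (hab : a ≠ b) (hac : a ≠ c) (had : a ≠ d) (hbc : b ≠ c)
    (hbd : b ≠ d) (hcd : c ≠ d) : tup2_mk a b c d hab hac had hbc hbd hcd 2 = c := rfl
@[simp] lemma tup2_mk_3 (a b c d : Ω) (hab : a ≠ b) (hac : a ≠ c) (had : a ≠ d) (hbc : b ≠ c)
    (hbd : b ≠ d) (hcd : c ≠ d) : tup2_mk a b c d hab hac had hbc hbd hcd 3 = d := rfl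

lemma tup2_ext {y y' : Fin 4 ↪ Ω} (h0 : y 0 = y' 0) (h1 : y 1 = y' 1) (h2 : y 2 = y' 2)
    (h3 : y 3 = y' 3) : y = y' := by
  ext i
  fin_cases i
  exacts [h0, h1, h2, h3]

lemma tup2_card_split (P Q : Ω → Prop) :
    Nat.card {ω : Ω // P ω}
      = Nat.card {ω : Ω // P ω ∧ Q ω} + Nat.card {ω : Ω // P ω ∧ ¬ Q ω} := by
  classical
  have := Fintype.ofFinite Ω
  simp only [Nat.card_eq_fintype_card, Fintype.card_subtype]
  rw [← Finset.filter_filter, ← Finset.filter_filter, Finset.card_filter_add_card_filter_not]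

lemma tup2_card_split' (Q : Ω → Prop) :
    Nat.card Ω = Nat.card {ω : Ω // Q ω} + Nat.card {ω : Ω // ¬ Q ω} := by
  classical
  have := Fintype.ofFinite Ω
  simp only [Nat.card_eq_fintype_card, Fintype.card_subtype]
  rw [Finset.card_filter_add_card_filter_not, Finset.card_univ]

/-- a nonempty finset with at most 3 points carrying a fixed-point-free involution has 2 points. -/
lemma tup2_finset_card_eq_two [DecidableEq Ω] (E : Finset Ω) (τ : Ω → Ω)
    (hτ : ∀ ω ∈ E, τ ω ∈ E) (hττ : ∀ ω ∈ E, τ (τ ω) = ω) (hfp : ∀ ω ∈ E, τ ω ≠ ω)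
    (hne : E.Nonempty) (h3 : E.card ≤ 3) : E.card = 2 := by
  obtain ⟨ω, hω⟩ := hne
  by_cases hE : E ⊆ {ω, τ ω}
  · have : E = {ω, τ ω} := by
      apply Finset.Subset.antisymm hE
      intro x hx
      simp only [Finset.mem_insert, Finset.mem_singleton] at hx
      rcases hx with rfl | rfl
      · exact hω
      · exact hτ _ hω
    rw [this, Finset.card_pair (hfp ω hω).symm]
  · exfalso
    rw [Finset.not_subset] at hE
    obtain ⟨x, hx, hx'⟩ := hE
    simp only [Finset.mem_insert, Finset.mem_singleton, not_or] at hx'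
    have h4 : ({ω, τ ω, x, τ x} : Finset Ω) ⊆ E := by
      intro z hz
      simp only [Finset.mem_insert, Finset.mem_singleton] at hz
      rcases hz with rfl | rfl | rfl | rfl
      · exact hω
      · exact hτ _ hω
      · exact hx
      · exact hτ _ hx
    have hc := Finset.card_le_card h4
    have h1 : τ x ≠ ω := by
      intro h
      apply hx'.2
      rw [← h, hττ x hx]
    have h2 : τ x ≠ τ ω := by
      intro h
      apply hx'.1
      rw [← hττ x hx, h, hττ ω hω]
    rw [Finset.card_insert_of_notMem, Finset.card_insert_of_notMem, Finset.card_pair] at hc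
    · omega
    · exact (hfp x hx).symm
    · simp only [Finset.mem_insert, Finset.mem_singleton, not_or]
      exact ⟨fun h => hx'.2 h.symm, fun h => h2 h.symm⟩
    · simp only [Finset.mem_insert, Finset.mem_singleton, not_or]
      exact ⟨(hfp ω hω).symm, fun h => hx'.1 h.symm, fun h => h1 h.symm⟩

/-- a nonempty set with at most 3 points carrying a fixed-point-free involution has 2 points. -/
lemma tup2_card_eq_two (P : Ω → Prop) (τ : Ω → Ω) (hτ : ∀ ω, P ω → P (τ ω))
    (hττ : ∀ ω, P ω → τ (τ ω) = ω) (hfp : ∀ ω, P ω → τ ω ≠ ω) (hne : ∃ ω, P ω)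
    (h3 : Nat.card {ω : Ω // P ω} ≤ 3) : Nat.card {ω : Ω // P ω} = 2 := by
  classical
  have := Fintype.ofFinite Ω
  have key : Nat.card {ω : Ω // P ω} = (Finset.univ.filter P).card := by
    rw [Nat.card_eq_fintype_card, Fintype.card_subtype]
  rw [key] at h3 ⊢
  obtain ⟨ω, hω⟩ := hne
  apply tup2_finset_card_eq_two _ τ _ _ _ ⟨ω, by simpa using hω⟩ h3
  · intro x hx
    simp only [Finset.mem_filter, Finset.mem_univ, true_and] at hx ⊢
    exact hτ x hx
  · intro x hx
    simp only [Finset.mem_filter, Finset.mem_univ, true_and] at hx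
    exact hττ x hx
  · intro x hx
    simp only [Finset.mem_filter, Finset.mem_univ, true_and] at hx
    exact hfp x hx

theorem card_pairPat_of_mixed (p : G × G) (h1 : p.1 * p.1 = 1) (h2 : p.2 * p.2 = 1)
    (hc : p.1 * p.2 = p.2 * p.1) (hm : Mixed Ω p) (f : ℕ) (hf : f ≤ 3)
    (hf1 : fixN Ω p.1 = f) (hf2 : fixN Ω p.2 = f) (hf3 : fixN Ω (p.1 * p.2) = f) :
    Nat.card {y : Fin 4 ↪ Ω // Pat πA p.1 y ∧ Pat πA' p.2 y} = 4 ∧
    Nat.card {y : Fin 4 ↪ Ω // Pat πB p.1 y ∧ Pat πC p.2 y} = Nat.card Ω - f - 4 := by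
  obtain ⟨s, t⟩ := p
  simp only at h1 h2 hc hf1 hf2 hf3 ⊢
  -- basic identities
  have ss : ∀ ω : Ω, s • s • ω = ω := fun ω => by rw [← mul_smul, h1, one_smul]
  have tt : ∀ ω : Ω, t • t • ω = ω := fun ω => by rw [← mul_smul, h2, one_smul]
  have st : ∀ ω : Ω, s • t • ω = t • s • ω := fun ω => by rw [← mul_smul, hc, mul_smul]
  obtain ⟨ω₀, hω₀s, hω₀t⟩ := hm
  simp only at hω₀s hω₀t
  unfold fixN at hf1 hf2 hf3
  -- E_s has two points
  have hEs3 : Nat.card {ω : Ω // s • ω = ω ∧ ¬ t • ω = ω} ≤ 3 := by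
    have := tup2_card_split (fun ω : Ω => s • ω = ω) (fun ω => t • ω = ω)
    omega
  have hEs : Nat.card {ω : Ω // s • ω = ω ∧ ¬ t • ω = ω} = 2 := by
    apply tup2_card_eq_two _ (fun ω => t • ω) _ _ _ ⟨ω₀, hω₀s, hω₀t⟩ hEs3
    · rintro ω ⟨h, h'⟩
      refine ⟨by rw [st, h], fun h'' => h' ?_⟩
      rw [tt] at h''
      exact h''.symm
    · intro ω _
      exact tt ω
    · rintro ω ⟨_, h'⟩
      exact h'
  have hV : Nat.card {ω : Ω // s • ω = ω ∧ t • ω = ω} + 2 = f := by
    have := tup2_card_split (fun ω : Ω => s • ω = ω) (fun ω => t • ω = ω)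
    omega
  have hEt : Nat.card {ω : Ω // t • ω = ω ∧ ¬ s • ω = ω} = 2 := by
    have := tup2_card_split (fun ω : Ω => t • ω = ω) (fun ω => s • ω = ω)
    have e : Nat.card {ω : Ω // t • ω = ω ∧ s • ω = ω}
        = Nat.card {ω : Ω // s • ω = ω ∧ t • ω = ω} :=
      Nat.card_congr (Equiv.subtypeEquivRight fun ω => and_comm)
    omega
  have hEst : Nat.card {ω : Ω // (s * t) • ω = ω ∧ ¬ s • ω = ω} = 2 := by
    have := tup2_card_split (fun ω : Ω => (s * t) • ω = ω) (fun ω => s • ω = ω)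
    have e : Nat.card {ω : Ω // (s * t) • ω = ω ∧ s • ω = ω}
        = Nat.card {ω : Ω // s • ω = ω ∧ t • ω = ω} := by
      apply Nat.card_congr (Equiv.subtypeEquivRight fun ω => ?_)
      constructor
      · rintro ⟨h, h'⟩
        refine ⟨h', ?_⟩
        rw [mul_smul] at h
        have : s • t • ω = s • ω := by rw [h, h']
        exact smul_left_cancel s this
      · rintro ⟨h, h'⟩
        exact ⟨by rw [mul_smul, h', h], h⟩
    omega
  constructor
  · -- the N-pattern
    have e : {y : Fin 4 ↪ Ω // Pat πA s y ∧ Pat πA' t y}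
        ≃ {ω : Ω // s • ω = ω ∧ ¬ t • ω = ω} × {ω : Ω // t • ω = ω ∧ ¬ s • ω = ω} := by
      refine Equiv.ofBijective (fun y => (⟨y.1 0, ?_, ?_⟩, ⟨y.1 2, ?_, ?_⟩)) ⟨?_, ?_⟩
      · exact ((tup2_patA_iff _ _).1 y.2.1).1
      · rw [((tup2_patA'_iff _ _).1 y.2.2).1]
        intro h
        have := y.1.injective h
        exact absurd this (by decide)
      · exact ((tup2_patA'_iff _ _).1 y.2.2).2.2.1
      · rw [((tup2_patA_iff _ _).1 y.2.1).2.2.1]
        intro h
        have := y.1.injective h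
        exact absurd this (by decide)
      · rintro ⟨y, hy, hy'⟩ ⟨z, hz, hz'⟩ h
        simp only [Prod.mk.injEq, Subtype.mk.injEq] at h
        rw [tup2_patA_iff] at hy hz
        rw [tup2_patA'_iff] at hy' hz'
        apply Subtype.ext
        apply tup2_ext h.1
        · rw [← hy'.1, ← hz'.1, h.1]
        · exact h.2
        · rw [← hy.2.2.1, ← hz.2.2.1, h.2]
      · rintro ⟨⟨a, ha, ha'⟩, ⟨c, hc1, hc'⟩⟩
        have hta : s • t • a = t • a := by rw [st, ha]
        have hsc : t • s • c = s • c := by rw [← st, hc1]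
        have hsc' : ¬ s • s • c = s • c := by
          rw [ss]; exact fun h => hc' h.symm
        refine ⟨⟨tup2_mk a (t • a) c (s • c) (fun h => ha' h.symm) ?_ ?_ ?_ ?_
          (fun h => hc' h.symm), ?_, ?_⟩, ?_⟩
        · rintro rfl; exact hc' ha
        · intro h; rw [h] at ha; exact hsc' ha
        · intro h; rw [h] at hta; exact hc' hta
        · intro h; rw [h] at hta; exact hsc' hta
        · rw [tup2_patA_iff]
          simp only [tup2_mk_0, tup2_mk_1, tup2_mk_2, tup2_mk_3]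
          exact ⟨ha, hta, trivial, ss c⟩
        · rw [tup2_patA'_iff]
          simp only [tup2_mk_0, tup2_mk_1, tup2_mk_2, tup2_mk_3]
          exact ⟨trivial, tt a, hc1, hsc⟩
        · rfl
    rw [Nat.card_congr e, Nat.card_prod, hEs, hEt]
  · -- the R-pattern
    have e : {y : Fin 4 ↪ Ω // Pat πB s y ∧ Pat πC t y}
        ≃ {ω : Ω // (¬ s • ω = ω ∧ ¬ t • ω = ω) ∧ ¬ (s * t) • ω = ω} := by
      refine Equiv.ofBijective (fun y => ⟨y.1 0, ⟨?_, ?_⟩, ?_⟩) ⟨?_, ?_⟩
      · rw [((tup2_patB_iff _ _).1 y.2.1).1]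
        intro h
        have := y.1.injective h
        exact absurd this (by decide)
      · rw [((tup2_patC_iff _ _).1 y.2.2).1]
        intro h
        have := y.1.injective h
        exact absurd this (by decide)
      · rw [mul_smul, ((tup2_patC_iff _ _).1 y.2.2).1, ((tup2_patB_iff _ _).1 y.2.1).2.2.1]
        intro h
        have := y.1.injective h
        exact absurd this (by decide)
      · rintro ⟨y, hy, hy'⟩ ⟨z, hz, hz'⟩ h
        simp only [Subtype.mk.injEq] at h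
        rw [tup2_patB_iff] at hy hz
        rw [tup2_patC_iff] at hy' hz'
        apply Subtype.ext
        have e2 : y 2 = z 2 := by rw [← hy'.1, ← hz'.1, h]
        apply tup2_ext h
        · rw [← hy.1, ← hz.1, h]
        · exact e2
        · rw [← hy.2.2.1, ← hz.2.2.1, e2]
      · rintro ⟨x, ⟨hx1, hx2⟩, hx3⟩
        rw [mul_smul] at hx3
        refine ⟨⟨tup2_mk x (s • x) (t • x) (s • t • x) (fun h => hx1 h.symm)
          (fun h => hx2 h.symm) (fun h => hx3 h.symm) ?_ ?_ ?_, ?_, ?_⟩, ?_⟩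
        · intro h
          apply hx3
          rw [← h, ss]
        · intro h
          exact hx2 (smul_left_cancel s h).symm
        · intro h
          rw [st] at h
          exact hx1 (smul_left_cancel t h).symm
        · rw [tup2_patB_iff]
          simp only [tup2_mk_0, tup2_mk_1, tup2_mk_2, tup2_mk_3]
          exact ⟨trivial, ss x, trivial, ss _⟩
        · rw [tup2_patC_iff]
          simp only [tup2_mk_0, tup2_mk_1, tup2_mk_2, tup2_mk_3]
          refine ⟨trivial, (st x).symm, tt x, ?_⟩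
          rw [← st, tt]
        · rfl
    rw [Nat.card_congr e]
    have a1 := tup2_card_split' (fun ω : Ω => s • ω = ω)
    have a2 := tup2_card_split (fun ω : Ω => ¬ s • ω = ω) (fun ω => t • ω = ω)
    have a3 := tup2_card_split (fun ω : Ω => ¬ s • ω = ω ∧ ¬ t • ω = ω)
      (fun ω => (s * t) • ω = ω)
    have e1 : Nat.card {ω : Ω // ¬ s • ω = ω ∧ t • ω = ω}
        = Nat.card {ω : Ω // t • ω = ω ∧ ¬ s • ω = ω} :=
      Nat.card_congr (Equiv.subtypeEquivRight fun ω => and_comm)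
    have e2 : Nat.card {ω : Ω // (¬ s • ω = ω ∧ ¬ t • ω = ω) ∧ (s * t) • ω = ω}
        = Nat.card {ω : Ω // (s * t) • ω = ω ∧ ¬ s • ω = ω} := by
      apply Nat.card_congr (Equiv.subtypeEquivRight fun ω => ?_)
      constructor
      · rintro ⟨⟨h, _⟩, h'⟩
        exact ⟨h', h⟩
      · rintro ⟨h, h'⟩
        refine ⟨⟨h', fun h'' => h' ?_⟩, h⟩
        rw [mul_smul, h''] at h
        exact h
    omega

end Cfsg.Agent.Helper26.H4
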