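import Mathlib
import Cfsg.Agent.Helper16.PRBasic

set_option autoImplicit false

/-! S5140 piece RECEPT: an `F`-centric subgroup is receptive in `EE F p`. -/

namespace Cfsg.Agent.Helper16.PR

open Cfsg Cfsg.FusionSystem Cfsg.Agent.Helper25 Cfsg.Agent.Helper26

variable {Ω : Type*} [Group Ω] {S : Subgroup Ω}

variable [Finite S]

/-- RECEPT -/
theorem receptive_EE (p : ℕ) [Fact p.Prime] (hS : IsPGroup p S) (F : FusionSystem S)
    (hF : F.IsSaturated p) {Q : Subgroup Ω} (hQ : F.IsCentric Q) : (EE F p).IsReceptive Q := by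
  refine ⟨hQ.1, ?_⟩
  intro R ψ hψ hr
  have hψF : ψ ∈ F.Hom R := EE_le F p R hψ
  obtain ⟨ψ', hψ', hext⟩ := (isReceptive_of_isCentric p hS F hF hQ).2 R ψ hψF hr
  obtain ⟨β, hβ, ψ₀, hψ₀, hfr⟩ := frattini_E0 p hS F hF hψ'
  obtain ⟨hRS, γ, hγ, ε, hε, hdec⟩ := (mem_EE F p).mp hψ
  have hψS : ∀ x, ψ x ∈ S := (F.le_of_mem hψF).2
  have hRN : R ≤ extender S R ψ := le_extender hRS ψ hψS
  have hψ₀S : ∀ x, ψ₀ x ∈ S := ((E0 F p).le_of_mem hψ₀).2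
  have hεS : ∀ x, ε x ∈ S := ((E0 F p).le_of_mem hε).2
  have hρ : ψ₀.comp (Subgroup.inclusion hRN) ∈ (E0 F p).Hom R := restrict_mem (E0 F p) hRN hψ₀
  obtain ⟨A, hA⟩ : ∃ A, A = (ψ₀.comp (Subgroup.inclusion hRN)).range := ⟨_, rfl⟩
  have hAS : A ≤ S := by
    rw [hA]
    rintro _ ⟨x, rfl⟩
    exact hψ₀S _
  have hRc : F.IsCentric R := isCentric_of_isConj F hQ (isConj_symm F ⟨ψ, hψF, hr⟩)
  have hAc : F.IsCentric A := isCentric_of_isConj F hRc ⟨_, E0_le F p R hρ, hA.symm⟩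
  -- the key relation
  have hkey : ∀ r : R, γ⁻¹ (β ⟨ψ₀ (Subgroup.inclusion hRN r), hψ₀S _⟩) = ⟨ε r, hεS r⟩ := by
    intro r
    have h1 : β ⟨ψ₀ (Subgroup.inclusion hRN r), hψ₀S _⟩ = γ ⟨ε r, hεS r⟩ := by
      apply Subtype.ext
      rw [← hdec r (hεS r), ← hfr (Subgroup.inclusion hRN r) (hψ₀S _)]
      exact hext (r : Ω) r.2 (hRN r.2)
    rw [h1, MulAut.inv_apply_self]
  have hgen : γ⁻¹ * β ∈ aut0Gen F p := by
    refine ⟨mul_mem (inv_mem (aut0_le F p hγ)) hβ, A, hAS, hAc, ?_⟩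
    have hinv := isoOfHom_symm_mem (E0 F p) hρ hA.symm
    refine comp_mem' (E0 F p) hinv hε (fun x => ?_) (fun x => ?_)
    · exact ((isoOfHom _ ((E0 F p).injective_of_mem hρ) hA.symm).symm x).2
    · obtain ⟨r, hrdef⟩ : ∃ r, r = (isoOfHom _ ((E0 F p).injective_of_mem hρ) hA.symm).symm x :=
        ⟨_, rfl⟩
      have hx : (x : Ω) = ψ₀ (Subgroup.inclusion hRN r) := by
        have h1 := isoOfHom_coe _ ((E0 F p).injective_of_mem hρ) hA.symm r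
        rw [hrdef, MulEquiv.apply_symm_apply] at h1
        rw [h1, ← hrdef]
        rfl
      have hxS : (⟨(x : Ω), hAS x.2⟩ : S) = ⟨ψ₀ (Subgroup.inclusion hRN r), hψ₀S _⟩ :=
        Subtype.ext hx
      show (((γ⁻¹ * β) ⟨(x : Ω), hAS x.2⟩ : S) : Ω) =
        ε ((isoOfHom _ ((E0 F p).injective_of_mem hρ) hA.symm).symm x)
      rw [← hrdef, hxS, MulAut.mul_apply, hkey r]
  have hβ0 : β ∈ aut0 F p := by
    have e : β = γ * (γ⁻¹ * β) := by group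
    rw [e]
    exact mul_mem hγ (Subgroup.subset_closure hgen)
  exact ⟨ψ', (mem_EE F p).mpr ⟨(F.le_of_mem hψ').1, β, hβ0, ψ₀, hψ₀, hfr⟩, hext⟩

end Cfsg.Agent.Helper16.PR
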