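import Mathlib
import Cfsg.Agent.Helper16.PRBasic

set_option autoImplicit false

/-! S5140 piece HGEN: `EE F p` is generated by its maps on `F`-centric subgroups. -/

namespace Cfsg.Agent.Helper16.PR

open Cfsg Cfsg.FusionSystem Cfsg.Agent.Helper25 Cfsg.Agent.Helper26

variable {Ω : Type*} [Group Ω] {S : Subgroup Ω}

variable [Finite S]

/-- HGEN -/
theorem hgen_EE (F : FusionSystem S) (p : ℕ) (D : FusionSystem S)
    (h : ∀ P : Subgroup Ω, F.IsCentric P → (EE F p).Hom P ⊆ D.Hom P) : EE F p ≤ D := by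
  have hmem : infSystem {X | X = D ∨ X = F} F (Or.inr rfl) ∈ genFam F p := by
    refine ⟨infSystem_le _ (Or.inr rfl), ?_⟩
    intro P hP γ hγ
    rw [mem_autGroup_iff _ hP.1]
    intro X hX
    rcases hX with hX | hX
    · rw [hX]
      apply h P hP
      apply E0_le_EE F p P
      exact (mem_autGroup_iff _ hP.1 γ).mp (hasGen_E0 F p P hP hγ)
    · rw [hX]
      exact (mem_autGroup_iff _ hP.1 γ).mp (pGenAut_le_autGroup F p P hγ)
  have h0 : E0 F p ≤ D := fun P φ hφ =>
    infSystem_le _ (Or.inl rfl) P (E0_le_of_mem F p hmem P hφ)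
  refine EE_le_of F p D h0 ?_
  intro γ hγ
  rw [mem_autGroup_iff _ le_rfl]
  apply h S (isCentric_top F)
  exact (mem_autGroup_iff _ le_rfl γ).mp (aut0_le_autGroup_EE F p hγ)

end Cfsg.Agent.Helper16.PR
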