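import Mathlib
import Cfsg.Agent.Helper2.S2094.DefsR
import Cfsg.Agent.Helper25.S2096WXID
import Cfsg.Agent.Helper5.S2096TXID
import Cfsg.Agent.Helper26.S2094WCONJWB
import Cfsg.Agent.Helper27.S2094CONJSS2
import Cfsg.Agent.Helper27.S2094WYID

set_option autoImplicit false
set_option linter.unusedSectionVars false
set_option linter.unusedVariables false

/-! S2094 chapter Z, piece HLONG (driver helper2): the torus element of a short root in terms of
the torus elements of the long roots. -/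

namespace Cfsg.Agent.S2094P

open Matrix Cfsg.Agent.S3352P Cfsg.Agent.S3351P Cfsg.Agent.S2096P Cfsg.Agent.S2086P Cfsg.Agent.RGD

variable {n : ℕ} {F : Type*} [Field F] [Fintype F] {M : Type*} [Group M]
  {X : J n → J n → F → M} {Ys : J n → F → M}

namespace HLONG

theorem conj_mul2 (g x y : M) : g * (x * y) * g⁻¹ = (g * x * g⁻¹) * (g * y * g⁻¹) := by group

/-- first computation: factorwise -/
theorem conj_tX (hn : 3 ≤ n) (hB : BRel X Ys) {a b : J n} (hab : IsRoot a b) {t : F}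
    (ht : t ≠ 0) :
    wY Ys b t * tX X a b t * (wY Ys b t)⁻¹ = tX X a (ng b) t := by
  have hab' : IsRoot a (ng b) := isRoot_ng_right' hab
  have hX := hB.dX
  have h1 : (-1 : F) ≠ 0 := neg_ne_zero.mpr one_ne_zero
  have htt : -(t * t) ≠ 0 := neg_ne_zero.mpr (mul_ne_zero ht ht)
  have e1 : wY Ys b t * wX X a b t * (wY Ys b t)⁻¹ = wX X a (ng b) (-(t * t * t)) :=
    wY_conj_wX_snd hn hB hab ht ht
  have e2 : wY Ys b t * wX X a b (-1) * (wY Ys b t)⁻¹ = (wX X a (ng b) (-(t * t)))⁻¹ := by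
    rw [wY_conj_wX_snd hn hB hab ht h1, wX_inv' hX hab']
    congr 1
    ring
  have e3 : tX X a (ng b) (-(t * t * t)) = tX X a (ng b) t * tX X a (ng b) (-(t * t)) := by
    rw [← tX_mul hn hX hab' ht htt]
    congr 1
    ring
  have e4 : wY Ys b t * tX X a b t * (wY Ys b t)⁻¹ =
      (wY Ys b t * wX X a b t * (wY Ys b t)⁻¹) * (wY Ys b t * wX X a b (-1) * (wY Ys b t)⁻¹) := by
    rw [← conj_mul2]; rfl
  rw [e4, e1, e2, wX_eq_tX_mul hX hab' (-(t * t * t)), wX_eq_tX_mul hX hab' (-(t * t)), e3]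
  group

/-- the torus element `tX X a b t` acting on `wY Ys b t` -/
theorem tX_conj_wY (hn : 3 ≤ n) (hB : BRel X Ys) {a b : J n} (hab : IsRoot a b) {t : F}
    (ht : t ≠ 0) :
    tX X a b t * wY Ys b t * (tX X a b t)⁻¹ = wY Ys b 1 := by
  have h1 : (-1 : F) ≠ 0 := neg_ne_zero.mpr one_ne_zero
  have hnt : -1 * t ≠ 0 := mul_ne_zero h1 ht
  have e : tX X a b t * wY Ys b t * (tX X a b t)⁻¹ =
      wX X a b t * (wX X a b (-1) * wY Ys b t * (wX X a b (-1))⁻¹) * (wX X a b t)⁻¹ := by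
    unfold tX; group
  rw [e, wX_conj_wY_snd hn hB hab h1 ht, wX_conj_wY_fst hn hB hab ht hnt]
  congr 1
  field_simp

end HLONG

/-- HLONG: the torus element of a short root in terms of the long roots -/
theorem tX_ng_eq (π : M →* Matrix (I n) (I n) F)
    (hπX : ∀ a b, IsRoot a b → ∀ t : F, π (X a b t) = xmB a b t)
    (hπY : ∀ a, ∀ t : F, π (Ys a t) = ymB a t) (hn : 3 ≤ n) (h2 : (2 : F) ≠ 0) (hB : BRel X Ys)
    {a b : J n} (hab : IsRoot a b) {t : F} (ht : t ≠ 0) :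
    tX X a (ng b) t = tY Ys b t * tX X a b t := by
  rw [← HLONG.conj_tX hn hB hab ht]
  have h1 := HLONG.tX_conj_wY hn hB hab ht
  -- `W T W⁻¹ = W (T W T⁻¹)⁻¹ T`
  have e : wY Ys b t * tX X a b t * (wY Ys b t)⁻¹ =
      wY Ys b t * (tX X a b t * wY Ys b t * (tX X a b t)⁻¹)⁻¹ * tX X a b t := by group
  rw [e, h1]
  nth_rewrite 1 [wY_eq_tY_mul hB b t]
  group

end Cfsg.Agent.S2094P
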