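import Cfsg.Agent.Helper26.QuatQuot
import Cfsg.Agent.S0261
import Cfsg.Agent.Helper18.DicksonK1
import Cfsg.Agent.Helper2.SL2Sylow

set_option autoImplicit false

/-! The Sylow `2`-subgroups of `PSL₂(q)`, `q` odd, as central quotients of generalised quaternion
groups. -/

namespace Cfsg.Agent.Helper26.PSL2Syl

open QuaternionGroup

/-- The only involution of a generalised quaternion group. -/
theorem quat_invol (n : ℕ) [NeZero n] (z : QuaternionGroup n) (h1 : z ≠ 1) (h2 : z * z = 1) :
    z = a (n : ZMod (2 * n)) := by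
  have hn : 0 < n := Nat.pos_of_ne_zero (NeZero.ne n)
  have : NeZero (2 * n) := ⟨by omega⟩
  cases z with
  | a i =>
    rw [a_mul_a, one_def] at h2
    have h := QuaternionGroup.a.inj h2
    have hv : ((2 * i.val : ℕ) : ZMod (2 * n)) = 0 := by
      push_cast
      rw [ZMod.natCast_zmod_val]
      linear_combination h
    rw [ZMod.natCast_eq_zero_iff] at hv
    have hlt : i.val < 2 * n := ZMod.val_lt i
    have hdv : n ∣ i.val := (Nat.mul_dvd_mul_iff_left two_pos).mp hv
    obtain ⟨c, hc⟩ := hdv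
    have hc01 : c = 0 ∨ c = 1 := by
      rcases c with _ | _ | c
      · exact Or.inl rfl
      · exact Or.inr rfl
      · exfalso
        have : n * (c + 1 + 1) = n * c + 2 * n := by ring
        omega
    rcases hc01 with rfl | rfl
    · exfalso
      apply h1
      rw [mul_zero] at hc
      rw [one_def, (ZMod.val_eq_zero i).mp hc]
    · rw [mul_one] at hc
      congr 1
      rw [← ZMod.natCast_zmod_val i, hc]
  | xa i =>
    exfalso
    rw [xa_mul_xa, one_def] at h2
    have h := QuaternionGroup.a.inj h2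
    have h' : (n : ZMod (2 * n)) = 0 := by linear_combination h
    rw [ZMod.natCast_eq_zero_iff] at h'
    have := Nat.le_of_dvd hn h'
    omega

variable {F : Type*} [Field F] [Fintype F]

local notation "SF" => Matrix.SpecialLinearGroup (Fin 2) F
local notation "PF" => Matrix.ProjectiveSpecialLinearGroup (Fin 2) F

theorem two_ne_zero' (hodd : Fintype.card F % 2 = 1) : (2 : F) ≠ 0 := by
  intro h2
  have hdvd : ringChar F ∣ 2 := ringChar.dvd (by exact_mod_cast h2)
  have h := (Nat.dvd_prime Nat.prime_two).1 hdvd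
  rcases h with h | h
  · exact CharP.ringChar_ne_one h
  · have := FiniteField.even_card_iff_char_two.1 h
    omega

omit [Fintype F] in
theorem neg_one_mem_sylow (P : Sylow 2 SF) : (-1 : SF) ∈ (P : Subgroup SF) := by
  have : Fact (Nat.Prime 2) := ⟨Nat.prime_two⟩
  have hp : IsPGroup 2 (Subgroup.center SF) := by
    rintro ⟨g, hg⟩
    refine ⟨1, ?_⟩
    apply Subtype.ext
    show g ^ 2 ^ 1 = 1
    rcases (Cfsg.Agent.Helper18.Dickson.mem_center_iff' g).mp hg with rfl | rfl
    · simp
    · rw [pow_one, sq, neg_mul_neg, one_mul]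
  exact hp.le_sylow_of_normal P ((Cfsg.Agent.Helper18.Dickson.mem_center_iff' (-1)).mpr (Or.inr rfl))


theorem sylow_structure_aux (hodd : Fintype.card F % 2 = 1) (h16 : 16 ∣ Fintype.card F ^ 2 - 1)
    (P : Sylow 2 SF) (T : Subgroup PF)
    (hT : T = (P : Subgroup SF).map (QuotientGroup.mk' (Subgroup.center SF))) :
    ∃ k : ℕ, 2 ≤ k ∧ ∃ φ : QuaternionGroup (2 ^ k) →* T, Function.Surjective φ ∧
      ∀ x, φ x = 1 ↔ x = 1 ∨ x = a ((2 ^ k : ℕ) : ZMod (2 * 2 ^ k)) := by
  subst hT
  have : Fact (Nat.Prime 2) := ⟨Nat.prime_two⟩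
  have hOdd : Odd (Fintype.card F) := Nat.odd_iff.mpr hodd
  have h2F : (2 : F) ≠ 0 := two_ne_zero' hodd
  obtain ⟨k, hk1, ⟨e⟩⟩ := Cfsg.Agent.S0261.result hOdd P
  have : NeZero (2 ^ k) := ⟨by positivity⟩
  -- the order of `P`
  have hcardP : Nat.card (P : Subgroup SF) = 4 * 2 ^ k := by
    rw [Nat.card_congr e.toEquiv, Nat.card_eq_fintype_card, QuaternionGroup.card]
  have hk2 : 2 ≤ k := by
    have h1 := P.card_eq_multiplicity
    have h2 : 16 ∣ Nat.card SF := by
      rw [Cfsg.Agent.Helper2.SL2.card_SL2]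
      exact Dvd.dvd.mul_left h16 _
    have h3 : 4 ≤ (Nat.card SF).factorization 2 := by
      rw [← Nat.Prime.pow_dvd_iff_le_factorization Nat.prime_two Nat.card_pos.ne']
      exact h2
    rw [hcardP] at h1
    have h4 : (4 : ℕ) * 2 ^ k = 2 ^ (k + 2) := by ring
    rw [h4] at h1
    have h5 := Nat.pow_right_injective (le_refl 2) h1
    omega
  refine ⟨k, hk2, ?_⟩
  have hneg := neg_one_mem_sylow P
  -- the image of `-1` in the quaternion group
  have hz : e ⟨-1, hneg⟩ = a ((2 ^ k : ℕ) : ZMod (2 * 2 ^ k)) := by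
    apply quat_invol
    · intro h
      have h' : (⟨-1, hneg⟩ : (P : Subgroup SF)) = 1 := by
        rw [← e.map_eq_one_iff]; exact h
      have := congrArg Subtype.val h'
      exact Cfsg.Agent.Helper18.Dickson.one_ne_neg_one h2F this.symm
    · rw [← map_mul]
      have : (⟨-1, hneg⟩ : (P : Subgroup SF)) * ⟨-1, hneg⟩ = 1 := by
        apply Subtype.ext
        show (-1 : SF) * (-1) = 1
        rw [neg_mul_neg, one_mul]
      rw [this, map_one]
  let ψ : (P : Subgroup SF) →* ((P : Subgroup SF).map (QuotientGroup.mk' (Subgroup.center SF))) :=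
    (QuotientGroup.mk' (Subgroup.center SF)).subgroupMap (P : Subgroup SF)
  have hψs : Function.Surjective ψ :=
    (QuotientGroup.mk' (Subgroup.center SF)).subgroupMap_surjective (P : Subgroup SF)
  refine ⟨ψ.comp e.symm.toMonoidHom, hψs.comp e.symm.surjective, ?_⟩
  intro x
  have h1 : (ψ.comp e.symm.toMonoidHom) x = 1 ↔
      ((e.symm x : (P : Subgroup SF)) : SF) ∈ Subgroup.center SF := by
    rw [← QuotientGroup.eq_one_iff]
    constructor
    · intro h
      exact congrArg Subtype.val h
    · intro h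
      exact Subtype.ext h
  rw [h1, Cfsg.Agent.Helper18.Dickson.mem_center_iff']
  constructor
  · rintro (h | h)
    · left
      have : e.symm x = 1 := Subtype.ext h
      rwa [e.symm.map_eq_one_iff] at this
    · right
      have : e.symm x = ⟨-1, hneg⟩ := Subtype.ext h
      rw [← hz, ← this, e.apply_symm_apply]
  · rintro (rfl | rfl)
    · left
      rw [map_one]; rfl
    · right
      rw [← hz, e.symm_apply_apply]

theorem sylow_structure (hodd : Fintype.card F % 2 = 1) (h16 : 16 ∣ Fintype.card F ^ 2 - 1)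
    (S : Sylow 2 PF) :
    ∃ k : ℕ, 2 ≤ k ∧ ∃ φ : QuaternionGroup (2 ^ k) →* (S : Subgroup PF), Function.Surjective φ ∧
      ∀ x, φ x = 1 ↔ x = 1 ∨ x = a ((2 ^ k : ℕ) : ZMod (2 * 2 ^ k)) := by
  have : Fact (Nat.Prime 2) := ⟨Nat.prime_two⟩
  have hπ : Function.Surjective (QuotientGroup.mk' (Subgroup.center SF)) :=
    QuotientGroup.mk'_surjective _
  obtain ⟨P, hP⟩ := Sylow.mapSurjective_surjective hπ 2 S
  exact sylow_structure_aux hodd h16 P (S : Subgroup PF) (by rw [← hP]; rfl)

end Cfsg.Agent.Helper26.PSL2Syl
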