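import Mathlib
import Cfsg.Agent.Helper26.PSL2Syl

set_option autoImplicit false

/-! # S5320 piece QUATA: the centre of Mathlib's `QuaternionGroup n`, and generation by products of two elements of order 4. -/

namespace Cfsg.Agent.S5320P

open QuaternionGroup

theorem QUATA.center_eq {n : ℕ} [NeZero n] (hn : 2 ≤ n) (x : QuaternionGroup n)
    (h : ∀ y : QuaternionGroup n, x * y = y * x) :
    x = 1 ∨ x = QuaternionGroup.a (n : ZMod (2 * n)) := by
  have : NeZero (2 * n) := ⟨by omega⟩
  cases x with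
  | a i =>
    have h1 := h (xa 0)
    rw [a_mul_xa, xa_mul_a] at h1
    have h2 := QuaternionGroup.xa.inj h1
    have h3 : a i * a i = (1 : QuaternionGroup n) := by
      rw [a_mul_a, one_def]
      congr 1
      linear_combination -h2
    by_cases h4 : (a i : QuaternionGroup n) = 1
    · exact Or.inl h4
    · exact Or.inr (Cfsg.Agent.Helper26.PSL2Syl.quat_invol n _ h4 h3)
  | xa i =>
    exfalso
    have h1 := h (a 1)
    rw [xa_mul_a, a_mul_xa] at h1
    have h2 := QuaternionGroup.xa.inj h1
    have h3 : ((2 : ℕ) : ZMod (2 * n)) = 0 := by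
      push_cast
      linear_combination h2
    rw [ZMod.natCast_eq_zero_iff] at h3
    have := Nat.le_of_dvd two_pos h3
    omega

theorem QUATA.closure_ord4 {n : ℕ} [NeZero n] (hn : Even n) :
    Subgroup.closure {g : QuaternionGroup n | ∃ x y : QuaternionGroup n,
      orderOf x = 4 ∧ orderOf y = 4 ∧ g = x * y} = ⊤ := by
  have hn0 : n ≠ 0 := NeZero.ne n
  have : NeZero (2 * n) := ⟨by omega⟩
  obtain ⟨m, hm⟩ := hn
  have hm0 : m ≠ 0 := by omega
  rw [eq_top_iff]
  intro g _
  -- `a m` has order `4`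
  have ham : orderOf (a (m : ZMod (2 * n)) : QuaternionGroup n) = 4 := by
    have h1 : (a (m : ZMod (2 * n)) : QuaternionGroup n) = a 1 ^ m := by
      rw [a_one_pow]
    rw [h1, orderOf_pow, orderOf_a_one]
    have h2 : Nat.gcd (2 * n) m = m := Nat.gcd_eq_right ⟨4, by omega⟩
    rw [h2]
    have h3 : 2 * n = 4 * m := by omega
    rw [h3]
    exact Nat.mul_div_cancel _ (Nat.pos_of_ne_zero hm0)
  cases g with
  | a i =>
    apply Subgroup.subset_closure
    refine ⟨xa 0, xa (i - n), orderOf_xa 0, orderOf_xa _, ?_⟩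
    rw [xa_mul_xa]
    congr 1
    ring
  | xa i =>
    apply Subgroup.subset_closure
    refine ⟨a (m : ZMod (2 * n)), xa (i + m), ham, orderOf_xa _, ?_⟩
    rw [a_mul_xa]
    congr 1
    ring

end Cfsg.Agent.S5320P
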