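import Cfsg.Agent.Helper24.S5637.Defs

/-!
S5637 piece TRANSVEC: `SL_m` is transitive on non-zero vectors, `m ≥ 2`.
-/

set_option autoImplicit false
set_option linter.unusedSectionVars false
set_option linter.unusedVariables false

namespace Cfsg.Agent.S5637P

open Matrix Kronecker Cfsg.Agent.Helper28.SLMax Cfsg.Agent.S5634P
open scoped MatrixGroups

variable {F : Type*} [Field F]

/-- a vector outside a line, in dimension at least two -/
theorem TRANSVEC.exists_notMem {m : ℕ} (hm : 2 ≤ m) {w : Fin m → F} (hw : w ≠ 0) :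
    ∃ z : Fin m → F, z ∉ Submodule.span F {w} := by
  by_contra h
  have h' : ∀ z : Fin m → F, z ∈ Submodule.span F {w} := fun z => by
    by_contra hz
    exact h ⟨z, hz⟩
  have htop : Submodule.span F {w} = ⊤ := by
    rw [eq_top_iff]
    intro z _
    exact h' z
  have h1 : Module.finrank F (Submodule.span F {w}) = 1 := finrank_span_singleton hw
  rw [htop, finrank_top, Module.finrank_fin_fun] at h1
  omega

/-- if `c • z = w ≠ 0` then `z` is a multiple of `w` -/
theorem TRANSVEC.mem_span_of_mem_span {m : ℕ} {w z : Fin m → F} (hw : w ≠ 0)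
    (h : w ∈ Submodule.span F {z}) : z ∈ Submodule.span F {w} := by
  obtain ⟨c, hc⟩ := Submodule.mem_span_singleton.mp h
  have hc0 : c ≠ 0 := by
    rintro rfl
    rw [zero_smul] at hc
    exact hw hc.symm
  rw [Submodule.mem_span_singleton]
  exact ⟨c⁻¹, by rw [← hc, smul_smul, inv_mul_cancel₀ hc0, one_smul]⟩

/-- a vector outside two lines -/
theorem TRANSVEC.exists_notMem_two {m : ℕ} (hm : 2 ≤ m) {w w' : Fin m → F} (hw : w ≠ 0)
    (hw' : w' ≠ 0) :
    ∃ z : Fin m → F, z ∉ Submodule.span F {w} ∧ z ∉ Submodule.span F {w'} := by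
  by_cases h : w' ∈ Submodule.span F {w}
  · obtain ⟨z, hz⟩ := TRANSVEC.exists_notMem hm hw
    refine ⟨z, hz, fun hz' => hz ?_⟩
    have hle : Submodule.span F {w'} ≤ Submodule.span F {w} := by
      rw [Submodule.span_le]
      intro x hx
      rw [Set.mem_singleton_iff] at hx
      rw [hx]
      exact h
    exact hle hz'
  · refine ⟨w + w', fun hz => h ?_, fun hz => h ?_⟩
    · have := Submodule.sub_mem _ hz (Submodule.mem_span_singleton_self w)
      rwa [add_sub_cancel_left] at this
    · have h1 : w ∈ Submodule.span F {w'} := by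
        have := Submodule.sub_mem _ hz (Submodule.mem_span_singleton_self w')
        rwa [add_sub_cancel_right] at this
      exact TRANSVEC.mem_span_of_mem_span hw h1

/-- TRANSVEC (S-M). `SL_m` is transitive on non-zero vectors, `m ≥ 2`. -/
theorem TRANSVEC {m : ℕ} (hm : 2 ≤ m) {w w' : Fin m → F} (hw : w ≠ 0) (hw' : w' ≠ 0) :
    ∃ D : GL (Fin m) F, (D : Matrix (Fin m) (Fin m) F).det = 1 ∧
      (D : Matrix (Fin m) (Fin m) F) *ᵥ w = w' := by
  obtain ⟨z, hzw, hzw'⟩ := TRANSVEC.exists_notMem_two hm hw hw'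
  have hz0 : z ≠ 0 := by
    rintro rfl
    exact hzw (Submodule.zero_mem _)
  have hw_z : w ∉ Submodule.span F {z} := fun h => hzw (TRANSVEC.mem_span_of_mem_span hw h)
  have hw'_z : w' ∉ Submodule.span F {z} := fun h => hzw' (TRANSVEC.mem_span_of_mem_span hw' h)
  have hW0 : Submodule.span F {z} ≠ ⊥ := by
    rw [Ne, Submodule.span_singleton_eq_bot]
    exact hz0
  obtain ⟨p, hpSL, -, hp⟩ := exists_stab_map (Submodule.span F {z}) hW0 w w' hw_z hw'_z
  exact ⟨p, (mem_SL_iff p).mp hpSL, hp⟩

end Cfsg.Agent.S5637P
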