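import Cfsg.Agent.Helper24.S5637.Defs
import Cfsg.Agent.Helper26.S5637TRANSVEC

/-!
S5637 piece TRANSPAIR3: `SL_m`, `m ≥ 3`, is transitive on the pairs (vector, functional), both non-zero,
with `ψ w = 0`.
-/

set_option autoImplicit false
set_option linter.unusedSectionVars false
set_option linter.unusedVariables false

namespace Cfsg.Agent.S5637P

open Matrix Kronecker Cfsg.Agent.Helper28.SLMax Cfsg.Agent.S5634P
open scoped MatrixGroups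

variable {F : Type*} [Field F]

/-- the dual action of a transvection -/
theorem TRANSPAIR3.dact_EE {m : ℕ} {v φ : Fin m → F} (h : φ ⬝ᵥ v = 0) (χ : Fin m → F) :
    dact (EE v φ) χ = χ - (χ ⬝ᵥ v) • φ := by
  have h' : φ ⬝ᵥ (-v) = 0 := by rw [dotProduct_neg, h, neg_zero]
  unfold dact
  rw [EE.inv h, EE_val0 h', E, Matrix.vecMul_add, Matrix.vecMul_one, Matrix.vecMul_vecMulVec,
    dotProduct_neg, neg_smul, sub_eq_add_neg]

/-- two independent functionals killing `w'` are conjugate under the stabiliser of `w'` in `SL_m` -/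
theorem TRANSPAIR3.step {m : ℕ} {w' ψ₁ ψ' : Fin m → F} (h1 : ψ₁ ⬝ᵥ w' = 0) (h' : ψ' ⬝ᵥ w' = 0)
    (hind : ψ₁ ∉ Submodule.span F {ψ'}) (hind' : ψ' ∉ Submodule.span F {ψ₁}) :
    ∃ D : GL (Fin m) F, (D : Matrix (Fin m) (Fin m) F).det = 1 ∧
      (D : Matrix (Fin m) (Fin m) F) *ᵥ w' = w' ∧ dact D ψ₁ = ψ' := by
  obtain ⟨v₁, hv11, hv12⟩ := exists_dual_pair ψ₁ ψ' hind
  obtain ⟨v₂, hv21, hv22⟩ := exists_dual_pair ψ' ψ₁ hind'
  have e1 : ψ₁ ⬝ᵥ (v₁ + v₂) = 1 := by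
    rw [dotProduct_comm, add_dotProduct, hv11, hv22, add_zero]
  have e2 : ψ' ⬝ᵥ (v₁ + v₂) = 1 := by
    rw [dotProduct_comm, add_dotProduct, hv12, hv21, zero_add]
  have hφv : (ψ₁ - ψ') ⬝ᵥ (v₁ + v₂) = 0 := by rw [sub_dotProduct, e1, e2, sub_self]
  refine ⟨EE (v₁ + v₂) (ψ₁ - ψ'), ?_, ?_, ?_⟩
  · exact (mem_SL_iff _).mp (EE.mem_SL hφv)
  · rw [EE_mulVec0 hφv, sub_dotProduct, h1, h', sub_zero, zero_smul, add_zero]
  · rw [TRANSPAIR3.dact_EE hφv, e1, one_smul, sub_sub_cancel]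

/-- two linear conditions on `F^m`, `m ≥ 3`, have a non-zero solution -/
theorem TRANSPAIR3.exists_perp2 {m : ℕ} (hm : 3 ≤ m) (x y : Fin m → F) :
    ∃ χ : Fin m → F, χ ≠ 0 ∧ χ ⬝ᵥ x = 0 ∧ χ ⬝ᵥ y = 0 := by
  let L : (Fin m → F) →ₗ[F] (Fin 2 → F) :=
    { toFun := fun χ => ![χ ⬝ᵥ x, χ ⬝ᵥ y]
      map_add' := by
        intro a b
        ext i
        fin_cases i <;> simp [add_dotProduct]
      map_smul' := by
        intro c a
        ext i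
        fin_cases i <;> simp [smul_dotProduct] }
  have hker : LinearMap.ker L ≠ ⊥ := by
    apply LinearMap.ker_ne_bot_of_finrank_lt
    rw [Module.finrank_fin_fun, Module.finrank_fin_fun]
    omega
  obtain ⟨χ, hχ, hχ0⟩ := (Submodule.ne_bot_iff _).mp hker
  rw [LinearMap.mem_ker] at hχ
  refine ⟨χ, hχ0, ?_, ?_⟩
  · have := congrFun hχ 0
    simpa [L] using this
  · have := congrFun hχ 1
    simpa [L] using this

/-- the stabiliser of `w'` in `SL_m`, `m ≥ 3`, is transitive on the non-zero functionals killing `w'` -/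
theorem TRANSPAIR3.fix {m : ℕ} (hm : 3 ≤ m) {w' ψ₁ ψ' : Fin m → F} (hψ₁ : ψ₁ ≠ 0) (hψ' : ψ' ≠ 0)
    (h1 : ψ₁ ⬝ᵥ w' = 0) (h' : ψ' ⬝ᵥ w' = 0) :
    ∃ D : GL (Fin m) F, (D : Matrix (Fin m) (Fin m) F).det = 1 ∧
      (D : Matrix (Fin m) (Fin m) F) *ᵥ w' = w' ∧ dact D ψ₁ = ψ' := by
  by_cases hdep : ψ₁ ∈ Submodule.span F {ψ'}
  · -- dependent: go through a third functional
    obtain ⟨v₀, -, hv₀⟩ := exists_dual (⊥ : Submodule F (Fin m → F)) ψ₁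
      (by rw [Submodule.mem_bot]; exact hψ₁)
    obtain ⟨χ, hχ0, hχw, hχv⟩ := TRANSPAIR3.exists_perp2 hm w' v₀
    have hχ1 : χ ∉ Submodule.span F {ψ₁} := by
      intro hmem
      obtain ⟨c, hc⟩ := Submodule.mem_span_singleton.mp hmem
      have h0 : c = 0 := by
        have := hχv
        rw [← hc, smul_dotProduct, dotProduct_comm, hv₀, smul_eq_mul, mul_one] at this
        exact this
      rw [h0, zero_smul] at hc
      exact hχ0 hc.symm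
    have h1χ : ψ₁ ∉ Submodule.span F {χ} := fun hmem =>
      hχ1 (TRANSVEC.mem_span_of_mem_span hψ₁ hmem)
    have hψ'1 : ψ' ∈ Submodule.span F {ψ₁} := TRANSVEC.mem_span_of_mem_span hψ₁ hdep
    have hχ' : χ ∉ Submodule.span F {ψ'} := by
      intro hmem
      apply hχ1
      have hle : Submodule.span F {ψ'} ≤ Submodule.span F {ψ₁} := by
        rw [Submodule.span_le]
        intro x hx
        rw [Set.mem_singleton_iff] at hx
        rw [hx]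
        exact hψ'1
      exact hle hmem
    have h'χ : ψ' ∉ Submodule.span F {χ} := fun hmem =>
      hχ' (TRANSVEC.mem_span_of_mem_span hψ' hmem)
    obtain ⟨D₁, hD₁d, hD₁w, hD₁ψ⟩ := TRANSPAIR3.step h1 hχw h1χ hχ1
    obtain ⟨D₂, hD₂d, hD₂w, hD₂ψ⟩ := TRANSPAIR3.step hχw h' hχ' h'χ
    refine ⟨D₂ * D₁, ?_, ?_, ?_⟩
    · rw [Units.val_mul, Matrix.det_mul, hD₂d, hD₁d, one_mul]
    · rw [Units.val_mul, ← Matrix.mulVec_mulVec, hD₁w, hD₂w]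
    · rw [EE.dact_mul, hD₁ψ, hD₂ψ]
  · have hind' : ψ' ∉ Submodule.span F {ψ₁} := fun hmem =>
      hdep (TRANSVEC.mem_span_of_mem_span hψ' hmem)
    exact TRANSPAIR3.step h1 h' hdep hind'

/-- TRANSPAIR3 (M). `SL_m`, `m ≥ 3`, is transitive on the pairs (vector, functional), both non-zero, with
`ψ w = 0`. -/
theorem TRANSPAIR3 {m : ℕ} (hm : 3 ≤ m) {w ψ w' ψ' : Fin m → F} (hw : w ≠ 0) (hψ : ψ ≠ 0)
    (hw' : w' ≠ 0) (hψ' : ψ' ≠ 0) (h : ψ ⬝ᵥ w = 0) (h' : ψ' ⬝ᵥ w' = 0) :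
    ∃ D : GL (Fin m) F, (D : Matrix (Fin m) (Fin m) F).det = 1 ∧
      (D : Matrix (Fin m) (Fin m) F) *ᵥ w = w' ∧ dact D ψ = ψ' := by
  obtain ⟨D₁, hD₁d, hD₁w⟩ := TRANSVEC (by omega : 2 ≤ m) hw hw'
  have hψ₁0 : dact D₁ ψ ≠ 0 := EE.dact_ne_zero D₁ hψ
  have hψ₁w : dact D₁ ψ ⬝ᵥ w' = 0 := by rw [← hD₁w, dact_dot_mulVec, h]
  obtain ⟨D₂, hD₂d, hD₂w, hD₂ψ⟩ := TRANSPAIR3.fix hm hψ₁0 hψ' hψ₁w h'
  refine ⟨D₂ * D₁, ?_, ?_, ?_⟩
  · rw [Units.val_mul, Matrix.det_mul, hD₂d, hD₁d, one_mul]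
  · rw [Units.val_mul, ← Matrix.mulVec_mulVec, hD₁w, hD₂w]
  · rw [EE.dact_mul, hD₂ψ]

end Cfsg.Agent.S5637P
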