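import Mathlib
import Cfsg.Prelude.Def_ClassicalGeometry
import Cfsg.Prelude.Def_GeometricClasses
import Cfsg.Agent.Helper16.S5972Defs
import Cfsg.Agent.Helper16.S5972TW
import Cfsg.Agent.Helper8.S5955INVSPLIT

/-! S5972 piece SYMMODEL (driver helper16): from a symplectic model `(V', B', y')` without fixed
vectors to the symmetric model `V = V' × F^κ`, `B = tw B' y' ⊥ dot`, `y = y' × 1`. -/

set_option autoImplicit false
open scoped MatrixGroups
universe u
namespace Cfsg.Agent.S5972P
open Polynomial Cfsg.Agent.Helper2.SympInvol Cfsg.Agent.Helper2.SympUnits Cfsg.Agent.S5961P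
  Cfsg.Agent.S5955P

namespace SYMMODEL

variable {F : Type*} [Field F]

/-- the dot product as a bilinear form -/
def dot (κ : ℕ) : LinearMap.BilinForm F (Fin κ → F) :=
  Matrix.toBilin' (1 : Matrix (Fin κ) (Fin κ) F)

lemma dot_apply (κ : ℕ) (u v : Fin κ → F) : dot κ u v = ∑ i, u i * v i := by
  unfold dot
  rw [Matrix.toBilin'_apply']
  simp [dotProduct]

lemma dot_symm (κ : ℕ) (u v : Fin κ → F) : dot κ u v = dot κ v u := by
  rw [dot_apply, dot_apply]
  exact Finset.sum_congr rfl fun i _ => mul_comm _ _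

lemma dot_single (κ : ℕ) (u : Fin κ → F) (i : Fin κ) : dot κ u (Pi.single i 1) = u i := by
  rw [dot_apply, Finset.sum_eq_single i]
  · simp
  · intro j _ hj; simp [Pi.single_eq_of_ne hj]
  · intro h; exact absurd (Finset.mem_univ _) h

variable {V' : Type*} [AddCommGroup V'] [Module F V']

lemma prodMap_pow (y' : Module.End F V') (κ : ℕ) (n : ℕ) :
    (LinearMap.prodMap y' (1 : Module.End F (Fin κ → F))) ^ n =
      LinearMap.prodMap (y' ^ n) (1 : Module.End F (Fin κ → F)) := by
  induction n with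
  | zero => rw [pow_zero, pow_zero, LinearMap.prodMap_one]
  | succ n ih =>
    rw [pow_succ, ih, pow_succ, LinearMap.prodMap_mul, one_mul]

end SYMMODEL

open SYMMODEL in
/-- SYMMODEL: from a symplectic model without fixed vectors to a symmetric model with a
`κ`-dimensional fixed space -/
theorem exists_sym_model {F V' : Type u} [Field F] [Fintype F] [AddCommGroup V'] [Module F V']
    [FiniteDimensional F V'] {p : ℕ} [Fact p.Prime] [CharP F p] (h2 : (2 : F) ≠ 0) (r : ℕ)
    [Fact r.Prime] (hr2 : r ≠ 2) (hrp : r ≠ p) (B' : LinearMap.BilinForm F V')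
    (y' : Module.End F V') (h : IsYSp B' y' r) (hker : LinearMap.ker (y' - 1) = ⊥) (β κ : ℕ)
    (hβ : ∀ W' : Submodule F V', W'.map y' ≤ W' → Orth B' W' W' → Module.finrank F W' ≤ β) :
    ∃ (V : Type u) (_ : AddCommGroup V) (_ : Module F V) (_ : FiniteDimensional F V)
      (B : LinearMap.BilinForm F V) (y : Module.End F V),
      IsYO B y r ∧ Module.finrank F V = κ + Module.finrank F V' ∧
      Module.finrank F (LinearMap.ker (y - 1)) = κ ∧
      ∀ W : Submodule F V, W.map y ≤ W → Orth B W W →
        Module.finrank F W ≤ Module.finrank F ↥(W ⊓ LinearMap.ker (y - 1)) + β := by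
  classical
  have hrodd : Odd r := (Fact.out : r.Prime).odd_of_ne_two hr2
  obtain ⟨htw1, -, htw3, htw4⟩ := tw_facts h2 r hrodd B' y' h.isom h.pow
  have htwnd : Nondeg (tw B' y') ⊤ := by
    apply htw4 ⊤ le_top _ h.nondeg
    rw [hker]; simp
  obtain ⟨y, hydef⟩ : ∃ y : Module.End F (V' × (Fin κ → F)),
      y = LinearMap.prodMap y' (1 : Module.End F (Fin κ → F)) := ⟨_, rfl⟩
  have hyapp : ∀ v : V' × (Fin κ → F), y v = (y' v.1, v.2) := by
    intro v; rw [hydef]; rfl
  have hy1app : ∀ v : V' × (Fin κ → F), (y - 1) v = ((y' - 1) v.1, 0) := by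
    intro v
    rw [LinearMap.sub_apply, hyapp]
    ext <;> simp
  have hypow : y ^ r = 1 := by
    rw [hydef, prodMap_pow, h.pow, LinearMap.prodMap_one]
  have hkery : LinearMap.ker (y - 1) = LinearMap.range (LinearMap.inr F V' (Fin κ → F)) := by
    ext v
    rw [LinearMap.mem_ker, hy1app, LinearMap.mem_range]
    constructor
    · intro hv
      have h1 : (y' - 1) v.1 = 0 := (Prod.mk.injEq _ _ _ _ ▸ hv).1
      have h2' : v.1 ∈ LinearMap.ker (y' - 1) := h1
      rw [hker, Submodule.mem_bot] at h2'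
      exact ⟨v.2, by ext <;> simp [h2']⟩
    · rintro ⟨b, rfl⟩
      simp
  refine ⟨V' × (Fin κ → F), inferInstance, inferInstance, inferInstance,
    prodB (tw B' y') (dot κ), y, ⟨?_, ?_, ?_, hypow⟩, ?_, ?_, ?_⟩
  · -- symmetric
    intro u v
    rw [prodB_apply, prodB_apply, tw_symm_of_alt B' h.alt y' u.1 v.1, dot_symm]
  · -- nondegenerate
    rintro ⟨a, b⟩ - hab
    by_cases ha : a = 0
    · have hb : b ≠ 0 := by
        intro hb; apply hab; rw [ha, hb]; rfl
      obtain ⟨i, hi⟩ : ∃ i, b i ≠ 0 := by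
        by_contra hcon
        apply hb
        ext i
        by_contra hi
        exact hcon ⟨i, hi⟩
      refine ⟨(0, Pi.single i 1), Submodule.mem_top, ?_⟩
      rw [prodB_apply]
      simp only [map_zero, zero_add]
      rw [dot_single]
      exact hi
    · obtain ⟨v, -, hv⟩ := htwnd a Submodule.mem_top ha
      refine ⟨(v, 0), Submodule.mem_top, ?_⟩
      rw [prodB_apply]
      simp only [map_zero, add_zero]
      exact hv
  · -- isometry
    intro u v
    rw [prodB_apply, prodB_apply, hyapp, hyapp]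
    simp only
    rw [htw1]
  · -- finrank V
    rw [Module.finrank_prod, Module.finrank_fin_fun, add_comm]
  · -- finrank ker
    rw [hkery, LinearMap.finrank_range_of_inj LinearMap.inr_injective, Module.finrank_fin_fun]
  · -- the bound
    intro W hW hWorth
    obtain ⟨-, hsplit, -⟩ := inv_split (p := p) r hrp y hypow W hW
    -- W' = {a | (a, 0) ∈ W}
    obtain ⟨W', hW'⟩ : ∃ W' : Submodule F V', W' = W.comap (LinearMap.inl F V' (Fin κ → F)) :=
      ⟨_, rfl⟩
    have hmem : ∀ a, a ∈ W' ↔ ((a, 0) : V' × (Fin κ → F)) ∈ W := by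
      intro a; rw [hW']; rfl
    have hW'inv : W'.map y' ≤ W' := by
      rintro _ ⟨a, ha, rfl⟩
      rw [SetLike.mem_coe, hmem] at ha
      rw [hmem]
      have := hW (Submodule.mem_map_of_mem ha)
      rw [hyapp] at this
      exact this
    have hW'tw : Orth (tw B' y') W' W' := by
      intro a ha a' ha'
      have := hWorth _ ((hmem a).mp ha) _ ((hmem a').mp ha')
      rw [prodB_apply] at this
      simpa using this
    have hW'fix : W' ⊓ LinearMap.ker (y' - 1) = ⊥ := by
      rw [hker, inf_bot_eq]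
    have hW'orth : Orth B' W' W' := htw3 W' hW'inv hW'fix hW'tw
    have hW'β := hβ W' hW'inv hW'orth
    have hle : W ⊓ LinearMap.range (y - 1) ≤ W'.map (LinearMap.inl F V' (Fin κ → F)) := by
      rintro v ⟨hvW, ⟨c, rfl⟩⟩
      rw [hy1app] at hvW ⊢
      exact ⟨(y' - 1) c.1, (hmem _).mpr hvW, rfl⟩
    have hfin : Module.finrank F ↥(W'.map (LinearMap.inl F V' (Fin κ → F))) =
        Module.finrank F ↥W' :=
      (Submodule.equivMapOfInjective _ LinearMap.inl_injective W').finrank_eq.symm
    have := Submodule.finrank_mono hle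
    omega

end Cfsg.Agent.S5972P
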