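import Mathlib
import Cfsg.Prelude.Def_ClassicalGeometry
import Cfsg.Agent.Helper17.S2482GDefs
import Cfsg.Agent.Helper19.S2482UNITG

/-! # S2482 chapter (G), piece FITSUB: the orthogonal Fitting decomposition of a symplectic space with an
isometry `g` with respect to `g - c`, `c = ±1`. -/

set_option autoImplicit false

namespace Cfsg.Agent.S2482P

open Polynomial Cfsg.Agent.Helper2.SympInvol Cfsg.Agent.S5955P Cfsg.Agent.S5961P Cfsg.Agent.S2676P
  Cfsg.Agent.S2478P Cfsg.Agent.S2481P

universe u

variable {F : Type u} [Field F]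

namespace FITSUB

theorem fitting (S : SpSpace F) (hS : S.IsSp) (c : F) (hc : c * c = 1) :
    ∃ W U : Submodule F S.V, IsCompl W U ∧ (∀ w ∈ W, ∀ u ∈ U, S.B w u = 0) ∧
      (∀ w ∈ W, S.g w ∈ W) ∧ (∀ u ∈ U, S.g u ∈ U) ∧
      (∃ N : ℕ, ∀ w ∈ W, ((S.g - algebraMap F (Module.End F S.V) c) ^ N) w = 0) ∧
      (∀ u ∈ U, ∃ u' ∈ U, (S.g - algebraMap F (Module.End F S.V) c) u' = u) ∧
      ∀ u ∈ U, (S.g - algebraMap F (Module.End F S.V) c) u = 0 → u = 0 := by
  obtain ⟨gi, hggi, hgig, hgiso, hadj⟩ := UNITG.isUnit_g S hS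
  have hisom : ∀ u v, S.B (S.g u) (S.g v) = S.B u v := hS.isom
  set f : Module.End F S.V := S.g - algebraMap F (Module.End F S.V) c with hf
  -- the "adjoint" of `f`
  set f' : Module.End F S.V := gi - algebraMap F (Module.End F S.V) c with hf'
  have hfapp : ∀ v, f v = S.g v - c • v := by
    intro v
    rw [hf, LinearMap.sub_apply, Module.algebraMap_end_apply]
  have hf'app : ∀ v, f' v = gi v - c • v := by
    intro v
    rw [hf', LinearMap.sub_apply, Module.algebraMap_end_apply]
  have hgiapp : ∀ v, gi (S.g v) = v := fun v => by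
    have := LinearMap.congr_fun hgig v
    simpa using this
  have hggiapp : ∀ v, S.g (gi v) = v := fun v => by
    have := LinearMap.congr_fun hggi v
    simpa using this
  -- `B w (f v) = B (f' w) v`
  have hadj2 : ∀ w v, S.B w (f v) = S.B (f' w) v := by
    intro w v
    rw [hfapp, hf'app, map_sub, map_smul, map_sub, LinearMap.sub_apply, map_smul,
      LinearMap.smul_apply]
    congr 1
    rw [← hisom (gi w) v, hggiapp]
  have hadj2pow : ∀ (k : ℕ) (w v : S.V), S.B w ((f ^ k) v) = S.B ((f' ^ k) w) v := by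
    intro k
    induction k with
    | zero => intro w v; simp
    | succ k ih =>
      intro w v
      rw [pow_succ', Module.End.mul_apply, hadj2, ih, pow_succ, Module.End.mul_apply]
  -- `f' = (-c • gi) * f`
  have hf'f : f' = (-c) • (gi * f) := by
    apply LinearMap.ext
    intro v
    rw [hf'app, LinearMap.smul_apply, Module.End.mul_apply, hfapp, map_sub, map_smul, hgiapp,
      smul_sub, smul_smul, neg_mul, hc, neg_smul, neg_smul, one_smul]
    abel
  have hcomm_gf : Commute S.g f := by
    rw [hf]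
    exact (Commute.refl _).sub_right (Algebra.commutes c S.g).symm
  have hcomm_gif : Commute gi f := by
    -- `gi * f = f * gi`
    have h1 : gi * f = gi * f * (S.g * gi) := by rw [hggi, mul_one]
    have h2 : gi * f * (S.g * gi) = gi * (f * S.g) * gi := by simp only [mul_assoc]
    have h3 : gi * (f * S.g) * gi = (gi * S.g) * f * gi := by
      rw [← hcomm_gf.eq]; simp only [mul_assoc]
    show gi * f = f * gi
    rw [h1, h2, h3, hgig, one_mul]
  have hf'pow : ∀ k : ℕ, f' ^ k = ((-c) ^ k) • (gi ^ k * f ^ k) := by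
    intro k
    rw [hf'f, _root_.smul_pow, hcomm_gif.mul_pow]
  -- the Fitting index
  obtain ⟨N0, hN0⟩ := Filter.eventually_atTop.1 (LinearMap.eventually_isCompl_ker_pow_range_pow f)
  set N := N0 + 1 with hN
  have hcompl : IsCompl (LinearMap.ker (f ^ N)) (LinearMap.range (f ^ N)) := hN0 N (by omega)
  have hgfN : Commute S.g (f ^ N) := hcomm_gf.pow_right N
  have hffN : Commute f (f ^ N) := (Commute.refl f).pow_right N
  -- `ker f ⊓ range (f^N) = ⊥`
  have hinj : ∀ u ∈ LinearMap.range (f ^ N), f u = 0 → u = 0 := by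
    intro u hu hfu
    have hker : u ∈ LinearMap.ker (f ^ N) := by
      rw [LinearMap.mem_ker, hN, pow_succ, Module.End.mul_apply, hfu, map_zero]
    have := hcompl.disjoint.le_bot (Submodule.mem_inf.2 ⟨hker, hu⟩)
    simpa using this
  have hfU : ∀ u ∈ LinearMap.range (f ^ N), f u ∈ LinearMap.range (f ^ N) := by
    rintro u ⟨u0, rfl⟩
    refine ⟨f u0, ?_⟩
    rw [← Module.End.mul_apply, ← hffN.eq, Module.End.mul_apply]
  refine ⟨LinearMap.ker (f ^ N), LinearMap.range (f ^ N), hcompl, ?_, ?_, ?_, ⟨N, ?_⟩, ?_, hinj⟩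
  · -- orthogonality
    rintro w hw u ⟨u0, rfl⟩
    rw [hadj2pow, hf'pow, LinearMap.smul_apply, Module.End.mul_apply, LinearMap.mem_ker.1 hw,
      map_zero, smul_zero, map_zero, LinearMap.zero_apply]
  · intro w hw
    rw [LinearMap.mem_ker] at hw ⊢
    rw [← Module.End.mul_apply, ← hgfN.eq, Module.End.mul_apply, hw, map_zero]
  · rintro u ⟨u0, rfl⟩
    refine ⟨S.g u0, ?_⟩
    rw [← Module.End.mul_apply, ← hgfN.eq, Module.End.mul_apply]
  · intro w hw
    exact LinearMap.mem_ker.1 hw
  · -- surjectivity of `f` on `U`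
    intro u hu
    let fU : LinearMap.range (f ^ N) →ₗ[F] LinearMap.range (f ^ N) := f.restrict hfU
    have hfUinj : Function.Injective fU := by
      rw [← LinearMap.ker_eq_bot, LinearMap.ker_eq_bot']
      intro x hx
      have h1 : f (x : S.V) = 0 := by
        have := congrArg Subtype.val hx
        simpa [fU, LinearMap.restrict_apply] using this
      exact Subtype.ext (hinj x x.2 h1)
    have hfUsurj : Function.Surjective fU := LinearMap.surjective_of_injective hfUinj
    obtain ⟨u', hu'⟩ := hfUsurj ⟨u, hu⟩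
    refine ⟨(u' : S.V), u'.2, ?_⟩
    have := congrArg Subtype.val hu'
    simpa [fU, LinearMap.restrict_apply] using this

end FITSUB

end Cfsg.Agent.S2482P
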