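import Mathlib
import Cfsg.Agent.Helper29.S2558CDefs
import Cfsg.Agent.Helper14.GLk.COUNTT
import Cfsg.Agent.Helper29.S2482COUNTSSP

/-! S2558 chapter (C): a GENERIC counting lemma for decorated type tuples (abstract version of helper16's
`COUNTSSP`): tuples `t ∈ T F r N` with decorations `s m : D`, subject to a local condition
`Good m (t m) (s m)` such that `Good m 1 s ↔ s = d0`. -/

set_option autoImplicit false

namespace Cfsg.Agent.S2558P

open Polynomial Cfsg.Agent.S2478P Cfsg.Agent.S2481P Cfsg.Agent.S2482P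

universe u

namespace CGEN

section defs

variable {F : Type u} [Field F] {D : Type} (d0 : D) (Good : ℕ → F[X] → D → Prop)

/-- the decorated tuples of total weight `N` -/
def SS (r N : ℕ) : Set ((ℕ → F[X]) × (ℕ → D)) :=
  {x | x.1 ∈ T F r N ∧ ∀ m, Good m (x.1 m) (x.2 m)}

variable {Good} (hg1 : ∀ m s, Good m (1 : F[X]) s ↔ s = d0)

include hg1 in
theorem SS_zero (N : ℕ) :
    SS Good 0 N = if N = 0 then {(fun _ => 1, fun _ => d0)} else ∅ := by
  ext x
  constructor
  · rintro ⟨hT, hg⟩
    rw [COUNTT.T_zero] at hT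
    split_ifs at hT ⊢ with hN
    · have h1 : x.1 = fun _ => 1 := hT
      have h2 : x.2 = fun _ => d0 := by
        funext m
        have := hg m
        rw [h1] at this
        exact (hg1 m _).1 this
      show x = _
      exact Prod.ext h1 h2
    · exact absurd hT (Set.notMem_empty _)
  · intro hx
    split_ifs at hx with hN
    · have hx' : x = (fun _ => 1, fun _ => d0) := hx
      subst hx'
      refine ⟨?_, fun m => (hg1 m _).2 rfl⟩
      rw [COUNTT.T_zero, if_pos hN]
      rfl
    · exact absurd hx (Set.notMem_empty _)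

omit hg1 in
theorem deg_lt {r N : ℕ} {x : (ℕ → F[X]) × (ℕ → D)} (hx : x ∈ SS Good (r + 1) N) :
    (x.1 (r + 1)).natDegree < N / (r + 1) + 1 := COUNTT.deg_lt hx.1

include hg1 in
theorem lower_mem {r N : ℕ} {x : (ℕ → F[X]) × (ℕ → D)} (hx : x ∈ SS Good (r + 1) N) :
    (Function.update x.1 (r + 1) 1, Function.update x.2 (r + 1) d0) ∈
      SS Good r (N - (r + 1) * (x.1 (r + 1)).natDegree) := by
  refine ⟨COUNTT.lower_mem hx.1, fun m => ?_⟩
  by_cases hm : m = r + 1
  · subst hm
    show Good (r + 1) (Function.update x.1 (r + 1) 1 (r + 1))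
      (Function.update x.2 (r + 1) d0 (r + 1))
    rw [Function.update_self, Function.update_self]
    exact (hg1 _ _).2 rfl
  · show Good m (Function.update x.1 (r + 1) 1 m) (Function.update x.2 (r + 1) d0 m)
    rw [Function.update_of_ne hm, Function.update_of_ne hm]
    exact hx.2 m

omit hg1 in
theorem upper_mem {r N d : ℕ} (hd : (r + 1) * d ≤ N) {y : (ℕ → F[X]) × (ℕ → D)}
    (hy : y ∈ SS Good r (N - (r + 1) * d)) {f : F[X]} {s : D}
    (hf : f.Monic ∧ f.natDegree = d ∧ f.coeff 0 ≠ 0) (hg : Good (r + 1) f s) :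
    (Function.update y.1 (r + 1) f, Function.update y.2 (r + 1) s) ∈ SS Good (r + 1) N := by
  refine ⟨COUNTT.upper_mem hd hy.1 hf, fun m => ?_⟩
  by_cases hm : m = r + 1
  · subst hm
    show Good (r + 1) (Function.update y.1 (r + 1) f (r + 1)) (Function.update y.2 (r + 1) s (r + 1))
    rw [Function.update_self, Function.update_self]
    exact hg
  · show Good m (Function.update y.1 (r + 1) f m) (Function.update y.2 (r + 1) s m)
    rw [Function.update_of_ne hm, Function.update_of_ne hm]
    exact hy.2 m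

variable (Good) in
/-- the entries of degree `d` at the index `m`, with their decorations -/
abbrev Entry (m d : ℕ) : Type u :=
  {e : F[X] × D // (e.1.Monic ∧ e.1.natDegree = d ∧ e.1.coeff 0 ≠ 0) ∧ Good m e.1 e.2}

/-- the fibre equivalence -/
noncomputable def fibre (r N d : ℕ) (hd : (r + 1) * d ≤ N) :
    {x : SS Good (r + 1) N // ((x : (ℕ → F[X]) × (ℕ → D)).1 (r + 1)).natDegree = d} ≃
      Entry Good (r + 1) d × SS Good r (N - (r + 1) * d) where
  toFun x := (⟨((x.1 : (ℕ → F[X]) × (ℕ → D)).1 (r + 1),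
        (x.1 : (ℕ → F[X]) × (ℕ → D)).2 (r + 1)),
      ⟨(x.1.2.1.1 (r + 1)).1, x.2, (x.1.2.1.1 (r + 1)).2⟩, x.1.2.2 (r + 1)⟩,
    ⟨(Function.update (x.1 : (ℕ → F[X]) × (ℕ → D)).1 (r + 1) 1,
        Function.update (x.1 : (ℕ → F[X]) × (ℕ → D)).2 (r + 1) d0), by
      have := lower_mem d0 hg1 x.1.2
      rw [x.2] at this
      exact this⟩)
  invFun p := ⟨⟨(Function.update (p.2 : (ℕ → F[X]) × (ℕ → D)).1 (r + 1) p.1.1.1,
        Function.update (p.2 : (ℕ → F[X]) × (ℕ → D)).2 (r + 1) p.1.1.2),
      upper_mem hd p.2.2 p.1.2.1 p.1.2.2⟩, by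
    show (Function.update (p.2 : (ℕ → F[X]) × (ℕ → D)).1 (r + 1) p.1.1.1
      (r + 1)).natDegree = d
    rw [Function.update_self]
    exact p.1.2.1.2.1⟩
  left_inv x := by
    apply Subtype.ext
    apply Subtype.ext
    apply Prod.ext
    · show Function.update (Function.update (x.1 : (ℕ → F[X]) × (ℕ → D)).1 (r + 1) 1)
        (r + 1) ((x.1 : (ℕ → F[X]) × (ℕ → D)).1 (r + 1)) = x.1.1.1
      rw [Function.update_idem, Function.update_eq_self]
    · show Function.update (Function.update (x.1 : (ℕ → F[X]) × (ℕ → D)).2 (r + 1)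
        d0) (r + 1) ((x.1 : (ℕ → F[X]) × (ℕ → D)).2 (r + 1)) = x.1.1.2
      rw [Function.update_idem, Function.update_eq_self]
  right_inv p := by
    obtain ⟨e, y⟩ := p
    have h1 : (y : (ℕ → F[X]) × (ℕ → D)).1 (r + 1) = 1 := y.2.1.2.1 (r + 1) (by omega)
    have h2 : (y : (ℕ → F[X]) × (ℕ → D)).2 (r + 1) = d0 := by
      have := y.2.2 (r + 1)
      rw [h1] at this
      exact (hg1 _ _).1 this
    apply Prod.ext
    · apply Subtype.ext
      apply Prod.ext
      · show Function.update (y : (ℕ → F[X]) × (ℕ → D)).1 (r + 1) e.1.1 (r + 1) = e.1.1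
        rw [Function.update_self]
      · show Function.update (y : (ℕ → F[X]) × (ℕ → D)).2 (r + 1) e.1.2 (r + 1) = e.1.2
        rw [Function.update_self]
    · apply Subtype.ext
      apply Prod.ext
      · show Function.update (Function.update (y : (ℕ → F[X]) × (ℕ → D)).1 (r + 1) e.1.1)
          (r + 1) 1 = y.1.1
        rw [Function.update_idem, ← h1, Function.update_eq_self]
      · show Function.update (Function.update (y : (ℕ → F[X]) × (ℕ → D)).2 (r + 1) e.1.2)
          (r + 1) d0 = y.1.2
        rw [Function.update_idem, ← h2, Function.update_eq_self]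

end defs

section count

variable {F : Type u} [Field F] [Fintype F] {D : Type} [Finite D] (d0 : D)
  {Good : ℕ → F[X] → D → Prop}

omit [Finite D] in
theorem finite_Entry [Finite D] (m d : ℕ) : Finite (Entry Good m d) := by
  have := COUNTT.finite_Mon F d
  exact Finite.of_injective
    (fun e : Entry Good m d => ((⟨e.1.1, e.2.1⟩ : COUNTT.Mon F d), e.1.2)) (by
      intro x y h
      apply Subtype.ext
      apply Prod.ext
      · exact congrArg (fun z : COUNTT.Mon F d × D => (z.1 : F[X])) h
      · exact congrArg (fun z : COUNTT.Mon F d × D => z.2) h)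

/-- the number of decorated tuples of total weight `N`, from the numbers `E m d` of entries -/
def AS (E : ℕ → ℕ → ℕ) : ℕ → ℕ → ℕ
  | 0, N => if N = 0 then 1 else 0
  | (r + 1), N => ∑ d ∈ Finset.range (N / (r + 1) + 1), E (r + 1) d * AS E r (N - (r + 1) * d)

theorem card_SS (hg1 : ∀ m s, Good m (1 : F[X]) s ↔ s = d0) (E : ℕ → ℕ → ℕ)
    (hE : ∀ m d, Nat.card (Entry Good m d) = E m d) (r N : ℕ) :
    (SS Good r N).Finite ∧ Nat.card (SS Good r N) = AS E r N := by
  induction r generalizing N with
  | zero =>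
    rw [SS_zero d0 hg1]
    split_ifs with hN
    · refine ⟨Set.finite_singleton _, ?_⟩
      rw [Nat.card_coe_set_eq, Set.ncard_singleton]
      simp [AS, hN]
    · refine ⟨Set.finite_empty, ?_⟩
      rw [Nat.card_coe_set_eq, Set.ncard_empty]
      simp [AS, hN]
  | succ r ih =>
    have hfinT : ∀ m, Finite (SS Good r m) := fun m => (ih m).1
    have hfinM : ∀ a, Finite (Entry Good (r + 1) a) := fun a => finite_Entry (r + 1) a
    let d : SS Good (r + 1) N → Fin (N / (r + 1) + 1) := fun x =>
      ⟨((x : (ℕ → F[X]) × (ℕ → D)).1 (r + 1)).natDegree, deg_lt x.2⟩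
    have hale : ∀ a : Fin (N / (r + 1) + 1), (r + 1) * (a : ℕ) ≤ N := by
      intro a
      have := a.2
      rw [Nat.lt_succ_iff, Nat.le_div_iff_mul_le (Nat.succ_pos r), mul_comm] at this
      exact this
    let EE : ∀ a : Fin (N / (r + 1) + 1),
        {x : SS Good (r + 1) N // d x = a} ≃ Entry Good (r + 1) a × SS Good r (N - (r + 1) * a) :=
      fun a =>
      (Equiv.subtypeEquivRight (fun x => by
        show d x = a ↔ ((x : (ℕ → F[X]) × (ℕ → D)).1 (r + 1)).natDegree = (a : ℕ)
        exact Fin.ext_iff)).trans (fibre d0 hg1 r N a (hale a))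
    let E' : SS Good (r + 1) N ≃
        Σ a : Fin (N / (r + 1) + 1), Entry Good (r + 1) a × SS Good r (N - (r + 1) * a) :=
      (Equiv.sigmaFiberEquiv d).symm.trans (Equiv.sigmaCongrRight EE)
    have hfin : Finite (SS Good (r + 1) N) := Finite.of_equiv _ E'.symm
    refine ⟨Set.toFinite _, ?_⟩
    rw [Nat.card_congr E', Nat.card_sigma]
    show _ = ∑ a ∈ Finset.range (N / (r + 1) + 1), E (r + 1) a * AS E r (N - (r + 1) * a)
    rw [← Fin.sum_univ_eq_sum_range (fun a => E (r + 1) a * AS E r (N - (r + 1) * a))]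
    refine Finset.sum_congr rfl (fun a _ => ?_)
    rw [Nat.card_prod, hE (r + 1) a, (ih _).2]

end count

/-- the numbers of entries for the orthogonal counting problems: palindromic of even degree for even `m`,
`W d` for odd `m` -/
def EO (q : ℕ) (W : ℕ → ℕ) (m d : ℕ) : ℕ :=
  if Even m then (if Even d then q ^ (d / 2) else 0) else W d

/-- the generic recursion of `AO` and `AOfree` -/
def AG (q : ℕ) (W : ℕ → ℕ) : ℕ → ℕ → ℕ
  | 0, N => if N = 0 then 1 else 0
  | (r + 1), N =>
    if Even (r + 1) then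
      ∑ a ∈ Finset.range (N / (2 * (r + 1)) + 1), q ^ a * AG q W r (N - 2 * (r + 1) * a)
    else ∑ b ∈ Finset.range (N / (r + 1) + 1), W b * AG q W r (N - (r + 1) * b)

theorem AO_eq_AG (q r N : ℕ) : AO q r N = AG q (Wev q) r N := by
  induction r generalizing N with
  | zero => rfl
  | succ r ih =>
    rw [AO, AG]
    split_ifs
    · exact Finset.sum_congr rfl (fun a _ => by rw [ih])
    · exact Finset.sum_congr rfl (fun a _ => by rw [ih])

theorem AOfree_eq_AG (q r N : ℕ) : AOfree q r N = AG q (Wfree q) r N := by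
  induction r generalizing N with
  | zero => rfl
  | succ r ih =>
    rw [AOfree, AG]
    split_ifs
    · exact Finset.sum_congr rfl (fun a _ => by rw [ih])
    · exact Finset.sum_congr rfl (fun a _ => by rw [ih])

theorem AS_eq_AG (q : ℕ) (W : ℕ → ℕ) (r N : ℕ) : AS (EO q W) r N = AG q W r N := by
  induction r generalizing N with
  | zero => rfl
  | succ r ih =>
    rw [AS, AG]
    split_ifs with he
    · -- `r + 1` even: only even degrees
      rw [COUNTSSP.sum_even_terms (fun d => EO q W (r + 1) d * AS (EO q W) r (N - (r + 1) * d))]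
      · have h1 : N / (r + 1) / 2 = N / (2 * (r + 1)) := by
          rw [Nat.div_div_eq_div_mul, mul_comm]
        rw [h1]
        refine Finset.sum_congr rfl (fun a _ => ?_)
        have h2 : (r + 1) * (2 * a) = 2 * (r + 1) * a := by ring
        have h3 : 2 * a / 2 = a := by omega
        show EO q W (r + 1) (2 * a) * AS (EO q W) r (N - (r + 1) * (2 * a)) = _
        rw [h2, ih, EO, if_pos he, if_pos (even_two_mul a), h3]
      · intro d hd
        show EO q W (r + 1) d * AS (EO q W) r (N - (r + 1) * d) = 0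
        rw [EO, if_pos he, if_neg hd, zero_mul]
    · refine Finset.sum_congr rfl (fun b _ => ?_)
      rw [ih, EO, if_neg he]

end CGEN

end Cfsg.Agent.S2558P
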