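import Mathlib
import Cfsg.Agent.Helper29.S2558CDefs
import Cfsg.Agent.Helper25.S2482SRCARD
import Cfsg.Agent.Helper29.S2482WEVCARD
import Cfsg.Agent.Helper29.S2482COUNTSSP
import Cfsg.Agent.Helper26.S2558CGEN

/-! S2558 chapter (C), piece COUNTSO: `#SO F r N = AO q r N`. -/

set_option autoImplicit false

namespace Cfsg.Agent.S2558P

open Polynomial Cfsg.Agent.S2478P Cfsg.Agent.S2481P Cfsg.Agent.S2482P

universe u

namespace COUNTSO

section defs

variable {F : Type u} [Field F]

/-- the local condition on the entry `h` with signs `s` at the index `m` -/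
def Good (m : ℕ) (h : F[X]) (s : Bool × Bool) : Prop :=
  tilde0 h = h ∧ (Even m → h.coeff 0 = 1 ∧ Even h.natDegree) ∧
    (s.1 = true → Odd m ∧ (X - 1 : F[X]) ∣ h) ∧ (s.2 = true → Odd m ∧ (X + 1 : F[X]) ∣ h)

theorem SO_eq (r N : ℕ) : SO F r N = CGEN.SS (Good (F := F)) r N := by
  ext x
  constructor
  · rintro ⟨⟨hT, ht, ho⟩, hs⟩
    exact ⟨hT, fun m => ⟨ht m, ho m, (hs m).1, (hs m).2⟩⟩
  · rintro ⟨hT, hg⟩
    exact ⟨⟨hT, fun m => (hg m).1, fun m => (hg m).2.1⟩, fun m => ⟨(hg m).2.2.1, (hg m).2.2.2⟩⟩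

theorem good_one (m : ℕ) (s : Bool × Bool) : Good m (1 : F[X]) s ↔ s = (false, false) := by
  constructor
  · rintro ⟨-, -, h1, h2⟩
    apply Prod.ext
    · by_contra h
      exact COUNTSSP.not_X_sub_one_dvd_one (h1 (by simpa using h)).2
    · by_contra h
      exact COUNTSSP.not_X_add_one_dvd_one (h2 (by simpa using h)).2
  · rintro rfl
    refine ⟨COUNTSSP.tilde0_one, fun _ => ⟨by simp, by simp⟩, fun h => by simp at h,
      fun h => by simp at h⟩

end defs

section count

variable {F : Type u} [Field F] [Fintype F]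

theorem card_Entry (hodd : Odd (Fintype.card F)) (m d : ℕ) :
    Nat.card (CGEN.Entry (Good (F := F)) m d) =
      CGEN.EO (Fintype.card F) (Wev (Fintype.card F)) m d := by
  unfold CGEN.EO
  split_ifs with hm hd
  · -- `m` even, `d` even
    obtain ⟨a, ha⟩ := hd
    have hda : d = 2 * a := by omega
    have hd2 : d / 2 = a := by omega
    have hmo : ¬ Odd m := Nat.not_odd_iff_even.2 hm
    rw [hd2, ← SRCARD.card_pal (F := F) a]
    refine Nat.card_congr
      { toFun := fun e => ⟨e.1.1, e.2.1.1, by rw [e.2.1.2.1, hda], (e.2.2.2.1 hm).1, e.2.2.1⟩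
        invFun := fun h => ⟨(h.1, (false, false)), ⟨h.2.1, by rw [h.2.2.1, hda], by
            rw [h.2.2.2.1]
            exact one_ne_zero⟩,
          h.2.2.2.2, fun _ => ⟨h.2.2.2.1, by rw [h.2.2.1]; exact even_two_mul a⟩,
          fun h' => by simp at h', fun h' => by simp at h'⟩
        left_inv := ?_
        right_inv := ?_ }
    · intro e
      apply Subtype.ext
      apply Prod.ext
      · rfl
      · have h1 : e.1.2.1 = false := by
          by_contra h
          have := (e.2.2.2.2.1 (by simpa using h)).1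
          exact hmo this
        have h2 : e.1.2.2 = false := by
          by_contra h
          have := (e.2.2.2.2.2 (by simpa using h)).1
          exact hmo this
        exact (Prod.ext h1 h2).symm
    · intro h
      rfl
  · -- `m` even, `d` odd: no entries
    rw [Nat.card_eq_zero]
    left
    constructor
    rintro ⟨e, ⟨-, hdeg, -⟩, -, ho, -⟩
    apply hd
    rw [← hdeg]
    exact (ho hm).2
  · -- `m` odd
    have hmo : Odd m := Nat.not_even_iff_odd.1 hm
    rw [← WEVCARD.card_wev hodd d]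
    refine Nat.card_congr (Equiv.subtypeEquivRight fun e => ?_)
    constructor
    · rintro ⟨⟨h1, h2, h3⟩, h4, -, h5, h6⟩
      exact ⟨h1, h2, h3, h4, fun h => (h5 h).2, fun h => (h6 h).2⟩
    · rintro ⟨h1, h2, h3, h4, h5, h6⟩
      exact ⟨⟨h1, h2, h3⟩, h4, fun h => absurd h hm, fun h => ⟨hmo, h5 h⟩, fun h => ⟨hmo, h6 h⟩⟩

end count

end COUNTSO

section count

variable {F : Type u} [Field F] [Fintype F]

theorem COUNTSO.card_SO (hodd : Odd (Fintype.card F)) (r N : ℕ) :
    (SO F r N).Finite ∧ Nat.card (SO F r N) = AO (Fintype.card F) r N := by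
  rw [COUNTSO.SO_eq, CGEN.AO_eq_AG, ← CGEN.AS_eq_AG]
  exact CGEN.card_SS (false, false) COUNTSO.good_one _ (COUNTSO.card_Entry hodd) r N

end count

end Cfsg.Agent.S2558P
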