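import Mathlib
import Cfsg.Agent.Helper17.S2558GDefs
import Cfsg.Agent.Helper28.Spin5
import Cfsg.Agent.Helper10.S2558DISC

/-! S2560 chapter (S), piece THNEGCORE (driver helper17): an isometry which is `-1` on the span of a
family `v` with invertible Gram matrix and `1` on its orthogonal complement is a product of `m`
reflections whose norm product is the Gram determinant up to a square. -/

set_option autoImplicit false
set_option linter.unusedSectionVars false

namespace Cfsg.Agent.S2560P

open Polynomial Cfsg.Agent.Helper2.SympInvol Cfsg.Agent.S2676P Cfsg.Agent.S2478P Cfsg.Agent.S2481P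
  Cfsg.Agent.S2482P Cfsg.Agent.S2558P Cfsg.Agent.Helper28.Spin

open Matrix

universe u

variable {F : Type u} [Field F] [Fintype F] {ι : Type} [Fintype ι] [DecidableEq ι]

namespace THNEGCORE

/-- `polar Q a b = 2 B a b` -/
theorem polar_eq (Q : QuadraticForm F (ι → F)) (B : LinearMap.BilinForm F (ι → F))
    (hQB : IsPolar ⇑Q B) (a b : ι → F) : QuadraticMap.polar ⇑Q a b = 2 * B a b := by
  unfold QuadraticMap.polar
  rw [hQB.eq, hQB.eq, hQB.eq]
  simp only [map_add, LinearMap.add_apply]
  rw [hQB.symm b a]
  ring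

/-- a product of reflections fixes the vectors orthogonal to all the mirrors -/
theorem prod_refl_fix (Q : QuadraticForm F (ι → F)) {k : ℕ} (u : Fin k → ι → F) (w : ι → F)
    (hw : ∀ i, QuadraticMap.polar ⇑Q (u i) w = 0) (l : List (Fin k)) :
    (l.map (fun i => Cfsg.reflectionMatrix ⇑Q (u i))).prod *ᵥ w = w := by
  induction l with
  | nil => simp
  | cons i l ih =>
    rw [List.map_cons, List.prod_cons, ← Matrix.mulVec_mulVec, ih, refl_fix Q (hw i)]

/-- the family `v` is linearly independent -/
theorem linearIndependent_of_gram (B : LinearMap.BilinForm F (ι → F)) (m : ℕ) (v : Fin m → ι → F)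
    (hd : (Matrix.of fun i j => B (v i) (v j)).det ≠ 0) : LinearIndependent F v := by
  rw [Fintype.linearIndependent_iff]
  intro g hg
  have h1 : Matrix.vecMul g (Matrix.of fun i j => B (v i) (v j)) = 0 := by
    funext j
    simp only [Matrix.vecMul, dotProduct, Matrix.of_apply, Pi.zero_apply]
    have h2 : B (∑ i, g i • v i) (v j) = 0 := by rw [hg]; simp
    rw [map_sum, LinearMap.sum_apply] at h2
    simpa [LinearMap.smul_apply, smul_eq_mul] using h2
  have h3 := Matrix.eq_zero_of_vecMul_eq_zero hd h1
  intro i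
  exact congrFun h3 i

/-- decomposition of a vector along the span of `v` and its orthogonal complement -/
theorem exists_decomp (B : LinearMap.BilinForm F (ι → F)) (m : ℕ) (v : Fin m → ι → F)
    (hd : (Matrix.of fun i j => B (v i) (v j)).det ≠ 0) (z : ι → F) :
    ∃ c : Fin m → F, ∀ i, B (z - ∑ j, c j • v j) (v i) = 0 := by
  set G : Matrix (Fin m) (Fin m) F := Matrix.of fun i j => B (v i) (v j) with hG
  refine ⟨Matrix.vecMul (fun i => B z (v i)) G⁻¹, fun i => ?_⟩
  have h1 : Matrix.vecMul (Matrix.vecMul (fun i => B z (v i)) G⁻¹) G = fun i => B z (v i) := by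
    rw [Matrix.vecMul_vecMul, Matrix.nonsing_inv_mul G (isUnit_iff_ne_zero.mpr hd),
      Matrix.vecMul_one]
  have h2 := congrFun h1 i
  simp only [Matrix.vecMul, dotProduct, hG, Matrix.of_apply] at h2
  rw [map_sub, LinearMap.sub_apply, map_sum, LinearMap.sum_apply, sub_eq_zero]
  simp only [map_smul, LinearMap.smul_apply, smul_eq_mul]
  rw [← h2]
  rfl

end THNEGCORE

theorem THNEGCORE.exists_prodO (h2 : (2 : F) ≠ 0) (Q : QuadraticForm F (ι → F))
    (B : LinearMap.BilinForm F (ι → F)) (hQB : IsPolar ⇑Q B) (m : ℕ) (v : Fin m → ι → F)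
    (hd : (Matrix.of fun i j => B (v i) (v j)).det ≠ 0) (x : Cfsg.isometryGroup F ⇑Q)
    (hx : ∀ i, Matrix.toLin' ((x : Matrix.GeneralLinearGroup ι F) : Matrix ι ι F) (v i) = - v i)
    (hxo : ∀ u, (∀ i, B u (v i) = 0) →
      Matrix.toLin' ((x : Matrix.GeneralLinearGroup ι F) : Matrix ι ι F) u = u) :
    ∃ L : List (NS Q), x = prodO Q L ∧ L.length = m ∧
      IsSquare (normProd Q L * (Matrix.of fun i j => B (v i) (v j)).det) := by
  classical
  have : Invertible (2 : F) := invertibleOfNonzero h2
  have hli := THNEGCORE.linearIndependent_of_gram B m v hd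
  set A : Submodule F (ι → F) := Submodule.span F (Set.range v) with hA
  let bv : Module.Basis (Fin m) F A := Module.Basis.span hli
  have hbv : ∀ i, ((bv i : A) : ι → F) = v i := by
    intro i
    show ((Module.Basis.span hli i : A) : ι → F) = v i
    rw [Module.Basis.span_apply]
  set BA : LinearMap.BilinForm F A := B.restrict A with hBA
  have hBA_apply : ∀ a b : A, BA a b = B (a : ι → F) (b : ι → F) := fun a b => rfl
  have hsymm : LinearMap.IsSymm BA := ⟨fun a b => by
    simp only [RingHom.id_apply]; rw [hBA_apply, hBA_apply, hQB.symm]⟩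
  have hk : Module.finrank F A = m := by
    rw [Module.finrank_eq_card_basis bv, Fintype.card_fin]
  obtain ⟨bu0, hbu0⟩ := LinearMap.BilinForm.exists_orthogonal_basis hsymm
  let bu : Module.Basis (Fin m) F A := bu0.reindex (finCongr hk)
  have hbu : ∀ i j : Fin m, i ≠ j → B ((bu i : A) : ι → F) ((bu j : A) : ι → F) = 0 := by
    intro i j hij
    have h := (LinearMap.isOrthoᵢ_def.1 hbu0) ((finCongr hk).symm i) ((finCongr hk).symm j)
      (fun h => hij ((finCongr hk).symm.injective h))
    simp only [bu, Module.Basis.reindex_apply]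
    exact h
  -- the Gram matrices
  have hGv : LinearMap.BilinForm.toMatrix bv BA = Matrix.of fun i j => B (v i) (v j) := by
    ext i j
    rw [LinearMap.BilinForm.toMatrix_apply, hBA_apply, hbv, hbv]
    rfl
  have hGu : LinearMap.BilinForm.toMatrix bu BA =
      Matrix.diagonal (fun i => B ((bu i : A) : ι → F) ((bu i : A) : ι → F)) := by
    ext i j
    rw [LinearMap.BilinForm.toMatrix_apply, hBA_apply]
    by_cases hij : i = j
    · subst hij; rw [Matrix.diagonal_apply_eq]
    · rw [Matrix.diagonal_apply_ne _ hij, hbu i j hij]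
  have hdet := DISC.det_toMatrix_change BA bv bu
  rw [hGv, hGu, Matrix.det_diagonal] at hdet
  have hP := DISC.det_basis_toMatrix_ne_zero bv bu
  have hprod_ne : (∏ i, B ((bu i : A) : ι → F) ((bu i : A) : ι → F)) ≠ 0 := by
    rw [hdet]
    exact mul_ne_zero (pow_ne_zero 2 hP) hd
  have hnorm : ∀ i, Q ((bu i : A) : ι → F) ≠ 0 := by
    intro i
    rw [hQB.eq]
    exact (Finset.prod_ne_zero_iff.1 hprod_ne) i (Finset.mem_univ i)
  set u : Fin m → ι → F := fun i => ((bu i : A) : ι → F) with hu
  have hpol : ∀ i j, i ≠ j → QuadraticMap.polar ⇑Q (u i) (u j) = 0 := by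
    intro i j hij
    rw [THNEGCORE.polar_eq Q B hQB, hbu i j hij, mul_zero]
  set L : List (NS Q) := (List.finRange m).map (fun i => (⟨u i, hnorm i⟩ : NS Q)) with hL
  set P : Matrix ι ι F :=
    ((List.finRange m).map (fun i => Cfsg.reflectionMatrix ⇑Q (u i))).prod with hPdef
  have hPval : ((prodO Q L : GL ι F) : Matrix ι ι F) = P := by
    rw [prodO_val, hL, List.map_map]
    rfl
  -- `P` is `-1` on `A`
  have hPu : ∀ j, P *ᵥ u j = - u j := by
    intro j
    have h := prod_refl_apply Q u hnorm hpol (List.finRange m) (List.nodup_finRange m) j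
    rw [if_pos (List.mem_finRange j)] at h
    exact h
  have hPA : ∀ a : A, P *ᵥ (a : ι → F) = - (a : ι → F) := by
    intro a
    have h1 : (Matrix.mulVecLin P).comp A.subtype = - A.subtype := by
      apply bu.ext
      intro i
      simp only [LinearMap.comp_apply, Submodule.subtype_apply, Matrix.mulVecLin_apply,
        LinearMap.neg_apply]
      exact hPu i
    have h2 := LinearMap.congr_fun h1 a
    simpa using h2
  have hvA : ∀ i, v i ∈ A := fun i => Submodule.subset_span ⟨i, rfl⟩
  have hPv : ∀ i, P *ᵥ v i = - v i := fun i => hPA ⟨v i, hvA i⟩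
  -- `P` is `1` on the orthogonal complement of `A`
  have hPo : ∀ w, (∀ i, B w (v i) = 0) → P *ᵥ w = w := by
    intro w hw
    apply THNEGCORE.prod_refl_fix Q u w _ (List.finRange m)
    intro i
    rw [THNEGCORE.polar_eq Q B hQB, hQB.symm]
    have h1 : ∀ a ∈ A, B w a = 0 := by
      intro a ha
      refine Submodule.span_induction ?_ ?_ ?_ ?_ ha
      · rintro _ ⟨j, rfl⟩; exact hw j
      · simp
      · intro a b _ _ h1 h2; rw [map_add, h1, h2, add_zero]
      · intro c a _ h1; rw [map_smul, h1, smul_zero]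
    rw [h1 _ (bu i).2, mul_zero]
  -- `x = prodO Q L`
  have hxP : ((x : GL ι F) : Matrix ι ι F) = P := by
    apply matrix_ext_mulVec
    intro z
    obtain ⟨c, hc⟩ := THNEGCORE.exists_decomp B m v hd z
    have hz : z = (z - ∑ j, c j • v j) + ∑ j, c j • v j := by abel
    have hx' : ∀ i, ((x : GL ι F) : Matrix ι ι F) *ᵥ v i = - v i := fun i => by
      have := hx i
      rwa [Matrix.toLin'_apply] at this
    have hxo' : ((x : GL ι F) : Matrix ι ι F) *ᵥ (z - ∑ j, c j • v j) = z - ∑ j, c j • v j := by
      have := hxo _ hc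
      rwa [Matrix.toLin'_apply] at this
    rw [hz, Matrix.mulVec_add, Matrix.mulVec_add, hxo', hPo _ hc, Matrix.mulVec_sum,
      Matrix.mulVec_sum]
    congr 1
    apply Finset.sum_congr rfl
    intro j _
    rw [Matrix.mulVec_smul, Matrix.mulVec_smul, hx', hPv]
  refine ⟨L, ?_, ?_, ?_⟩
  · apply Subtype.ext
    apply Units.ext
    rw [hxP, ← hPval]
  · rw [hL, List.length_map, List.length_finRange]
  · have hnp : normProd Q L = ∏ i, B (u i) (u i) := by
      rw [normProd, hL, List.map_map, Fin.prod_univ_def]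
      congr 1
      apply List.map_congr_left
      intro i _
      simp only [Function.comp_apply]
      rw [hQB.eq]
    rw [hnp, hdet]
    refine ⟨(bv.toMatrix bu).det * (Matrix.of fun i j => B (v i) (v j)).det, ?_⟩
    ring

end Cfsg.Agent.S2560P
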