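import Mathlib

/-!
# S4057 (Laffey): definitions shared by the pieces (driver helper26)

Upper unitriangular matrices over `ZMod p`, the total order on the positions above the diagonal
(first by the index `b - a` of the superdiagonal, then by the row `a`), leading positions.
-/

set_option autoImplicit false

namespace Cfsg.Agent.S4057P

/-- upper unitriangular: ones on the diagonal, zeros below it -/
def IsUT {n p : ℕ} (A : Matrix (Fin n) (Fin n) (ZMod p)) : Prop :=
  (∀ i, A i i = 1) ∧ ∀ i j : Fin n, j < i → A i j = 0

/-- the key ordering the positions `(a, b)`, `a < b`: superdiagonal index first, then the row -/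
def key {n : ℕ} (a b : Fin n) : ℕ ×ₗ ℕ := toLex ((b : ℕ) - (a : ℕ), (a : ℕ))

/-- `A` has zero entries at all positions above the diagonal that come before `(a, b)` -/
def Below {n p : ℕ} (A : Matrix (Fin n) (Fin n) (ZMod p)) (a b : Fin n) : Prop :=
  ∀ c d : Fin n, c < d → key c d < key a b → A c d = 0

/-- `(a, b)` is the leading position of `A`: the first position above the diagonal with a nonzero
entry -/
def HasLead {n p : ℕ} (A : Matrix (Fin n) (Fin n) (ZMod p)) (a b : Fin n) : Prop :=
  a < b ∧ Below A a b ∧ A a b ≠ 0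

/-- the leading positions of the elements of a subgroup -/
def leadSet {n p : ℕ} {Q : Type*} [Group Q] (ρ : Q →* Matrix (Fin n) (Fin n) (ZMod p))
    (X : Subgroup Q) : Set (Fin n × Fin n) :=
  {π | ∃ g ∈ X, HasLead (ρ g) π.1 π.2}

/-- `N` is elementary abelian (for the prime `p`) -/
def ElAb (p : ℕ) {P : Type*} [Group P] (N : Subgroup P) : Prop :=
  (∀ x ∈ N, ∀ y ∈ N, x * y = y * x) ∧ ∀ x ∈ N, x ^ p = 1

/-- `N` is a maximal normal elementary abelian subgroup -/
def MaxElAb (p : ℕ) {P : Type*} [Group P] (N : Subgroup P) : Prop :=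
  N.Normal ∧ ElAb p N ∧ ∀ M : Subgroup P, M.Normal → ElAb p M → N ≤ M → M = N

end Cfsg.Agent.S4057P
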