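import Mathlib
import Cfsg.Prelude.Def_GeometricClasses
import Cfsg.Agent.Helper20.S6000Defs

/-! S6000 piece QUAT (driver helper20): two commuting quaternion pairs `(s, s')`, `(t, t')` inside
`R = 4 ∘ 2^{1+4}`.  The sub-namespace `QUAT` has sign-calculus lemmas in a group with distributive
negation, the scalars of `R`, NONCENT (`QUAT.exists_anti`) and the adjusting lemma. -/

set_option autoImplicit false
open scoped MatrixGroups Matrix

namespace Cfsg.Agent.S6000P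

namespace QUAT

section signs

variable {G : Type*} [Group G] [HasDistribNeg G]

lemma comm_of_anti_anti {g x y : G} (hgx : g * x = -(x * g)) (hyx : y * x = -(x * y)) :
    (g * y) * x = x * (g * y) := by
  calc (g * y) * x = g * (y * x) := mul_assoc _ _ _
    _ = -(g * x * y) := by rw [hyx, mul_neg, mul_assoc]
    _ = x * (g * y) := by rw [hgx, neg_mul, neg_neg, mul_assoc]

omit [HasDistribNeg G] in
lemma comm_of_comm_comm {g x y : G} (hgx : g * x = x * g) (hyx : y * x = x * y) :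
    (g * y) * x = x * (g * y) := by
  rw [mul_assoc, hyx, ← mul_assoc, hgx, mul_assoc]

lemma anti_of_anti_comm {g x y : G} (hgx : g * x = -(x * g)) (hyx : y * x = x * y) :
    (g * y) * x = -(x * (g * y)) := by
  rw [mul_assoc, hyx, ← mul_assoc, hgx, neg_mul, mul_assoc]

lemma anti_of_comm_anti {g x y : G} (hgx : g * x = x * g) (hyx : y * x = -(x * y)) :
    (g * y) * x = -(x * (g * y)) := by
  rw [mul_assoc, hyx, mul_neg, ← mul_assoc, hgx, mul_assoc]

lemma anti_symm {x y : G} (h : x * y = -(y * x)) : y * x = -(x * y) := by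
  rw [h, neg_neg]

/-- multiplying by a central element keeps (anti)commutation: left factor -/
lemma upgrade_left {c x x' y : G} (hc : ∀ a : G, c * a = a * c) (hx' : x' = x ∨ x' = c * x) :
    (x * y = y * x → x' * y = y * x') ∧ (x * y = -(y * x) → x' * y = -(y * x')) := by
  rcases hx' with rfl | rfl
  · exact ⟨id, id⟩
  · constructor
    · intro h
      rw [mul_assoc, h, ← mul_assoc, ← mul_assoc, hc y]
    · intro h
      rw [mul_assoc, h, mul_neg, ← mul_assoc, ← mul_assoc, hc y]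

/-- multiplying by a central element keeps (anti)commutation: right factor -/
lemma upgrade_right {c x y y' : G} (hc : ∀ a : G, c * a = a * c) (hy' : y' = y ∨ y' = c * y) :
    (x * y = y * x → x * y' = y' * x) ∧ (x * y = -(y * x) → x * y' = -(y' * x)) := by
  rcases hy' with rfl | rfl
  · exact ⟨id, id⟩
  · constructor
    · intro h
      rw [← mul_assoc, ← hc x, mul_assoc, h, mul_assoc]
    · intro h
      rw [← mul_assoc, ← hc x, mul_assoc, h, mul_neg, mul_assoc]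

lemma sq_central_mul {c x : G} (hc : ∀ a : G, c * a = a * c) (hcc : c * c = -1)
    (hxx : x * x = 1) : (c * x) * (c * x) = -1 := by
  rw [mul_assoc, ← mul_assoc x c x, ← hc x, mul_assoc c x x, hxx, mul_one, hcc]

end signs

variable {F : Type*} [Field F] {R : Subgroup (GL (Fin 4) F)} {ι : F}

/-- the scalar `ι` as an element of `R`, with its properties -/
lemma exists_iota (h : Hyp64 R ι) :
    ∃ c ∈ R, (c : M4 F) = ι • (1 : M4 F) ∧ (∀ a : GL (Fin 4) F, c * a = a * c) ∧ c * c = -1 := by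
  obtain ⟨c, hcR, hc⟩ := h.iota_mem
  refine ⟨c, hcR, hc, gl_comm_of_scalar hc, ?_⟩
  apply Units.ext
  rw [Units.val_mul, hc, coe_neg_one, Matrix.smul_mul, Matrix.mul_smul, Matrix.one_mul, smul_smul,
    h.iota_sq, neg_one_smul]

/-- the scalars of `R` -/
lemma scalar_mem (h : Hyp64 R ι) {c : GL (Fin 4) F} (hc : (c : M4 F) = ι • (1 : M4 F))
    (a : GL (Fin 4) F) (ha : a ∈ R) (z : F) (hz : (a : M4 F) = z • (1 : M4 F)) :
    a = 1 ∨ a = -1 ∨ a = c ∨ a = -c := by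
  have hsq : ((a * a : GL (Fin 4) F) : M4 F) = (z * z) • (1 : M4 F) := by
    rw [Units.val_mul, hz, Matrix.smul_mul, Matrix.mul_smul, Matrix.one_mul, smul_smul]
  rcases h.sq a ha with h1 | h1
  · rw [h1] at hsq
    have h' := congrFun (congrFun hsq 0) 0
    simp at h'
    have h3 : (z - 1) * (z + 1) = 0 := by linear_combination -h'
    rcases mul_eq_zero.mp h3 with h4 | h4
    · left
      apply Units.ext
      rw [hz, sub_eq_zero.mp h4, one_smul]; rfl
    · right; left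
      apply Units.ext
      rw [hz, eq_neg_of_add_eq_zero_left h4, coe_neg_one, neg_one_smul]
  · rw [h1, coe_neg_one] at hsq
    have h' := congrFun (congrFun hsq 0) 0
    simp at h'
    have h3 : (z - ι) * (z + ι) = 0 := by linear_combination -h' - h.iota_sq
    rcases mul_eq_zero.mp h3 with h4 | h4
    · right; right; left
      apply Units.ext
      rw [hz, hc, sub_eq_zero.mp h4]
    · right; right; right
      apply Units.ext
      rw [hz, coe_neg, hc, eq_neg_of_add_eq_zero_left h4, neg_smul]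

/-- NONCENT, proved here to keep the piece self-contained -/
lemma exists_anti (h : Hyp64 R ι) (a : GL (Fin 4) F) (ha : a ∈ R)
    (hns : ∀ z : F, (a : M4 F) ≠ z • (1 : M4 F)) : ∃ b ∈ R, a * b = -(b * a) := by
  by_contra hcon
  push Not at hcon
  obtain ⟨z, hz⟩ := h.scalar_of_commute (a : M4 F) (by
    intro b hb
    rcases h.comm a ha b hb with h1 | h1
    · rw [← Units.val_mul, ← Units.val_mul, h1]
    · exact absurd h1 (hcon b hb))
  exact hns z hz

/-- `R` is not contained in a set with fewer than 64 elements -/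
lemma exists_not_mem (h : Hyp64 R ι) (S : Finset (GL (Fin 4) F)) (hS : S.card < 64) :
    ∃ g ∈ R, g ∉ S := by
  by_contra hcon
  push Not at hcon
  have hsub : (R : Set (GL (Fin 4) F)) ⊆ (S : Set (GL (Fin 4) F)) := fun g hg => hcon g hg
  have h1 : Nat.card (R : Set (GL (Fin 4) F)) ≤ Nat.card (S : Set (GL (Fin 4) F)) :=
    Nat.card_mono (Finset.finite_toSet S) hsub
  have h2 : Nat.card (S : Set (GL (Fin 4) F)) = S.card := by
    rw [Nat.card_coe_set_eq, Set.ncard_coe_finset]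
  have h3 : Nat.card (R : Set (GL (Fin 4) F)) = 64 := h.card
  omega

/-- adjust `g` by a word in the anticommuting pair `a₁, b₁` so that it commutes with both -/
lemma adjust (h : Hyp64 R ι) [DecidableEq (GL (Fin 4) F)] {a₁ b₁ : GL (Fin 4) F} (ha : a₁ ∈ R)
    (hb : b₁ ∈ R) (hab : a₁ * b₁ = -(b₁ * a₁)) (g : GL (Fin 4) F) (hg : g ∈ R) :
    ∃ w ∈ ({1, b₁, a₁, b₁ * a₁} : Finset (GL (Fin 4) F)), w ∈ R ∧
      (g * w) * a₁ = a₁ * (g * w) ∧ (g * w) * b₁ = b₁ * (g * w) := by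
  have hba : b₁ * a₁ = -(a₁ * b₁) := anti_symm hab
  -- step 1
  obtain ⟨w₁, hw₁, hw₁R, h1⟩ : ∃ w₁ : GL (Fin 4) F, (w₁ = 1 ∨ w₁ = b₁) ∧ w₁ ∈ R ∧
      (g * w₁) * a₁ = a₁ * (g * w₁) := by
    rcases h.comm g hg a₁ ha with hc | hc
    · exact ⟨1, Or.inl rfl, R.one_mem, by rw [mul_one]; exact hc⟩
    · exact ⟨b₁, Or.inr rfl, hb, comm_of_anti_anti hc hba⟩
  -- step 2
  obtain ⟨w₂, hw₂, hw₂R, h2, h3⟩ : ∃ w₂ : GL (Fin 4) F, (w₂ = 1 ∨ w₂ = a₁) ∧ w₂ ∈ R ∧
      ((g * w₁) * w₂) * a₁ = a₁ * ((g * w₁) * w₂) ∧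
      ((g * w₁) * w₂) * b₁ = b₁ * ((g * w₁) * w₂) := by
    rcases h.comm (g * w₁) (R.mul_mem hg hw₁R) b₁ hb with hc | hc
    · exact ⟨1, Or.inl rfl, R.one_mem, by rw [mul_one]; exact h1, by rw [mul_one]; exact hc⟩
    · exact ⟨a₁, Or.inr rfl, ha, comm_of_comm_comm h1 rfl, comm_of_anti_anti hc hab⟩
  refine ⟨w₁ * w₂, ?_, R.mul_mem hw₁R hw₂R, ?_, ?_⟩
  · rcases hw₁ with rfl | rfl <;> rcases hw₂ with rfl | rfl <;> simp
  · rw [← mul_assoc]; exact h2
  · rw [← mul_assoc]; exact h3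

end QUAT

open QUAT in
/-- QUAT -/
theorem exists_quat_pairs {F : Type*} [Field F] {R : Subgroup (GL (Fin 4) F)} {ι : F}
    (h : Hyp64 R ι) :
    ∃ s s' t t' : GL (Fin 4) F, s ∈ R ∧ s' ∈ R ∧ t ∈ R ∧ t' ∈ R ∧
      s * s = -1 ∧ s' * s' = -1 ∧ t * t = -1 ∧ t' * t' = -1 ∧
      s * s' = -(s' * s) ∧ t * t' = -(t' * t) ∧
      s * t = t * s ∧ s * t' = t' * s ∧ s' * t = t * s' ∧ s' * t' = t' * s' := by
  classical
  obtain ⟨c, hcR, hc, hccomm, hcc⟩ := exists_iota h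
  -- a nonscalar element
  obtain ⟨a₁, ha₁R, ha₁S⟩ := exists_not_mem h ({1, -1, c, -c} : Finset (GL (Fin 4) F))
    (lt_of_le_of_lt (Finset.card_le_four) (by norm_num))
  have hns : ∀ g ∈ R, g ∉ ({1, -1, c, -c} : Finset (GL (Fin 4) F)) →
      ∀ z : F, (g : M4 F) ≠ z • (1 : M4 F) := by
    intro g hgR hgS z hz
    apply hgS
    have := scalar_mem h hc g hgR z hz
    simp only [Finset.mem_insert, Finset.mem_singleton]
    exact this
  obtain ⟨b₁, hb₁R, hab₁⟩ := exists_anti h a₁ ha₁R (hns a₁ ha₁R ha₁S)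
  -- an element outside `Z ⟨a₁, b₁⟩`
  obtain ⟨g, hgR, hgS⟩ := exists_not_mem h
    ((({1, -1, c, -c} : Finset (GL (Fin 4) F)) ×ˢ
      ({1, b₁, a₁, b₁ * a₁} : Finset (GL (Fin 4) F))).image (fun p => p.1 * p.2⁻¹))
    (by
      refine lt_of_le_of_lt Finset.card_image_le ?_
      rw [Finset.card_product]
      have h1 : ({1, -1, c, -c} : Finset (GL (Fin 4) F)).card ≤ 4 := Finset.card_le_four
      have h2 : ({1, b₁, a₁, b₁ * a₁} : Finset (GL (Fin 4) F)).card ≤ 4 := Finset.card_le_four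
      calc _ ≤ 4 * 4 := Nat.mul_le_mul h1 h2
        _ < 64 := by norm_num)
  obtain ⟨w, hwT, hwR, hga, hgb⟩ := adjust h ha₁R hb₁R hab₁ g hgR
  obtain ⟨a₂, ha₂⟩ : ∃ a₂, a₂ = g * w := ⟨_, rfl⟩
  rw [← ha₂] at hga hgb
  have ha₂R : a₂ ∈ R := by rw [ha₂]; exact R.mul_mem hgR hwR
  have ha₂S : a₂ ∉ ({1, -1, c, -c} : Finset (GL (Fin 4) F)) := by
    intro hmem
    apply hgS
    refine Finset.mem_image.mpr ⟨(a₂, w), Finset.mem_product.mpr ⟨hmem, hwT⟩, ?_⟩
    rw [ha₂]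
    group
  obtain ⟨b₂', hb₂'R, hab₂'⟩ := exists_anti h a₂ ha₂R (hns a₂ ha₂R ha₂S)
  obtain ⟨w', hw'T, hw'R, hba, hbb⟩ := adjust h ha₁R hb₁R hab₁ b₂' hb₂'R
  obtain ⟨b₂, hb₂⟩ : ∃ b₂, b₂ = b₂' * w' := ⟨_, rfl⟩
  rw [← hb₂] at hba hbb
  have hb₂R : b₂ ∈ R := by rw [hb₂]; exact R.mul_mem hb₂'R hw'R
  -- `w'` commutes with `a₂`
  have hw'a₂ : w' * a₂ = a₂ * w' := by
    simp only [Finset.mem_insert, Finset.mem_singleton] at hw'T
    rcases hw'T with rfl | rfl | rfl | rfl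
    · rw [one_mul, mul_one]
    · exact hgb.symm
    · exact hga.symm
    · rw [mul_assoc, ← hga, ← mul_assoc, ← hgb, mul_assoc]
  have hab₂ : a₂ * b₂ = -(b₂ * a₂) := by
    have h1 : b₂' * a₂ = -(a₂ * b₂') := anti_symm hab₂'
    have h2 := anti_of_anti_comm h1 hw'a₂
    rw [hb₂, h2, neg_neg]
  -- fix the squares
  have hfix : ∀ x ∈ R, ∃ x' ∈ R, x' * x' = -1 ∧ (x' = x ∨ x' = c * x) := by
    intro x hx
    rcases h.sq x hx with h1 | h1
    · exact ⟨c * x, R.mul_mem hcR hx, sq_central_mul hccomm hcc h1, Or.inr rfl⟩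
    · exact ⟨x, hx, h1, Or.inl rfl⟩
  obtain ⟨s, hsR, hss, hs⟩ := hfix a₁ ha₁R
  obtain ⟨s', hs'R, hs's', hs'⟩ := hfix b₁ hb₁R
  obtain ⟨t, htR, htt, ht⟩ := hfix a₂ ha₂R
  obtain ⟨t', ht'R, ht't', ht'⟩ := hfix b₂ hb₂R
  refine ⟨s, s', t, t', hsR, hs'R, htR, ht'R, hss, hs's', htt, ht't', ?_, ?_, ?_, ?_, ?_, ?_⟩
  · exact (upgrade_right hccomm hs').2 ((upgrade_left hccomm hs).2 hab₁)
  · exact (upgrade_right hccomm ht').2 ((upgrade_left hccomm ht).2 hab₂)
  · exact (upgrade_right hccomm ht).1 ((upgrade_left hccomm hs).1 hga.symm)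
  · exact (upgrade_right hccomm ht').1 ((upgrade_left hccomm hs).1 hba.symm)
  · exact (upgrade_right hccomm ht).1 ((upgrade_left hccomm hs').1 hgb.symm)
  · exact (upgrade_right hccomm ht').1 ((upgrade_left hccomm hs').1 hbb.symm)

end Cfsg.Agent.S6000P
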