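import Mathlib
import Cfsg.Agent.Helper27.S4700Defs
import Cfsg.Agent.Helper27.S4700K
import Cfsg.Agent.Helper24.SmallDegree
import Cfsg.Agent.Helper24.SelfCentD
import Cfsg.Agent.Helper24.Abelian

set_option autoImplicit false

/-! # S4700 piece DEGF: degrees of the characters in `X₊` and `Y` (port of S0996 DEG) -/

namespace Cfsg.Agent.S4700P

open Cfsg Cfsg.Agent.Helper24 Cfsg.Agent.Helper1.W2p Cfsg.Agent.S0996P Cfsg.Agent.S4503P
  Cfsg.Agent.S0999P

universe u

variable {G : Type u} [Group G]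

section L4
variable [Fintype G] [Fintype (IrrCharacter G)] {p : ℕ} [Fact p.Prime] {P : Subgroup G} {n : ℕ}
  [Fintype (Lin P)]

/-- DEGF -/
theorem deg_facts (B : BasicF p P n) (D : BrauerData p P) :
    (∀ χ ∈ D.X, D.δ χ = 1 → χ ≠ trivIrr G → irrDeg χ = 1 + n * p) ∧
    (D.ε = 1 → ∀ ψ ∈ D.Y, irrDeg ψ = eN P ∧ D.a ψ = 0) ∧
    (D.ε = -1 → ∀ ψ ∈ D.Y,
      Nat.card D.Y * irrDeg ψ = 1 + n * p ∧ D.a ψ * Nat.card D.Y = n + 1) := by
  have hp : p.Prime := Fact.out
  have hp2 := hp.two_le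
  have he2 := B.two_le_eN
  have hn1 := B.one_le_n
  have hdvd : ∀ χ : IrrCharacter G, irrDeg χ ∣ p * (eN P * (1 + n * p)) := by
    intro χ
    rw [← mul_assoc, ← B.card_G]
    exact irrDeg_dvd_card χ
  have hdvd' : ∀ χ : IrrCharacter G, ¬ p ∣ irrDeg χ → irrDeg χ ∣ eN P * (1 + n * p) := by
    intro χ h
    have hc : Nat.Coprime (irrDeg χ) p :=
      Nat.Coprime.symm ((Nat.Prime.coprime_iff_not_dvd hp).mpr h)
    exact hc.dvd_of_dvd_mul_left (hdvd χ)
  have helt : eN P < p := by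
    have := Nat.le_of_dvd (by omega) B.eN_dvd
    omega
  have hnpe : ¬ p ∣ eN P := by
    intro h
    have := Nat.le_of_dvd (by omega) h
    omega
  have htrivY : ∀ ψ ∈ D.Y, ψ ≠ trivIrr G := by
    intro ψ hψ h
    rw [h] at hψ
    exact (Set.disjoint_left.mp D.disj D.triv_mem) hψ
  refine ⟨?_, ?_, ?_⟩
  · intro χ hχ hδ hne
    have h1 := D.deg_X χ hχ
    rw [hδ] at h1
    have hmod : irrDeg χ % p = 1 := by
      have h2 : ((irrDeg χ : ℕ) : ℤ) % (p : ℤ) = 1 % (p : ℤ) := h1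
      have h3 : (1 : ℤ) % (p : ℤ) = 1 :=
        Int.emod_eq_of_lt (by norm_num) (by exact_mod_cast hp.one_lt)
      rw [h3] at h2
      exact_mod_cast h2
    have hnd : ¬ p ∣ irrDeg χ := by
      intro h
      have := Nat.mod_eq_zero_of_dvd h
      omega
    exact arith_K1F hp B.eN_dvd B.notF (hdvd' χ hnd) hmod
      (Cfsg.Agent.Helper24.SelfCent.irrDeg_ne_one_of_perfect B.perf χ hne)
  · intro hε ψ hψ
    have h1 := D.deg_Y ψ hψ
    rw [hε, one_mul] at h1
    have hdu : irrDeg ψ = D.a ψ * p + eN P := by exact_mod_cast h1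
    have hsq : irrDeg ψ * irrDeg ψ < p * eN P * (1 + n * p) := by
      rw [← B.card_G, ← sum_irrDeg_sq (G := G)]
      have hne := htrivY ψ hψ
      have hsub : ({trivIrr G, ψ} : Finset (IrrCharacter G)) ⊆ Finset.univ := Finset.subset_univ _
      have hle := Finset.sum_le_sum_of_subset (f := fun χ : IrrCharacter G => irrDeg χ ^ 2) hsub
      rw [Finset.sum_pair hne.symm] at hle
      have ht : irrDeg (trivIrr G) = 1 := (irrDeg_eq_one_iff _).mpr rfl
      rw [ht] at hle
      nlinarith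
    have hnd : ¬ p ∣ irrDeg ψ := by
      intro h
      rw [hdu] at h
      exact hnpe ((Nat.dvd_add_right (Dvd.intro_left (D.a ψ) rfl)).mp h)
    by_cases ha : 1 ≤ D.a ψ
    · exfalso
      have hu := arith_K2F hp B.eN_dvd B.notF (hdvd' ψ hnd) hdu ha
      rw [hu] at hsq
      have h3 : p ≤ eN P * (1 + n * p) := by nlinarith
      have h4 : p * (eN P * (1 + n * p)) ≤ (eN P * (1 + n * p)) * (eN P * (1 + n * p)) :=
        Nat.mul_le_mul_right _ h3
      have hsq' : (eN P * (1 + n * p)) * (eN P * (1 + n * p)) < p * (eN P * (1 + n * p)) := by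
        rw [← mul_assoc p]
        exact hsq
      omega
    · have ha0 : D.a ψ = 0 := by omega
      refine ⟨?_, ha0⟩
      rw [hdu, ha0, zero_mul, zero_add]
  · intro hε ψ hψ
    have h1 := D.deg_Y ψ hψ
    rw [hε] at h1
    have hdu : irrDeg ψ + eN P = D.a ψ * p := by
      have : ((irrDeg ψ + eN P : ℕ) : ℤ) = ((D.a ψ * p : ℕ) : ℤ) := by
        push_cast
        rw [h1]; ring
      exact_mod_cast this
    have hne := htrivY ψ hψ
    have hnd : ¬ p ∣ irrDeg ψ := by
      intro h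
      apply hnpe
      have h5 : p ∣ irrDeg ψ + eN P := by rw [hdu]; exact Dvd.intro_left _ rfl
      exact (Nat.dvd_add_right h).mp h5
    exact arith_K3F (t := Nat.card D.Y) hp D.card_Y B.notF (hdvd' ψ hnd) hdu
      (Cfsg.Agent.Helper24.SelfCent.irrDeg_ne_one_of_perfect B.perf ψ hne)

end L4

end Cfsg.Agent.S4700P
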