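import Mathlib
import Cfsg.Prelude.Def_PLocal
import Cfsg.Agent.Helper26.Thompson

set_option autoImplicit false

namespace Cfsg.Agent.Helper26

open Cfsg Subgroup

universe u

theorem omegaOne_map_of_injective {G H : Type*} [Group G] [Group H] (p : ℕ) (f : G →* H)
    (hf : Function.Injective f) (K : Subgroup G) :
    (omegaOne p K).map f = omegaOne p (K.map f) := by
  unfold omegaOne
  rw [MonoidHom.map_closure]
  congr 1
  ext x
  constructor
  · rintro ⟨y, ⟨hyK, hyp⟩, rfl⟩
    exact ⟨⟨y, hyK, rfl⟩, by rw [← map_pow, hyp, map_one]⟩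
  · rintro ⟨⟨y, hyK, rfl⟩, hxp⟩
    refine ⟨y, ⟨hyK, hf ?_⟩, rfl⟩
    rw [map_pow, hxp, map_one]

theorem map_center_equiv {G H : Type*} [Group G] [Group H] (e : G ≃* H) :
    (center G).map e.toMonoidHom = center H := by
  ext x
  constructor
  · rintro ⟨y, hy, rfl⟩
    have hy' : ∀ g : G, g * y = y * g := mem_center_iff.mp hy
    apply mem_center_iff.mpr
    intro h
    obtain ⟨g, rfl⟩ := e.surjective h
    change e g * e y = e y * e g
    rw [← map_mul, ← map_mul, hy' g]
  · intro hx
    have hx' : ∀ g : H, g * x = x * g := mem_center_iff.mp hx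
    refine ⟨e.symm x, ?_, by simp⟩
    apply mem_center_iff.mpr
    intro g
    apply e.injective
    rw [map_mul, map_mul, e.apply_symm_apply]
    exact hx' (e g)

theorem map_inf_centralizer_of_injective {G H : Type*} [Group G] [Group H] (f : G →* H)
    (hf : Function.Injective f) (J : Subgroup G) :
    (J ⊓ centralizer (J : Set G)).map f = J.map f ⊓ centralizer ((J.map f : Subgroup H) : Set H) := by
  ext x
  constructor
  · rintro ⟨y, ⟨hyJ, hyC⟩, rfl⟩
    refine ⟨⟨y, hyJ, rfl⟩, ?_⟩
    apply mem_centralizer_iff.mpr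
    rintro _ ⟨z, hz, rfl⟩
    have := mem_centralizer_iff.mp hyC z hz
    rw [← map_mul, ← map_mul, this]
  · rintro ⟨⟨y, hyJ, rfl⟩, hC⟩
    refine ⟨y, ⟨hyJ, ?_⟩, rfl⟩
    apply mem_centralizer_iff.mpr
    intro z hz
    apply hf
    rw [map_mul, map_mul]
    exact mem_centralizer_iff.mp hC (f z) ⟨z, hz, rfl⟩

theorem omegaCenterThompson_map_equiv {G H : Type u} [Group G] [Group H] (p : ℕ) (e : G ≃* H) :
    (omegaCenterThompson p G).map e.toMonoidHom = omegaCenterThompson p H := by
  unfold omegaCenterThompson
  rw [omegaOne_map_of_injective p _ e.injective, map_inf_centralizer_of_injective _ e.injective,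
    thompsonSubgroup_map_equiv]

theorem isStableEmbedding_comp_equiv {S S' H : Type u} [Group S] [Group S'] [Group H] (p : ℕ)
    (η : S ≃* S') (τ : S' →* H) (h : IsStableEmbedding p τ) :
    IsStableEmbedding p (τ.comp η.toMonoidHom) := by
  obtain ⟨hinj, hfin, ⟨P, hP⟩, hc, hJ, hV⟩ := h
  refine ⟨hinj.comp η.injective, hfin, ⟨P, ?_⟩, hc, ?_, ?_⟩
  · rw [hP, MonoidHom.range_comp,
      (MonoidHom.range_eq_top (f := η.toMonoidHom)).mpr η.surjective, ← MonoidHom.range_eq_map]
  · rw [← Subgroup.map_map, thompsonSubgroup_map_equiv]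
    exact hJ
  · intro V _ hVle
    apply hV V
    rwa [← Subgroup.map_map, omegaCenterThompson_map_equiv] at hVle

theorem map_equiv_symm_map {G H : Type*} [Group G] [Group H] (e : G ≃* H) (W : Subgroup H) :
    (W.map e.symm.toMonoidHom).map e.toMonoidHom = W := by
  rw [Subgroup.map_map]
  have : e.toMonoidHom.comp e.symm.toMonoidHom = MonoidHom.id H := by
    ext x; simp
  rw [this, Subgroup.map_id]

theorem map_equiv_map_symm {G H : Type*} [Group G] [Group H] (e : G ≃* H) (W : Subgroup G) :
    (W.map e.toMonoidHom).map e.symm.toMonoidHom = W := by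
  rw [Subgroup.map_map]
  have : e.symm.toMonoidHom.comp e.toMonoidHom = MonoidHom.id G := by
    ext x; simp
  rw [this, Subgroup.map_id]

/-- the family defining the stable normal closure is transported by isomorphisms -/
theorem stableFamily_map_equiv {S S' : Type u} [Group S] [Group S'] (p : ℕ) (η : S ≃* S')
    {W : Subgroup S}
    (hW : omegaOne p (center S) ≤ W ∧
      ∀ (H : Type u) [Group H] (τ : S →* H), IsStableEmbedding p τ → (W.map τ).Normal) :
    omegaOne p (center S') ≤ W.map η.toMonoidHom ∧
      ∀ (H : Type u) [Group H] (τ : S' →* H), IsStableEmbedding p τ →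
        ((W.map η.toMonoidHom).map τ).Normal := by
  refine ⟨?_, ?_⟩
  · rw [← map_center_equiv η, ← omegaOne_map_of_injective p _ η.injective]
    exact Subgroup.map_mono hW.1
  · intro H _ τ hτ
    rw [Subgroup.map_map]
    exact hW.2 H _ (isStableEmbedding_comp_equiv p η τ hτ)

theorem stableNormalClosure_map_equiv {S S' : Type u} [Group S] [Group S'] (p : ℕ) (η : S ≃* S') :
    (stableNormalClosure p S).map η.toMonoidHom = stableNormalClosure p S' := by
  unfold stableNormalClosure
  apply le_antisymm
  · apply le_sInf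
    intro W' hW'
    have h1 := stableFamily_map_equiv p η.symm hW'
    have h2 : sInf {W : Subgroup S | omegaOne p (center S) ≤ W ∧
        ∀ (H : Type u) [Group H] (τ : S →* H), IsStableEmbedding p τ → (W.map τ).Normal} ≤
        W'.map η.symm.toMonoidHom := sInf_le h1
    have h3 := Subgroup.map_mono (f := η.toMonoidHom) h2
    rwa [map_equiv_symm_map] at h3
  · rw [← map_equiv_symm_map η (sInf _)]
    apply Subgroup.map_mono
    apply le_sInf
    intro W hW
    have h1 := stableFamily_map_equiv p η hW
    have h2 : sInf {W : Subgroup S' | omegaOne p (center S') ≤ W ∧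
        ∀ (H : Type u) [Group H] (τ : S' →* H), IsStableEmbedding p τ → (W.map τ).Normal} ≤
        W.map η.toMonoidHom := sInf_le h1
    have h3 := Subgroup.map_mono (f := η.symm.toMonoidHom) h2
    rwa [map_equiv_map_symm] at h3

theorem stableNormalClosure_characteristic {S : Type u} [Group S] (p : ℕ) :
    (stableNormalClosure p S).Characteristic := by
  rw [Subgroup.characteristic_iff_map_eq]
  intro ϕ
  exact stableNormalClosure_map_equiv p ϕ

theorem omegaOne_center_le_stableNormalClosure {S : Type u} [Group S] (p : ℕ) :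
    omegaOne p (center S) ≤ stableNormalClosure p S := by
  unfold stableNormalClosure
  exact le_sInf fun W hW => hW.1

theorem omegaOne_center_le_omegaCenterThompson {S : Type u} [Group S] [Finite S] (p : ℕ) :
    omegaOne p (center S) ≤ omegaCenterThompson p S := by
  unfold omegaCenterThompson omegaOne
  rw [closure_le]
  rintro x ⟨hxZ, hxp⟩
  apply Subgroup.subset_closure
  have hxC : x ∈ centralizer (thompsonSubgroup p S : Set S) := by
    rw [mem_centralizer_iff]
    intro y _
    exact (mem_center_iff.mp hxZ y)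
  exact ⟨⟨mem_thompsonSubgroup_of_centralizing hxC hxp, hxC⟩, hxp⟩

theorem omegaOne_normal_of_normal {G : Type*} [Group G] (p : ℕ) (K : Subgroup G) [hK : K.Normal] :
    (omegaOne p K).Normal := by
  unfold omegaOne
  have hset : ∀ g : G, ∀ x ∈ {x : G | x ∈ K ∧ x ^ p = 1}, g * x * g⁻¹ ∈ {x : G | x ∈ K ∧ x ^ p = 1} := by
    rintro g x ⟨hxK, hxp⟩
    refine ⟨hK.conj_mem x hxK g, ?_⟩
    rw [conj_pow, hxp, mul_one, mul_inv_cancel]
  constructor
  intro n hn g
  induction hn using Subgroup.closure_induction generalizing g with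
  | mem x hx => exact Subgroup.subset_closure (hset g x hx)
  | one => simp
  | mul x y _ _ hx hy =>
    have : g * (x * y) * g⁻¹ = (g * x * g⁻¹) * (g * y * g⁻¹) := by group
    rw [this]
    exact mul_mem (hx g) (hy g)
  | inv x _ hx =>
    have : g * x⁻¹ * g⁻¹ = (g * x * g⁻¹)⁻¹ := by group
    rw [this]
    exact inv_mem (hx g)

theorem inf_centralizer_normal_of_normal {G : Type*} [Group G] (J : Subgroup G) [hJ : J.Normal] :
    (J ⊓ centralizer (J : Set G)).Normal := by
  have : (centralizer (J : Set G)).Normal := inferInstance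
  infer_instance

theorem omegaCenterThompson_map_normal {S H : Type u} [Group S] [Group H] (p : ℕ) (τ : S →* H)
    (hτ : IsStableEmbedding p τ) : ((omegaCenterThompson p S).map τ).Normal := by
  obtain ⟨hinj, _, _, _, hJ, _⟩ := hτ
  unfold omegaCenterThompson
  rw [omegaOne_map_of_injective p _ hinj, map_inf_centralizer_of_injective _ hinj]
  have := hJ
  have := inf_centralizer_normal_of_normal ((thompsonSubgroup p S).map τ)
  exact omegaOne_normal_of_normal p _

theorem stableNormalClosure_le_omegaCenterThompson {S : Type u} [Group S] [Finite S] (p : ℕ) :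
    stableNormalClosure p S ≤ omegaCenterThompson p S := by
  unfold stableNormalClosure
  apply sInf_le
  exact ⟨omegaOne_center_le_omegaCenterThompson p,
    fun H _ τ hτ => omegaCenterThompson_map_normal p τ hτ⟩

theorem omegaOne_center_ne_bot {S : Type*} [Group S] [Finite S] {p : ℕ} [Fact p.Prime]
    (hS : IsPGroup p S) [Nontrivial S] : omegaOne p (center S) ≠ ⊥ := by
  have hZ : Nontrivial (center S) := hS.center_nontrivial
  have hZp : IsPGroup p (center S) := hS.to_subgroup _
  have hdvd : p ∣ Nat.card (center S) := by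
    obtain ⟨n, hn⟩ := IsPGroup.iff_card.mp hZp
    have hn0 : n ≠ 0 := by
      rintro rfl
      rw [pow_zero] at hn
      have := Finite.one_lt_card (α := center S)
      omega
    rw [hn]
    exact dvd_pow_self p hn0
  obtain ⟨z, hz⟩ := exists_prime_orderOf_dvd_card' p hdvd
  intro hbot
  have hmem : (z : S) ∈ omegaOne p (center S) := by
    apply Subgroup.subset_closure
    refine ⟨z.2, ?_⟩
    have : z ^ p = 1 := by rw [← hz]; exact pow_orderOf_eq_one z
    simpa using congrArg Subtype.val this
  rw [hbot, mem_bot] at hmem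
  have hz1 : z = 1 := Subtype.ext hmem
  rw [hz1, orderOf_one] at hz
  exact (Fact.out : p.Prime).one_lt.ne hz

end Cfsg.Agent.Helper26
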