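import Mathlib
import Cfsg.Agent.Helper26.StableClosure
import Cfsg.Agent.Helper26.ZJ

set_option autoImplicit false
set_option linter.style.haveILetI false
set_option linter.unusedSectionVars false
set_option linter.unusedVariables false

/-! # No quadratic action on the stable normal closure `W(S)` (Kurzweil–Stellmacher 9.4.3) -/

namespace Cfsg.Agent.Helper26

open Subgroup
open scoped commutatorElement

universe u

section general

variable {H : Type*} [Group H]

/-- elementwise quadratic action implies quadratic action in the subgroup-commutator form -/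
theorem quad_of_elementwise (V : Subgroup H) [hVn : V.Normal] (a : H)
    (hq : ∀ v ∈ V, ⁅⁅v, a⁆, a⁆ = 1) : ⁅⁅V, zpowers a⁆, zpowers a⁆ = ⊥ := by
  -- the subgroup of elements commuting with `a` and mapping `V` into `V ∩ C(a)`
  let T : Subgroup H :=
    { carrier := {g | g * a = a * g ∧ ∀ v ∈ V, ⁅v, g⁆ * a = a * ⁅v, g⁆}
      one_mem' := by
        refine ⟨by simp, ?_⟩
        intro v _
        rw [commutatorElement_one_right, one_mul, mul_one]
      mul_mem' := by
        rintro g g' ⟨hg, hgV⟩ ⟨hg', hgV'⟩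
        refine ⟨by rw [mul_assoc, hg', ← mul_assoc, hg, mul_assoc], ?_⟩
        intro v hv
        have e : ⁅v, g * g'⁆ = ⁅v, g⁆ * (g * ⁅v, g'⁆ * g⁻¹) := by
          simp only [commutatorElement_def]; group
        have h1 : Commute (⁅v, g⁆) a := hgV v hv
        have h2 : Commute (⁅v, g'⁆) a := hgV' v hv
        have h3 : Commute g a := hg
        have h4 : Commute (g * ⁅v, g'⁆ * g⁻¹) a := (h3.mul_left h2).mul_left h3.inv_left
        rw [e]
        exact (h1.mul_left h4).eq
      inv_mem' := by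
        rintro g ⟨hg, hgV⟩
        have h3 : Commute g a := hg
        refine ⟨h3.inv_left.eq, ?_⟩
        intro v hv
        have e : ⁅v, g⁻¹⁆ = g⁻¹ * (⁅v, g⁆)⁻¹ * g := by
          simp only [commutatorElement_def]; group
        have h1 : Commute (⁅v, g⁆) a := hgV v hv
        rw [e]
        exact ((h3.inv_left.mul_left h1.inv_left).mul_left h3).eq }
  have haT : a ∈ T := by
    refine ⟨rfl, ?_⟩
    intro v hv
    exact commutatorElement_eq_one_iff_mul_comm.mp (hq v hv)
  have hzT : zpowers a ≤ T := zpowers_le.mpr haT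
  rw [eq_bot_iff, commutator_le]
  intro y hy g hg
  rw [mem_bot, commutatorElement_eq_one_iff_mul_comm]
  -- `y` commutes with `a`, hence with `g`
  have hy' : Commute y a := by
    have hsub : ⁅V, zpowers a⁆ ≤ centralizer ({a} : Set H) := by
      rw [commutator_le]
      intro v hv z hz
      rw [mem_centralizer_iff]
      intro b hb
      rw [Set.mem_singleton_iff] at hb
      rw [hb]
      exact ((hzT hz).2 v hv).symm
    have := mem_centralizer_iff.mp (hsub hy) a rfl
    exact this.symm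
  obtain ⟨i, rfl⟩ := hg
  exact (hy'.zpow_right i).eq

variable [Finite H] {p : ℕ} [hp : Fact p.Prime]

/-- if `L/C` is a `p`-group then `L = C (P ∩ L)` for a Sylow `p`-subgroup `P` -/
theorem le_sup_sylow_inf (P : Sylow p H) (L C : Subgroup H) [hL : L.Normal] [hC : C.Normal]
    (hCL : C ≤ L) (hpow : ∀ x ∈ L, ∃ k : ℕ, x ^ (p ^ k) ∈ C) :
    L ≤ C ⊔ ((P : Subgroup H) ⊓ L) := by
  have hpp : p.Prime := hp.out
  have hcardT : Nat.card (((P : Subgroup H) ⊓ L).subgroupOf L) =
      p ^ (Nat.card L).factorization p := by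
    rw [card_subgroupOf_of_le inf_le_right]
    exact Cfsg.Agent.Helper3.card_sylow_inf_normal P L
  let P' : Sylow p L := Sylow.ofCard _ hcardT
  have hP' : (P' : Subgroup L) = ((P : Subgroup H) ⊓ L).subgroupOf L := Sylow.coe_ofCard _ hcardT
  have hnd : ¬ p ∣ ((P : Subgroup H) ⊓ L).relIndex L := by
    have := P'.not_dvd_index
    rwa [hP'] at this
  have hquot : IsPGroup p (L ⧸ C.subgroupOf L) := by
    intro q
    obtain ⟨x, rfl⟩ := QuotientGroup.mk_surjective q
    obtain ⟨k, hk⟩ := hpow x.1 x.2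
    refine ⟨k, ?_⟩
    rw [← QuotientGroup.mk_pow, QuotientGroup.eq_one_iff, mem_subgroupOf]
    simpa using hk
  obtain ⟨n, hn⟩ := IsPGroup.iff_card.mp hquot
  have hCrel : C.relIndex L = p ^ n := by
    rw [← hn]
    exact (Subgroup.index_eq_card _)
  have hM1 : (C ⊔ ((P : Subgroup H) ⊓ L)).relIndex L ∣ p ^ n := by
    rw [← hCrel]
    exact relIndex_dvd_of_le_left L le_sup_left
  have hM2 : (C ⊔ ((P : Subgroup H) ⊓ L)).relIndex L ∣ ((P : Subgroup H) ⊓ L).relIndex L :=
    relIndex_dvd_of_le_left L le_sup_right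
  obtain ⟨j, _, hj⟩ := (Nat.dvd_prime_pow hpp).mp hM1
  have hj0 : j = 0 := by
    by_contra hne
    apply hnd
    refine dvd_trans ?_ hM2
    rw [hj]
    exact dvd_pow_self p hne
  rw [hj0, pow_zero, relIndex_eq_one] at hj
  exact hj

end general

section stable

variable {S : Type u} [Group S] [Finite S] {p : ℕ} [hp : Fact p.Prime]

/-- `W(S)` itself belongs to the defining family: its image under a stable embedding is normal -/
theorem stableNormalClosure_map_normal {H : Type u} [Group H] (τ : S →* H)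
    (hτ : Cfsg.IsStableEmbedding p τ) : ((Cfsg.stableNormalClosure p S).map τ).Normal := by
  have hinj := hτ.1
  have hW₀ := omegaCenterThompson_map_normal p τ hτ
  constructor
  rintro _ ⟨w, hw, rfl⟩ g
  have hw₀ : w ∈ Cfsg.omegaCenterThompson p S := stableNormalClosure_le_omegaCenterThompson p hw
  obtain ⟨s₀, hs₀, hs₀e⟩ := hW₀.conj_mem _ (mem_map_of_mem τ hw₀) g
  refine ⟨s₀, ?_, hs₀e⟩
  unfold Cfsg.stableNormalClosure
  rw [SetLike.mem_coe, mem_sInf]
  intro W' hW'
  have hn' : (W'.map τ).Normal := hW'.2 H τ hτ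
  have hwW' : w ∈ W' := by
    have : Cfsg.stableNormalClosure p S ≤ W' := sInf_le hW'
    exact this hw
  obtain ⟨s', hs', hs'e⟩ := hn'.conj_mem _ (mem_map_of_mem τ hwW') g
  have : s' = s₀ := hinj (hs'e.trans hs₀e.symm)
  rw [← this]
  exact hs'

theorem commutatorElement_mul_centralizer {H : Type*} [Group H] (V : Subgroup H) [hVn : V.Normal]
    {c v y : H} (hc : c ∈ centralizer (V : Set H)) (hv : v ∈ V) : ⁅v, c * y⁆ = ⁅v, y⁆ := by
  have h1 : v * c = c * v := mem_centralizer_iff.mp hc v hv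
  have hvy : ⁅v, y⁆ ∈ V := by
    rw [commutatorElement_def]
    have : v * y * v⁻¹ * y⁻¹ = v * (y * v⁻¹ * y⁻¹) := by group
    rw [this]
    exact V.mul_mem hv (hVn.conj_mem _ (V.inv_mem hv) y)
  have h2 : ⁅v, y⁆ * c = c * ⁅v, y⁆ := mem_centralizer_iff.mp hc _ hvy
  have e : ⁅v, c * y⁆ = (v * c) * (y * v⁻¹ * y⁻¹) * c⁻¹ := by
    rw [commutatorElement_def]; group
  have e2 : c * ⁅v, y⁆ * c⁻¹ = (c * v) * (y * v⁻¹ * y⁻¹) * c⁻¹ := by
    rw [commutatorElement_def]; group
  rw [e, h1, ← e2, ← h2, mul_inv_cancel_right]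

/-- **No quadratic action on `W(S)`** (elementwise form): an element `x` of `S` with
`[w, x, x] = 1` for all `w ∈ W(S)` centralizes `W(S)`. -/
theorem stableNormalClosure_no_quad (x : S)
    (hq : ∀ w ∈ Cfsg.stableNormalClosure p S, ⁅⁅w, x⁆, x⁆ = 1) :
    ∀ w ∈ Cfsg.stableNormalClosure p S, x * w = w * x := by
  obtain ⟨W, hWdef⟩ : ∃ W : Subgroup S, W = Cfsg.stableNormalClosure p S := ⟨_, rfl⟩
  rw [← hWdef] at hq ⊢
  obtain ⟨Qs, hQs⟩ : ∃ Qs : Set S, Qs = {x | ∀ w ∈ W, ⁅⁅w, x⁆, x⁆ = 1} := ⟨_, rfl⟩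
  have hxQ : x ∈ Qs := by rw [hQs]; exact hq
  suffices hWU : W ≤ W ⊓ centralizer Qs by
    intro w hw
    exact mem_centralizer_iff.mp (hWU hw).2 x hxQ
  have hfam : (Cfsg.omegaOne p (center S) ≤ W ⊓ centralizer Qs ∧
      ∀ (H : Type u) [Group H] (τ : S →* H), Cfsg.IsStableEmbedding p τ →
        ((W ⊓ centralizer Qs).map τ).Normal) := by
    refine ⟨le_inf (hWdef ▸ omegaOne_center_le_stableNormalClosure p) ?_, ?_⟩
    · unfold Cfsg.omegaOne
      rw [closure_le]
      rintro z ⟨hz, _⟩
      exact Subgroup.center_le_centralizer _ hz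
    · intro H _ τ hτ
      have hVn : (W.map τ).Normal := hWdef ▸ stableNormalClosure_map_normal τ hτ
      obtain ⟨hinj, hfin, ⟨P, hP⟩, hc, hJ, hV⟩ := hτ
      haveI := hfin
      have hVle : W.map τ ≤ (Cfsg.omegaCenterThompson p S).map τ :=
        map_mono (hWdef ▸ stableNormalClosure_le_omegaCenterThompson p)
      have hst : Cfsg.IsPStableOn p (W.map τ) := @hV (W.map τ) hVn hVle
      obtain ⟨C, hC⟩ : ∃ C : Subgroup H, C = centralizer ((W.map τ : Subgroup H) : Set H) := ⟨_, rfl⟩
      have hCn : C.Normal := by rw [hC]; infer_instance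
      obtain ⟨D, hD⟩ : ∃ D : Subgroup H,
          D = (Cfsg.pCore p (H ⧸ centralizer ((W.map τ : Subgroup H) : Set H))).comap
            (QuotientGroup.mk' (centralizer ((W.map τ : Subgroup H) : Set H))) := ⟨_, rfl⟩
      have hDn : D.Normal := by rw [hD]; infer_instance
      have hCD : C ≤ D := by
        intro c hc'
        rw [hD, mem_comap]
        have : QuotientGroup.mk' (centralizer ((W.map τ : Subgroup H) : Set H)) c = 1 :=
          (QuotientGroup.eq_one_iff c).mpr (hC ▸ hc')
        rw [this]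
        exact one_mem _
      have hDpow : ∀ d ∈ D, ∃ k : ℕ, d ^ (p ^ k) ∈ C := by
        intro d hd
        rw [hD, mem_comap] at hd
        obtain ⟨k, hk⟩ := (Cfsg.Agent.Helper14.pCore_isPGroup
          (G := H ⧸ centralizer ((W.map τ : Subgroup H) : Set H)) p) ⟨_, hd⟩
        refine ⟨k, ?_⟩
        have h2 := congrArg Subtype.val hk
        simp only [SubmonoidClass.coe_pow, OneMemClass.coe_one] at h2
        rw [← map_pow] at h2
        rw [hC]
        exact (QuotientGroup.eq_one_iff _).mp h2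
      constructor
      rintro _ ⟨u, hu, rfl⟩ g
      obtain ⟨w, hw, hwe⟩ := hVn.conj_mem _ (mem_map_of_mem τ hu.1) g
      refine ⟨w, ⟨hw, ?_⟩, hwe⟩
      show w ∈ centralizer Qs
      rw [mem_centralizer_iff]
      intro x' hx'
      apply hinj
      rw [map_mul, map_mul, hwe]
      have hx'q : ∀ w' ∈ W, ⁅⁅w', x'⁆, x'⁆ = 1 := by rw [hQs] at hx'; exact hx'
      have hqV : ∀ v ∈ W.map τ, ⁅⁅v, τ x'⁆, τ x'⁆ = 1 := by
        rintro _ ⟨w', hw', rfl⟩
        rw [← map_commutatorElement, ← map_commutatorElement, hx'q w' hw', map_one]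
      have hquad := quad_of_elementwise (W.map τ) (τ x') hqV
      have hxD : τ x' ∈ D := by
        rw [hD, mem_comap]
        exact hst (τ x') hquad
      have hyD : g⁻¹ * τ x' * g ∈ D := by
        have := hDn.conj_mem _ hxD g⁻¹
        simpa using this
      have hmem := le_sup_sylow_inf P D C hCD hDpow hyD
      rw [← SetLike.mem_coe, normal_mul] at hmem
      obtain ⟨c, hc', t, ht, hy⟩ := hmem
      have htP : t ∈ (P : Subgroup H) := ht.1
      rw [hP] at htP
      obtain ⟨s, rfl⟩ := htP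
      have hc'' : c ∈ centralizer ((W.map τ : Subgroup H) : Set H) := hC ▸ hc'
      have hcinv : c⁻¹ ∈ centralizer ((W.map τ : Subgroup H) : Set H) := inv_mem hc''
      have hts : τ s = c⁻¹ * (g⁻¹ * τ x' * g) := by
        have hy' : c * τ s = g⁻¹ * τ x' * g := hy
        rw [← hy', inv_mul_cancel_left]
      have hsQ : s ∈ Qs := by
        rw [hQs]
        intro w' hw'
        apply hinj
        rw [map_commutatorElement, map_commutatorElement, map_one]
        have hv : τ w' ∈ W.map τ := mem_map_of_mem τ hw'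
        have hvy : ⁅τ w', g⁻¹ * τ x' * g⁆ ∈ W.map τ := by
          rw [commutatorElement_def]
          have : τ w' * (g⁻¹ * τ x' * g) * (τ w')⁻¹ * (g⁻¹ * τ x' * g)⁻¹ =
              τ w' * ((g⁻¹ * τ x' * g) * (τ w')⁻¹ * (g⁻¹ * τ x' * g)⁻¹) := by group
          rw [this]
          exact (W.map τ).mul_mem hv (hVn.conj_mem _ ((W.map τ).inv_mem hv) _)
        rw [hts, commutatorElement_mul_centralizer (W.map τ) hcinv hv,
          commutatorElement_mul_centralizer (W.map τ) hcinv hvy]
        have hconj : g * τ w' * g⁻¹ ∈ W.map τ := hVn.conj_mem _ hv g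
        have e : ⁅⁅τ w', g⁻¹ * τ x' * g⁆, g⁻¹ * τ x' * g⁆ =
            g⁻¹ * ⁅⁅g * τ w' * g⁻¹, τ x'⁆, τ x'⁆ * g := by
          simp only [commutatorElement_def]; group
        rw [e, hqV _ hconj]
        group
      have hsu : s * u = u * s := mem_centralizer_iff.mp hu.2 s hsQ
      have htu : τ s * τ u = τ u * τ s := by rw [← map_mul, ← map_mul, hsu]
      have hcu : c * τ u = τ u * c :=
        (mem_centralizer_iff.mp hc'' (τ u) (mem_map_of_mem τ hu.1)).symm
      have hy' : c * τ s = g⁻¹ * τ x' * g := hy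
      calc τ x' * (g * τ u * g⁻¹) = g * ((g⁻¹ * τ x' * g) * τ u) * g⁻¹ := by group
        _ = g * (c * τ s * τ u) * g⁻¹ := by rw [← hy']
        _ = g * (τ u * (c * τ s)) * g⁻¹ := by
            have : c * τ s * τ u = τ u * (c * τ s) := by
              rw [mul_assoc c, htu, ← mul_assoc c, hcu, mul_assoc]
            rw [this]
        _ = g * (τ u * (g⁻¹ * τ x' * g)) * g⁻¹ := by rw [hy']
        _ = (g * τ u * g⁻¹) * τ x' := by group
  rw [hWdef]
  unfold Cfsg.stableNormalClosure
  apply sInf_le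
  rw [hWdef] at hfam
  exact hfam

end stable

end Cfsg.Agent.Helper26
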