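import Mathlib
import Cfsg.Agent.S0713
import Cfsg.Agent.Helper4.S0679PRIME
import Cfsg.Agent.Helper25.S0679CT
import Cfsg.Agent.Helper4.S0679J
import Cfsg.Agent.Helper20.S0679NO33
import Cfsg.Agent.Helper21.S0679NODT
import Cfsg.Agent.Helper5.S0679TRANS3

set_option autoImplicit false
set_option linter.unusedSectionVars false
set_option linter.unusedVariables false

/-! # S0679, chapter (6) (designer helper18), piece SUPP8 (helper26). -/

namespace Cfsg.Agent.S0679P

open Equiv MulAction

variable {α : Type*} [Fintype α] [DecidableEq α] {G : Subgroup (Equiv.Perm α)}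

/-- SUPP8 (M) = (6.5): every non-identity element of `G` moves at least 8 points. -/
theorem SUPP8 (h11 : Fintype.card α = 11) (h2 : IsMultiplyPretransitive G α 2)
    (hA : ¬ alternatingGroup α ≤ G) (heven : G ≤ alternatingGroup α) (hord : Nat.card G = 7920)
    {g : Perm α} (hg : g ∈ G) (hg1 : g ≠ 1) : 8 ≤ g.support.card := by
  by_contra hlt
  rw [not_le] at hlt
  obtain ⟨k, hkp, hsub⟩ := PRIME hg1
  have hhG : g ^ k ∈ G := G.pow_mem hg k
  have hcard : (g ^ k).support.card ≤ 7 := by
    have := Finset.card_le_card hsub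
    omega
  have hsign : Equiv.Perm.sign (g ^ k) = 1 := Equiv.Perm.mem_alternatingGroup.mp (heven hhG)
  generalize hh : g ^ k = h at hkp hhG hcard hsign
  obtain ⟨p, hp⟩ : ∃ p, orderOf h = p := ⟨_, rfl⟩
  rw [hp] at hkp
  obtain ⟨j, hj1, hct, hsc, hcyc, hsg⟩ := CT hkp hp
  have hp2 := hkp.two_le
  rw [hsc] at hcard
  have hj3 : j ≤ 3 := by nlinarith
  have hp7 : p ≤ 7 := by nlinarith
  interval_cases j
  · -- a single cycle
    have hc := hcyc rfl
    apply J h11 h2 hA hhG hc
    · rw [hsc, one_mul]; exact hkp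
    · rw [hsc, one_mul]; omega
  · -- two cycles
    have hp3 : p ≤ 3 := by omega
    interval_cases p
    · -- double transposition
      exact NODT h11 (TRANS3 h11 h2 hA hord) hA hord hhG (by rw [hct]; rfl)
    · exact NO33 h11 h2 hA hord hhG (by rw [hct]; rfl)
  · -- three transpositions: odd
    have hp22 : p = 2 := by omega
    subst hp22
    rw [hsign] at hsg
    norm_num at hsg

end Cfsg.Agent.S0679P
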