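import Mathlib

/-!
# S2258, piece NORMCOUNT

The norm form `a² + τ a b + b²` of `F[T]/(T² - τ T + 1)` (anisotropic: `τ² - 4` a non-square) takes
each nonzero value exactly `q + 1` times.
-/

set_option autoImplicit false

namespace Cfsg.Agent.S2258P

namespace NORMCOUNT

variable {F : Type*} [Field F]

/-- the norm form -/
def N (τ : F) (u : F × F) : F := u.1 ^ 2 + τ * u.1 * u.2 + u.2 ^ 2

/-- multiplication of `F[T]/(T² - τ T + 1)` in the basis `1, T` -/
def mulN (τ : F) (u v : F × F) : F × F :=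
  (u.1 * v.1 - u.2 * v.2, u.1 * v.2 + u.2 * v.1 + τ * u.2 * v.2)

/-- conjugation -/
def conjN (τ : F) (u : F × F) : F × F := (u.1 + τ * u.2, -u.2)

theorem N_mulN (τ : F) (u v : F × F) : N τ (mulN τ u v) = N τ u * N τ v := by
  simp only [N, mulN]; ring

theorem conj_mul (τ : F) (u v : F × F) :
    mulN τ (conjN τ u) (mulN τ u v) = (N τ u * v.1, N τ u * v.2) := by
  simp only [N, mulN, conjN]
  refine Prod.ext ?_ ?_ <;> simp only <;> ring

theorem N_eq_zero (τ : F) (hτ : ¬ IsSquare (τ ^ 2 - 4)) (u : F × F)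
    (hu : N τ u = 0) : u = 0 := by
  have hb : u.2 = 0 := by
    by_contra hb
    apply hτ
    refine ⟨2 * u.1 / u.2 + τ, ?_⟩
    simp only [N] at hu
    have h1 : (2 * u.1 / u.2 + τ) * (2 * u.1 / u.2 + τ) - (τ ^ 2 - 4) =
        4 * (u.1 ^ 2 + τ * u.1 * u.2 + u.2 ^ 2) / u.2 ^ 2 := by
      field_simp
      ring
    rw [hu, mul_zero, zero_div, sub_eq_zero] at h1
    exact h1.symm
  have ha : u.1 = 0 := by
    simp only [N, hb] at hu
    simpa using hu
  exact Prod.ext ha hb

theorem exists_N_eq [Fintype F] (h2 : (2 : F) ≠ 0) (τ : F) (hτ : ¬ IsSquare (τ ^ 2 - 4))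
    (c : F) : ∃ u : F × F, N τ u = c := by
  have hodd : Fintype.card F % 2 = 1 := by
    apply FiniteField.odd_card_of_char_ne_two
    intro hch
    apply h2
    have : ((2 : ℕ) : F) = 0 := by
      rw [ringChar.spec, hch]
    exact_mod_cast this
  have h4 : (4 : F) ≠ 0 := by
    have : (4 : F) = 2 * 2 := by norm_num
    rw [this]; exact mul_ne_zero h2 h2
  set δ : F := 1 - τ ^ 2 / 4 with hδ
  have hδ0 : δ ≠ 0 := by
    intro h0
    apply hτ
    refine ⟨0, ?_⟩
    have : τ ^ 2 - 4 = -4 * δ := by rw [hδ]; field_simp; ring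
    rw [this, h0]; ring
  have hf : (Polynomial.X ^ 2 - Polynomial.C c : Polynomial F).degree = 2 :=
    Polynomial.degree_X_pow_sub_C (by norm_num) c
  have hg : (Polynomial.C δ * Polynomial.X ^ 2 : Polynomial F).degree = 2 :=
    Polynomial.degree_C_mul_X_pow 2 hδ0
  obtain ⟨a, b, hab⟩ := FiniteField.exists_root_sum_quadratic hf hg hodd
  simp only [Polynomial.eval_sub, Polynomial.eval_pow, Polynomial.eval_X, Polynomial.eval_C,
    Polynomial.eval_mul] at hab
  refine ⟨(a - τ * b / 2, b), ?_⟩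
  simp only [N]
  have : c = a ^ 2 + δ * b ^ 2 := by linear_combination -hab
  rw [this, hδ]
  field_simp
  ring

theorem card_fib_le [Fintype F] [DecidableEq F] (h2 : (2 : F) ≠ 0) (τ : F)
    (hτ : ¬ IsSquare (τ ^ 2 - 4)) (c c' : F) (hc : c ≠ 0) (hc' : c' ≠ 0) :
    (Finset.univ.filter (fun u : F × F => N τ u = c)).card ≤
      (Finset.univ.filter (fun u : F × F => N τ u = c')).card := by
  obtain ⟨w, hw⟩ := exists_N_eq h2 τ hτ (c' / c)
  have hw0 : N τ w ≠ 0 := by rw [hw]; exact div_ne_zero hc' hc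
  apply Finset.card_le_card_of_injOn (mulN τ w)
  · intro v hv
    simp only [Finset.coe_filter, Finset.mem_univ, true_and, Set.mem_ofPred_eq] at hv ⊢
    rw [N_mulN, hw, hv]
    field_simp
  · intro v _ v' _ hvv'
    have h1 := congrArg (mulN τ (conjN τ w)) hvv'
    rw [conj_mul, conj_mul] at h1
    have h11 := congrArg Prod.fst h1
    have h12 := congrArg Prod.snd h1
    simp only at h11 h12
    exact Prod.ext (mul_left_cancel₀ hw0 h11) (mul_left_cancel₀ hw0 h12)

end NORMCOUNT

open NORMCOUNT in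
/-- NORMCOUNT (L): the norm form of `F[T]/(T² - τT + 1)` takes each nonzero value `q + 1` times. -/
theorem norm_count {F : Type*} [Field F] [Fintype F] (h2 : (2 : F) ≠ 0) (τ c : F)
    (hτ : ¬ IsSquare (τ ^ 2 - 4)) (hc : c ≠ 0) :
    Nat.card {ab : F × F // ab.1 ^ 2 + τ * ab.1 * ab.2 + ab.2 ^ 2 = c} = Fintype.card F + 1 := by
  classical
  rw [Nat.card_eq_fintype_card, Fintype.card_subtype]
  change (Finset.univ.filter (fun u : F × F => N τ u = c)).card = _
  set n := (Finset.univ.filter (fun u : F × F => N τ u = c)).card with hn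
  have hall : ∀ c' : F, c' ≠ 0 → (Finset.univ.filter (fun u : F × F => N τ u = c')).card = n :=
    fun c' hc' => le_antisymm (card_fib_le h2 τ hτ c' c hc' hc) (card_fib_le h2 τ hτ c c' hc hc')
  have h0 : (Finset.univ.filter (fun u : F × F => N τ u = 0)).card = 1 := by
    rw [Finset.card_eq_one]
    refine ⟨0, ?_⟩
    ext u
    simp only [Finset.mem_filter, Finset.mem_univ, true_and, Finset.mem_singleton]
    constructor
    · exact N_eq_zero τ hτ u
    · rintro rfl
      simp [N]
  have hsum : Fintype.card F * Fintype.card F =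
      ∑ c' : F, (Finset.univ.filter (fun u : F × F => N τ u = c')).card := by
    rw [← Finset.card_eq_sum_card_fiberwise (f := N τ) (s := Finset.univ) (t := Finset.univ)
      (fun _ _ => Finset.mem_univ _)]
    simp [Fintype.card_prod]
  rw [← Finset.add_sum_erase _ _ (Finset.mem_univ (0 : F)), h0,
    Finset.sum_congr rfl (fun c' hc' => hall c' (Finset.ne_of_mem_erase hc')), Finset.sum_const,
    Finset.card_erase_of_mem (Finset.mem_univ _), Finset.card_univ, smul_eq_mul] at hsum
  have hq : 2 ≤ Fintype.card F := Fintype.one_lt_card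
  obtain ⟨k, hk⟩ : ∃ k, Fintype.card F = k + 2 := ⟨Fintype.card F - 2, by omega⟩
  rw [hk] at hsum ⊢
  have h3 : (k + 1) * n = (k + 1) * (k + 3) := by
    have : k + 2 - 1 = k + 1 := by omega
    rw [this] at hsum
    nlinarith
  have := Nat.eq_of_mul_eq_mul_left (by omega : 0 < k + 1) h3
  omega

end Cfsg.Agent.S2258P
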