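import Mathlib
import Cfsg.Prelude.Def_GeometricClasses
import Cfsg.Agent.Helper19.Mono.Defs
import Cfsg.Agent.Helper24.S5634DUAL

/-! S5634 piece TWO (driver helper19): a non-monomial `{a,b}`-supported element forces the harmonic block and `|K| = 5`. -/

set_option autoImplicit false
set_option linter.unusedSectionVars false
set_option linter.unusedVariables false

namespace Cfsg.Agent.MonoP

open Matrix

variable {ι : Type} [Fintype ι] [DecidableEq ι] {K : Type*} [Field K] [Fintype K]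

namespace TWO

omit [Fintype K] in
/-- the inverse of an `A`-supported matrix is `A`-supported -/
theorem suppOn_inv (A : Finset ι) (g : GL ι K) (hA : SuppOn A (g : Matrix ι ι K)) :
    SuppOn A ((g⁻¹ : GL ι K) : Matrix ι ι K) := by
  intro i j hij
  rcases hij with hi | hj
  · have h1 : ((g * g⁻¹ : GL ι K) : Matrix ι ι K) i j = (1 : Matrix ι ι K) i j := by
      rw [mul_inv_cancel]; rfl
    rw [Units.val_mul, Matrix.mul_apply] at h1
    have h2 : ∀ k, (g : Matrix ι ι K) i k = (1 : Matrix ι ι K) i k := fun k => hA i k (Or.inl hi)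
    simp only [h2, Matrix.one_apply, ite_mul, one_mul, zero_mul, Finset.sum_ite_eq,
      Finset.mem_univ, if_true] at h1
    rw [h1, Matrix.one_apply]
  · have h1 : ((g⁻¹ * g : GL ι K) : Matrix ι ι K) i j = (1 : Matrix ι ι K) i j := by
      rw [inv_mul_cancel]; rfl
    rw [Units.val_mul, Matrix.mul_apply] at h1
    have h2 : ∀ k, (g : Matrix ι ι K) k j = (1 : Matrix ι ι K) k j := fun k => hA k j (Or.inr hj)
    simp only [h2, Matrix.one_apply, mul_ite, mul_one, mul_zero, Finset.sum_ite_eq',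
      Finset.mem_univ, if_true] at h1
    rw [h1, Matrix.one_apply]

omit [Fintype K] in
theorem isMono_d1 (a : ι) (ε : Kˣ) : IsMono ((d1 a ε : GL ι K) : Matrix ι ι K) := by
  refine ⟨1, ?_⟩
  intro i j hij
  rw [d1, dg_val]
  exact Matrix.diagonal_apply_ne _ hij

omit [Fintype K] in
theorem d1_inv (a : ι) (ε : Kˣ) : (d1 a ε : GL ι K)⁻¹ = d1 a ε⁻¹ := by
  apply Units.ext
  rw [d1, d1, dg_inv_val, dg_val]
  congr 1
  funext j
  by_cases hj : j = a
  · subst hj; simp
  · simp [Function.update_of_ne hj]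

omit [Fintype K] in
/-- the entries of `g * d1 a ε * g⁻¹` -/
theorem conj_apply (g : GL ι K) (a : ι) (ε : Kˣ) (i k : ι) :
    ((g * d1 a ε * g⁻¹ : GL ι K) : Matrix ι ι K) i k =
      (1 : Matrix ι ι K) i k + ((ε : K) - 1) *
        ((g : Matrix ι ι K) i a * ((g⁻¹ : GL ι K) : Matrix ι ι K) a k) := by
  have h1 : ((g * g⁻¹ : GL ι K) : Matrix ι ι K) i k = (1 : Matrix ι ι K) i k := by
    rw [mul_inv_cancel]; rfl
  rw [Units.val_mul, Matrix.mul_apply] at h1
  rw [Units.val_mul, Units.val_mul, Matrix.mul_apply]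
  simp only [d1, dg_val, Matrix.mul_diagonal]
  rw [← h1]
  have h2 : ∀ j, (g : Matrix ι ι K) i j *
      ((Function.update (fun _ => (1 : Kˣ)) a ε j : Kˣ) : K) *
      ((g⁻¹ : GL ι K) : Matrix ι ι K) j k =
      (g : Matrix ι ι K) i j * ((g⁻¹ : GL ι K) : Matrix ι ι K) j k +
        if j = a then ((ε : K) - 1) *
          ((g : Matrix ι ι K) i a * ((g⁻¹ : GL ι K) : Matrix ι ι K) a k) else 0 := by
    intro j
    by_cases hj : j = a
    · subst hj
      simp
      ring
    · simp [hj]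
  simp only [h2, Finset.sum_add_distrib, Finset.sum_ite_eq', Finset.mem_univ, if_true]

omit [Fintype K] in
/-- `g * d1 a ε * g⁻¹` is `{a,b}`-supported -/
theorem suppOn_conj (g : GL ι K) (a b : ι) (hA : SuppOn {a, b} (g : Matrix ι ι K)) (ε : Kˣ) :
    SuppOn {a, b} ((g * d1 a ε * g⁻¹ : GL ι K) : Matrix ι ι K) := by
  have hA' := suppOn_inv {a, b} g hA
  intro i k hik
  rw [conj_apply]
  rcases hik with hi | hk
  · have hia : i ≠ a := by
      rintro rfl; exact hi (by simp)
    have : (g : Matrix ι ι K) i a = 0 := by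
      rw [hA i a (Or.inl hi), Matrix.one_apply_ne hia]
    rw [this]; ring
  · have hka : a ≠ k := by
      rintro rfl; exact hk (by simp)
    have : ((g⁻¹ : GL ι K) : Matrix ι ι K) a k = 0 := by
      rw [hA' a k (Or.inr hk), Matrix.one_apply_ne hka]
    rw [this]; ring

omit [Fintype K] in
/-- row `a` of a product with an `{a,b}`-supported left factor -/
theorem row_a_mul (a b : ι) (hab : a ≠ b) (M N : Matrix ι ι K) (hM : SuppOn {a, b} M) (k : ι) :
    (M * N) a k = M a a * N a k + M a b * N b k := by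
  rw [Matrix.mul_apply]
  apply Finset.sum_eq_add a b hab
  · intro c _ hc
    have hc' : c ∉ ({a, b} : Finset ι) := by
      simp only [Finset.mem_insert, Finset.mem_singleton, not_or]; exact hc
    rw [hM a c (Or.inr hc'), Matrix.one_apply_ne (Ne.symm hc.1), zero_mul]
  · intro h; exact absurd (Finset.mem_univ a) h
  · intro h; exact absurd (Finset.mem_univ b) h

omit [Fintype K] in
/-- row `b` of a product with an `{a,b}`-supported left factor -/
theorem row_b_mul (a b : ι) (hab : a ≠ b) (M N : Matrix ι ι K) (hM : SuppOn {a, b} M) (k : ι) :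
    (M * N) b k = M b a * N a k + M b b * N b k := by
  rw [Matrix.mul_apply]
  apply Finset.sum_eq_add a b hab
  · intro c _ hc
    have hc' : c ∉ ({a, b} : Finset ι) := by
      simp only [Finset.mem_insert, Finset.mem_singleton, not_or]; exact hc
    rw [hM b c (Or.inr hc'), Matrix.one_apply_ne (Ne.symm hc.2), zero_mul]
  · intro h; exact absurd (Finset.mem_univ a) h
  · intro h; exact absurd (Finset.mem_univ b) h

omit [Fintype K] [Fintype ι] in
/-- a monomial matrix with `x a b ≠ 0 ≠ x b a` has `x a a = x b b = 0` -/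
theorem mono_anti (a b : ι) (hab : a ≠ b) (x : Matrix ι ι K) (hx : IsMono x) (h1 : x a b ≠ 0)
    (h2 : x b a ≠ 0) : x a a = 0 ∧ x b b = 0 := by
  obtain ⟨σ, hσ⟩ := hx
  have hb : b = σ a := by
    by_contra h; exact h2 (hσ b a h)
  have ha : a = σ b := by
    by_contra h; exact h1 (hσ a b h)
  constructor
  · apply hσ; rw [← hb]; exact hab
  · apply hσ; rw [← ha]; exact hab.symm

omit [Fintype K] [Fintype ι] in
/-- a matrix with `x a a ≠ 0 ≠ x b a` is not monomial -/
theorem not_mono (a b : ι) (hab : a ≠ b) (x : Matrix ι ι K) (h1 : x a a ≠ 0) (h2 : x b a ≠ 0) :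
    ¬ IsMono x := by
  rintro ⟨σ, hσ⟩
  have hb : b = σ a := by
    by_contra h; exact h2 (hσ b a h)
  have ha : a = σ a := by
    by_contra h; exact h1 (hσ a a h)
  exact hab (ha.trans hb.symm)

/-- the key relation `2 λ = 1`, `λ = y_{aa} y⁻¹_{aa}` -/
theorem half (H : Subgroup (GL ι K)) (hmon : MonoLE H) (a b : ι) (hab : a ≠ b)
    (hNZ : ∀ y : GL ι K, y ∈ H → SuppOn {a, b} (y : Matrix ι ι K) → ¬ IsMono (y : Matrix ι ι K) →
      ∀ i ∈ ({a, b} : Finset ι), ∀ k ∈ ({a, b} : Finset ι), (y : Matrix ι ι K) i k ≠ 0)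
    (y : GL ι K) (hy : y ∈ H) (hA : SuppOn {a, b} (y : Matrix ι ι K))
    (hnm : ¬ IsMono (y : Matrix ι ι K)) :
    2 * ((y : Matrix ι ι K) a a * ((y⁻¹ : GL ι K) : Matrix ι ι K) a a) = 1 := by
  have ha : a ∈ ({a, b} : Finset ι) := by simp
  have hb : b ∈ ({a, b} : Finset ι) := by simp
  have hy' : y⁻¹ ∈ H := H.inv_mem hy
  have hA' := suppOn_inv {a, b} y hA
  have hnm' : ¬ IsMono ((y⁻¹ : GL ι K) : Matrix ι ι K) := by
    rw [DUAL.isMono_inv]; exact hnm
  have n1 := hNZ y hy hA hnm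
  have n2 := hNZ y⁻¹ hy' hA' hnm'
  -- the block identity `(y⁻¹ y)_{aa} = 1`
  have e1 : ((y⁻¹ : GL ι K) : Matrix ι ι K) a a * (y : Matrix ι ι K) a a +
      ((y⁻¹ : GL ι K) : Matrix ι ι K) a b * (y : Matrix ι ι K) b a = 1 := by
    rw [← row_a_mul a b hab _ _ hA' a, ← Units.val_mul, inv_mul_cancel]
    simp
  set l : K := (y : Matrix ι ι K) a a * ((y⁻¹ : GL ι K) : Matrix ι ι K) a a with hl
  have hl0 : l ≠ 0 := mul_ne_zero (n1 a ha a ha) (n2 a ha a ha)
  have hl1 : (y : Matrix ι ι K) b a * ((y⁻¹ : GL ι K) : Matrix ι ι K) a b = 1 - l := by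
    rw [hl]; linear_combination e1
  have hl1' : 1 - l ≠ 0 := by
    rw [← hl1]; exact mul_ne_zero (n1 b hb a ha) (n2 a ha b hb)
  have he0 : 1 - l⁻¹ ≠ 0 := by
    intro h
    apply hl1'
    have : l⁻¹ = 1 := by linear_combination -h
    rw [inv_eq_one] at this
    rw [this]; ring
  set ε : Kˣ := Units.mk0 (1 - l⁻¹) he0 with hε
  have hεv : (ε : K) = 1 - l⁻¹ := rfl
  have hxH : y * d1 a ε * y⁻¹ ∈ H := H.mul_mem (H.mul_mem hy (hmon _ (isMono_d1 a ε))) hy'
  have hxA := suppOn_conj y a b hA ε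
  have hxaa : ((y * d1 a ε * y⁻¹ : GL ι K) : Matrix ι ι K) a a = 0 := by
    rw [conj_apply, Matrix.one_apply_eq, hεv, ← hl]
    field_simp
    ring
  have hxmono : IsMono ((y * d1 a ε * y⁻¹ : GL ι K) : Matrix ι ι K) := by
    by_contra h
    exact hNZ _ hxH hxA h a ha a ha hxaa
  have hε1 : (ε : K) - 1 ≠ 0 := by
    rw [hεv]
    intro h
    have : l⁻¹ = 0 := by linear_combination -h
    exact (inv_ne_zero hl0) this
  have hxab : ((y * d1 a ε * y⁻¹ : GL ι K) : Matrix ι ι K) a b ≠ 0 := by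
    rw [conj_apply, Matrix.one_apply_ne hab, zero_add]
    exact mul_ne_zero hε1 (mul_ne_zero (n1 a ha a ha) (n2 a ha b hb))
  have hxba : ((y * d1 a ε * y⁻¹ : GL ι K) : Matrix ι ι K) b a ≠ 0 := by
    rw [conj_apply, Matrix.one_apply_ne hab.symm, zero_add]
    exact mul_ne_zero hε1 (mul_ne_zero (n1 b hb a ha) (n2 a ha a ha))
  have hxbb := (mono_anti a b hab _ hxmono hxab hxba).2
  rw [conj_apply, Matrix.one_apply_eq, hl1, hεv] at hxbb
  -- `1 + (1 - l⁻¹ - 1) * (1 - l) = 0`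
  have h3 : l * (1 + (1 - l⁻¹ - 1) * (1 - l)) = 2 * l - 1 := by
    field_simp
    ring
  rw [hxbb, mul_zero] at h3
  linear_combination -h3

end TWO

open TWO in
theorem TWO.harmonic (hK : 5 ≤ Fintype.card K) (H : Subgroup (GL ι K)) (hmon : MonoLE H) (a b : ι)
    (hab : a ≠ b)
    (hNZ : ∀ y : GL ι K, y ∈ H → SuppOn {a, b} (y : Matrix ι ι K) → ¬ IsMono (y : Matrix ι ι K) →
      ∀ i ∈ ({a, b} : Finset ι), ∀ k ∈ ({a, b} : Finset ι), (y : Matrix ι ι K) i k ≠ 0)
    (g : GL ι K) (hg : g ∈ H) (hA : SuppOn {a, b} (g : Matrix ι ι K)) (hnm : ¬ IsMono (g : Matrix ι ι K)) :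
    Fintype.card K = 5 ∧
      (g : Matrix ι ι K) a a * (g : Matrix ι ι K) b b = -((g : Matrix ι ι K) a b * (g : Matrix ι ι K) b a) := by
  classical
  have ha : a ∈ ({a, b} : Finset ι) := by simp
  have hb : b ∈ ({a, b} : Finset ι) := by simp
  have hg' : g⁻¹ ∈ H := H.inv_mem hg
  have hA' := suppOn_inv {a, b} g hA
  have hnm' : ¬ IsMono ((g⁻¹ : GL ι K) : Matrix ι ι K) := by
    rw [DUAL.isMono_inv]; exact hnm
  have n1 := hNZ g hg hA hnm
  have n2 := hNZ g⁻¹ hg' hA' hnm'
  have hhalf := half H hmon a b hab hNZ g hg hA hnm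
  set l : K := (g : Matrix ι ι K) a a * ((g⁻¹ : GL ι K) : Matrix ι ι K) a a with hl
  have h2 : (2 : K) ≠ 0 := by
    intro h; rw [h, zero_mul] at hhalf; exact zero_ne_one hhalf
  -- the block identities of `g g⁻¹ = 1`
  have e1 : (g : Matrix ι ι K) a a * ((g⁻¹ : GL ι K) : Matrix ι ι K) a a +
      (g : Matrix ι ι K) a b * ((g⁻¹ : GL ι K) : Matrix ι ι K) b a = 1 := by
    rw [← row_a_mul a b hab _ _ hA a, ← Units.val_mul, mul_inv_cancel]
    simp
  have e2 : (g : Matrix ι ι K) b a * ((g⁻¹ : GL ι K) : Matrix ι ι K) a a +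
      (g : Matrix ι ι K) b b * ((g⁻¹ : GL ι K) : Matrix ι ι K) b a = 0 := by
    rw [← row_b_mul a b hab _ _ hA a, ← Units.val_mul, mul_inv_cancel]
    simp [Matrix.one_apply_ne hab.symm]
  have hharm : (g : Matrix ι ι K) a a * (g : Matrix ι ι K) b b =
      -((g : Matrix ι ι K) a b * (g : Matrix ι ι K) b a) := by
    have hr : ((g⁻¹ : GL ι K) : Matrix ι ι K) b a ≠ 0 := n2 b hb a ha
    have h3 : ((g : Matrix ι ι K) a a * (g : Matrix ι ι K) b b +
        (g : Matrix ι ι K) a b * (g : Matrix ι ι K) b a) *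
        ((g⁻¹ : GL ι K) : Matrix ι ι K) b a = 0 := by
      rw [hl] at hhalf
      linear_combination (g : Matrix ι ι K) a a * e2 + (g : Matrix ι ι K) b a * e1 -
        (g : Matrix ι ι K) b a * hhalf
    rcases mul_eq_zero.1 h3 with h | h
    · linear_combination h
    · exact absurd h hr
  refine ⟨?_, hharm⟩
  -- every element outside `{0, 1, -1}` has square `-1`
  have hsq : ∀ e : K, e ≠ 0 → e ≠ 1 → e ≠ -1 → e * e = -1 := by
    intro e he0 he1 hem
    set ε : Kˣ := Units.mk0 e he0 with hε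
    have hεv : (ε : K) = e := rfl
    have hεi : ((ε⁻¹ : Kˣ) : K) = e⁻¹ := by rw [Units.val_inv_eq_inv_val, hεv]
    have hxH : g * d1 a ε * g⁻¹ ∈ H := H.mul_mem (H.mul_mem hg (hmon _ (isMono_d1 a ε))) hg'
    have hxA := suppOn_conj g a b hA ε
    have hxaa : ((g * d1 a ε * g⁻¹ : GL ι K) : Matrix ι ι K) a a = 1 + (e - 1) * l := by
      rw [conj_apply, Matrix.one_apply_eq, hεv]
    have hxaa2 : 2 * (1 + (e - 1) * l) = 1 + e := by linear_combination (e - 1) * hhalf
    have hxaa0 : ((g * d1 a ε * g⁻¹ : GL ι K) : Matrix ι ι K) a a ≠ 0 := by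
      rw [hxaa]
      intro h
      rw [h, mul_zero] at hxaa2
      apply hem
      linear_combination -hxaa2
    have hxba : ((g * d1 a ε * g⁻¹ : GL ι K) : Matrix ι ι K) b a ≠ 0 := by
      rw [conj_apply, Matrix.one_apply_ne hab.symm, zero_add, hεv]
      exact mul_ne_zero (sub_ne_zero.2 he1) (mul_ne_zero (n1 b hb a ha) (n2 a ha a ha))
    have hxnm := not_mono a b hab _ hxaa0 hxba
    have hh := half H hmon a b hab hNZ _ hxH hxA hxnm
    have hinv : (g * d1 a ε * g⁻¹)⁻¹ = g * d1 a ε⁻¹ * g⁻¹ := by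
      rw [← d1_inv]; group
    rw [hinv, hxaa, conj_apply, Matrix.one_apply_eq, hεi, ← hl] at hh
    have hB2 : 2 * (1 + (e⁻¹ - 1) * l) = 1 + e⁻¹ := by linear_combination (e⁻¹ - 1) * hhalf
    have h5 : (1 + e) * (1 + e⁻¹) = 2 := by
      rw [← hxaa2, ← hB2]
      linear_combination 2 * hh
    have h6 : e * e⁻¹ = 1 := mul_inv_cancel₀ he0
    linear_combination e * h5 - (1 + e) * h6
  -- count
  by_contra hne
  have h6 : 6 ≤ Fintype.card K := by omega
  have hneg1 : (1 : K) ≠ -1 := by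
    intro h; apply h2; linear_combination h
  set S : Finset K := Finset.univ.filter (fun e : K => e ≠ 0 ∧ e ≠ 1 ∧ e ≠ -1) with hS
  have hcompl : (Finset.univ.filter (fun e : K => ¬ (e ≠ 0 ∧ e ≠ 1 ∧ e ≠ -1))).card ≤ 3 := by
    refine le_trans (Finset.card_le_card ?_) (Finset.card_le_three (a := (0 : K)) (b := 1) (c := -1))
    intro e he
    rw [Finset.mem_filter] at he
    simp only [Finset.mem_insert, Finset.mem_singleton]
    by_contra h
    rw [not_or, not_or] at h
    exact he.2 ⟨h.1, h.2.1, h.2.2⟩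
  have hsum := Finset.card_filter_add_card_filter_not (s := (Finset.univ : Finset K))
    (fun e : K => e ≠ 0 ∧ e ≠ 1 ∧ e ≠ -1)
  rw [Finset.card_univ, ← hS] at hsum
  have hScard : 3 ≤ S.card := by omega
  have hSne : S.Nonempty := Finset.card_pos.1 (by omega)
  obtain ⟨e₁, he₁⟩ := hSne
  have hsub : S ⊆ {e₁, -e₁} := by
    intro d hd
    rw [hS, Finset.mem_filter] at hd he₁
    have q1 := hsq e₁ he₁.2.1 he₁.2.2.1 he₁.2.2.2
    have q2 := hsq d hd.2.1 hd.2.2.1 hd.2.2.2
    have : (d - e₁) * (d + e₁) = 0 := by linear_combination q2 - q1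
    simp only [Finset.mem_insert, Finset.mem_singleton]
    rcases mul_eq_zero.1 this with h | h
    · left; linear_combination h
    · right; linear_combination h
  have := Finset.card_le_card hsub
  have h7 : ({e₁, -e₁} : Finset K).card ≤ 2 := Finset.card_le_two
  omega

end Cfsg.Agent.MonoP
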