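import Mathlib
import Cfsg.Agent.Helper29.S2558DDefs

/-! # S2558 chapter (D) DISCRIMINANTS, piece GRAMDET: Gram determinants under base change. -/

set_option autoImplicit false

namespace Cfsg.Agent.S2558P

open Cfsg.Agent.Helper2.SympInvol Cfsg.Agent.S2482P

universe u

namespace DISC

/-- GRAMDET (1) -/
theorem det_basis_change {F V : Type*} [Field F] [AddCommGroup V] [Module F V] {k : ℕ}
    (B : LinearMap.BilinForm F V) (b b' : Module.Basis (Fin k) F V) :
    ∃ p : F, p ≠ 0 ∧
      (LinearMap.BilinForm.toMatrix b' B).det = p ^ 2 * (LinearMap.BilinForm.toMatrix b B).det := by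
  refine ⟨(b.toMatrix b').det, ?_, ?_⟩
  · have h1 : b.toMatrix b' * b'.toMatrix b = 1 := Module.Basis.toMatrix_mul_toMatrix_flip b b'
    have h2 := congrArg Matrix.det h1
    rw [Matrix.det_mul, Matrix.det_one] at h2
    exact left_ne_zero_of_mul_eq_one h2
  · rw [← LinearMap.BilinForm.toMatrix_mul_basis_toMatrix b b' B, Matrix.det_mul, Matrix.det_mul,
      Matrix.det_transpose]
    ring

/-- GRAMDET (2) -/
theorem det_ne_zero {F V : Type*} [Field F] [AddCommGroup V] [Module F V] {k : ℕ}
    (B : LinearMap.BilinForm F V) (hnd : Nondeg B ⊤) (b : Module.Basis (Fin k) F V) :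
    (LinearMap.BilinForm.toMatrix b B).det ≠ 0 := by
  have hfin : Module.Finite F V := Module.Finite.of_basis b
  have hsep : LinearMap.SeparatingLeft B := by
    intro x hx
    by_contra hx0
    obtain ⟨v, -, hv⟩ := hnd x Submodule.mem_top hx0
    exact hv (hx v)
  have hB : B.Nondegenerate := LinearMap.BilinForm.Nondegenerate.ofSeparatingLeft hsep
  exact (LinearMap.BilinForm.nondegenerate_iff_det_ne_zero b).1 hB

end DISC

end Cfsg.Agent.S2558P
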