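import Mathlib
import Cfsg.Agent.Helper29.S5965Defs

set_option autoImplicit false

/-! S5965 piece SYMRAT: a diagonalisable operator with eigenvalues `ξ^a` of symmetric
multiplicities (`a ↔ -a`), where all `ξ^a + ξ^(-a)` lie in `F₀`, is rational over `F₀`. -/

namespace Cfsg.Agent.S5965P

namespace SYMRAT

/-- from symmetric multiplicities: a permutation of the index set negating `e`. -/
theorem exists_equiv_neg {ι : Type*} [Finite ι] {r : ℕ} (e : ι → ZMod r)
    (hsym : ∀ a : ZMod r, Nat.card {j // e j = a} = Nat.card {j // e j = -a}) :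
    ∃ φ : ι ≃ ι, ∀ j, e (φ j) = - e j := by
  classical
  have hσ : ∀ a : ZMod r, Nonempty ({j // e j = a} ≃ {j // e j = -a}) := fun a =>
    Finite.card_eq.mp (hsym a)
  let σ : ∀ a : ZMod r, {j // e j = a} ≃ {j // e j = -a} := fun a => Classical.choice (hσ a)
  let f : ι → ι := fun j => ((σ (e j)) ⟨j, rfl⟩).1
  have hf_e : ∀ j, e (f j) = - e j := fun j => ((σ (e j)) ⟨j, rfl⟩).2
  have f_eq : ∀ j c (h : e j = c), f j = ((σ c) ⟨j, h⟩).1 := by
    intro j c h; subst h; rfl
  have inj : Function.Injective f := by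
    intro j j' hjj'
    have h1 : e j = e j' := by
      have := congrArg e hjj'
      rw [hf_e, hf_e] at this
      exact neg_injective this
    rw [f_eq j (e j') h1, f_eq j' (e j') rfl] at hjj'
    have := (σ (e j')).injective (Subtype.ext hjj')
    exact congrArg Subtype.val this
  exact ⟨Equiv.ofBijective f (Finite.injective_iff_bijective.mp inj), hf_e⟩

theorem pow_neg_val {F : Type*} [Field F] (r : ℕ) [Fact r.Prime] (ξ : F) (hξ : orderOf ξ = r)
    (c : ZMod r) : ξ ^ (-c).val = (ξ ^ c.val)⁻¹ := by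
  have h : ξ ^ c.val * ξ ^ (-c).val = 1 := by
    rw [← pow_add]
    apply orderOf_dvd_iff_pow_eq_one.mp
    rw [hξ]
    apply (ZMod.natCast_eq_zero_iff _ r).mp
    push_cast
    simp
  exact eq_inv_of_mul_eq_one_right h

theorem pow_val_ne_inv {F : Type*} [Field F] (r : ℕ) [Fact r.Prime] (hr2 : r ≠ 2) (ξ : F)
    (hξ : orderOf ξ = r) (c : ZMod r) (hc : c ≠ 0) : ξ ^ c.val ≠ (ξ ^ c.val)⁻¹ := by
  intro h
  have hr : r.Prime := Fact.out
  have hξ0 : ξ ≠ 0 := by
    intro h0
    have : orderOf (0 : F) = 0 := by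
      rw [orderOf_eq_zero_iff']
      intro n hn
      simp [zero_pow (by omega : n ≠ 0)]
    rw [h0, this] at hξ
    exact hr.ne_zero hξ.symm
  have h1 : ξ ^ (2 * c.val) = 1 := by
    rw [two_mul, pow_add]
    have hne : ξ ^ c.val ≠ 0 := pow_ne_zero _ hξ0
    calc ξ ^ c.val * ξ ^ c.val = ξ ^ c.val * (ξ ^ c.val)⁻¹ := by rw [← h]
      _ = 1 := mul_inv_cancel₀ hne
  have h2 : r ∣ 2 * c.val := by
    have := orderOf_dvd_of_pow_eq_one h1
    rwa [hξ] at this
  have h3 : r ∣ c.val := by
    rcases (Nat.Prime.dvd_mul hr).mp h2 with h | h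
    · exfalso
      have := Nat.le_of_dvd (by norm_num) h
      have := hr.two_le
      omega
    · exact h
  have h4 : c.val = 0 := Nat.eq_zero_of_dvd_of_lt h3 (ZMod.val_lt c)
  exact hc ((ZMod.val_eq_zero c).mp h4)

end SYMRAT

open SYMRAT in
/-- SYMRAT -/
theorem isRat_of_symmetric {F V : Type*} [Field F] [AddCommGroup V] [Module F V]
    [FiniteDimensional F V] (F₀ : Subfield F) (r : ℕ) [Fact r.Prime] (hr2 : r ≠ 2)
    (ξ : F) (hξ : orderOf ξ = r)
    (hξ₀ : ∀ a : ℕ, ξ ^ a + (ξ ^ a)⁻¹ ∈ F₀) (x : Module.End F V) (n : ℕ)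
    (b : Module.Basis (Fin n) F V) (e : Fin n → ZMod r)
    (hb : ∀ j, x (b j) = ξ ^ (e j).val • b j)
    (hsym : ∀ a : ZMod r, Nat.card {j // e j = a} = Nat.card {j // e j = -a}) :
    IsRat F₀ x := by
  classical
  obtain ⟨φ, hφ⟩ := exists_equiv_neg e hsym
  have hφs : ∀ j, e (φ.symm j) = - e j := by
    intro j
    have := hφ (φ.symm j)
    rw [Equiv.apply_symm_apply] at this
    rw [this, neg_neg]
  -- eigenvalues
  obtain ⟨η, hη⟩ : ∃ η : Fin n → F, η = fun j => ξ ^ (e j).val := ⟨_, rfl⟩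
  have hbη : ∀ j, x (b j) = η j • b j := by intro j; rw [hη]; exact hb j
  have hηφ : ∀ j, η (φ j) = (η j)⁻¹ := by
    intro j; rw [hη]; simp only; rw [hφ j]; exact pow_neg_val r ξ hξ _
  have hηφs : ∀ j, η (φ.symm j) = (η j)⁻¹ := by
    intro j; rw [hη]; simp only; rw [hφs j]; exact pow_neg_val r ξ hξ _
  have hηne : ∀ j, e j ≠ 0 → η j ≠ (η j)⁻¹ := by
    intro j hj; rw [hη]; exact pow_val_ne_inv r hr2 ξ hξ _ hj
  have hη0 : ∀ j, e j = 0 → η j = 1 := by
    intro j hj; rw [hη]; simp [hj]
  have hηF₀ : ∀ j, η j + (η j)⁻¹ ∈ F₀ := by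
    intro j; rw [hη]; exact hξ₀ _
  -- positivity facts
  have hposφ : ∀ j, e j ≠ 0 → (e j).val < (-(e j)).val →
      e (φ j) ≠ 0 ∧ ¬ ((e (φ j)).val < (-(e (φ j))).val) := by
    intro j hj hp
    rw [hφ j, neg_neg]
    exact ⟨neg_ne_zero.mpr hj, by omega⟩
  have hnegφs : ∀ j, e j ≠ 0 → ¬ ((e j).val < (-(e j)).val) →
      e (φ.symm j) ≠ 0 ∧ ((e (φ.symm j)).val < (-(e (φ.symm j))).val) := by
    intro j hj hp
    rw [hφs j, neg_neg]
    refine ⟨neg_ne_zero.mpr hj, ?_⟩
    have hne : (e j).val ≠ (-(e j)).val := by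
      intro h
      have h1 : e j = - e j := ZMod.val_injective r h
      have h2 : η j = (η j)⁻¹ := by
        rw [hη]; simp only
        conv_rhs => rw [h1]
        rw [pow_neg_val r ξ hξ, inv_inv]
      exact hηne j hj h2
    omega
  -- the new basis vectors
  obtain ⟨B, hB⟩ : ∃ B : Fin n → V, B = fun j =>
      if e j = 0 then b j
      else if (e j).val < (-(e j)).val then b j + b (φ j)
      else (η j)⁻¹ • b (φ.symm j) + η j • b j := ⟨_, rfl⟩
  have hB0 : ∀ j, e j = 0 → B j = b j := by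
    intro j hj; rw [hB]; simp only; rw [if_pos hj]
  have hBp : ∀ j, e j ≠ 0 → (e j).val < (-(e j)).val → B j = b j + b (φ j) := by
    intro j hj hp; rw [hB]; simp only; rw [if_neg hj, if_pos hp]
  have hBn : ∀ j, e j ≠ 0 → ¬ ((e j).val < (-(e j)).val) →
      B j = (η j)⁻¹ • b (φ.symm j) + η j • b j := by
    intro j hj hp; rw [hB]; simp only; rw [if_neg hj, if_neg hp]
  have hspan : ∀ i, b i ∈ Submodule.span F (Set.range B) := by
    intro i
    have hmem : ∀ j, B j ∈ Submodule.span F (Set.range B) := fun j =>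
      Submodule.subset_span ⟨j, rfl⟩
    by_cases h0 : e i = 0
    · rw [← hB0 i h0]; exact hmem i
    by_cases hp : (e i).val < (-(e i)).val
    · -- positive
      obtain ⟨h0', hp'⟩ := hposφ i h0 hp
      have e1 := hBp i h0 hp
      have e2 := hBn (φ i) h0' hp'
      rw [Equiv.symm_apply_apply] at e2
      obtain ⟨u, hu⟩ : ∃ u, u = η (φ i) := ⟨_, rfl⟩
      rw [← hu] at e2
      have hune : u⁻¹ - u ≠ 0 := by
        rw [hu]; intro h
        exact hηne (φ i) h0' (sub_eq_zero.mp h).symm
      have : b i = (u⁻¹ - u)⁻¹ • (B (φ i) - u • B i) := by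
        rw [e1, e2, smul_add, add_sub_add_comm, ← sub_smul, sub_self, add_zero, smul_smul,
          inv_mul_cancel₀ hune, one_smul]
      rw [this]
      exact Submodule.smul_mem _ _ (Submodule.sub_mem _ (hmem _) (Submodule.smul_mem _ _ (hmem _)))
    · -- negative
      obtain ⟨h0', hp'⟩ := hnegφs i h0 hp
      have e1 := hBn i h0 hp
      have e2 := hBp (φ.symm i) h0' hp'
      rw [Equiv.apply_symm_apply] at e2
      obtain ⟨u, hu⟩ : ∃ u, u = η i := ⟨_, rfl⟩
      rw [← hu] at e1
      have hune : u - u⁻¹ ≠ 0 := by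
        rw [hu]; intro h
        exact hηne i h0 (sub_eq_zero.mp h)
      have : b i = (u - u⁻¹)⁻¹ • (B i - u⁻¹ • B (φ.symm i)) := by
        rw [e1, e2, smul_add, add_sub_add_comm, sub_self, zero_add, ← sub_smul, smul_smul,
          inv_mul_cancel₀ hune, one_smul]
      rw [this]
      exact Submodule.smul_mem _ _ (Submodule.sub_mem _ (hmem _) (Submodule.smul_mem _ _ (hmem _)))
  have htop : ⊤ ≤ Submodule.span F (Set.range B) := by
    rw [← b.span_eq]
    apply Submodule.span_le.mpr
    rintro _ ⟨i, rfl⟩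
    exact hspan i
  have hcard : Fintype.card (Fin n) = Module.finrank F V := by
    rw [Module.finrank_eq_card_basis b]
  obtain ⟨Bb, hBb⟩ : ∃ Bb : Module.Basis (Fin n) F V, ⇑Bb = B :=
    ⟨basisOfTopLeSpanOfCardEqFinrank B htop hcard, coe_basisOfTopLeSpanOfCardEqFinrank B htop hcard⟩
  -- the matrix
  let t : Fin n → F₀ := fun j => ⟨η j + (η j)⁻¹, hηF₀ j⟩
  let M₀ : Matrix (Fin n) (Fin n) F₀ := fun i j =>
    if e j = 0 then (if i = j then 1 else 0)
    else if (e j).val < (-(e j)).val then (if i = φ j then 1 else 0)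
    else ((if i = j then t j else 0) + (if i = φ.symm j then -1 else 0))
  have claim : ∀ j, x (B j) = ∑ i, ((M₀ i j : F₀) : F) • B i := by
    intro j
    by_cases h0 : e j = 0
    · have hM : ∀ i, ((M₀ i j : F₀) : F) = if i = j then 1 else 0 := by
        intro i
        show (((if e j = 0 then (if i = j then 1 else 0) else _ : F₀)) : F) = _
        rw [if_pos h0]; split_ifs <;> simp
      simp only [hM, ite_smul, one_smul, zero_smul, Finset.sum_ite_eq', Finset.mem_univ, if_true]
      rw [hB0 j h0, hbη, hη0 j h0, one_smul]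
    by_cases hp : (e j).val < (-(e j)).val
    · have hM : ∀ i, ((M₀ i j : F₀) : F) = if i = φ j then 1 else 0 := by
        intro i
        show (((if e j = 0 then _ else if (e j).val < (-(e j)).val then
          (if i = φ j then 1 else 0) else _ : F₀)) : F) = _
        rw [if_neg h0, if_pos hp]; split_ifs <;> simp
      simp only [hM, ite_smul, one_smul, zero_smul, Finset.sum_ite_eq', Finset.mem_univ, if_true]
      obtain ⟨h0', hp'⟩ := hposφ j h0 hp
      rw [hBp j h0 hp, hBn (φ j) h0' hp', Equiv.symm_apply_apply, map_add, hbη, hbη, hηφ j,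
        inv_inv]
    · have hM : ∀ i, ((M₀ i j : F₀) : F) =
          (if i = j then (η j + (η j)⁻¹) else 0) + (if i = φ.symm j then -1 else 0) := by
        intro i
        show (((if e j = 0 then _ else if (e j).val < (-(e j)).val then _ else
          ((if i = j then t j else 0) + (if i = φ.symm j then -1 else 0)) : F₀)) : F) = _
        rw [if_neg h0, if_neg hp]; split_ifs <;> simp [t]
      simp only [hM, add_smul, Finset.sum_add_distrib, ite_smul, zero_smul, Finset.sum_ite_eq',
        Finset.mem_univ, if_true]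
      obtain ⟨h0', hp'⟩ := hnegφs j h0 hp
      rw [hBn j h0 hp, hBp (φ.symm j) h0' hp', Equiv.apply_symm_apply, map_add, map_smul,
        map_smul, hbη, hbη, hηφs j]
      obtain ⟨u, hu⟩ : ∃ u, u = η j := ⟨_, rfl⟩
      rw [← hu]
      have hu0 : u ≠ 0 := by
        rw [hu, hη]; simp only
        apply pow_ne_zero
        intro h0
        have hr : r.Prime := Fact.out
        have : orderOf (0 : F) = 0 := by
          rw [orderOf_eq_zero_iff']
          intro n hn
          simp [zero_pow (by omega : n ≠ 0)]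
        rw [h0, this] at hξ
        exact hr.ne_zero hξ.symm
      simp only [smul_smul, smul_add, neg_smul, one_smul]
      rw [inv_mul_cancel₀ hu0, mul_inv_cancel₀ hu0]
      module
  refine ⟨Fin n, inferInstance, inferInstance, Bb, M₀, ?_⟩
  have hx : x = Matrix.toLin Bb Bb (M₀.map F₀.subtype) := by
    apply Bb.ext
    intro j
    rw [Matrix.toLin_self]
    simp only [Matrix.map_apply, Subfield.coe_subtype, hBb]
    exact claim j
  rw [hx, LinearMap.toMatrix_toLin]

end Cfsg.Agent.S5965P
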