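import Mathlib

/-! S2607, piece AG1: a normal subgroup centralised by a cyclic complement gives a direct
product. -/

set_option autoImplicit false

namespace Cfsg.Agent.S2607P

/-- AG1: a normal subgroup centralised by a cyclic complement gives a direct product -/
theorem prod_of_central {O : Type*} [Group O] (N : Subgroup O) [N.Normal] (φ : O) (f : ℕ)
    (hf : 1 ≤ f) (hord : φ ^ f = 1) (hint : ∀ k : ℕ, φ ^ k ∈ N → f ∣ k)
    (hgen : ∀ x : O, ∃ k : ℕ, x * φ ^ k ∈ N)
    (hcent : ∀ n ∈ N, φ * n = n * φ) :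
    Nonempty (O ≃* ↥N × Multiplicative (ZMod f)) := by
  have hord' : orderOf φ = f := by
    apply Nat.dvd_antisymm (orderOf_dvd_of_pow_eq_one hord)
    apply hint
    rw [pow_orderOf_eq_one]
    exact N.one_mem
  have hcomm : ∀ (n : N) (c : Subgroup.zpowers φ),
      Commute (N.subtype n) ((Subgroup.zpowers φ).subtype c) := by
    rintro ⟨n, hn⟩ ⟨c, hc⟩
    obtain ⟨k, rfl⟩ := Subgroup.mem_zpowers_iff.mp hc
    have h1 : Commute φ n := hcent n hn
    exact (h1.zpow_left k).symm
  have hΨ : ∀ p : N × Subgroup.zpowers φ,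
      MonoidHom.noncommCoprod N.subtype (Subgroup.zpowers φ).subtype hcomm p =
        (p.1 : O) * (p.2 : O) := fun p => rfl
  have hinj : Function.Injective
      (MonoidHom.noncommCoprod N.subtype (Subgroup.zpowers φ).subtype hcomm) := by
    rw [injective_iff_map_eq_one]
    rintro ⟨⟨n, hn⟩, ⟨c, hc⟩⟩ h
    rw [hΨ] at h
    have h' : n * c = 1 := h
    have hcn : c = n⁻¹ := eq_inv_of_mul_eq_one_right h'
    have hcN : c ∈ N := by
      rw [hcn]
      exact N.inv_mem hn
    have hfin : IsOfFinOrder φ := isOfFinOrder_iff_pow_eq_one.mpr ⟨f, hf, hord⟩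
    obtain ⟨k, hk⟩ := (Submonoid.mem_powers_iff c φ).mp (hfin.mem_powers_iff_mem_zpowers.mpr hc)
    rw [← hk] at hcN
    obtain ⟨m, rfl⟩ := hint k hcN
    have hc1 : c = 1 := by rw [← hk, pow_mul, hord, one_pow]
    have hn1 : n = 1 := by rw [hc1, mul_one] at h'; exact h'
    subst hc1 hn1
    rfl
  have hsurj : Function.Surjective
      (MonoidHom.noncommCoprod N.subtype (Subgroup.zpowers φ).subtype hcomm) := by
    intro x
    obtain ⟨k, hk⟩ := hgen x
    refine ⟨(⟨x * φ ^ k, hk⟩, ⟨(φ ^ k)⁻¹,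
      (Subgroup.zpowers φ).inv_mem (Subgroup.npow_mem_zpowers φ k)⟩), ?_⟩
    rw [hΨ]
    show x * φ ^ k * (φ ^ k)⁻¹ = x
    rw [mul_inv_cancel_right]
  have hcyc : IsCyclic (Subgroup.zpowers φ) := inferInstance
  have hcard : Nat.card (Subgroup.zpowers φ) = f := by rw [Nat.card_zpowers, hord']
  exact ⟨(MulEquiv.ofBijective _ ⟨hinj, hsurj⟩).symm.trans
    (MulEquiv.prodCongr (MulEquiv.refl N)
      ((zmodCyclicMulEquiv hcyc).symm.trans
        (ZMod.ringEquivCongr hcard).toAddEquiv.toMultiplicative))⟩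

end Cfsg.Agent.S2607P
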