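import Mathlib
import Cfsg.Agent.Helper2.S2099.DefsR

set_option autoImplicit false
set_option linter.unusedSectionVars false
set_option linter.unusedVariables false

/-! S2099 chapter K, piece UNITRIQ (driver helper2; port of helper9's S2094 UNITRIB): the image of `Û` consists of
upper unitriangular matrices with respect to `rkQ` (the block `κ × κ` is the identity). -/

namespace Cfsg.Agent.S2099P

open Matrix Cfsg.Agent.S3352P Cfsg.Agent.S3351P Cfsg.Agent.S2096P Cfsg.Agent.RGD
open Cfsg.Agent.S2094P (RB RootB sc NgEquivariant mapB reflB MD XD XD_coe isRoot_ng_right'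
  isRoot_ng_left' sw_ngEquivariant sc_ngEquivariant)

variable {n : ℕ} {F : Type*} [Field F] {κ : Type} [Fintype κ] [DecidableEq κ]
  {M : Type*} [Group M] {Q0 : QuadraticForm F (κ → F)} {X : J n → J n → F → M}
  {Ys : J n → (κ → F) → M}

namespace UNITRIQ

/-- upper unitriangular with respect to `rkQ`, the block of the indices of equal rank being the identity -/
def UT (A : Matrix (IQ n κ) (IQ n κ) F) : Prop :=
  (∀ i j, i ≠ j → rkQ j ≤ rkQ i → A i j = 0) ∧ ∀ a, A a a = 1

theorem UT_one : UT (1 : Matrix (IQ n κ) (IQ n κ) F) :=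
  ⟨fun i j hij _ => Matrix.one_apply_ne hij, fun a => Matrix.one_apply_eq a⟩

theorem UT.blockTriangular {A : Matrix (IQ n κ) (IQ n κ) F} (hA : UT A) :
    A.BlockTriangular (rkQ (n := n) (κ := κ)) := by
  intro i j hij
  exact hA.1 i j (fun h => by rw [h] at hij; exact lt_irrefl _ hij) hij.le

/-- the entries on and below the diagonal of a product with a unitriangular matrix on the left -/
theorem UT_mul_apply {A B : Matrix (IQ n κ) (IQ n κ) F} (hA : UT A)
    (hB : B.BlockTriangular (rkQ (n := n) (κ := κ))) {i j : IQ n κ} (hij : rkQ j ≤ rkQ i) :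
    (A * B) i j = B i j := by
  rw [Matrix.mul_apply, Finset.sum_eq_single i]
  · rw [hA.2, one_mul]
  · intro c _ hci
    by_cases h : rkQ c ≤ rkQ i
    · rw [hA.1 i c (Ne.symm hci) h, zero_mul]
    · have h1 : rkQ j < rkQ c := by omega
      rw [hB h1, mul_zero]
  · intro h
    exact absurd (Finset.mem_univ i) h

theorem UT_mul {A B : Matrix (IQ n κ) (IQ n κ) F} (hA : UT A) (hB : UT B) : UT (A * B) := by
  refine ⟨fun i j hij hr => ?_, fun a => ?_⟩
  · rw [UT_mul_apply hA hB.blockTriangular hr]
    exact hB.1 i j hij hr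
  · rw [UT_mul_apply hA hB.blockTriangular le_rfl]
    exact hB.2 a

theorem UT_inv {A B : Matrix (IQ n κ) (IQ n κ) F} (hA : UT A) (hAB : A * B = 1) : UT B := by
  let _ : Invertible A := invertibleOfRightInverse A B hAB
  have hB : B = A⁻¹ := (Matrix.inv_eq_right_inv hAB).symm
  have hBt : B.BlockTriangular (rkQ (n := n) (κ := κ)) := by
    rw [hB]
    exact Matrix.blockTriangular_inv_of_blockTriangular hA.blockTriangular
  refine ⟨fun i j hij hr => ?_, fun a => ?_⟩
  · rw [← UT_mul_apply hA hBt hr, hAB]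
    exact Matrix.one_apply_ne hij
  · rw [← UT_mul_apply hA hBt le_rfl, hAB]
    exact Matrix.one_apply_eq a

theorem rkQ_inl_le {a b : J n} (h : rkQ (Sum.inl b : IQ n κ) ≤ rkQ (Sum.inl a : IQ n κ)) :
    rk b ≤ rk a := by
  rcases a with i | i <;> rcases b with j | j
  · simpa only [rkQ, rk] using h
  · have := i.isLt
    have := j.isLt
    simp only [rkQ, rk] at h ⊢
    omega
  · have := i.isLt
    have := j.isLt
    simp only [rkQ, rk] at h ⊢
    omega
  · have := i.isLt
    have := j.isLt
    simp only [rkQ, rk] at h ⊢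
    omega

theorem rk_add_ng (a : J n) : rk (ng a) + rk a = 2 * n - 1 := by
  cases a with
  | inl i =>
    have := i.isLt
    simp only [ng_inl, rk]
    omega
  | inr i =>
    have := i.isLt
    simp only [ng_inr, rk]
    omega

theorem UT_blkQ {A : Matrix (J n) (J n) F} (h1 : ∀ a b, a ≠ b → rk b ≤ rk a → A a b = 0)
    (h2 : ∀ a, A a a = 1) : UT (blkQ A : Matrix (IQ n κ) (IQ n κ) F) := by
  constructor
  · intro i j hij hr
    rcases i with a | k <;> rcases j with b | k'
    · show A a b = 0
      exact h1 a b (fun h => hij (by rw [h])) (rkQ_inl_le hr)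
    · rfl
    · rfl
    · show (1 : Matrix κ κ F) k k' = 0
      exact Matrix.one_apply_ne (fun h => hij (by rw [h]))
  · intro i
    rcases i with a | k
    · exact h2 a
    · show (1 : Matrix κ κ F) k k = 1
      exact Matrix.one_apply_eq k

theorem UT_xmQ {a b : J n} (hab : IsRoot a b) (hlt : rk a < rk b) (t : F) :
    UT (xmQ a b t : Matrix (IQ n κ) (IQ n κ) F) := by
  have h2 : rk (ng b) < rk (ng a) := by
    have e1 := rk_add_ng a
    have e2 := rk_add_ng b
    omega
  unfold xmQ
  apply UT_blkQ
  · intro c d hcd hr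
    unfold xm
    have z1 : Matrix.single a b (1 : F) c d = 0 := by
      apply Matrix.single_apply_of_ne
      rintro ⟨rfl, rfl⟩
      omega
    have z2 : Matrix.single (ng b) (ng a) (1 : F) c d = 0 := by
      apply Matrix.single_apply_of_ne
      rintro ⟨rfl, rfl⟩
      omega
    rw [Matrix.add_apply, Matrix.smul_apply, Matrix.sub_apply, z1, z2, sub_zero, smul_zero,
      add_zero, Matrix.one_apply_ne hcd]
  · intro c
    unfold xm
    have z1 : Matrix.single a b (1 : F) c c = 0 := by
      apply Matrix.single_apply_of_ne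
      rintro ⟨rfl, h⟩
      rw [← h] at hlt
      exact lt_irrefl _ hlt
    have z2 : Matrix.single (ng b) (ng a) (1 : F) c c = 0 := by
      apply Matrix.single_apply_of_ne
      rintro ⟨rfl, h⟩
      rw [← h] at h2
      exact lt_irrefl _ h2
    rw [Matrix.add_apply, Matrix.smul_apply, Matrix.sub_apply, z1, z2, sub_zero, smul_zero,
      add_zero, Matrix.one_apply_eq]

theorem UT_ymQ (i : Fin n) (w : κ → F) :
    UT (ymQ Q0 (Sum.inl i : J n) w : Matrix (IQ n κ) (IQ n κ) F) := by
  have hi := i.isLt
  constructor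
  · intro c d hcd hr
    rcases c with c | k <;> rcases d with d | k'
    · show (1 - Q0 w • Matrix.single (Sum.inl i : J n) (ng (Sum.inl i)) (1 : F)) c d = 0
      have z1 : Matrix.single (Sum.inl i : J n) (ng (Sum.inl i)) (1 : F) c d = 0 := by
        apply Matrix.single_apply_of_ne
        rintro ⟨rfl, rfl⟩
        simp only [ng_inl, rkQ] at hr
        omega
      rw [Matrix.sub_apply, Matrix.smul_apply, z1, smul_zero, sub_zero,
        Matrix.one_apply_ne (fun h => hcd (by rw [h]))]
    · show Matrix.vecMulVec (Pi.single (Sum.inl i : J n) (1 : F)) (bq Q0 w) c k' = 0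
      have z1 : (Pi.single (Sum.inl i : J n) (1 : F) : J n → F) c = 0 := by
        apply Pi.single_eq_of_ne
        rintro rfl
        simp only [rkQ] at hr
        omega
      rw [Matrix.vecMulVec_apply, z1, zero_mul]
    · show (-Matrix.vecMulVec w (Pi.single (ng (Sum.inl i : J n)) (1 : F))) k d = 0
      have z1 : (Pi.single (ng (Sum.inl i : J n)) (1 : F) : J n → F) d = 0 := by
        apply Pi.single_eq_of_ne
        rintro rfl
        simp only [ng_inl, rkQ] at hr
        omega
      rw [Matrix.neg_apply, Matrix.vecMulVec_apply, z1, mul_zero, neg_zero]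
    · show (1 : Matrix κ κ F) k k' = 0
      exact Matrix.one_apply_ne (fun h => hcd (by rw [h]))
  · intro c
    rcases c with c | k
    · show (1 - Q0 w • Matrix.single (Sum.inl i : J n) (ng (Sum.inl i)) (1 : F)) c c = 1
      have z1 : Matrix.single (Sum.inl i : J n) (ng (Sum.inl i)) (1 : F) c c = 0 := by
        apply Matrix.single_apply_of_ne
        rintro ⟨rfl, h⟩
        simp at h
      rw [Matrix.sub_apply, Matrix.smul_apply, z1, smul_zero, sub_zero, Matrix.one_apply_eq]
    · show (1 : Matrix κ κ F) k k = 1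
      exact Matrix.one_apply_eq k

/-- closure induction -/
theorem UT_of_mem_closure (π : M →* Matrix (IQ n κ) (IQ n κ) F) {S : Set M}
    (hS : ∀ g ∈ S, UT (π g)) {y : M} (hy : y ∈ Subgroup.closure S) : UT (π y) := by
  induction hy using Subgroup.closure_induction with
  | mem x hx => exact hS x hx
  | one =>
    rw [map_one]
    exact UT_one
  | mul x y _ _ hx hy =>
    rw [map_mul]
    exact UT_mul hx hy
  | inv x _ hx =>
    apply UT_inv hx
    rw [← map_mul, mul_inv_cancel, map_one]

end UNITRIQ

/-- UNITRIQ: the elements of `Û` have upper unitriangular matrices (with respect to the order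
`e_0 < … < e_{n-1} < κ < f_{n-1} < … < f_0`; the block `κ × κ` is the identity) -/
theorem unitri_of_mem_UhQ (π : M →* Matrix (IQ n κ) (IQ n κ) F)
    (hπX : ∀ a b, IsRoot a b → ∀ t : F, π (X a b t) = xmQ a b t)
    (hπY : ∀ a, ∀ w : κ → F, π (Ys a w) = ymQ Q0 a w) {y : M}
    (hy : y ∈ (datumQ Q0 X Ys).Uh) :
    (∀ i j, rkQ j < rkQ i → π y i j = 0) ∧ (∀ i, π y i i = 1) ∧
      ∀ k k' : κ, k ≠ k' → π y (Sum.inr k) (Sum.inr k') = 0 := by
  have key : UNITRIQ.UT (π y) := by
    apply UNITRIQ.UT_of_mem_closure π _ hy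
    rintro g ⟨⟨r, hv⟩, hpos, hg⟩
    cases r with
    | lg a b =>
      apply UNITRIQ.UT_of_mem_closure π _ hg
      rintro _ ⟨t, rfl⟩
      rw [hπX a b hv t]
      exact UNITRIQ.UT_xmQ hv hpos t
    | sh a =>
      obtain ⟨i, rfl⟩ := hpos
      apply UNITRIQ.UT_of_mem_closure π _ hg
      rintro _ ⟨t, rfl⟩
      rw [hπY _ t]
      exact UNITRIQ.UT_ymQ i t
  refine ⟨fun i j h => key.blockTriangular h, key.2, fun k k' hkk' => ?_⟩
  exact key.1 _ _ (fun h => hkk' (Sum.inr_injective h)) le_rfl

end Cfsg.Agent.S2099P
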