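import Mathlib
import Cfsg.Agent.Helper2.S2103.Defs

/-! S2103, piece EMB: Steinberg's relations (R1), (R2) pass to an embedded root subsystem with
signs. -/

set_option autoImplicit false
set_option linter.unusedSectionVars false
set_option linter.unusedVariables false

namespace Cfsg.Agent.S2103P

open Cfsg.Lie Cfsg.Agent.Helper6 Cfsg.Agent.Helper2.StPerf Cfsg.Agent.Helper2.Stb

namespace EMB

/-- what `embChk` says -/
theorem embChk_spec {D' D : ChevalleyDatum} {ρ : ℕ → ℕ} {ε : ℕ → ℤ}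
    (he : embChk D' D ρ ε = true) : ∀ a < D'.nroots, ρ a < D.nroots ∧ (ε a = 1 ∨ ε a = -1) ∧
      ∀ b < D'.nroots, b ≠ a → b ≠ D'.neg a → ρ b ≠ ρ a ∧ ρ b ≠ D.neg (ρ a) ∧
        D.commTerms (ρ a) (ρ b) = (D'.commTerms a b).map fun c =>
          (ρ c.1, ε c.1 * c.2.1 * ε a ^ c.2.2.1 * ε b ^ c.2.2.2, c.2.2.1, c.2.2.2) := by
  unfold embChk at he
  rw [allLt_iff] at he
  intro a ha
  have h1 := he a ha
  simp only [Bool.and_eq_true, Bool.or_eq_true, decide_eq_true_eq, allLt_iff] at h1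
  obtain ⟨⟨h2, h3⟩, h4⟩ := h1
  refine ⟨h2, h3, ?_⟩
  intro b hb hba hbn
  rcases h4 b hb with (h5 | h5) | h5
  · exact absurd h5 hba
  · exact absurd h5 hbn
  · exact ⟨h5.1.1, h5.1.2, h5.2⟩

theorem sign_pow {K : Type*} [Field K] {e : ℤ} (he : e = 1 ∨ e = -1) (i : ℕ) :
    ((e : ℤ) : K) ^ i * ((e : ℤ) : K) ^ i = 1 := by
  have hsq : e * e = 1 := by rcases he with h | h <;> rw [h] <;> norm_num
  rw [← mul_pow, ← Int.cast_mul, hsq, Int.cast_one, one_pow]

end EMB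

/-- piece EMB -/
theorem r12_of_emb {D' D : ChevalleyDatum} {K : Type*} [Field K] {M : Type*} [Group M]
    {X : ℕ → K → M} (h : R12 D X) {ρ : ℕ → ℕ} {ε : ℕ → ℤ} (he : embChk D' D ρ ε = true) :
    R12 D' (embX X ρ ε) := by
  have key := EMB.embChk_spec he
  constructor
  · intro a ha t u
    obtain ⟨h2, h3, _⟩ := key a ha
    show X (ρ a) ((ε a : K) * t) * X (ρ a) ((ε a : K) * u) = X (ρ a) ((ε a : K) * (t + u))
    rw [h.add (ρ a) h2, mul_add]
  · intro a ha b hb hba hbn t u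
    obtain ⟨h2, h3, h4⟩ := key a ha
    obtain ⟨h5, h6, h7⟩ := h4 b hb hba hbn
    obtain ⟨h2b, h3b, _⟩ := key b hb
    show (X (ρ b) ((ε b : K) * u))⁻¹ * (X (ρ a) ((ε a : K) * t))⁻¹ * X (ρ b) ((ε b : K) * u) *
      X (ρ a) ((ε a : K) * t) = _
    rw [h.comm (ρ a) h2 (ρ b) h2b h5 h6]
    unfold ChevalleyDatum.commWord wordX
    rw [h7, List.map_map, List.map_map, List.map_map]
    congr 1
    apply List.map_congr_left
    intro c hc
    simp only [Function.comp, embX]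
    congr 1
    have ha2 := EMB.sign_pow (K := K) h3 c.2.2.1
    have hb2 := EMB.sign_pow (K := K) h3b c.2.2.2
    push_cast
    rw [neg_mul_eq_mul_neg, mul_pow, mul_pow]
    linear_combination ((ε c.1 : K) * (c.2.1 : K) * (-t) ^ c.2.2.1 * u ^ c.2.2.2 *
      (ε b : K) ^ c.2.2.2 * (ε b : K) ^ c.2.2.2) * ha2 +
      ((ε c.1 : K) * (c.2.1 : K) * (-t) ^ c.2.2.1 * u ^ c.2.2.2) * hb2

end Cfsg.Agent.S2103P
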