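import Mathlib
import Cfsg.Agent.Helper2.S2103.Defs
import Cfsg.Agent.Helper2.S2400.Final
import Cfsg.Agent.Helper21.S2400A3EMB
import Cfsg.Agent.Helper26.S2103EMB

/-! S2103, piece B2SELF: lifts of `x_r(t)`, `x_r(u)` commute when `r` lies in an embedded `B₂`
(pull-back along `St(B₂) → M` and the splitting of the central extensions of `St(B₂, K)`). -/

set_option autoImplicit false
set_option linter.unusedSectionVars false
set_option linter.unusedVariables false

namespace Cfsg.Agent.S2103P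

open scoped commutatorElement
open Cfsg.Lie Cfsg.Agent.Helper6 Cfsg.Agent.Helper2.StPerf Cfsg.Agent.Helper2.Stb

namespace B2SELF

open Cfsg.Agent.S2400P.A3EMB (pull)

/-- a homomorphism `τ : St(B₂) → E` lifting `φ : St(B₂) → M` through the central extension `ψ` -/
theorem exists_lift_of_split_B2 {K : Type*} [Field K] [Fintype K] (hK : 3 ≤ Fintype.card K)
    {M : Type*} [Group M] {E : Type*} [Group E] (ψ : E →* M) (hψ : Function.Surjective ψ)
    (hc : ψ.ker ≤ Subgroup.center E) (φ : chevB2.SteinbergCover K →* M) :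
    ∃ τ : chevB2.SteinbergCover K →* E, ∀ g, ψ (τ g) = φ g := by
  classical
  let P := pull ψ φ
  let π : P →* chevB2.SteinbergCover K :=
    (MonoidHom.snd E (chevB2.SteinbergCover K)).comp P.subtype
  have hπ : Function.Surjective π := by
    intro y
    obtain ⟨x, hx⟩ := hψ (φ y)
    exact ⟨⟨(x, y), hx⟩, rfl⟩
  have hker : π.ker ≤ Subgroup.center P := by
    intro p hp
    rw [MonoidHom.mem_ker] at hp
    have hp2 : p.1.2 = 1 := hp
    have hp1 : p.1.1 ∈ ψ.ker := by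
      rw [MonoidHom.mem_ker]
      have h' : ψ p.1.1 = φ p.1.2 := p.2
      rw [h', hp2, map_one]
    have hz := Subgroup.mem_center_iff.1 (hc hp1)
    rw [Subgroup.mem_center_iff]
    intro q
    apply Subtype.ext
    apply Prod.ext
    · show q.1.1 * p.1.1 = p.1.1 * q.1.1
      exact hz q.1.1
    · show q.1.2 * p.1.2 = p.1.2 * q.1.2
      rw [hp2, mul_one, one_mul]
  have hx : ∃ x : K, x ≠ 0 ∧ x ≠ 1 := by
    by_contra hcon
    push Not at hcon
    have hsub : (Finset.univ : Finset K) ⊆ {0, 1} := by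
      intro v _
      by_cases hv : v = 0
      · simp [hv]
      · simp [hcon v hv]
    have := Finset.card_le_card hsub
    have h2 : ({0, 1} : Finset K).card ≤ 2 := Finset.card_le_two
    rw [Finset.card_univ] at this
    omega
  obtain ⟨e, he⟩ := Cfsg.Agent.S2397.result (K := K) chevB2 (by simp) (fun _ => hx)
  have hsurj : Function.Surjective (e.toMonoidHom.comp π) := e.surjective.comp hπ
  have hker' : (e.toMonoidHom.comp π).ker ≤ Subgroup.center P := by
    intro p hp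
    apply hker
    rw [MonoidHom.mem_ker] at hp ⊢
    have h1 : e (π p) = 1 := hp
    rw [← e.map_one] at h1
    exact e.injective h1
  obtain ⟨σ0, hσ0⟩ := Cfsg.Agent.S2400P.split_B2 hK (e.toMonoidHom.comp π) hsurj hker'
  refine ⟨((MonoidHom.fst E (chevB2.SteinbergCover K)).comp P.subtype).comp
    (σ0.comp e.toMonoidHom), fun g => ?_⟩
  have h1 : ψ (σ0 (e g)).1.1 = φ (σ0 (e g)).1.2 := (σ0 (e g)).2
  have h2 : (σ0 (e g)).1.2 = g := by
    have h3 : e (π (σ0 (e g))) = e g := hσ0 (e g)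
    exact e.injective h3
  show ψ (σ0 (e g)).1.1 = φ g
  rw [h1, h2]

theorem eps_mul_self {K : Type*} [Field K] {e : ℤ} (he : e = 1 ∨ e = -1) (t : K) :
    (e : K) * ((e : K) * t) = t := by
  rcases he with h | h <;> subst h <;> simp

end B2SELF

/-- piece B2SELF -/
theorem lifts_commute_self_of_embB2 {K : Type*} [Field K] [Fintype K]
    (hK : 3 ≤ Fintype.card K) {D : ChevalleyDatum} {M : Type*} [Group M] {X : ℕ → K → M}
    (h : R12 D X) {E : Type*} [Group E] (ψ : E →* M) (hψ : Function.Surjective ψ)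
    (hc : ψ.ker ≤ Subgroup.center E) {ρ : ℕ → ℕ} {ε : ℕ → ℤ}
    (he : embChk chevB2 D ρ ε = true) {a : ℕ} (ha : a < 8) (t u : K) (e1 e2 : E)
    (h1 : ψ e1 = X (ρ a) t) (h2 : ψ e2 = X (ρ a) u) : e1 * e2 = e2 * e1 := by
  have hR := r12_of_emb h he
  obtain ⟨φ, hφ⟩ := Cfsg.Agent.S2400P.hom_of_r12_B2 hR
  obtain ⟨τ, hτ⟩ := B2SELF.exists_lift_of_split_B2 hK ψ hψ hc φ
  have hsgn : ε a = 1 ∨ ε a = -1 := (EMB.embChk_spec he a ha).2.1
  -- the two lifts through `τ`
  have hy : ∀ s : K, ψ (τ (chevB2.scGen K a ((ε a : K) * s))) = X (ρ a) s := by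
    intro s
    rw [hτ, hφ a ha]
    show X (ρ a) ((ε a : K) * ((ε a : K) * s)) = X (ρ a) s
    rw [B2SELF.eps_mul_self hsgn]
  have hcomm : τ (chevB2.scGen K a ((ε a : K) * t)) * τ (chevB2.scGen K a ((ε a : K) * u)) =
      τ (chevB2.scGen K a ((ε a : K) * u)) * τ (chevB2.scGen K a ((ε a : K) * t)) := by
    have hadd := (r12_pX (D := chevB2) (K := K) (rels := chevB2.steinbergRelsAB K)
      subset_rfl).add a ha
    have e1 : chevB2.scGen K a ((ε a : K) * t) * chevB2.scGen K a ((ε a : K) * u) =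
        chevB2.scGen K a ((ε a : K) * u) * chevB2.scGen K a ((ε a : K) * t) := by
      have := hadd ((ε a : K) * t) ((ε a : K) * u)
      have h' := hadd ((ε a : K) * u) ((ε a : K) * t)
      rw [add_comm] at h'
      exact this.trans h'.symm
    rw [← map_mul, ← map_mul, e1]
  have hz1 : e1 * (τ (chevB2.scGen K a ((ε a : K) * t)))⁻¹ ∈ Subgroup.center E := by
    apply hc
    rw [MonoidHom.mem_ker, map_mul, map_inv, hy, h1, mul_inv_cancel]
  have hz2 : e2 * (τ (chevB2.scGen K a ((ε a : K) * u)))⁻¹ ∈ Subgroup.center E := by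
    apply hc
    rw [MonoidHom.mem_ker, map_mul, map_inv, hy, h2, mul_inv_cancel]
  obtain ⟨y1, hy1⟩ : ∃ y, y = τ (chevB2.scGen K a ((ε a : K) * t)) := ⟨_, rfl⟩
  obtain ⟨y2, hy2⟩ : ∃ y, y = τ (chevB2.scGen K a ((ε a : K) * u)) := ⟨_, rfl⟩
  rw [← hy1, ← hy2] at hcomm
  rw [← hy1] at hz1
  rw [← hy2] at hz2
  have c1 := Subgroup.mem_center_iff.mp hz1
  have c2 := Subgroup.mem_center_iff.mp hz2
  have w1 : e1 = (e1 * y1⁻¹) * y1 := by group
  have w2 : e2 = (e2 * y2⁻¹) * y2 := by group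
  rw [w1, w2]
  calc e1 * y1⁻¹ * y1 * (e2 * y2⁻¹ * y2)
      = (e1 * y1⁻¹) * ((y1 * (e2 * y2⁻¹)) * y2) := by group
    _ = (e1 * y1⁻¹) * (((e2 * y2⁻¹) * y1) * y2) := by rw [c2 y1]
    _ = ((e1 * y1⁻¹) * (e2 * y2⁻¹)) * (y1 * y2) := by group
    _ = ((e2 * y2⁻¹) * (e1 * y1⁻¹)) * (y2 * y1) := by rw [hcomm, c2 (e1 * y1⁻¹)]
    _ = (e2 * y2⁻¹) * (((e1 * y1⁻¹) * y2) * y1) := by group
    _ = (e2 * y2⁻¹) * ((y2 * (e1 * y1⁻¹)) * y1) := by rw [c1 y2]
    _ = _ := by group

end Cfsg.Agent.S2103P
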