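import Mathlib
import Cfsg.Prelude.Def_GeometricClasses
import Cfsg.Agent.Helper2.S5886.Defs
import Cfsg.Agent.Helper6.S5886KTRANS
import Cfsg.Agent.Helper21.S5886LINES

/-! # S5886 piece MOVE -/

set_option autoImplicit false

namespace Cfsg.Agent.S5886P

variable {F K V : Type*} [Field F] [Field K] [Algebra F K]
  [AddCommGroup V] [Module F V] [Module K V] [IsScalarTower F K V]

/-- the elements of `KTV` are `K`-linear -/
theorem MOVE.ktv_smul {s : V ≃ₗ[F] V} (hs : s ∈ KTV F K V) (c : K) (x : V) : s (c • x) = c • s x := by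
  have key : ∀ s ∈ KTV F K V, ∀ (c : K) (x : V), s (c • x) = c • s x := by
    intro s hs
    unfold KTV at hs
    induction hs using Subgroup.closure_induction with
    | mem t ht =>
      obtain ⟨ψ, u, _, ht⟩ := ht
      intro c x
      rw [ht, ht, map_smul, smul_add, smul_eq_mul, mul_smul]
    | one =>
      intro c x
      rfl
    | mul a b _ _ iha ihb =>
      intro c x
      rw [LinearEquiv.mul_apply, LinearEquiv.mul_apply, ihb, iha]
    | inv a _ iha =>
      intro c x
      apply a.injective
      rw [iha]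
      simp
  exact key s hs c x

/-- membership in a `K`-line -/
theorem MOVE.mem_Kline {v w : V} : w ∈ Kline (F := F) (K := K) v ↔ ∃ c : K, c • v = w := by
  unfold Kline
  rw [Submodule.restrictScalars_mem, Submodule.mem_span_singleton]

/-- MOVE -/
theorem MOVE [Finite K] [Finite V] (hm : 2 ≤ Module.finrank K V) (M : Subgroup (V ≃ₗ[F] V))
    (hKTV : KTV F K V ≤ M) (hM : ¬ M ≤ Nrm F K V) :
    ∃ (v : V) (k : K) (h : V ≃ₗ[F] V), v ≠ 0 ∧ h ∈ M ∧ h v = v ∧ h (k • v) ∉ Kline (F := F) (K := K) v := by
  by_contra hcon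
  apply hM
  intro g hg
  apply LINES hm g
  intro k x
  by_cases hx : x = 0
  · rw [hx, smul_zero, map_zero]
    exact Submodule.zero_mem _
  · have hgx : g x ≠ 0 := by
      intro h0
      apply hx
      apply g.injective
      rw [h0, map_zero]
    obtain ⟨s, hs, hsx⟩ := KTRANS (F := F) (K := K) hm (g x) x hgx hx
    have hmem : s * g ∈ M := M.mul_mem (hKTV hs) hg
    have hfix : (s * g) x = x := by rw [LinearEquiv.mul_apply, hsx]
    have hin : (s * g) (k • x) ∈ Kline (F := F) (K := K) x := by
      by_contra hnot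
      exact hcon ⟨x, k, s * g, hx, hmem, hfix, hnot⟩
    rw [MOVE.mem_Kline] at hin ⊢
    obtain ⟨c, hc⟩ := hin
    refine ⟨c, ?_⟩
    apply s.injective
    rw [MOVE.ktv_smul hs, hsx, hc, LinearEquiv.mul_apply]

end Cfsg.Agent.S5886P
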