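import Mathlib
import Cfsg.Agent.Helper27.S4150Defs

/-!
S4150 piece RESTRISO: if `G` fixes every point outside `D`, restriction to `D` is an isomorphism.
-/

set_option autoImplicit false

namespace Cfsg.Agent.S4150P

open Equiv Equiv.Perm MulAction

section
variable {α : Type*} [Fintype α] [DecidableEq α]

/-- RESTRISO [M]: if `G` fixes every point outside `D`, restriction to `D` is an isomorphism. -/
theorem RESTRISO.main (G : Subgroup (Perm α)) (D : Finset α)
    (hG : ∀ g ∈ G, ∀ a, a ∉ D → g a = a) : Nonempty (restr G D ≃* G) := by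
  let f : restr G D →* G :=
    { toFun := fun g' => ⟨Equiv.Perm.ofSubtype (g' : Perm ↥D), g'.2⟩
      map_one' := Subtype.ext (map_one _)
      map_mul' := fun a b => Subtype.ext (map_mul _ _ _) }
  have hinj : Function.Injective f := by
    intro a b hab
    have h := congrArg Subtype.val hab
    exact Subtype.ext (Equiv.Perm.ofSubtype_injective h)
  have hsurj : Function.Surjective f := by
    rintro ⟨g, hg⟩
    have h1 : ∀ x, (g x ∈ D) ↔ (x ∈ D) := by
      intro x
      constructor
      · intro hx
        by_contra hxD
        rw [hG g hg x hxD] at hx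
        exact hxD hx
      · intro hx
        by_contra hgx
        have h3 := hG g hg (g x) hgx
        have h2 : g x = x := g.injective h3
        rw [h2] at hgx
        exact hgx hx
    have h2 : ∀ x, g x ≠ x → x ∈ D := by
      intro x hx
      by_contra hxD
      exact hx (hG g hg x hxD)
    have h3 : Equiv.Perm.ofSubtype (Equiv.Perm.subtypePerm g h1) = g :=
      Equiv.Perm.ofSubtype_subtypePerm h1 h2
    refine ⟨⟨Equiv.Perm.subtypePerm g h1, ?_⟩, ?_⟩
    · show Equiv.Perm.ofSubtype (Equiv.Perm.subtypePerm g h1) ∈ G
      rw [h3]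
      exact hg
    · exact Subtype.ext h3
  exact ⟨MulEquiv.ofBijective f ⟨hinj, hsurj⟩⟩

end

end Cfsg.Agent.S4150P
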