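import Mathlib
import Cfsg.Prelude.Def_GeometricClasses
import Cfsg.Agent.Helper20.S6000Defs
import Cfsg.Agent.Helper26.S6000QUAT

/-! S6000 pieces ABEL and FIVE (driver helper20): from the two commuting quaternion pairs of QUAT,
a Klein four-group of nonscalar involutions and five pairwise anticommuting involutions. -/

set_option autoImplicit false
set_option linter.unusedSimpArgs false
open scoped MatrixGroups Matrix

namespace Cfsg.Agent.S6000P

namespace FIVE

section signs

variable {G : Type*} [Group G] [HasDistribNeg G]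

omit [HasDistribNeg G] in
lemma assoc_comm {x y : G} (h : y * x = x * y) (w : G) : y * (x * w) = x * (y * w) := by
  rw [← mul_assoc, h, mul_assoc]

lemma assoc_anti {x y : G} (h : y * x = -(x * y)) (w : G) : y * (x * w) = -(x * (y * w)) := by
  rw [← mul_assoc, h, neg_mul, mul_assoc]

lemma assoc_sq {x : G} (h : x * x = -1) (w : G) : x * (x * w) = -w := by
  rw [← mul_assoc, h, neg_mul, one_mul]

end signs

variable {F : Type*} [Field F]

/-- an element anticommuting with something is not scalar -/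
lemma nonscalar_of_anti (h2 : (2 : F) ≠ 0) {a b : GL (Fin 4) F} (hab : a * b = -(b * a)) :
    ∀ z : F, (a : M4 F) ≠ z • (1 : M4 F) := by
  intro z hz
  have h := gl_comm_of_scalar hz b
  rw [hab] at h
  exact neg_ne_self h2 _ h

end FIVE

open QUAT FIVE in
/-- ABEL -/
theorem exists_comm_invol {F : Type*} [Field F] {R : Subgroup (GL (Fin 4) F)} {ι : F}
    (h : Hyp64 R ι) :
    ∃ a b : GL (Fin 4) F, a ∈ R ∧ b ∈ R ∧ a * a = 1 ∧ b * b = 1 ∧ a * b = b * a ∧
      (∀ z : F, (a : M4 F) ≠ z • (1 : M4 F)) ∧ (∀ z : F, (b : M4 F) ≠ z • (1 : M4 F)) ∧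
      (∀ z : F, ((a * b : GL (Fin 4) F) : M4 F) ≠ z • (1 : M4 F)) := by
  obtain ⟨c, hcR, -, hccomm, hcc⟩ := exists_iota h
  obtain ⟨s, s', t, t', hsR, hs'R, htR, ht'R, hss, hs's', htt, ht't', hA1, hA2, hC1, hC2, hC3,
    hC4⟩ := exists_quat_pairs h
  have r1 : s' * s = -(s * s') := anti_symm hA1
  have r2 : t' * t = -(t * t') := anti_symm hA2
  have r3 : t * s = s * t := hC1.symm
  have r4 : t' * s = s * t' := hC2.symm
  have r5 : t * s' = s' * t := hC3.symm
  have r6 : t' * s' = s' * t' := hC4.symm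
  have q1 : s * c = c * s := (hccomm s).symm
  have q2 : s' * c = c * s' := (hccomm s').symm
  have q3 : t * c = c * t := (hccomm t).symm
  have q4 : t' * c = c * t' := (hccomm t').symm
  refine ⟨c * s, c * t, R.mul_mem hcR hsR, R.mul_mem hcR htR, ?_, ?_, ?_, ?_, ?_, ?_⟩
  · simp only [mul_assoc, q1, assoc_comm q1, hss, assoc_sq hss, hcc, assoc_sq hcc, mul_neg,
      neg_mul, neg_neg, mul_one]
  · simp only [mul_assoc, q3, assoc_comm q3, htt, assoc_sq htt, hcc, assoc_sq hcc, mul_neg,
      neg_mul, neg_neg, mul_one]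
  · simp only [mul_assoc, q1, assoc_comm q1, q3, assoc_comm q3, r3, assoc_comm r3]
  · apply nonscalar_of_anti h.two_ne (b := s')
    simp only [mul_assoc, q2, assoc_comm q2, r1, assoc_anti r1, mul_neg, neg_mul, neg_neg]
  · apply nonscalar_of_anti h.two_ne (b := t')
    simp only [mul_assoc, q4, assoc_comm q4, r2, assoc_anti r2, mul_neg, neg_mul, neg_neg]
  · apply nonscalar_of_anti h.two_ne (b := s')
    simp only [mul_assoc, q2, assoc_comm q2, r1, assoc_anti r1, r5, assoc_comm r5, q1,
      assoc_comm q1, q3, assoc_comm q3, r3, assoc_comm r3, mul_neg, neg_mul, neg_neg]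

open QUAT FIVE in
/-- FIVE -/
theorem exists_five {F : Type*} [Field F] {R : Subgroup (GL (Fin 4) F)} {ι : F} (h : Hyp64 R ι) :
    ∃ t : Fin 5 → GL (Fin 4) F, (∀ i, t i ∈ R) ∧ (∀ i, t i * t i = 1) ∧
      (∀ i j, i ≠ j → t i * t j = -(t j * t i)) := by
  obtain ⟨c, hcR, -, hccomm, hcc⟩ := exists_iota h
  obtain ⟨s, s', t, t', hsR, hs'R, htR, ht'R, hss, hs's', htt, ht't', hA1, hA2, hC1, hC2, hC3,
    hC4⟩ := exists_quat_pairs h
  have r1 : s' * s = -(s * s') := anti_symm hA1
  have r2 : t' * t = -(t * t') := anti_symm hA2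
  have r3 : t * s = s * t := hC1.symm
  have r4 : t' * s = s * t' := hC2.symm
  have r5 : t * s' = s' * t := hC3.symm
  have r6 : t' * s' = s' * t' := hC4.symm
  have q1 : s * c = c * s := (hccomm s).symm
  have q2 : s' * c = c * s' := (hccomm s').symm
  have q3 : t * c = c * t := (hccomm t).symm
  have q4 : t' * c = c * t' := (hccomm t').symm
  refine ⟨![c * s, c * s', s * s' * t, s * s' * t', s * s' * t * t'], ?_, ?_, ?_⟩
  · intro i
    fin_cases i
    · exact R.mul_mem hcR hsR
    · exact R.mul_mem hcR hs'R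
    · exact R.mul_mem (R.mul_mem hsR hs'R) htR
    · exact R.mul_mem (R.mul_mem hsR hs'R) ht'R
    · exact R.mul_mem (R.mul_mem (R.mul_mem hsR hs'R) htR) ht'R
  · intro i
    fin_cases i <;>
    simp only [Fin.zero_eta, Fin.mk_one, Fin.reduceFinMk, Matrix.cons_val_zero,
      Matrix.cons_val_one, Matrix.cons_val, mul_assoc,
      q1, assoc_comm q1, q2, assoc_comm q2, q3, assoc_comm q3, q4, assoc_comm q4,
      r1, assoc_anti r1, r2, assoc_anti r2, r3, assoc_comm r3, r4, assoc_comm r4,
      r5, assoc_comm r5, r6, assoc_comm r6,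
      hss, assoc_sq hss, hs's', assoc_sq hs's', htt, assoc_sq htt, ht't', assoc_sq ht't',
      hcc, assoc_sq hcc, mul_neg, neg_mul, neg_neg, mul_one]
  · intro i j hij
    fin_cases i <;> fin_cases j <;>
    first
    | exact absurd rfl hij
    | simp only [Fin.zero_eta, Fin.mk_one, Fin.reduceFinMk, Matrix.cons_val_zero,
        Matrix.cons_val_one, Matrix.cons_val, mul_assoc,
        q1, assoc_comm q1, q2, assoc_comm q2, q3, assoc_comm q3, q4, assoc_comm q4,
        r1, assoc_anti r1, r2, assoc_anti r2, r3, assoc_comm r3, r4, assoc_comm r4,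
        r5, assoc_comm r5, r6, assoc_comm r6,
        hss, assoc_sq hss, hs's', assoc_sq hs's', htt, assoc_sq htt, ht't', assoc_sq ht't',
        hcc, assoc_sq hcc, mul_neg, neg_mul, neg_neg, mul_one]

end Cfsg.Agent.S6000P
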