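import Mathlib
import Cfsg.Prelude.Def_GeometricClasses
import Cfsg.Agent.Helper20.S6000Defs
import Cfsg.Agent.Helper19.SympTypeE

/-! S6000 piece STRUCT (driver helper20): the abstract hypotheses on `R` (symplectic type,
exponent 4, order 64, centre of order 4, absolutely irreducible) give the element-level
description `Hyp64 R ι`. -/

set_option autoImplicit false
open scoped MatrixGroups Matrix

namespace Cfsg.Agent.S6000P

open Cfsg.Agent.Helper19.SympType
open scoped commutatorElement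

/-- STRUCT -/
theorem hyp64_of_hyps {F : Type*} [Field F] (h2 : (2 : F) ≠ 0) (R : Subgroup (GL (Fin 4) F))
    (hRs : Cfsg.Geo.IsSymplecticTypeGroup 2 R)
    (hRi : Cfsg.Geo.ActsAbsolutelyIrreducibly (Cfsg.Geo.matrixSet R))
    (hR6 : Nat.card R = 2 ^ 6) (hRZ : Nat.card (Subgroup.center R) = 4) :
    ∃ ι : F, Hyp64 R ι := by
  classical
  have : Finite ↥R := Nat.finite_of_card_ne_zero (by rw [hR6]; norm_num)
  have : Nontrivial ↥R := Finite.one_lt_card_iff_nontrivial.mp (by rw [hR6]; norm_num)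
  have h4 : ∀ t : ↥R, t ^ 4 = 1 := by
    intro t
    have h := Monoid.pow_exponent_eq_one t
    rw [hRs.exponent_eq] at h
    exact h
  obtain ⟨hL, hcard⟩ :=
    symL_eq_top_of_pow_four hRs.pGroup hRs.cyclic_of_characteristic h4
  obtain ⟨z, hz1, hzuniq⟩ := (Nat.card_eq_two_iff' (1 : ↥(omegaCenter 2 ↥R))).mp hcard
  -- the element `zg` of `GL`
  obtain ⟨zg, hzg⟩ : ∃ zg : GL (Fin 4) F, zg = ((z : ↥R) : GL (Fin 4) F) := ⟨_, rfl⟩
  have hzcomm : ∀ a ∈ R, zg * a = a * zg := by
    intro a ha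
    have h := Subgroup.mem_center_iff.mp z.2.1 ⟨a, ha⟩
    have h' := congrArg (fun t : ↥R => (t : GL (Fin 4) F)) h
    simp only [Subgroup.coe_mul] at h'
    rw [hzg]
    exact h'.symm
  have hzsq : zg * zg = 1 := by
    have h := z.2.2
    have h' := congrArg (fun t : ↥R => (t : GL (Fin 4) F)) h
    simp only [pow_two, Subgroup.coe_mul, Subgroup.coe_one] at h'
    rw [hzg]
    exact h'
  have hzne : zg ≠ 1 := by
    intro h
    apply hz1
    apply Subtype.ext
    apply Subtype.ext
    rw [← hzg, h]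
    rfl
  -- central elements are scalar
  have hscal : ∀ w ∈ R, (∀ a ∈ R, w * a = a * w) → ∃ c : F, (w : M4 F) = c • (1 : M4 F) := by
    intro w _ hw
    apply hRi.2 (w : M4 F)
    rintro s ⟨a, ha, rfl⟩
    show (w : M4 F) * (a : M4 F) = (a : M4 F) * (w : M4 F)
    rw [← Units.val_mul, ← Units.val_mul, hw a ha]
  have hzgR : zg ∈ R := by rw [hzg]; exact (z : ↥R).2
  obtain ⟨c, hc⟩ := hscal zg hzgR hzcomm
  have hcc : c * c = 1 := by
    have h := congrArg (fun t : GL (Fin 4) F => (t : M4 F)) hzsq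
    simp only [Units.val_mul, Units.val_one] at h
    rw [hc, Matrix.smul_mul, Matrix.mul_smul, Matrix.one_mul, smul_smul] at h
    have h' := congrFun (congrFun h 0) 0
    simpa using h'
  have hzneg : zg = -1 := by
    have h3 : (c - 1) * (c + 1) = 0 := by linear_combination hcc
    rcases mul_eq_zero.mp h3 with h | h
    · exfalso
      apply hzne
      apply Units.ext
      rw [hc, sub_eq_zero.mp h, one_smul]
      rfl
    · apply Units.ext
      rw [hc, eq_neg_of_add_eq_zero_left h, coe_neg_one]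
      simp
  -- elements of `Ω₁(Z(R))`
  have hcases : ∀ w : ↥R, w ∈ omegaCenter 2 ↥R →
      (w : GL (Fin 4) F) = 1 ∨ (w : GL (Fin 4) F) = -1 := by
    intro w hw
    by_cases hw1 : (⟨w, hw⟩ : ↥(omegaCenter 2 ↥R)) = 1
    · left
      have h := congrArg (fun t : ↥(omegaCenter 2 ↥R) => ((t : ↥R) : GL (Fin 4) F)) hw1
      exact h
    · right
      have h := hzuniq _ hw1
      have h' := congrArg (fun t : ↥(omegaCenter 2 ↥R) => ((t : ↥R) : GL (Fin 4) F)) h
      simp only at h'
      rw [h', ← hzg, hzneg]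
  have hsymL : ∀ t : ↥R, t ∈ symL 2 ↥R := by
    intro t; rw [hL]; exact Subgroup.mem_top t
  have hsq : ∀ a ∈ R, a * a = 1 ∨ a * a = -1 := by
    intro a ha
    have h := (mem_symL.mp (hsymL ⟨a, ha⟩)).1
    have h' := hcases _ h
    simpa [pow_two] using h'
  -- a central element with square `-1`
  have hex : ∃ w : ↥R, w ∈ Subgroup.center ↥R ∧ (w : GL (Fin 4) F) * (w : GL (Fin 4) F) = -1 := by
    by_contra hcon
    have hle : Subgroup.center ↥R ≤ omegaCenter 2 ↥R := by
      intro w hw
      refine ⟨hw, ?_⟩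
      rcases hsq (w : GL (Fin 4) F) w.2 with h | h
      · apply Subtype.ext
        simpa [pow_two] using h
      · exact absurd ⟨w, hw, h⟩ hcon
    have := Subgroup.card_le_of_le hle
    omega
  obtain ⟨w, hwc, hww⟩ := hex
  have hwcomm : ∀ a ∈ R, (w : GL (Fin 4) F) * a = a * (w : GL (Fin 4) F) := by
    intro a ha
    have h := Subgroup.mem_center_iff.mp hwc ⟨a, ha⟩
    have h' := congrArg (fun t : ↥R => (t : GL (Fin 4) F)) h
    simp only [Subgroup.coe_mul] at h'
    exact h'.symm
  obtain ⟨ι, hι⟩ := hscal (w : GL (Fin 4) F) w.2 hwcomm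
  have hιι : ι * ι = -1 := by
    have h := congrArg (fun t : GL (Fin 4) F => (t : M4 F)) hww
    simp only [Units.val_mul] at h
    rw [hι, Matrix.smul_mul, Matrix.mul_smul, Matrix.one_mul, smul_smul, coe_neg_one] at h
    have h' := congrFun (congrFun h 0) 0
    simpa using h'
  refine ⟨ι, h2, hιι, by rw [hR6]; norm_num, ⟨(w : GL (Fin 4) F), w.2, hι⟩, hsq, ?_, hRi⟩
  intro a ha b hb
  have h := (mem_symL.mp (hsymL ⟨b, hb⟩)).2 ⟨a, ha⟩
  have h' := hcases _ h
  rw [commutatorElement_def] at h'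
  simp only [Subgroup.coe_mul, Subgroup.coe_inv] at h'
  rcases h' with h' | h'
  · left
    have : a * b = (a * b * a⁻¹ * b⁻¹) * (b * a) := by group
    rw [this, h', one_mul]
  · right
    have : a * b = (a * b * a⁻¹ * b⁻¹) * (b * a) := by group
    rw [this, h', neg_one_mul]

end Cfsg.Agent.S6000P
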