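import Mathlib
import Cfsg.Prelude.Def_Classical
import Cfsg.Agent.Helper21.S2286DEFS
import Cfsg.Agent.Helper21.S2289DEFS
import Cfsg.Agent.Helper21.S2289UDEFS
import Cfsg.Agent.Helper29.S2289FXI
import Cfsg.Agent.Helper21.S2289UCL

/-! S2289 wave 3, piece RELCP (driver helper21): `A_3` is a product of words in the `c`-conjugates of `A_0, A_1, A_2`
(`c = h^(q-1)`) and a word in the conjugates of `z` (the field `F` is spanned by `1, μ, μ²` over `F_p[μ^(q-1)]`). -/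

set_option autoImplicit false

namespace Cfsg.Agent.Helper21.S2289

open Cfsg.Agent.Helper21.S2286 Polynomial Multiplicative

section rel
variable {F : Type*} [Field F] [Fintype F] {q : ℕ} {G : Type*} [Group G] (D : U3Data F q G)

theorem rel_cp (p : ℕ) [Fact p.Prime] [CharP F p] (hF : Fintype.card F = q ^ 2) (h2 : q ≠ 2)
    (h3 : q ≠ 3) (ζ : Fˣ) (hζ : ∀ y : Fˣ, y ∈ Subgroup.zpowers ζ) (β₀ : F) (hβ : β₀ + β₀ ^ q = -1) :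
    ∃ (e₀ : ℕ → ℕ) (n₀ : ℕ) (e₁ : ℕ → ℕ) (n₁ : ℕ) (e₂ : ℕ → ℕ) (n₂ : ℕ) (zc4 : ℕ → ℕ) (zn4 : ℕ),
      cj (D.hG (ζ : F)) (D.uG 1 β₀) 3 =
        prodA (D.hG (ζ : F) ^ (q - 1)) (cj (D.hG (ζ : F)) (D.uG 1 β₀) 0) e₀ n₀ *
        prodA (D.hG (ζ : F) ^ (q - 1)) (cj (D.hG (ζ : F)) (D.uG 1 β₀) 1) e₁ n₁ *
        prodA (D.hG (ζ : F) ^ (q - 1)) (cj (D.hG (ζ : F)) (D.uG 1 β₀) 2) e₂ n₂ *
        prodA (D.hG (ζ : F)) (zW (D.hG (ζ : F)) (D.uG 1 β₀)) zc4 zn4 := by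
  obtain ⟨e₀, n₀, e₁, n₁, e₂, n₂, hx⟩ :=
    xi_span p hF h2 h3 ζ hζ (((ζ : F) ^ 2 / (ζ : F) ^ q) ^ 3)
  have hu : InU D 1 (D.uG 1 β₀) := inU_uG D (val_base β₀ hβ)
  have hA : ∀ i : ℤ, InU D (((ζ : F) ^ 2 / (ζ : F) ^ q) ^ i * 1)
      (cj (D.hG (ζ : F)) (D.uG 1 β₀) i) := fun i => inU_cj D hF ζ i hu
  have hP : ∀ (i : ℤ) (e : ℕ → ℕ) (n : ℕ),
      InU D (ev (((ζ : F) ^ 2 / (ζ : F) ^ q) ^ (q - 1)) e n * (((ζ : F) ^ 2 / (ζ : F) ^ q) ^ i * 1))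
        (prodA (D.hG (ζ : F) ^ (q - 1)) (cj (D.hG (ζ : F)) (D.uG 1 β₀) i) e n) :=
    fun i e n => inU_prodA_pow D hF ζ (q - 1) (hA i) e n
  have h012 := inU_mul D hF (inU_mul D hF (hP 0 e₀ n₀) (hP 1 e₁ n₁)) (hP 2 e₂ n₂)
  have h3' : InU D (((ζ : F) ^ 2 / (ζ : F) ^ q) ^ 3)
      (cj (D.hG (ζ : F)) (D.uG 1 β₀) 3) := by
    refine (hA 3).congr ?_
    rw [mul_one]
    exact zpow_natCast _ 3
  have h012' : InU D (((ζ : F) ^ 2 / (ζ : F) ^ q) ^ 3)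
      (prodA (D.hG (ζ : F) ^ (q - 1)) (cj (D.hG (ζ : F)) (D.uG 1 β₀) 0) e₀ n₀ *
        prodA (D.hG (ζ : F) ^ (q - 1)) (cj (D.hG (ζ : F)) (D.uG 1 β₀) 1) e₁ n₁ *
        prodA (D.hG (ζ : F) ^ (q - 1)) (cj (D.hG (ζ : F)) (D.uG 1 β₀) 2) e₂ n₂) := by
    refine h012.congr ?_
    rw [hx, zpow_zero, zpow_one]
    have e2 : ((ζ : F) ^ 2 / (ζ : F) ^ q) ^ (2 : ℤ) = ((ζ : F) ^ 2 / (ζ : F) ^ q) ^ 2 :=
      zpow_natCast _ 2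
    rw [e2]
    ring
  obtain ⟨c, n, hc⟩ := inU_zcorr D p hF h2 h3 ζ hζ β₀ hβ h3' h012'
  exact ⟨e₀, n₀, e₁, n₁, e₂, n₂, c, n, hc⟩

end rel

end Cfsg.Agent.Helper21.S2289
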