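import Mathlib
import Cfsg.Prelude.Def_Classical
import Cfsg.Agent.Helper21.S2286DEFS
import Cfsg.Agent.Helper21.S2289DEFS
import Cfsg.Agent.Helper5.S2289MODELEV
import Cfsg.Agent.Helper5.S2289FMU
import Cfsg.Agent.Lead.S2289FETA
import Cfsg.Agent.Lead.S2289FIMAG
import Cfsg.Agent.Helper18.S2286FIELD2

/-! S2289 wave 3, piece RELZ (driver helper21): the four relations of the centre block hold in the model
(`z = [u, h u h⁻¹] = u(0, ι)`, `ι = μ - μ^q`). -/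

set_option autoImplicit false
set_option linter.unusedSectionVars false

namespace Cfsg.Agent.Helper21.S2289

open Cfsg.Agent.Helper21.S2286 Polynomial Multiplicative

section rel
variable {F : Type*} [Field F] [Fintype F] {q : ℕ} {G : Type*} [Group G] (D : U3Data F q G)

namespace RELZ

theorem val_one (β₀ : F) (hβ : β₀ + β₀ ^ q = -1) : Val q 1 β₀ := by
  unfold Val
  rw [one_pow, hβ]
  ring

/-- the elements `u(0, v)` commute and multiply additively -/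
theorem uG_zero_mul (hF : Fintype.card F = q ^ 2) {v w : F} (hv : v + v ^ q = 0)
    (hw : w + w ^ q = 0) : D.uG 0 v * D.uG 0 w = D.uG 0 (v + w) := by
  have h1 : Val q 0 v := (val_zero_iff hF v).2 hv
  have h2 : Val q 0 w := (val_zero_iff hF w).2 hw
  rw [D.u_mul 0 v 0 w h1 h2]
  congr 1
  · rw [add_zero]
  · rw [zero_mul, sub_zero]

end RELZ

theorem rel_z (p : ℕ) [Fact p.Prime] [CharP F p] (hF : Fintype.card F = q ^ 2) (h2 : q ≠ 2)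
    (h3 : q ≠ 3) (ζ : Fˣ) (hζ : ∀ y : Fˣ, y ∈ Subgroup.zpowers ζ) (β₀ : F) (hβ : β₀ + β₀ ^ q = -1) :
    (∃ v : F, v ≠ 0 ∧ v + v ^ q = 0 ∧ zW (D.hG (ζ : F)) (D.uG 1 β₀) = D.uG 0 v) ∧
    zW (D.hG (ζ : F)) (D.uG 1 β₀) ^ p = 1 ∧
    zW (D.hG (ζ : F)) (D.uG 1 β₀) * cj (D.hG (ζ : F)) (zW (D.hG (ζ : F)) (D.uG 1 β₀)) 1 =
      cj (D.hG (ζ : F)) (zW (D.hG (ζ : F)) (D.uG 1 β₀)) 1 * zW (D.hG (ζ : F)) (D.uG 1 β₀) ∧
    (∃ k : ℕ, cj (D.hG (ζ : F)) (zW (D.hG (ζ : F)) (D.uG 1 β₀)) (k : ℤ) =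
      zW (D.hG (ζ : F)) (D.uG 1 β₀) * cj (D.hG (ζ : F)) (zW (D.hG (ζ : F)) (D.uG 1 β₀)) 1) ∧
    prodA (D.hG (ζ : F)) (zW (D.hG (ζ : F)) (D.uG 1 β₀)) (mcoef p ((ζ : F) ^ (q + 1)))
      (mdeg p ((ζ : F) ^ (q + 1)) + 1) = 1 := by
  have hval : Val q 1 β₀ := RELZ.val_one β₀ hβ
  obtain ⟨_, hμq, _, _⟩ := mu_facts p hF h2 h3 ζ hζ
  obtain ⟨hvq, hv0⟩ := imag_of_mu hF (1 : F) ((ζ : F) ^ 2 / (ζ : F) ^ q) one_ne_zero hμq
  have hz := zW_u D hF ζ hval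
  set v : F := (1 : F) ^ (q + 1) * ((ζ : F) ^ 2 / (ζ : F) ^ q - ((ζ : F) ^ 2 / (ζ : F) ^ q) ^ q)
    with hv
  have hVv : Val q 0 v := (val_zero_iff hF v).2 hvq
  -- the conjugates of `z`
  have hcj : ∀ i : ℤ, cj (D.hG (ζ : F)) (D.uG 0 v) i = D.uG 0 (((ζ : F) ^ (q + 1)) ^ i * v) ∧
      (((ζ : F) ^ (q + 1)) ^ i * v) + (((ζ : F) ^ (q + 1)) ^ i * v) ^ q = 0 := by
    intro i
    obtain ⟨e1, e2⟩ := cj_hu D hF ζ i hVv
    rw [mul_zero] at e1 e2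
    exact ⟨e1, (val_zero_iff hF _).1 e2⟩
  rw [hz]
  refine ⟨⟨v, hv0, hvq, rfl⟩, ?_, ?_, ?_, ?_⟩
  · rw [uG_pow D hF hVv p]
    have hp0 : ((p : ℕ) : F) = 0 := CharP.cast_eq_zero F p
    rw [hp0, zero_mul, zero_mul, zero_pow (Nat.succ_ne_zero q), mul_zero, sub_zero, D.u_zero]
  · obtain ⟨e1, e2⟩ := hcj 1
    rw [e1, RELZ.uG_zero_mul D hF hvq e2, RELZ.uG_zero_mul D hF e2 hvq, add_comm]
  · obtain ⟨_, _, _, k, hk⟩ := eta_facts hF h2 h3 ζ hζ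
    refine ⟨k, ?_⟩
    obtain ⟨e1, e2⟩ := hcj 1
    obtain ⟨e3, e4⟩ := hcj (k : ℤ)
    rw [e1, e3, RELZ.uG_zero_mul D hF hvq e2]
    congr 1
    rw [zpow_natCast, hk, zpow_one]
    ring
  · rw [prodA_z D hF ζ v hvq, (mcoef_facts p ((ζ : F) ^ (q + 1))).2.2, zero_mul, D.u_zero]

end rel

end Cfsg.Agent.Helper21.S2289
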