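import Mathlib
import Cfsg.Prelude.Def_Classical
import Cfsg.Agent.Helper21.S2549Defs

/-!
# S2549, piece FIELD : the quadratic extension `K = F(θ)`, `θ² - aθ + b = 0`

`K := AdjoinRoot (X² - aX + b)` (irreducible since the binary form `z₁² + a z₁ z₂ + b z₂²` is
anisotropic), `σ` the `F`-automorphism `θ ↦ a - θ`.
-/

set_option autoImplicit false

open scoped Matrix

universe u

namespace Cfsg.Agent.S2549P

namespace FIELD

open Polynomial

noncomputable section

variable {F : Type u} [Field F]

/-- `X² - aX + b` -/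
def qpoly (a b : F) : F[X] := X ^ 2 - C a * X + C b

theorem qpoly_monic (a b : F) : (qpoly a b).Monic := by
  unfold qpoly
  monicity!

theorem qpoly_natDegree (a b : F) : (qpoly a b).natDegree = 2 := by
  unfold qpoly
  compute_degree!

theorem qpoly_irreducible (a b : F)
    (hab : ∀ z₁ z₂ : F, z₁ ^ 2 + a * z₁ * z₂ + b * z₂ ^ 2 = 0 → z₁ = 0 ∧ z₂ = 0) :
    Irreducible (qpoly a b) := by
  rw [Polynomial.Monic.irreducible_iff_roots_eq_zero_of_degree_le_three (qpoly_monic a b)
    (by rw [qpoly_natDegree]) (by rw [qpoly_natDegree]; norm_num)]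
  apply Multiset.eq_zero_of_forall_notMem
  intro r hr
  rw [mem_roots (qpoly_monic a b).ne_zero, IsRoot.def] at hr
  simp only [qpoly, eval_add, eval_sub, eval_pow, eval_X, eval_mul, eval_C] at hr
  have := (hab r (-1) (by linear_combination hr)).2
  exact one_ne_zero (neg_eq_zero.mp this)

variable (a b : F)

/-- every element is `y + z θ` -/
theorem exists_repr (x : AdjoinRoot (qpoly a b)) :
    ∃ y z : F, x = AdjoinRoot.of (qpoly a b) y + AdjoinRoot.of (qpoly a b) z *
      AdjoinRoot.root (qpoly a b) := by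
  obtain ⟨g, rfl⟩ := AdjoinRoot.mk_surjective x
  have hm := qpoly_monic a b
  have h1 : AdjoinRoot.mk (qpoly a b) g = AdjoinRoot.mk (qpoly a b) (g %ₘ qpoly a b) := by
    rw [AdjoinRoot.mk_eq_mk]
    refine ⟨g /ₘ qpoly a b, ?_⟩
    have := Polynomial.modByMonic_add_div g (q := qpoly a b)
    linear_combination (-1 : F[X]) * this
  have hdeg : (g %ₘ qpoly a b).degree ≤ 1 := by
    have h2 := Polynomial.degree_modByMonic_lt g hm
    rw [Polynomial.degree_eq_natDegree hm.ne_zero, qpoly_natDegree] at h2
    have : (g %ₘ qpoly a b).degree < ((1 : ℕ) + 1 : ℕ) := by exact_mod_cast h2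
    exact Order.lt_succ_iff.mp (by exact_mod_cast this)
  have h3 := Polynomial.eq_X_add_C_of_degree_le_one hdeg
  refine ⟨(g %ₘ qpoly a b).coeff 0, (g %ₘ qpoly a b).coeff 1, ?_⟩
  rw [h1]
  conv_lhs => rw [h3]
  rw [map_add, map_mul, AdjoinRoot.mk_C, AdjoinRoot.mk_C, AdjoinRoot.mk_X, add_comm]

theorem eval₂_qpoly {S : Type*} [CommRing S] (i : F →+* S) (x : S) :
    (qpoly a b).eval₂ i x = x ^ 2 - i a * x + i b := by
  unfold qpoly
  simp only [eval₂_add, eval₂_sub, eval₂_pow, eval₂_X, eval₂_mul, eval₂_C]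

theorem root_eq : AdjoinRoot.root (qpoly a b) * AdjoinRoot.root (qpoly a b) -
    AdjoinRoot.of (qpoly a b) a * AdjoinRoot.root (qpoly a b) + AdjoinRoot.of (qpoly a b) b = 0 := by
  have := AdjoinRoot.eval₂_root (qpoly a b)
  rw [eval₂_qpoly] at this
  linear_combination this

theorem conj_root_eq : (qpoly a b).eval₂ (AdjoinRoot.of (qpoly a b))
    (AdjoinRoot.of (qpoly a b) a - AdjoinRoot.root (qpoly a b)) = 0 := by
  rw [eval₂_qpoly]
  linear_combination root_eq a b

/-- the conjugation `θ ↦ a - θ` -/
def conj : AdjoinRoot (qpoly a b) →+* AdjoinRoot (qpoly a b) :=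
  AdjoinRoot.lift (AdjoinRoot.of (qpoly a b))
    (AdjoinRoot.of (qpoly a b) a - AdjoinRoot.root (qpoly a b)) (conj_root_eq a b)

theorem conj_root : conj a b (AdjoinRoot.root (qpoly a b)) =
    AdjoinRoot.of (qpoly a b) a - AdjoinRoot.root (qpoly a b) := AdjoinRoot.lift_root _

theorem conj_of (x : F) : conj a b (AdjoinRoot.of (qpoly a b) x) = AdjoinRoot.of (qpoly a b) x :=
  AdjoinRoot.lift_of _

end

end FIELD

open FIELD in
theorem exists_qext {F : Type u} [Field F] [Fintype F] (p : ℕ) [Fact p.Prime] [CharP F p] (a b : F)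
    (hab : ∀ z₁ z₂ : F, z₁ ^ 2 + a * z₁ * z₂ + b * z₂ ^ 2 = 0 → z₁ = 0 ∧ z₂ = 0) :
    ∃ (K : Type u) (_ : Field K) (_ : Finite K) (_ : CharP K p), Nonempty (QExt F a b K) := by
  have hirr : Fact (Irreducible (qpoly a b)) := ⟨qpoly_irreducible a b hab⟩
  have hmf : Module.Finite F (AdjoinRoot (qpoly a b)) := (qpoly_monic a b).finite_adjoinRoot
  have hfin : Finite (AdjoinRoot (qpoly a b)) := Module.finite_of_finite F
  have hchar : CharP (AdjoinRoot (qpoly a b)) p :=
    charP_of_injective_algebraMap (algebraMap F (AdjoinRoot (qpoly a b))).injective p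
  have hinj : Function.Injective (AdjoinRoot.of (qpoly a b)) := (AdjoinRoot.of (qpoly a b)).injective
  -- fixed points
  have hfix0 : ∀ x : AdjoinRoot (qpoly a b), conj a b x = x →
      (AdjoinRoot.root (qpoly a b) - conj a b (AdjoinRoot.root (qpoly a b)) ≠ 0) →
      ∃ y, AdjoinRoot.of (qpoly a b) y = x := by
    intro x hx hne
    obtain ⟨y, z, rfl⟩ := exists_repr a b x
    rw [map_add, map_mul, conj_of, conj_of] at hx
    have h1 : AdjoinRoot.of (qpoly a b) z *
        (AdjoinRoot.root (qpoly a b) - conj a b (AdjoinRoot.root (qpoly a b))) = 0 := by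
      linear_combination (-1 : AdjoinRoot (qpoly a b)) * hx
    rcases mul_eq_zero.mp h1 with h2 | h2
    · refine ⟨y, ?_⟩
      rw [h2, zero_mul, add_zero]
    · exact absurd h2 hne
  have hσσ : ∀ x, conj a b (conj a b x) = x := by
    intro x
    obtain ⟨y, z, rfl⟩ := exists_repr a b x
    simp only [map_add, map_mul, conj_of, conj_root, map_sub]
    ring
  have hne : AdjoinRoot.root (qpoly a b) - conj a b (AdjoinRoot.root (qpoly a b)) ≠ 0 := by
    intro h0
    -- then θ is fixed, so θ = y + 0 θ by the representation; argue directly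
    obtain ⟨y, z, hyz⟩ := exists_repr a b (AdjoinRoot.root (qpoly a b))
    have hθfix : conj a b (AdjoinRoot.root (qpoly a b)) = AdjoinRoot.root (qpoly a b) := by
      linear_combination (-1 : AdjoinRoot (qpoly a b)) * h0
    -- 2θ = a
    have h2θ : 2 * AdjoinRoot.root (qpoly a b) = AdjoinRoot.of (qpoly a b) a := by
      rw [conj_root] at hθfix
      linear_combination (-1 : AdjoinRoot (qpoly a b)) * hθfix
    have hroot := root_eq a b
    by_cases h2 : (2 : F) = 0
    · -- char 2: a = 0, then b is a square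
      have h2K : (2 : AdjoinRoot (qpoly a b)) = 0 := by
        have : AdjoinRoot.of (qpoly a b) (2 : F) = 0 := by rw [h2, map_zero]
        rwa [map_ofNat] at this
      have ha : a = 0 := by
        apply hinj
        rw [← h2θ, h2K, zero_mul, map_zero]
      -- Frobenius is surjective on F: b = c^2
      have hp2 : p = 2 := by
        have h2' : ((2 : ℕ) : F) = 0 := by exact_mod_cast h2
        have hdvd := (CharP.cast_eq_zero_iff F p 2).mp h2'
        exact (Nat.prime_dvd_prime_iff_eq (Fact.out : p.Prime) Nat.prime_two).mp hdvd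
      have hc2 : CharP F 2 := hp2 ▸ (inferInstance : CharP F p)
      obtain ⟨c, hc⟩ : ∃ c : F, c ^ 2 = b := by
        have hbij := (frobenius F 2).injective
        have hsurj : Function.Surjective (frobenius F 2) :=
          Finite.surjective_of_injective hbij
        obtain ⟨c, hc⟩ := hsurj b
        exact ⟨c, by rw [← hc, frobenius_def]⟩
      have := (hab c 1 (by
        rw [ha, ← hc]
        have h2c : (2 : F) * c ^ 2 = 0 := by rw [h2, zero_mul]
        linear_combination h2c)).2
      exact one_ne_zero this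
    · -- odd char: θ = a/2 ∈ F
      have hθ : AdjoinRoot.root (qpoly a b) = AdjoinRoot.of (qpoly a b) (a / 2) := by
        have h2K : (AdjoinRoot.of (qpoly a b) 2 : AdjoinRoot (qpoly a b)) ≠ 0 := by
          intro h
          apply h2
          apply hinj
          rw [h, map_zero]
        have : AdjoinRoot.of (qpoly a b) 2 * AdjoinRoot.root (qpoly a b) =
            AdjoinRoot.of (qpoly a b) 2 * AdjoinRoot.of (qpoly a b) (a / 2) := by
          rw [← map_mul, mul_div_cancel₀ _ h2, ← h2θ, map_ofNat]
        exact mul_left_cancel₀ h2K this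
      rw [hθ, ← map_mul, ← map_mul, ← map_sub, ← map_add] at hroot
      have hF : a / 2 * (a / 2) - a * (a / 2) + b = 0 := by
        apply hinj
        rw [hroot, map_zero]
      have := (hab (a / 2) (-1) (by linear_combination hF)).2
      exact one_ne_zero (neg_eq_zero.mp this)
  refine ⟨AdjoinRoot (qpoly a b), inferInstance, hfin, hchar, ⟨?_⟩⟩
  exact
    { inc := AdjoinRoot.of (qpoly a b)
      θ := AdjoinRoot.root (qpoly a b)
      σ := conj a b
      hθ := root_eq a b
      hσθ := conj_root a b
      hσinc := conj_of a b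
      hσσ := hσσ
      hfix := fun x hx => hfix0 x hx hne
      hne := hne }

end Cfsg.Agent.S2549P
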