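import Mathlib
import Cfsg.Agent.Helper27.S4150Defs

/-!
S4150 piece COMM2P: an involution with small support commuting with an element of odd prime order
`p` has support disjoint from it.
-/

set_option autoImplicit false

namespace Cfsg.Agent.S4150P

open Equiv Equiv.Perm MulAction

section
variable {α : Type*} [Fintype α] [DecidableEq α]

/-- commuting permutations: `z (g ^ i x) = g ^ i (z x)` -/
theorem COMM2P.comm_pow {z g : Perm α} (hcomm : z * g = g * z) (i : ℕ) (x : α) :
    z ((g ^ i) x) = (g ^ i) (z x) := by
  have h : Commute z (g ^ i) := (show Commute z g from hcomm).pow_right i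
  have h2 := congrArg (fun f : Perm α => f x) h.eq
  simpa [Perm.mul_apply] using h2

/-- a power of `g` prime to the order fixing `a` forces `g` to fix `a` -/
theorem COMM2P.fix_of_pow_fix {p : ℕ} (hp : p.Prime) {g : Perm α} (hg : orderOf g = p) {a : α}
    {d : ℕ} (hd : ¬ p ∣ d) (h : (g ^ d) a = a) : g a = a := by
  have hcop : d.Coprime (orderOf g) := by
    rw [hg]
    exact ((Nat.Prime.coprime_iff_not_dvd hp).mpr hd).symm
  obtain ⟨m, hm⟩ := exists_pow_eq_self_of_coprime hcop
  have := Equiv.Perm.pow_apply_eq_self_of_apply_eq_self h m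
  rwa [hm] at this

/-- distinct small powers of `g` move a non-fixed point to distinct points -/
theorem COMM2P.pow_inj {p : ℕ} (hp : p.Prime) {g : Perm α} (hg : orderOf g = p) {a : α}
    (ha : g a ≠ a) {i j : ℕ} (hi : i < p) (hj : j < p) (h : (g ^ i) a = (g ^ j) a) : i = j := by
  by_contra hne
  rcases Nat.lt_or_gt_of_ne hne with hlt | hlt
  · -- i < j
    have e : (g ^ (j - i)) a = a := by
      have : (g ^ j) a = (g ^ i) ((g ^ (j - i)) a) := by
        rw [← Perm.mul_apply, ← pow_add, Nat.add_sub_cancel' hlt.le]
      rw [this] at h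
      exact ((g ^ i).injective h).symm
    apply ha
    apply COMM2P.fix_of_pow_fix hp hg _ e
    intro hdvd
    have := Nat.le_of_dvd (by omega) hdvd
    omega
  · have e : (g ^ (i - j)) a = a := by
      have : (g ^ i) a = (g ^ j) ((g ^ (i - j)) a) := by
        rw [← Perm.mul_apply, ← pow_add, Nat.add_sub_cancel' hlt.le]
      rw [this] at h
      exact (g ^ j).injective h
    apply ha
    apply COMM2P.fix_of_pow_fix hp hg _ e
    intro hdvd
    have := Nat.le_of_dvd (by omega) hdvd
    omega

/-- COMM2P [M]: an involution with small support commuting with an element of odd prime order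
`p` has support disjoint from it. -/
theorem COMM2P.main {p : ℕ} (hp : p.Prime) (hp2 : p ≠ 2) (z g : Perm α) (hz : z ^ 2 = 1)
    (hg : orderOf g = p) (hcomm : z * g = g * z) (hsupp : z.support.card < 2 * p) :
    Disjoint z.support g.support := by
  rw [Finset.disjoint_left]
  intro a haz hag
  rw [Equiv.Perm.mem_support] at haz hag
  have hzz : ∀ x, z (z x) = x := by
    intro x
    have := congrArg (fun f : Perm α => f x) hz
    simpa [sq, Perm.mul_apply] using this
  have hgp : g ^ p = 1 := by rw [← hg]; exact pow_orderOf_eq_one g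
  by_cases hA : ∃ k : ℕ, z a = (g ^ k) a
  · -- case A: `z a` lies in the `g`-orbit of `a`
    obtain ⟨k, hk⟩ := hA
    have e : (g ^ (2 * k)) a = a := by
      have h1 : a = z ((g ^ k) a) := by rw [← hk, hzz]
      rw [COMM2P.comm_pow hcomm, hk, ← Perm.mul_apply, ← pow_add, ← two_mul] at h1
      exact h1.symm
    by_cases hdvd : p ∣ 2 * k
    · have hpk : p ∣ k := by
        rcases (Nat.Prime.dvd_mul hp).mp hdvd with h2 | h2
        · exact absurd ((Nat.prime_dvd_prime_iff_eq hp Nat.prime_two).mp h2) hp2
        · exact h2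
      obtain ⟨c, rfl⟩ := hpk
      rw [pow_mul, hgp, one_pow, Perm.one_apply] at hk
      exact haz hk
    · exact hag (COMM2P.fix_of_pow_fix hp hg hdvd e)
  · -- case B: two disjoint `g`-orbits of length `p` inside the support of `z`
    push Not at hA
    have hza : g (z a) ≠ z a := by
      intro h
      have h1 := COMM2P.comm_pow hcomm 1 a
      rw [pow_one] at h1
      rw [← h1] at h
      exact hag (z.injective h)
    let φ : Fin p ⊕ Fin p → α := fun s =>
      match s with
      | Sum.inl i => (g ^ (i : ℕ)) a
      | Sum.inr i => (g ^ (i : ℕ)) (z a)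
    have hφmem : ∀ s ∈ (Finset.univ : Finset (Fin p ⊕ Fin p)), φ s ∈ z.support := by
      intro s _
      rw [Equiv.Perm.mem_support]
      rcases s with i | i
      · show z ((g ^ (i : ℕ)) a) ≠ (g ^ (i : ℕ)) a
        rw [COMM2P.comm_pow hcomm]
        intro h
        exact haz ((g ^ (i : ℕ)).injective h)
      · show z ((g ^ (i : ℕ)) (z a)) ≠ (g ^ (i : ℕ)) (z a)
        rw [COMM2P.comm_pow hcomm, hzz]
        intro h
        exact haz ((g ^ (i : ℕ)).injective h).symm
    have hφinj : Set.InjOn φ ((Finset.univ : Finset (Fin p ⊕ Fin p)) : Set (Fin p ⊕ Fin p)) := by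
      intro s _ t _ hst
      rcases s with i | i <;> rcases t with j | j
      · have : (i : ℕ) = j := COMM2P.pow_inj hp hg hag i.2 j.2 hst
        rw [Fin.ext this]
      · exfalso
        -- (g^i) a = (g^j) (z a)  ⇒  z a = g^(p - j + i) a
        have h1 : (g ^ (i : ℕ)) a = (g ^ (j : ℕ)) (z a) := hst
        apply hA (p - (j : ℕ) + (i : ℕ))
        rw [pow_add, Perm.mul_apply, h1, ← Perm.mul_apply, ← pow_add,
          Nat.sub_add_cancel j.2.le, hgp, Perm.one_apply]
      · exfalso
        have h1 : (g ^ (i : ℕ)) (z a) = (g ^ (j : ℕ)) a := hst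
        apply hA (p - (i : ℕ) + (j : ℕ))
        rw [pow_add, Perm.mul_apply, ← h1, ← Perm.mul_apply, ← pow_add,
          Nat.sub_add_cancel i.2.le, hgp, Perm.one_apply]
      · have : (i : ℕ) = j := COMM2P.pow_inj hp hg hza i.2 j.2 hst
        rw [Fin.ext this]
    have hcard := Finset.card_le_card_of_injOn φ hφmem hφinj
    rw [Finset.card_univ, Fintype.card_sum, Fintype.card_fin] at hcard
    omega

end

end Cfsg.Agent.S4150P
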