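import Mathlib

/-!
# S4395: the unitary Heisenberg group (helper26)

For a field `F` and a ring endomorphism `σ` of `F` (in use: `σ² = id`, `σ = x ↦ x^(p^b)` on the field
of order `p^(2b)`):
* `HeisH F σ`: the group on `F × F` with `(x,z)(x',z') = (x + x', z + z' - σ x * x')`;
* `heisU F σ hσ`: the subgroup `{(x,z) : z + σ z + x * σ x = 0}` (a Sylow `p`-subgroup of `SU₃`);
* `heisTheta ζ hζ`: the automorphism `(x,z) ↦ (ζ x, z)` for `σ ζ * ζ = 1`.
-/

set_option autoImplicit false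

namespace Cfsg.Agent.S4395P

/-- the underlying type `F × F`. -/
@[ext] structure HeisH (F : Type*) [Field F] (σ : F →+* F) where
  x : F
  z : F

namespace HeisH

variable {F : Type*} [Field F] {σ : F →+* F}

instance : Mul (HeisH F σ) := ⟨fun a b => ⟨a.x + b.x, a.z + b.z - σ a.x * b.x⟩⟩
instance : One (HeisH F σ) := ⟨⟨0, 0⟩⟩
instance : Inv (HeisH F σ) := ⟨fun a => ⟨-a.x, -a.z - σ a.x * a.x⟩⟩

@[simp] theorem mul_x (a b : HeisH F σ) : (a * b).x = a.x + b.x := rfl
@[simp] theorem mul_z (a b : HeisH F σ) : (a * b).z = a.z + b.z - σ a.x * b.x := rfl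
@[simp] theorem one_x : (1 : HeisH F σ).x = 0 := rfl
@[simp] theorem one_z : (1 : HeisH F σ).z = 0 := rfl
@[simp] theorem inv_x (a : HeisH F σ) : (a⁻¹).x = -a.x := rfl
@[simp] theorem inv_z (a : HeisH F σ) : (a⁻¹).z = -a.z - σ a.x * a.x := rfl

instance : Group (HeisH F σ) where
  mul_assoc a b c := by
    ext
    · simp [add_assoc]
    · simp only [mul_x, mul_z, map_add]; ring
  one_mul a := by ext <;> simp
  mul_one a := by ext <;> simp
  inv_mul_cancel a := by
    ext
    · simp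
    · simp only [mul_x, mul_z, inv_x, inv_z, one_z, map_neg]; ring

end HeisH

/-- the unitary subgroup `{(x,z) : z + σ z + x σ x = 0}`. -/
def heisU (F : Type*) [Field F] (σ : F →+* F) (hσ : ∀ x : F, σ (σ x) = x) : Subgroup (HeisH F σ) where
  carrier := {g | g.z + σ g.z + g.x * σ g.x = 0}
  mul_mem' := by
    intro a b ha hb
    simp only [Set.mem_setOf_eq] at ha hb ⊢
    simp only [HeisH.mul_x, HeisH.mul_z, map_add, map_sub, map_mul, hσ]
    linear_combination ha + hb
  one_mem' := by simp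
  inv_mem' := by
    intro a ha
    simp only [Set.mem_setOf_eq] at ha ⊢
    simp only [HeisH.inv_x, HeisH.inv_z, map_neg, map_sub, map_mul, hσ]
    linear_combination (-1 : F) * ha

theorem mem_heisU {F : Type*} [Field F] (σ : F →+* F) (hσ : ∀ x : F, σ (σ x) = x) (g : HeisH F σ) :
    g ∈ heisU F σ hσ ↔ g.z + σ g.z + g.x * σ g.x = 0 := Iff.rfl

/-- the automorphism `(x,z) ↦ (ζ x, z)`, for `σ ζ * ζ = 1`. -/
def heisTheta {F : Type*} [Field F] {σ : F →+* F} (ζ : F) (hζ : σ ζ * ζ = 1) : MulAut (HeisH F σ) where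
  toFun g := ⟨ζ * g.x, g.z⟩
  invFun g := ⟨σ ζ * g.x, g.z⟩
  left_inv g := by
    ext
    · simp only; rw [← mul_assoc, hζ, one_mul]
    · rfl
  right_inv g := by
    ext
    · simp only; rw [← mul_assoc, mul_comm ζ, hζ, one_mul]
    · rfl
  map_mul' a b := by
    ext
    · simp only [HeisH.mul_x]; ring
    · simp only [HeisH.mul_z, map_mul]
      have : σ ζ * σ a.x * (ζ * b.x) = (σ ζ * ζ) * (σ a.x * b.x) := by ring
      rw [this, hζ, one_mul]

@[simp] theorem heisTheta_x {F : Type*} [Field F] {σ : F →+* F} (ζ : F) (hζ : σ ζ * ζ = 1)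
    (g : HeisH F σ) : (heisTheta ζ hζ g).x = ζ * g.x := rfl
@[simp] theorem heisTheta_z {F : Type*} [Field F] {σ : F →+* F} (ζ : F) (hζ : σ ζ * ζ = 1)
    (g : HeisH F σ) : (heisTheta ζ hζ g).z = g.z := rfl

end Cfsg.Agent.S4395P
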