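import Mathlib
import Cfsg.Prelude.Def_GeometricClasses
import Cfsg.Prelude.Def_ClassicalGeometry

set_option autoImplicit false
open scoped MatrixGroups Kronecker TensorProduct Matrix
open Polynomial

/-! # S5980, piece DIAG: a nondegenerate symmetric matrix is congruent to a diagonal matrix. -/

namespace Cfsg.Agent.S5980P

/-- DIAG: a nondegenerate symmetric matrix is congruent to a diagonal matrix -/
theorem exists_diag {F : Type*} [Field F] (h2 : (2 : F) ≠ 0) (b : ℕ)
    (G : Matrix (Fin b) (Fin b) F) (hGs : G.transpose = G) (hGd : G.det ≠ 0) :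
    ∃ (T : GL (Fin b) F) (D : Fin b → F), (∀ j, D j ≠ 0) ∧
      (T : Matrix (Fin b) (Fin b) F).transpose * Matrix.diagonal D *
        (T : Matrix (Fin b) (Fin b) F) = G := by
  classical
  have hinv : Invertible (2 : F) := invertibleOfNonzero h2
  obtain ⟨B, hB⟩ : ∃ B : LinearMap.BilinForm F (Fin b → F), B = Matrix.toBilin' G := ⟨_, rfl⟩
  have hsymm : B.IsSymm := by
    rw [hB, Matrix.isSymm_toBilin'_iff_isSymm]
    exact hGs
  have hnd : B.Nondegenerate := by
    rw [hB]
    exact LinearMap.BilinForm.nondegenerate_toBilin'_of_det_ne_zero' G hGd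
  obtain ⟨v0, hv0⟩ := LinearMap.BilinForm.exists_orthogonal_basis
    (LinearMap.BilinForm.isSymm_iff.mp hsymm)
  have hfr : Module.finrank F (Fin b → F) = b := by simp
  obtain ⟨v, hv⟩ : ∃ v : Module.Basis (Fin b) F (Fin b → F), B.iIsOrtho v := by
    refine ⟨v0.reindex (finCongr hfr), ?_⟩
    intro i j hij
    simp only [Module.Basis.coe_reindex]
    apply hv0
    intro h
    exact hij ((finCongr hfr).symm.injective h)
  have hD : ∀ j, B (v j) (v j) ≠ 0 :=
    fun j => hv.not_isOrtho_basis_self_of_nondegenerate hnd j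
  obtain ⟨S, hS⟩ : ∃ S : Matrix (Fin b) (Fin b) F, S = (Pi.basisFun F (Fin b)).toMatrix v :=
    ⟨_, rfl⟩
  have hSG : S.transpose * G * S = Matrix.diagonal (fun j => B (v j) (v j)) := by
    have h1 := LinearMap.BilinForm.toMatrix_mul_basis_toMatrix (Pi.basisFun F (Fin b)) v B
    rw [LinearMap.BilinForm.toMatrix_basisFun, hB, LinearMap.BilinForm.toMatrix'_toBilin', ← hS,
      ← hB] at h1
    rw [h1]
    ext i j
    rw [LinearMap.BilinForm.toMatrix_apply, Matrix.diagonal_apply]
    split_ifs with hij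
    · rw [hij]
    · exact hv hij
  have hSinv : S * v.toMatrix (Pi.basisFun F (Fin b)) = 1 := by
    rw [hS]
    exact Module.Basis.toMatrix_mul_toMatrix_flip _ _
  have hSinv' : v.toMatrix (Pi.basisFun F (Fin b)) * S = 1 := by
    rw [hS]
    exact Module.Basis.toMatrix_mul_toMatrix_flip _ _
  refine ⟨⟨v.toMatrix (Pi.basisFun F (Fin b)), S, hSinv', hSinv⟩, fun j => B (v j) (v j), hD, ?_⟩
  show (v.toMatrix (Pi.basisFun F (Fin b))).transpose * Matrix.diagonal (fun j => B (v j) (v j)) *
    v.toMatrix (Pi.basisFun F (Fin b)) = G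
  rw [← hSG]
  have hT : (v.toMatrix (Pi.basisFun F (Fin b))).transpose * S.transpose = 1 := by
    rw [← Matrix.transpose_mul, hSinv, Matrix.transpose_one]
  calc (v.toMatrix (Pi.basisFun F (Fin b))).transpose * (S.transpose * G * S) *
        v.toMatrix (Pi.basisFun F (Fin b))
      = ((v.toMatrix (Pi.basisFun F (Fin b))).transpose * S.transpose) * G *
        (S * v.toMatrix (Pi.basisFun F (Fin b))) := by
        simp only [Matrix.mul_assoc]
    _ = G := by rw [hT, hSinv, Matrix.one_mul, Matrix.mul_one]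

end Cfsg.Agent.S5980P
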