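import Mathlib
import Cfsg.Agent.Helper21.S5949CYCMAIN
import Cfsg.Agent.Helper17.S5949DEG

set_option autoImplicit false
open scoped MatrixGroups Kronecker TensorProduct Matrix
open Polynomial

/-! # S5980, piece CYCVEC: a nontrivial element of order `r` has a chain of length `ord_r(q)`. -/

namespace Cfsg.Agent.S5980P

/-- CYCVEC: a nontrivial element of order `r` has a chain of length `ord_r(q)` -/
theorem exists_chain {F V : Type*} [Field F] [Fintype F] [AddCommGroup V] [Module F V]
    [FiniteDimensional F V] {p : ℕ} [Fact p.Prime] [CharP F p] (r : ℕ) [Fact r.Prime] (hrp : r ≠ p)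
    (f : Module.End F V) (hf : f ^ r = 1) (hf1 : f ≠ 1) :
    ∃ u₀ : V, LinearIndependent F
      (fun j : Fin (orderOf ((Fintype.card F : ℕ) : ZMod r)) => (f ^ (j : ℕ)) u₀) := by
  classical
  obtain ⟨c, hc⟩ : ∃ c, c = orderOf ((Fintype.card F : ℕ) : ZMod r) := ⟨_, rfl⟩
  rw [← hc]
  have hdec := Cfsg.Agent.S5949P.CYC.decomp r hrp f hf
  have hne : LinearMap.ker (aeval f (cyclotomic r F)) ≠ ⊥ := by
    intro h
    rw [h] at hdec
    have htop : LinearMap.ker (f - 1) = ⊤ := by
      have := hdec.sup_eq_top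
      rwa [sup_bot_eq] at this
    apply hf1
    ext v
    have hv : v ∈ LinearMap.ker (f - 1) := htop ▸ Submodule.mem_top
    rw [LinearMap.mem_ker, LinearMap.sub_apply, sub_eq_zero] at hv
    exact hv
  obtain ⟨w, hwker, hw0⟩ := Submodule.exists_mem_ne_zero_of_ne_bot hne
  rw [LinearMap.mem_ker] at hwker
  refine ⟨w, ?_⟩
  rw [Fintype.linearIndependent_iff]
  intro a ha
  obtain ⟨P, hP⟩ : ∃ P : F[X], P = ∑ i : Fin c, C (a i) * X ^ (i : ℕ) := ⟨_, rfl⟩
  have hPw : aeval f P w = 0 := by
    rw [hP, map_sum, LinearMap.sum_apply, ← ha]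
    apply Finset.sum_congr rfl
    intro i _
    rw [map_mul, aeval_C, map_pow, aeval_X, Module.End.mul_apply, Module.algebraMap_end_apply]
  have hdeg : P.degree < c := by rw [hP]; exact degree_sum_fin_lt a
  have hcoeff : ∀ i : Fin c, P.coeff i = a i := by
    intro i
    rw [hP, finsetSum_coeff, Finset.sum_eq_single i]
    · simp
    · intro j _ hji
      rw [coeff_C_mul, coeff_X_pow, if_neg, mul_zero]
      intro h
      exact hji (Fin.ext h.symm)
    · intro h; exact absurd (Finset.mem_univ i) h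
  by_cases hP0 : P = 0
  · intro i
    rw [← hcoeff, hP0, coeff_zero]
  exfalso
  obtain ⟨D, hD⟩ : ∃ D : F[X], D = EuclideanDomain.gcd P (cyclotomic r F) := ⟨_, rfl⟩
  have hDw : aeval f D w = 0 := by
    rw [hD, EuclideanDomain.gcd_eq_gcd_ab, mul_comm P, mul_comm (cyclotomic r F), map_add,
      map_mul, map_mul, LinearMap.add_apply, Module.End.mul_apply, Module.End.mul_apply, hPw,
      hwker, map_zero, map_zero, add_zero]
  have hD0 : D ≠ 0 := by
    rw [hD]
    intro h
    exact hP0 (EuclideanDomain.gcd_eq_zero_iff.mp h).1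
  have hnu : ¬ IsUnit D := by
    intro hu
    obtain ⟨u, hu1, hu2⟩ := Polynomial.isUnit_iff.mp hu
    rw [← hu2, aeval_C, Module.algebraMap_end_apply] at hDw
    rcases smul_eq_zero.mp hDw with h | h
    · exact hu1.ne_zero h
    · exact hw0 h
  obtain ⟨μ, hμm, hμi, hμD⟩ := exists_monic_irreducible_factor D hnu
  have h1 : μ ∣ cyclotomic r F := hμD.trans (hD ▸ EuclideanDomain.gcd_dvd_right _ _)
  have h2 : μ ∣ P := hμD.trans (hD ▸ EuclideanDomain.gcd_dvd_left _ _)
  have h3 := Cfsg.Agent.S5949P.natDegree_of_dvd_cyclotomic r hrp μ hμi h1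
  have h4 := natDegree_le_of_dvd h2 hP0
  have h5 : P.natDegree < c := (natDegree_lt_iff_degree_lt hP0).mpr hdeg
  omega

end Cfsg.Agent.S5980P
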