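import Mathlib

set_option autoImplicit false

/-! S3501 / S3556 piece DIAGDER: diagonal-type point stabiliser, an element of `N` with two coordinates in
one block that are not conjugate in `T` is a derangement. Mathlib only. -/

namespace Cfsg.Agent.S3501P

open MulAction

section
variable {G : Type*} [Group G] [Finite G] {Ω : Type*} [Fintype Ω] [MulAction G Ω] [FaithfulSMul G Ω]

/-- DIAGDER: diagonal-type point stabiliser: an element of `N` with two coordinates in one block that are
not conjugate in `T` is a derangement. -/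
theorem DIAGDER (N : Subgroup G) [IsPretransitive N Ω] (a : Ω) {T : Type} [Group T] {m : ℕ}
    (e : N ≃* (Fin m → T)) (c : Fin m → Fin m)
    (hstab : ∀ n : N, (n : G) ∈ stabilizer G a ↔ ∀ i j : Fin m, c i = c j → e n i = e n j)
    (f : Fin m → T) (i j : Fin m) (hij : c i = c j) (hf : ∀ g g' : T, g⁻¹ * f i * g ≠ g'⁻¹ * f j * g') :
    ∀ ω : Ω, ((e.symm f : N) : G) • ω ≠ ω := by
  intro ω hω
  obtain ⟨n, rfl⟩ := MulAction.exists_smul_eq N a ω
  -- `n⁻¹ * e.symm f * n` fixes `a`
  have h1 : ((n⁻¹ * e.symm f * n : N) : G) ∈ stabilizer G a := by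
    rw [MulAction.mem_stabilizer_iff]
    have h2 : ((e.symm f : N) : G) • ((n : G) • a) = (n : G) • a := hω
    have h3 : ((n⁻¹ * e.symm f * n : N) : G) • a = ((n : G))⁻¹ • (((e.symm f : N) : G) • ((n : G) • a)) := by
      simp [mul_smul]
    rw [h3, h2, inv_smul_smul]
  have h4 := (hstab _).1 h1 i j hij
  have h5 : e (n⁻¹ * e.symm f * n) = (e n)⁻¹ * f * e n := by
    simp [map_mul, map_inv]
  rw [h5] at h4
  simp only [Pi.mul_apply, Pi.inv_apply] at h4
  exact hf _ _ h4

end

end Cfsg.Agent.S3501P
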