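import Mathlib
import Cfsg.Agent.Helper23.CMDefs
import Cfsg.Agent.Helper24.Abelian
import Cfsg.Agent.Helper24.Restrict

set_option autoImplicit false
set_option linter.unusedSectionVars false

/-!
# S4756 piece ORDC: `VanOff p χ` ⇒ `|G|_{p'}` divides `χ(1)`
-/

namespace Cfsg.Agent.Helper26.CMORDC

open Cfsg Cfsg.Agent.Helper24

universe u

variable {G : Type u} [Group G] [Finite G]

/-- elements of a Sylow `q`-subgroup have `q`-power order -/
theorem exists_orderOf_eq_pow_of_mem_sylow (q : ℕ) [hq : Fact q.Prime] (Q : Sylow q G) (g : G)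
    (hg : g ∈ (Q : Subgroup G)) : ∃ k : ℕ, orderOf g = q ^ k := by
  obtain ⟨k, hk⟩ := Q.isPGroup' ⟨g, hg⟩
  have h1 : g ^ q ^ k = 1 := congrArg Subtype.val hk
  have h2 : orderOf g ∣ q ^ k := orderOf_dvd_of_pow_eq_one h1
  obtain ⟨j, _, hj⟩ := (Nat.dvd_prime_pow hq.out).mp h2
  exact ⟨j, hj⟩

/-- if `χ` vanishes on the nontrivial elements of a Sylow `q`-subgroup then the full power of
`q` divides `χ(1)` -/
theorem factorization_le_of_vanish (χ : IrrCharacter G) (q : ℕ) [hq : Fact q.Prime]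
    (hvan : ∀ g : G, g ≠ 1 → (∃ k : ℕ, orderOf g = q ^ k) → (χ : G → ℂ) g = 0) :
    (Nat.card G).factorization q ≤ (irrDeg χ).factorization q := by
  classical
  have hd0 : irrDeg χ ≠ 0 := (irrDeg_pos χ).ne'
  obtain ⟨Q⟩ : Nonempty (Sylow q G) := inferInstance
  have hvan' : ∀ g : G, g ∈ (Q : Subgroup G) → g ≠ 1 → (χ : G → ℂ) g = 0 := by
    intro g hgQ hg1
    exact hvan g hg1 (exists_orderOf_eq_pow_of_mem_sylow q Q g hgQ)
  obtain ⟨k, hk⟩ := card_dvd_apply_one_of_vanish (Q : Subgroup G) (χ : G → ℂ)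
    (IsIrrCharacter.isCharacter χ.2) hvan'
  rw [irrDeg_spec] at hk
  have hk' : irrDeg χ = Nat.card (Q : Subgroup G) * k := by exact_mod_cast hk
  have hQ : Nat.card (Q : Subgroup G) = q ^ (Nat.card G).factorization q :=
    Q.card_eq_multiplicity
  rw [← Nat.Prime.pow_dvd_iff_le_factorization hq.out hd0, hk', hQ]
  exact dvd_mul_right _ _

end Cfsg.Agent.Helper26.CMORDC

namespace Cfsg.Agent.Helper23.CM

open Cfsg Cfsg.Agent.Helper24

universe u

variable {G : Type u} [Group G] [Finite G]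

/-- FW3b -/
theorem ordCompl_dvd_of_vanOff (p : ℕ) (hp : p.Prime) (χ : IrrCharacter G)
    (h : VanOff p (χ : G → ℂ)) : ordCompl[p] (Nat.card G) ∣ irrDeg χ := by
  classical
  have hG0 : Nat.card G ≠ 0 := Nat.card_pos.ne'
  have hd0 : irrDeg χ ≠ 0 := (irrDeg_pos χ).ne'
  rw [← Nat.factorization_le_iff_dvd (Nat.ordCompl_pos p hG0).ne' hd0]
  intro q
  rw [Nat.factorization_ordCompl]
  by_cases hqp : q = p
  · rw [hqp]; simp
  · rw [Finsupp.erase_ne hqp]
    by_cases hq : q.Prime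
    · have : Fact q.Prime := ⟨hq⟩
      exact Cfsg.Agent.Helper26.CMORDC.factorization_le_of_vanish χ q
        (fun g hg1 hk => h q hq hqp g hg1 hk)
    · rw [Nat.factorization_eq_zero_of_not_prime _ hq]
      exact Nat.zero_le _

end Cfsg.Agent.Helper23.CM
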