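import Mathlib
import Cfsg.Agent.Helper23.CMDefs
import Cfsg.Agent.Helper24.Abelian
import Cfsg.Agent.Helper24.Restrict
import Cfsg.Agent.Helper26.CMORDC

set_option autoImplicit false
set_option linter.unusedSectionVars false

/-!
# S4756 piece NONV: a nonlinear irreducible character is nonzero on some nontrivial element of
prime power order
-/

namespace Cfsg.Agent.Helper26.CMNONV

open Cfsg Cfsg.Agent.Helper24

universe u

variable {G : Type u} [Group G] [Finite G]

/-- `χ(1)² ≤ |G|` -/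
theorem irrDeg_sq_le_card (χ : IrrCharacter G) : irrDeg χ ^ 2 ≤ Nat.card G := by
  classical
  have : Fintype G := Fintype.ofFinite G
  have : Fintype (IrrCharacter G) := Fintype.ofFinite _
  rw [← sum_irrDeg_sq (G := G)]
  exact Finset.single_le_sum (f := fun χ : IrrCharacter G => irrDeg χ ^ 2)
    (fun _ _ => Nat.zero_le _) (Finset.mem_univ χ)

end Cfsg.Agent.Helper26.CMNONV

namespace Cfsg.Agent.Helper23.CM

open Cfsg Cfsg.Agent.Helper24

universe u

variable {G : Type u} [Group G] [Finite G]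

/-- FW3a -/
theorem exists_prime_nonvanish (χ : IrrCharacter G) (hχ : (χ : G → ℂ) 1 ≠ 1) :
    ∃ (p : ℕ) (g : G), p.Prime ∧ g ≠ 1 ∧ (∃ k : ℕ, orderOf g = p ^ k) ∧
      (χ : G → ℂ) g ≠ 0 := by
  classical
  by_contra hcon
  have hvan : ∀ q : ℕ, q.Prime → ∀ g : G, g ≠ 1 → (∃ k : ℕ, orderOf g = q ^ k) →
      (χ : G → ℂ) g = 0 := by
    intro q hq g hg1 hk
    by_contra hne
    exact hcon ⟨q, g, hq, hg1, hk, hne⟩
  have hG0 : Nat.card G ≠ 0 := Nat.card_pos.ne'
  have hd0 : irrDeg χ ≠ 0 := (irrDeg_pos χ).ne'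
  have hdvd : Nat.card G ∣ irrDeg χ := by
    rw [← Nat.factorization_le_iff_dvd hG0 hd0]
    intro q
    by_cases hq : q.Prime
    · have : Fact q.Prime := ⟨hq⟩
      exact Cfsg.Agent.Helper26.CMORDC.factorization_le_of_vanish χ q (hvan q hq)
    · rw [Nat.factorization_eq_zero_of_not_prime _ hq]
      exact Nat.zero_le _
  have hle : Nat.card G ≤ irrDeg χ := Nat.le_of_dvd (irrDeg_pos χ) hdvd
  have hsq := Cfsg.Agent.Helper26.CMNONV.irrDeg_sq_le_card χ
  have hpos := irrDeg_pos χ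
  have h1 : irrDeg χ = 1 := by nlinarith
  exact hχ ((irrDeg_eq_one_iff χ).mp h1)

end Cfsg.Agent.Helper23.CM
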