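import Mathlib
import Cfsg.Prelude.Def_FusionSystem

set_option autoImplicit false

/-! # Supersoluble chains: the chain predicate of S5287 and two generic lemmas -/

namespace Cfsg.Agent.Helper26.MSup

open Cfsg Cfsg.FusionSystem Subgroup

/-- the chain property: a chain of strongly closed subgroups from `⊥` to `S` with cyclic steps -/
def HasChain {Ω : Type*} [Group Ω] {S : Subgroup Ω} (F : FusionSystem S) : Prop :=
  ∃ (m : ℕ) (c : Fin (m + 1) → Subgroup Ω), c 0 = ⊥ ∧ c (Fin.last m) = S ∧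
    (∀ i : Fin (m + 1), F.StronglyClosed (c i)) ∧
    ∀ i : Fin m, c i.castSucc ≤ c i.succ ∧ ∃ x ∈ S, c i.succ = c i.castSucc ⊔ zpowers x

/-- cutting a chain at a nontrivial subgroup `Q ≤ S`: some strongly closed `C` not containing `Q`
has a cyclic extension `C ⊔ ⟨x⟩` (strongly closed) containing `Q`. -/
theorem chain_cut {Ω : Type*} [Group Ω] {S : Subgroup Ω} (F : FusionSystem S) (h : HasChain F)
    (Q : Subgroup Ω) (hQS : Q ≤ S) (hQ : Q ≠ ⊥) :
    ∃ (C : Subgroup Ω) (x : Ω), F.StronglyClosed C ∧ x ∈ S ∧ F.StronglyClosed (C ⊔ zpowers x) ∧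
      ¬ Q ≤ C ∧ Q ≤ C ⊔ zpowers x := by
  obtain ⟨m, c, h0, hlast, hsc, hstep⟩ := h
  -- the set of indices `i : ℕ` with `i ≤ m` and `Q ≤ c i`
  have hex : ∃ i : ℕ, ∃ hi : i < m + 1, Q ≤ c ⟨i, hi⟩ := by
    refine ⟨m, Nat.lt_succ_self m, ?_⟩
    have : (⟨m, Nat.lt_succ_self m⟩ : Fin (m + 1)) = Fin.last m := rfl
    rw [this, hlast]
    exact hQS
  classical
  obtain ⟨i, hi, hQi, hmin⟩ : ∃ i : ℕ, ∃ hi : i < m + 1, Q ≤ c ⟨i, hi⟩ ∧
      ∀ {j : ℕ}, j < i → ¬ ∃ hj : j < m + 1, Q ≤ c ⟨j, hj⟩ := by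
    obtain ⟨hi, hQi⟩ := Nat.find_spec hex
    exact ⟨Nat.find hex, hi, hQi, fun {j} hj => Nat.find_min hex hj⟩
  have hi0 : i ≠ 0 := by
    intro hi0
    have h1 : (⟨i, hi⟩ : Fin (m + 1)) = 0 := by
      apply Fin.ext
      exact hi0
    rw [h1, h0] at hQi
    exact hQ (le_bot_iff.mp hQi)
  obtain ⟨j, hj⟩ : ∃ j, i = j + 1 := ⟨i - 1, by omega⟩
  have hjm : j < m := by omega
  obtain ⟨hle, x, hxS, hx⟩ := hstep ⟨j, hjm⟩
  have hsucc : (⟨j, hjm⟩ : Fin m).succ = ⟨i, hi⟩ := by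
    apply Fin.ext
    simp [hj]
  have hnot : ¬ Q ≤ c (⟨j, hjm⟩ : Fin m).castSucc := by
    intro hcon
    exact hmin (j := j) (by omega) ⟨by omega, hcon⟩
  refine ⟨c (⟨j, hjm⟩ : Fin m).castSucc, x, hsc _, hxS, ?_, hnot, ?_⟩
  · rw [← hx]; exact hsc _
  · rw [← hx, hsucc]; exact hQi

theorem eq_of_card_le_two {G : Type*} [Group G] {H : Subgroup G} [Finite H]
    (h : Nat.card H ≤ 2) {u v : G} (hu : u ∈ H) (hv : v ∈ H) (hu1 : u ≠ 1) (hv1 : v ≠ 1) :
    u = v := by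
  by_contra huv
  have hinj : Function.Injective (![1, ⟨u, hu⟩, ⟨v, hv⟩] : Fin 3 → H) := by
    intro i j hij
    fin_cases i <;> fin_cases j <;> simp_all [Subtype.ext_iff]
  have := Nat.card_le_card_of_injective _ hinj
  rw [Nat.card_fin] at this
  omega

/-- A subgroup `Q` of `C ⊔ ⟨x⟩`, where `x` normalizes `C`, meeting `C` in at most two elements,
is commutative. -/
theorem comm_of_le_sup_zpowers {G : Type*} [Group G] [Finite G] (C Q : Subgroup G) (x : G)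
    (hx : x ∈ normalizer (C : Set G)) (hQ : Q ≤ C ⊔ zpowers x)
    (hcard : Nat.card (Q ⊓ C : Subgroup G) ≤ 2) (a b : G) (ha : a ∈ Q) (hb : b ∈ Q) :
    a * b = b * a := by
  obtain ⟨K, hK⟩ : ∃ K : Subgroup G, K = C ⊔ zpowers x := ⟨_, rfl⟩
  have hCK : C ≤ K := hK ▸ le_sup_left
  have hxK : x ∈ K := hK ▸ (le_sup_right : zpowers x ≤ C ⊔ zpowers x) (mem_zpowers x)
  have hKN : K ≤ normalizer (C : Set G) := by
    rw [hK]
    exact sup_le le_normalizer (zpowers_le.mpr hx)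
  have hnorm : (C.subgroupOf K).Normal :=
    (normal_subgroupOf_iff_le_normalizer hCK).mpr hKN
  have hQK : Q ≤ K := hK ▸ hQ
  -- the quotient is cyclic
  have htop : C.subgroupOf K ⊔ zpowers (⟨x, hxK⟩ : K) = ⊤ := by
    have h1 : (zpowers x).subgroupOf K = zpowers (⟨x, hxK⟩ : K) := by
      ext y
      rw [mem_subgroupOf, mem_zpowers_iff, mem_zpowers_iff]
      constructor
      · rintro ⟨k, hk⟩
        exact ⟨k, Subtype.ext (by simpa using hk)⟩
      · rintro ⟨k, hk⟩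
        exact ⟨k, by simpa using congrArg Subtype.val hk⟩
    rw [← h1, ← subgroupOf_sup hCK (zpowers_le.mpr hxK), ← hK, subgroupOf_self]
  have hcyc : IsCyclic (K ⧸ C.subgroupOf K) := by
    rw [isCyclic_iff_exists_zpowers_eq_top]
    refine ⟨QuotientGroup.mk' _ ⟨x, hxK⟩, ?_⟩
    have h2 : (⊤ : Subgroup K).map (QuotientGroup.mk' (C.subgroupOf K)) = ⊤ := by
      rw [← MonoidHom.range_eq_map]
      exact MonoidHom.range_eq_top.mpr (QuotientGroup.mk'_surjective _)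
    rw [← h2, ← htop, Subgroup.map_sup, MonoidHom.map_zpowers, QuotientGroup.map_mk'_self,
      bot_sup_eq]
  -- the map from `Q`
  let f : Q →* K ⧸ C.subgroupOf K := (QuotientGroup.mk' (C.subgroupOf K)).comp (inclusion hQK)
  have hker : ∀ z : Q, f z = 1 ↔ (z : G) ∈ C := by
    intro z
    show QuotientGroup.mk' (C.subgroupOf K) (inclusion hQK z) = 1 ↔ _
    rw [QuotientGroup.mk'_apply, QuotientGroup.eq_one_iff, mem_subgroupOf]
    rfl
  have hcen : f.ker ≤ center Q := by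
    intro z hz
    rw [mem_center_iff]
    intro g
    by_cases hz1 : z = 1
    · rw [hz1, mul_one, one_mul]
    have hz' : (z : G) ∈ Q ⊓ C := ⟨z.2, (hker z).mp hz⟩
    have hgz : g * z * g⁻¹ ∈ f.ker := f.normal_ker.conj_mem z hz g
    have hgz' : ((g * z * g⁻¹ : Q) : G) ∈ Q ⊓ C := ⟨(g * z * g⁻¹).2, (hker _).mp hgz⟩
    have hne1 : ((g * z * g⁻¹ : Q) : G) ≠ 1 := by
      intro h
      apply hz1
      have : g * z * g⁻¹ = 1 := Subtype.ext h
      rw [mul_inv_eq_one] at this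
      exact mul_left_cancel (this.trans (mul_one g).symm)
    have hzne : (z : G) ≠ 1 := fun h => hz1 (Subtype.ext h)
    have := eq_of_card_le_two hcard hgz' hz' hne1 hzne
    have h3 : g * z * g⁻¹ = z := Subtype.ext this
    rw [mul_inv_eq_iff_eq_mul] at h3
    exact h3
  have hQc := MonoidHom.isMulCommutative_of_isCyclic_of_ker_le_center f hcen
  have := hQc.is_comm.comm (⟨a, ha⟩ : Q) ⟨b, hb⟩
  exact congrArg Subtype.val this

end Cfsg.Agent.Helper26.MSup
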