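import Mathlib
import Cfsg.Agent.Helper26.MSupDefs

set_option autoImplicit false

/-! # Strongly closed subgroups of group fusion systems are closed under conjugation into `S` -/

namespace Cfsg.Agent.Helper26.MSup

open Cfsg Cfsg.FusionSystem Subgroup

/-- a strongly closed subgroup of `F_S(G)` is closed under `G`-conjugation into `S` -/
theorem closed_of_stronglyClosed {G : Type*} [Group G] {S C : Subgroup G}
    (hC : (groupFusionSystem S).StronglyClosed C) (c : G) (hc : c ∈ C) (g : G)
    (hg : g * c * g⁻¹ ∈ S) : g * c * g⁻¹ ∈ C := by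
  have hR : zpowers c ≤ C := by rw [zpowers_le]; exact hc
  have hφ : conjHom (zpowers c) g ∈ (groupFusionSystem S).Hom (zpowers c) := by
    refine ⟨hR.trans hC.1, ?_, g, fun y => rfl⟩
    rintro ⟨y, n, rfl⟩
    show g * c ^ n * g⁻¹ ∈ S
    have : g * c ^ n * g⁻¹ = (g * c * g⁻¹) ^ n := by rw [conj_zpow]
    rw [this]
    exact zpow_mem hg n
  exact hC.2 _ hR _ hφ ⟨c, mem_zpowers c⟩

/-- a strongly closed subgroup of `F_S(G)` is normalized by `S` -/
theorem le_normalizer_of_stronglyClosed {G : Type*} [Group G] {S C : Subgroup G}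
    (hC : (groupFusionSystem S).StronglyClosed C) : S ≤ normalizer (C : Set G) := by
  intro x hx
  rw [mem_normalizer_iff]
  intro h
  constructor
  · intro hh
    exact closed_of_stronglyClosed hC h hh x
      (S.mul_mem (S.mul_mem hx (hC.1 hh)) (S.inv_mem hx))
  · intro hh
    have := closed_of_stronglyClosed hC _ hh x⁻¹
      (S.mul_mem (S.mul_mem (S.inv_mem hx) (hC.1 hh)) (by rw [inv_inv]; exact hx))
    have h2 : x⁻¹ * (x * h * x⁻¹) * x⁻¹⁻¹ = h := by group
    rwa [h2] at this

end Cfsg.Agent.Helper26.MSup
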