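import Mathlib
import Cfsg.Agent.Helper26.MSupDefs
import Cfsg.Agent.Helper26.MSupSC
import Cfsg.Agent.S0261

set_option autoImplicit false

/-! # No supersoluble chain for the 2-fusion system of `SL₂(F)`, `|F|` odd -/

namespace Cfsg.Agent.Helper26.MSup

open Cfsg Cfsg.FusionSystem Subgroup

/-- a generalized quaternion group is not commutative -/
theorem quaternion_not_comm (n : ℕ) (hn : 2 ≤ n) :
    ¬ ∀ a b : QuaternionGroup n, a * b = b * a := by
  intro h
  have h1 := h (QuaternionGroup.xa 0) (QuaternionGroup.a 1)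
  simp only [QuaternionGroup.xa_mul_a, QuaternionGroup.a_mul_xa] at h1
  have h2 := QuaternionGroup.xa.inj h1
  have h3 : ((2 : ℕ) : ZMod (2 * n)) = 0 := by
    push_cast
    linear_combination h2
  rw [ZMod.natCast_eq_zero_iff] at h3
  have := Nat.le_of_dvd (by norm_num) h3
  omega

/-- QS: no chain for `SL₂(F)`. -/
theorem QS {F : Type*} [Field F] [Fintype F] (hF : Odd (Fintype.card F))
    (hQ4 : ∀ (P : Sylow 2 (Matrix.SpecialLinearGroup (Fin 2) F))
      (C : Subgroup (Matrix.SpecialLinearGroup (Fin 2) F)), C ≤ P →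
      (∀ c ∈ C, ∀ g : Matrix.SpecialLinearGroup (Fin 2) F,
        g * c * g⁻¹ ∈ (P : Subgroup (Matrix.SpecialLinearGroup (Fin 2) F)) → g * c * g⁻¹ ∈ C) →
      2 < Nat.card C → C = P)
    (P : Sylow 2 (Matrix.SpecialLinearGroup (Fin 2) F)) :
    ¬ HasChain (groupFusionSystem (P : Subgroup (Matrix.SpecialLinearGroup (Fin 2) F))) := by
  intro hch
  obtain ⟨k, hk1, ⟨e⟩⟩ := Cfsg.Agent.S0261.result hF P
  have hnc : ¬ ∀ a b : (P : Subgroup (Matrix.SpecialLinearGroup (Fin 2) F)), a * b = b * a := by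
    intro h
    apply quaternion_not_comm (2 ^ k) (by
      calc 2 = 2 ^ 1 := by norm_num
        _ ≤ 2 ^ k := Nat.pow_le_pow_right (by norm_num) hk1)
    intro a b
    have := h (e.symm a) (e.symm b)
    rw [← map_mul, ← map_mul] at this
    exact e.symm.injective this
  have hPne : (P : Subgroup (Matrix.SpecialLinearGroup (Fin 2) F)) ≠ ⊥ := by
    intro hbot
    apply hnc
    intro a b
    have ha : (a : Matrix.SpecialLinearGroup (Fin 2) F) = 1 :=
      (Subgroup.mem_bot).mp (hbot ▸ a.2)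
    have hb : (b : Matrix.SpecialLinearGroup (Fin 2) F) = 1 :=
      (Subgroup.mem_bot).mp (hbot ▸ b.2)
    apply Subtype.ext
    simp [ha, hb]
  obtain ⟨C, x, hC, hxP, -, hnot, hle⟩ := chain_cut _ hch
    (P : Subgroup (Matrix.SpecialLinearGroup (Fin 2) F)) le_rfl hPne
  have hcard : Nat.card C ≤ 2 := by
    by_contra h
    push Not at h
    exact hnot (hQ4 P C hC.1 (fun c hc g hg => closed_of_stronglyClosed hC c hc g hg) h).ge
  have hxN := le_normalizer_of_stronglyClosed hC hxP
  have hcard' : Nat.card ((P : Subgroup (Matrix.SpecialLinearGroup (Fin 2) F)) ⊓ C : Subgroup _) ≤ 2 :=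
    (Subgroup.card_le_of_le inf_le_right).trans hcard
  apply hnc
  intro a b
  exact Subtype.ext (comm_of_le_sup_zpowers C _ x hxN hle hcard' a b a.2 b.2)

end Cfsg.Agent.Helper26.MSup
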