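import Mathlib
import Cfsg.Agent.Helper9.S1851.Defs
import Cfsg.Agent.Helper14.PCore

/-! S1851 piece EVENCH (driver helper9): in a group of even characteristic, an overgroup `H` of a
Sylow 2-subgroup with `O₂(H) ≠ 1` has characteristic 2; ambient form of characteristic 2. -/

set_option autoImplicit false

namespace Cfsg.Agent.S1851P

open Subgroup Cfsg

namespace EVENCH

open Cfsg.Agent.Helper14 (pCoreOf_le pCoreOf_isPGroup le_normalizer_pCoreOf le_pCoreOf)

/-- ambient form of `IsOfCharacteristicTwo ↥H` (iff) -/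
theorem charTwo_iff_inf_centralizer_le {G : Type*} [Group G] (H : Subgroup G) :
    IsOfCharacteristicTwo ↥H ↔ H ⊓ centralizer (pCoreOf 2 H : Set G) ≤ pCoreOf 2 H := by
  unfold IsOfCharacteristicTwo
  constructor
  · intro h x hx
    obtain ⟨hxH, hxc⟩ := Subgroup.mem_inf.1 hx
    have hmem : (⟨x, hxH⟩ : ↥H) ∈ centralizer (pCore 2 ↥H : Set ↥H) := by
      rw [Subgroup.mem_centralizer_iff]
      intro y hy
      apply Subtype.ext
      have hy' : (y : G) ∈ pCoreOf 2 H := ⟨y, hy, rfl⟩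
      exact (Subgroup.mem_centralizer_iff.1 hxc) (y : G) hy'
    exact ⟨⟨x, hxH⟩, h hmem, rfl⟩
  · intro h x hx
    have hxc : (x : G) ∈ H ⊓ centralizer (pCoreOf 2 H : Set G) := by
      refine Subgroup.mem_inf.2 ⟨x.2, ?_⟩
      rw [Subgroup.mem_centralizer_iff]
      rintro _ ⟨y, hy, rfl⟩
      have := (Subgroup.mem_centralizer_iff.1 hx) y hy
      exact congrArg Subtype.val this
    obtain ⟨z, hz, hzx⟩ := h hxc
    have : z = x := Subtype.ext hzx
    rw [← this]; exact hz

/-- ambient form of `IsOfCharacteristicTwo ↥H` -/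
theorem inf_centralizer_le {G : Type*} [Group G] [Finite G] (H : Subgroup G)
    (h : IsOfCharacteristicTwo ↥H) :
    H ⊓ centralizer (pCoreOf 2 H : Set G) ≤ pCoreOf 2 H :=
  (charTwo_iff_inf_centralizer_le H).1 h

theorem charTwo_of_sylow_le {G : Type*} [Group G] [Finite G] (hE : IsOfEvenCharacteristic G)
    (T : Sylow 2 G) (H : Subgroup G) (hTH : (T : Subgroup G) ≤ H) (hO : pCore 2 ↥H ≠ ⊥) :
    IsOfCharacteristicTwo ↥H := by
  have : Fact (Nat.Prime 2) := Nat.fact_prime_two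
  set R : Subgroup G := pCoreOf 2 H with hR
  have hRne : R ≠ ⊥ := by
    intro hbot
    apply hO
    have : (pCore 2 ↥H).map H.subtype = ⊥ := hbot
    exact (Subgroup.map_eq_bot_iff_of_injective _ H.subtype_injective).1 this
  have hRp : IsPGroup 2 ↥R := pCoreOf_isPGroup 2 H
  set M : Subgroup G := normalizer (R : Set G) with hM
  have hHM : H ≤ M := le_normalizer_pCoreOf 2 H
  have hRM : R ≤ M := (pCoreOf_le 2 H).trans hHM
  have hMloc : IsTwoLocal M := ⟨R, hRp, hRne, rfl⟩
  have hMchar : IsOfCharacteristicTwo ↥M := hE M hMloc ⟨T, hTH.trans hHM⟩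
  have hMamb := (charTwo_iff_inf_centralizer_le M).1 hMchar
  set Q : Subgroup G := pCoreOf 2 M with hQ
  have hQp : IsPGroup 2 ↥Q := pCoreOf_isPGroup 2 M
  have hMQ : M ≤ normalizer (Q : Set G) := le_normalizer_pCoreOf 2 M
  -- `Q ≤ T`
  have hQT : Q ≤ (T : Subgroup G) := by
    have hTn : (T : Subgroup G) ≤ normalizer (Q : Set G) := (hTH.trans hHM).trans hMQ
    have hsup : IsPGroup 2 ↥((T : Subgroup G) ⊔ Q) :=
      IsPGroup.to_sup_of_normal_right' T.isPGroup' hQp hTn
    have := T.is_maximal' hsup le_sup_left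
    calc Q ≤ (T : Subgroup G) ⊔ Q := le_sup_right
      _ = (T : Subgroup G) := this
  -- `Q ≤ R`
  have hQR : Q ≤ R := le_pCoreOf 2 (hQT.trans hTH) (hHM.trans hMQ) hQp
  -- `R ≤ Q`
  have hRQ : R ≤ Q := le_pCoreOf 2 hRM le_rfl hRp
  have hQeq : Q = R := le_antisymm hQR hRQ
  rw [charTwo_iff_inf_centralizer_le]
  intro x hx
  have : x ∈ M ⊓ centralizer (Q : Set G) := by
    refine Subgroup.mem_inf.2 ⟨hHM (Subgroup.mem_inf.1 hx).1, ?_⟩
    rw [hQeq]; exact (Subgroup.mem_inf.1 hx).2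
  have := hMamb this
  rw [hQeq] at this
  exact this

end EVENCH

end Cfsg.Agent.S1851P
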