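import Mathlib
import Cfsg.Agent.Helper26.StableQuad
import Cfsg.Agent.Helper26.ZJInst
import Cfsg.Agent.Helper14.FratStab
import Cfsg.Agent.Lead.TNC8
import Cfsg.Agent.S0607

set_option autoImplicit false
set_option linter.style.haveILetI false
set_option linter.unusedSectionVars false
set_option linter.unusedVariables false

/-! # `W(S)` is normal in action-`p`-stable groups with `C_G(O_p(G)) ≤ O_p(G)`
(Kurzweil–Stellmacher 9.4.4) -/

namespace Cfsg.Agent.Helper26

open Subgroup
open scoped commutatorElement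

universe u

theorem sectionKernel_frattini_eq' {L : Type*} [Group L] (A : Subgroup L) [A.Normal]
    [hN : ((frattini ↥A).map A.subtype).Normal] :
    Cfsg.sectionKernel A ((frattini ↥A).map A.subtype) = Cfsg.Agent.Helper14.fratStab A := by
  ext g
  unfold Cfsg.sectionKernel
  rw [mem_comap, mem_centralizer_iff, Cfsg.Agent.Helper14.mem_fratStab]
  constructor
  · intro h a ha
    have h1 := h _ (mem_map_of_mem (QuotientGroup.mk' _) ha)
    rw [← map_mul, ← map_mul] at h1
    have h2 := QuotientGroup.eq.mp h1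
    have h3 := hN.conj_mem _ h2 (g * a)
    have e : g * a * ((a * g)⁻¹ * (g * a)) * (g * a)⁻¹ = (g * a * g⁻¹ * a⁻¹) := by group
    rw [e] at h3
    exact h3
  · rintro h _ ⟨a, ha, rfl⟩
    rw [← map_mul, ← map_mul]
    apply QuotientGroup.eq.mpr
    have h3 := hN.conj_mem _ (h a ha) (g * a)⁻¹
    have e : (g * a)⁻¹ * (g * a * g⁻¹ * a⁻¹) * (g * a)⁻¹⁻¹ = (a * g)⁻¹ * (g * a) := by group
    rw [e] at h3
    exact h3

section main

variable {G : Type u} [Group G] [Finite G] {p : ℕ} [hp : Fact p.Prime]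

/-- the image of `W(S)` in `G` -/
theorem stableW_facts (S : Sylow p G) :
    (∀ x ∈ (Cfsg.stableNormalClosure p ↥(S : Subgroup G)).map (S : Subgroup G).subtype,
      ∀ y ∈ (Cfsg.stableNormalClosure p ↥(S : Subgroup G)).map (S : Subgroup G).subtype,
        x * y = y * x) ∧
    (∀ x ∈ (Cfsg.stableNormalClosure p ↥(S : Subgroup G)).map (S : Subgroup G).subtype,
      x ^ p = 1) ∧
    (S : Subgroup G) ≤ normalizer
      (((Cfsg.stableNormalClosure p ↥(S : Subgroup G)).map (S : Subgroup G).subtype :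
        Subgroup G) : Set G) := by
  have hle : (Cfsg.stableNormalClosure p ↥(S : Subgroup G)).map (S : Subgroup G).subtype ≤
      sInf (famEl p (S : Subgroup G)) := by
    rw [← omegaCenterThompson_map_eq]
    exact map_mono (stableNormalClosure_le_omegaCenterThompson p)
  obtain ⟨A₀, hA₀⟩ := famEl_nonempty p (S : Subgroup G)
  refine ⟨fun x hx y hy => hA₀.2.1.1 x (sInf_le hA₀ (hle hx)) y (sInf_le hA₀ (hle hy)),
    fun x hx => hA₀.2.1.2 x (sInf_le hA₀ (hle hx)), ?_⟩
  intro s hs
  have hchar : (Cfsg.stableNormalClosure p ↥(S : Subgroup G)).Characteristic :=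
    stableNormalClosure_characteristic p
  have hn : (Cfsg.stableNormalClosure p ↥(S : Subgroup G)).Normal := inferInstance
  apply mem_normalizer_of_map_conj_le
  rintro _ ⟨_, ⟨w, hw, rfl⟩, rfl⟩
  refine ⟨⟨s, hs⟩ * w * ⟨s, hs⟩⁻¹, hn.conj_mem w hw ⟨s, hs⟩, ?_⟩
  simp [MulAut.conj_apply]

/-- **Kurzweil–Stellmacher 9.4.4**: in an action-`p`-stable group with `C_G(O_p(G)) ≤ O_p(G)` the
characteristic subgroup `W(S)` of a Sylow `p`-subgroup is normal. -/
theorem stableW_normal (hst : Cfsg.IsActionPStable p G)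
    (hc : centralizer (Cfsg.pCore p G : Set G) ≤ Cfsg.pCore p G) (S : Sylow p G) :
    ((Cfsg.stableNormalClosure p ↥(S : Subgroup G)).map (S : Subgroup G).subtype).Normal := by
  obtain ⟨hst1, hst2, hst3⟩ := hst
  obtain ⟨hWc, hWp, hSW⟩ := stableW_facts S
  obtain ⟨Ws, hWs⟩ : ∃ Ws : Subgroup ↥(S : Subgroup G),
    Ws = Cfsg.stableNormalClosure p ↥(S : Subgroup G) := ⟨_, rfl⟩
  rw [← hWs] at hWc hWp hSW ⊢
  obtain ⟨WG, hWG⟩ : ∃ WG : Subgroup G, WG = Ws.map (S : Subgroup G).subtype := ⟨_, rfl⟩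
  rw [← hWG] at hWc hWp hSW ⊢
  have hWGS : WG ≤ S := hWG ▸ map_subtype_le Ws
  have hQS : Cfsg.pCore p G ≤ S := Cfsg.Agent.Helper14.pCore_le_sylow p S
  have hQp : IsPGroup p (Cfsg.pCore p G) := Cfsg.Agent.Helper14.pCore_isPGroup p
  have hQn : (Cfsg.pCore p G).Normal := inferInstance
  -- key: elements of `S` acting quadratically on `WG` centralize it
  have hkey : ∀ x ∈ (S : Subgroup G), (∀ w ∈ WG, ⁅⁅w, x⁆, x⁆ = 1) →
      ∀ w ∈ WG, x * w = w * x := by
    intro x hx hq w hw
    rw [hWG] at hw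
    obtain ⟨w', hw', rfl⟩ := hw
    have h1 := stableNormalClosure_no_quad (p := p) (⟨x, hx⟩ : ↥(S : Subgroup G)) (by
      intro w'' hw''
      apply (S : Subgroup G).subtype_injective
      rw [map_commutatorElement, map_commutatorElement, map_one]
      exact hq _ (hWG ▸ mem_map_of_mem _ (hWs ▸ hw''))) w' (hWs ▸ hw')
    exact congrArg Subtype.val h1
  -- Step 1: `WG ≤ O_p(G)`
  have hWQ : WG ≤ Cfsg.pCore p G := by
    intro a ha
    have hquad : ⁅⁅Cfsg.pCore p G, zpowers a⁆, zpowers a⁆ ≤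
        (frattini ↥(Cfsg.pCore p G)).map (Cfsg.pCore p G).subtype := by
      have h1 : ⁅Cfsg.pCore p G, zpowers a⁆ ≤ WG := by
        rw [commutator_le]
        intro q hq z hz
        have hzW : z ∈ WG := zpowers_le.mpr ha hz
        have hqN := hSW (hQS hq)
        have h2 : q * z * q⁻¹ ∈ WG := (mem_normalizer_iff.mp hqN z).mp hzW
        rw [commutatorElement_def]
        exact mul_mem h2 (inv_mem hzW)
      have h2 : ⁅⁅Cfsg.pCore p G, zpowers a⁆, zpowers a⁆ = ⊥ := by
        rw [eq_bot_iff]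
        refine (commutator_mono h1 (zpowers_le.mpr ha)).trans ?_
        rw [commutator_le]
        intro x hx y hy
        rw [commutatorElement_eq_one_iff_mul_comm.mpr (hWc x hx y hy)]
        exact one_mem _
      rw [h2]
      exact bot_le
    obtain ⟨D, hDn, hD1, ⟨k, hk⟩, haD⟩ := hst2 a hquad
    rw [sectionKernel_frattini_eq'] at hD1 hk
    have hDp : IsPGroup p D := by
      rintro ⟨d, hd⟩
      have h1 : d ^ p ^ k ∈ Cfsg.Agent.Helper14.fratStab (Cfsg.pCore p G) := by
        have hcard : Nat.card (↥D ⧸ (Cfsg.Agent.Helper14.fratStab (Cfsg.pCore p G)).subgroupOf D) =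
            p ^ k := by
          rw [← hk]
          exact (Subgroup.index_eq_card _).symm
        have h2 := pow_card_eq_one'
          (G := ↥D ⧸ (Cfsg.Agent.Helper14.fratStab (Cfsg.pCore p G)).subgroupOf D)
          (x := QuotientGroup.mk ⟨d, hd⟩)
        rw [hcard, ← QuotientGroup.mk_pow, QuotientGroup.eq_one_iff, mem_subgroupOf] at h2
        simpa using h2
      obtain ⟨n, hn⟩ := Cfsg.Agent.Helper14.exists_pow_mem_centralizer_of_mem_fratStab
        (Cfsg.pCore p G) hQp _ h1
      obtain ⟨m, hm⟩ := hQp ⟨_, hc hn⟩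
      refine ⟨k + n + m, ?_⟩
      apply Subtype.ext
      have h3 := congrArg Subtype.val hm
      simp only [SubmonoidClass.coe_pow, OneMemClass.coe_one] at h3 ⊢
      rw [pow_add, pow_add, pow_mul, pow_mul]
      exact h3
    exact Cfsg.Agent.Helper14.le_pCore p hDn hDp haD
  -- Step 2: conjugates of `WG` commute with `WG`
  have hconj_comm : ∀ g : G, ∀ x ∈ WG, ∀ w ∈ WG,
      (g * x * g⁻¹) * w = w * (g * x * g⁻¹) := by
    intro g x hx w hw
    have hyQ : g * x * g⁻¹ ∈ Cfsg.pCore p G := hQn.conj_mem x (hWQ hx) g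
    apply hkey _ (hQS hyQ) ?_ w hw
    intro w₁ hw₁
    have h1 : g⁻¹ * w₁ * g ∈ Cfsg.pCore p G := by
      have := hQn.conj_mem w₁ (hWQ hw₁) g⁻¹
      simpa using this
    have h2 : ⁅g⁻¹ * w₁ * g, x⁆ ∈ WG := by
      have hN := hSW (hQS h1)
      have h3 : (g⁻¹ * w₁ * g) * x * (g⁻¹ * w₁ * g)⁻¹ ∈ WG := (mem_normalizer_iff.mp hN x).mp hx
      rw [commutatorElement_def]
      exact mul_mem h3 (inv_mem hx)
    have h3 : ⁅⁅g⁻¹ * w₁ * g, x⁆, x⁆ = 1 :=
      commutatorElement_eq_one_iff_mul_comm.mpr (hWc _ h2 x hx)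
    have e : ⁅⁅w₁, g * x * g⁻¹⁆, g * x * g⁻¹⁆ = g * ⁅⁅g⁻¹ * w₁ * g, x⁆, x⁆ * g⁻¹ := by
      simp only [commutatorElement_def]; group
    rw [e, h3]
    group
  have hgen_comm : ∀ a ∈ Group.conjugatesOfSet (WG : Set G),
      ∀ b ∈ Group.conjugatesOfSet (WG : Set G), a * b = b * a := by
    intro a ha b hb
    rw [Group.mem_conjugatesOfSet_iff] at ha hb
    obtain ⟨x, hx, hxa⟩ := ha
    obtain ⟨w, hw, hwb⟩ := hb
    rw [isConj_iff] at hxa hwb
    obtain ⟨g, rfl⟩ := hxa
    obtain ⟨h, rfl⟩ := hwb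
    have h1 := hconj_comm (h⁻¹ * g) x hx w hw
    calc g * x * g⁻¹ * (h * w * h⁻¹)
        = h * ((h⁻¹ * g) * x * (h⁻¹ * g)⁻¹ * w) * h⁻¹ := by group
      _ = h * (w * ((h⁻¹ * g) * x * (h⁻¹ * g)⁻¹)) * h⁻¹ := by rw [h1]
      _ = h * w * h⁻¹ * (g * x * g⁻¹) := by group
  have hgen_pow : ∀ a ∈ Group.conjugatesOfSet (WG : Set G), a ^ p = 1 := by
    intro a ha
    rw [Group.mem_conjugatesOfSet_iff] at ha
    obtain ⟨x, hx, hxa⟩ := ha
    rw [isConj_iff] at hxa
    obtain ⟨g, rfl⟩ := hxa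
    rw [conj_pow, hWp x hx, mul_one, mul_inv_cancel]
  obtain ⟨B, hB⟩ : ∃ B : Subgroup G, B = normalClosure (WG : Set G) := ⟨_, rfl⟩
  have hBel : Cfsg.IsElementaryAbelian p B := by
    rw [hB]
    exact isElementaryAbelian_closure hgen_comm hgen_pow
  have hBn : B.Normal := by rw [hB]; exact normalClosure_normal
  have hWB : WG ≤ B := by rw [hB]; exact subset_normalClosure
  have hBQ : B ≤ Cfsg.pCore p G := by rw [hB]; exact normalClosure_le_normal hWQ
  have hstB : Cfsg.IsPStableOn p B := @hst1 B hBn hBel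
  -- Step 4: quadratic elements centralize `B`
  have hquadC : ∀ a : G, (∀ v ∈ B, ⁅⁅v, a⁆, a⁆ = 1) → a ∈ centralizer (B : Set G) := by
    intro a hqa
    obtain ⟨C, hC⟩ : ∃ C : Subgroup G, C = centralizer (B : Set G) := ⟨_, rfl⟩
    have hCn : C.Normal := by rw [hC]; infer_instance
    obtain ⟨D, hD⟩ : ∃ D : Subgroup G,
        D = (Cfsg.pCore p (G ⧸ centralizer (B : Set G))).comap
          (QuotientGroup.mk' (centralizer (B : Set G))) := ⟨_, rfl⟩
    have hDn : D.Normal := by rw [hD]; infer_instance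
    have hCD : C ≤ D := by
      intro c hc'
      rw [hD, mem_comap]
      have : QuotientGroup.mk' (centralizer (B : Set G)) c = 1 :=
        (QuotientGroup.eq_one_iff c).mpr (hC ▸ hc')
      rw [this]
      exact one_mem _
    have hDpow : ∀ d ∈ D, ∃ k : ℕ, d ^ (p ^ k) ∈ C := by
      intro d hd
      rw [hD, mem_comap] at hd
      obtain ⟨k, hk⟩ := (Cfsg.Agent.Helper14.pCore_isPGroup
        (G := G ⧸ centralizer (B : Set G)) p) ⟨_, hd⟩
      refine ⟨k, ?_⟩
      have h2 := congrArg Subtype.val hk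
      simp only [SubmonoidClass.coe_pow, OneMemClass.coe_one] at h2
      rw [← map_pow] at h2
      rw [hC]
      exact (QuotientGroup.eq_one_iff _).mp h2
    have haD : a ∈ D := by
      rw [hD, mem_comap]
      exact hstB a (quad_of_elementwise B a hqa)
    suffices h : ∀ g : G, ∀ w ∈ WG, a * (g * w * g⁻¹) = (g * w * g⁻¹) * a by
      have hle : normalClosure (WG : Set G) ≤ centralizer ({a} : Set G) := by
        unfold normalClosure
        rw [closure_le]
        intro y hy
        rw [Group.mem_conjugatesOfSet_iff] at hy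
        obtain ⟨w, hw, hwy⟩ := hy
        rw [isConj_iff] at hwy
        obtain ⟨g, rfl⟩ := hwy
        rw [SetLike.mem_coe, mem_centralizer_iff]
        intro z hz
        rw [Set.mem_singleton_iff] at hz
        rw [hz]
        exact h g w hw
      rw [mem_centralizer_iff]
      intro y hy
      rw [hB] at hy
      exact ((mem_centralizer_iff.mp (hle hy)) a rfl).symm
    intro g w hw
    have hyD : g⁻¹ * a * g ∈ D := by
      have := hDn.conj_mem _ haD g⁻¹
      simpa using this
    have hmem := le_sup_sylow_inf S D C hCD hDpow hyD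
    rw [← SetLike.mem_coe, normal_mul] at hmem
    obtain ⟨c, hc', t, ht, hy⟩ := hmem
    have hy' : c * t = g⁻¹ * a * g := hy
    have hc'' : c ∈ centralizer (B : Set G) := hC ▸ hc'
    have hcinv : c⁻¹ ∈ centralizer (B : Set G) := inv_mem hc''
    have hts : t = c⁻¹ * (g⁻¹ * a * g) := by rw [← hy', inv_mul_cancel_left]
    have htq : ∀ w₁ ∈ WG, ⁅⁅w₁, t⁆, t⁆ = 1 := by
      intro w₁ hw₁
      have hv : w₁ ∈ B := hWB hw₁
      have hvy : ⁅w₁, g⁻¹ * a * g⁆ ∈ B := by
        rw [commutatorElement_def]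
        have : w₁ * (g⁻¹ * a * g) * w₁⁻¹ * (g⁻¹ * a * g)⁻¹ =
            w₁ * ((g⁻¹ * a * g) * w₁⁻¹ * (g⁻¹ * a * g)⁻¹) := by group
        rw [this]
        exact B.mul_mem hv (hBn.conj_mem _ (B.inv_mem hv) _)
      rw [hts, commutatorElement_mul_centralizer B hcinv hv,
        commutatorElement_mul_centralizer B hcinv hvy]
      have hconj : g * w₁ * g⁻¹ ∈ B := hBn.conj_mem _ hv g
      have e : ⁅⁅w₁, g⁻¹ * a * g⁆, g⁻¹ * a * g⁆ = g⁻¹ * ⁅⁅g * w₁ * g⁻¹, a⁆, a⁆ * g := by
        simp only [commutatorElement_def]; group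
      rw [e, hqa _ hconj]
      group
    have htw := hkey t ht.1 htq w hw
    have hcw : c * w = w * c := (mem_centralizer_iff.mp hc'' w (hWB hw)).symm
    calc a * (g * w * g⁻¹) = g * ((g⁻¹ * a * g) * w) * g⁻¹ := by group
      _ = g * (c * t * w) * g⁻¹ := by rw [← hy']
      _ = g * (w * (c * t)) * g⁻¹ := by
          have : c * t * w = w * (c * t) := by
            rw [mul_assoc c, htw, ← mul_assoc c, hcw, mul_assoc]
          rw [this]
      _ = g * (w * (g⁻¹ * a * g)) * g⁻¹ := by rw [hy']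
      _ = g * w * g⁻¹ * a := by group
  -- Step 5: the elementary abelian subgroups of largest order centralize `B`
  have hAC : ∀ A ∈ famEl p (S : Subgroup G), A ≤ centralizer (B : Set G) := by
    intro A hA
    rw [← image_maxElementaryAbelian_eq] at hA
    obtain ⟨A₁, hA₁, rfl⟩ := hA
    have hVn : (B.subgroupOf (S : Subgroup G)).Normal := inferInstance
    have hVel : Cfsg.IsElementaryAbelian p (B.subgroupOf (S : Subgroup G)) :=
      isElementaryAbelian_subgroupOf _ hBel
    obtain ⟨h1, h2, h3⟩ := Cfsg.Agent.S0607.result (B.subgroupOf (S : Subgroup G)) hVel A₁ hA₁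
    have hBS : B ≤ S := hBQ.trans hQS
    have hA₀C : ∀ a₀ ∈ ⁅B.subgroupOf (S : Subgroup G), A₁⁆ ⊔
        (A₁ ⊓ centralizer ((⁅B.subgroupOf (S : Subgroup G), A₁⁆ : Subgroup ↥(S : Subgroup G)) :
          Set ↥(S : Subgroup G))),
        (a₀ : G) ∈ centralizer (B : Set G) := by
      intro a₀ ha₀
      apply hquadC
      intro v hv
      have h4 : ⁅⁅(⟨v, hBS hv⟩ : ↥(S : Subgroup G)), a₀⁆, a₀⁆ ∈
          ⁅⁅B.subgroupOf (S : Subgroup G), _⁆, _⁆ :=
        commutator_mem_commutator (commutator_mem_commutator (mem_subgroupOf.mpr hv) ha₀) ha₀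
      rw [h2, mem_bot] at h4
      have h5 := congrArg (S : Subgroup G).subtype h4
      rw [map_commutatorElement, map_commutatorElement, map_one] at h5
      exact h5
    have hVA₀ : ⁅B.subgroupOf (S : Subgroup G), ⁅B.subgroupOf (S : Subgroup G), A₁⁆ ⊔
        (A₁ ⊓ centralizer ((⁅B.subgroupOf (S : Subgroup G), A₁⁆ : Subgroup ↥(S : Subgroup G)) :
          Set ↥(S : Subgroup G)))⁆ = ⊥ := by
      rw [eq_bot_iff, commutator_le]
      intro v hv a₀ ha₀
      rw [mem_bot, commutatorElement_eq_one_iff_mul_comm]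
      apply Subtype.ext
      exact mem_centralizer_iff.mp (hA₀C a₀ ha₀) v (mem_subgroupOf.mp hv)
    have hVA : ⁅B.subgroupOf (S : Subgroup G), A₁⁆ = ⊥ := by
      by_contra hne
      exact h3 hne hVA₀
    rintro _ ⟨a, ha, rfl⟩
    rw [mem_centralizer_iff]
    intro v hv
    have h4 : ⁅(⟨v, hBS hv⟩ : ↥(S : Subgroup G)), a⁆ ∈ ⁅B.subgroupOf (S : Subgroup G), A₁⁆ :=
      commutator_mem_commutator (mem_subgroupOf.mpr hv) ha
    rw [hVA, mem_bot, commutatorElement_eq_one_iff_mul_comm] at h4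
    exact congrArg Subtype.val h4
  -- Step 6: `G = N_G(J(S)) C_G(B)`
  have hJe := Cfsg.Agent.Lead.TNC.thompsonSubgroupOf_eq_sSup p (S : Subgroup G)
  have hJC : Cfsg.thompsonSubgroupOf p (S : Subgroup G) ≤ centralizer (B : Set G) := by
    rw [hJe]; exact sSup_le hAC
  have hCn : (centralizer (B : Set G)).Normal := inferInstance
  have hfr := normalizer_sylow_inf_sup_eq_top S (centralizer (B : Set G)) (centralizer (B : Set G))
    le_rfl (fun x hx => ⟨0, by simpa using hx⟩)
  have hJeq : Cfsg.thompsonSubgroupOf p ((S : Subgroup G) ⊓ centralizer (B : Set G)) =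
      Cfsg.thompsonSubgroupOf p (S : Subgroup G) := by
    rw [Cfsg.Agent.Lead.TNC.thompsonSubgroupOf_eq_sSup, Cfsg.Agent.Lead.TNC.thompsonSubgroupOf_eq_sSup]
    congr 1
    obtain ⟨A₀, hA₀⟩ := famEl_nonempty p (S : Subgroup G)
    apply Set.Subset.antisymm
    · exact (famEl_restrict hA₀ (le_inf hA₀.1 (hAC A₀ hA₀)) inf_le_left).2
    · intro A hA
      exact (famEl_restrict hA (le_inf hA.1 (hAC A hA)) inf_le_left).1
  have hNJ : normalizer (Cfsg.thompsonSubgroupOf p (S : Subgroup G) : Set G) ⊔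
      centralizer (B : Set G) = ⊤ := by
    rw [eq_top_iff, ← hfr]
    apply sup_le_sup_right
    rw [← hJeq]
    exact (Cfsg.Agent.Lead.TNC.jFunctor p).normalizer_le _
  -- Step 7: `N_G(J(S))` with the inclusion of `S` is a stable embedding
  have hSH : (S : Subgroup G) ≤ normalizer (Cfsg.thompsonSubgroupOf p (S : Subgroup G) : Set G) :=
    le_normalizer.trans ((Cfsg.Agent.Lead.TNC.jFunctor p).normalizer_le _)
  have hτ : Cfsg.IsStableEmbedding p (inclusion hSH) := by
    refine ⟨inclusion_injective hSH, inferInstance, ⟨S.subtype hSH, ?_⟩, ?_, ?_, ?_⟩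
    · rw [Sylow.coe_subtype, inclusion_range]
    · have hQH : (Cfsg.pCore p G).subgroupOf
          (normalizer (Cfsg.thompsonSubgroupOf p (S : Subgroup G) : Set G)) ≤ Cfsg.pCore p _ :=
        Cfsg.Agent.Helper14.le_pCore p inferInstance hQp.comap_subtype
      intro c hc'
      apply hQH
      rw [mem_subgroupOf]
      apply hc
      rw [mem_centralizer_iff]
      intro q hq
      have hqH : q ∈ normalizer (Cfsg.thompsonSubgroupOf p (S : Subgroup G) : Set G) :=
        hSH (hQS hq)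
      have h1 := mem_centralizer_iff.mp hc' ⟨q, hqH⟩ (hQH (mem_subgroupOf.mpr hq))
      exact congrArg Subtype.val h1
    · have e : (Cfsg.thompsonSubgroup p ↥(S : Subgroup G)).map (inclusion hSH) =
          (Cfsg.thompsonSubgroupOf p (S : Subgroup G)).subgroupOf
            (normalizer (Cfsg.thompsonSubgroupOf p (S : Subgroup G) : Set G)) := by
        apply map_injective (subtype_injective _)
        rw [map_map, subgroupOf_map_subtype, inf_eq_left.mpr le_normalizer]
        rfl
      rw [e]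
      exact normal_in_normalizer
    · intro V hVn hV
      apply @hst3 S V hVn
      calc V.map (normalizer (Cfsg.thompsonSubgroupOf p (S : Subgroup G) : Set G)).subtype
          ≤ ((Cfsg.omegaCenterThompson p ↥(S : Subgroup G)).map (inclusion hSH)).map
              (normalizer (Cfsg.thompsonSubgroupOf p (S : Subgroup G) : Set G)).subtype :=
            map_mono hV
        _ = (Cfsg.omegaCenterThompson p ↥(S : Subgroup G)).map (S : Subgroup G).subtype := by
            rw [map_map]; rfl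
  have hWn := stableNormalClosure_map_normal (inclusion hSH) hτ
  rw [← hWs] at hWn
  -- Step 8
  rw [← normalizer_eq_top_iff, eq_top_iff, ← hNJ]
  apply sup_le
  · intro h hh
    apply mem_normalizer_of_map_conj_le
    rintro _ ⟨x, hx, rfl⟩
    rw [SetLike.mem_coe, hWG] at hx
    obtain ⟨w, hw, rfl⟩ := hx
    obtain ⟨w₂, hw₂, hw₂e⟩ := hWn.conj_mem _ (mem_map_of_mem (inclusion hSH) hw) ⟨h, hh⟩
    rw [hWG]
    refine ⟨w₂, hw₂, ?_⟩
    have h1 := congrArg Subtype.val hw₂e
    simpa using h1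
  · intro c hc'
    apply mem_normalizer_of_map_conj_le
    rintro _ ⟨x, hx, rfl⟩
    simp only [MulEquiv.coe_toMonoidHom, MulAut.conj_apply]
    have h1 : x * c = c * x := (mem_centralizer_iff.mp hc') x (hWB hx)
    have e : c * x * c⁻¹ = x := by rw [← h1, mul_inv_cancel_right]
    rw [e]
    exact hx

end main

end Cfsg.Agent.Helper26
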