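import Mathlib
import Cfsg.Agent.Helper9.S5650.Defs
import Cfsg.Agent.Helper9.S5650.Lib
import Cfsg.Agent.Helper20.S5650TRANSF

/-! S5650 piece KONE (driver helper9): one rational centre / one rational isotropic pair decides membership of a
parameter in `KT` / `KS` (Witt transitivity over `F₀`, piece TRANSF, with `k = 1`, `k = 2`). -/

set_option autoImplicit false

namespace Cfsg.Agent.S5650P

open Matrix Cfsg.Agent.Helper28

variable {F : Type*} [Field F] {m : ℕ}

theorem KONE.KT_of_one (F₀ : Subfield F) (M : Subgroup (GLm m F)) (hMsp : M ≤ Cfsg.spGL m F)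
    (hM : HasRatSp F₀ M) {u : Vec m F} (hu : Rat F₀ u) (hu0 : u ≠ 0) {c : F} (h : T u c ∈ MS M) :
    c ∈ KT F₀ M := by
  intro u' hu'
  by_cases hu'0 : u' = 0
  · rw [hu'0, T_zero_vec]
    exact one_mem_MS M
  · have hli : ∀ v : Vec m F, v ≠ 0 → LinearIndependent F (fun _ : Fin 1 => v) := by
      intro v hv
      exact LinearIndependent.of_subsingleton (0 : Fin 1) hv
    obtain ⟨g, hgr, hgsp, hg⟩ := TRANSF.exists_rat_sp F₀ (k := 1) (fun _ => u) (fun _ => u')
      (fun _ => hu) (fun _ => hu') (hli u hu0) (hli u' hu'0) (fun _ _ => om_self u)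
      (fun _ _ => om_self u')
    have hgM : g ∈ M := hM g hgr hgsp
    have h1 := MS_conj_T hMsp hgM h
    rw [hg 0] at h1
    exact h1

theorem KONE.KS_of_one (F₀ : Subfield F) (M : Subgroup (GLm m F)) (hMsp : M ≤ Cfsg.spGL m F)
    (hM : HasRatSp F₀ M) {u w : Vec m F} (hu : Rat F₀ u) (hw : Rat F₀ w)
    (hi : LinearIndependent F ![u, w]) (ho : om u w = 0) {c : F} (h : S u w c ∈ MS M) :
    c ∈ KS F₀ M := by
  intro u' w' hu' hw' hi' ho'
  have hiso : ∀ a b : Vec m F, om a b = 0 → ∀ i j : Fin 2, om (![a, b] i) (![a, b] j) = 0 := by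
    intro a b hab i j
    fin_cases i <;> fin_cases j
    · exact om_self a
    · exact hab
    · show om b a = 0
      rw [om_swap, hab, neg_zero]
    · exact om_self b
  have hrat : ∀ a b : Vec m F, Rat F₀ a → Rat F₀ b → ∀ i : Fin 2, Rat F₀ (![a, b] i) := by
    intro a b ha hb i
    fin_cases i
    · exact ha
    · exact hb
  obtain ⟨g, hgr, hgsp, hg⟩ := TRANSF.exists_rat_sp F₀ (k := 2) ![u, w] ![u', w']
    (hrat u w hu hw) (hrat u' w' hu' hw') hi hi' (hiso u w ho) (hiso u' w' ho')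
  have hgM : g ∈ M := hM g hgr hgsp
  have h1 := MS_conj_S hMsp hgM h
  have e0 : (g : Mat m F) *ᵥ u = u' := hg 0
  have e1 : (g : Mat m F) *ᵥ w = w' := hg 1
  rw [e0, e1] at h1
  exact h1

end Cfsg.Agent.S5650P
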