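import Mathlib
import Cfsg.Prelude.Def_GeometricClasses
import Cfsg.Prelude.Def_Classical
import Cfsg.Prelude.Def_LieClassical
import Cfsg.Agent.Helper27.S5989Defs
import Cfsg.Agent.Helper28.Spin6
import Cfsg.Agent.Helper18.S5989UNIPAR
import Cfsg.Agent.Helper18.S5989KERADD

/-! S5989 piece UNIDER (driver helper27): a unipotent isometry with the kernel data of the three
model derangements has no invariant nondegenerate subspace of odd dimension `m`. -/

set_option autoImplicit false
open scoped MatrixGroups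
universe u

namespace Cfsg.Agent.S5989P

open Cfsg.Agent.Helper2.SympInvol Cfsg.Agent.Helper2.SympUnits Cfsg.Agent.S5961P
  Cfsg.Agent.S5992P Cfsg.Agent.Helper28.Spin

namespace UNIDER

variable {F V : Type*} [Field F] [AddCommGroup V] [Module F V]

/-- rank-nullity for `N : M ⊓ ker N² → M ⊓ ker N` -/
lemma finrank_ker_sq_le [FiniteDimensional F V] (N : Module.End F V) (M : Submodule F V)
    (hM : ∀ v ∈ M, N v ∈ M) :
    Module.finrank F ↥(M ⊓ LinearMap.ker (N ^ 2)) ≤
      2 * Module.finrank F ↥(M ⊓ LinearMap.ker N) := by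
  obtain ⟨P, hP⟩ : ∃ P : Submodule F V, P = M ⊓ LinearMap.ker (N ^ 2) := ⟨_, rfl⟩
  rw [← hP]
  obtain ⟨f, hf⟩ : ∃ f : ↥P →ₗ[F] V, f = N.domRestrict P := ⟨_, rfl⟩
  have hrn := LinearMap.finrank_range_add_finrank_ker f
  have hker : Module.finrank F ↥(LinearMap.ker f) ≤
      Module.finrank F ↥(M ⊓ LinearMap.ker N) := by
    have h1 : LinearMap.ker f = (LinearMap.ker N).comap P.subtype := by
      ext v
      simp [hf, LinearMap.domRestrict_apply]
    rw [h1, ← Submodule.finrank_map_subtype_eq P ((LinearMap.ker N).comap P.subtype),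
      Submodule.map_comap_subtype]
    apply Submodule.finrank_mono
    rw [hP]
    exact inf_le_inf_right _ inf_le_left
  have hrange : Module.finrank F ↥(LinearMap.range f) ≤
      Module.finrank F ↥(M ⊓ LinearMap.ker N) := by
    apply Submodule.finrank_mono
    rintro _ ⟨v, rfl⟩
    have hv : (v : V) ∈ M ⊓ LinearMap.ker (N ^ 2) := by rw [← hP]; exact v.2
    refine ⟨?_, ?_⟩
    · rw [hf, LinearMap.domRestrict_apply]
      exact hM _ hv.1
    · show N (f v) = 0
      rw [hf, LinearMap.domRestrict_apply]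
      have h0 : (N ^ 2) (v : V) = 0 := hv.2
      rw [pow_two, Module.End.mul_apply] at h0
      exact h0
  omega

end UNIDER

set_option linter.unusedVariables false in
/-- UNIDER -/
theorem no_odd_invariant_of_unip {F V : Type*} [Field F] [AddCommGroup V] [Module F V]
    [FiniteDimensional F V] (h2 : (2 : F) ≠ 0) (Q : QuadraticForm F V) (hnd : Nondeg (PB Q) ⊤)
    (x : Module.End F V) (hxQ : ∀ v, Q (x v) = Q v) (k : ℕ) (hxk : (x - 1) ^ k = 0) (d m : ℕ)
    (hV : Module.finrank F V = 2 * d) (hm : Odd m)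
    (hk : (Module.finrank F (LinearMap.ker (x - 1)) = d ∧
          Module.finrank F (LinearMap.ker ((x - 1) ^ 2)) = 2 * d) ∨
      (Module.finrank F (LinearMap.ker (x - 1)) = d + 1 ∧
          Module.finrank F (LinearMap.ker ((x - 1) ^ 2)) = 2 * d ∧ m % 4 = 3) ∨
      (Module.finrank F (LinearMap.ker (x - 1)) + 1 = d ∧
          Module.finrank F (LinearMap.ker ((x - 1) ^ 2)) + 2 = 2 * d ∧
          Module.finrank F (LinearMap.ker ((x - 1) ^ 3)) = 2 * d ∧ m % 4 = 1))
    (W : Submodule F V) (hWx : W.map x ≤ W) (hWnd : Nondeg (PB Q) W)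
    (hWm : Module.finrank F W = m) : False := by
  have hinj : Function.Injective x := by
    have hnil : IsNilpotent (x - 1) := ⟨k, hxk⟩
    have hu : IsUnit ((x - 1) + 1) := hnil.isUnit_add_one
    rw [sub_add_cancel] at hu
    exact ((Module.End.isUnit_iff x).mp hu).1
  obtain ⟨W', hW'x, hW'nd, hsum, hadd⟩ := finrank_ker_pow_add Q hnd x hxQ hinj W hWx hWnd
  have hpar := even_sub_ker_of_unip h2 Q x hxQ k hxk W hWx hWnd
  have hpar' := even_sub_ker_of_unip h2 Q x hxQ k hxk W' hW'x hW'nd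
  have hNW : ∀ v ∈ W, (x - 1) v ∈ W := by
    intro v hv
    rw [LinearMap.sub_apply, Module.End.one_apply]
    exact W.sub_mem (hWx (Submodule.mem_map_of_mem hv)) hv
  have hNW' : ∀ v ∈ W', (x - 1) v ∈ W' := by
    intro v hv
    rw [LinearMap.sub_apply, Module.End.one_apply]
    exact W'.sub_mem (hW'x (Submodule.mem_map_of_mem hv)) hv
  have hle2 := UNIDER.finrank_ker_sq_le (x - 1) W hNW
  have hle2' := UNIDER.finrank_ker_sq_le (x - 1) W' hNW'
  have h1 := hadd 1
  have h2' := hadd 2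
  have h3 := hadd 3
  rw [pow_one] at h1
  have hb : ∀ j : ℕ, Module.finrank F ↥(W ⊓ LinearMap.ker ((x - 1) ^ j)) ≤ Module.finrank F W :=
    fun j => Submodule.finrank_mono inf_le_left
  have hb' : ∀ j : ℕ, Module.finrank F ↥(W' ⊓ LinearMap.ker ((x - 1) ^ j)) ≤
      Module.finrank F W' := fun j => Submodule.finrank_mono inf_le_left
  have hb2 := hb 2
  have hb3 := hb 3
  have hb2' := hb' 2
  have hb3' := hb' 3
  obtain ⟨t, ht⟩ := hm
  obtain ⟨s, hs⟩ := hpar
  obtain ⟨s', hs'⟩ := hpar'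
  have hb1 : Module.finrank F ↥(W ⊓ LinearMap.ker (x - 1)) ≤ Module.finrank F W :=
    Submodule.finrank_mono inf_le_left
  have hb1' : Module.finrank F ↥(W' ⊓ LinearMap.ker (x - 1)) ≤ Module.finrank F W' :=
    Submodule.finrank_mono inf_le_left
  rcases hk with ⟨hk1, hk2⟩ | ⟨hk1, hk2, hm4⟩ | ⟨hk1, hk2, hk3, hm4⟩
  · omega
  · omega
  · omega

end Cfsg.Agent.S5989P
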