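import Mathlib
import Cfsg.Agent.Helper26.MasterRed
import Cfsg.Agent.Helper26.InnerModel

set_option autoImplicit false

/-! Inner centralizer systems as a predicate on the maps, and the normal `p`-complement of the
centralizer of a central subgroup in a group realizing the system. -/

namespace Cfsg.Agent.Helper26.TH

open Cfsg Cfsg.FusionSystem Cfsg.Agent.Helper25 Cfsg.Agent.Helper26.MasterRed

variable {Ω : Type*} [Group Ω] {S : Subgroup Ω}

/-- Every map of the centralizer system of `U` is conjugation by an element of `C_S(U)`. -/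
def CInner (F : FusionSystem S) (U : Subgroup Ω) : Prop :=
  ∀ (P : Subgroup Ω) (φ : P →* Ω), φ ∈ F.centralizerHom U P →
    ∃ g ∈ centralizerIn S U, ∀ x : P, φ x = g * (x : Ω) * g⁻¹

theorem cinner_iff (F : FusionSystem S) (U : Subgroup Ω) (E : FusionSystem (centralizerIn S U))
    (hE : F.IsCentralizerSystem U E) : Inner E ↔ CInner F U := by
  constructor
  · intro h P φ hφ
    rw [← hE P] at hφ
    exact h P φ hφ
  · intro h P φ hφ
    rw [hE P] at hφ
    exact h P φ hφ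

/-- A map whose source contains `U` and which fixes `U` elementwise is a map of the centralizer
system. -/
theorem mem_centralizerHom_of_le (F : FusionSystem S) {U X : Subgroup Ω} (hUX : U ≤ X)
    {ψ : X →* Ω} (hψ : ψ ∈ F.Hom X) (hXN : X ≤ centralizerIn S U)
    (hval : ∀ x : X, ψ x ∈ centralizerIn S U)
    (hfix : ∀ u : U, ψ (Subgroup.inclusion hUX u) = u) :
    ψ ∈ F.centralizerHom U X := by
  have hsup : X ⊔ U = X := sup_eq_left.mpr hUX
  refine ⟨hψ, hXN, hval, ψ.comp (Subgroup.inclusion hsup.le), cast_mem F hsup hψ, fun x => ?_, ?_⟩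
  · show ψ _ = ψ x
    congr 1
  · intro u
    show ψ _ = u
    rw [← hfix u]
    congr 1

/-- If the normalizer system of a subgroup centralized by `S` is inner, so is its centralizer
system. -/
theorem cinner_of_ninner (F : FusionSystem S) {Z : Subgroup Ω}
    (hSC : S ≤ Subgroup.centralizer (Z : Set Ω)) (h : NInner F Z) : CInner F Z := by
  intro P φ hφ
  obtain ⟨hφF, hPC, hval, ψ, hψ, hext, hfix⟩ := hφ
  have hCN : centralizerIn S Z ≤ normalizerIn S Z := by
    intro x hx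
    refine ⟨hx.1, ?_⟩
    have hx2 : x ∈ Subgroup.centralizer (Z : Set Ω) := hx.2
    exact Subgroup.centralizer_le_normalizer (Z : Set Ω) hx2
  have hmap : (Z.subgroupOf (P ⊔ Z)).map ψ = Z := by
    ext y
    constructor
    · rintro ⟨z, hz, rfl⟩
      have h1 := hfix ⟨z, hz⟩
      have h2 : Subgroup.inclusion (le_sup_right : Z ≤ P ⊔ Z) ⟨z, hz⟩ = z := Subtype.ext rfl
      rw [h2] at h1
      rw [h1]
      exact hz
    · intro hy
      exact ⟨Subgroup.inclusion (le_sup_right : Z ≤ P ⊔ Z) ⟨y, hy⟩, hy, hfix ⟨y, hy⟩⟩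
  obtain ⟨g, hg, hx⟩ := h P φ ⟨hφF, hPC.trans hCN, fun x => hCN (hval x), ψ, hψ, hext, hmap⟩
  exact ⟨g, ⟨hg.1, hSC hg.1⟩, hx⟩

/-- The centralizer system is inner inside a normalizer system over the whole of `S`. -/
theorem cinner_norm (F : FusionSystem S) {U : Subgroup Ω}
    (hSN : S ≤ Subgroup.normalizer (U : Set Ω))
    (E : FusionSystem (normalizerIn S U)) (hE : F.IsNormalizerSystem U E) {W : Subgroup Ω}
    (h : CInner F W) : CInner E W := by
  intro P φ hφ
  obtain ⟨hφE, hPN, hval, ψ, hψ, hext, hfix⟩ := hφ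
  rw [hE P] at hφE
  rw [hE (P ⊔ W)] at hψ
  have hTS : normalizerIn S U ≤ S := inf_le_left
  have hNN : centralizerIn (normalizerIn S U) W ≤ centralizerIn S W :=
    fun x hx => ⟨hTS hx.1, hx.2⟩
  obtain ⟨g, hg, hx⟩ := h P φ ⟨hφE.1, hPN.trans hNN, fun x => hNN (hval x), ψ, hψ.1, hext, hfix⟩
  exact ⟨g, ⟨⟨hg.1, hSN hg.1⟩, hg.2⟩, hx⟩

section Real

variable {G : Type*} [Group G]

/-- The image of `S` centralizes the image of a subgroup centralized by `S`. -/
theorem map_mem_centralizer_map (ι : S →* G) {W : Subgroup Ω}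
    (hSC : S ≤ Subgroup.centralizer (W : Set Ω)) (s : S) :
    ι s ∈ Subgroup.centralizer ((((W.subgroupOf S).map ι : Subgroup G)) : Set G) := by
  rw [Subgroup.mem_centralizer_iff]
  rintro _ ⟨w, hw, rfl⟩
  rw [← map_mul, ← map_mul]
  congr 1
  apply Subtype.ext
  have h1 := Subgroup.mem_centralizer_iff.mp (hSC s.2) (w : Ω) hw
  exact h1

/-- If the system realized by `ι` (with image a Sylow `p`-subgroup) has inner centralizer system
at `W ≤ Z(S)`, then the centralizer of the image of `W` has a normal `p`-complement. -/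
theorem npc_centralizer_of_cinner [Finite S] [Finite G] {p : ℕ} [Fact p.Prime] (hS : IsPGroup p S)
    (F : FusionSystem S) (ι : S →* G) (hreal : F.IsRealizedBy ι) (T : Sylow p G)
    (hT : (T : Subgroup G) = ι.range) {W : Subgroup Ω} (hWS : W ≤ S)
    (hSC : S ≤ Subgroup.centralizer (W : Set Ω)) (hW : CInner F W) :
    HasNormalPComplement p
      ↥(Subgroup.centralizer ((((W.subgroupOf S).map ι : Subgroup G)) : Set G)) := by
  have hinj := hreal.1
  have hTH : (T : Subgroup G) ≤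
      Subgroup.centralizer ((((W.subgroupOf S).map ι : Subgroup G)) : Set G) := by
    rw [hT]
    rintro _ ⟨s, rfl⟩
    exact map_mem_centralizer_map ι hSC s
  have hWGle : (W.subgroupOf S).map ι ≤ ι.range := by
    rintro _ ⟨w, -, rfl⟩
    exact ⟨w, rfl⟩
  have hWfin : Finite W := finite_of_le hWS
  have hSCW : S ≤ centralizerIn S W := fun x hx => ⟨hx, hSC hx⟩
  refine ⟨T.subtype hTH, ?_⟩
  apply (Cfsg.Agent.S0071.result (T.subtype hTH)).mpr
  intro Q hQ g hg hcop
  rw [Sylow.coe_subtype] at hQ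
  -- the preimage of `Q` in `S`
  have hYS : preimageAlong ι (Q.map (Subgroup.subtype _)) ⊔ W ≤ S :=
    sup_le (preimageAlong_le ι _) hWS
  have hgN : ∀ q ∈ Q, g * q * g⁻¹ ∈ Q := fun q hq =>
    ((Subgroup.mem_normalizer_iff.mp hg) q).mp hq
  have hgW : ∀ y ∈ (W.subgroupOf S).map ι, (g : G) * y * (g : G)⁻¹ = y := by
    intro y hy
    have h1 := Subgroup.mem_centralizer_iff.mp g.2 y hy
    rw [← h1]
    group
  -- conjugation by `g` carries the image of `Y` into the image of `S`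
  have hconj : ∀ y : ↥(preimageAlong ι (Q.map (Subgroup.subtype _)) ⊔ W),
      (g : G) * ι ⟨y, hYS y.2⟩ * (g : G)⁻¹ ∈ ι.range := by
    have hle : preimageAlong ι (Q.map (Subgroup.subtype _)) ⊔ W ≤
        preimageAlong ι (ι.range.comap (MulAut.conj (g : G)).toMonoidHom) := by
      apply sup_le
      · intro x hx
        obtain ⟨hxS, q, hq, hqx⟩ := (mem_preimageAlong _ _ _).mp hx
        refine (mem_preimageAlong _ _ _).mpr ⟨hxS, ?_⟩
        show (g : G) * ι ⟨x, hxS⟩ * (g : G)⁻¹ ∈ ι.range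
        rw [← hqx, ← hT]
        exact hQ (hgN q hq)
      · intro x hx
        refine (mem_preimageAlong _ _ _).mpr ⟨hWS hx, ?_⟩
        show (g : G) * ι ⟨x, hWS hx⟩ * (g : G)⁻¹ ∈ ι.range
        rw [hgW _ ⟨⟨x, hWS hx⟩, hx, rfl⟩]
        exact ⟨_, rfl⟩
    intro y
    obtain ⟨_, h⟩ := (mem_preimageAlong _ _ _).mp (hle y.2)
    exact h
  obtain ⟨c, hc⟩ : ∃ c : ↥(preimageAlong ι (Q.map (Subgroup.subtype _)) ⊔ W) →* ι.range,
      ∀ y, ((c y : ι.range) : G) = (g : G) * ι ⟨y, hYS y.2⟩ * (g : G)⁻¹ :=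
    ⟨((MulAut.conj (g : G)).toMonoidHom.comp (ι.comp (Subgroup.inclusion hYS))).codRestrict
      ι.range hconj, fun y => rfl⟩
  have hφS : ∀ y, ((realInv ι hinj).comp c) y ∈ S := fun y => realInv_mem ι hinj (c y)
  have hφι : ∀ y, ι ⟨((realInv ι hinj).comp c) y, hφS y⟩ =
      (g : G) * ι ⟨y, hYS y.2⟩ * (g : G)⁻¹ := by
    intro y
    rw [← hc y]
    exact apply_realInv ι hinj (c y)
  have hφF : (realInv ι hinj).comp c ∈ F.Hom _ := (hreal.2 _ hYS _ hφS).mpr ⟨g, hφι⟩
  have hφN : (realInv ι hinj).comp c ∈ F.centralizerHom W _ := by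
    refine mem_centralizerHom_of_le F le_sup_right hφF (fun x hx => hSCW (hYS hx))
      (fun y => hSCW (hφS y)) ?_
    intro u
    have h1 := hφι (Subgroup.inclusion le_sup_right u)
    have h0 : (g : G) * ι ⟨((Subgroup.inclusion (le_sup_right :
        W ≤ preimageAlong ι (Q.map (Subgroup.subtype _)) ⊔ W) u : _) : Ω), hYS (Subgroup.inclusion
          (le_sup_right : W ≤ preimageAlong ι (Q.map (Subgroup.subtype _)) ⊔ W) u).2⟩ *
        (g : G)⁻¹ = ι ⟨u, hWS u.2⟩ := hgW _ ⟨⟨u, hWS u.2⟩, u.2, rfl⟩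
    have h2 := hinj (h1.trans h0)
    exact congrArg (fun z : S => (z : Ω)) h2
  obtain ⟨s, hs, hsx⟩ := hW _ _ hφN
  -- `g` acts on `Q` as `ι s`
  have hkey : ∀ q ∈ Q.map (Subgroup.subtype _),
      (g : G) * q * (g : G)⁻¹ = ι ⟨s, hs.1⟩ * q * (ι ⟨s, hs.1⟩)⁻¹ := by
    rintro _ ⟨q, hq, rfl⟩
    have hqT : ((q : _) : G) ∈ ι.range := by
      rw [← hT]
      exact hQ hq
    obtain ⟨x, hx⟩ := hqT
    have hxX : (x : Ω) ∈ preimageAlong ι (Q.map (Subgroup.subtype _)) := by
      refine (mem_preimageAlong _ _ _).mpr ⟨x.2, ?_⟩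
      rw [Subtype.coe_eta, hx]
      exact ⟨q, hq, rfl⟩
    have h1 := hφι ⟨x, Subgroup.mem_sup_left hxX⟩
    have h2 := hsx ⟨x, Subgroup.mem_sup_left hxX⟩
    have h3 : (⟨((realInv ι hinj).comp c) ⟨x, Subgroup.mem_sup_left hxX⟩, hφS _⟩ : S) =
        ⟨s, hs.1⟩ * x * ⟨s, hs.1⟩⁻¹ := Subtype.ext h2
    rw [h3, map_mul, map_mul, map_inv] at h1
    show (g : G) * (q : G) * (g : G)⁻¹ = ι ⟨s, hs.1⟩ * (q : G) * (ι ⟨s, hs.1⟩)⁻¹
    rw [← hx]
    exact h1.symm
  obtain ⟨k, hk⟩ := hS ⟨s, hs.1⟩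
  have hk' : (ι ⟨s, hs.1⟩) ^ (p ^ k) = 1 := by rw [← map_pow, hk, map_one]
  have hgn : (g : G) ^ orderOf g = 1 := by
    have := pow_orderOf_eq_one g
    have h2 : (g : G) ^ orderOf g = ((g ^ orderOf g : _) : G) := (SubmonoidClass.coe_pow g _).symm
    rw [h2, this]
    rfl
  have hmem' : ∀ q ∈ Q.map (Subgroup.subtype _), (g : G) * q * (g : G)⁻¹ ∈
      Q.map (Subgroup.subtype _) := by
    rintro _ ⟨q, hq, rfl⟩
    exact ⟨g * q * g⁻¹, hgN q hq, rfl⟩
  have hfix := conj_eq_self_of_coprime (Q.map (Subgroup.subtype _)) (g : G) (ι ⟨s, hs.1⟩)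
    (orderOf g) k p hgn hk' hcop hmem' hkey
  rw [Subgroup.mem_centralizer_iff]
  intro q hq
  apply Subtype.ext
  have h1 := hfix (q : G) ⟨q, hq, rfl⟩
  show (q : G) * (g : G) = (g : G) * (q : G)
  calc (q : G) * (g : G) = ((g : G) * (q : G) * (g : G)⁻¹) * (g : G) := by rw [h1]
    _ = (g : G) * (q : G) := by group

end Real

end Cfsg.Agent.Helper26.TH
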