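import Mathlib
import Cfsg.Agent.Helper26.TH1
import Cfsg.Agent.Helper26.QdNormalizer
import Cfsg.Agent.Helper26.QdFactorD
import Cfsg.Agent.Helper26.GFBasic
import Cfsg.Agent.Helper25.FusionNC
import Cfsg.Agent.Lead.TNC11
import Cfsg.Agent.S2800
import Cfsg.Agent.S5090

set_option autoImplicit false

/-! Thompson's normal `p`-complement theorem for fusion systems. -/

namespace Cfsg.Agent.Helper26.TH

open Cfsg Cfsg.FusionSystem Cfsg.Agent.Helper25 Cfsg.Agent.Helper26.MasterRed
  Cfsg.Agent.Lead.TNC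

universe u

/-- the functor `P ↦ J_A(P)` -/
def jAFunctor (p : ℕ) [Fact p.Prime] : CharFunctor.{u} p where
  W P := Cfsg.thompsonSubgroupAOf P
  le P := thompsonSubgroupAOf_le P
  map f P hinj := thompsonSubgroupAOf_map_of_injOn f P hinj
  ne_bot := by
    intro G _ _ P hP hne
    haveI : Nontrivial P := (Subgroup.nontrivial_iff_ne_bot P).mpr hne
    have h2 := thompsonSubgroupA_ne_bot (G := P)
    intro h0
    apply h2
    unfold Cfsg.thompsonSubgroupAOf at h0
    rwa [Subgroup.map_eq_bot_iff_of_injective _ P.subtype_injective] at h0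

section Functor

variable {p : ℕ} [Fact p.Prime] (Fc : CharFunctor.{u} p) {Ω : Type u} [Group Ω] (S : Subgroup Ω)

theorem fc_eq_map_top : Fc.W S = (Fc.W (⊤ : Subgroup S)).map S.subtype := by
  have h := Fc.map S.subtype (⊤ : Subgroup S) (S.subtype_injective.injOn)
  rw [← MonoidHom.range_eq_map, Subgroup.range_subtype] at h
  exact h

theorem fc_subgroupOf : (Fc.W S).subgroupOf S = Fc.W (⊤ : Subgroup S) := by
  rw [fc_eq_map_top Fc S]
  exact Subgroup.comap_map_eq_self_of_injective S.subtype_injective _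

theorem fc_map_eq {G : Type u} [Group G] (ι : S →* G) (hinj : Function.Injective ι) :
    ((Fc.W S).subgroupOf S).map ι = Fc.W ι.range := by
  have h := Fc.map ι (⊤ : Subgroup S) hinj.injOn
  rw [← MonoidHom.range_eq_map] at h
  rw [fc_subgroupOf Fc S]
  exact h.symm

theorem fc_le_normalizer : S ≤ Subgroup.normalizer ((Fc.W S : Subgroup Ω) : Set Ω) :=
  Subgroup.le_normalizer.trans (Fc.normalizer_le S)

theorem fc_ne_bot [Finite S] (hS : IsPGroup p S) (hne : S ≠ ⊥) : Fc.W S ≠ ⊥ := by
  have htop : (⊤ : Subgroup S) ≠ ⊥ := by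
    intro h
    apply hne
    rw [eq_bot_iff]
    intro x hx
    have h1 : (⟨x, hx⟩ : S) ∈ (⊤ : Subgroup S) := Subgroup.mem_top _
    rw [h, Subgroup.mem_bot] at h1
    rw [Subgroup.mem_bot]
    exact congrArg (fun z : S => (z : Ω)) h1
  have hp' : IsPGroup p ↥(⊤ : Subgroup S) := hS.to_subgroup ⊤
  have h1 := Fc.ne_bot (⊤ : Subgroup S) hp' htop
  rw [fc_eq_map_top Fc S]
  intro h
  apply h1
  rwa [Subgroup.map_eq_bot_iff_of_injective _ S.subtype_injective] at h

theorem fc_characteristic : ((Fc.W S).subgroupOf S).Characteristic := by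
  rw [fc_subgroupOf Fc S, Subgroup.characteristic_iff_map_eq]
  intro φ
  have h := Fc.map φ.toMonoidHom (⊤ : Subgroup S) φ.injective.injOn
  rw [Subgroup.map_top_of_surjective φ.toMonoidHom φ.surjective] at h
  exact h.symm

end Functor

/-- The freeness predicate of Thompson's theorem. -/
def ThFr (p : ℕ) : ∀ (Ω : Type u) [Group Ω] (S : Subgroup Ω), FusionSystem S → Prop :=
  fun _ _ _ F => p ≠ 2 ∨ F.IsSectionFree p (Equiv.Perm (Fin 4))

/-- The local predicate of Thompson's theorem. -/
def ThH0 : ∀ (Ω : Type u) [Group Ω] (S : Subgroup Ω), FusionSystem S → Prop :=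
  fun Ω _ S F => CInner F (S ⊓ Subgroup.centralizer (S : Set Ω)) ∧
    NInner F (Cfsg.thompsonSubgroupAOf S)

section Main

variable {p : ℕ} [Fact p.Prime] {Ω : Type u} [Group Ω] {S : Subgroup Ω}

theorem le_centralizer_center (S : Subgroup Ω) :
    S ≤ Subgroup.centralizer (((S ⊓ Subgroup.centralizer (S : Set Ω) : Subgroup Ω)) : Set Ω) := by
  intro x hx
  rw [Subgroup.mem_centralizer_iff]
  intro z hz
  have h1 := Subgroup.mem_centralizer_iff.mp hz.2 x hx
  exact h1.symm

theorem thH0_norm (F : FusionSystem S) {U : Subgroup Ω} (hU : U ≤ S)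
    (hSN : S ≤ Subgroup.normalizer (U : Set Ω)) (h : ThH0 Ω S F) :
    ThH0 Ω (normalizerIn S U) (normalizerSystem F U hU) := by
  have hNS : normalizerIn S U = S := le_antisymm inf_le_left (fun x hx => ⟨hx, hSN hx⟩)
  have hZ : normalizerIn S U ⊓ Subgroup.centralizer ((normalizerIn S U : Subgroup Ω) : Set Ω) =
      S ⊓ Subgroup.centralizer (S : Set Ω) := by rw [hNS]
  have hJ : Cfsg.thompsonSubgroupAOf (normalizerIn S U) = Cfsg.thompsonSubgroupAOf S := by
    rw [hNS]
  show CInner (normalizerSystem F U hU)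
      (normalizerIn S U ⊓ Subgroup.centralizer ((normalizerIn S U : Subgroup Ω) : Set Ω)) ∧
    NInner (normalizerSystem F U hU) (Cfsg.thompsonSubgroupAOf (normalizerIn S U))
  rw [hZ, hJ]
  exact ⟨cinner_norm F hSN _ (normalizerSystem_isNormalizerSystem F U hU) h.1,
    ninner_norm F hSN _ (normalizerSystem_isNormalizerSystem F U hU) h.2⟩

/-- The constrained case. -/
theorem inner_of_constrained_th [Finite S] (hS : IsPGroup p S) (F : FusionSystem S)
    (hcon : F.IsConstrained p) (hFr : ThFr p Ω S F) (hH0 : ThH0 Ω S F) : Inner F := by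
  obtain ⟨hF, Q, hQn, hQc⟩ := hcon
  have hQS : Q ≤ S := hQn.1
  have hSN : S ≤ Subgroup.normalizer (Q : Set Ω) := le_normalizer_of_isNormal F hQn
  have hQfn : F.IsFullyNormalized Q := isFullyNormalized_of_normal F hQS hSN
  have hE := normalizerSystem_isNormalizerSystem F Q hQS
  haveI hNfin : Finite (normalizerIn S Q) := finite_of_le inf_le_left
  have hNp : IsPGroup p (normalizerIn S Q) := isPGroup_of_le hS inf_le_left
  have hEcon := (normalizerSystem_isConstrained p hS F hF Q hQfn hQc _ hE).1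
  obtain ⟨G, hG, ι, hM⟩ := Cfsg.Agent.S5090.result p hNp (normalizerSystem F Q hQS) hEcon
  have hfree : p ≠ 2 ∨ ¬ Cfsg.Involves (Equiv.Perm (Fin 4)) G := by
    rcases hFr with h | h
    · exact Or.inl h
    · exact Or.inr (h Q hQfn hQc _ hE G ι hM)
  obtain ⟨hfin, hreal, ⟨T, hT⟩, hC⟩ := hM
  have hE0 := thH0_norm F hQS hSN hH0
  -- the two local subgroups of `G`
  have hnpcC := npc_centralizer_of_cinner hNp _ ι hreal T hT
    ((zFunctor.{u} p).le (normalizerIn S Q)) (le_centralizer_center _) hE0.1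
  have heC : Subgroup.centralizer
      ((((((zFunctor.{u} p).W (normalizerIn S Q)).subgroupOf (normalizerIn S Q)).map ι :
        Subgroup G)) : Set G) =
      Subgroup.centralizer ((((T : Subgroup G) ⊓ Subgroup.centralizer ((T : Subgroup G) : Set G) :
        Subgroup G)) : Set G) := by
    rw [fc_map_eq (zFunctor.{u} p) _ ι hreal.1, hT]
    rfl
  have hnpcC' := npc_of_eq heC hnpcC
  have hnpcN := npc_normalizer_of_ninner hNp _ ι hreal T hT
    ((jAFunctor.{u} p).le (normalizerIn S Q)) (fc_le_normalizer (jAFunctor.{u} p) _) hE0.2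
  have heN : Subgroup.normalizer
      ((((((jAFunctor.{u} p).W (normalizerIn S Q)).subgroupOf (normalizerIn S Q)).map ι :
        Subgroup G)) : Set G) =
      Subgroup.normalizer ((Cfsg.thompsonSubgroupAOf (T : Subgroup G) : Subgroup G) : Set G) := by
    rw [fc_map_eq (jAFunctor.{u} p) _ ι hreal.1, hT]
    rfl
  have hnpcN' := npc_of_eq heN hnpcN
  have hnpc := Cfsg.Agent.S2800.result T hfree hnpcC' hnpcN'
  have hpG : IsPGroup p G := isPGroup_of_npc hnpc hC
  have hTtop : (⊤ : Subgroup G) = (T : Subgroup G) :=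
    T.is_maximal' (hpG.to_subgroup ⊤) le_top
  have hsurj : Function.Surjective ι := by
    rw [← MonoidHom.range_eq_top, ← hT, hTtop]
  have hEin : Inner (normalizerSystem F Q hQS) := inner_of_realized_surjective _ ι hreal hsurj
  have hNI : NInner F Q := (ninner_iff F Q _ hE).mp hEin
  intro P φ hφ
  obtain ⟨g, hg, hx⟩ := hNI P φ (Cfsg.Agent.Helper26.GF.mem_normalizerHom_of_isNormal F hQn hφ)
  exact ⟨g, hg.1, hx⟩

end Main

/-- The hypotheses of the reduction theorem for Thompson's criterion. -/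
theorem redHyp_th (p : ℕ) [Fact p.Prime] : RedHyp.{u} p (ThFr.{u} p) ThH0.{u} where
  fr_norm := by
    intro Ω _ S _ hS F hF Q hQ h
    rcases h with h | h
    · exact Or.inl h
    · exact Or.inr (Cfsg.Agent.Helper26.Embed.sectionFree_normalizer p hS F hF h Q hQ _
        (normalizerSystem_isNormalizerSystem F Q hQ.1))
  fr_factor := by
    intro Ω _ S _ hS F hF Q hQ Ω' _ S' θ F' hfs h
    rcases h with h | h
    · exact Or.inl h
    · exact Or.inr (Cfsg.Agent.Helper26.QdFactor.sectionFree_factor p hS F hF Q hQ h θ F' hfs)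
  h0_norm := by
    intro Ω _ S _ hS F hF U hU hSN _ h
    exact thH0_norm F hU hSN h
  h0_char := by
    intro Ω _ S _ hS F hF hne _ h
    refine ⟨cinner_of_ninner F (le_centralizer_center S)
      (h _ ((zFunctor.{u} p).le S) (fc_ne_bot (zFunctor.{u} p) S hS hne)
        (fc_characteristic (zFunctor.{u} p) S)),
      h _ ((jAFunctor.{u} p).le S) (fc_ne_bot (jAFunctor.{u} p) S hS hne)
        (fc_characteristic (jAFunctor.{u} p) S)⟩
  constrained := by
    intro Ω _ S _ hS F hcon hFr h
    exact inner_of_constrained_th hS F hcon hFr h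

/-- **Thompson's normal `p`-complement theorem for fusion systems.** -/
theorem inner_of_thompson {p : ℕ} [Fact p.Prime] {Ω : Type u} [Group Ω]
    {S : Subgroup Ω} [Finite S] (hS : IsPGroup p S) (F : FusionSystem S) (hF : F.IsSaturated p)
    (hp : p ≠ 2 ∨ F.IsSectionFree p (Equiv.Perm (Fin 4)))
    (hC : CInner F (S ⊓ Subgroup.centralizer (S : Set Ω)))
    (hN : NInner F (Cfsg.thompsonSubgroupAOf S)) : Inner F :=
  master (redHyp_th.{u} p) (Nat.card S) Ω S rfl hS F hF hp ⟨hC, hN⟩

end Cfsg.Agent.Helper26.TH
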