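import Mathlib
import Cfsg.Agent.Helper26.GJ1
import Cfsg.Agent.Helper26.WCW
import Cfsg.Agent.Helper26.CF1
import Cfsg.Agent.Helper9.ThompsonS4
import Cfsg.Agent.Helper10.KInfWC

set_option autoImplicit false
set_option linter.unusedSectionVars false
set_option linter.unusedVariables false

/-! # `J_A` controls weak closure of elements for odd `p` (Glauberman) -/

namespace Cfsg.Agent.Helper26.GJ

open Cfsg Subgroup Cfsg.Agent.Helper26 Cfsg.Agent.Helper14 Cfsg.Agent.Helper10
open scoped commutatorElement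

universe u

section Engel

variable {G : Type*} [Group G]

theorem conj_mem_inf_centralizer {Q : Subgroup G} {k z : G} (hk : k ∈ normalizer (Q : Set G))
    (hz : z ∈ Q ⊓ centralizer (Q : Set G)) : k * z * k⁻¹ ∈ Q ⊓ centralizer (Q : Set G) := by
  refine ⟨(mem_normalizer_iff.mp hk z).mp hz.1, ?_⟩
  apply mem_centralizer_iff.mpr
  intro q hq
  have hq' : k⁻¹ * q * k ∈ Q := by
    have := (mem_normalizer_iff.mp (inv_mem hk) q).mp hq
    simpa using this
  have := mem_centralizer_iff.mp hz.2 _ hq'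
  calc q * (k * z * k⁻¹) = k * ((k⁻¹ * q * k) * z) * k⁻¹ := by group
    _ = k * (z * (k⁻¹ * q * k)) * k⁻¹ := by rw [this]
    _ = k * z * k⁻¹ * q := by group

theorem commutator_le_of_normalizes {B Y K : Subgroup G} (hY : Y ≤ B)
    (hK : ∀ k ∈ K, ∀ z ∈ B, k * z * k⁻¹ ∈ B) : ⁅Y, K⁆ ≤ B := by
  rw [commutator_le]
  intro y hy k hk
  have : ⁅y, k⁆ = y * (k * y⁻¹ * k⁻¹) := by
    rw [commutatorElement_def]; group
  rw [this]
  exact mul_mem (hY hy) (hK k hk _ (inv_mem (hY hy)))

theorem iterCommutator_le_of_normalizes {B X K : Subgroup G} (hX : X ≤ B)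
    (hK : ∀ k ∈ K, ∀ z ∈ B, k * z * k⁻¹ ∈ B) (n : ℕ) : Cfsg.iterCommutator X K n ≤ B := by
  induction n with
  | zero => exact hX
  | succ n ih => exact commutator_le_of_normalizes ih hK

theorem iterCommutator_add_two (X K : Subgroup G) (n : ℕ) :
    Cfsg.iterCommutator X K (n + 2) = ⁅⁅Cfsg.iterCommutator X K n, K⁆, K⁆ := rfl

/-- the Engel form of the local hypothesis, for odd `p` -/
theorem hloc_engel [Finite G] {p : ℕ} [Fact p.Prime] (hp : p ≠ 2) (H T : Subgroup G) (hTH : T ≤ H)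
    (hTp : IsPGroup p ↥T) (hTi : ¬ p ∣ T.relIndex H)
    (hnn : ¬ H ≤ normalizer ((Cfsg.thompsonSubgroupAOf T : Subgroup G) : Set G)) :
    ∃ g : G, g ∈ T ∧ g ∉ Cfsg.pCoreOf p H ∧ ∀ U V : Subgroup ↥H, Cfsg.IsChiefFactor U V →
      U.map H.subtype ≤ Cfsg.pCoreOf p H ⊓
        centralizer ((Cfsg.pCoreOf p H : Subgroup G) : Set G) →
      Cfsg.iterCommutator (U.map H.subtype) (zpowers g) (p - 1) ≤ V.map H.subtype := by
  obtain ⟨g, hgT, hgQ, hquad⟩ := hloc_quad H T hTH hTp hTi hnn
  refine ⟨g, hgT, hgQ, ?_⟩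
  intro U V _ hUB
  have hp3 : 3 ≤ p := by
    have := (Fact.out : p.Prime).two_le
    omega
  obtain ⟨k, hk⟩ : ∃ k, p - 1 = k + 2 := ⟨p - 3, by omega⟩
  rw [hk, iterCommutator_add_two]
  have hgN : g ∈ normalizer ((Cfsg.pCoreOf p H : Subgroup G) : Set G) :=
    le_normalizer_pCoreOf p H (hTH hgT)
  have hK : ∀ k' ∈ zpowers g, ∀ z ∈ Cfsg.pCoreOf p H ⊓
      centralizer ((Cfsg.pCoreOf p H : Subgroup G) : Set G), k' * z * k'⁻¹ ∈ Cfsg.pCoreOf p H ⊓
      centralizer ((Cfsg.pCoreOf p H : Subgroup G) : Set G) := by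
    intro k' hk' z hz
    have : k' ∈ normalizer ((Cfsg.pCoreOf p H : Subgroup G) : Set G) :=
      (zpowers_le.mpr hgN) hk'
    exact conj_mem_inf_centralizer this hz
  have h1 := iterCommutator_le_of_normalizes hUB hK k
  have h2 : ⁅⁅Cfsg.iterCommutator (U.map H.subtype) (zpowers g) k, zpowers g⁆, zpowers g⁆ ≤ ⊥ := by
    rw [← hquad]
    exact commutator_mono (commutator_mono h1 le_rfl) le_rfl
  exact h2.trans bot_le

end Engel

section Functor

variable {p : ℕ} [Fact p.Prime]

/-- the functor `J_A` on types -/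
def Wj : ∀ (Q : Type u) [Group Q], Subgroup Q := fun (Q : Type u) [Group Q] => Cfsg.thompsonSubgroupA Q

theorem inducedFunctor_Wj {G : Type u} [Group G] (P : Subgroup G) :
    Cfsg.inducedFunctor Wj.{u} P = Cfsg.thompsonSubgroupAOf P := rfl

/-- **Glauberman**: for odd `p`, an element of a Sylow `p`-subgroup `T` of `H` centralized by
`N_H(J(T))` is weakly closed in `T` with respect to `H`. -/
theorem weakly_closed_of_odd {G : Type u} [Group G] [Finite G] (hp : p ≠ 2) (H T : Subgroup G)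
    (hTH : T ≤ H) (hTp : IsPGroup p ↥T) (hTi : ¬ p ∣ T.relIndex H) (x : G)
    (hx : x ∈ T ⊓ centralizer ((H ⊓ normalizer ((Cfsg.thompsonSubgroupAOf T : Subgroup G) : Set G) :
      Subgroup G) : Set G)) (h : G) (hh : h ∈ H) (hhx : h * x * h⁻¹ ∈ T) : h * x * h⁻¹ = x := by
  have hW : Cfsg.IsConjugacyFunctor p (Cfsg.inducedFunctor (G := G) Wj.{u}) :=
    iF_isConjugacyFunctor (Cfsg.Agent.Helper9.TS4.isCharPFunctor_thompsonA (p := p))
  have hWZ : ∀ P : Subgroup G, IsPGroup p ↥P →
      P ⊓ centralizer ((P : Subgroup G) : Set G) ≤ Cfsg.inducedFunctor Wj.{u} P := by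
    intro P _
    exact Cfsg.Agent.Helper26.CF.center_le_thompsonSubgroupAOf P
  exact wc_elt_rel (Cfsg.inducedFunctor (G := G) Wj.{u}) hW hWZ
    (fun H T hTH hTp hTi hnn => hloc_engel hp H T hTH hTp hTi hnn) _ H T rfl hTH hTp hTi x hx h hh hhx

/-- the hypotheses of the fusion-system theorem on control of weak closure, for `J_A`, `p` odd -/
theorem whyp_Wj (hp : p ≠ 2) : Cfsg.Agent.Helper26.WC.WHyp.{u} p Wj.{u} where
  hW1 := (Cfsg.Agent.Helper9.TS4.isCharPFunctor_thompsonA (p := p)).1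
  hW2 := (Cfsg.Agent.Helper9.TS4.isCharPFunctor_thompsonA (p := p)).2
  hWZ := fun Q _ _ _ => Cfsg.Agent.Helper26.CF.center_le_thompsonSubgroupA Q
  hC := by
    intro G _ _ P
    set N := normalizer ((Cfsg.Agent.Helper26.WC.Wup Wj.{u} (P : Subgroup G) : Subgroup G) : Set G)
      with hN
    apply le_antisymm
    · rintro x ⟨hxQ, hxZ⟩
      refine ⟨hxQ, ?_⟩
      have hxN : x ∈ N := by
        rw [hN, mem_normalizer_iff]
        intro y
        have := mem_center_iff.mp hxZ
        constructor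
        · intro hy
          have e : x * y * x⁻¹ = y := by rw [← this y]; group
          rw [e]; exact hy
        · intro hy
          have e : x * y * x⁻¹ = y := by rw [← this y]; group
          rw [e] at hy; exact hy
      refine ⟨⟨x, hxN⟩, ?_, rfl⟩
      apply mem_center_iff.mpr
      intro z
      apply Subtype.ext
      exact mem_center_iff.mp hxZ z
    · rintro x ⟨hxQ, ⟨⟨x', hx'N⟩, hx'Z, rfl⟩⟩
      refine ⟨hxQ, ?_⟩
      have hxP : x' ∈ (P : Subgroup G) := pCore_le_sylow p P (show x' ∈ pCore p G from hxQ)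
      have hcen : x' ∈ (P : Subgroup G) ⊓ centralizer (((⊤ : Subgroup G) ⊓
          normalizer ((Cfsg.thompsonSubgroupAOf (P : Subgroup G) : Subgroup G) : Set G) :
          Subgroup G) : Set G) := by
        refine ⟨hxP, ?_⟩
        apply mem_centralizer_iff.mpr
        intro n hn
        have hnN : n ∈ N := hn.2
        have := mem_center_iff.mp hx'Z ⟨n, hnN⟩
        exact congrArg Subtype.val this
      have hPi : ¬ p ∣ (P : Subgroup G).relIndex ⊤ := by
        rw [relIndex_top_right]; exact P.not_dvd_index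
      apply mem_center_iff.mpr
      intro g
      show g * x' = x' * g
      have hxQ' : x' ∈ pCore p G := hxQ
      have hgx : g * x' * g⁻¹ ∈ (P : Subgroup G) := by
        apply pCore_le_sylow p P
        exact (pCore_normal (G := G) p).conj_mem x' hxQ' g
      have := weakly_closed_of_odd hp ⊤ (P : Subgroup G) le_top P.2 hPi x' hcen g (mem_top g) hgx
      calc g * x' = (g * x' * g⁻¹) * g := by group
        _ = x' * g := by rw [this]

end Functor

end Cfsg.Agent.Helper26.GJ
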