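import Mathlib
import Cfsg.Prelude.Def_Characters
import Cfsg.Agent.Helper24.QP889Defs
import Cfsg.Agent.Helper24.ProjLift
import Cfsg.Agent.Helper24.MinNormalLinear

set_option autoImplicit false
set_option linter.unusedSectionVars false

/-!
# S0889 piece LIFT: the lift package (central extension in which an invariant irreducible
character of a normal subgroup extends)
-/

namespace Cfsg.Agent.QP889

open Cfsg Cfsg.Agent.Helper24
open scoped ComplexConjugate

universe u

/-- an extension of a solvable group by a central kernel is solvable -/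
theorem lift_solvable_of_central {G Γ : Type*} [Group G] [Group Γ] [Group.IsSolvable G]
    (p : Γ →* G) (hker : p.ker ≤ Subgroup.center Γ) : Group.IsSolvable Γ := by
  have hk : Group.IsSolvable p.ker := by
    apply Group.isSolvable_of_comm
    intro a b
    apply Subtype.ext
    have := Subgroup.mem_center_iff.mp (hker a.2) (b : Γ)
    rw [Subgroup.coe_mul, Subgroup.coe_mul]
    exact this.symm
  exact Group.isSolvable_of_ker_le_range p.ker.subtype p (by rw [Subgroup.range_subtype])

theorem exists_lift {G : Type u} [Group G] [Fintype G] [Group.IsSolvable G]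
    (N : Subgroup G) [hN : N.Normal] (ν : N → ℂ) (hν : IsIrrCharacter N ν)
    (hinv : ∀ (g : G) (n : N), ν ⟨g * n * g⁻¹, hN.conj_mem n n.2 g⟩ = ν n) :
    ∃ (Γ : Type u) (_ : Group Γ) (_ : Fintype Γ) (p : Γ →* G) (ι : N →* Γ) (ρ : Γ → ℂ),
      Group.IsSolvable Γ ∧ Function.Surjective p ∧ p.ker ≤ Subgroup.center Γ ∧
      (∀ n : N, p (ι n) = n) ∧ ι.range.Normal ∧ IsIrrCharacter Γ ρ ∧
      ∀ n : N, ρ (ι n) = ν n := by
  classical
  obtain ⟨d, Y, hY, hYν⟩ := hν
  have := hY
  subst hYν
  obtain ⟨k, hkdef⟩ : ∃ k : ℕ, k = Nat.card N := ⟨_, rfl⟩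
  have hk : ∀ n : N, n ^ k = 1 := fun n => by rw [hkdef]; exact pow_card_eq_one'
  have hkpos : 0 < k := by rw [hkdef]; exact Nat.card_pos
  have hfin : Finite (liftGroup N (MonoidHom.toHomUnits Y) k) := finite_liftGroup N Y k hkpos
  have hp : Function.Surjective (liftProj N (MonoidHom.toHomUnits Y) k) :=
    liftProj_surjective N Y k hinv
  have hcen := ker_liftProj_le_center N Y k
  have hNn : (liftIncl N Y k hk).range.Normal := liftIncl_range_normal N Y k hk
  have hft : Fintype (liftGroup N (MonoidHom.toHomUnits Y) k) := Fintype.ofFinite _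
  have hπirr : IsIrrCharacter (liftGroup N (MonoidHom.toHomUnits Y) k)
      (liftRep N Y k).character := by
    have : Fintype N := Fintype.ofFinite _
    refine isIrrCharacter_of_comp_irr (liftIncl N Y k hk) ⟨d, liftRep N Y k, rfl⟩ ?_
    exact ⟨d, Y, hY, rfl⟩
  refine ⟨↥(liftGroup N (MonoidHom.toHomUnits Y) k), inferInstance, hft,
    liftProj N (MonoidHom.toHomUnits Y) k, liftIncl N Y k hk, (liftRep N Y k).character,
    lift_solvable_of_central _ hcen, hp, hcen, ?_, hNn, hπirr, ?_⟩
  · intro n
    rfl
  · intro n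
    rfl

end Cfsg.Agent.QP889
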