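import Mathlib
import Cfsg.Prelude.Def_Characters
import Cfsg.Agent.Helper24.QP889Defs
import Cfsg.Agent.Helper24.QP889ISOM
import Cfsg.Agent.Helper24.Gallagher
import Cfsg.Agent.Helper24.MinNormalLinear
import Cfsg.Agent.Helper8.CharComp

set_option autoImplicit false
set_option linter.unusedSectionVars false

/-!
# S0889 piece QPT: relative quasi-primitivity passes from `χ = ρ β` to `β`
-/

namespace Cfsg.Agent.QP889

open Cfsg Cfsg.Agent.Helper24
open scoped ComplexConjugate

universe u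

/-- the restriction of `ρ` to a subgroup `B ≥ A` is irreducible when `ρ_A` is -/
theorem qpt_irr_restrict {Γ : Type u} [Group Γ] [Fintype Γ] (A B : Subgroup Γ) (hAB : A ≤ B)
    (ρ : Γ → ℂ) (hρ : IsCharacter Γ ρ) (hρA : IsIrrCharacter A (fun a : A => ρ a)) :
    IsIrrCharacter B (fun b : B => ρ b) := by
  classical
  have hchar : IsCharacter B (fun b : B => ρ b) := Helper8.isCharacter_restrict B hρ
  exact isIrrCharacter_of_comp_irr (Subgroup.inclusion hAB) hchar hρA

/-- the restriction of `ρ_B` to `A.subgroupOf B` is irreducible when `ρ_A` is -/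
theorem qpt_irr_subgroupOf {Γ : Type u} [Group Γ] [Fintype Γ] (A B : Subgroup Γ) (hAB : A ≤ B)
    (ρ : Γ → ℂ) (hρA : IsIrrCharacter A (fun a : A => ρ a)) :
    IsIrrCharacter (A.subgroupOf B) (fun a : A.subgroupOf B => ρ ((a : B) : Γ)) := by
  have h := Helper8.isIrrCharacter_comp_surjective
    (Subgroup.subgroupOfEquivOfLe hAB).toMonoidHom (Subgroup.subgroupOfEquivOfLe hAB).surjective hρA
  exact h

theorem qprel_factor {Γ : Type u} [Group Γ] [Fintype Γ] (A : Subgroup Γ) [A.Normal]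
    (ρ χ β : Γ → ℂ) (hρ : IsIrrCharacter Γ ρ) (hρA : IsIrrCharacter A (fun a : A => ρ a))
    (hχ : IsIrrCharacter Γ χ) (hβ : IsIrrCharacter Γ β) (hβA : InvOn A β)
    (hfac : ∀ g, χ g = ρ g * β g) (hqp : QPrel A χ) : QPrel A β := by
  classical
  intro B hBn hAB
  obtain ⟨σ, e, hσ, hχB⟩ := hqp B hBn hAB
  -- numerics
  obtain ⟨nχ, hnχpos, hnχ⟩ := isIrrCharacter_one hχ
  obtain ⟨nβ, hnβpos, hnβ⟩ := isIrrCharacter_one hβ
  have he0 : e ≠ 0 := by
    rintro rfl
    have h1 := congrFun hχB 1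
    simp only [Pi.smul_apply, Nat.cast_zero, zero_smul, Subgroup.coe_one] at h1
    rw [hnχ] at h1
    have : (nχ : ℂ) ≠ 0 := by exact_mod_cast hnχpos.ne'
    exact this h1
  have heC : (e : ℂ) ≠ 0 := by exact_mod_cast he0
  -- the group `B` and its normal subgroup `A' = A ⊓ B = A`
  have hA'n : (A.subgroupOf B).Normal := inferInstance
  have hρB : IsIrrCharacter B (fun b : B => ρ b) :=
    qpt_irr_restrict A B hAB ρ (IsIrrCharacter.isCharacter hρ) hρA
  have hρA' : IsIrrCharacter (A.subgroupOf B)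
      (fun a : A.subgroupOf B => (fun b : B => ρ b) a) := qpt_irr_subgroupOf A B hAB ρ hρA
  -- `β` is constant `β 1` on `A`
  have hβa : ∀ a : Γ, a ∈ A → β a = β 1 := by
    intro a ha
    have := hβA a ha 1
    rwa [mul_one] at this
  -- `σ` on `A'` is `(β 1 / e) ρ`
  have hσA : ∀ a : A.subgroupOf B, σ a = ((nβ : ℂ) / e) * ρ ((a : B) : Γ) := by
    intro a
    have h1 := congrFun hχB (a : B)
    simp only [Pi.smul_apply, smul_eq_mul] at h1
    rw [hfac, hβa _ (Subgroup.mem_subgroupOf.mp a.2), hnβ] at h1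
    field_simp
    linear_combination -h1
  have hinner : classInner (fun a : A.subgroupOf B => σ a)
      (fun a : A.subgroupOf B => (fun b : B => ρ b) a) ≠ 0 := by
    have h2 : (fun a : A.subgroupOf B => σ a) =
        ((nβ : ℂ) / e) • (fun a : A.subgroupOf B => (fun b : B => ρ b) a) := by
      funext a
      simp only [Pi.smul_apply, smul_eq_mul]
      exact hσA a
    rw [h2, classInner_smul_left]
    have h3 := classInner_irr_self (⟨_, hρA'⟩ : IrrCharacter (A.subgroupOf B))
    simp only at h3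
    rw [h3, mul_one]
    have : (nβ : ℂ) ≠ 0 := by exact_mod_cast hnβpos.ne'
    exact div_ne_zero this heC
  obtain ⟨γ', hγ'⟩ := exists_gallagherTwist_eq (A.subgroupOf B) (⟨_, hρB⟩ : IrrCharacter B) hρA'
    (⟨σ, hσ⟩ : IrrCharacter B) hinner
  -- `γ` the inflation of `γ'`
  have hγirr : IsIrrCharacter B (fun b : B => (γ' : B ⧸ A.subgroupOf B → ℂ) (b : B ⧸ A.subgroupOf B)) :=
    Helper8.isIrrCharacter_comp_surjective (QuotientGroup.mk' (A.subgroupOf B))
      (QuotientGroup.mk'_surjective _) γ'.2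
  refine ⟨fun b : B => (γ' : B ⧸ A.subgroupOf B → ℂ) (b : B ⧸ A.subgroupOf B), e, hγirr, ?_⟩
  -- cancellation
  have hσeq : ∀ b : B, σ b = (γ' : B ⧸ A.subgroupOf B → ℂ) (b : B ⧸ A.subgroupOf B) * ρ b := by
    intro b
    have := congrFun hγ' b
    simpa [gallagherTwist] using this
  have hinv1 : InvOn (A.subgroupOf B) (fun b : B => β b) := by
    intro a ha b
    simp only [Subgroup.coe_mul]
    exact hβA _ (Subgroup.mem_subgroupOf.mp ha) _
  have hinv2 : InvOn (A.subgroupOf B)
      ((e : ℂ) • fun b : B => (γ' : B ⧸ A.subgroupOf B → ℂ) (b : B ⧸ A.subgroupOf B)) := by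
    intro a ha b
    simp only [Pi.smul_apply, smul_eq_mul]
    congr 1
    rw [QuotientGroup.mk_mul, (QuotientGroup.eq_one_iff a).mpr ha, one_mul]
  refine eq_of_mul_eq (A.subgroupOf B) (fun b : B => ρ b) hρB hρA' _ _ hinv1 hinv2 ?_
  intro b
  have h1 := congrFun hχB b
  simp only [Pi.smul_apply, smul_eq_mul] at h1 ⊢
  rw [← hfac, h1, hσeq]
  ring

end Cfsg.Agent.QP889
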