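import Mathlib

set_option autoImplicit false

/-! S5958, piece GROUP: the spans of the fibres of a grouping of a basis. -/

namespace Cfsg.Agent.S5958P

/-- GROUP: grouping a basis -/
theorem group_basis {F V ι κ : Type*} [Field F] [AddCommGroup V] [Module F V] [Finite ι]
    (b : Module.Basis ι F V) (g : ι → κ) :
    iSupIndep (fun k : κ => Submodule.span F (b '' {i | g i = k})) ∧
    (⨆ k : κ, Submodule.span F (b '' {i | g i = k})) = ⊤ ∧
    (∀ k : κ, Module.finrank F (Submodule.span F (b '' {i | g i = k})) = Nat.card {i // g i = k}) ∧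
    (∀ (f : Module.End F V) (σ : Equiv.Perm ι) (π : Equiv.Perm κ) (c : ι → F), (∀ i, c i ≠ 0) →
      (∀ i, f (b i) = c i • b (σ i)) → (∀ i, g (σ i) = π (g i)) →
      ∀ k : κ, (Submodule.span F (b '' {i | g i = k})).map f =
        Submodule.span F (b '' {i | g i = π k})) := by
  refine ⟨?_, ?_, ?_, ?_⟩
  · intro k
    have hle : (⨆ j, ⨆ (_ : j ≠ k), Submodule.span F (b '' {i | g i = j})) ≤
        Submodule.span F (b '' {i | g i ≠ k}) := by
      refine iSup₂_le fun j hj => Submodule.span_mono (Set.image_mono ?_)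
      intro i hi
      have hi' : g i = j := hi
      show g i ≠ k
      rw [hi']
      exact hj
    refine Disjoint.mono_right hle (b.linearIndependent.disjoint_span_image ?_)
    rw [Set.disjoint_left]
    intro i hi hi'
    exact hi' hi
  · rw [eq_top_iff, ← b.span_eq, Submodule.span_le]
    rintro _ ⟨i, rfl⟩
    exact Submodule.mem_iSup_of_mem (g i) (Submodule.subset_span ⟨i, rfl, rfl⟩)
  · intro k
    have : Fintype {i // g i = k} := Fintype.ofFinite _
    have hli : LinearIndependent F (fun i : {i // g i = k} => b i) :=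
      b.linearIndependent.comp _ Subtype.val_injective
    have hrange : Set.range (fun i : {i // g i = k} => b i) = b '' {i | g i = k} := by
      ext v
      constructor
      · rintro ⟨⟨i, hi⟩, rfl⟩
        exact ⟨i, hi, rfl⟩
      · rintro ⟨i, hi, rfl⟩
        exact ⟨⟨i, hi⟩, rfl⟩
    rw [← hrange, finrank_span_eq_card hli, Nat.card_eq_fintype_card]
  · intro f σ π c hc hf hg k
    rw [Submodule.map_span]
    apply le_antisymm
    · rw [Submodule.span_le]
      rintro _ ⟨_, ⟨i, hi, rfl⟩, rfl⟩
      have hi' : g i = k := hi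
      rw [hf i]
      refine Submodule.smul_mem _ _ (Submodule.subset_span ⟨σ i, ?_, rfl⟩)
      show g (σ i) = π k
      rw [hg i, hi']
    · rw [Submodule.span_le]
      rintro _ ⟨j, hj, rfl⟩
      have hj' : g j = π k := hj
      have hi : g (σ.symm j) = k := by
        apply π.injective
        rw [← hg, Equiv.apply_symm_apply, hj']
      have e1 : b j = (c (σ.symm j))⁻¹ • f (b (σ.symm j)) := by
        rw [hf, Equiv.apply_symm_apply, smul_smul, inv_mul_cancel₀ (hc _), one_smul]
      rw [SetLike.mem_coe, e1]
      exact Submodule.smul_mem _ _ (Submodule.subset_span ⟨b (σ.symm j), ⟨σ.symm j, hi, rfl⟩, rfl⟩)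

end Cfsg.Agent.S5958P
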