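import Mathlib

/-! S5165 piece CONJ (driver helper25): elements of prime order `p` of `Perm Y` with the same cycle type are conjugate
under the alternating group when `p ^ 2 ≤ card Y` (the centralizer contains an odd permutation:
`Equiv.Perm.centralizer_le_alternating_iff`). -/

set_option autoImplicit false

namespace Cfsg.Agent.S5165P

open Equiv

theorem CONJ.exists_alt_conj {Y : Type} [Fintype Y] [DecidableEq Y] (p : ℕ) [Fact p.Prime]
    (hY : p ^ 2 ≤ Fintype.card Y) (x y : Perm Y) (hx : orderOf x = p)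
    (hxy : x.cycleType = y.cycleType) : ∃ g ∈ alternatingGroup Y, g * x * g⁻¹ = y := by
  have hp : p.Prime := Fact.out
  obtain ⟨g₁, hg₁⟩ := isConj_iff.1 (Equiv.Perm.isConj_iff_cycleType_eq.2 hxy)
  by_cases hs : g₁ ∈ alternatingGroup Y
  · exact ⟨g₁, hs, hg₁⟩
  · -- an odd element of the centralizer
    have hnot : ¬ Subgroup.centralizer {x} ≤ alternatingGroup Y := by
      intro hle
      obtain ⟨_, hcard, hcount⟩ := Equiv.Perm.centralizer_le_alternating_iff.1 hle
      obtain ⟨k, hk⟩ := Equiv.Perm.cycleType_prime_order (σ := x) (by rw [hx]; exact hp)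
      rw [hx] at hk
      have h1 := hcount p
      rw [hk, Multiset.count_replicate_self] at h1
      have hk0 : k = 0 := by omega
      rw [hk, hk0] at hcard
      simp only [zero_add, Multiset.replicate_one, Multiset.sum_singleton] at hcard
      have h2 : 2 ≤ p := hp.two_le
      nlinarith
    obtain ⟨τ, hτc, hτa⟩ := SetLike.not_le_iff_exists.1 hnot
    have hτx : x * τ = τ * x := Subgroup.mem_centralizer_iff.1 hτc x (Set.mem_singleton x)
    have hsτ : Equiv.Perm.sign τ = -1 := by
      rcases Int.units_eq_one_or (Equiv.Perm.sign τ) with h | h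
      · exact absurd (Equiv.Perm.mem_alternatingGroup.2 h) hτa
      · exact h
    have hsg : Equiv.Perm.sign g₁ = -1 := by
      rcases Int.units_eq_one_or (Equiv.Perm.sign g₁) with h | h
      · exact absurd (Equiv.Perm.mem_alternatingGroup.2 h) hs
      · exact h
    refine ⟨g₁ * τ, ?_, ?_⟩
    · rw [Equiv.Perm.mem_alternatingGroup, map_mul, hsτ, hsg]
      rfl
    · rw [← hg₁, mul_inv_rev]
      have e : τ * x * τ⁻¹ = x := by rw [← hτx, mul_inv_cancel_right]
      calc g₁ * τ * x * (τ⁻¹ * g₁⁻¹) = g₁ * (τ * x * τ⁻¹) * g₁⁻¹ := by group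
        _ = g₁ * x * g₁⁻¹ := by rw [e]

end Cfsg.Agent.S5165P

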