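import Mathlib
import Cfsg.Agent.Helper25.S5165.Defs
import Cfsg.Agent.Helper17.S5165IND

/-! S5165 piece GENP (driver helper25): the Sylow `p`-subgroups of the symmetric groups are generated by their
elements of order `p` (induction principle IND; the step: `SQ r Q = Bsub ⊔ Q.map lift`). -/

set_option autoImplicit false
set_option linter.unusedSectionVars false
set_option linter.unusedVariables false

namespace Cfsg.Agent.S5165P

open Equiv

namespace GENP

/-- the property: generated by the elements of order `p` -/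
def GenP (p : ℕ) {G : Type*} [Group G] (P : Subgroup G) : Prop :=
  P = Subgroup.closure {x | x ∈ P ∧ orderOf x = p}

theorem genP_iff (p : ℕ) {G : Type*} [Group G] (P : Subgroup G) :
    GenP p P ↔ P ≤ Subgroup.closure {x | x ∈ P ∧ orderOf x = p} := by
  constructor
  · intro h
    exact le_of_eq h
  · intro h
    exact le_antisymm h ((Subgroup.closure_le P).2 (fun x hx => hx.1))

/-- transport along an injective homomorphism -/
theorem genP_map (p : ℕ) {G H : Type*} [Group G] [Group H] (φ : G →* H)
    (hφ : Function.Injective φ) {P : Subgroup G} (hP : GenP p P) : GenP p (P.map φ) := by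
  rw [genP_iff]
  have h1 : P.map φ = Subgroup.closure (φ '' {x | x ∈ P ∧ orderOf x = p}) := by
    conv_lhs => rw [hP]
    exact MonoidHom.map_closure φ _
  have h2 : Subgroup.closure (φ '' {x | x ∈ P ∧ orderOf x = p}) ≤
      Subgroup.closure {x | x ∈ P.map φ ∧ orderOf x = p} := by
    apply Subgroup.closure_mono
    rintro _ ⟨x, ⟨hxP, hxo⟩, rfl⟩
    exact ⟨Subgroup.mem_map_of_mem φ hxP, by rw [orderOf_injective φ hφ, hxo]⟩
  exact h1.le.trans h2

theorem genP_bot (p : ℕ) {G : Type*} [Group G] : GenP p (⊥ : Subgroup G) := by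
  rw [genP_iff]
  exact bot_le

section model

variable {p : ℕ} [Fact p.Prime] {I : Type} [Fintype I] [DecidableEq I] {r : ℕ}

theorem base_pow_p' (f : I → ZMod p) : base (r := r) f ^ p = 1 := by
  have h1 : base (r := r) f = baseHom (Multiplicative.ofAdd f) := rfl
  rw [h1, ← map_pow, ← ofAdd_nsmul]
  have h2 : p • f = 0 := by
    funext i
    simp
  rw [h2, ofAdd_zero, map_one]

theorem lift_injective' : Function.Injective (lift (p := p) (r := r) : Perm I → Perm (X p I r)) := by
  intro σ τ h
  ext i
  have h1 := congrArg (fun g : Perm (X p I r) => g (Sum.inl (i, 0))) h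
  simp only [lift_inl, Sum.inl.injEq, Prod.mk.injEq, and_true] at h1
  exact h1

theorem genP_SQ {Q : Subgroup (Perm I)} (hQ : GenP p Q) : GenP p (SQ (p := p) r Q) := by
  have hp : p.Prime := Fact.out
  rw [genP_iff]
  unfold SQ
  rw [sup_le_iff]
  constructor
  · intro g hg
    obtain ⟨f, rfl⟩ := mem_Bsub.1 hg
    by_cases h1 : base (r := r) f = 1
    · rw [h1]
      exact Subgroup.one_mem _
    · apply Subgroup.subset_closure
      refine ⟨Subgroup.mem_sup_left hg, ?_⟩
      exact orderOf_eq_prime (base_pow_p' f) h1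
  · have h2 := genP_map p (lift (p := p) (r := r)) lift_injective' hQ
    rw [genP_iff] at h2
    refine h2.trans (Subgroup.closure_mono ?_)
    rintro x ⟨hx, hxo⟩
    exact ⟨Subgroup.mem_sup_right hx, hxo⟩

end model

end GENP

theorem GENP.eq_closure (p : ℕ) [Fact p.Prime] (Y : Type) [Fintype Y] [DecidableEq Y]
    (P : Sylow p (Perm Y)) :
    (P : Subgroup (Perm Y)) = Subgroup.closure {x | x ∈ (P : Subgroup (Perm Y)) ∧ orderOf x = p} := by
  refine IND.sylow_induction p (fun Y _ _ P => GENP.GenP p P) ?_ ?_ ?_ ?_ Y P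
  · intro Y _ _ P g hP
    exact GENP.genP_map p _ (MulAut.conj g).injective hP
  · intro Y Z _ _ _ _ e P hP
    exact GENP.genP_map p _ (Equiv.permCongrHom e).injective hP
  · intro Y _ _ _
    exact GENP.genP_bot p
  · intro m r _ _ Q hQ
    exact GENP.genP_SQ hQ

end Cfsg.Agent.S5165P
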