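import Cfsg.Agent.Helper26.SchurE

set_option autoImplicit false
set_option linter.unusedSectionVars false
set_option linter.unnecessarySimpa false

/-!
Burnside–Schur theorem, concrete part: a primitive permutation group containing a regular
cyclic subgroup of composite order is doubly transitive.
-/

namespace Cfsg.Agent.Helper26.Schur

open scoped Pointwise
open MulAction

variable {G Ω : Type*} [Group G] [MulAction G Ω] {H : Type*} [CommGroup H]
  (ι : H →* G) (ω₀ : Ω) (hbij : Function.Bijective fun h : H => ι h • ω₀)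

/-- The bijection `H ≃ Ω`. -/
noncomputable def regEquiv : H ≃ Ω := Equiv.ofBijective _ hbij

theorem regEquiv_apply (h : H) : regEquiv ι ω₀ hbij h = ι h • ω₀ := rfl

theorem regEquiv_mul (h z : H) : regEquiv ι ω₀ hbij (h * z) = ι h • regEquiv ι ω₀ hbij z := by
  simp only [regEquiv_apply, map_mul, mul_smul]

theorem regEquiv_one : regEquiv ι ω₀ hbij 1 = ω₀ := by
  simp only [regEquiv_apply, map_one, one_smul]

/-- The action of the point stabilizer transported to `H`. -/
noncomputable def sig : stabilizer G ω₀ →* Equiv.Perm H where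
  toFun u := ((regEquiv ι ω₀ hbij).trans (MulAction.toPerm (u : G))).trans (regEquiv ι ω₀ hbij).symm
  map_one' := by
    ext x
    simp
  map_mul' u v := by
    ext x
    simp [mul_smul]

theorem regEquiv_sig (u : stabilizer G ω₀) (x : H) :
    regEquiv ι ω₀ hbij (sig ι ω₀ hbij u x) = (u : G) • regEquiv ι ω₀ hbij x := by
  simp [sig]

theorem good_sig : Good (sig ι ω₀ hbij) where
  one u := by
    apply (regEquiv ι ω₀ hbij).injective
    rw [regEquiv_sig, regEquiv_one]
    exact u.2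
  F u x := by
    have hmem : (ι (sig ι ω₀ hbij u x))⁻¹ * (u : G) * ι x ∈ stabilizer G ω₀ := by
      rw [mem_stabilizer_iff, mul_smul, mul_smul, inv_smul_eq_iff]
      have := regEquiv_sig ι ω₀ hbij u x
      rw [regEquiv_apply, regEquiv_apply] at this
      exact this.symm
    refine ⟨⟨_, hmem⟩, fun y => ?_⟩
    apply (regEquiv ι ω₀ hbij).injective
    rw [regEquiv_mul, regEquiv_sig, regEquiv_sig, map_inv]
    simp only [regEquiv_apply, map_mul, map_inv, mul_smul, smul_inv_smul]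

include hbij in
/-- Any `g : G` factors through `H` and the stabilizer. -/
theorem exists_factor (g : G) : ∃ (h : H) (u : stabilizer G ω₀), g = ι h * (u : G) := by
  obtain ⟨h, hh⟩ := hbij.2 (g • ω₀)
  simp only at hh
  refine ⟨h, ⟨(ι h)⁻¹ * g, ?_⟩, by simp⟩
  rw [mem_stabilizer_iff, mul_smul, inv_smul_eq_iff, hh]

theorem smul_regEquiv (g : G) : ∃ (h : H) (u : stabilizer G ω₀),
    ∀ y, g • regEquiv ι ω₀ hbij y = regEquiv ι ω₀ hbij (h * sig ι ω₀ hbij u y) := by
  obtain ⟨h, u, rfl⟩ := exists_factor ι ω₀ hbij g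
  refine ⟨h, u, fun y => ?_⟩
  rw [regEquiv_mul, regEquiv_sig, mul_smul]

/-- The image of an invariant subgroup is a block. -/
theorem isBlock_image (L : Subgroup H) (hL : Inv (sig ι ω₀ hbij) (L : Set H)) :
    IsBlock G (regEquiv ι ω₀ hbij '' (L : Set H)) := by
  have key : ∀ (g : G) (a : Ω), a ∈ regEquiv ι ω₀ hbij '' (L : Set H) →
      g • a ∈ regEquiv ι ω₀ hbij '' (L : Set H) →
      g • (regEquiv ι ω₀ hbij '' (L : Set H)) ⊆ regEquiv ι ω₀ hbij '' (L : Set H) := by
    rintro g _ ⟨x, hx, rfl⟩ hgx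
    obtain ⟨h, u, hhu⟩ := smul_regEquiv ι ω₀ hbij g
    rw [hhu x] at hgx
    obtain ⟨x'', hx'', hxe⟩ := hgx
    have hxe' := (regEquiv ι ω₀ hbij).injective hxe
    have hh : h ∈ L := by
      have h1 : sig ι ω₀ hbij u x ∈ L := hL u x hx
      have h2 : h * sig ι ω₀ hbij u x ∈ L := by rw [← hxe']; exact hx''
      exact (Subgroup.mul_mem_cancel_right L h1).1 h2
    rintro _ ⟨_, ⟨y, hy, rfl⟩, rfl⟩
    refine ⟨h * sig ι ω₀ hbij u y, ?_, (hhu y).symm⟩
    exact L.mul_mem hh (hL u y hy)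
  rw [isBlock_iff_smul_eq_of_mem]
  intro g a ha hga
  apply Set.Subset.antisymm (key g a ha hga)
  have h2 := key g⁻¹ (g • a) hga (by rw [inv_smul_smul]; exact ha)
  intro b hb
  have := h2 (Set.smul_mem_smul_set hb)
  rw [Set.mem_smul_set_iff_inv_smul_mem]
  exact this

theorem prim_sig [hprim : IsPreprimitive G Ω] (L : Subgroup H)
    (hL : Inv (sig ι ω₀ hbij) (L : Set H)) : L = ⊥ ∨ L = ⊤ := by
  rcases hprim.isTrivialBlock_of_isBlock (isBlock_image ι ω₀ hbij L hL) with hs | hu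
  · left
    rw [eq_bot_iff]
    intro x hx
    have := hs ⟨x, hx, rfl⟩ ⟨1, L.one_mem, rfl⟩
    exact Subgroup.mem_bot.2 ((regEquiv ι ω₀ hbij).injective this)
  · right
    rw [eq_top_iff]
    intro y _
    have : regEquiv ι ω₀ hbij y ∈ regEquiv ι ω₀ hbij '' (L : Set H) := by rw [hu]; exact Set.mem_univ _
    obtain ⟨x, hx, hxy⟩ := this
    rw [← (regEquiv ι ω₀ hbij).injective hxy]
    exact hx

include ι ω₀ hbij in
/-- Burnside–Schur: a primitive group with a regular cyclic subgroup of composite order is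
doubly transitive. -/
theorem two_transitive_of_regular_cyclic [Finite H] [IsCyclic H] [hprim : IsPreprimitive G Ω]
    (p : ℕ) (hp : p.Prime) (hpn : p ∣ Nat.card H) (hne : Nat.card H ≠ p) :
    IsMultiplyPretransitive G Ω 2 := by
  have habs := schur_abstract (sig ι ω₀ hbij) (good_sig ι ω₀ hbij) p hp hpn hne
    (prim_sig ι ω₀ hbij)
  rw [is_two_pretransitive_iff]
  intro a b c d hab hcd
  obtain ⟨ha, rfl⟩ := (regEquiv ι ω₀ hbij).surjective a
  obtain ⟨hb, rfl⟩ := (regEquiv ι ω₀ hbij).surjective b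
  obtain ⟨hc, rfl⟩ := (regEquiv ι ω₀ hbij).surjective c
  obtain ⟨hd, rfl⟩ := (regEquiv ι ω₀ hbij).surjective d
  have hx : ha⁻¹ * hb ≠ 1 := by
    intro h
    apply hab
    rw [inv_mul_eq_one] at h
    rw [h]
  have hy : hc⁻¹ * hd ≠ 1 := by
    intro h
    apply hcd
    rw [inv_mul_eq_one] at h
    rw [h]
  obtain ⟨u, hu⟩ := habs _ _ hx hy
  refine ⟨ι hc * (u : G) * (ι ha)⁻¹, ?_, ?_⟩
  · rw [mul_smul, mul_smul, regEquiv_apply, inv_smul_smul, regEquiv_apply]
    have : (u : G) • ω₀ = ω₀ := u.2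
    rw [this]
  · have h1 : (ι ha)⁻¹ • regEquiv ι ω₀ hbij hb = regEquiv ι ω₀ hbij (ha⁻¹ * hb) := by
      rw [regEquiv_mul, map_inv]
    rw [mul_smul, mul_smul, h1, ← regEquiv_sig, hu, ← regEquiv_mul, mul_inv_cancel_left]

end Cfsg.Agent.Helper26.Schur
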