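import Mathlib

set_option autoImplicit false

/-! # An operator lemma: `(g-1)^(n(p-1)+1) = 0` and `g^p = 1` imply `p^n (g-1) = 0` -/

namespace Cfsg.Agent.Helper26.AG

open Polynomial

/-- `(1+X)^p = 1 + X^p + p X (1 + X v)` in `ℤ[X]` -/
theorem exists_poly (p : ℕ) (hp : p.Prime) :
    ∃ v : ℤ[X], (1 + X) ^ p = 1 + X ^ p + (p : ℤ[X]) * X * (1 + X * v) := by
  obtain ⟨r, hr⟩ := exists_add_pow_prime_eq hp (1 : ℤ[X]) X
  have h1 : r.coeff 0 = 1 := by
    have h2 := congrArg (fun f : ℤ[X] => f.coeff 1) hr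
    simp only [one_pow, mul_one] at h2
    have h3 : ((1 + X : ℤ[X]) ^ p).coeff 1 = (p : ℤ) := by
      rw [coeff_one_add_X_pow, Nat.choose_one_right]
    have h4 : ((1 : ℤ[X]) + X ^ p + (p : ℤ[X]) * X * r).coeff 1 = (p : ℤ) * r.coeff 0 := by
      have hp1 : p ≠ 1 := hp.ne_one
      have h5 : ((p : ℤ[X]) * X * r) = X * ((p : ℤ[X]) * r) := by ring
      rw [coeff_add, coeff_add, coeff_one, coeff_X_pow, h5, coeff_X_mul, ← C_eq_natCast,
        coeff_C_mul]
      simp [Ne.symm hp1]
    rw [h3, h4] at h2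
    have hp0 : (p : ℤ) ≠ 0 := by exact_mod_cast hp.ne_zero
    have := mul_left_cancel₀ hp0 (by rw [mul_one]; exact h2 : (p : ℤ) * 1 = (p : ℤ) * r.coeff 0)
    exact this.symm
  have h2 : X ∣ r - 1 := by
    rw [X_dvd_iff, coeff_sub, h1, coeff_one_zero, sub_self]
  obtain ⟨v, hv⟩ := h2
  refine ⟨v, ?_⟩
  have : r = 1 + X * v := by rw [← hv]; ring
  rw [hr, this]
  ring

/-- the commutative case -/
theorem comm_ring_lemma {R : Type*} [CommRing R] (p n : ℕ) (hp : p.Prime) (D : R)
    (hD : D ^ (n * (p - 1) + 1) = 0) (h : (1 + D) ^ p = 1) : (p : R) ^ n * D = 0 := by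
  obtain ⟨v, hv⟩ := exists_poly p hp
  have hv' := congrArg (Polynomial.aeval D) hv
  simp only [map_pow, map_add, map_one, aeval_X, map_mul, map_natCast] at hv'
  set w := Polynomial.aeval D v with hw
  have hu : IsUnit (1 + D * w) := by
    apply IsNilpotent.isUnit_one_add
    exact (Commute.all D w).isNilpotent_mul_right ⟨_, hD⟩
  have hrel : (p : R) * D * (1 + D * w) = - D ^ p := by
    rw [h] at hv'
    linear_combination -hv'
  have key : ∀ j : ℕ, j ≤ n → (p : R) ^ j * D ^ ((n - j) * (p - 1) + 1) = 0 := by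
    intro j
    induction j with
    | zero => intro _; rw [pow_zero, one_mul, Nat.sub_zero]; exact hD
    | succ j ih =>
      intro hj
      have ih' := ih (by omega)
      have hp1 : 1 ≤ p := hp.one_lt.le
      have hexp : (n - j) * (p - 1) + 1 = (n - (j + 1)) * (p - 1) + p := by
        have : n - j = (n - (j + 1)) + 1 := by omega
        rw [this, Nat.add_mul, one_mul]
        omega
      have h4 : (p : R) ^ (j + 1) * D ^ ((n - (j + 1)) * (p - 1) + 1) * (1 + D * w) =
          - ((p : R) ^ j * D ^ ((n - j) * (p - 1) + 1)) := by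
        rw [hexp, pow_add D _ p, pow_succ, pow_succ]
        calc (p : R) ^ j * (p : R) * (D ^ ((n - (j + 1)) * (p - 1)) * D) * (1 + D * w)
            = (p : R) ^ j * D ^ ((n - (j + 1)) * (p - 1)) * ((p : R) * D * (1 + D * w)) := by ring
          _ = - ((p : R) ^ j * (D ^ ((n - (j + 1)) * (p - 1)) * D ^ p)) := by rw [hrel]; ring
      rw [ih', neg_zero] at h4
      exact (hu.mul_left_eq_zero).mp h4
  have := key n le_rfl
  rwa [Nat.sub_self, zero_mul, zero_add, pow_one] at this

/-- the general case -/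
theorem ring_lemma {E : Type*} [Ring E] (p n : ℕ) (hp : p.Prime) (D : E)
    (hD : D ^ (n * (p - 1) + 1) = 0) (h : (1 + D) ^ p = 1) : (p : E) ^ n * D = 0 := by
  set I : Ideal ℤ[X] := Ideal.span {X ^ (n * (p - 1) + 1), (1 + X) ^ p - 1} with hI
  have h1 : ((p : ℤ[X] ⧸ I)) ^ n * (Ideal.Quotient.mk I X) = 0 := by
    apply comm_ring_lemma p n hp
    · rw [← map_pow, Ideal.Quotient.eq_zero_iff_mem]
      exact Ideal.subset_span (by simp)
    · have : (1 + Ideal.Quotient.mk I X) ^ p - 1 = 0 := by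
        have h2 : (1 + Ideal.Quotient.mk I X) ^ p - 1 = Ideal.Quotient.mk I ((1 + X) ^ p - 1) := by
          simp
        rw [h2, Ideal.Quotient.eq_zero_iff_mem]
        exact Ideal.subset_span (by simp)
      exact sub_eq_zero.mp this
  have h2 : (p : ℤ[X]) ^ n * X ∈ I := by
    rw [← Ideal.Quotient.eq_zero_iff_mem]
    simpa using h1
  obtain ⟨a, b, hab⟩ := Ideal.mem_span_pair.mp h2
  have h3 := congrArg (Polynomial.aeval D) hab
  simp only [map_add, map_mul, map_pow, aeval_X, map_sub, map_one, map_natCast] at h3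
  rw [hD, h, sub_self, mul_zero, mul_zero, add_zero] at h3
  exact h3.symm

/-- group form: `φ` an endomorphism of an abelian group `A` with `[a, φ; c] = 1` and `φ^p = 1`
fixes all `p^n`-th powers -/
theorem fixes_pow_of_class {A : Type*} [CommGroup A] (φ : A →* A) (p n : ℕ) (hp : p.Prime)
    (hc : ∀ a, ((fun x => φ x * x⁻¹)^[n * (p - 1) + 1]) a = 1) (hφp : ∀ a, (φ^[p]) a = a) :
    ∀ a : A, φ (a ^ (p ^ n)) = a ^ (p ^ n) := by
  set T : AddMonoid.End (Additive A) := MonoidHom.toAdditive φ with hT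
  set D : AddMonoid.End (Additive A) := T - 1 with hDdef
  have hDa : ∀ x : A, D (Additive.ofMul x) = Additive.ofMul (φ x * x⁻¹) := by
    intro x
    show Additive.ofMul (φ x) - Additive.ofMul x = _
    rw [← ofMul_div, div_eq_mul_inv]
  have hDk : ∀ (k : ℕ) (a : A), (D ^ k) (Additive.ofMul a) =
      Additive.ofMul (((fun x => φ x * x⁻¹)^[k]) a) := by
    intro k
    induction k with
    | zero => intro a; rfl
    | succ k ih =>
      intro a
      rw [pow_succ', Function.iterate_succ_apply']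
      show D ((D ^ k) (Additive.ofMul a)) = _
      rw [ih, hDa]
  have hD : D ^ (n * (p - 1) + 1) = 0 := by
    ext a
    have := hDk (n * (p - 1) + 1) (Additive.toMul a)
    rw [hc] at this
    exact this
  have hTk : ∀ (k : ℕ) (a : A), (T ^ k) (Additive.ofMul a) = Additive.ofMul ((φ^[k]) a) := by
    intro k
    induction k with
    | zero => intro a; rfl
    | succ k ih =>
      intro a
      rw [pow_succ', Function.iterate_succ_apply']
      show T ((T ^ k) (Additive.ofMul a)) = _
      rw [ih]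
      rfl
  have hT1 : (1 + D) ^ p = 1 := by
    have : 1 + D = T := by rw [hDdef]; abel
    rw [this]
    ext a
    have := hTk p (Additive.toMul a)
    rw [hφp] at this
    exact this
  have hmain := ring_lemma p n hp D hD hT1
  intro a
  have h2 : ((p : AddMonoid.End (Additive A)) ^ n) = ((p ^ n : ℕ) : AddMonoid.End (Additive A)) := by
    push_cast; rfl
  rw [h2] at hmain
  have h1 : ((p ^ n : ℕ) : AddMonoid.End (Additive A)) (D (Additive.ofMul a)) = 0 :=
    congrArg (fun f : AddMonoid.End (Additive A) => f (Additive.ofMul a)) hmain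
  rw [AddMonoid.End.natCast_apply] at h1
  -- `p^n • (T a - a) = 0`
  have h3 : (p ^ n) • (D (Additive.ofMul a)) = Additive.ofMul ((φ a * a⁻¹) ^ (p ^ n)) := by
    rw [hDa, ofMul_pow]
  have h4 : (φ a * a⁻¹) ^ (p ^ n) = 1 := by
    have : Additive.ofMul ((φ a * a⁻¹) ^ (p ^ n)) = 0 := by rw [← h3]; exact h1
    exact this
  rw [mul_pow, inv_pow, mul_inv_eq_one] at h4
  rw [map_pow]
  exact h4

end Cfsg.Agent.Helper26.AG
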