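import Mathlib
import Cfsg.Prelude.Def_PLocal
import Cfsg.Agent.Helper26.AG1
import Cfsg.Agent.Helper3.SylowSubnormal
import Cfsg.Agent.Helper26.WCMain

set_option autoImplicit false
set_option linter.unusedSectionVars false
set_option linter.unusedVariables false

/-! # The group-theoretic core: bounded class and the powers of the centre -/

namespace Cfsg.Agent.Helper26.AG

open Cfsg Subgroup
open scoped Pointwise IsMulCommutative

variable {G : Type*} [Group G]

theorem mem_centralizer_closure {s : Set G} {g : G} (h : ∀ y ∈ s, g * y * g⁻¹ = y) :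
    g ∈ centralizer ((closure s : Subgroup G) : Set G) := by
  have h1 : closure s ≤ centralizer ({g} : Set G) := by
    rw [closure_le]
    intro y hy
    apply mem_centralizer_iff.mpr
    intro x hx
    rw [Set.mem_singleton_iff] at hx
    subst hx
    have := h y hy
    calc x * y = (x * y * x⁻¹) * x := by group
      _ = y * x := by rw [this]
  apply mem_centralizer_iff.mpr
  intro y hy
  exact (mem_centralizer_iff.mp (h1 hy) g rfl).symm

theorem powerClosure_normal (p n : ℕ) (Z : Subgroup G) [hZ : Z.Normal] :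
    (Cfsg.powerClosure p n Z).Normal := by
  constructor
  intro y hy g
  have h1 : Cfsg.powerClosure p n Z ≤
      (Cfsg.powerClosure p n Z).comap (MulAut.conj g).toMonoidHom := by
    unfold Cfsg.powerClosure
    rw [closure_le]
    rintro _ ⟨x, hx, rfl⟩
    apply Subgroup.subset_closure
    refine ⟨g * x * g⁻¹, hZ.conj_mem x hx g, ?_⟩
    show g * x ^ (p ^ n) * g⁻¹ = _
    rw [conj_pow]
  exact h1 hy

theorem exists_factor [Finite G] {p : ℕ} [Fact p.Prime] (n : ℕ)
    (T : Sylow p G) (P : Subgroup G) [hPn : P.Normal] (hPT : P ≤ (T : Subgroup G))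
    (hne : P ≠ (T : Subgroup G))
    (hcl : ∀ g ∈ (T : Subgroup G), ∀ z ∈ (T : Subgroup G),
      ((fun x => g * x * g⁻¹ * x⁻¹)^[n * (p - 1) + 1]) z = 1) :
    ∃ R : Subgroup G, P ≤ R ∧ R ≤ (T : Subgroup G) ∧ P ≠ R ∧
      ∀ g : G, ∃ c ∈ centralizer
        ((Cfsg.powerClosure p n (P ⊓ centralizer (P : Set G)) : Subgroup G) : Set G),
        ∃ h ∈ normalizer (R : Set G), g = c * h := by
  classical
  have hpp : p.Prime := Fact.out
  set Z : Subgroup G := P ⊓ centralizer (P : Set G) with hZ
  have hZn : Z.Normal := Subgroup.normal_inf_normal P (centralizer (P : Set G))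
  set Y := Cfsg.powerClosure p n Z with hY
  have hYn : Y.Normal := powerClosure_normal p n Z
  set C := centralizer (Y : Set G) with hC
  have hCn : C.Normal := Subgroup.normal_centralizer
  -- an element of `T` outside `P` whose `p`-th power lies in `P`
  obtain ⟨t, htT, htP⟩ : ∃ t ∈ (T : Subgroup G), t ∉ P := by
    by_contra hcon
    push Not at hcon
    exact hne (le_antisymm hPT hcon)
  have hex : ∃ k : ℕ, t ^ (p ^ k) ∈ P := by
    obtain ⟨k, hk⟩ := T.2 ⟨t, htT⟩
    refine ⟨k, ?_⟩
    have : t ^ (p ^ k) = 1 := by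
      have := congrArg Subtype.val hk
      simpa using this
    rw [this]
    exact P.one_mem
  set k := Nat.find hex with hk
  have hk1 : t ^ (p ^ k) ∈ P := Nat.find_spec hex
  have hk0 : k ≠ 0 := by
    intro h0
    rw [h0, pow_zero, pow_one] at hk1
    exact htP hk1
  obtain ⟨j, hj⟩ := Nat.exists_eq_succ_of_ne_zero hk0
  set g₀ := t ^ (p ^ j) with hg₀
  have hg₀T : g₀ ∈ (T : Subgroup G) := (T : Subgroup G).pow_mem htT _
  have hg₀P : g₀ ∉ P := by
    have := Nat.find_min hex (m := j) (by rw [← hk, hj]; exact Nat.lt_succ_self j)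
    exact this
  have hg₀p : g₀ ^ p ∈ P := by
    rw [hg₀, ← pow_mul, ← pow_succ, ← Nat.succ_eq_add_one, ← hj]
    exact hk1
  -- `g₀` centralizes `Y`
  have hg₀C : g₀ ∈ C := by
    have hZc : IsMulCommutative ↥Z := ⟨⟨fun a b => by
      apply Subtype.ext
      exact (mem_centralizer_iff.mp a.2.2 (b : G) b.2.1).symm⟩⟩
    let φ : ↥Z →* ↥Z := (MulAut.conjNormal g₀ : MulAut ↥Z).toMonoidHom
    have hφ : ∀ a : ↥Z, ((φ a : ↥Z) : G) = g₀ * a * g₀⁻¹ := fun a => rfl
    have hiter : ∀ (m : ℕ) (a : ↥Z), ((((fun x : ↥Z => φ x * x⁻¹)^[m]) a : ↥Z) : G) =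
        ((fun x : G => g₀ * x * g₀⁻¹ * x⁻¹)^[m]) (a : G) := by
      intro m
      induction m with
      | zero => intro a; rfl
      | succ m ih =>
        intro a
        rw [Function.iterate_succ_apply', Function.iterate_succ_apply', ← ih]
        rfl
    have hc : ∀ a : ↥Z, ((fun x : ↥Z => φ x * x⁻¹)^[n * (p - 1) + 1]) a = 1 := by
      intro a
      apply Subtype.ext
      rw [hiter]
      exact hcl g₀ hg₀T (a : G) (hPT a.2.1)
    have hpow : ∀ (m : ℕ) (a : ↥Z), (((φ^[m]) a : ↥Z) : G) = g₀ ^ m * a * (g₀ ^ m)⁻¹ := by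
      intro m
      induction m with
      | zero => intro a; simp
      | succ m ih =>
        intro a
        rw [Function.iterate_succ_apply', hφ, ih, pow_succ']
        group
    have hφp : ∀ a : ↥Z, (φ^[p]) a = a := by
      intro a
      apply Subtype.ext
      rw [hpow]
      have := mem_centralizer_iff.mp a.2.2 (g₀ ^ p) hg₀p
      rw [this]; group
    have hfix := fixes_pow_of_class φ p n hpp hc hφp
    apply mem_centralizer_closure
    rintro _ ⟨x, hx, rfl⟩
    have := congrArg Subtype.val (hfix ⟨x, hx⟩)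
    rw [hφ] at this
    exact this
  refine ⟨P ⊔ ((T : Subgroup G) ⊓ C), le_sup_left, sup_le hPT inf_le_left, ?_, ?_⟩
  · intro h
    apply hg₀P
    rw [h]
    exact mem_sup_right ⟨hg₀T, hg₀C⟩
  · -- Frattini
    have hcardT : Nat.card (((T : Subgroup G) ⊓ C).subgroupOf C) =
        p ^ (Nat.card C).factorization p := by
      rw [card_subgroupOf_of_le inf_le_right]
      exact Cfsg.Agent.Helper3.card_sylow_inf_normal T C
    let P' : Sylow p C := Sylow.ofCard _ hcardT
    have hP' : (P' : Subgroup C) = ((T : Subgroup G) ⊓ C).subgroupOf C :=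
      Sylow.coe_ofCard _ hcardT
    have hfr := Sylow.normalizer_sup_eq_top P'
    rw [hP', subgroupOf_map_subtype, inf_assoc, inf_idem] at hfr
    intro g
    have hg : g ∈ (C : Set G) * (normalizer ((((T : Subgroup G) ⊓ C : Subgroup G)) : Set G) : Set G) := by
      rw [← Subgroup.normal_mul, sup_comm, hfr]
      exact mem_top g
    obtain ⟨c, hc, h, hh, hch⟩ := Set.mem_mul.mp hg
    refine ⟨c, hc, h, ?_, hch.symm⟩
    have hzp : zpowers h ≤ normalizer ((P ⊔ ((T : Subgroup G) ⊓ C) : Subgroup G) : Set G) := by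
      apply Cfsg.Agent.Helper26.WC.le_normalizer_sup_of
      · rw [normalizer_eq_top_iff.mpr hPn]; exact le_top
      · exact zpowers_le.mpr hh
    exact hzp (mem_zpowers h)

end Cfsg.Agent.Helper26.AG
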