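import Mathlib
import Cfsg.Agent.Helper26.AG2
import Cfsg.Agent.Helper26.WCModel
import Cfsg.Agent.Helper26.ZJFusionD
import Cfsg.Agent.Helper25.FusionAlperin3
import Cfsg.Agent.S5090
import Cfsg.Agent.S5226

set_option autoImplicit false
set_option linter.unusedSectionVars false
set_option linter.unusedVariables false

/-! # `℧ⁿ(Z(S))` is normal in every saturated fusion system over `S` of class `≤ n(p-1)+1` -/

namespace Cfsg.Agent.Helper26.AG

open Cfsg Cfsg.FusionSystem Subgroup Cfsg.Agent.Helper25 Cfsg.Agent.Helper26.MasterRed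

universe u

variable {Ω : Type u} [Group Ω] {S : Subgroup Ω}

/-- the subsystem of the maps preserving membership in `W` -/
def stabSystem (F : FusionSystem S) (W : Subgroup Ω)
    (hW : ∀ s ∈ S, ∀ y : Ω, (s * y * s⁻¹ ∈ W ↔ y ∈ W)) : FusionSystem S where
  Hom P := {φ | φ ∈ F.Hom P ∧ ∀ y : P, (φ y ∈ W ↔ (y : Ω) ∈ W)}
  le_of_mem := fun h => F.le_of_mem h.1
  injective_of_mem := fun h => F.injective_of_mem h.1
  conj_mem := by
    intro P g hP hg
    exact ⟨F.conj_mem hP hg, fun y => hW g hg y⟩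
  comp_mem := by
    rintro P Q φ ψ ⟨hφ, hφx⟩ ⟨hψ, hψx⟩ hPQ
    refine ⟨F.comp_mem hφ hψ hPQ, fun y => ?_⟩
    show ψ ⟨φ y, hPQ y⟩ ∈ W ↔ _
    rw [hψx ⟨φ y, hPQ y⟩]
    exact hφx y
  inv_mem := by
    rintro P φ ⟨hφ, hφx⟩
    obtain ⟨ψ, hψ, hinv⟩ := F.inv_mem hφ
    refine ⟨ψ, ⟨hψ, ?_⟩, hinv⟩
    rintro ⟨_, ⟨y, rfl⟩⟩
    rw [hinv y]
    exact (hφx y).symm

/-- iterated commutators with a fixed element lie in the lower central series -/
theorem iter_comm_mem_lcs {g z : Ω} (hg : g ∈ S) (hz : z ∈ S) (m : ℕ) :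
    ((fun x => g * x * g⁻¹ * x⁻¹)^[m]) z ∈ S.lowerCentralSeries m := by
  induction m with
  | zero => exact hz
  | succ m ih =>
    rw [Function.iterate_succ_apply', Subgroup.lowerCentralSeries_succ]
    have h1 := Subgroup.commutator_mem_commutator ih hg
    have h2 := Subgroup.inv_mem _ h1
    rw [commutatorElement_inv] at h2
    exact h2

theorem iter_comm_eq_one {c : ℕ} (hcl : S.lowerCentralSeries c = ⊥) {g z : Ω} (hg : g ∈ S)
    (hz : z ∈ S) : ((fun x => g * x * g⁻¹ * x⁻¹)^[c]) z = 1 := by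
  have := iter_comm_mem_lcs hg hz c
  rw [hcl, mem_bot] at this
  exact this

/-- `W = ℧ⁿ(Z(S))` -/
abbrev agemoZ (p n : ℕ) (S : Subgroup Ω) : Subgroup Ω :=
  Cfsg.powerClosure p n (S ⊓ centralizer (S : Set Ω))

theorem agemoZ_le (p n : ℕ) : agemoZ p n S ≤ S ⊓ centralizer (S : Set Ω) := by
  unfold agemoZ Cfsg.powerClosure
  rw [closure_le]
  rintro _ ⟨x, hx, rfl⟩
  exact Subgroup.pow_mem _ hx _

theorem agemoZ_conj (p n : ℕ) : ∀ s ∈ S, ∀ y : Ω, (s * y * s⁻¹ ∈ agemoZ p n S ↔ y ∈ agemoZ p n S) := by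
  intro s hs y
  have key : ∀ t ∈ S, ∀ w ∈ agemoZ p n S, t * w * t⁻¹ = w := by
    intro t ht w hw
    have := mem_centralizer_iff.mp (agemoZ_le p n hw).2 t ht
    rw [this]; group
  constructor
  · intro h
    have h1 := key s⁻¹ (S.inv_mem hs) _ h
    have h2 : s⁻¹ * (s * y * s⁻¹) * s⁻¹⁻¹ = y := by group
    rw [h2] at h1
    rw [h1]
    exact h
  · intro h
    rw [key s hs y h]
    exact h

/-- automorphisms of `S` preserve `W` -/
theorem agemoZ_aut (p n : ℕ) (α : MulAut ↥S) (y : ↥S) (hy : (y : Ω) ∈ agemoZ p n S) :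
    ((α y : ↥S) : Ω) ∈ agemoZ p n S := by
  have key : ∀ w ∈ agemoZ p n S, ∀ hw : w ∈ S, ((α ⟨w, hw⟩ : ↥S) : Ω) ∈ agemoZ p n S := by
    intro w hw
    unfold agemoZ Cfsg.powerClosure at hw
    induction hw using Subgroup.closure_induction with
    | mem w hw =>
      intro hwS
      obtain ⟨x, hx, rfl⟩ := hw
      apply Subgroup.subset_closure
      refine ⟨((α ⟨x, hx.1⟩ : ↥S) : Ω), ⟨(α ⟨x, hx.1⟩).2, ?_⟩, ?_⟩
      · apply mem_centralizer_iff.mpr
        intro s hs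
        obtain ⟨s', hs'⟩ := α.surjective ⟨s, hs⟩
        have h1 : s' * ⟨x, hx.1⟩ = ⟨x, hx.1⟩ * s' := by
          apply Subtype.ext
          exact mem_centralizer_iff.mp hx.2 s' s'.2
        have h2 := congrArg (fun t : ↥S => ((α t : ↥S) : Ω)) h1
        simp only [map_mul, hs', Subgroup.coe_mul] at h2
        exact h2
      · have : (⟨x ^ p ^ n, hwS⟩ : ↥S) = (⟨x, hx.1⟩ : ↥S) ^ (p ^ n) := rfl
        rw [this, map_pow]
        rfl
    | one =>
      intro h1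
      have : (⟨1, h1⟩ : ↥S) = 1 := rfl
      rw [this, map_one]
      exact Subgroup.one_mem _
    | mul a b ha hb iha ihb =>
      intro hab
      have haS : a ∈ S := (agemoZ_le p n ha).1
      have hbS : b ∈ S := (agemoZ_le p n hb).1
      have : (⟨a * b, hab⟩ : ↥S) = ⟨a, haS⟩ * ⟨b, hbS⟩ := rfl
      rw [this, map_mul]
      exact Subgroup.mul_mem _ (iha haS) (ihb hbS)
    | inv a ha iha =>
      intro hai
      have haS : a ∈ S := (agemoZ_le p n ha).1
      have : (⟨a⁻¹, hai⟩ : ↥S) = (⟨a, haS⟩ : ↥S)⁻¹ := rfl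
      rw [this, map_inv]
      exact Subgroup.inv_mem _ (iha haS)
  exact key y hy y.2

/-- the step of the Alperin induction -/
theorem step [Finite S] (p : ℕ) [Fact p.Prime] (hS : IsPGroup p S) (F : FusionSystem S)
    (hF : F.IsSaturated p) (n : ℕ) (hcl : S.lowerCentralSeries (n * (p - 1) + 1) = ⊥)
    (P : Subgroup Ω) (hPc : F.IsCentric P) (hPfn : F.IsFullyNormalized P) (hPne : P ≠ S)
    (IH : ∀ Q : Subgroup Ω, Q ≤ S → Nat.card P < Nat.card Q →
      F.Hom Q ⊆ (stabSystem F (agemoZ p n S) (agemoZ_conj p n)).Hom Q)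
    (α : MulAut ↥P) (hα : α ∈ F.autGroup P) (y : ↥P) :
    ((α y : ↥P) : Ω) ∈ agemoZ p n S ↔ (y : Ω) ∈ agemoZ p n S := by
  classical
  have hpp : p.Prime := Fact.out
  have hPS : P ≤ S := hPc.1
  set T := normalizerIn S P with hTdef
  have hTS : T ≤ S := inf_le_left
  have hTfin : Finite T := finite_of_le hTS
  have hTp : IsPGroup p T := isPGroup_of_le hS hTS
  have hPT : P ≤ T := fun x hx => ⟨hPS hx, Subgroup.le_normalizer hx⟩
  have hE := normalizerSystem_isNormalizerSystem F P hPS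
  have hNsat := normalizerSystem_isSaturated p hS F hF P hPfn _ hE
  have hNn := normalizerSystem_isNormal F hPS _ hE
  have hCP : centralizerIn S P ≤ P := hPc.2 P (isConj_refl F hPS)
  have hNc : (normalizerSystem F P hPS).IsCentric P := by
    refine ⟨hPT, fun Q hQ => ?_⟩
    rw [eq_of_isConj_of_isNormal _ hNn hQ]
    intro x hx
    exact hCP ⟨hTS hx.1, hx.2⟩
  have hcon : (normalizerSystem F P hPS).IsConstrained p := ⟨hNsat, P, hNn, hNc⟩
  obtain ⟨G, hG, ι, hM⟩ := Cfsg.Agent.S5090.result p hTp _ hcon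
  have hPGn := normal_map_of_isModel p _ ι hM hNn
  obtain ⟨hfin, hreal, ⟨TG, hTG⟩, -⟩ := hM
  have hinj := hreal.1
  set PG : Subgroup G := (P.subgroupOf T).map ι with hPG
  have hPGT : PG ≤ (TG : Subgroup G) := by
    rw [hTG]
    exact Subgroup.map_le_range _ _
  have hPGne : PG ≠ (TG : Subgroup G) := by
    intro h
    obtain ⟨x, hxT, hxP⟩ := exists_mem_normalizerIn_not_mem p hS hPS hPne
    have h1 : ι ⟨x, hxT⟩ ∈ PG := by
      rw [h, hTG]
      exact ⟨_, rfl⟩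
    obtain ⟨z, hz, hze⟩ := h1
    have := hinj hze
    rw [this] at hz
    exact hxP (Subgroup.mem_subgroupOf.mp hz)
  -- the class condition in the model
  have hcoe : ∀ (a b : ↥T) (m : ℕ), ((((fun x : ↥T => a * x * a⁻¹ * x⁻¹)^[m]) b : ↥T) : Ω) =
      ((fun x : Ω => (a : Ω) * x * (a : Ω)⁻¹ * x⁻¹)^[m]) (b : Ω) := by
    intro a b m
    induction m with
    | zero => rfl
    | succ m ih =>
      rw [Function.iterate_succ_apply', Function.iterate_succ_apply', ← ih]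
      rfl
  have hιit : ∀ (a b : ↥T) (m : ℕ), ((fun x : G => ι a * x * (ι a)⁻¹ * x⁻¹)^[m]) (ι b) =
      ι (((fun x : ↥T => a * x * a⁻¹ * x⁻¹)^[m]) b) := by
    intro a b m
    induction m with
    | zero => rfl
    | succ m ih =>
      rw [Function.iterate_succ_apply', Function.iterate_succ_apply', ih]
      simp only [map_mul, map_inv]
  have hclG : ∀ g ∈ (TG : Subgroup G), ∀ z ∈ (TG : Subgroup G),
      ((fun x => g * x * g⁻¹ * x⁻¹)^[n * (p - 1) + 1]) z = 1 := by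
    intro g hg z hz
    rw [hTG] at hg hz
    obtain ⟨a, rfl⟩ := hg
    obtain ⟨b, rfl⟩ := hz
    rw [hιit]
    have : ((fun x : ↥T => a * x * a⁻¹ * x⁻¹)^[n * (p - 1) + 1]) b = 1 := by
      apply Subtype.ext
      rw [hcoe]
      exact iter_comm_eq_one hcl (hTS a.2) (hTS b.2)
    rw [this, map_one]
  obtain ⟨RG, hPR, hRT, hne, hfac⟩ := exists_factor n TG PG hPGT hPGne hclG
  -- the pullback of `RG`
  set R : Subgroup Ω := (RG.comap ι).map T.subtype with hR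
  have hRT' : R ≤ T := Subgroup.map_subtype_le _
  have hRS : R ≤ S := hRT'.trans hTS
  have hRmem : ∀ r : ↥R, ι ⟨r, hRT' r.2⟩ ∈ RG := by
    rintro ⟨_, ⟨t, ht, rfl⟩⟩
    exact ht
  have hPR' : P ≤ R := by
    intro x hx
    refine ⟨⟨x, hPT hx⟩, ?_, rfl⟩
    exact hPR ⟨⟨x, hPT hx⟩, Subgroup.mem_subgroupOf.mpr hx, rfl⟩
  have hRfin : Finite R := finite_of_le hRS
  have hPRne : P ≠ R := by
    intro h
    apply hne
    apply le_antisymm hPR
    intro r hr
    have hr' : r ∈ ι.range := by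
      rw [← hTG]
      exact hRT hr
    obtain ⟨t, rfl⟩ := hr'
    have htR : (t : Ω) ∈ R := ⟨t, hr, rfl⟩
    rw [← h] at htR
    exact ⟨t, Subgroup.mem_subgroupOf.mpr htR, rfl⟩
  have hcard : Nat.card P < Nat.card R := card_lt_of_lt hPR' hPRne
  -- the automorphism `α` in the model
  have hαN : autHom α ∈ (normalizerSystem F P hPS).Hom P := by
    rw [hE P]
    exact Cfsg.Agent.Helper26.WC.autHom_mem_normalizerHom F hPS hα
  obtain ⟨g, hg⟩ := (hreal.2 P hPT (autHom α) (fun x => hPT (α x).2)).mp hαN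
  obtain ⟨c, hc, h, hh, hgch⟩ := hfac g
  have hconj : ∀ r : ↥R, h * ι ⟨r, hRT' r.2⟩ * h⁻¹ ∈ ι.range := by
    intro r
    rw [← hTG]
    apply hRT
    exact ((Subgroup.mem_normalizer_iff.mp hh) _).mp (hRmem r)
  obtain ⟨ψ, hψ, hψS, hψι⟩ := exists_hom_of_conj _ ι hreal hRT' h hconj
  have hψF : ψ ∈ F.Hom R := by
    rw [hE R] at hψ
    exact hψ.1
  have hψE := (IH R hRS hcard hψF).2
  -- `W` in the model
  have hWZ := agemoZ_le (S := S) p n
  have hWP : agemoZ p n S ≤ P := by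
    intro w hw
    exact hCP ⟨(hWZ hw).1, Subgroup.centralizer_le hPS (hWZ hw).2⟩
  have hιW : ∀ w ∈ agemoZ p n S, ∀ hw : w ∈ T, ι ⟨w, hw⟩ ∈
      Cfsg.powerClosure p n (PG ⊓ centralizer (PG : Set G)) := by
    intro w hw
    unfold agemoZ Cfsg.powerClosure at hw
    induction hw using Subgroup.closure_induction with
    | mem w hw =>
      intro hwT
      obtain ⟨x, hx, rfl⟩ := hw
      have hxP : x ∈ P := hCP ⟨hx.1, Subgroup.centralizer_le hPS hx.2⟩
      apply Subgroup.subset_closure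
      refine ⟨ι ⟨x, hPT hxP⟩, ⟨⟨⟨x, hPT hxP⟩, Subgroup.mem_subgroupOf.mpr hxP, rfl⟩, ?_⟩, ?_⟩
      · apply mem_centralizer_iff.mpr
        rintro _ ⟨q, hq, rfl⟩
        rw [← map_mul, ← map_mul]
        congr 1
        apply Subtype.ext
        exact mem_centralizer_iff.mp hx.2 (q : Ω) (hTS q.2)
      · have : (⟨x ^ p ^ n, hwT⟩ : ↥T) = (⟨x, hPT hxP⟩ : ↥T) ^ (p ^ n) := rfl
        rw [this, map_pow]
    | one =>
      intro h1
      have : (⟨1, h1⟩ : ↥T) = 1 := rfl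
      rw [this, map_one]
      exact Subgroup.one_mem _
    | mul a b ha hb iha ihb =>
      intro hab
      have haT : a ∈ T := hPT (hWP ha)
      have hbT : b ∈ T := hPT (hWP hb)
      have : (⟨a * b, hab⟩ : ↥T) = ⟨a, haT⟩ * ⟨b, hbT⟩ := rfl
      rw [this, map_mul]
      exact Subgroup.mul_mem _ (iha haT) (ihb hbT)
    | inv a ha iha =>
      intro hai
      have haT : a ∈ T := hPT (hWP ha)
      have : (⟨a⁻¹, hai⟩ : ↥T) = (⟨a, haT⟩ : ↥T)⁻¹ := rfl
      rw [this, map_inv]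
      exact Subgroup.inv_mem _ (iha haT)
  have hcW : ∀ w ∈ agemoZ p n S, ∀ hw : w ∈ T, c * ι ⟨w, hw⟩ * c⁻¹ = ι ⟨w, hw⟩ := by
    intro w hw hwT
    have := mem_centralizer_iff.mp hc _ (hιW w hw hwT)
    rw [← this]; group
  -- the key relation
  have hyR : (y : Ω) ∈ R := hPR' y.2
  have hkey : ι ⟨((α y : ↥P) : Ω), hPT (α y).2⟩ = c * ι ⟨ψ ⟨y, hyR⟩, hψS ⟨y, hyR⟩⟩ * c⁻¹ := by
    have h1 := hg y
    have h2 := hψι ⟨y, hyR⟩
    rw [h2]
    have h3 : ι ⟨(autHom α) y, hPT (α y).2⟩ = g * ι ⟨y, hPT y.2⟩ * g⁻¹ := h1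
    have h4 : (⟨((α y : ↥P) : Ω), hPT (α y).2⟩ : ↥T) = ⟨(autHom α) y, hPT (α y).2⟩ := rfl
    rw [h4, h3, hgch]
    group
  constructor
  · intro hαy
    have h1 := hcW _ hαy (hPT (α y).2)
    have h2 : ι ⟨ψ ⟨y, hyR⟩, hψS ⟨y, hyR⟩⟩ = ι ⟨((α y : ↥P) : Ω), hPT (α y).2⟩ := by
      have e1 : ι ⟨ψ ⟨y, hyR⟩, hψS ⟨y, hyR⟩⟩ =
          c⁻¹ * (c * ι ⟨ψ ⟨y, hyR⟩, hψS ⟨y, hyR⟩⟩ * c⁻¹) * c := by group
      rw [e1, ← hkey]
      calc c⁻¹ * ι ⟨((α y : ↥P) : Ω), hPT (α y).2⟩ * c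
          = c⁻¹ * (c * ι ⟨((α y : ↥P) : Ω), hPT (α y).2⟩ * c⁻¹) * c := by rw [h1]
        _ = ι ⟨((α y : ↥P) : Ω), hPT (α y).2⟩ := by group
    have hkey := h2.symm
    have h3 := congrArg Subtype.val (hinj hkey)
    have h4 : ψ ⟨y, hyR⟩ ∈ agemoZ p n S := by
      have : ((α y : ↥P) : Ω) = ψ ⟨y, hyR⟩ := h3
      rw [← this]; exact hαy
    exact (hψE ⟨y, hyR⟩).mp h4
  · intro hy
    have h4 : ψ ⟨y, hyR⟩ ∈ agemoZ p n S := (hψE ⟨y, hyR⟩).mpr hy
    have h1 := hcW _ h4 (hψS ⟨y, hyR⟩)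
    rw [h1] at hkey
    have h3 : ((α y : ↥P) : Ω) = ψ ⟨y, hyR⟩ := congrArg Subtype.val (hinj hkey)
    rw [h3]; exact h4

/-- every map of `F` preserves `℧ⁿ(Z(S))` -/
theorem le_stab [Finite S] (p : ℕ) [Fact p.Prime] (hS : IsPGroup p S) (F : FusionSystem S)
    (hF : F.IsSaturated p) (n : ℕ) (hcl : S.lowerCentralSeries (n * (p - 1) + 1) = ⊥) :
    F ≤ stabSystem F (agemoZ p n S) (agemoZ_conj p n) := by
  apply alperin_le_ind p hS F hF
  intro P hP IH
  by_cases hPS : P = S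
  · intro α hα
    have hPle : P ≤ S := hPS.le
    rw [mem_autGroup_iff _ hPle]
    refine ⟨(mem_autGroup_iff F hPle α).mp hα, fun y => ?_⟩
    subst hPS
    show ((α y : ↥P) : Ω) ∈ agemoZ p n P ↔ (y : Ω) ∈ agemoZ p n P
    constructor
    · intro h
      have := agemoZ_aut p n α⁻¹ (α y) h
      simpa using this
    · exact agemoZ_aut p n α y
  · have hPe : F.IsEssential p P := hP.resolve_left hPS
    intro α hα
    rw [mem_autGroup_iff _ hPe.1.1]
    exact ⟨(mem_autGroup_iff F hPe.1.1 α).mp hα,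
      fun y => step p hS F hF n hcl P hPe.1 hPe.2.1 hPS IH α hα y⟩

/-- **`℧ⁿ(Z(S))` is normal in `F`** when `S` has class at most `n(p-1)+1`. -/
theorem agemoZ_isNormal [Finite S] (p : ℕ) [Fact p.Prime] (hS : IsPGroup p S) (F : FusionSystem S)
    (hF : F.IsSaturated p) (n : ℕ) (hcl : S.lowerCentralSeries (n * (p - 1) + 1) = ⊥) :
    F.IsNormal (agemoZ p n S) := by
  have hle := le_stab p hS F hF n hcl
  have hWZ := agemoZ_le (S := S) p n
  rw [Cfsg.Agent.S5226.result p hS F hF]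
  refine ⟨⟨hWZ.trans inf_le_left, fun R hR φ hφ x => ?_⟩, 1, ![⊥, agemoZ p n S], rfl, rfl, ?_, ?_, ?_⟩
  · exact ((hle R hφ).2 x).mpr (hR x.2)
  · intro i j hij
    fin_cases i <;> fin_cases j
    · exact le_rfl
    · exact bot_le
    · exfalso; revert hij; decide
    · exact le_rfl
  · intro i
    fin_cases i
    show ⁅agemoZ p n S, agemoZ p n S⁆ ≤ ⊥
    rw [Subgroup.commutator_le]
    intro a ha b hb
    rw [mem_bot, commutatorElement_eq_one_iff_mul_comm]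
    exact (mem_centralizer_iff.mp (hWZ hb).2 a (hWZ ha).1)
  · intro i
    fin_cases i
    show F.WeaklyClosed ⊥
    refine ⟨bot_le, fun φ hφ => ?_⟩
    rw [eq_bot_iff]
    rintro _ ⟨x, rfl⟩
    have : x = 1 := Subsingleton.elim _ _
    rw [this, map_one]
    exact Subgroup.one_mem _

end Cfsg.Agent.Helper26.AG
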