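import Mathlib
import Cfsg.Agent.Helper26.AG3

set_option autoImplicit false
set_option linter.unusedSectionVars false
set_option linter.unusedVariables false

/-! # Exponent of a nilpotent group from the exponent of its centre and its class -/

namespace Cfsg.Agent.Helper26.AG

open Cfsg Cfsg.FusionSystem
open scoped commutatorElement

universe u

/-- if `[z, s]` is central for all `s` then `[z^m, s] = [z, s]^m` -/
theorem comm_pow_of_central {G : Type*} [Group G] (z s : G)
    (h : ∀ t : G, ⁅z, t⁆ ∈ Subgroup.center G) (m : ℕ) : ⁅z ^ m, s⁆ = ⁅z, s⁆ ^ m := by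
  induction m with
  | zero => simp
  | succ m ih =>
    have hc : ∀ g : G, g * ⁅z, s⁆ = ⁅z, s⁆ * g := fun g => (Subgroup.mem_center_iff.mp (h s) g)
    have hc' : ∀ g : G, g * ⁅z, s⁆ ^ m = ⁅z, s⁆ ^ m * g := fun g =>
      (Subgroup.mem_center_iff.mp (Subgroup.pow_mem _ (h s) m) g)
    have e : ⁅z ^ (m + 1), s⁆ = z * ⁅z ^ m, s⁆ * z⁻¹ * ⁅z, s⁆ := by
      simp only [commutatorElement_def, pow_succ']
      group
    rw [e, ih, pow_succ, hc' z]
    group

theorem pow_eq_one_of_mem_upperCentralSeries (e : ℕ) : ∀ (i : ℕ) (G : Type u) [Group G],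
    (∀ z ∈ Subgroup.center G, z ^ e = 1) → ∀ x ∈ Subgroup.upperCentralSeries G i, x ^ (e ^ i) = 1 := by
  intro i
  induction i with
  | zero =>
    intro G _ _ x hx
    rw [Subgroup.upperCentralSeries_zero, Subgroup.mem_bot] at hx
    rw [hx, one_pow]
  | succ i ih =>
    intro G _ hZ x hx
    -- the centre of the quotient
    have hZq : ∀ z ∈ Subgroup.center (G ⧸ Subgroup.center G), z ^ e = 1 := by
      intro zb hzb
      obtain ⟨z, rfl⟩ := QuotientGroup.mk'_surjective (Subgroup.center G) zb
      have hz2 : ∀ t : G, ⁅z, t⁆ ∈ Subgroup.center G := by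
        intro t
        rw [← QuotientGroup.eq_one_iff]
        have := Subgroup.mem_center_iff.mp hzb (QuotientGroup.mk' (Subgroup.center G) t)
        show (QuotientGroup.mk' (Subgroup.center G)) ⁅z, t⁆ = 1
        rw [map_commutatorElement, commutatorElement_eq_one_iff_mul_comm]
        exact this.symm
      have hze : z ^ e ∈ Subgroup.center G := by
        rw [Subgroup.mem_center_iff]
        intro s
        have h1 := comm_pow_of_central z s hz2 e
        rw [hZ _ (hz2 s)] at h1
        exact (commutatorElement_eq_one_iff_mul_comm.mp h1).symm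
      show (QuotientGroup.mk' (Subgroup.center G) z) ^ e = 1
      rw [← map_pow]
      exact (QuotientGroup.eq_one_iff _).mpr hze
    have hxq : QuotientGroup.mk' (Subgroup.center G) x ∈ Subgroup.upperCentralSeries (G ⧸ Subgroup.center G) i := by
      have := Subgroup.comap_upperCentralSeries_quotient_center (G := G) i
      rw [← this] at hx
      exact hx
    have h1 := ih (G ⧸ Subgroup.center G) hZq _ hxq
    rw [← map_pow] at h1
    have h2 : x ^ (e ^ i) ∈ Subgroup.center G := (QuotientGroup.eq_one_iff _).mp h1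
    rw [pow_succ, pow_mul]
    exact hZ _ h2

/-- the absolute lower central series of `↥S` against the relative one -/
theorem map_subtype_lcs {Ω : Type*} [Group Ω] (S : Subgroup Ω) (k : ℕ) :
    ((⊤ : Subgroup ↥S).lowerCentralSeries k).map S.subtype = S.lowerCentralSeries k := by
  induction k with
  | zero =>
    rw [Subgroup.lowerCentralSeries_zero, Subgroup.lowerCentralSeries_zero,
      ← MonoidHom.range_eq_map, Subgroup.range_subtype]
  | succ k ih =>
    rw [Subgroup.lowerCentralSeries_succ, Subgroup.lowerCentralSeries_succ, Subgroup.map_commutator,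
      ih, ← MonoidHom.range_eq_map, Subgroup.range_subtype]

theorem exponent_dvd_of_class {Ω : Type u} [Group Ω] (S : Subgroup Ω) [Finite S] {p : ℕ}
    [Fact p.Prime] (hS : IsPGroup p S) (e c : ℕ) (hcl : S.lowerCentralSeries c = ⊥)
    (hZ : ∀ z ∈ S ⊓ Subgroup.centralizer (S : Set Ω), z ^ e = 1) : Monoid.exponent ↥S ∣ e ^ c := by
  have hnil : Group.IsNilpotent ↥S := hS.isNilpotent
  have h1 : (⊤ : Subgroup ↥S).lowerCentralSeries c = ⊥ := by
    have := map_subtype_lcs S c
    rw [hcl] at this
    exact (Subgroup.map_eq_bot_iff_of_injective _ S.subtype_injective).mp this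
  have h2 : Subgroup.upperCentralSeries ↥S c = ⊤ := by
    rw [Subgroup.upperCentralSeries_eq_top_iff_nilpotencyClass_le,
      ← Subgroup.lowerCentralSeries_eq_bot_iff_nilpotencyClass_le]
    exact h1
  have hZ' : ∀ z ∈ Subgroup.center ↥S, z ^ e = 1 := by
    intro z hz
    apply Subtype.ext
    rw [Subgroup.coe_pow]
    apply hZ
    refine ⟨z.2, ?_⟩
    apply Subgroup.mem_centralizer_iff.mpr
    intro s hs
    exact congrArg Subtype.val (Subgroup.mem_center_iff.mp hz ⟨s, hs⟩)
  apply Monoid.exponent_dvd_of_forall_pow_eq_one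
  intro x
  apply pow_eq_one_of_mem_upperCentralSeries e c ↥S hZ' x
  rw [h2]
  exact Subgroup.mem_top x

/-- **S5219**: class `≤ n(p-1)+1` and `O_p(F) = 1` bound the exponent. -/
theorem exponent_dvd {Ω : Type u} [Group Ω] {S : Subgroup Ω} [Finite S] (p : ℕ) [Fact p.Prime]
    (hS : IsPGroup p S) (F : FusionSystem S) (hF : F.IsSaturated p) (n : ℕ)
    (hcl : S.lowerCentralSeries (n * (p - 1) + 1) = ⊥) (hcore : F.core = ⊥) :
    Monoid.exponent ↥S ∣ p ^ (n ^ 2 * (p - 1) + n) := by
  have hW := agemoZ_isNormal p hS F hF n hcl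
  have hW1 : agemoZ p n S = ⊥ := by
    rw [eq_bot_iff, ← hcore]
    exact le_sSup hW
  have hZ : ∀ z ∈ S ⊓ Subgroup.centralizer (S : Set Ω), z ^ (p ^ n) = 1 := by
    intro z hz
    have : z ^ (p ^ n) ∈ agemoZ p n S := Subgroup.subset_closure ⟨z, hz, rfl⟩
    rw [hW1, Subgroup.mem_bot] at this
    exact this
  have := exponent_dvd_of_class S hS (p ^ n) (n * (p - 1) + 1) hcl hZ
  have e : (p ^ n) ^ (n * (p - 1) + 1) = p ^ (n ^ 2 * (p - 1) + n) := by
    rw [← pow_mul]
    congr 1
    ring
  rwa [e] at this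

end Cfsg.Agent.Helper26.AG
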