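import Mathlib

set_option autoImplicit false
set_option linter.unusedSectionVars false
set_option linter.unusedVariables false
set_option linter.style.haveILetI false

/-! # Characteristic chains in finite abelian `p`-groups with pairwise distinct invariants -/

namespace Cfsg.Agent.Helper26.AbChain

open Subgroup

section defs

variable {G : Type*} [CommGroup G]

/-- `U_j = Ω₁(G) ∩ G^{p^j}` -/
def uSub (G : Type*) [CommGroup G] (p j : ℕ) : Subgroup G :=
  (powMonoidHom p : G →* G).ker ⊓ (powMonoidHom (p ^ j) : G →* G).range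

theorem mem_uSub {p j : ℕ} {x : G} :
    x ∈ uSub G p j ↔ x ^ p = 1 ∧ ∃ y : G, y ^ (p ^ j) = x := by
  unfold uSub
  rw [mem_inf, MonoidHom.mem_ker, MonoidHom.mem_range]
  simp only [powMonoidHom_apply]

/-- `T_{k,j}`: the elements whose `p^k`-th power lies in `U_j` -/
def tSub (G : Type*) [CommGroup G] (p k j : ℕ) : Subgroup G :=
  (uSub G p j).comap (powMonoidHom (p ^ k))

theorem mem_tSub {p k j : ℕ} {x : G} :
    x ∈ tSub G p k j ↔ (x ^ (p ^ k)) ^ p = 1 ∧ ∃ y : G, y ^ (p ^ j) = x ^ (p ^ k) := by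
  unfold tSub
  rw [mem_comap, mem_uSub]
  simp only [powMonoidHom_apply]

theorem uSub_succ_le (p j : ℕ) : uSub G p (j + 1) ≤ uSub G p j := by
  intro x hx
  rw [mem_uSub] at hx ⊢
  obtain ⟨h1, y, hy⟩ := hx
  refine ⟨h1, y ^ p, ?_⟩
  rw [← pow_mul, mul_comm, ← pow_succ]
  exact hy

theorem tSub_succ_le (p k j : ℕ) : tSub G p k (j + 1) ≤ tSub G p k j :=
  comap_mono (uSub_succ_le p j)

/-- `T_{k,k} = Ω_{k+1}` -/
theorem mem_tSub_self {p k : ℕ} {x : G} : x ∈ tSub G p k k ↔ x ^ (p ^ (k + 1)) = 1 := by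
  rw [mem_tSub, ← pow_mul, ← pow_succ]
  exact ⟨fun h => h.1, fun h => ⟨h, x, rfl⟩⟩

/-- `T_{k,e} = Ω_k` when `G^{p^e} = 1` -/
theorem mem_tSub_of_exp {p k e : ℕ} (he : ∀ y : G, y ^ (p ^ e) = 1) {x : G} :
    x ∈ tSub G p k e ↔ x ^ (p ^ k) = 1 := by
  rw [mem_tSub]
  constructor
  · rintro ⟨-, y, hy⟩
    rw [← hy, he]
  · intro h
    rw [h]
    exact ⟨one_pow _, 1, one_pow _⟩

theorem uSub_map_equiv {H : Type*} [CommGroup H] (e : G ≃* H) (p j : ℕ) {x : G} :
    e x ∈ uSub H p j ↔ x ∈ uSub G p j := by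
  rw [mem_uSub, mem_uSub]
  constructor
  · rintro ⟨h1, y, hy⟩
    refine ⟨?_, e.symm y, ?_⟩
    · apply e.injective
      rw [map_pow, h1, map_one]
    · apply e.injective
      rw [map_pow, e.apply_symm_apply, hy]
  · rintro ⟨h1, y, hy⟩
    refine ⟨?_, e y, ?_⟩
    · rw [← map_pow, h1, map_one]
    · rw [← map_pow, hy]

theorem tSub_map_equiv {H : Type*} [CommGroup H] (e : G ≃* H) (p k j : ℕ) {x : G} :
    e x ∈ tSub H p k j ↔ x ∈ tSub G p k j := by
  unfold tSub
  rw [mem_comap, mem_comap, powMonoidHom_apply, powMonoidHom_apply, ← map_pow, uSub_map_equiv]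

theorem card_uSub_equiv {H : Type*} [CommGroup H] (e : G ≃* H) (p j : ℕ) :
    Nat.card (uSub G p j) = Nat.card (uSub H p j) := by
  apply Nat.card_congr
  refine ⟨fun x => ⟨e x.1, (uSub_map_equiv e p j).mpr x.2⟩,
    fun y => ⟨e.symm y.1, (uSub_map_equiv e p j).mp (by rw [e.apply_symm_apply]; exact y.2)⟩,
    fun x => ?_, fun y => ?_⟩
  · apply Subtype.ext; simp
  · apply Subtype.ext; simp

theorem card_le_of_relIndex [Finite G] {A B : Subgroup G} (hAB : A ≤ B) :
    Nat.card B = Nat.card A * A.relIndex B := by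
  have h := relIndex_mul_relIndex ⊥ A B bot_le hAB
  rw [relIndex_bot_left, relIndex_bot_left] at h
  exact h.symm

/-- the key index estimate -/
theorem card_tSub_le [Finite G] {p k j : ℕ}
    (h : Nat.card (uSub G p j) ≤ p * Nat.card (uSub G p (j + 1))) :
    Nat.card (tSub G p k j) ≤ p * Nat.card (tSub G p k (j + 1)) := by
  have h1 : (tSub G p k (j + 1)).relIndex (tSub G p k j) =
      (uSub G p (j + 1)).relIndex ((tSub G p k j).map (powMonoidHom (p ^ k))) := by
    unfold tSub
    rw [relIndex_comap]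
  have h2 : (tSub G p k j).map (powMonoidHom (p ^ k)) ≤ uSub G p j := by
    unfold tSub
    exact map_comap_le _ _
  have h3 : (uSub G p (j + 1)).relIndex ((tSub G p k j).map (powMonoidHom (p ^ k))) ≤
      (uSub G p (j + 1)).relIndex (uSub G p j) := by
    apply relIndex_le_of_le_right h2
    intro h0
    have := card_le_of_relIndex (uSub_succ_le (G := G) p j)
    rw [h0, mul_zero] at this
    exact Nat.card_pos.ne' this
  have h4 := card_le_of_relIndex (uSub_succ_le (G := G) p j)
  have h5 := card_le_of_relIndex (tSub_succ_le (G := G) p k j)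
  have hpos : 0 < Nat.card (uSub G p (j + 1)) := Nat.card_pos
  have h6 : (uSub G p (j + 1)).relIndex (uSub G p j) ≤ p := by
    rw [h4] at h
    by_contra hc
    push Not at hc
    have : p * Nat.card (uSub G p (j + 1)) <
        Nat.card (uSub G p (j + 1)) * (uSub G p (j + 1)).relIndex (uSub G p j) := by
      rw [mul_comm p]
      exact Nat.mul_lt_mul_of_pos_left hc hpos
    omega
  rw [h5, h1, mul_comm]
  exact Nat.mul_le_mul_right _ (h3.trans h6)

end defs

section coords

theorem mem_uSub_pi {ι : Type*} {M : ι → Type*} [∀ i, CommGroup (M i)] {p j : ℕ}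
    {x : ∀ i, M i} : x ∈ uSub (∀ i, M i) p j ↔ ∀ i, x i ∈ uSub (M i) p j := by
  simp only [mem_uSub]
  constructor
  · rintro ⟨h1, y, hy⟩ i
    exact ⟨congrFun h1 i, y i, congrFun hy i⟩
  · intro h
    exact ⟨funext fun i => (h i).1, fun i => (h i).2.choose,
      funext fun i => (h i).2.choose_spec⟩

theorem card_uSub_pi {ι : Type*} [Fintype ι] {M : ι → Type*} [∀ i, CommGroup (M i)] (p j : ℕ) :
    Nat.card (uSub (∀ i, M i) p j) = ∏ i, Nat.card (uSub (M i) p j) := by
  rw [← Nat.card_pi]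
  apply Nat.card_congr
  refine ⟨fun x i => ⟨x.1 i, (mem_uSub_pi.mp x.2) i⟩,
    fun y => ⟨fun i => (y i).1, mem_uSub_pi.mpr fun i => (y i).2⟩, fun x => ?_, fun y => ?_⟩
  · rfl
  · rfl

/-- `U_j` of a cyclic group of order `p^e` -/
theorem card_uSub_cyclic {M : Type*} [CommGroup M] [IsCyclic M] [Finite M] {p : ℕ} (hp : p.Prime)
    {e : ℕ} (hM : Nat.card M = p ^ e) (j : ℕ) :
    Nat.card (uSub M p j) = if j < e then p else 1 := by
  obtain ⟨R, hR⟩ : ∃ R : Subgroup M, R = (powMonoidHom (p ^ j) : M →* M).range := ⟨_, rfl⟩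
  have hgcd : Nat.gcd (p ^ e) (p ^ j) = p ^ min e j := by
    rcases le_total e j with h | h
    · rw [min_eq_left h]
      exact Nat.gcd_eq_left (pow_dvd_pow p h)
    · rw [min_eq_right h]
      exact Nat.gcd_eq_right (pow_dvd_pow p h)
  have hcardR : Nat.card R = p ^ (e - min e j) := by
    rw [hR, IsCyclic.card_powMonoidHom_range, hM, hgcd, Nat.pow_div (min_le_left e j) hp.pos]
  have hequiv : Nat.card (uSub M p j) = Nat.card (powMonoidHom p : R →* R).ker := by
    apply Nat.card_congr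
    refine ⟨fun x => ⟨⟨x.1, ?_⟩, ?_⟩, fun y => ⟨y.1.1, ?_⟩, fun x => ?_, fun y => ?_⟩
    · have := (mem_uSub.mp x.2).2
      rw [hR, MonoidHom.mem_range]
      simpa only [powMonoidHom_apply] using this
    · rw [MonoidHom.mem_ker, powMonoidHom_apply]
      apply Subtype.ext
      simpa using (mem_uSub.mp x.2).1
    · rw [mem_uSub]
      constructor
      · have h1 := y.2
        rw [MonoidHom.mem_ker, powMonoidHom_apply] at h1
        have h2 := congrArg Subtype.val h1
        simpa using h2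
      · have h1 : (y.1.1 : M) ∈ (powMonoidHom (p ^ j) : M →* M).range := hR ▸ y.1.2
        rw [MonoidHom.mem_range] at h1
        simpa only [powMonoidHom_apply] using h1
    · rfl
    · rfl
  have : IsCyclic R := Subgroup.isCyclic R
  rw [hequiv, IsCyclic.card_powMonoidHom_ker, hcardR]
  split_ifs with hje
  · have hmin : min e j = j := min_eq_right hje.le
    rw [hmin]
    obtain ⟨d, hd⟩ : ∃ d, e - j = d + 1 := ⟨e - j - 1, by omega⟩
    rw [hd, pow_succ]
    exact Nat.gcd_eq_right (Dvd.intro_left _ rfl)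
  · have hmin : min e j = e := min_eq_left (by omega)
    rw [hmin, Nat.sub_self, pow_zero]
    exact Nat.gcd_one_left p

/-- splitting two coordinates off a product -/
def piSplitTwo {ι : Type*} [DecidableEq ι] (M : ι → Type*) [∀ i, Mul (M i)] (i₁ i₂ : ι)
    (h : i₁ ≠ i₂) :
    (∀ i, M i) ≃* (M i₁ × M i₂) × (∀ k : {k : ι // k ≠ i₁ ∧ k ≠ i₂}, M k.1) where
  toFun f := ((f i₁, f i₂), fun k => f k.1)
  invFun g := fun i => if h1 : i = i₁ then h1 ▸ g.1.1 else
    if h2 : i = i₂ then h2 ▸ g.1.2 else g.2 ⟨i, h1, h2⟩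
  left_inv f := by
    funext i
    by_cases h1 : i = i₁
    · subst h1; simp
    · by_cases h2 : i = i₂
      · subst h2; simp [h1]
      · simp [h1, h2]
  right_inv g := by
    refine Prod.ext (Prod.ext ?_ ?_) ?_
    · simp
    · simp [h.symm]
    · funext k
      simp [k.2.1, k.2.2]
  map_mul' f g := rfl

theorem card_uSub_le_of_no_square (G : Type*) [CommGroup G] [Finite G] {p : ℕ} [hp : Fact p.Prime]
    (hG : IsPGroup p G)
    (hno : ¬ ∃ (n : ℕ) (H : Type) (_ : CommGroup H), 0 < n ∧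
      Nonempty (G ≃* (Multiplicative (ZMod (p ^ n)) × Multiplicative (ZMod (p ^ n))) × H))
    (j : ℕ) : Nat.card (uSub G p j) ≤ p * Nat.card (uSub G p (j + 1)) := by
  classical
  obtain ⟨ι, _, n, hn1, ⟨f⟩⟩ := CommGroup.equiv_prod_multiplicative_zmod_of_finite G
  haveI : ∀ i, NeZero (n i) := fun i => ⟨by have := hn1 i; omega⟩
  obtain ⟨N, hN⟩ := IsPGroup.iff_card.mp hG
  have hcard : Nat.card G = ∏ i, n i := by
    rw [Nat.card_congr f.toEquiv, Nat.card_pi]
    apply Finset.prod_congr rfl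
    intro i _
    rw [Nat.card_eq_fintype_card]
    exact (Fintype.card_congr Multiplicative.toAdd).trans (ZMod.card (n i))
  have hdvd : ∀ i, ∃ e, n i = p ^ e := by
    intro i
    have h1 : n i ∣ p ^ N := by
      rw [← hN, hcard]
      exact Finset.dvd_prod_of_mem n (Finset.mem_univ i)
    obtain ⟨e, -, he⟩ := (Nat.dvd_prime_pow hp.out).mp h1
    exact ⟨e, he⟩
  choose e he using hdvd
  have hUcard : ∀ j', Nat.card (uSub G p j') = ∏ i, if j' < e i then p else 1 := by
    intro j'
    rw [card_uSub_equiv f, card_uSub_pi]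
    apply Finset.prod_congr rfl
    intro i _
    apply card_uSub_cyclic hp.out
    rw [Nat.card_eq_fintype_card]
    exact ((Fintype.card_congr Multiplicative.toAdd).trans (ZMod.card (n i))).trans (he i)
  -- at most one index with `e i = j + 1`
  have hone : ∀ i₁ i₂, e i₁ = j + 1 → e i₂ = j + 1 → i₁ = i₂ := by
    intro i₁ i₂ h1 h2
    by_contra hne
    apply hno
    have hn1' : n i₁ = p ^ (j + 1) := by rw [he, h1]
    have hn2' : n i₂ = p ^ (j + 1) := by rw [he, h2]
    refine ⟨j + 1, ∀ k : {k : ι // k ≠ i₁ ∧ k ≠ i₂}, Multiplicative (ZMod (n k.1)),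
      inferInstance, Nat.succ_pos j, ⟨?_⟩⟩
    exact (f.trans (piSplitTwo (fun i => Multiplicative (ZMod (n i))) i₁ i₂ hne)).trans
      (MulEquiv.prodCongr (MulEquiv.prodCongr
        (ZMod.ringEquivCongr hn1').toAddEquiv.toMultiplicative
        (ZMod.ringEquivCongr hn2').toAddEquiv.toMultiplicative) (MulEquiv.refl _))
  rw [hUcard, hUcard]
  have hfac : ∀ i, (if j < e i then p else 1) =
      (if e i = j + 1 then p else 1) * (if j + 1 < e i then p else 1) := by
    intro i
    by_cases h1 : e i = j + 1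
    · simp [h1]
    · by_cases h2 : j + 1 < e i
      · have : j < e i := by omega
        simp [h1, h2, this]
      · have : ¬ j < e i := by omega
        simp [h1, h2, this]
  rw [Finset.prod_congr rfl (fun i _ => hfac i), Finset.prod_mul_distrib]
  apply Nat.mul_le_mul_right
  by_cases hex : ∃ i₀, e i₀ = j + 1
  · obtain ⟨i₀, hi₀⟩ := hex
    rw [Finset.prod_eq_single i₀]
    · simp [hi₀]
    · intro i _ hi
      have : e i ≠ j + 1 := fun h => hi (hone i i₀ h hi₀)
      simp [this]
    · intro h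
      exact absurd (Finset.mem_univ i₀) h
  · push Not at hex
    rw [Finset.prod_eq_one]
    · exact hp.out.one_lt.le
    · intro i _
      simp [hex i]

end coords

end Cfsg.Agent.Helper26.AbChain
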