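import Mathlib
import Cfsg.Agent.Helper26.AbChain
import Cfsg.Agent.Helper26.FusionAbelian

set_option autoImplicit false
set_option linter.unusedSectionVars false
set_option linter.unusedVariables false
set_option linter.style.haveILetI false

/-! # Supersoluble chains in saturated fusion systems over abelian `p`-groups -/

namespace Cfsg.Agent.Helper26.AbChain

open Subgroup Cfsg Cfsg.FusionSystem

/-- cyclic step from a card bound -/
theorem exists_sup_zpowers {G : Type*} [Group G] [Finite G] {p : ℕ} [hp : Fact p.Prime]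
    (hG : IsPGroup p G) {A B : Subgroup G} (hAB : A ≤ B)
    (hcard : Nat.card B ≤ p * Nat.card A) : ∃ x ∈ B, B = A ⊔ zpowers x := by
  by_cases hEq : A = B
  · refine ⟨1, one_mem _, ?_⟩
    rw [zpowers_one_eq_bot, sup_bot_eq, hEq]
  · obtain ⟨x, hxB, hxA⟩ : ∃ x ∈ B, x ∉ A := by
      by_contra hcon
      push Not at hcon
      exact hEq (le_antisymm hAB hcon)
    refine ⟨x, hxB, ?_⟩
    have hCB : A ⊔ zpowers x ≤ B := sup_le hAB (zpowers_le.mpr hxB)
    symm
    apply eq_of_le_of_card_ge hCB
    obtain ⟨a, ha⟩ := IsPGroup.iff_card.mp (hG.to_subgroup A)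
    obtain ⟨c, hc⟩ := IsPGroup.iff_card.mp (hG.to_subgroup (A ⊔ zpowers x))
    have hlt : Nat.card A < Nat.card (A ⊔ zpowers x : Subgroup G) := by
      have hdvd : Nat.card A ∣ Nat.card (A ⊔ zpowers x : Subgroup G) :=
        card_dvd_of_le le_sup_left
      have hle := Nat.le_of_dvd Nat.card_pos hdvd
      rcases hle.lt_or_eq with h | h
      · exact h
      · exfalso
        have := eq_of_le_of_card_ge (le_sup_left : A ≤ A ⊔ zpowers x) h.ge
        apply hxA
        rw [this]
        exact le_sup_right (a := A) (mem_zpowers x)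
    rw [ha, hc] at hlt
    have hac : a < c := (Nat.pow_lt_pow_iff_right hp.out.one_lt).mp hlt
    rw [hc]
    calc Nat.card B ≤ p * Nat.card A := hcard
      _ = p ^ (a + 1) := by rw [ha, pow_succ, mul_comm]
      _ ≤ p ^ c := Nat.pow_le_pow_right hp.out.pos hac

variable {Ω : Type*} [Group Ω] {S : Subgroup Ω}

/-- chains of strongly closed subgroups with cyclic steps -/
inductive SChain (F : FusionSystem S) : Subgroup Ω → Subgroup Ω → Prop
  | refl (A : Subgroup Ω) : F.StronglyClosed A → SChain F A A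
  | snoc {A B C : Subgroup Ω} : SChain F A B → F.StronglyClosed C → B ≤ C →
      (∃ x ∈ S, C = B ⊔ zpowers x) → SChain F A C

theorem SChain.trans {F : FusionSystem S} {A B C : Subgroup Ω} (h1 : SChain F A B)
    (h2 : SChain F B C) : SChain F A C := by
  induction h2 with
  | refl _ => exact h1
  | snoc _ hC hle hx ih => exact SChain.snoc ih hC hle hx

theorem SChain.toFin {F : FusionSystem S} {A B : Subgroup Ω} (h : SChain F A B) :
    ∃ (m : ℕ) (c : Fin (m + 1) → Subgroup Ω), c 0 = A ∧ c (Fin.last m) = B ∧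
      (∀ i : Fin (m + 1), F.StronglyClosed (c i)) ∧
      ∀ i : Fin m, c i.castSucc ≤ c i.succ ∧ ∃ x ∈ S, c i.succ = c i.castSucc ⊔ zpowers x := by
  induction h with
  | refl hA =>
    exact ⟨0, fun _ => _, rfl, rfl, fun _ => hA, fun i => i.elim0⟩
  | @snoc B C _ hC hle hx ih =>
    obtain ⟨m, c, h0, hlast, hsc, hstep⟩ := ih
    refine ⟨m + 1, Fin.snoc c C, ?_, ?_, ?_, ?_⟩
    · have : (0 : Fin (m + 2)) = Fin.castSucc (0 : Fin (m + 1)) := rfl
      rw [this, Fin.snoc_castSucc]
      exact h0
    · exact Fin.snoc_last _ _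
    · intro i
      refine Fin.lastCases ?_ (fun i' => ?_) i
      · rw [Fin.snoc_last]; exact hC
      · rw [Fin.snoc_castSucc]; exact hsc i'
    · intro i
      refine Fin.lastCases ?_ (fun i' => ?_) i
      · rw [Fin.succ_last, Fin.snoc_last, Fin.snoc_castSucc, hlast]
        exact ⟨hle, hx⟩
      · rw [Fin.succ_castSucc, Fin.snoc_castSucc, Fin.snoc_castSucc]
        exact hstep i'

/-- the commutative group structure on an abelian subgroup -/
@[reducible] def commGroupOfComm (S : Subgroup Ω) (hab : ∀ x ∈ S, ∀ y ∈ S, x * y = y * x) :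
    CommGroup S :=
  { (inferInstance : Group S) with mul_comm := fun a b => Subtype.ext (hab a a.2 b b.2) }

/-- characteristic subgroups of an abelian `S` are strongly closed in saturated systems -/
theorem stronglyClosed_of_char [Finite S] (p : ℕ) [Fact p.Prime] (hS : IsPGroup p S)
    (hab : ∀ x ∈ S, ∀ y ∈ S, x * y = y * x) (F : FusionSystem S) (hF : F.IsSaturated p)
    (T : Subgroup S) (hT : ∀ (α : MulAut S) (x : S), x ∈ T → α x ∈ T) :
    F.StronglyClosed (T.map S.subtype) := by
  refine ⟨map_subtype_le T, ?_⟩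
  intro R hR φ hφ x
  obtain ⟨α, -, hα⟩ := Cfsg.Agent.Helper26.abelian_exists_aut_extension p hS F hF hab hφ
  obtain ⟨y, hy, hyx⟩ := hR x.2
  rw [← hα x]
  refine ⟨α ⟨(x : Ω), (F.le_of_mem hφ).1 x.2⟩, hT α _ ?_, rfl⟩
  have : (⟨(x : Ω), (F.le_of_mem hφ).1 x.2⟩ : S) = y := Subtype.ext hyx.symm
  rw [this]
  exact hy

theorem exists_chain_of_bound [Finite S] (p : ℕ) [hp : Fact p.Prime] (hS : IsPGroup p S)
    (hab : ∀ x ∈ S, ∀ y ∈ S, x * y = y * x) (F : FusionSystem S) (hF : F.IsSaturated p)
    (hbound : ∀ j, Nat.card (@uSub S (commGroupOfComm S hab) p j) ≤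
      p * Nat.card (@uSub S (commGroupOfComm S hab) p (j + 1))) :
    ∃ (m : ℕ) (c : Fin (m + 1) → Subgroup Ω), c 0 = ⊥ ∧ c (Fin.last m) = S ∧
      (∀ i : Fin (m + 1), F.StronglyClosed (c i)) ∧
      ∀ i : Fin m, c i.castSucc ≤ c i.succ ∧ ∃ x ∈ S, c i.succ = c i.castSucc ⊔ zpowers x := by
  letI : CommGroup S := commGroupOfComm S hab
  obtain ⟨e, he⟩ : ∃ e : ℕ, ∀ y : S, y ^ (p ^ e) = 1 := by
    obtain ⟨N, hN⟩ := IsPGroup.iff_card.mp hS
    exact ⟨N, fun y => by rw [← hN]; exact pow_card_eq_one'⟩
  have hsc : ∀ k j, F.StronglyClosed ((tSub S p k j).map S.subtype) := by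
    intro k j
    apply stronglyClosed_of_char p hS hab F hF
    intro α x hx
    exact (tSub_map_equiv α p k j).mpr hx
  -- inner chains
  have hinner : ∀ k i, SChain F ((tSub S p k e).map S.subtype)
      ((tSub S p k (e - i)).map S.subtype) := by
    intro k i
    induction i with
    | zero => exact SChain.refl _ (hsc k e)
    | succ i ih =>
      by_cases hi : e ≤ i
      · have h1 : e - (i + 1) = e - i := by omega
        rw [h1]
        exact ih
      · have h1 : e - i = (e - (i + 1)) + 1 := by omega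
        rw [h1] at ih
        refine SChain.snoc ih (hsc k _) (map_mono (tSub_succ_le p k _)) ?_
        obtain ⟨x, -, hx⟩ := exists_sup_zpowers hS (tSub_succ_le (G := S) p k (e - (i + 1)))
          (card_tSub_le (hbound _))
        refine ⟨x, x.2, ?_⟩
        rw [hx, Subgroup.map_sup, MonoidHom.map_zpowers]
        rfl
  have hT1 : ∀ k, tSub S p k e = (powMonoidHom (p ^ k) : S →* S).ker := by
    intro k
    ext x
    rw [mem_tSub_of_exp he, MonoidHom.mem_ker, powMonoidHom_apply]
  have hT2 : ∀ k, tSub S p k k = (powMonoidHom (p ^ (k + 1)) : S →* S).ker := by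
    intro k
    ext x
    rw [mem_tSub_self, MonoidHom.mem_ker, powMonoidHom_apply]
  have houter : ∀ k, k ≤ e → SChain F ⊥ ((powMonoidHom (p ^ k) : S →* S).ker.map S.subtype) := by
    intro k
    induction k with
    | zero =>
      intro _
      have h0 : (powMonoidHom (p ^ 0) : S →* S).ker = ⊥ := by
        ext x
        rw [MonoidHom.mem_ker, powMonoidHom_apply, pow_zero, pow_one, mem_bot]
      rw [h0, Subgroup.map_bot]
      refine SChain.refl _ ⟨bot_le, ?_⟩
      intro R hR φ hφ x
      have hx : (x : Ω) = 1 := by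
        have := hR x.2
        rwa [mem_bot] at this
      have hx' : x = 1 := Subtype.ext hx
      rw [hx', map_one]
      exact one_mem _
    | succ k ih =>
      intro hk
      have h1 := hinner k (e - k)
      have h2 : e - (e - k) = k := by omega
      rw [h2, hT1, hT2] at h1
      exact (ih (by omega)).trans h1
  have htop : (powMonoidHom (p ^ e) : S →* S).ker = ⊤ := by
    ext x
    rw [MonoidHom.mem_ker, powMonoidHom_apply]
    exact ⟨fun _ => mem_top x, fun _ => he x⟩
  have hfin := houter e le_rfl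
  rw [htop, ← MonoidHom.range_eq_map, Subgroup.range_subtype] at hfin
  exact hfin.toFin

end Cfsg.Agent.Helper26.AbChain
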