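import Mathlib
import Cfsg.Agent.Helper23.OmegaOne

set_option autoImplicit false

namespace Cfsg.Agent.Helper26

open Cfsg.Agent.Helper23

/-- A `p'`-automorphism of a finite abelian `p`-group fixing all elements of order dividing `p`
is trivial (any prime `p`). -/
theorem aut_eq_one_of_fixes_omega_comm {G : Type*} [Group G] {p : ℕ}
    (hG : IsPGroup p G) (hcomm : ∀ x y : G, x * y = y * x) (a : MulAut G)
    (ha : Nat.Coprime (orderOf a) p) (h : ∀ x : G, x ^ p = 1 → a x = x) : a = 1 := by
  have key : ∀ k : ℕ, ∀ x : G, x ^ (p ^ k) = 1 → a x = x := by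
    intro k
    induction k with
    | zero =>
      intro x hx
      rw [pow_zero, pow_one] at hx
      rw [hx, map_one]
    | succ k ih =>
      intro x hx
      have h1 : a (x ^ p) = x ^ p := ih _ (by rw [← pow_mul, ← pow_succ']; exact hx)
      have h2 : (x⁻¹ * a x) ^ p = 1 := by
        have hc : Commute x⁻¹ (a x) := hcomm _ _
        rw [hc.mul_pow, ← map_pow, h1, inv_pow, inv_mul_cancel]
      exact aut_fixes_of_fixes_comm hG a ha x (h _ h2)
  ext x
  obtain ⟨k, hk⟩ := hG x
  exact key k x hk

theorem zmod_two_torsion_unique (m : ℕ) (y y' : ZMod (2 ^ m)) (h : 2 • y = 0) (h' : 2 • y' = 0)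
    (hy : y ≠ 0) (hy' : y' ≠ 0) : y = y' := by
  classical
  by_contra hne
  have hle := IsAddCyclic.card_nsmul_eq_zero_le (α := ZMod (2 ^ m)) (n := 2) (by norm_num)
  have hsub : ({0, y, y'} : Finset (ZMod (2 ^ m))) ⊆ Finset.univ.filter (fun a => 2 • a = 0) := by
    intro z hz
    simp only [Finset.mem_insert, Finset.mem_singleton] at hz
    rw [Finset.mem_filter]
    refine ⟨Finset.mem_univ _, ?_⟩
    rcases hz with rfl | rfl | rfl
    · simp
    · exact h
    · exact h'
  have hcard : ({0, y, y'} : Finset (ZMod (2 ^ m))).card = 3 := by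
    rw [Finset.card_insert_of_notMem, Finset.card_insert_of_notMem, Finset.card_singleton]
    · simpa using hne
    · simp only [Finset.mem_insert, Finset.mem_singleton, not_or]
      exact ⟨fun h => hy h.symm, fun h => hy' h.symm⟩
  have := Finset.card_le_card hsub
  omega

section Coord

variable {G : Type*} [Group G] {n : ℕ} {a : Fin n → ℕ}

/-- coordinates of an element along the isomorphism `e` -/
def coord (e : G ≃* Multiplicative ((i : Fin n) → ZMod (2 ^ a i))) (s : G) (i : Fin n) : ZMod (2 ^ a i) := Multiplicative.toAdd (e s) i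

theorem coord_mul (e : G ≃* Multiplicative ((i : Fin n) → ZMod (2 ^ a i))) (s t : G) (i : Fin n) : coord e (s * t) i = coord e s i + coord e t i := by
  simp [coord]

theorem coord_inv (e : G ≃* Multiplicative ((i : Fin n) → ZMod (2 ^ a i))) (s : G) (i : Fin n) : coord e s⁻¹ i = - coord e s i := by
  simp [coord]

theorem coord_pow (e : G ≃* Multiplicative ((i : Fin n) → ZMod (2 ^ a i))) (s : G) (k : ℕ) (i : Fin n) : coord e (s ^ k) i = k • coord e s i := by
  simp [coord]

theorem coord_one (e : G ≃* Multiplicative ((i : Fin n) → ZMod (2 ^ a i))) (i : Fin n) : coord e 1 i = 0 := by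
  simp [coord]

theorem eq_of_coord_eq (e : G ≃* Multiplicative ((i : Fin n) → ZMod (2 ^ a i))) {s t : G} (h : ∀ i, coord e s i = coord e t i) : s = t := by
  apply e.injective
  apply Multiplicative.toAdd.injective
  funext i
  exact h i

theorem coord_symm (e : G ≃* Multiplicative ((i : Fin n) → ZMod (2 ^ a i))) (f : (i : Fin n) → ZMod (2 ^ a i)) (i : Fin n) :
    coord e (e.symm (Multiplicative.ofAdd f)) i = f i := by
  simp [coord]

theorem comm_of_equiv (e : G ≃* Multiplicative ((i : Fin n) → ZMod (2 ^ a i))) (x y : G) : x * y = y * x := by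
  apply e.injective
  rw [map_mul, map_mul, mul_comm]

theorem isPGroup_of_equiv (e : G ≃* Multiplicative ((i : Fin n) → ZMod (2 ^ a i))) : IsPGroup 2 G := by
  intro x
  refine ⟨Finset.univ.sup a, ?_⟩
  apply eq_of_coord_eq e
  intro i
  rw [coord_pow, coord_one, nsmul_eq_mul]
  have : ((2 ^ Finset.univ.sup a : ℕ) : ZMod (2 ^ a i)) = 0 := by
    rw [ZMod.natCast_eq_zero_iff]
    exact pow_dvd_pow 2 (Finset.le_sup (Finset.mem_univ i))
  rw [this, zero_mul]

theorem two_pow_ne_zero_zmod {m : ℕ} (hm : 1 ≤ m) : (2 : ZMod (2 ^ m)) ^ (m - 1) ≠ 0 := by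
  intro hc
  have h1 : ((2 ^ (m - 1) : ℕ) : ZMod (2 ^ m)) = 0 := by
    push_cast
    exact hc
  rw [ZMod.natCast_eq_zero_iff] at h1
  have h2 := Nat.le_of_dvd (pow_pos two_pos _) h1
  have h3 : m ≤ m - 1 := (Nat.pow_le_pow_iff_right (by norm_num)).mp h2
  omega

theorem two_pow_self_zmod (m : ℕ) : (2 : ZMod (2 ^ m)) ^ m = 0 := by
  have h1 : ((2 ^ m : ℕ) : ZMod (2 ^ m)) = 0 := ZMod.natCast_self _
  push_cast at h1
  exact h1

/-- intrinsic description of the filtration of `Ω₁` by `2^k`-th powers -/
theorem exists_pow_iff (e : G ≃* Multiplicative ((i : Fin n) → ZMod (2 ^ a i))) {s : G} (hs : s ^ 2 = 1) (k : ℕ) :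
    (∃ t : G, s = t ^ (2 ^ k)) ↔ ∀ i, a i ≤ k → coord e s i = 0 := by
  constructor
  · rintro ⟨t, rfl⟩ i hi
    rw [coord_pow, nsmul_eq_mul]
    have : ((2 ^ k : ℕ) : ZMod (2 ^ a i)) = 0 := by
      rw [ZMod.natCast_eq_zero_iff]
      exact pow_dvd_pow 2 hi
    rw [this, zero_mul]
  · intro h
    refine ⟨e.symm (Multiplicative.ofAdd (fun i =>
      if coord e s i = 0 then 0 else (2 : ZMod (2 ^ a i)) ^ (a i - 1 - k))), ?_⟩
    apply eq_of_coord_eq e
    intro i
    rw [coord_pow, coord_symm]
    by_cases h0 : coord e s i = 0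
    · rw [if_pos h0, h0, smul_zero]
    · rw [if_neg h0]
      have hk : k < a i := by
        by_contra hk
        exact h0 (h i (not_lt.mp hk))
      have h2 : 2 • coord e s i = 0 := by rw [← coord_pow, hs, coord_one]
      have hc : (2 : ZMod (2 ^ a i)) ^ (a i - 1) ≠ 0 := two_pow_ne_zero_zmod (by omega)
      have hc2 : 2 • ((2 : ZMod (2 ^ a i)) ^ (a i - 1)) = 0 := by
        rw [nsmul_eq_mul]
        push_cast
        rw [← pow_succ']
        have : a i - 1 + 1 = a i := by omega
        rw [this]
        exact two_pow_self_zmod _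
      rw [zmod_two_torsion_unique _ _ _ h2 hc2 h0 hc, nsmul_eq_mul]
      push_cast
      rw [← pow_add]
      congr 1
      omega

/-- An automorphism of odd order of a product of cyclic `2`-groups of pairwise distinct orders
fixes every involution. -/
theorem aut_fixes_omega_of_distinct (e : G ≃* Multiplicative ((i : Fin n) → ZMod (2 ^ a i))) (ha : StrictMono a) (α : MulAut G)
    (hodd : Nat.Coprime (orderOf α) 2) : ∀ s : G, s ^ 2 = 1 → α s = s := by
  have hG : IsPGroup 2 G := isPGroup_of_equiv e
  have hcomm := comm_of_equiv e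
  -- the filtration is preserved
  have hpres : ∀ k : ℕ, ∀ s : G, (s ^ 2 = 1 ∧ ∀ i, a i ≤ k → coord e s i = 0) →
      ((α s) ^ 2 = 1 ∧ ∀ i, a i ≤ k → coord e (α s) i = 0) := by
    rintro k s ⟨hs, hsk⟩
    have hs' : (α s) ^ 2 = 1 := by rw [← map_pow, hs, map_one]
    refine ⟨hs', (exists_pow_iff e hs' k).mp ?_⟩
    obtain ⟨t, ht⟩ := (exists_pow_iff e hs k).mpr hsk
    exact ⟨α t, by rw [ht, map_pow]⟩
  have key : ∀ d k : ℕ, Finset.univ.sup a ≤ k + d →
      ∀ s : G, (s ^ 2 = 1 ∧ ∀ i, a i ≤ k → coord e s i = 0) → α s = s := by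
    intro d
    induction d with
    | zero =>
      rintro k hk s ⟨-, hsk⟩
      have : s = 1 := by
        apply eq_of_coord_eq e
        intro i
        rw [coord_one]
        exact hsk i ((Finset.le_sup (Finset.mem_univ i)).trans hk)
      rw [this, map_one]
    | succ d ih =>
      rintro k hk s ⟨hs, hsk⟩
      have IH := ih (k + 1) (by omega)
      by_cases hs1 : ∀ i, a i ≤ k + 1 → coord e s i = 0
      · exact IH s ⟨hs, hs1⟩
      obtain ⟨hs', hsk'⟩ := hpres k s ⟨hs, hsk⟩
      by_cases hs2 : ∀ i, a i ≤ k + 1 → coord e (α s) i = 0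
      · have := IH (α s) ⟨hs', hs2⟩
        exact α.injective this
      push Not at hs1 hs2
      obtain ⟨i, hi, hi0⟩ := hs1
      obtain ⟨i', hi', hi0'⟩ := hs2
      have hai : a i = k + 1 := by
        by_contra hne
        exact hi0 (hsk i (by omega))
      have hai' : a i' = k + 1 := by
        by_contra hne
        exact hi0' (hsk' i' (by omega))
      have hii' : i' = i := ha.injective (hai'.trans hai.symm)
      rw [hii'] at hi0'
      have h2 : 2 • coord e s i = 0 := by rw [← coord_pow, hs, coord_one]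
      have h2' : 2 • coord e (α s) i = 0 := by rw [← coord_pow, hs', coord_one]
      have heq : coord e s i = coord e (α s) i := zmod_two_torsion_unique _ _ _ h2 h2' hi0 hi0'
      have hz : α (s⁻¹ * α s) = s⁻¹ * α s := by
        apply IH
        constructor
        · have hc : Commute s⁻¹ (α s) := hcomm _ _
          rw [hc.mul_pow, inv_pow, hs, hs', inv_one, one_mul]
        · intro j hj
          rw [coord_mul, coord_inv]
          rcases Nat.lt_or_ge (a j) (k + 1) with hlt | hge
          · rw [hsk j (by omega), hsk' j (by omega), neg_zero, add_zero]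
          · have hji : j = i := ha.injective ((le_antisymm hj hge).trans hai.symm)
            rw [hji, heq, neg_add_cancel]
      exact aut_fixes_of_fixes_comm hG α hodd s hz
  intro s hs
  exact key (Finset.univ.sup a) 0 (by omega) s ⟨hs, fun i hi => by
    have hc : coord e s i = 0 := by
      have : a i = 0 := Nat.le_zero.mp hi
      have hsub : Subsingleton (ZMod (2 ^ a i)) := by
        rw [this, pow_zero]
        infer_instance
      exact Subsingleton.elim _ _
    exact hc⟩

/-- A product of cyclic `2`-groups of pairwise distinct orders has no nontrivial automorphism of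
odd order. -/
theorem aut_eq_one_of_distinct_invariants (e : G ≃* Multiplicative ((i : Fin n) → ZMod (2 ^ a i))) (ha : StrictMono a) (α : MulAut G)
    (hodd : Nat.Coprime (orderOf α) 2) : α = 1 :=
  aut_eq_one_of_fixes_omega_comm (isPGroup_of_equiv e) (comm_of_equiv e) α hodd
    (aut_fixes_omega_of_distinct e ha α hodd)

end Coord

end Cfsg.Agent.Helper26
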