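import Mathlib
import Cfsg.Agent.Helper29.AltPronDefs
import Cfsg.Agent.Helper29.AltPronBasics
import Cfsg.Agent.Helper29.AltPronAR

set_option autoImplicit false
set_option linter.unusedSectionVars false

/-!
# S2222 piece OSUM: orbit sum + arithmetic
-/

namespace Cfsg.Agent.Helper26.AltPron

open MulAction Equiv Cfsg.Agent.Helper29.AltPron
open scoped Pointwise Nat

variable {α : Type*} [Fintype α] [DecidableEq α]

/-- the orbit-size function on the orbit quotient -/
noncomputable def osumC (P : Subgroup (Perm α)) (ω : orbitRel.Quotient P α) : ℕ :=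
  Nat.card ω.orbit

theorem osumC_mk (P : Subgroup (Perm α)) (x : α) :
    osumC P (Quotient.mk'' x : orbitRel.Quotient P α) = (orbit P x).ncard := by
  unfold osumC
  rw [orbitRel.Quotient.orbit_mk]
  rfl

theorem osumC_pow (P : Subgroup (Perm α)) (hP : IsPGroup 2 P) (ω : orbitRel.Quotient P α) :
    ∃ a, osumC P ω = 2 ^ a := by
  induction ω using Quotient.inductionOn' with
  | h x =>
    unfold osumC
    rw [orbitRel.Quotient.orbit_mk]
    exact hP.card_orbit x

theorem osum_sum (P : Subgroup (Perm α)) [Fintype (orbitRel.Quotient P α)] :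
    ∑ ω : orbitRel.Quotient P α, osumC P ω = Nat.card α := by
  classical
  have e := MulAction.selfEquivSigmaOrbits' P α
  rw [Nat.card_congr e, Nat.card_sigma]
  rfl

theorem card_le_val_add_orbCount (P : Subgroup (Perm α)) (hP : IsPGroup 2 P) :
    Nat.card α ≤ padicValNat 2 (Nat.card α)! + orbCount P := by
  classical
  have : Fintype (orbitRel.Quotient P α) := Fintype.ofFinite _
  have h := sum_le_val_add_card (osumC P) (osumC_pow P hP)
  rw [osum_sum P] at h
  unfold orbCount
  rw [Nat.card_eq_fintype_card (α := orbitRel.Quotient P α)]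
  exact h

theorem card_lt_val_add_orbCount (P : Subgroup (Perm α)) (hP : IsPGroup 2 P) (x y : α)
    (hxy : orbit P x ≠ orbit P y) (hc : (orbit P x).ncard = (orbit P y).ncard) :
    Nat.card α + 1 ≤ padicValNat 2 (Nat.card α)! + orbCount P := by
  classical
  have : Fintype (orbitRel.Quotient P α) := Fintype.ofFinite _
  have hne : (Quotient.mk'' x : orbitRel.Quotient P α) ≠ Quotient.mk'' y := by
    intro h
    apply hxy
    have h2 : orbitRel.Quotient.orbit (Quotient.mk'' x : orbitRel.Quotient P α)
        = orbitRel.Quotient.orbit (Quotient.mk'' y : orbitRel.Quotient P α) := by rw [h]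
    rwa [orbitRel.Quotient.orbit_mk, orbitRel.Quotient.orbit_mk] at h2
  have h := sum_lt_val_add_card (osumC P) (osumC_pow P hP) _ _ hne
    (by rw [osumC_mk, osumC_mk]; exact hc)
  rw [osum_sum P] at h
  unfold orbCount
  rw [Nat.card_eq_fintype_card (α := orbitRel.Quotient P α)]
  exact h

end Cfsg.Agent.Helper26.AltPron
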