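import Mathlib
import Cfsg.Agent.Helper26.FusionAbelian2
import Cfsg.Agent.Helper25.FusionSat

set_option autoImplicit false
set_option linter.unusedSectionVars false
set_option linter.unusedVariables false
set_option linter.style.haveILetI false

/-! # The fusion system over an abelian group generated by a group of automorphisms -/

namespace Cfsg.Agent.Helper26

open Cfsg Cfsg.FusionSystem Cfsg.Agent.Helper25

variable {Ω : Type*} [Group Ω]

/-- the fusion system over the abelian `S` whose maps are the restrictions of the elements of a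
group `A` of automorphisms of `S` -/
def autSystem (S : Subgroup Ω) (hab : ∀ x ∈ S, ∀ y ∈ S, x * y = y * x)
    (A : Subgroup (MulAut S)) : FusionSystem S where
  Hom P := {φ | ∃ hP : P ≤ S, ∃ α ∈ A, ∀ x : P, φ x = ((α ⟨(x : Ω), hP x.2⟩ : S) : Ω)}
  le_of_mem := by
    rintro P φ ⟨hP, α, -, h⟩
    exact ⟨hP, fun x => (h x).symm ▸ (α _).2⟩
  injective_of_mem := by
    rintro P φ ⟨hP, α, -, h⟩ a b hab'
    rw [h a, h b] at hab'
    have h1 := α.injective (Subtype.ext hab')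
    have h2 : (a : Ω) = b := congrArg (fun s : S => (s : Ω)) h1
    exact Subtype.ext h2
  conj_mem := by
    intro P g hP hg
    refine ⟨hP, 1, A.one_mem, fun x => ?_⟩
    show g * (x : Ω) * g⁻¹ = x
    rw [hab g hg x (hP x.2), mul_inv_cancel_right]
  comp_mem := by
    rintro P Q φ ψ ⟨hP, α, hα, hφ⟩ ⟨hQ, β, hβ, hψ⟩ h
    refine ⟨hP, β * α, A.mul_mem hβ hα, fun x => ?_⟩
    show ψ (φ.codRestrict Q h x) = _
    rw [hψ]
    show ((β ⟨φ x, _⟩ : S) : Ω) = ((β (α _) : S) : Ω)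
    congr 2
    exact Subtype.ext (hφ x)
  inv_mem := by
    rintro P φ ⟨hP, α, hα, hφ⟩
    have hr : φ.range ≤ S := by
      rintro _ ⟨x, rfl⟩
      rw [hφ]
      exact (α _).2
    refine ⟨⟨⟨fun y : φ.range => ((α⁻¹ ⟨(y : Ω), hr y.2⟩ : S) : Ω), ?_⟩, ?_⟩, ⟨hr, α⁻¹, A.inv_mem hα, fun y => rfl⟩, ?_⟩
    · show ((α⁻¹ ⟨((1 : φ.range) : Ω), _⟩ : S) : Ω) = 1
      have : (⟨((1 : φ.range) : Ω), hr (1 : φ.range).2⟩ : S) = 1 := Subtype.ext rfl
      rw [this, map_one]
      rfl
    · intro a b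
      show ((α⁻¹ ⟨((a * b : φ.range) : Ω), _⟩ : S) : Ω) = _
      have : (⟨((a * b : φ.range) : Ω), hr (a * b).2⟩ : S) =
          ⟨(a : Ω), hr a.2⟩ * ⟨(b : Ω), hr b.2⟩ := Subtype.ext rfl
      rw [this, map_mul]
      rfl
    · intro x
      show ((α⁻¹ ⟨φ x, _⟩ : S) : Ω) = x
      have : (⟨φ x, hr ⟨x, rfl⟩⟩ : S) = α ⟨(x : Ω), hP x.2⟩ := Subtype.ext (hφ x)
      rw [this]
      simp

theorem mem_autSystem_hom {S : Subgroup Ω} {hab : ∀ x ∈ S, ∀ y ∈ S, x * y = y * x}
    {A : Subgroup (MulAut S)} {P : Subgroup Ω} {φ : P →* Ω} :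
    φ ∈ (autSystem S hab A).Hom P ↔
      ∃ hP : P ≤ S, ∃ α ∈ A, ∀ x : P, φ x = ((α ⟨(x : Ω), hP x.2⟩ : S) : Ω) := Iff.rfl

/-- powers of a restricted automorphism -/
theorem restrict_pow {S : Subgroup Ω} {P : Subgroup Ω} (hP : P ≤ S) (β : MulAut P) (α : MulAut S)
    (h : ∀ x : P, ((β x : P) : Ω) = ((α ⟨(x : Ω), hP x.2⟩ : S) : Ω)) (k : ℕ) :
    ∀ x : P, (((β ^ k) x : P) : Ω) = (((α ^ k) ⟨(x : Ω), hP x.2⟩ : S) : Ω) := by
  induction k with
  | zero => intro x; simp
  | succ k ih =>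
    intro x
    rw [pow_succ, pow_succ, MulAut.mul_apply, MulAut.mul_apply, ih (β x)]
    congr 2
    exact Subtype.ext (h x)

theorem autSystem_isSaturated {S : Subgroup Ω} [Finite S] (p : ℕ) [hp : Fact p.Prime]
    (hab : ∀ x ∈ S, ∀ y ∈ S, x * y = y * x) (A : Subgroup (MulAut S))
    (hA : (Nat.card A).Coprime p) : (autSystem S hab A).IsSaturated p := by
  intro P hP
  have hfinP : Finite P := finite_of_le hP
  refine ⟨P, isConj_refl _ hP, ?_, ?_⟩
  · rw [isFullyAutomized_iff_card _ p hP]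
    have h1 : autInducedBy S P = ⊥ := by
      rw [eq_bot_iff]
      intro α hα
      rw [mem_autInducedBy_iff] at hα
      obtain ⟨g, hg, h⟩ := hα
      rw [Subgroup.mem_bot]
      ext x
      rw [h x, hab g hg x (hP x.2), mul_inv_cancel_right]
      rfl
    rw [h1, Subgroup.card_bot]
    have h2 : ¬ p ∣ Nat.card ((autSystem S hab A).autGroup P) := by
      intro hdvd
      obtain ⟨β, hβ⟩ := exists_prime_orderOf_dvd_card' p hdvd
      have hβm : (β : MulAut P) ∈ (autSystem S hab A).autGroup P := β.2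
      rw [mem_autGroup_iff _ hP] at hβm
      obtain ⟨_, α, hα, hαβ⟩ := mem_autSystem_hom.mp hβm
      have hpow := restrict_pow hP (β : MulAut P) α hαβ (Nat.card A)
      have hαN : α ^ Nat.card A = 1 := by
        have := pow_card_eq_one' (G := A) (x := ⟨α, hα⟩)
        exact congrArg Subtype.val this
      have hβN : (β : MulAut P) ^ Nat.card A = 1 := by
        ext x
        rw [hpow x, hαN]
        rfl
      have hβN' : β ^ Nat.card A = 1 := Subtype.ext hβN
      have hdvd2 : p ∣ Nat.card A := hβ ▸ orderOf_dvd_of_pow_eq_one hβN'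
      exact hp.out.one_lt.ne' (Nat.Coprime.eq_one_of_dvd hA.symm hdvd2)
    unfold pPart
    rw [Nat.factorization_eq_zero_of_not_dvd h2, pow_zero]
  · refine ⟨hP, ?_⟩
    rintro P' φ ⟨hP', α, hα, hφ⟩ hr
    have hle : extender S P' φ ≤ S := (extender_le_normalizerIn P' φ).trans inf_le_left
    refine ⟨(S.subtype.comp α.toMonoidHom).comp (Subgroup.inclusion hle),
      ⟨hle, α, hα, fun x => rfl⟩, ?_⟩
    intro x hxP hxN
    rw [hφ]
    rfl

/-- strongly closed subgroups of `autSystem` are invariant under `A` -/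
theorem autSystem_stronglyClosed_apply {S : Subgroup Ω}
    {hab : ∀ x ∈ S, ∀ y ∈ S, x * y = y * x} {A : Subgroup (MulAut S)} {T : Subgroup Ω}
    (hT : (autSystem S hab A).StronglyClosed T) {α : MulAut S} (hα : α ∈ A) (x : S)
    (hx : (x : Ω) ∈ T) : ((α x : S) : Ω) ∈ T := by
  have hTS : T ≤ S := hT.1
  have hφ : (S.subtype.comp α.toMonoidHom).comp (Subgroup.inclusion hTS) ∈
      (autSystem S hab A).Hom T := ⟨hTS, α, hα, fun x => rfl⟩
  exact hT.2 T le_rfl _ hφ ⟨x, hx⟩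

end Cfsg.Agent.Helper26
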