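import Mathlib
import Cfsg.Agent.Helper26.AutSystem

set_option autoImplicit false
set_option linter.unusedSectionVars false
set_option linter.unusedVariables false
set_option linter.style.haveILetI false

/-! # No supersoluble chain when some automorphism acts "irreducibly" on a subgroup of exponent `p` -/

namespace Cfsg.Agent.Helper26

open Cfsg Cfsg.FusionSystem Cfsg.Agent.Helper25 Subgroup

/-- a subgroup meeting `D` trivially and contained in `D⟨x⟩` is cyclic -/
theorem isCyclic_of_inf_eq_bot_of_le_sup {G : Type*} [CommGroup G] (L D : Subgroup G) (x : G)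
    (hLD : L ⊓ D = ⊥) (hle : L ≤ D ⊔ zpowers x) : IsCyclic L := by
  let f : L →* zpowers (QuotientGroup.mk' D x) :=
    ((QuotientGroup.mk' D).comp L.subtype).codRestrict _ (by
      intro l
      obtain ⟨d, hd, z, hz, hdz⟩ := Subgroup.mem_sup.mp (hle l.2)
      obtain ⟨k, rfl⟩ := hz
      rw [MonoidHom.comp_apply, Subgroup.coe_subtype, ← hdz, map_mul, map_zpow]
      have : QuotientGroup.mk' D d = 1 := (QuotientGroup.eq_one_iff d).mpr hd
      rw [this, one_mul]
      exact zpow_mem (mem_zpowers _) k)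
  apply isCyclic_of_injective f
  rw [injective_iff_map_eq_one]
  intro l hl
  have h1 : QuotientGroup.mk' D (l : G) = 1 := congrArg Subtype.val hl
  have h2 : (l : G) ∈ D := (QuotientGroup.eq_one_iff _).mp h1
  have h3 : (l : G) ∈ L ⊓ D := ⟨l.2, h2⟩
  rw [hLD, mem_bot] at h3
  exact Subtype.ext h3

/-- in a finite cyclic group of exponent `p`, every nontrivial element generates -/
theorem mem_zpowers_of_isCyclic_of_exp {C : Type*} [Group C] [Finite C] [IsCyclic C] {p : ℕ}
    (hp : p.Prime) (hexp : ∀ c : C, c ^ p = 1) (w : C) (hw : w ≠ 1) (v : C) :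
    v ∈ zpowers w := by
  obtain ⟨g, hg⟩ := IsCyclic.exists_generator (α := C)
  have hcard : Nat.card C = orderOf g := by
    rw [← Nat.card_zpowers]
    have : zpowers g = ⊤ := by
      rw [eq_top_iff]; intro y _; exact hg y
    rw [this, card_top]
  have hdvd : Nat.card C ∣ p := hcard ▸ orderOf_dvd_of_pow_eq_one (hexp g)
  have hw' : orderOf w ∣ p := orderOf_dvd_of_pow_eq_one (hexp w)
  have hw1 : orderOf w ≠ 1 := fun h => hw (orderOf_eq_one_iff.mp h)
  have hwp : orderOf w = p := ((Nat.dvd_prime hp).mp hw').resolve_left hw1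
  have hCp : Nat.card C = p := by
    rcases (Nat.dvd_prime hp).mp hdvd with h | h
    · exfalso
      have : Subsingleton C := (Nat.card_eq_one_iff_unique.mp h).1
      exact hw (Subsingleton.elim _ _)
    · exact h
  have : zpowers w = ⊤ := by
    apply eq_top_of_card_eq
    rw [Nat.card_zpowers, hwp, hCp]
  rw [this]
  exact mem_top v

variable {Ω : Type*} [Group Ω]

theorem no_chain_of_irreducible {S : Subgroup Ω} [Finite S] (p : ℕ) [hp : Fact p.Prime]
    (hab : ∀ x ∈ S, ∀ y ∈ S, x * y = y * x) (α₀ : MulAut S)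
    (W : Subgroup S) (hW1 : W ≠ ⊥) (hWp : ∀ w ∈ W, w ^ p = 1) (hWinv : ∀ w ∈ W, α₀ w ∈ W)
    (hirr : ∀ w ∈ W, w ≠ 1 → α₀ w ∉ zpowers w) :
    ¬ ∃ (m : ℕ) (c : Fin (m + 1) → Subgroup Ω), c 0 = ⊥ ∧ c (Fin.last m) = S ∧
      (∀ i : Fin (m + 1), (autSystem S hab (zpowers α₀)).StronglyClosed (c i)) ∧
      ∀ i : Fin m, c i.castSucc ≤ c i.succ ∧ ∃ x ∈ S, c i.succ = c i.castSucc ⊔ zpowers x := by
  rintro ⟨m, c, h0, hlast, hsc, hstep⟩
  letI : CommGroup S :=
    { (inferInstance : Group S) with mul_comm := fun a b => Subtype.ext (hab a a.2 b b.2) }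
  have key : ∀ i : Fin (m + 1), ∀ w ∈ W, (w : Ω) ∈ c i → w = 1 := by
    intro i
    induction i using Fin.induction with
    | zero =>
      intro w _ hw
      rw [h0, mem_bot] at hw
      exact Subtype.ext hw
    | succ i ih =>
      intro w hwW hwc
      by_contra hw1
      obtain ⟨hle, x, hxS, hx⟩ := hstep i
      obtain ⟨L, hL⟩ : ∃ L : Subgroup S, L = W ⊓ (c i.succ).subgroupOf S := ⟨_, rfl⟩
      obtain ⟨D, hD⟩ : ∃ D : Subgroup S, D = (c i.castSucc).subgroupOf S := ⟨_, rfl⟩
      have hLD : L ⊓ D = ⊥ := by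
        rw [eq_bot_iff]
        intro y hy
        rw [mem_bot]
        rw [hL, hD] at hy
        exact ih y hy.1.1 (mem_subgroupOf.mp hy.2)
      have hLle : L ≤ D ⊔ zpowers (⟨x, hxS⟩ : S) := by
        intro y hy
        rw [hL] at hy
        have hy2 : (y : Ω) ∈ c i.castSucc ⊔ zpowers x := hx ▸ mem_subgroupOf.mp hy.2
        -- pull back to `S`
        have hmap : (D ⊔ zpowers (⟨x, hxS⟩ : S)).map S.subtype = c i.castSucc ⊔ zpowers x := by
          rw [Subgroup.map_sup, MonoidHom.map_zpowers, hD, subgroupOf_map_subtype]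
          have hcS : c i.castSucc ≤ S := (hsc i.castSucc).1
          rw [inf_eq_left.mpr hcS]
          rfl
        rw [← hmap] at hy2
        obtain ⟨y', hy', hyy⟩ := hy2
        have : y' = y := Subtype.ext hyy
        rw [← this]
        exact hy'
      have hcyc : IsCyclic L := isCyclic_of_inf_eq_bot_of_le_sup L D _ hLD hLle
      have hwL : w ∈ L := by
        rw [hL]
        exact ⟨hwW, mem_subgroupOf.mpr hwc⟩
      have hαwL : α₀ w ∈ L := by
        rw [hL]
        refine ⟨hWinv w hwW, mem_subgroupOf.mpr ?_⟩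
        exact autSystem_stronglyClosed_apply (hsc i.succ) (mem_zpowers α₀) w hwc
      have hexp : ∀ l : L, l ^ p = 1 := by
        intro l
        apply Subtype.ext
        have hlW : (l : S) ∈ W := by
          have h1 : (l : S) ∈ W ⊓ (c i.succ).subgroupOf S := hL ▸ l.2
          exact h1.1
        simpa using hWp l hlW
      have hmem := mem_zpowers_of_isCyclic_of_exp hp.out hexp ⟨w, hwL⟩
        (fun h => hw1 (congrArg Subtype.val h)) ⟨α₀ w, hαwL⟩
      apply hirr w hwW hw1
      obtain ⟨k, hk⟩ := hmem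
      refine ⟨k, ?_⟩
      have := congrArg Subtype.val hk
      simpa using this
  apply hW1
  rw [eq_bot_iff]
  intro w hw
  rw [mem_bot]
  apply key (Fin.last m) w hw
  rw [hlast]
  exact w.2

end Cfsg.Agent.Helper26
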