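import Mathlib
import Cfsg.Agent.Helper26.CF1
import Cfsg.Agent.Helper26.TH2
import Cfsg.Agent.Helper9.PResidual
import Cfsg.Agent.Helper9.S4Section
import Cfsg.Agent.Helper10.ThompsonNPC
import Cfsg.Agent.Helper10.IndexP
import Cfsg.Agent.S2800

set_option autoImplicit false

/-! The strengthened Frobenius criterion (Thompson): if `p` is odd or `G` is `S₄`-free and
`N_G(U)/C_G(U)` is a `p`-group for every nontrivial characteristic subgroup `U` of a Sylow
`p`-subgroup, then `G` has a normal `p`-complement. -/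

namespace Cfsg.Agent.Helper26.CF

open Cfsg Subgroup Cfsg.Agent.Lead.TNC Cfsg.Agent.Helper26.TH

universe u

variable {p : ℕ} [Fact p.Prime]

/-- Elements of order prime to `p` normalizing the image of a nontrivial characteristic subgroup
centralize it. -/
def CharHyp (p : ℕ) {P G : Type*} [Group P] [Group G] (ι : P →* G) : Prop :=
  ∀ U : Subgroup P, U ≠ ⊥ → U.Characteristic →
    ∀ g ∈ normalizer ((U.map ι : Subgroup G) : Set G), (orderOf g).Coprime p →
      g ∈ centralizer ((U.map ι : Subgroup G) : Set G)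

theorem fc_top_characteristic (Fc : CharFunctor.{u} p) (P : Type u) [Group P] :
    (Fc.W (⊤ : Subgroup P)).Characteristic := by
  rw [Subgroup.characteristic_iff_map_eq]
  intro φ
  have h := Fc.map φ.toMonoidHom (⊤ : Subgroup P) φ.injective.injOn
  rw [Subgroup.map_top_of_surjective φ.toMonoidHom φ.surjective] at h
  exact h.symm

/-- The hypothesis passes to subgroups containing the image. -/
theorem charHyp_sub {P G : Type*} [Group P] [Group G] (ι : P →* G) (M : Subgroup G)
    (hM : ∀ x : P, ι x ∈ M) (hA : CharHyp p ι) : CharHyp p (ι.codRestrict M hM) := by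
  intro U hU hUc g hg hcop
  have hmap : (U.map (ι.codRestrict M hM)).map M.subtype = U.map ι := by
    rw [Subgroup.map_map]
    rfl
  have h1 : (g : G) ∈ normalizer ((U.map ι : Subgroup G) : Set G) := by
    have h2 := Subgroup.le_normalizer_map M.subtype ⟨g, hg, rfl⟩
    rw [hmap] at h2
    exact h2
  have h3 := hA U hU hUc (g : G) h1 (by rw [Subgroup.orderOf_coe]; exact hcop)
  rw [mem_centralizer_iff]
  intro y hy
  apply Subtype.ext
  have h4 : (y : G) ∈ U.map ι := by
    rw [← hmap]
    exact ⟨y, hy, rfl⟩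
  exact mem_centralizer_iff.mp h3 (y : G) h4

/-- The hypothesis passes to the quotient by the image of a characteristic subgroup. -/
theorem charHyp_quot {P G : Type*} [Group P] [Group G] [Finite G] (ι : P →* G)
    (hinj : Function.Injective ι) (ZP : Subgroup P) [hZc : ZP.Characteristic]
    (Zg : Subgroup G) [Zg.Normal] (hZg : Zg = ZP.map ι) (hle : ZP ≤ Zg.comap ι)
    (hA : CharHyp p ι) : CharHyp p (QuotientGroup.map ZP Zg ι hle) := by
  intro Ub hUb hUbc gb hgb hcop
  have hsurjP := QuotientGroup.mk'_surjective ZP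
  have hsurjG := QuotientGroup.mk'_surjective Zg
  -- the preimage of `Ub`
  have hU1 : Ub.comap (QuotientGroup.mk' ZP) ≠ ⊥ := by
    intro h
    apply hUb
    rw [eq_bot_iff]
    intro xb hxb
    obtain ⟨x, rfl⟩ := hsurjP xb
    have h1 : x ∈ Ub.comap (QuotientGroup.mk' ZP) := hxb
    rw [h, mem_bot] at h1
    rw [h1, map_one]
    exact Subgroup.one_mem _
  have hUc : (Ub.comap (QuotientGroup.mk' ZP)).Characteristic := by
    rw [Subgroup.characteristic_iff_comap_eq]
    intro φ
    have hφ : ZP.map (φ : P →* P) = ZP := Subgroup.characteristic_iff_map_eq.mp hZc φ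
    have h1 := Subgroup.characteristic_iff_comap_eq.mp hUbc (QuotientGroup.congr ZP ZP φ hφ)
    ext x
    rw [Subgroup.mem_comap, Subgroup.mem_comap, Subgroup.mem_comap]
    have h2 : QuotientGroup.mk' ZP (φ.toMonoidHom x) =
        (QuotientGroup.congr ZP ZP φ hφ).toMonoidHom (QuotientGroup.mk' ZP x) :=
      (QuotientGroup.congr_mk ZP ZP φ hφ x).symm
    rw [h2, ← Subgroup.mem_comap, h1]
  have hZU : ZP ≤ Ub.comap (QuotientGroup.mk' ZP) := by
    intro z hz
    rw [Subgroup.mem_comap]
    have : QuotientGroup.mk' ZP z = 1 := (QuotientGroup.eq_one_iff z).mpr hz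
    rw [this]
    exact Subgroup.one_mem _
  -- the image of the preimage
  have hmap : (Ub.comap (QuotientGroup.mk' ZP)).map ι =
      (Ub.map (QuotientGroup.map ZP Zg ι hle)).comap (QuotientGroup.mk' Zg) := by
    ext y
    rw [Subgroup.mem_comap]
    constructor
    · rintro ⟨u, hu, rfl⟩
      exact ⟨QuotientGroup.mk' ZP u, hu, QuotientGroup.map_mk ZP Zg ι hle u⟩
    · rintro ⟨ub, hub, he⟩
      obtain ⟨u, rfl⟩ := hsurjP ub
      have h1 : QuotientGroup.mk' Zg (ι u) = QuotientGroup.mk' Zg y := by
        rw [← he]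
        exact (QuotientGroup.map_mk ZP Zg ι hle u).symm
      have h2 : (ι u)⁻¹ * y ∈ Zg := QuotientGroup.eq.mp h1
      rw [hZg] at h2
      obtain ⟨z, hz, hze⟩ := h2
      refine ⟨u * z, Subgroup.mul_mem _ hub (hZU hz), ?_⟩
      rw [map_mul, hze]
      group
  obtain ⟨g, rfl, hgcop⟩ := Cfsg.Agent.Helper10.exists_coprime_lift (p := p)
    (QuotientGroup.mk' Zg) hsurjG gb hcop
  have hgN : g ∈ normalizer (((Ub.comap (QuotientGroup.mk' ZP)).map ι : Subgroup G) : Set G) := by
    rw [hmap, ← Subgroup.comap_normalizer_eq_of_surjective _ hsurjG]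
    exact hgb
  have hgC := hA _ hU1 hUc g hgN hgcop
  rw [mem_centralizer_iff]
  intro xb hxb
  obtain ⟨y, rfl⟩ := hsurjG xb
  have hy : y ∈ (Ub.comap (QuotientGroup.mk' ZP)).map ι := by
    rw [hmap]
    exact hxb
  have h1 := mem_centralizer_iff.mp hgC y hy
  rw [← map_mul, ← map_mul, h1]

/-- **The strengthened Frobenius criterion.** -/
theorem npc_of_charHyp : ∀ (n : ℕ) (P : Type u) [Group P] [Finite P] (G : Type u) [Group G]
    [Finite G], Nat.card G = n → ∀ (ι : P →* G), Function.Injective ι → ∀ T : Sylow p G,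
    (T : Subgroup G) = ι.range → (p ≠ 2 ∨ ¬ Involves (Equiv.Perm (Fin 4)) G) → CharHyp p ι →
    HasNormalPComplement p G := by
  intro n
  induction n using Nat.strong_induction_on with
  | _ n IH =>
  intro P _ _ G _ _ hn ι hinj T hT hfree hA
  by_cases hT1 : (T : Subgroup G) = ⊥
  · exact npc_of_sylow_eq_bot T hT1
  have hPp : IsPGroup p P := by
    have h1 : IsPGroup p ι.range := hT ▸ T.2
    exact h1.of_injective ι.rangeRestrict (MonoidHom.rangeRestrict_injective_iff.mpr hinj)
  have htop : (⊤ : Subgroup P) ≠ ⊥ := by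
    intro h
    apply hT1
    rw [hT, MonoidHom.range_eq_map, h, Subgroup.map_bot]
  have hZPc : ((zFunctor.{u} p).W (⊤ : Subgroup P)).Characteristic :=
    fc_top_characteristic _ P
  have hJPc : ((jAFunctor.{u} p).W (⊤ : Subgroup P)).Characteristic :=
    fc_top_characteristic _ P
  have hZPne : (zFunctor.{u} p).W (⊤ : Subgroup P) ≠ ⊥ :=
    (zFunctor.{u} p).ne_bot ⊤ (hPp.to_subgroup ⊤) htop
  have hJPne : (jAFunctor.{u} p).W (⊤ : Subgroup P) ≠ ⊥ :=
    (jAFunctor.{u} p).ne_bot ⊤ (hPp.to_subgroup ⊤) htop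
  have hZmap : ((zFunctor.{u} p).W (⊤ : Subgroup P)).map ι =
      (T : Subgroup G) ⊓ centralizer ((T : Subgroup G) : Set G) := by
    have h := (zFunctor.{u} p).map ι (⊤ : Subgroup P) hinj.injOn
    rw [← MonoidHom.range_eq_map, ← hT] at h
    exact h.symm
  have hJmap : ((jAFunctor.{u} p).W (⊤ : Subgroup P)).map ι =
      Cfsg.thompsonSubgroupAOf (T : Subgroup G) := by
    have h := (jAFunctor.{u} p).map ι (⊤ : Subgroup P) hinj.injOn
    rw [← MonoidHom.range_eq_map, ← hT] at h
    exact h.symm
  have hTC : (T : Subgroup G) ≤ centralizer ((((T : Subgroup G) ⊓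
      centralizer ((T : Subgroup G) : Set G) : Subgroup G)) : Set G) := by
    intro x hx
    rw [mem_centralizer_iff]
    intro z hz
    exact (mem_centralizer_iff.mp hz.2 x hx).symm
  have hTN : (T : Subgroup G) ≤
      normalizer ((Cfsg.thompsonSubgroupAOf (T : Subgroup G) : Subgroup G) : Set G) :=
    Subgroup.le_normalizer.trans ((jAFunctor.{u} p).normalizer_le (T : Subgroup G))
  -- the inductive step for subgroups containing `T`
  have hsub : ∀ M : Subgroup G, (T : Subgroup G) ≤ M → M ≠ ⊤ → HasNormalPComplement p M := by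
    intro M hTM hMtop
    have hlt : Nat.card M < n := hn ▸ card_lt_of_ne_top hMtop
    have hM : ∀ x : P, ι x ∈ M := fun x => hTM (hT ▸ ⟨x, rfl⟩)
    refine IH _ hlt P M rfl (ι.codRestrict M hM) ?_ (T.subtype hTM) ?_ ?_ (charHyp_sub ι M hM hA)
    · intro x y hxy
      apply hinj
      exact congrArg (fun z : M => (z : G)) hxy
    · rw [Sylow.coe_subtype]
      ext y
      rw [mem_subgroupOf, hT]
      constructor
      · rintro ⟨x, hx⟩
        exact ⟨x, Subtype.ext hx⟩
      · rintro ⟨x, rfl⟩
        exact ⟨x, rfl⟩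
    · rcases hfree with h | h
      · exact Or.inl h
      · exact Or.inr (fun hinv => h (Cfsg.Agent.Helper9.S4Sec.involves_of_subgroup M hinv))
  by_cases hC : centralizer ((((T : Subgroup G) ⊓
      centralizer ((T : Subgroup G) : Set G) : Subgroup G)) : Set G) = ⊤
  · -- the centre of `T` is central: pass to the quotient
    have hZcen : ((zFunctor.{u} p).W (⊤ : Subgroup P)).map ι ≤ Subgroup.center G := by
      rw [hZmap]
      intro z hz
      rw [Subgroup.mem_center_iff]
      intro x
      have hx : x ∈ centralizer ((((T : Subgroup G) ⊓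
          centralizer ((T : Subgroup G) : Set G) : Subgroup G)) : Set G) := by
        rw [hC]
        exact mem_top x
      exact (mem_centralizer_iff.mp hx z hz).symm
    haveI hZn : (((zFunctor.{u} p).W (⊤ : Subgroup P)).map ι).Normal := by
      constructor
      intro z hz x
      have h1 := (Subgroup.mem_center_iff.mp (hZcen hz)) x
      have h2 : x * z * x⁻¹ = z := by
        rw [h1]
        group
      rw [h2]
      exact hz
    haveI := hZPc
    have hle : (zFunctor.{u} p).W (⊤ : Subgroup P) ≤
        (((zFunctor.{u} p).W (⊤ : Subgroup P)).map ι).comap ι := Subgroup.le_comap_map _ _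
    have hZgne : ((zFunctor.{u} p).W (⊤ : Subgroup P)).map ι ≠ ⊥ := by
      intro h
      apply hZPne
      rwa [Subgroup.map_eq_bot_iff_of_injective _ hinj] at h
    have hlt : Nat.card (G ⧸ ((zFunctor.{u} p).W (⊤ : Subgroup P)).map ι) < n :=
      hn ▸ Cfsg.Agent.Helper10.card_quotient_lt_of_ne_bot hZgne
    have hsurj := QuotientGroup.mk'_surjective (((zFunctor.{u} p).W (⊤ : Subgroup P)).map ι)
    have hnpcQ : HasNormalPComplement p (G ⧸ ((zFunctor.{u} p).W (⊤ : Subgroup P)).map ι) := by
      refine IH _ hlt (P ⧸ (zFunctor.{u} p).W (⊤ : Subgroup P)) _ rfl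
        (QuotientGroup.map _ _ ι hle) ?_ (T.mapSurjective hsurj) ?_ ?_
        (charHyp_quot ι hinj _ _ rfl hle hA)
      · rw [injective_iff_map_eq_one]
        intro xb hxb
        obtain ⟨x, rfl⟩ := QuotientGroup.mk'_surjective _ xb
        have h1 := QuotientGroup.map_mk _ (((zFunctor.{u} p).W (⊤ : Subgroup P)).map ι) ι hle x
        have h2 : ((ι x : G) : G ⧸ ((zFunctor.{u} p).W (⊤ : Subgroup P)).map ι) = 1 :=
          h1.symm.trans hxb
        rw [QuotientGroup.eq_one_iff] at h2
        obtain ⟨z, hz, hze⟩ := h2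
        have h3 := hinj hze
        rw [← h3]
        exact (QuotientGroup.eq_one_iff z).mpr hz
      · rw [Sylow.coe_mapSurjective, hT]
        ext y
        constructor
        · rintro ⟨_, ⟨x, rfl⟩, rfl⟩
          exact ⟨QuotientGroup.mk' _ x, QuotientGroup.map_mk _ _ ι hle x⟩
        · rintro ⟨xb, rfl⟩
          obtain ⟨x, rfl⟩ := QuotientGroup.mk'_surjective _ xb
          exact ⟨ι x, ⟨x, rfl⟩, (QuotientGroup.map_mk _ _ ι hle x).symm⟩
      · rcases hfree with h | h
        · exact Or.inl h
        · exact Or.inr (fun hinv => h (Cfsg.Agent.Helper9.S4Sec.involves_of_quotient _ hinv))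
    have hZp : IsPGroup p ↥(((zFunctor.{u} p).W (⊤ : Subgroup P)).map ι) := by
      apply T.2.to_le
      rw [hZmap]
      exact inf_le_left
    exact npc_of_central_quotient _ hZcen hZp hnpcQ
  · by_cases hN : normalizer ((Cfsg.thompsonSubgroupAOf (T : Subgroup G) : Subgroup G) : Set G) = ⊤
    · exfalso
      apply hC
      rw [eq_top_iff, ← Cfsg.Agent.Helper9.sylow_sup_pResidual T]
      apply sup_le hTC
      unfold Cfsg.pResidual
      rw [Subgroup.closure_le]
      intro g hg
      have hg' : (orderOf g).Coprime p := hg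
      have hgN : g ∈ normalizer
          ((((jAFunctor.{u} p).W (⊤ : Subgroup P)).map ι : Subgroup G) : Set G) := by
        rw [hJmap, hN]
        exact mem_top g
      have h1 := hA _ hJPne hJPc g hgN hg'
      rw [hJmap] at h1
      haveI : Finite (T : Subgroup G) := inferInstance
      exact Subgroup.centralizer_le (center_le_thompsonSubgroupAOf (T : Subgroup G)) h1
    · exact Cfsg.Agent.S2800.result T hfree (hsub _ hTC hC) (hsub _ hTN hN)

end Cfsg.Agent.Helper26.CF
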