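import Mathlib
import Cfsg.Agent.Helper26.CF2

set_option autoImplicit false

/-! The strengthened Frobenius criterion for fusion systems. -/

namespace Cfsg.Agent.Helper26.CF

open Cfsg Cfsg.FusionSystem Cfsg.Agent.Helper25 Cfsg.Agent.Helper26.MasterRed
  Cfsg.Agent.Lead.TNC Cfsg.Agent.Helper26.TH

universe u

/-- The local predicate: the automizers of the nontrivial characteristic subgroups are
`p`-groups. -/
def CharAut (p : ℕ) : ∀ (Ω : Type u) [Group Ω] (S : Subgroup Ω), FusionSystem S → Prop :=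
  fun Ω _ S F => ∀ Q : Subgroup Ω, Q ≤ S → Q ≠ ⊥ → (Q.subgroupOf S).Characteristic →
    IsPGroup p (F.autGroup Q)

section Main

variable {p : ℕ} [Fact p.Prime] {Ω : Type u} [Group Ω] {S : Subgroup Ω}

theorem char_of_eq {A B Q : Subgroup Ω} (h : A = B) (hc : (Q.subgroupOf A).Characteristic) :
    (Q.subgroupOf B).Characteristic := by
  subst h
  exact hc

theorem charAut_norm (F : FusionSystem S) {U : Subgroup Ω} (hU : U ≤ S)
    (hSN : S ≤ Subgroup.normalizer (U : Set Ω)) (h : CharAut p Ω S F) :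
    CharAut p Ω (normalizerIn S U) (normalizerSystem F U hU) := by
  have hNS : normalizerIn S U = S := le_antisymm inf_le_left (fun x hx => ⟨hx, hSN hx⟩)
  intro Q hQ hQ1 hQc
  have hQS : Q ≤ S := hQ.trans inf_le_left
  have h1 := h Q hQS hQ1 (char_of_eq hNS hQc)
  apply h1.to_le
  intro α hα
  rw [mem_autGroup_iff _ hQ] at hα
  rw [mem_autGroup_iff F hQS]
  rw [normalizerSystem_isNormalizerSystem F U hU Q] at hα
  exact hα.1

/-- In a group realizing the system, elements of order prime to `p` normalizing the image of a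
nontrivial characteristic subgroup centralize it. -/
theorem charHyp_of_realized [Finite S] {G : Type*} [Group G] (F : FusionSystem S) (ι : S →* G)
    (hreal : F.IsRealizedBy ι) (h : CharAut p Ω S F) : CharHyp p ι := by
  intro U hU hUc g hg hcop
  have hinj := hreal.1
  have hVS : U.map S.subtype ≤ S := by
    rintro _ ⟨u, -, rfl⟩
    exact u.2
  have hV1 : U.map S.subtype ≠ ⊥ := by
    intro h0
    apply hU
    rwa [Subgroup.map_eq_bot_iff_of_injective _ S.subtype_injective] at h0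
  have hVsub : (U.map S.subtype).subgroupOf S = U :=
    Subgroup.comap_map_eq_self_of_injective S.subtype_injective U
  have hVc : ((U.map S.subtype).subgroupOf S).Characteristic := by
    rw [hVsub]
    exact hUc
  have hpg := h _ hVS hV1 hVc
  have hVfin : Finite (U.map S.subtype : Subgroup Ω) := finite_of_le hVS
  have hmemU : ∀ y : ↥(U.map S.subtype), (⟨y, hVS y.2⟩ : S) ∈ U := by
    intro y
    obtain ⟨u, hu, hue⟩ := y.2
    have : (⟨y, hVS y.2⟩ : S) = u := Subtype.ext hue.symm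
    rw [this]
    exact hu
  have hgN : ∀ x ∈ U.map ι, g * x * g⁻¹ ∈ U.map ι := fun x hx =>
    ((Subgroup.mem_normalizer_iff.mp hg) x).mp hx
  have hconj : ∀ y : ↥(U.map S.subtype), g * ι ⟨y, hVS y.2⟩ * g⁻¹ ∈ ι.range := by
    intro y
    obtain ⟨u, -, hue⟩ := hgN _ ⟨_, hmemU y, rfl⟩
    exact ⟨u, hue⟩
  obtain ⟨c, hc⟩ : ∃ c : ↥(U.map S.subtype) →* ι.range,
      ∀ y, ((c y : ι.range) : G) = g * ι ⟨y, hVS y.2⟩ * g⁻¹ :=
    ⟨((MulAut.conj g).toMonoidHom.comp (ι.comp (Subgroup.inclusion hVS))).codRestrict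
      ι.range hconj, fun y => rfl⟩
  have hφS : ∀ y, ((realInv ι hinj).comp c) y ∈ S := fun y => realInv_mem ι hinj (c y)
  have hφι : ∀ y, ι ⟨((realInv ι hinj).comp c) y, hφS y⟩ = g * ι ⟨y, hVS y.2⟩ * g⁻¹ := by
    intro y
    rw [← hc y]
    exact apply_realInv ι hinj (c y)
  have hφF : (realInv ι hinj).comp c ∈ F.Hom _ := (hreal.2 _ hVS _ hφS).mpr ⟨g, hφι⟩
  have hφV : ∀ y, ((realInv ι hinj).comp c) y ∈ U.map S.subtype := by
    intro y
    have h1 : ι ⟨((realInv ι hinj).comp c) y, hφS y⟩ ∈ U.map ι := by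
      rw [hφι y]
      exact hgN _ ⟨_, hmemU y, rfl⟩
    obtain ⟨u, hu, hue⟩ := h1
    have h2 := hinj hue
    exact ⟨u, hu, congrArg (fun z : S => (z : Ω)) h2⟩
  have hφinj := F.injective_of_mem hφF
  have hr : ((realInv ι hinj).comp c).range = U.map S.subtype := by
    haveI : Finite ↥((realInv ι hinj).comp c).range :=
      Finite.of_surjective _ ((realInv ι hinj).comp c).rangeRestrict_surjective
    apply Subgroup.eq_of_le_of_card_ge
    · rintro _ ⟨y, rfl⟩
      exact hφV y
    · exact Nat.card_le_card_of_injective ((realInv ι hinj).comp c).rangeRestrict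
        (MonoidHom.rangeRestrict_injective_iff.mpr hφinj)
  obtain ⟨α, hαe⟩ : ∃ α : MulAut ↥(U.map S.subtype),
      α = isoOfHom ((realInv ι hinj).comp c) hφinj hr := ⟨_, rfl⟩
  have hαφ : autHom α = (realInv ι hinj).comp c := by
    ext x
    rw [hαe]
    rfl
  have hαF : α ∈ F.autGroup (U.map S.subtype) := by
    rw [mem_autGroup_iff F hVS, hαφ]
    exact hφF
  obtain ⟨k, hk⟩ := hpg ⟨α, hαF⟩
  have hk' : α ^ (p ^ k) = 1 := congrArg Subtype.val hk
  have hα1 : ∀ y : ↥(U.map S.subtype), ((α y : ↥(U.map S.subtype)) : Ω) =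
      ((realInv ι hinj).comp c) y := by
    intro y
    rw [← hαφ]
    rfl
  have key : ∀ (m : ℕ) (y : ↥(U.map S.subtype)),
      ι ⟨(((α ^ m) y : ↥(U.map S.subtype)) : Ω), hVS ((α ^ m) y).2⟩ =
        g ^ m * ι ⟨y, hVS y.2⟩ * (g ^ m)⁻¹ := by
    intro m
    induction m with
    | zero => intro y; simp
    | succ m ih =>
      intro y
      have e1 : (α ^ (m + 1)) y = (α ^ m) (α y) := by
        rw [pow_succ, MulAut.mul_apply]
      rw [e1, ih (α y)]
      have e2 : ι ⟨((α y : ↥(U.map S.subtype)) : Ω), hVS (α y).2⟩ =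
          g * ι ⟨y, hVS y.2⟩ * g⁻¹ := by
        rw [← hφι y]
        congr 1
        exact Subtype.ext (hα1 y)
      rw [e2, pow_succ]
      group
  have hpk : g ^ (p ^ k) ∈ Subgroup.centralizer ((U.map ι : Subgroup G) : Set G) := by
    rw [Subgroup.mem_centralizer_iff]
    rintro _ ⟨u, hu, rfl⟩
    have huV : (u : Ω) ∈ U.map S.subtype := ⟨u, hu, rfl⟩
    have h1 := key (p ^ k) ⟨u, huV⟩
    rw [hk'] at h1
    have h2 : ι u = g ^ (p ^ k) * ι u * (g ^ (p ^ k))⁻¹ := h1
    calc ι u * g ^ (p ^ k) = (g ^ (p ^ k) * ι u * (g ^ (p ^ k))⁻¹) * g ^ (p ^ k) := by rw [← h2]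
      _ = g ^ (p ^ k) * ι u := by group
  have hcop' : (p ^ k).Coprime (orderOf g) := Nat.Coprime.pow_left k hcop.symm
  obtain ⟨m, hm⟩ := exists_pow_eq_self_of_coprime hcop'
  rw [← hm]
  exact Subgroup.pow_mem _ hpk m

/-- The constrained case. -/
theorem inner_of_constrained_ca [Finite S] (hS : IsPGroup p S) (F : FusionSystem S)
    (hcon : F.IsConstrained p) (hFr : ThFr p Ω S F) (hH0 : CharAut p Ω S F) : Inner F := by
  obtain ⟨hF, Q, hQn, hQc⟩ := hcon
  have hQS : Q ≤ S := hQn.1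
  have hSN : S ≤ Subgroup.normalizer (Q : Set Ω) := le_normalizer_of_isNormal F hQn
  have hQfn : F.IsFullyNormalized Q := isFullyNormalized_of_normal F hQS hSN
  have hE := normalizerSystem_isNormalizerSystem F Q hQS
  haveI hNfin : Finite (normalizerIn S Q) := finite_of_le inf_le_left
  have hNp : IsPGroup p (normalizerIn S Q) := isPGroup_of_le hS inf_le_left
  have hEcon := (normalizerSystem_isConstrained p hS F hF Q hQfn hQc _ hE).1
  obtain ⟨G, hG, ι, hM⟩ := Cfsg.Agent.S5090.result p hNp (normalizerSystem F Q hQS) hEcon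
  have hfree : p ≠ 2 ∨ ¬ Cfsg.Involves (Equiv.Perm (Fin 4)) G := by
    rcases hFr with h | h
    · exact Or.inl h
    · exact Or.inr (h Q hQfn hQc _ hE G ι hM)
  obtain ⟨hfin, hreal, ⟨T, hT⟩, hC⟩ := hM
  have hE0 := charAut_norm F hQS hSN hH0
  have hCH := charHyp_of_realized _ ι hreal hE0
  have hnpc := npc_of_charHyp (Nat.card G) _ G rfl ι hreal.1 T hT hfree hCH
  have hpG : IsPGroup p G := isPGroup_of_npc hnpc hC
  have hTtop : (⊤ : Subgroup G) = (T : Subgroup G) :=
    T.is_maximal' (hpG.to_subgroup ⊤) le_top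
  have hsurj : Function.Surjective ι := by
    rw [← MonoidHom.range_eq_top, ← hT, hTtop]
  have hEin : Inner (normalizerSystem F Q hQS) := inner_of_realized_surjective _ ι hreal hsurj
  have hNI : NInner F Q := (ninner_iff F Q _ hE).mp hEin
  intro P φ hφ
  obtain ⟨g, hg, hx⟩ := hNI P φ (Cfsg.Agent.Helper26.GF.mem_normalizerHom_of_isNormal F hQn hφ)
  exact ⟨g, hg.1, hx⟩

end Main

/-- The hypotheses of the reduction theorem for the strengthened Frobenius criterion. -/
theorem redHyp_ca (p : ℕ) [Fact p.Prime] : RedHyp.{u} p (ThFr.{u} p) (CharAut.{u} p) where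
  fr_norm := (redHyp_th.{u} p).fr_norm
  fr_factor := (redHyp_th.{u} p).fr_factor
  h0_norm := by
    intro Ω _ S _ hS F hF U hU hSN _ h
    exact charAut_norm F hU hSN h
  h0_char := by
    intro Ω _ S _ hS F hF hne _ h Q hQ hQ1 hQc
    exact NInner.autGroup_isPGroup hS hQ (h Q hQ hQ1 hQc)
  constrained := by
    intro Ω _ S _ hS F hcon hFr h
    exact inner_of_constrained_ca hS F hcon hFr h

/-- **The strengthened Frobenius criterion for fusion systems.** -/
theorem inner_of_charAut {p : ℕ} [Fact p.Prime] {Ω : Type u} [Group Ω]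
    {S : Subgroup Ω} [Finite S] (hS : IsPGroup p S) (F : FusionSystem S) (hF : F.IsSaturated p)
    (hp : p ≠ 2 ∨ F.IsSectionFree p (Equiv.Perm (Fin 4)))
    (h : ∀ Q : Subgroup Ω, Q ≤ S → Q ≠ ⊥ → (Q.subgroupOf S).Characteristic →
      IsPGroup p (F.autGroup Q)) : Inner F :=
  master (redHyp_ca.{u} p) (Nat.card S) Ω S rfl hS F hF hp h

end Cfsg.Agent.Helper26.CF
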