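import Mathlib
import Cfsg.Agent.Helper3.CPDefs
import Cfsg.Agent.Helper3.CPBasic
set_option autoImplicit false
set_option linter.unusedSectionVars false

/-!
# S4016, piece CONGa: a Sylow `r`-subgroup normalized by a nontrivial `p`-element has order
`≡ 1 (mod p)` when centralizers of nontrivial `p`-elements are `p`-groups.
-/

namespace Cfsg.Agent.Helper26.CPCONGa
open Subgroup
universe u
variable {G : Type u} [Group G] [Finite G] {p : ℕ} [Fact p.Prime]

/-- an element whose order divides a power of `p` and a power of `r ≠ p` is trivial -/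
lemma eq_one_of_pow_pow {r : ℕ} (hr : r.Prime) (hrp : r ≠ p) (x : G) (k m : ℕ)
    (h1 : x ^ (p ^ k) = 1) (h2 : x ^ (r ^ m) = 1) : x = 1 := by
  have hp : p.Prime := Fact.out
  have d1 : orderOf x ∣ p ^ k := orderOf_dvd_of_pow_eq_one h1
  have d2 : orderOf x ∣ r ^ m := orderOf_dvd_of_pow_eq_one h2
  have hc : (p ^ k).Coprime (r ^ m) :=
    Nat.Coprime.pow k m ((Nat.coprime_primes hp hr).2 (Ne.symm hrp))
  have := Nat.Coprime.eq_one_of_dvd (Nat.Coprime.coprime_dvd_left d1 hc) d2
  exact orderOf_eq_one_iff.1 this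

end Cfsg.Agent.Helper26.CPCONGa

namespace Cfsg.Agent.Helper3.CP
open Subgroup
universe u
variable {G : Type u} [Group G] [Finite G] {p : ℕ} [Fact p.Prime]

/-- CONGa -/
theorem card_sylow_modEq_one (P : Sylow p G) (d : ℕ) (hL : Loc p P ⊥ d)
    (r : ℕ) [Fact r.Prime] (hrp : r ≠ p) (R : Sylow r G) (u : G)
    (hu : u ∈ normalizer ((R : Subgroup G) : Set G)) (hu1 : u ≠ 1)
    (huo : ∃ k : ℕ, orderOf u = p ^ k) :
    Nat.card ↥(R : Subgroup G) ≡ 1 [MOD p] := by
  have hp : p.Prime := Fact.out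
  have hr : r.Prime := Fact.out
  obtain ⟨k, hk⟩ := huo
  -- `u` lies in a conjugate of `P`
  have hUp : IsPGroup p ↥(zpowers u) := by
    apply IsPGroup.of_card (n := k)
    rw [Nat.card_zpowers, hk]
  obtain ⟨Q, hQ⟩ := hUp.exists_le_sylow
  obtain ⟨g, hg⟩ := MulAction.exists_smul_eq G P Q
  have huQ : u ∈ (Q : Subgroup G) := hQ (mem_zpowers u)
  have hy : g⁻¹ * u * g ∈ (P : Subgroup G) := by
    rw [← hg, Sylow.smul_def, Sylow.pointwise_smul_def,
      Subgroup.mem_pointwise_smul_iff_inv_smul_mem] at huQ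
    simpa [MulAut.smul_def] using huQ
  have hy1 : g⁻¹ * u * g ≠ 1 := by
    intro h
    apply hu1
    have : u = g * (g⁻¹ * u * g) * g⁻¹ := by group
    rw [this, h]; group
  have hC := hL.cent_P _ hy hy1
  rw [bot_sup_eq] at hC
  -- elements of `R` commuting with `u` are trivial
  have key : ∀ x ∈ (R : Subgroup G), u * x * u⁻¹ = x → x = 1 := by
    intro x hx hux
    have hcomm : (g⁻¹ * x * g) * (g⁻¹ * u * g) = (g⁻¹ * u * g) * (g⁻¹ * x * g) := by
      have : u * x = x * u := by
        calc u * x = u * x * u⁻¹ * u := by group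
          _ = x * u := by rw [hux]
      calc (g⁻¹ * x * g) * (g⁻¹ * u * g) = g⁻¹ * (x * u) * g := by group
        _ = g⁻¹ * (u * x) * g := by rw [this]
        _ = (g⁻¹ * u * g) * (g⁻¹ * x * g) := by group
    have hxP : g⁻¹ * x * g ∈ (P : Subgroup G) := by
      rw [← hC, mem_centralizer_iff]
      intro z hz
      rw [Set.mem_singleton_iff] at hz
      rw [hz]
      exact hcomm.symm
    obtain ⟨a, ha⟩ := P.2 ⟨_, hxP⟩
    obtain ⟨b, hb⟩ := R.2 ⟨x, hx⟩
    have ha' : (g⁻¹ * x * g) ^ (p ^ a) = 1 := by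
      have := congrArg Subtype.val ha
      simpa using this
    have hb' : x ^ (r ^ b) = 1 := by
      have := congrArg Subtype.val hb
      simpa using this
    have ha'' : x ^ (p ^ a) = 1 := by
      have e : (g⁻¹ * x * g) ^ (p ^ a) = g⁻¹ * x ^ (p ^ a) * g := by
        have := conj_pow (a := g⁻¹) (b := x) (i := p ^ a)
        simpa using this
      rw [e] at ha'
      have : x ^ (p ^ a) = g * (g⁻¹ * x ^ (p ^ a) * g) * g⁻¹ := by group
      rw [this, ha']; group
    exact Cfsg.Agent.Helper26.CPCONGa.eq_one_of_pow_pow hr hrp x a b ha'' hb'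
  -- the action of `⟨u⟩` on `R`
  obtain ⟨U, hUdef⟩ : ∃ U : Subgroup ↥(normalizer ((R : Subgroup G) : Set G)),
      U = (zpowers u).subgroupOf (normalizer ((R : Subgroup G) : Set G)) := ⟨_, rfl⟩
  have hUp' : IsPGroup p ↥U := by
    rw [hUdef]
    exact hUp.comap_subtype
  have hmod := hUp'.card_modEq_card_fixedPoints (↥(R : Subgroup G))
  have hfix : Nat.card (MulAction.fixedPoints ↥U ↥(R : Subgroup G)) = 1 := by
    have hone : ∀ x : ↥(R : Subgroup G), x ∈ MulAction.fixedPoints ↥U ↥(R : Subgroup G) →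
        x = 1 := by
      intro x hx
      have huU : (⟨u, hu⟩ : ↥(normalizer ((R : Subgroup G) : Set G))) ∈ U := by
        rw [hUdef, mem_subgroupOf]
        exact mem_zpowers u
      have h1 := hx ⟨⟨u, hu⟩, huU⟩
      have h2 : u * (x : G) * u⁻¹ = (x : G) := congrArg Subtype.val h1
      exact Subtype.ext (key x.1 x.2 h2)
    rw [Nat.card_eq_one_iff_unique]
    refine ⟨⟨?_⟩, ⟨⟨1, ?_⟩⟩⟩
    · rintro ⟨x, hx⟩ ⟨y, hy⟩
      apply Subtype.ext
      show x = y
      rw [hone x hx, hone y hy]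
    · intro w
      apply Subtype.ext
      show ((w : ↥(normalizer ((R : Subgroup G) : Set G))) : G) * ((1 : ↥(R : Subgroup G)) : G) *
        ((w : ↥(normalizer ((R : Subgroup G) : Set G))) : G)⁻¹ = ((1 : ↥(R : Subgroup G)) : G)
      simp
  rw [hfix] at hmod
  exact hmod

end Cfsg.Agent.Helper3.CP
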