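import Mathlib
import Cfsg.Agent.Helper3.CPDefs
import Cfsg.Agent.Helper3.CPBasic
set_option autoImplicit false
set_option linter.unusedSectionVars false

/-!
# S4016, piece CONGb: the congruence count `d ≡ 1 (mod p)` contradicting `1 < d ∣ p - 1`.
-/

namespace Cfsg.Agent.Helper26.CPCONGb
open Subgroup
universe u
variable {G : Type u} [Group G] [Finite G] {p : ℕ} [Fact p.Prime]

/-- if all Sylow `r`-subgroups, `r ≠ p`, have order `≡ 1 (mod p)`, then `|G| = |P| * M` with
`M ≡ 1 (mod p)`. -/
lemma exists_card_eq_mul (P : Sylow p G)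
    (hmod : ∀ (r : ℕ) [Fact r.Prime], r ≠ p → ∀ R : Sylow r G,
      Nat.card ↥(R : Subgroup G) ≡ 1 [MOD p]) :
    ∃ M : ℕ, Nat.card G = Nat.card ↥(P : Subgroup G) * M ∧ M ≡ 1 [MOD p] := by
  classical
  have hn : Nat.card G ≠ 0 := Nat.card_pos.ne'
  have h1 := Nat.prod_factorization_pow_eq_self hn
  rw [Finsupp.prod, Nat.support_factorization] at h1
  rw [← Finset.prod_filter_mul_prod_filter_not (Nat.card G).primeFactors (fun r => r = p)] at h1
  have hA : ∏ r ∈ (Nat.card G).primeFactors.filter (fun r => r = p),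
      r ^ (Nat.card G).factorization r = Nat.card ↥(P : Subgroup G) := by
    rw [Finset.filter_eq']
    split_ifs with hpm
    · rw [Finset.prod_singleton, P.card_eq_multiplicity]
    · rw [Finset.prod_empty, P.card_eq_multiplicity]
      have : (Nat.card G).factorization p = 0 := by
        rw [← Finsupp.notMem_support_iff, Nat.support_factorization]
        exact hpm
      rw [this, pow_zero]
  rw [hA] at h1
  refine ⟨∏ r ∈ (Nat.card G).primeFactors.filter (fun r => ¬ r = p),
    r ^ (Nat.card G).factorization r, h1.symm, ?_⟩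
  · apply Finset.prod_induction _ (fun m => m ≡ 1 [MOD p])
    · intro a b ha hb
      have := ha.mul hb
      simpa using this
    · exact Nat.ModEq.refl 1
    · intro r hr
      rw [Finset.mem_filter] at hr
      have : Fact r.Prime := ⟨Nat.prime_of_mem_primeFactors hr.1⟩
      obtain ⟨R⟩ : Nonempty (Sylow r G) := inferInstance
      have := hmod r hr.2 R
      rwa [R.card_eq_multiplicity] at this

end Cfsg.Agent.Helper26.CPCONGb

namespace Cfsg.Agent.Helper3.CP
open Subgroup
universe u
variable {G : Type u} [Group G] [Finite G] {p : ℕ} [Fact p.Prime]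

/-- CONGb -/
theorem false_of_card_sylow_modEq_one (P : Sylow p G) (d : ℕ) (hL : Loc p P ⊥ d)
    (hmod : ∀ (r : ℕ) [Fact r.Prime], r ≠ p → ∀ R : Sylow r G,
      Nat.card ↥(R : Subgroup G) ≡ 1 [MOD p]) : False := by
  have hp : p.Prime := Fact.out
  obtain ⟨M, hM, hM1⟩ := Cfsg.Agent.Helper26.CPCONGb.exists_card_eq_mul P hmod
  have hnp : Nat.card (Sylow p G) ≡ 1 [MOD p] := card_sylow_modEq_one p G
  have hidx : Nat.card (Sylow p G) = (normalizer ((P : Subgroup G) : Set G)).index :=
    P.card_eq_index_normalizer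
  have hcard := (normalizer ((P : Subgroup G) : Set G)).card_mul_index
  have hN := hL.card_N
  rw [Subgroup.card_bot, mul_one] at hN
  rw [hN, ← hidx, hM, mul_assoc] at hcard
  have hPpos : 0 < Nat.card ↥(P : Subgroup G) := Nat.card_pos
  have hMd : d * Nat.card (Sylow p G) = M := Nat.eq_of_mul_eq_mul_left hPpos hcard
  have hd1 : d ≡ 1 [MOD p] := by
    have h1 : d * Nat.card (Sylow p G) ≡ d * 1 [MOD p] := Nat.ModEq.mul_left d hnp
    rw [hMd, mul_one] at h1
    exact h1.symm.trans hM1
  have hdlt : d < p := by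
    have := Nat.le_of_dvd (by have := hp.two_le; omega) hL.d_dvd
    have := hp.two_le
    omega
  have h2 : d % p = 1 % p := hd1
  rw [Nat.mod_eq_of_lt hdlt, Nat.mod_eq_of_lt hp.one_lt] at h2
  have := hL.one_lt_d
  omega

end Cfsg.Agent.Helper3.CP
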