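import Mathlib
import Cfsg.Agent.Helper3.CPDefs
import Cfsg.Agent.Helper3.CPBasic
set_option autoImplicit false
set_option linter.unusedSectionVars false

/-!
# S4016, piece NRM: from `Concl p ↥N` for a nontrivial normal subgroup `N` to a nontrivial normal
`p'`- or `p`-subgroup of `G`.
-/

namespace Cfsg.Agent.Helper26.CPNRM
open Subgroup
universe u

/-- an element of order prime to the index of a normal subgroup lies in it -/
lemma mem_of_coprime_index {N : Type*} [Group N] [Finite N] (K : Subgroup N) [K.Normal] (y : N)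
    (hcop : (orderOf y).Coprime K.index) : y ∈ K := by
  rw [← QuotientGroup.eq_one_iff, ← orderOf_eq_one_iff]
  have h1 : orderOf (y : N ⧸ K) ∣ orderOf y := orderOf_map_dvd (QuotientGroup.mk' K) y
  have h2 : orderOf (y : N ⧸ K) ∣ K.index := by
    rw [Subgroup.index_eq_card]
    exact orderOf_dvd_natCard _
  exact Nat.Coprime.eq_one_of_dvd (Nat.Coprime.coprime_dvd_left h1 hcop) h2

/-- a normal complement of a Sylow `p`-subgroup is characteristic -/
lemma characteristic_of_complement {N : Type*} [Group N] [Finite N] {p : ℕ} [Fact p.Prime]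
    (Q : Sylow p N) (K : Subgroup N) [K.Normal] (hc : K.IsComplement' (Q : Subgroup N)) :
    K.Characteristic ∧ ¬ p ∣ Nat.card ↥K := by
  have hp : p.Prime := Fact.out
  have hKp : ¬ p ∣ Nat.card ↥K := by
    rw [← hc.index_eq_card]
    exact Q.not_dvd_index
  have hidx : K.index = Nat.card ↥(Q : Subgroup N) := hc.symm.index_eq_card
  obtain ⟨a, ha⟩ := IsPGroup.iff_card.mp Q.2
  refine ⟨?_, hKp⟩
  rw [characteristic_iff_map_le]
  intro φ y hy
  obtain ⟨k, hk, rfl⟩ := hy
  apply mem_of_coprime_index
  have ho : orderOf (φ.toMonoidHom k) = orderOf k := by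
    exact orderOf_injective φ.toMonoidHom φ.injective k
  rw [ho, hidx, ha]
  apply Nat.Coprime.pow_right
  have hkK : orderOf k ∣ Nat.card ↥K := by
    have := orderOf_dvd_natCard (⟨k, hk⟩ : ↥K)
    rwa [Subgroup.orderOf_mk] at this
  have : (Nat.card ↥K).Coprime p := ((Nat.Prime.coprime_iff_not_dvd hp).2 hKp).symm
  exact Nat.Coprime.coprime_dvd_left hkK this

end Cfsg.Agent.Helper26.CPNRM

namespace Cfsg.Agent.Helper3.CP
open Subgroup
universe u
variable {G : Type u} [Group G] [Finite G] {p : ℕ} [Fact p.Prime]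

/-- NRM -/
theorem exists_normal_of_concl (N : Subgroup G) [N.Normal] (hN : N ≠ ⊥) (h : Concl p ↥N) :
    ∃ M : Subgroup G, M.Normal ∧ M ≠ ⊥ ∧ (¬ p ∣ Nat.card ↥M ∨ IsPGroup p ↥M) := by
  have hp : p.Prime := Fact.out
  have hmapne : ∀ K : Subgroup ↥N, K ≠ ⊥ → K.map N.subtype ≠ ⊥ := by
    intro K hK h0
    apply hK
    rw [eq_bot_iff]
    intro k hk
    have : (k : G) ∈ K.map N.subtype := ⟨k, hk, rfl⟩
    rw [h0, mem_bot] at this
    rw [mem_bot]
    exact Subtype.ext this
  have hcardmap : ∀ K : Subgroup ↥N, Nat.card ↥(K.map N.subtype) = Nat.card ↥K := by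
    intro K
    exact Nat.card_congr (K.equivMapOfInjective N.subtype N.subtype_injective).symm.toEquiv
  rcases h with ⟨Q, K, hKn, hc⟩ | hnorm
  · -- normal `p`-complement `K` of `N`
    obtain ⟨hchar, hKp⟩ := Cfsg.Agent.Helper26.CPNRM.characteristic_of_complement Q K hc
    by_cases hK : K = ⊥
    · -- `N` is a `p`-group
      refine ⟨N, inferInstance, hN, Or.inr ?_⟩
      rw [hK, isComplement'_bot_left] at hc
      intro x
      obtain ⟨k, hk⟩ := Q.2 ⟨x, by rw [hc]; exact mem_top x⟩
      exact ⟨k, by simpa using congrArg Subtype.val hk⟩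
    · refine ⟨K.map N.subtype, ConjAct.normal_of_characteristic_of_normal, hmapne K hK,
        Or.inl ?_⟩
      rw [hcardmap]
      exact hKp
  · obtain ⟨Q⟩ : Nonempty (Sylow p ↥N) := inferInstance
    have hQn := hnorm Q
    have hchar : (Q : Subgroup ↥N).Characteristic := Q.characteristic_of_normal hQn
    by_cases hQ : (Q : Subgroup ↥N) = ⊥
    · -- `N` is a `p'`-group
      refine ⟨N, inferInstance, hN, Or.inl ?_⟩
      have h1 := Q.card_eq_multiplicity
      rw [hQ, Subgroup.card_bot] at h1
      intro hdvd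
      have hpos : 0 < (Nat.card ↥N).factorization p :=
        hp.factorization_pos_of_dvd Nat.card_pos.ne' hdvd
      have : 1 < p ^ (Nat.card ↥N).factorization p :=
        Nat.one_lt_pow hpos.ne' hp.one_lt
      omega
    · refine ⟨(Q : Subgroup ↥N).map N.subtype, ConjAct.normal_of_characteristic_of_normal,
        hmapne _ hQ, Or.inr ?_⟩
      exact Q.2.map N.subtype

end Cfsg.Agent.Helper3.CP
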