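import Mathlib
import Cfsg.Agent.Helper3.CPDefs
import Cfsg.Agent.Helper3.CPBasic
set_option autoImplicit false
set_option linter.unusedSectionVars false

/-!
# S4016, piece QP: the hypothesis passes to the quotient by a normal `p`-subgroup.
-/

namespace Cfsg.Agent.Helper3.CP
open Subgroup
universe u
variable {G : Type u} [Group G] [Finite G] {p : ℕ} [Fact p.Prime]

/-- QP -/
theorem Hyp.quot_p (h : Hyp p G) (Q : Subgroup G) [Q.Normal] (hQ : IsPGroup p ↥Q) :
    Hyp p (G ⧸ Q) := by
  have hp : p.Prime := Fact.out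
  have hsurj : Function.Surjective (QuotientGroup.mk' Q) := QuotientGroup.mk'_surjective Q
  refine ⟨?_, ?_⟩
  · -- Sylow subgroups of the quotient are images of Sylow subgroups
    intro Pb
    obtain ⟨P, rfl⟩ := Sylow.mapSurjective_surjective hsurj p Pb
    have hcyc := h.1 P
    rw [Sylow.coe_mapSurjective]
    exact isCyclic_of_surjective ((QuotientGroup.mk' Q).subgroupMap (P : Subgroup G))
      ((QuotientGroup.mk' Q).subgroupMap_surjective (P : Subgroup G))
  · intro Hb hHb
    -- the preimage and Schur-Zassenhaus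
    obtain ⟨H, hHdef⟩ : ∃ H : Subgroup G, H = Hb.comap (QuotientGroup.mk' Q) := ⟨_, rfl⟩
    have hQ'p : IsPGroup p ↥(Q.subgroupOf H) := hQ.comap_subtype
    -- index of `Q.subgroupOf H` in `H` is `|Hb|`
    have hidx : (Q.subgroupOf H).index = Nat.card ↥Hb := by
      have h1 : (Q.subgroupOf H).index = (QuotientGroup.mk' Q).ker.relIndex H := by
        rw [QuotientGroup.ker_mk']; rfl
      rw [h1, relIndex_ker, hHdef, map_comap_eq_self_of_surjective hsurj]
    have hcop : (Nat.card ↥(Q.subgroupOf H)).Coprime (Q.subgroupOf H).index := by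
      obtain ⟨a, ha⟩ := IsPGroup.iff_card.mp hQ'p
      rw [ha, hidx]
      apply Nat.Coprime.pow_left
      exact (Nat.Prime.coprime_iff_not_dvd hp).2 hHb
    obtain ⟨Y, hY⟩ := exists_right_complement'_of_coprime hcop
    have hYcard : Nat.card ↥Y = Nat.card ↥Hb := by
      rw [← hidx]
      exact hY.symm.index_eq_card.symm
    -- `Y` is abelian
    have hYab : ∀ a ∈ Y, ∀ b ∈ Y, (a : G) * (b : G) = (b : G) * (a : G) := by
      intro a ha b hb
      apply h.2 (Y.map H.subtype)
      · have : Nat.card ↥(Y.map H.subtype) = Nat.card ↥Y :=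
          Nat.card_congr (Y.equivMapOfInjective H.subtype H.subtype_injective).symm.toEquiv
        rw [this, hYcard]
        exact hHb
      · exact ⟨a, ha, rfl⟩
      · exact ⟨b, hb, rfl⟩
    -- every element of `Hb` is the image of an element of `Y`
    have hrep : ∀ x ∈ Hb, ∃ y ∈ Y, (QuotientGroup.mk' Q) (y : G) = x := by
      intro x hx
      obtain ⟨g, rfl⟩ := hsurj x
      have hgH : g ∈ H := by rw [hHdef, mem_comap]; exact hx
      obtain ⟨⟨q, y⟩, hqy, -⟩ := hY.existsUnique (⟨g, hgH⟩ : ↥H)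
      refine ⟨y.1, y.2, ?_⟩
      have hq : ((q : ↥H) : G) ∈ Q := by
        have hq0 : (q : ↥H) ∈ Q.subgroupOf H := q.2
        exact mem_subgroupOf.1 hq0
      have hq1 : (QuotientGroup.mk' Q) ((q : ↥H) : G) = 1 := (QuotientGroup.eq_one_iff _).2 hq
      have e : g = ((q : ↥H) : G) * ((y : ↥H) : G) := by
        have := congrArg Subtype.val hqy
        simpa using this.symm
      rw [e, map_mul, hq1, one_mul]
    intro a ha b hb
    obtain ⟨ya, hya, rfl⟩ := hrep a ha
    obtain ⟨yb, hyb, rfl⟩ := hrep b hb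
    rw [← map_mul, ← map_mul, hYab ya hya yb hyb]

end Cfsg.Agent.Helper3.CP
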