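import Mathlib

set_option autoImplicit false

/-!
Derived length of finite `p`-groups of linear maps in characteristic `p`:
the iterated fixed space series and the induced filtration of the group.
-/

namespace Cfsg.Agent.Helper26.DL

open scoped commutatorElement

variable {k G V : Type*} [Field k] [Group G] [AddCommGroup V] [Module k V]

/-- The ascending series of iterated fixed spaces of a representation. -/
def fs (ρ : Representation k G V) : ℕ → Submodule k V
  | 0 => ⊥
  | i + 1 => ⨅ g : G, (fs ρ i).comap (ρ g - 1)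

theorem fs_zero (ρ : Representation k G V) : fs ρ 0 = ⊥ := rfl

theorem mem_fs_succ (ρ : Representation k G V) (i : ℕ) (v : V) :
    v ∈ fs ρ (i + 1) ↔ ∀ g : G, ρ g v - v ∈ fs ρ i := by
  simp only [fs, Submodule.mem_iInf, Submodule.mem_comap, LinearMap.sub_apply,
    Module.End.one_apply]

theorem fs_le_succ (ρ : Representation k G V) (i : ℕ) : fs ρ i ≤ fs ρ (i + 1) := by
  induction i with
  | zero => rw [fs_zero]; exact bot_le
  | succ j ih =>
    intro v hv
    rw [mem_fs_succ] at hv ⊢
    intro g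
    exact ih (hv g)

theorem fs_mono (ρ : Representation k G V) : Monotone (fs ρ) :=
  monotone_nat_of_le_succ (fs_le_succ ρ)

theorem fs_invariant (ρ : Representation k G V) (i : ℕ) (g : G) (v : V)
    (hv : v ∈ fs ρ i) : ρ g v ∈ fs ρ i := by
  cases i with
  | zero =>
    rw [fs_zero, Submodule.mem_bot] at hv ⊢
    rw [hv, map_zero]
  | succ j =>
    rw [mem_fs_succ] at hv ⊢
    intro h
    have h1 := hv (h * g)
    have h2 := hv g
    have h3 : ρ h (ρ g v) - ρ g v = (ρ (h * g) v - v) - (ρ g v - v) := by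
      rw [map_mul]; simp
    rw [h3]
    exact Submodule.sub_mem _ h1 h2

/-- The representation induced on the quotient by an invariant subspace. -/
noncomputable def quotRep (ρ : Representation k G V) (W : Submodule k V)
    (hW : ∀ g v, v ∈ W → ρ g v ∈ W) : Representation k G (V ⧸ W) where
  toFun g := Submodule.mapQ W W (ρ g) (fun v hv => hW g v hv)
  map_one' := by
    apply Submodule.linearMap_qext
    ext v
    simp
  map_mul' g h := by
    apply Submodule.linearMap_qext
    ext v
    simp [map_mul]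

theorem quotRep_mk (ρ : Representation k G V) (W : Submodule k V)
    (hW : ∀ g v, v ∈ W → ρ g v ∈ W) (g : G) (v : V) :
    quotRep ρ W hW g (Submodule.Quotient.mk v) = Submodule.Quotient.mk (ρ g v) := by
  show Submodule.mapQ W W (ρ g) (fun v hv => hW g v hv) (Submodule.Quotient.mk v) = _
  rw [Submodule.mapQ_apply]

/-- A finite `p`-group acting linearly on a nonzero space in characteristic `p` fixes a nonzero
vector. -/
theorem exists_fixed_ne_zero (ρ : Representation k G V) (p : ℕ) [Fact p.Prime]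
    (hp0 : (p : k) = 0) [Finite G] (hG : IsPGroup p G) [Nontrivial V] :
    ∃ v : V, v ≠ 0 ∧ ∀ g, ρ g v = v := by
  have hp : p.Prime := Fact.out
  obtain ⟨x, hx⟩ := exists_ne (0 : V)
  obtain ⟨U, hU⟩ : ∃ U : AddSubgroup V, U = AddSubgroup.closure (Set.range fun g : G => ρ g x) :=
    ⟨_, rfl⟩
  have hxU : x ∈ U := by
    rw [hU]
    apply AddSubgroup.subset_closure
    exact ⟨1, by simp⟩
  have hinv : ∀ g : G, ∀ u ∈ U, ρ g u ∈ U := by
    intro g u hu
    rw [hU] at hu ⊢
    induction hu using AddSubgroup.closure_induction with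
    | mem y hy =>
      obtain ⟨h, rfl⟩ := hy
      apply AddSubgroup.subset_closure
      refine ⟨g * h, ?_⟩
      simp [map_mul]
    | zero => rw [map_zero]; exact AddSubgroup.zero_mem _
    | add a b _ _ ha hb => rw [map_add]; exact AddSubgroup.add_mem _ ha hb
    | neg a _ ha => rw [map_neg]; exact AddSubgroup.neg_mem _ ha
  have hpV : ∀ v : V, p • v = 0 := by
    intro v
    rw [← Nat.cast_smul_eq_nsmul k, hp0, zero_smul]
  -- finiteness of U
  have hfin : Finite U := by
    have hfg : AddGroup.FG U := by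
      rw [AddGroup.fg_iff_addSubgroup_fg, AddSubgroup.fg_iff]
      exact ⟨_, hU.symm, Set.finite_range _⟩
    have htors : IsAddTorsion U := by
      intro u
      rw [isOfFinAddOrder_iff_nsmul_eq_zero]
      refine ⟨p, hp.pos, ?_⟩
      apply Subtype.ext
      simpa using hpV u.1
    exact AddCommGroup.finite_of_fg_isAddTorsion U htors
  let act : MulAction G U :=
    { smul := fun g u => ⟨ρ g u.1, hinv g u.1 u.2⟩
      one_smul := by
        intro u
        apply Subtype.ext
        show ρ 1 u.1 = u.1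
        simp
      mul_smul := by
        intro g h u
        apply Subtype.ext
        show ρ (g * h) u.1 = ρ g (ρ h u.1)
        simp [map_mul] }
  have hsmul : ∀ (g : G) (u : U), ((g • u : U) : V) = ρ g u.1 := fun _ _ => rfl
  have hcard : p ∣ Nat.card U := by
    have h1 : p • (⟨x, hxU⟩ : U) = 0 := by
      apply Subtype.ext
      simpa using hpV x
    have h2 : addOrderOf (⟨x, hxU⟩ : U) ∣ p := addOrderOf_dvd_of_nsmul_eq_zero h1
    have h3 : addOrderOf (⟨x, hxU⟩ : U) ≠ 1 := by
      rw [Ne, AddMonoid.addOrderOf_eq_one_iff]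
      intro h
      exact hx (congrArg Subtype.val h)
    have h4 : addOrderOf (⟨x, hxU⟩ : U) = p := by
      rcases (Nat.dvd_prime hp).1 h2 with h | h
      · exact absurd h h3
      · exact h
    rw [← h4]
    exact addOrderOf_dvd_natCard _
  have h0 : (0 : U) ∈ MulAction.fixedPoints G U := by
    intro g
    apply Subtype.ext
    rw [hsmul]
    simp
  obtain ⟨b, hb, hb0⟩ := hG.exists_fixed_point_of_prime_dvd_card_of_fixed_point U hcard h0
  refine ⟨b.1, ?_, ?_⟩
  · intro h
    apply hb0
    apply Subtype.ext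
    simpa using h.symm
  · intro g
    have := hb g
    rw [← hsmul, this]

/-- For a finite `p`-group in characteristic `p`, the series strictly increases until it reaches
the top. -/
theorem fs_lt_succ (ρ : Representation k G V) (p : ℕ) [Fact p.Prime] (hp0 : (p : k) = 0)
    [Finite G] (hG : IsPGroup p G) (i : ℕ) (hi : fs ρ i ≠ ⊤) : fs ρ i < fs ρ (i + 1) := by
  have hW : ∀ g v, v ∈ fs ρ i → ρ g v ∈ fs ρ i := fun g v hv => fs_invariant ρ i g v hv
  have hnt : Nontrivial (V ⧸ fs ρ i) := Submodule.Quotient.nontrivial_iff.2 hi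
  obtain ⟨b, hb0, hb⟩ := exists_fixed_ne_zero (quotRep ρ (fs ρ i) hW) p hp0 hG
  obtain ⟨v, rfl⟩ := Submodule.Quotient.mk_surjective _ b
  refine lt_of_le_of_ne (fs_le_succ ρ i) ?_
  intro heq
  have hv : v ∈ fs ρ (i + 1) := by
    rw [mem_fs_succ]
    intro g
    have h1 := hb g
    rw [quotRep_mk] at h1
    rw [← Submodule.Quotient.mk_eq_zero, Submodule.Quotient.mk_sub, h1, sub_self]
  rw [← heq] at hv
  apply hb0
  rw [Submodule.Quotient.mk_eq_zero]
  exact hv

theorem fs_finrank (ρ : Representation k G V) (p : ℕ) [Fact p.Prime] (hp0 : (p : k) = 0)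
    [Finite G] (hG : IsPGroup p G) [FiniteDimensional k V] (i : ℕ) :
    fs ρ i = ⊤ ∨ i ≤ Module.finrank k (fs ρ i) := by
  induction i with
  | zero => right; exact Nat.zero_le _
  | succ j ih =>
    by_cases hj : fs ρ j = ⊤
    · left
      exact top_le_iff.1 (hj ▸ fs_le_succ ρ j)
    · right
      have h1 := ih.resolve_left hj
      have h2 := Submodule.finrank_lt_finrank_of_lt (fs_lt_succ ρ p hp0 hG j hj)
      omega

theorem fs_eq_top (ρ : Representation k G V) (p : ℕ) [Fact p.Prime] (hp0 : (p : k) = 0)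
    [Finite G] (hG : IsPGroup p G) [FiniteDimensional k V] (n : ℕ)
    (hn : Module.finrank k V ≤ n) : fs ρ n = ⊤ := by
  rcases fs_finrank ρ p hp0 hG n with h | h
  · exact h
  · by_contra hne
    have := Submodule.finrank_lt hne
    omega

/-- The filtration of the group: elements lowering the fixed space series by `j` steps. -/
def Gam (ρ : Representation k G V) (j : ℕ) : Subgroup G where
  carrier := {g | ∀ i, ∀ v ∈ fs ρ (i + j), ρ g v - v ∈ fs ρ i}
  one_mem' := by
    intro i v _
    simp
  mul_mem' := by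
    intro g h hg hh i v hv
    have h1 : ρ (g * h) v - v = (ρ g (ρ h v) - ρ h v) + (ρ h v - v) := by
      rw [map_mul]; simp
    rw [h1]
    exact Submodule.add_mem _ (hg i _ (fs_invariant ρ _ h v hv)) (hh i v hv)
  inv_mem' := by
    intro g hg i v hv
    have h1 : ρ g⁻¹ v - v = -(ρ g⁻¹ (ρ g v - v)) := by
      rw [map_sub, ← Module.End.mul_apply, ← map_mul, inv_mul_cancel, map_one]
      simp
    rw [h1]
    exact Submodule.neg_mem _ (fs_invariant ρ i g⁻¹ _ (hg i v hv))

theorem mem_Gam (ρ : Representation k G V) (j : ℕ) (g : G) :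
    g ∈ Gam ρ j ↔ ∀ i, ∀ v ∈ fs ρ (i + j), ρ g v - v ∈ fs ρ i := Iff.rfl

theorem Gam_one (ρ : Representation k G V) : Gam ρ 1 = ⊤ := by
  rw [eq_top_iff]
  intro g _
  rw [mem_Gam]
  intro i v hv
  exact (mem_fs_succ ρ i v).1 hv g

theorem commutator_Gam_le (ρ : Representation k G V) (j l : ℕ) :
    ⁅Gam ρ j, Gam ρ l⁆ ≤ Gam ρ (j + l) := by
  rw [Subgroup.commutator_le]
  intro g hg h hh
  rw [mem_Gam] at hg hh ⊢
  intro i v hv
  obtain ⟨w, hw⟩ : ∃ w, w = ρ (g⁻¹ * h⁻¹) v := ⟨_, rfl⟩
  have hwm : w ∈ fs ρ (i + (j + l)) := hw ▸ fs_invariant ρ _ _ v hv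
  have hv1 : ρ ⁅g, h⁆ v = ρ g (ρ h w) := by
    rw [hw, ← Module.End.mul_apply, ← Module.End.mul_apply, ← map_mul, ← map_mul]
    congr 2
    rw [commutatorElement_def]
    group
  have hv2 : v = ρ h (ρ g w) := by
    rw [hw, ← Module.End.mul_apply, ← Module.End.mul_apply, ← map_mul, ← map_mul]
    have : h * g * (g⁻¹ * h⁻¹) = 1 := by group
    rw [this, map_one]
    simp
  have h3 : ρ ⁅g, h⁆ v - v =
      (ρ g (ρ h w - w) - (ρ h w - w)) - (ρ h (ρ g w - w) - (ρ g w - w)) := by
    rw [hv1]
    nth_rewrite 1 [hv2]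
    simp only [map_sub]
    abel
  rw [h3]
  apply Submodule.sub_mem
  · apply hg i
    apply hh (i + j)
    rwa [add_assoc]
  · apply hh i
    apply hg (i + l)
    rwa [add_assoc, add_comm l j]

theorem derivedSeries_le_Gam (ρ : Representation k G V) (i : ℕ) :
    derivedSeries G i ≤ Gam ρ (2 ^ i) := by
  induction i with
  | zero => rw [pow_zero, Gam_one]; exact le_top
  | succ j ih =>
    rw [derivedSeries_succ]
    refine le_trans (Subgroup.commutator_mono ih ih) ?_
    have : 2 ^ (j + 1) = 2 ^ j + 2 ^ j := by ring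
    rw [this]
    exact commutator_Gam_le ρ _ _

theorem Gam_le_ker (ρ : Representation k G V) (m : ℕ) (hm : fs ρ m = ⊤) :
    Gam ρ m ≤ ρ.ker := by
  intro g hg
  rw [MonoidHom.mem_ker]
  rw [mem_Gam] at hg
  ext v
  have := hg 0 v (by rw [zero_add, hm]; exact Submodule.mem_top)
  rw [fs_zero, Submodule.mem_bot, sub_eq_zero] at this
  simpa using this

/-- **Characteristic `p` case.** A finite `p`-group acting linearly on a space of dimension at
most `n` over a field of characteristic `p` has its `⌈log₂ n⌉`-th derived subgroup acting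
trivially. -/
theorem derivedSeries_le_ker_of_char (ρ : Representation k G V) (p : ℕ) [Fact p.Prime]
    (hp0 : (p : k) = 0) [Finite G] (hG : IsPGroup p G) [FiniteDimensional k V] (n : ℕ)
    (hn : Module.finrank k V ≤ n) : derivedSeries G (Nat.clog 2 n) ≤ ρ.ker := by
  refine le_trans (derivedSeries_le_Gam ρ _) ?_
  apply Gam_le_ker
  have h1 : n ≤ 2 ^ Nat.clog 2 n := Nat.le_pow_clog (by norm_num) n
  exact fs_eq_top ρ p hp0 hG _ (le_trans hn h1)

end Cfsg.Agent.Helper26.DL
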