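import Mathlib

set_option autoImplicit false

/-!
Derived length of finite `p`-groups of linear maps over an algebraically closed field of
characteristic different from `p`: generic tools.
-/

namespace Cfsg.Agent.Helper26.DL

open scoped commutatorElement

section Res

variable {K G V : Type*} [Field K] [Group G] [AddCommGroup V] [Module K V]

/-- Restriction of a representation to an invariant subspace. -/
noncomputable def resRep (ρ : Representation K G V) (W : Submodule K V)
    (hW : ∀ g v, v ∈ W → ρ g v ∈ W) : Representation K G W where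
  toFun g := (ρ g).restrict (fun v hv => hW g v hv)
  map_one' := by
    ext v
    simp
  map_mul' g h := by
    ext v
    simp [map_mul]

theorem resRep_apply (ρ : Representation K G V) (W : Submodule K V)
    (hW : ∀ g v, v ∈ W → ρ g v ∈ W) (g : G) (w : W) :
    ((resRep ρ W hW g w : W) : V) = ρ g w := rfl

theorem eigenspace_invariant (ρ : Representation K G V) (f : Module.End K V)
    (hc : ∀ g, Commute (ρ g) f) (μ : K) :
    ∀ g v, v ∈ f.eigenspace μ → ρ g v ∈ f.eigenspace μ := by
  intro g v hv
  rw [Module.End.mem_eigenspace_iff] at hv ⊢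
  have h1 : f (ρ g v) = ρ g (f v) := by
    have := (hc g).eq
    rw [← Module.End.mul_apply, ← Module.End.mul_apply, this]
  rw [h1, hv, map_smul]

theorem le_ker_of_eigenspaces (ρ : Representation K G V) (f : Module.End K V)
    (hf : ⨆ μ : K, f.eigenspace μ = ⊤) (S : Subgroup G)
    (h : ∀ μ : K, ∀ s ∈ S, ∀ v ∈ f.eigenspace μ, ρ s v = v) : S ≤ ρ.ker := by
  intro s hs
  rw [MonoidHom.mem_ker]
  have h1 : (⊤ : Submodule K V) ≤ LinearMap.eqLocus (ρ s) 1 := by
    rw [← hf]
    apply iSup_le
    intro μ v hv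
    rw [LinearMap.mem_eqLocus]
    simpa using h μ s hs v hv
  ext v
  have := h1 (Submodule.mem_top : v ∈ ⊤)
  rw [LinearMap.mem_eqLocus] at this
  exact this

theorem iSup_eigenspace_of_pow_eq_one [IsAlgClosed K] [FiniteDimensional K V]
    (f : Module.End K V) (m : ℕ) (hm : (m : K) ≠ 0) (hf : f ^ m = 1) :
    ⨆ μ : K, f.eigenspace μ = ⊤ := by
  have hsq : Squarefree (Polynomial.X ^ m - Polynomial.C (1 : K)) :=
    (Polynomial.separable_X_pow_sub_C (1 : K) hm one_ne_zero).squarefree
  have h0 : Polynomial.aeval f (Polynomial.X ^ m - Polynomial.C (1 : K)) = 0 := by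
    simp [hf]
  exact (Module.End.isSemisimple_of_squarefree_aeval_eq_zero hsq h0).iSup_eigenspace_eq_top

theorem two_mul_finrank_eigenspace_le [FiniteDimensional K V] (f u : Module.End K V)
    (hu : Function.Injective u) (hf : Function.Injective f) (θ : K) (hθ : θ ≠ 1)
    (hfu : ∀ v, f (u v) = θ • u (f v)) (μ : K) :
    2 * Module.finrank K (f.eigenspace μ) ≤ Module.finrank K V := by
  by_cases hbot : f.eigenspace μ = ⊥
  · rw [hbot]
    simp
  · have hμ : μ ≠ 0 := by
      rintro rfl
      apply hbot
      rw [eq_bot_iff]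
      intro v hv
      rw [Module.End.mem_eigenspace_iff, zero_smul] at hv
      rw [Submodule.mem_bot]
      exact hf (by rw [hv, map_zero])
    have hmaps : ∀ v ∈ f.eigenspace μ, u v ∈ f.eigenspace (θ * μ) := by
      intro v hv
      rw [Module.End.mem_eigenspace_iff] at hv ⊢
      rw [hfu, hv, map_smul, smul_smul]
    have hne : θ * μ ≠ μ := by
      intro h
      apply hθ
      have : θ * μ = 1 * μ := by rw [h, one_mul]
      exact mul_right_cancel₀ hμ this
    have hle : Module.finrank K (f.eigenspace μ) ≤ Module.finrank K (f.eigenspace (θ * μ)) := by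
      apply LinearMap.finrank_le_finrank_of_injective (f := u.restrict hmaps)
      intro x y hxy
      apply Subtype.ext
      apply hu
      exact congrArg Subtype.val hxy
    have hdis : Disjoint (f.eigenspace μ) (f.eigenspace (θ * μ)) :=
      (Module.End.eigenspaces_iSupIndep f).pairwiseDisjoint hne.symm
    have := Submodule.finrank_add_finrank_le_of_disjoint hdis
    omega

end Res

section Grp

variable {G : Type*} [Group G]

theorem derivedSeries_succ_le_map (H : Subgroup G) (hH : commutator G ≤ H) (k : ℕ) :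
    derivedSeries G (k + 1) ≤ (derivedSeries H k).map H.subtype := by
  induction k with
  | zero =>
    rw [derivedSeries_succ, derivedSeries_zero, derivedSeries_zero, ← MonoidHom.range_eq_map,
      Subgroup.range_subtype]
    exact hH
  | succ j ih =>
    rw [derivedSeries_succ, derivedSeries_succ (G := H), Subgroup.map_commutator]
    exact Subgroup.commutator_mono ih ih

theorem derivedSeries_one_eq_bot_of_comm (h : ∀ a b : G, a * b = b * a) (k : ℕ) :
    derivedSeries G (k + 1) = ⊥ := by
  have h1 : derivedSeries G 1 = ⊥ := by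
    rw [derivedSeries_succ, derivedSeries_zero, eq_bot_iff, Subgroup.commutator_le]
    intro a _ b _
    rw [Subgroup.mem_bot, commutatorElement_eq_one_iff_mul_comm]
    exact h a b
  exact le_bot_iff.1 (h1 ▸ derivedSeries_antitone G (by omega : 1 ≤ k + 1))

theorem exists_second_center [Finite G] (p : ℕ) [Fact p.Prime] (hG : IsPGroup p G)
    (hnc : ¬ ∀ a b : G, a * b = b * a) :
    ∃ a : G, a ∉ Subgroup.center G ∧ ∀ g : G, ⁅g, a⁆ ∈ Subgroup.center G := by
  have hx : ∃ x : G, x ∉ Subgroup.center G := by
    by_contra h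
    push Not at h
    apply hnc
    intro a b
    exact ((Subgroup.mem_center_iff.1 (h b)) a)
  obtain ⟨x, hx⟩ := hx
  have hnt : Nontrivial (G ⧸ Subgroup.center G) := by
    refine ⟨⟨(x : G ⧸ Subgroup.center G), 1, ?_⟩⟩
    intro h
    exact hx ((QuotientGroup.eq_one_iff x).1 h)
  have hQ : IsPGroup p (G ⧸ Subgroup.center G) := hG.to_quotient _
  have := hQ.center_nontrivial
  obtain ⟨⟨y, hy⟩, hy1⟩ := exists_ne (1 : Subgroup.center (G ⧸ Subgroup.center G))
  obtain ⟨a, rfl⟩ := QuotientGroup.mk_surjective y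
  refine ⟨a, ?_, ?_⟩
  · intro ha
    apply hy1
    apply Subtype.ext
    exact (QuotientGroup.eq_one_iff a).2 ha
  · intro g
    rw [← QuotientGroup.eq_one_iff]
    have h1 : ((⁅g, a⁆ : G) : G ⧸ Subgroup.center G) =
        ⁅(g : G ⧸ Subgroup.center G), (a : G ⧸ Subgroup.center G)⁆ := by
      simp [commutatorElement_def]
    rw [h1, commutatorElement_eq_one_iff_mul_comm]
    exact (Subgroup.mem_center_iff.1 hy) g

theorem commutatorElement_mul_left_of_central (a g h : G)
    (hz : ∀ x : G, x * ⁅h, a⁆ = ⁅h, a⁆ * x) : ⁅g * h, a⁆ = ⁅g, a⁆ * ⁅h, a⁆ := by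
  have h1 : ⁅g * h, a⁆ = g * ⁅h, a⁆ * (a * g⁻¹ * a⁻¹) := by
    simp only [commutatorElement_def, mul_inv_rev, mul_assoc, inv_mul_cancel_left]
  have h2 : ⁅h, a⁆ * g * (a * g⁻¹ * a⁻¹) = ⁅h, a⁆ * ⁅g, a⁆ := by
    simp only [commutatorElement_def, mul_assoc]
  rw [h1, hz g, h2, (hz _).symm]

/-- For `a` in the second centre, `g ↦ ⁅g, a⁆` is a homomorphism into the centre. -/
def commHom (a : G) (ha : ∀ g : G, ⁅g, a⁆ ∈ Subgroup.center G) : G →* Subgroup.center G :=
  MonoidHom.mk' (fun g => ⟨⁅g, a⁆, ha g⟩) (by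
    intro g h
    apply Subtype.ext
    exact commutatorElement_mul_left_of_central a g h
      (fun x => Subgroup.mem_center_iff.1 (ha h) x))

theorem commHom_apply (a : G) (ha : ∀ g : G, ⁅g, a⁆ ∈ Subgroup.center G) (g : G) :
    ((commHom a ha g : Subgroup.center G) : G) = ⁅g, a⁆ := rfl

theorem commutator_le_ker_commHom (a : G) (ha : ∀ g : G, ⁅g, a⁆ ∈ Subgroup.center G) :
    commutator G ≤ (commHom a ha).ker := by
  rw [commutator_eq_closure, Subgroup.closure_le]
  rintro x ⟨g, h, rfl⟩
  rw [SetLike.mem_coe, MonoidHom.mem_ker, map_commutatorElement]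
  apply commutatorElement_eq_one_iff_mul_comm.2
  apply Subtype.ext
  exact ((Subgroup.mem_center_iff.1 (commHom a ha h).2) (commHom a ha g).1)

theorem commute_of_mem_ker_commHom (a : G) (ha : ∀ g : G, ⁅g, a⁆ ∈ Subgroup.center G)
    (m : G) (hm : m ∈ (commHom a ha).ker) : Commute m a := by
  rw [MonoidHom.mem_ker] at hm
  have := congrArg Subtype.val hm
  rw [commHom_apply] at this
  exact commutatorElement_eq_one_iff_commute.1 this

end Grp

end Cfsg.Agent.Helper26.DL
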