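import Mathlib
import Cfsg.Agent.Helper26.DLb

set_option autoImplicit false

/-!
Derived length of finite `p`-groups of linear maps over an algebraically closed field of
characteristic different from `p`: the induction.
-/

namespace Cfsg.Agent.Helper26.DL

open scoped commutatorElement

universe u v w

/-- The inductive hypothesis of the main induction. -/
def IndHyp (p : ℕ) (K : Type u) [Field K] (n : ℕ) : Prop :=
  ∀ m < n, ∀ (V : Type v) [AddCommGroup V] [Module K V] [FiniteDimensional K V]
    (P : Type w) [Group P] [Finite P] (_ : IsPGroup p P) (ρ : Representation K P V),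
    Module.finrank K V ≤ m → derivedSeries P (Nat.log 2 m + 1) ≤ ρ.ker

section Main

variable (p : ℕ) [Fact p.Prime] {K : Type u} [Field K] [IsAlgClosed K]

theorem eigen_reduce (n : ℕ) (ih : IndHyp.{u, v, w} p K n) (d : ℕ) (hd : d < n)
    (V : Type v) [AddCommGroup V] [Module K V] [FiniteDimensional K V]
    (M : Type w) [Group M] [Finite M] (hM : IsPGroup p M) (σ : Representation K M V)
    (f : Module.End K V) (hc : ∀ m, Commute (σ m) f) (hf : ⨆ μ : K, f.eigenspace μ = ⊤)
    (hdim : ∀ μ : K, Module.finrank K (f.eigenspace μ) ≤ d) :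
    derivedSeries M (Nat.log 2 d + 1) ≤ σ.ker := by
  apply le_ker_of_eigenspaces σ f hf
  intro μ s hs v hv
  have hinv := eigenspace_invariant σ f hc μ
  have h1 := ih d hd (f.eigenspace μ) M hM (resRep σ _ hinv) (hdim μ)
  have h2 := h1 hs
  rw [MonoidHom.mem_ker] at h2
  have h3 : ((resRep σ _ hinv s ⟨v, hv⟩ : f.eigenspace μ) : V) = v := by
    rw [h2]
    rfl
  rw [resRep_apply] at h3
  exact h3

theorem step (hpK : (p : K) ≠ 0) (n : ℕ) (ih : IndHyp.{u, v, w} p K n)
    (V : Type v) [AddCommGroup V] [Module K V] [FiniteDimensional K V]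
    (Q : Type w) [Group Q] [Finite Q] (hQ : IsPGroup p Q) (ρ : Representation K Q V)
    (hinj : Function.Injective ρ) (hn : Module.finrank K V = n) :
    derivedSeries Q (Nat.log 2 n + 1) = ⊥ := by
  by_cases hcomm : ∀ a b : Q, a * b = b * a
  · exact derivedSeries_one_eq_bot_of_comm hcomm _
  have hss : ∀ x : Q, ⨆ μ : K, Module.End.eigenspace (ρ x) μ = ⊤ := by
    intro x
    obtain ⟨j, hj⟩ := hQ x
    apply iSup_eigenspace_of_pow_eq_one (ρ x) (p ^ j)
    · rw [Nat.cast_pow]
      exact pow_ne_zero _ hpK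
    · rw [← map_pow, hj, map_one]
  have hker : ρ.ker = ⊥ := (MonoidHom.ker_eq_bot_iff ρ).2 hinj
  by_cases hB : ∃ z ∈ Subgroup.center Q, ¬ ∃ t : K, ρ z = t • 1
  · obtain ⟨z, hz, hzs⟩ := hB
    have hlt : ∀ μ : K, Module.finrank K (Module.End.eigenspace (ρ z) μ) < n := by
      intro μ
      have h1 : Module.finrank K (Module.End.eigenspace (ρ z) μ) ≤ n := hn ▸ Submodule.finrank_le _
      have h2 : Module.finrank K (Module.End.eigenspace (ρ z) μ) ≠ n := by
        intro h
        apply hzs
        refine ⟨μ, ?_⟩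
        have htop : Module.End.eigenspace (ρ z) μ = ⊤ :=
          Submodule.eq_top_of_finrank_eq (h.trans hn.symm)
        ext v
        have : v ∈ Module.End.eigenspace (ρ z) μ := htop ▸ Submodule.mem_top
        rw [Module.End.mem_eigenspace_iff] at this
        simpa using this
      omega
    have hn1 : 1 ≤ n := by
      have := hlt 0
      omega
    have hc : ∀ m : Q, Commute (ρ m) (ρ z) := by
      intro m
      show ρ m * ρ z = ρ z * ρ m
      rw [← map_mul, ← map_mul, (Subgroup.mem_center_iff.1 hz) m]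
    have hred := eigen_reduce p n ih (n - 1) (by omega) V Q hQ ρ (ρ z) hc (hss z)
      (fun μ => by have := hlt μ; omega)
    rw [hker] at hred
    refine le_bot_iff.1 (le_trans (derivedSeries_antitone Q ?_) hred)
    have := Nat.log_mono_right (b := 2) (Nat.sub_le n 1)
    omega
  · push Not at hB
    obtain ⟨a, hanc, hac⟩ := exists_second_center p hQ hcomm
    obtain ⟨g₀, hg₀⟩ : ∃ g : Q, ⁅g, a⁆ ≠ 1 := by
      by_contra h
      push Not at h
      apply hanc
      rw [Subgroup.mem_center_iff]
      intro g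
      exact commutatorElement_eq_one_iff_mul_comm.1 (h g)
    obtain ⟨θ, hθ⟩ := hB _ (hac g₀)
    have hθ1 : θ ≠ 1 := by
      intro h
      apply hg₀
      apply hinj
      rw [hθ, h, one_smul, map_one]
    have hrel : ∀ v, ρ a (ρ g₀⁻¹ v) = θ • ρ g₀⁻¹ (ρ a v) := by
      intro v
      have e : a * g₀⁻¹ = g₀⁻¹ * ⁅g₀, a⁆ * a := by
        simp only [commutatorElement_def, mul_assoc, inv_mul_cancel_left, inv_mul_cancel, mul_one]
      calc ρ a (ρ g₀⁻¹ v) = ρ (a * g₀⁻¹) v := by rw [map_mul]; rfl
        _ = ρ (g₀⁻¹ * ⁅g₀, a⁆ * a) v := by rw [e]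
        _ = ρ g₀⁻¹ (ρ ⁅g₀, a⁆ (ρ a v)) := by rw [map_mul, map_mul]; rfl
        _ = θ • ρ g₀⁻¹ (ρ a v) := by rw [hθ]; simp
    have hinjf : ∀ x : Q, Function.Injective (ρ x) := by
      intro x v w h
      have := congrArg (ρ x⁻¹) h
      simpa [← Module.End.mul_apply, ← map_mul] using this
    have hdim : ∀ μ : K, 2 * Module.finrank K (Module.End.eigenspace (ρ a) μ) ≤ n := fun μ =>
      hn ▸ two_mul_finrank_eigenspace_le (ρ a) (ρ g₀⁻¹) (hinjf _) (hinjf _) θ hθ1 hrel μ
    have hn2 : 2 ≤ n := by
      by_contra hlt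
      have h0 : ∀ μ : K, Module.End.eigenspace (ρ a) μ = ⊥ := by
        intro μ
        have := hdim μ
        apply Submodule.finrank_eq_zero.1
        omega
      have htb : (⊤ : Submodule K V) = ⊥ := by
        rw [← hss a]
        simp [h0]
      apply hcomm
      intro x y
      apply hinj
      ext v
      have hv : v = 0 := by
        have : v ∈ (⊤ : Submodule K V) := Submodule.mem_top
        rw [htb] at this
        simpa using this
      rw [hv]
      simp
    obtain ⟨M, hMdef⟩ : ∃ M : Subgroup Q, M = (commHom a hac).ker := ⟨_, rfl⟩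
    have hM : IsPGroup p M := hQ.to_subgroup M
    have hc : ∀ m : M, Commute ((ρ.comp M.subtype) m) (ρ a) := by
      intro m
      have := commute_of_mem_ker_commHom a hac m.1 (hMdef ▸ m.2)
      show ρ m.1 * ρ a = ρ a * ρ m.1
      rw [← map_mul, ← map_mul, this.eq]
    have hred := eigen_reduce p n ih (n / 2) (by omega) V M hM (ρ.comp M.subtype) (ρ a) hc
      (hss a) (fun μ => by have := hdim μ; omega)
    have hσ : (ρ.comp M.subtype).ker = ⊥ := by
      rw [MonoidHom.ker_eq_bot_iff]
      exact hinj.comp Subtype.val_injective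
    rw [hσ, le_bot_iff] at hred
    have hlog : Nat.log 2 (n / 2) + 1 = Nat.log 2 n := by
      rw [Nat.log_div_base]
      have : 1 ≤ Nat.log 2 n := Nat.log_pos (by norm_num) hn2
      omega
    rw [hlog] at hred
    have := derivedSeries_succ_le_map M (hMdef ▸ commutator_le_ker_commHom a hac) (Nat.log 2 n)
    rw [hred, Subgroup.map_bot] at this
    exact le_bot_iff.1 this

/-- **Characteristic different from `p`, algebraically closed.** -/
theorem dl_algClosed (hpK : (p : K) ≠ 0) (n : ℕ) :
    ∀ (V : Type v) [AddCommGroup V] [Module K V] [FiniteDimensional K V]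
      (P : Type w) [Group P] [Finite P] (_ : IsPGroup p P) (ρ : Representation K P V),
      Module.finrank K V ≤ n → derivedSeries P (Nat.log 2 n + 1) ≤ ρ.ker := by
  induction n using Nat.strong_induction_on with
  | _ n ih =>
    intro V _ _ _ P _ _ hP ρ hn
    rcases Nat.lt_or_ge (Module.finrank K V) n with hlt | hge
    · have := ih _ hlt V P hP ρ le_rfl
      refine le_trans (derivedSeries_antitone P ?_) this
      have := Nat.log_mono_right (b := 2) hlt.le
      omega
    · have hn' : Module.finrank K V = n := le_antisymm hn hge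
      have hQ : IsPGroup p (P ⧸ ρ.ker) := hP.to_quotient _
      have ih' : IndHyp.{u, v, w} p K n := fun m hm => ih m hm
      obtain ⟨ρ', hρ'⟩ : ∃ ρ' : Representation K (P ⧸ ρ.ker) V,
          ρ' = QuotientGroup.lift ρ.ker ρ le_rfl := ⟨_, rfl⟩
      have hinj' : Function.Injective ρ' := by
        intro a b hab
        obtain ⟨x, rfl⟩ := QuotientGroup.mk_surjective a
        obtain ⟨y, rfl⟩ := QuotientGroup.mk_surjective b
        rw [hρ', QuotientGroup.lift_mk, QuotientGroup.lift_mk] at hab
        rw [QuotientGroup.eq, MonoidHom.mem_ker, map_mul, ← hab, ← map_mul, inv_mul_cancel,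
          map_one]
      have h1 := step p hpK n ih' V (P ⧸ ρ.ker) hQ ρ' hinj' hn'
      have h2 := map_derivedSeries_le_derivedSeries (QuotientGroup.mk' ρ.ker) (Nat.log 2 n + 1)
      rw [h1, le_bot_iff, Subgroup.map_eq_bot_iff, QuotientGroup.ker_mk'] at h2
      exact h2

end Main

end Cfsg.Agent.Helper26.DL
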