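import Mathlib
import Cfsg.Agent.Helper26.ZJ

set_option autoImplicit false

/-! Variant of the generic `ZJ`-theorem for a fixed family of abelian subgroups of a Sylow subgroup:
only the intersections `I(T)` of the members contained in `T` are assumed to be invariant under
`N_G(T)`, and replacement is assumed for subgroups of class at most two. -/

namespace Cfsg.Agent.Helper26

open Subgroup
open scoped commutatorElement

variable {G : Type*} [Group G]

/-- the intersection of the members of `𝒜` contained in `T` -/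
def famInf (𝒜 : Set (Subgroup G)) (T : Subgroup G) : Subgroup G :=
  sInf {A : Subgroup G | A ∈ 𝒜 ∧ A ≤ T}

/-- A fixed family of abelian subgroups of `S` with the properties needed for the `ZJ`-theorem. -/
structure ZJFix (p : ℕ) (S : Subgroup G) (𝒜 : Set (Subgroup G)) : Prop where
  le : ∀ A ∈ 𝒜, A ≤ S
  comm : ∀ A ∈ 𝒜, ∀ x ∈ A, ∀ y ∈ A, x * y = y * x
  nonempty : 𝒜.Nonempty
  inv : ∀ T : Subgroup G, T ≤ S → (∃ A ∈ 𝒜, A ≤ T) → ∀ g ∈ normalizer (T : Set G),
    g ∈ normalizer ((famInf 𝒜 T : Subgroup G) : Set G)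
  repl : ∀ B : Subgroup G, B ≤ S → ⁅⁅B, B⁆, B⁆ = ⊥ → (∃ A ∈ 𝒜, ⁅B, B⁆ ≤ A ∧ ¬ B ≤ A) →
    ∃ A' ∈ 𝒜, ⁅B, B⁆ ≤ A' ∧ ¬ B ≤ A' ∧ B ≤ normalizer (A' : Set G)

variable {p : ℕ} {𝒜 : Set (Subgroup G)}

theorem famInf_le {T A : Subgroup G} (hA : A ∈ 𝒜) (hAT : A ≤ T) : famInf 𝒜 T ≤ A :=
  sInf_le ⟨hA, hAT⟩

theorem famInf_mono {T T' : Subgroup G} (h : T ≤ T') : famInf 𝒜 T' ≤ famInf 𝒜 T :=
  sInf_le_sInf (fun _ hA => ⟨hA.1, hA.2.trans h⟩)

theorem ZJFix.inf_normal_aux [Finite G] [Fact p.Prime] (S : Sylow p G)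
    (h : ZJFix p (S : Subgroup G) 𝒜) (hst : StabHypSub p G) :
    ∀ n : ℕ, ∀ B : Subgroup G, B.Normal → IsPGroup p B → Nat.card B = n →
      (famInf 𝒜 (S : Subgroup G) ⊓ B).Normal := by
  intro n
  induction n using Nat.strong_induction_on with
  | _ n ih =>
  intro B hBn hBp hcard
  by_contra hV
  have := hBn
  have hBS : B ≤ S := (Cfsg.Agent.Helper14.le_pCore p hBn hBp).trans
    (Cfsg.Agent.Helper14.pCore_le_sylow p S)
  obtain ⟨A₀, hA₀⟩ := h.nonempty
  have hSW : (S : Subgroup G) ≤ normalizer ((famInf 𝒜 (S : Subgroup G) : Subgroup G) : Set G) :=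
    fun s hs => h.inv _ le_rfl ⟨A₀, hA₀, h.le A₀ hA₀⟩ s (le_normalizer hs)
  have hWle : ∀ A ∈ 𝒜, famInf 𝒜 (S : Subgroup G) ≤ A := fun A hA => famInf_le hA (h.le A hA)
  -- (iii)
  have hB1 : normalClosure ((famInf 𝒜 (S : Subgroup G) ⊓ B : Subgroup G) : Set G) = B := by
    by_contra hne
    have hle : normalClosure ((famInf 𝒜 (S : Subgroup G) ⊓ B : Subgroup G) : Set G) ≤ B :=
      normalClosure_le_normal inf_le_right
    have hlt := lt_of_le_of_ne hle hne
    have hcardlt : Nat.card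
        (normalClosure ((famInf 𝒜 (S : Subgroup G) ⊓ B : Subgroup G) : Set G)) < n := by
      rw [← hcard]
      exact lt_of_not_ge (fun hge => hlt.ne (Subgroup.eq_of_le_of_card_ge hlt.le hge))
    have := ih _ hcardlt _ normalClosure_normal (hBp.to_le hle) rfl
    have e : famInf 𝒜 (S : Subgroup G) ⊓
        normalClosure ((famInf 𝒜 (S : Subgroup G) ⊓ B : Subgroup G) : Set G) =
          famInf 𝒜 (S : Subgroup G) ⊓ B :=
      le_antisymm (le_inf inf_le_left (inf_le_right.trans hle))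
        (le_inf inf_le_left subset_normalClosure)
    rw [e] at this
    exact hV this
  -- (iv)
  have hBne : B ≠ ⊥ := by
    rintro rfl
    apply hV
    rw [inf_bot_eq]
    infer_instance
  have hB'lt : ⁅B, B⁆ < B :=
    Cfsg.Agent.Lead.commutator_lt_of_isPGroup hBp hBp le_normalizer hBne
  have hB'n : (⁅B, B⁆).Normal := inferInstance
  have hcardlt' : Nat.card (⁅B, B⁆ : Subgroup G) < n := by
    rw [← hcard]
    exact lt_of_not_ge (fun hge => hB'lt.ne (Subgroup.eq_of_le_of_card_ge hB'lt.le hge))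
  have hV'n : (famInf 𝒜 (S : Subgroup G) ⊓ ⁅B, B⁆).Normal :=
    ih _ hcardlt' _ hB'n (hBp.to_le hB'lt.le) rfl
  -- (v)
  have hVB : ⁅famInf 𝒜 (S : Subgroup G) ⊓ B, B⁆ ≤ famInf 𝒜 (S : Subgroup G) ⊓ ⁅B, B⁆ := by
    apply le_inf
    · rw [commutator_le]
      intro v hv y hy
      have hyN := hSW (hBS hy)
      have h1 : y * v⁻¹ * y⁻¹ ∈ famInf 𝒜 (S : Subgroup G) :=
        (mem_normalizer_iff.mp hyN _).mp (inv_mem hv.1)
      have e : ⁅v, y⁆ = v * (y * v⁻¹ * y⁻¹) := by rw [commutatorElement_def]; group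
      rw [e]
      exact mul_mem hv.1 h1
    · exact commutator_mono inf_le_right le_rfl
  -- (vi)
  have hB'W : ⁅B, B⁆ ≤ famInf 𝒜 (S : Subgroup G) := by
    have := commutator_normalClosure_le (hK := hV'n) hVB
    rw [hB1] at this
    exact this.trans inf_le_left
  -- `B` has class at most two
  have hcl2 : ⁅⁅B, B⁆, B⁆ = ⊥ := by
    have hcen : (centralizer ((⁅B, B⁆ : Subgroup G) : Set G)).Normal := inferInstance
    have h1 : famInf 𝒜 (S : Subgroup G) ⊓ B ≤ centralizer ((⁅B, B⁆ : Subgroup G) : Set G) := by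
      intro v hv
      rw [mem_centralizer_iff]
      intro c hc
      exact h.comm A₀ hA₀ c (hWle A₀ hA₀ (hB'W hc)) v (hWle A₀ hA₀ hv.1)
    have h2 : B ≤ centralizer ((⁅B, B⁆ : Subgroup G) : Set G) := by
      have := normalClosure_le_normal (N := centralizer ((⁅B, B⁆ : Subgroup G) : Set G)) h1
      rwa [hB1] at this
    rw [eq_bot_iff, commutator_le]
    intro c hc b hb
    have h3 := (mem_centralizer_iff.mp (h2 hb)) c hc
    rw [mem_bot, commutatorElement_eq_one_iff_mul_comm]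
    exact h3
  -- (viii)
  have hex : ∃ A ∈ 𝒜, ¬ B ≤ A := by
    by_contra hall
    apply hV
    have : B ≤ famInf 𝒜 (S : Subgroup G) := by
      apply le_sInf
      intro A hA
      by_contra hBA
      exact hall ⟨A, hA.1, hBA⟩
    rw [inf_eq_right.mpr this]
    exact hBn
  obtain ⟨A, hA, hBA⟩ := hex
  -- (ix)
  obtain ⟨A', hA', hB'A', hBA', hBNA'⟩ := h.repl B hBS hcl2 ⟨A, hA, hB'W.trans (hWle A hA), hBA⟩
  -- (x), (xi)
  obtain ⟨L, hLn, hCL, hLpow, hLq⟩ := hst B hBn hBp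
  have hA'L : A' ≤ L := by
    apply hLq A' (S.isPGroup'.to_le (h.le _ hA'))
    rw [eq_bot_iff]
    have h1 : ⁅B, A'⁆ ≤ A' := by
      rw [commutator_le]
      intro y hy z hzA
      have hyN := hBNA' hy
      have h2 : y * z * y⁻¹ ∈ A' := (mem_normalizer_iff.mp hyN z).mp hzA
      rw [commutatorElement_def]
      exact mul_mem h2 (inv_mem hzA)
    refine (commutator_mono h1 le_rfl).trans ?_
    rw [commutator_le]
    intro x hx y hy
    rw [commutatorElement_eq_one_iff_mul_comm.mpr (h.comm A' hA' x hx y hy)]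
    exact one_mem _
  -- (xii)
  have := hLn
  have hA'T : A' ≤ (S : Subgroup G) ⊓ L := le_inf (h.le _ hA') hA'L
  have hfr := normalizer_sylow_inf_sup_eq_top S L (centralizer (B : Set G)) hCL hLpow
  have hXn : (famInf 𝒜 ((S : Subgroup G) ⊓ L) ⊓ B).Normal := by
    rw [← normalizer_eq_top_iff, eq_top_iff, ← hfr]
    apply sup_le
    · intro g hg
      have h1 := h.inv _ inf_le_left ⟨A', hA', hA'T⟩ g hg
      apply mem_normalizer_of_map_conj_le
      rintro _ ⟨x, hx, rfl⟩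
      simp only [MulEquiv.coe_toMonoidHom, MulAut.conj_apply]
      exact ⟨(mem_normalizer_iff.mp h1 x).mp hx.1, hBn.conj_mem x hx.2 g⟩
    · intro c hc
      apply mem_normalizer_of_map_conj_le
      rintro _ ⟨x, hx, rfl⟩
      simp only [MulEquiv.coe_toMonoidHom, MulAut.conj_apply]
      have h1 : x * c = c * x := (mem_centralizer_iff.mp hc) x hx.2
      have e : c * x * c⁻¹ = x := by rw [← h1, mul_inv_cancel_right]
      rw [e]
      exact hx
  have hVX : famInf 𝒜 (S : Subgroup G) ⊓ B ≤ famInf 𝒜 ((S : Subgroup G) ⊓ L) ⊓ B :=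
    le_inf (inf_le_left.trans (famInf_mono inf_le_left)) inf_le_right
  have hBX : B ≤ famInf 𝒜 ((S : Subgroup G) ⊓ L) ⊓ B := by
    have := normalClosure_le_normal (N := famInf 𝒜 ((S : Subgroup G) ⊓ L) ⊓ B) hVX
    rwa [hB1] at this
  exact hBA' ((hBX.trans inf_le_left).trans (famInf_le hA' hA'T))

theorem ZJFix.famInf_le_pCore [Finite G] [Fact p.Prime] (S : Sylow p G)
    (h : ZJFix p (S : Subgroup G) 𝒜) (hst : StabHypSub p G)
    (hc : centralizer (Cfsg.pCore p G : Set G) ≤ Cfsg.pCore p G) :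
    famInf 𝒜 (S : Subgroup G) ≤ Cfsg.pCore p G := by
  obtain ⟨L, hLn, hCL, hLpow, hLq⟩ := hst (Cfsg.pCore p G) inferInstance
    (Cfsg.Agent.Helper14.pCore_isPGroup p)
  have hLp : IsPGroup p L := by
    intro x
    obtain ⟨k, hk⟩ := hLpow x.1 x.2
    obtain ⟨m, hm⟩ := (Cfsg.Agent.Helper14.pCore_isPGroup (G := G) p) ⟨_, hc hk⟩
    refine ⟨k + m, ?_⟩
    apply Subtype.ext
    have h2 := congrArg Subtype.val hm
    simp only [SubmonoidClass.coe_pow, OneMemClass.coe_one] at h2 ⊢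
    rw [pow_add, pow_mul]
    exact h2
  have hLQ : L ≤ Cfsg.pCore p G := Cfsg.Agent.Helper14.le_pCore p hLn hLp
  obtain ⟨A₀, hA₀⟩ := h.nonempty
  have hSW : (S : Subgroup G) ≤ normalizer ((famInf 𝒜 (S : Subgroup G) : Subgroup G) : Set G) :=
    fun s hs => h.inv _ le_rfl ⟨A₀, hA₀, h.le A₀ hA₀⟩ s (le_normalizer hs)
  have hle0 : famInf 𝒜 (S : Subgroup G) ≤ A₀ := famInf_le hA₀ (h.le A₀ hA₀)
  refine (hLq (famInf 𝒜 (S : Subgroup G))
    (S.isPGroup'.to_le (hle0.trans (h.le _ hA₀))) ?_).trans hLQ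
  rw [eq_bot_iff]
  have h1 : ⁅Cfsg.pCore p G, famInf 𝒜 (S : Subgroup G)⁆ ≤ famInf 𝒜 (S : Subgroup G) := by
    rw [commutator_le]
    intro y hy z hzW
    have hyN := hSW (Cfsg.Agent.Helper14.pCore_le_sylow p S hy)
    have h2 : y * z * y⁻¹ ∈ famInf 𝒜 (S : Subgroup G) := (mem_normalizer_iff.mp hyN z).mp hzW
    rw [commutatorElement_def]
    exact mul_mem h2 (inv_mem hzW)
  refine (commutator_mono h1 le_rfl).trans ?_
  rw [commutator_le]
  intro x hx y hy
  rw [commutatorElement_eq_one_iff_mul_comm.mpr (h.comm A₀ hA₀ x (hle0 hx) y (hle0 hy))]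
  exact one_mem _

/-- Generic `ZJ`-theorem for a fixed family. -/
theorem ZJFix.normal_famInf [Finite G] [Fact p.Prime] (S : Sylow p G)
    (h : ZJFix p (S : Subgroup G) 𝒜) (hst : StabHypSub p G)
    (hc : centralizer (Cfsg.pCore p G : Set G) ≤ Cfsg.pCore p G) :
    (famInf 𝒜 (S : Subgroup G)).Normal := by
  have := h.inf_normal_aux S hst _ (Cfsg.pCore p G) inferInstance
    (Cfsg.Agent.Helper14.pCore_isPGroup p) rfl
  rwa [inf_eq_left.mpr (h.famInf_le_pCore S hst hc)] at this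

end Cfsg.Agent.Helper26
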