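import Mathlib
import Cfsg.Agent.Helper26.ZJFix
import Cfsg.Agent.Helper26.ZJe
import Cfsg.Agent.Helper26.ZJFusion
import Cfsg.Agent.Lead.CoprimeSylow

set_option autoImplicit false
set_option linter.style.haveILetI false
set_option linter.unusedSectionVars false

/-! A group of characteristic `p` (`p` odd) in which a Sylow `p`-subgroup `S` is a maximal subgroup,
with a family of abelian subgroups of `S` as in `ZJFix` such that the normalizer of the intersection
of the family has a normal `p`-complement, is a `p`-group. -/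

namespace Cfsg.Agent.Helper26.FamilyNPC

open Subgroup Cfsg Cfsg.Agent.Helper26 Cfsg.Agent.Helper26.MasterRed

universe u

variable {p : ℕ} [Fact p.Prime]

/-- a `p`-group has a normal `p`-complement -/
theorem npc_of_isPGroup {X : Type*} [Group X] [Finite X] (h : IsPGroup p X) :
    HasNormalPComplement p X := by
  obtain ⟨P⟩ : Nonempty (Sylow p X) := inferInstance
  have hP : (⊤ : Subgroup X) = (P : Subgroup X) := P.is_maximal' (h.to_subgroup ⊤) le_top
  exact ⟨P, ⊥, inferInstance, by rw [← hP]; exact isComplement'_bot_top⟩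

theorem pCore_quotient_bot {G : Type*} [Group G] [Finite G] :
    pCore p (G ⧸ pCore p G) = ⊥ := by
  set H := pCore p G with hH
  have hHp : IsPGroup p H := Cfsg.Agent.Helper14.pCore_isPGroup p
  set N := (pCore p (G ⧸ H)).comap (QuotientGroup.mk' H) with hN
  have hNn : N.Normal := (Cfsg.Agent.Helper14.pCore_normal p (G := G ⧸ H)).comap _
  have hNp : IsPGroup p N := by
    apply IsPGroup.comap_of_ker_isPGroup (Cfsg.Agent.Helper14.pCore_isPGroup p)
    rw [QuotientGroup.ker_mk']
    exact hHp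
  have hNH : N ≤ H := Cfsg.Agent.Helper14.le_pCore p hNn hNp
  have h1 : pCore p (G ⧸ H) = N.map (QuotientGroup.mk' H) := by
    rw [hN, Subgroup.map_comap_eq_self_of_surjective (QuotientGroup.mk'_surjective H)]
  rw [h1, eq_bot_iff]
  calc N.map (QuotientGroup.mk' H) ≤ H.map (QuotientGroup.mk' H) := Subgroup.map_mono hNH
    _ = ⊥ := QuotientGroup.map_mk'_self H

theorem eq_one_of_pow_two_pow_of_pow_prime_pow {X : Type*} [Group X] (hp : p ≠ 2) {w : X} {a b : ℕ}
    (h1 : w ^ 2 ^ a = 1) (h2 : w ^ p ^ b = 1) : w = 1 := by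
  have hpp : p.Prime := Fact.out
  have hcop : Nat.Coprime (2 ^ a) (p ^ b) := by
    apply Nat.Coprime.pow
    rw [Nat.coprime_primes Nat.prime_two hpp]
    exact fun h => hp h.symm
  have := pow_gcd_eq_one.mpr ⟨h1, h2⟩
  rwa [hcop.gcd_eq_one, pow_one] at this

variable {G : Type u} [Group G] [Finite G]

theorem sylow_eq_top_of_maximal (hp : p ≠ 2) (S : Sylow p G)
    (hmax : ∀ H : Subgroup G, (S : Subgroup G) ≤ H → H = (S : Subgroup G) ∨ H = ⊤)
    (hc : centralizer (pCore p G : Set G) ≤ pCore p G) {𝒜 : Set (Subgroup G)}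
    (h : ZJFix p (S : Subgroup G) 𝒜)
    (hN : HasNormalPComplement p
      ↥(normalizer ((famInf 𝒜 (S : Subgroup G) : Subgroup G) : Set G))) :
    (S : Subgroup G) = ⊤ := by
  have hpp : p.Prime := Fact.out
  obtain ⟨Q, hQ⟩ : ∃ Q : Subgroup G, Q = pCore p G := ⟨_, rfl⟩
  haveI hQn : Q.Normal := hQ ▸ Cfsg.Agent.Helper14.pCore_normal p
  have hQp : IsPGroup p Q := hQ ▸ Cfsg.Agent.Helper14.pCore_isPGroup p
  have hQS : Q ≤ S := hQ ▸ Cfsg.Agent.Helper14.pCore_le_sylow p S
  have hcoreQ : pCore p (G ⧸ Q) = ⊥ := by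
    subst hQ
    exact pCore_quotient_bot
  obtain ⟨π, hπ⟩ : ∃ π : G →* G ⧸ Q, π = QuotientGroup.mk' Q := ⟨_, rfl⟩
  have hπs : Function.Surjective π := hπ ▸ QuotientGroup.mk'_surjective Q
  have hπk : π.ker = Q := hπ ▸ QuotientGroup.ker_mk' Q
  obtain ⟨T, hT⟩ : ∃ T : Sylow p (G ⧸ Q), (T : Subgroup (G ⧸ Q)) = (S : Subgroup G).map π :=
    ⟨S.mapSurjective hπs, rfl⟩
  have hcomap : ((T : Subgroup (G ⧸ Q))).comap π = S := by
    rw [hT, Subgroup.comap_map_eq, hπk, sup_eq_left.mpr hQS]
  -- subgroups of the quotient above the image of `S`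
  have hmax' : ∀ Y : Subgroup (G ⧸ Q), (T : Subgroup (G ⧸ Q)) ≤ Y →
      Y = (T : Subgroup (G ⧸ Q)) ∨ Y = ⊤ := by
    intro Y hY
    have h1 : (S : Subgroup G) ≤ Y.comap π := by
      rw [← hcomap]
      exact Subgroup.comap_mono hY
    rcases hmax _ h1 with h2 | h2
    · left
      rw [← Subgroup.map_comap_eq_self_of_surjective hπs Y, h2, hT]
    · right
      rw [← Subgroup.map_comap_eq_self_of_surjective hπs Y, h2,
        Subgroup.map_top_of_surjective _ hπs]
  -- (a) the quotient has a normal `p`-complement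
  have hnpcQ : HasNormalPComplement p (G ⧸ Q) := by
    have hle : (T : Subgroup (G ⧸ Q)) ≤ normalizer
        ((centerThompsonAOf (T : Subgroup (G ⧸ Q)) : Subgroup (G ⧸ Q)) : Set (G ⧸ Q)) :=
      le_normalizer_centerThompsonAOf_self _
    rcases hmax' _ hle with h1 | h1
    · apply Cfsg.Agent.S0659.result hp T
      apply npc_of_isPGroup
      rw [h1]
      exact T.2
    · have hn : (centerThompsonAOf (T : Subgroup (G ⧸ Q))).Normal := normalizer_eq_top_iff.mp h1
      have hle2 : centerThompsonAOf (T : Subgroup (G ⧸ Q)) ≤ pCore p (G ⧸ Q) :=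
        Cfsg.Agent.Helper14.le_pCore p hn (T.2.to_le (centerThompsonAOf_le_self _))
      rw [hcoreQ] at hle2
      have hbot : (T : Subgroup (G ⧸ Q)) = ⊥ := by
        by_contra hne
        exact centerThompsonAOf_ne_bot_self _ T.2 hne (le_bot_iff.mp hle2)
      exact Cfsg.Agent.Lead.TNC.npc_of_sylow_eq_bot T hbot
  obtain ⟨P', N, hNn, hcompl⟩ := hnpcQ
  haveI := hNn
  have hNcard : (P' : Subgroup (G ⧸ Q)).index = Nat.card N := hcompl.index_eq_card
  have hNcop : (Nat.card N).Coprime p := by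
    rw [← hNcard]
    exact ((Nat.Prime.coprime_iff_not_dvd hpp).mpr P'.not_dvd_index).symm
  obtain ⟨k, hk⟩ := IsPGroup.iff_card.mp T.2
  have hcopTN : (Nat.card (T : Subgroup (G ⧸ Q))).Coprime (Nat.card N) := by
    rw [hk]
    exact (Nat.Coprime.pow_right k hNcop).symm
  have hNS : N ⊓ (T : Subgroup (G ⧸ Q)) = ⊥ := (Subgroup.disjoint_of_coprime_natCard hcopTN.symm).eq_bot
  have hquot : IsPGroup p ((G ⧸ Q) ⧸ N) := by
    obtain ⟨k', hk'⟩ := IsPGroup.iff_card.mp P'.2
    apply IsPGroup.of_card (n := k')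
    rw [← Subgroup.index_eq_card, hcompl.symm.index_eq_card, hk']
  -- (∗) the invariant subgroups of `N`
  have hstar : ∀ X : Subgroup (G ⧸ Q), X ≤ N →
      (T : Subgroup (G ⧸ Q)) ≤ normalizer (X : Set (G ⧸ Q)) → X = ⊥ ∨ X = N := by
    intro X hXN hSX
    rcases hmax' (X ⊔ (T : Subgroup (G ⧸ Q))) le_sup_right with h1 | h1
    · left
      have h2 : X ≤ (T : Subgroup (G ⧸ Q)) := by
        rw [← h1]
        exact le_sup_left
      rw [eq_bot_iff, ← hNS]
      exact le_inf hXN h2
    · right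
      apply le_antisymm hXN
      intro n hn
      have h2 : n ∈ ((X ⊔ (T : Subgroup (G ⧸ Q)) : Subgroup (G ⧸ Q)) : Set (G ⧸ Q)) := by
        rw [h1]
        exact mem_top n
      rw [Subgroup.coe_mul_of_right_le_normalizer_left X _ hSX] at h2
      obtain ⟨x, hx, s, hs, rfl⟩ := Set.mem_mul.mp h2
      have hs' : s ∈ N ⊓ (T : Subgroup (G ⧸ Q)) := by
        refine ⟨?_, hs⟩
        have := N.mul_mem (N.inv_mem (hXN hx)) hn
        simpa using this
      rw [hNS, mem_bot] at hs'
      rw [hs', mul_one]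
      exact hx
  -- (b) `N` is abelian
  have hNab : ∀ x ∈ N, ∀ y ∈ N, x * y = y * x := by
    by_cases hN1 : N = ⊥
    · intro x hx y hy
      rw [hN1, mem_bot] at hx hy
      rw [hx, hy]
    have hcardN : Nat.card N ≠ 1 := fun h => hN1 (Subgroup.card_eq_one.mp h)
    obtain ⟨r, hr, hrdvd⟩ := Nat.exists_prime_and_dvd hcardN
    haveI : Fact r.Prime := ⟨hr⟩
    have hsolv : Group.IsSolvable ↥(T : Subgroup (G ⧸ Q)) := by
      haveI : Group.IsNilpotent ↥(T : Subgroup (G ⧸ Q)) := T.2.isNilpotent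
      infer_instance
    have hTN : (T : Subgroup (G ⧸ Q)) ≤ normalizer (N : Set (G ⧸ Q)) := by
      rw [normalizer_eq_top_iff.mpr hNn]
      exact le_top
    obtain ⟨R, hR⟩ := Cfsg.Agent.Lead.coprime_exists_invariant_sylow (T : Subgroup (G ⧸ Q)) N hTN
      hcopTN (Or.inl hsolv) r
    have hRne : (R : Subgroup N).map N.subtype ≠ ⊥ := by
      intro hb
      have h1 : (R : Subgroup N) = ⊥ := by
        rw [eq_bot_iff]
        intro x hx
        have : (x : G ⧸ Q) ∈ (R : Subgroup N).map N.subtype := ⟨x, hx, rfl⟩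
        rw [hb, mem_bot] at this
        exact Subtype.ext this
      exact R.ne_bot_of_dvd_card hrdvd h1
    have hNr : IsPGroup r N := by
      rcases hstar _ (map_subtype_le _) hR with h1 | h1
      · exact absurd h1 hRne
      · have h2 : (R : Subgroup N) = ⊤ := by
          rw [eq_top_iff]
          intro x _
          have hx : (x : G ⧸ Q) ∈ (R : Subgroup N).map N.subtype := by
            rw [h1]
            exact x.2
          obtain ⟨y, hy, hyx⟩ := hx
          have : y = x := Subtype.ext hyx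
          rw [← this]
          exact hy
        have h3 := R.2
        rw [h2] at h3
        exact h3.of_equiv Subgroup.topEquiv
    haveI : Nontrivial N := (Subgroup.nontrivial_iff_ne_bot N).mpr hN1
    have hZne : (center N).map N.subtype ≠ ⊥ := by
      intro hb
      have h1 : center N = ⊥ := by
        rw [eq_bot_iff]
        intro x hx
        have : (x : G ⧸ Q) ∈ (center N).map N.subtype := ⟨x, hx, rfl⟩
        rw [hb, mem_bot] at this
        exact Subtype.ext this
      have h2 := hNr.bot_lt_center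
      rw [h1] at h2
      exact lt_irrefl _ h2
    have hZn : ((center N).map N.subtype).Normal := inferInstance
    have hZinv : (T : Subgroup (G ⧸ Q)) ≤
        normalizer (((center N).map N.subtype : Subgroup (G ⧸ Q)) : Set (G ⧸ Q)) := by
      rw [normalizer_eq_top_iff.mpr hZn]
      exact le_top
    rcases hstar _ (map_subtype_le _) hZinv with h1 | h1
    · exact absurd h1 hZne
    · intro x hx y hy
      have hx' : x ∈ (center N).map N.subtype := by
        rw [h1]
        exact hx
      obtain ⟨z, hz, rfl⟩ := hx'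
      have h2 := (Subgroup.mem_center_iff.mp hz) ⟨y, hy⟩
      exact (congrArg Subtype.val h2).symm
  -- (c) every `2`-subgroup of `G` is abelian
  have hab2 : Ab2 G := by
    intro R hR x hx y hy
    have him : ∀ z ∈ R, π z ∈ N := by
      intro z hz
      obtain ⟨a, ha⟩ := hR ⟨z, hz⟩
      have hza : z ^ 2 ^ a = 1 := congrArg Subtype.val ha
      obtain ⟨b, hb⟩ := hquot (QuotientGroup.mk' N (π z))
      have h1 : (QuotientGroup.mk' N (π z)) ^ 2 ^ a = 1 := by
        rw [← map_pow, ← map_pow, hza, map_one, map_one]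
      have h2 := eq_one_of_pow_two_pow_of_pow_prime_pow hp h1 hb
      exact (QuotientGroup.eq_one_iff _).mp h2
    have hcomm : π (x * y * x⁻¹ * y⁻¹) = 1 := by
      simp only [map_mul, map_inv]
      rw [hNab _ (him x hx) _ (him y hy)]
      group
    have h1 : x * y * x⁻¹ * y⁻¹ ∈ Q := by
      rw [← hπk]
      exact hcomm
    have h2 : x * y * x⁻¹ * y⁻¹ ∈ R :=
      R.mul_mem (R.mul_mem (R.mul_mem hx hy) (R.inv_mem hx)) (R.inv_mem hy)
    obtain ⟨a, ha⟩ := hR ⟨_, h2⟩
    obtain ⟨b, hb⟩ := hQp ⟨_, h1⟩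
    have h3 : x * y * x⁻¹ * y⁻¹ = 1 :=
      eq_one_of_pow_two_pow_of_pow_prime_pow hp (congrArg Subtype.val ha) (congrArg Subtype.val hb)
    show x * y = y * x
    calc x * y = (x * y * x⁻¹ * y⁻¹) * (y * x) := by group
      _ = y * x := by rw [h3, one_mul]
  -- (d) the intersection of the family is normal
  have hst := stabHypSub_of_ab2 hp hab2
  have hn := h.normal_famInf S hst hc
  have htop : normalizer ((famInf 𝒜 (S : Subgroup G) : Subgroup G) : Set G) = ⊤ :=
    normalizer_eq_top_iff.mpr hn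
  -- (e) `G` is a `p`-group
  have hnpcG : HasNormalPComplement p G :=
    Cfsg.Agent.Lead.TNC.npc_of_top (Cfsg.Agent.Lead.TNC.npc_of_eq htop hN)
  have hpG : IsPGroup p G := isPGroup_of_npc hnpcG hc
  exact (S.is_maximal' (hpG.to_subgroup ⊤) le_top).symm

end Cfsg.Agent.Helper26.FamilyNPC
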