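import Mathlib
import Cfsg.Agent.Helper26.FamilyNPC
import Cfsg.Agent.Helper26.ZJFusionD
import Cfsg.Agent.Helper26.ConstrainedSub
import Cfsg.Agent.Helper26.FrattiniFusion

set_option autoImplicit false
set_option linter.style.haveILetI false
set_option linter.unusedSectionVars false

/-! The axiomatic Glauberman–Thompson criterion for fusion systems: a fixed family of abelian
subgroups of `S`, with invariance of the intersections and replacement. -/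

namespace Cfsg.Agent.Helper26.FamilyFusion

open Cfsg Cfsg.FusionSystem Cfsg.Agent.Helper25 Cfsg.Agent.Helper26 Cfsg.Agent.Helper26.MasterRed
open scoped commutatorElement

universe u

section Basic

variable {Ω : Type*} [Group Ω] {S : Subgroup Ω}

theorem exists_aut_of_hom [Finite S] (F : FusionSystem S) {Q : Subgroup Ω} (hQS : Q ≤ S)
    {φ : Q →* Ω} (hφ : φ ∈ F.Hom Q) (hQ : ∀ x : Q, φ x ∈ Q) :
    ∃ α ∈ F.autGroup Q, ∀ x : Q, ((α x : Q) : Ω) = φ x := by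
  have hfin : Finite Q := finite_of_le hQS
  have hinj : Function.Injective (φ.codRestrict Q hQ) :=
    fun x y hxy => F.injective_of_mem hφ (congrArg Subtype.val hxy)
  have hbij : Function.Bijective (φ.codRestrict Q hQ) := Finite.injective_iff_bijective.mp hinj
  refine ⟨MulEquiv.ofBijective (φ.codRestrict Q hQ) hbij, ?_, fun x => rfl⟩
  rw [mem_autGroup_iff F hQS]
  have e : autHom (MulEquiv.ofBijective (φ.codRestrict Q hQ) hbij) = φ := by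
    ext x
    rfl
  rw [e]
  exact hφ

/-- The hypotheses on the family `𝒜`. -/
structure FamHyp (F : FusionSystem S) (𝒜 : Set (Subgroup Ω)) : Prop where
  le : ∀ A ∈ 𝒜, A ≤ S
  comm : ∀ A ∈ 𝒜, ∀ x ∈ A, ∀ y ∈ A, x * y = y * x
  ne : 𝒜.Nonempty
  inv : ∀ Q : Subgroup Ω, Q ≤ S → (∃ A ∈ 𝒜, A ≤ Q) → ∀ α ∈ F.autGroup Q, ∀ x : ↥Q,
    (x : Ω) ∈ famInf 𝒜 Q → (((α : MulAut ↥Q) x : ↥Q) : Ω) ∈ famInf 𝒜 Q
  repl : ∀ B : Subgroup Ω, B ≤ S → ⁅⁅B, B⁆, B⁆ = ⊥ → (∃ A ∈ 𝒜, ⁅B, B⁆ ≤ A ∧ ¬ B ≤ A) →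
    ∃ A ∈ 𝒜, ⁅B, B⁆ ≤ A ∧ ¬ B ≤ A ∧ B ≤ Subgroup.normalizer (A : Set Ω)

theorem autGroup_mono [Finite S] {E F : FusionSystem S} (hEF : E ≤ F) {Q : Subgroup Ω}
    (hQS : Q ≤ S) : E.autGroup Q ≤ F.autGroup Q := by
  intro α hα
  rw [mem_autGroup_iff E hQS] at hα
  rw [mem_autGroup_iff F hQS]
  exact hEF Q hα

theorem FamHyp.mono [Finite S] {E F : FusionSystem S} {𝒜 : Set (Subgroup Ω)} (h : FamHyp F 𝒜)
    (hEF : E ≤ F) : FamHyp E 𝒜 :=
  ⟨h.le, h.comm, h.ne, fun Q hQS hex α hα x hx => h.inv Q hQS hex α (autGroup_mono hEF hQS hα) x hx,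
    h.repl⟩

theorem famInf_self {𝒜 : Set (Subgroup Ω)} (h : ∀ A ∈ 𝒜, A ≤ S) : famInf 𝒜 S = ⨅ A ∈ 𝒜, A := by
  unfold famInf
  rw [sInf_eq_iInf]
  apply le_antisymm
  · refine le_iInf₂ (fun A hA => ?_)
    exact iInf₂_le A ⟨hA, h A hA⟩
  · refine le_iInf₂ (fun A hA => ?_)
    exact iInf₂_le A hA.1

end Basic

section Translate

variable {Ω : Type*} [Group Ω] {S : Subgroup Ω} {G : Type*} [Group G]

/-- the image of the family in a realizing group -/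
def imgFam (ι : S →* G) (𝒜 : Set (Subgroup Ω)) : Set (Subgroup G) :=
  (fun A => imageAlong ι A) '' 𝒜

theorem imageAlong_le_iff (ι : S →* G) (hinj : Function.Injective ι) {A Q : Subgroup Ω}
    (hA : A ≤ S) : imageAlong ι A ≤ imageAlong ι Q ↔ A ≤ Q := by
  constructor
  · intro h x hx
    have h1 := h (apply_mem_imageAlong ι hA ⟨x, hx⟩)
    obtain ⟨z, hz, hzx⟩ := (mem_imageAlong_iff ι Q _).mp h1
    have h2 := hinj hzx
    have h3 : (z : Ω) = x := congrArg (fun w : S => (w : Ω)) h2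
    rw [← h3]
    exact hz
  · exact imageAlong_mono ι

theorem famInf_imgFam (ι : S →* G) (hinj : Function.Injective ι) (𝒜 : Set (Subgroup Ω))
    (h𝒜 : ∀ A ∈ 𝒜, A ≤ S) {Q : Subgroup Ω} (hex : ∃ A ∈ 𝒜, A ≤ Q) :
    famInf (imgFam ι 𝒜) (imageAlong ι Q) = imageAlong ι (famInf 𝒜 Q) := by
  ext y
  constructor
  · intro hy
    unfold famInf at hy
    rw [Subgroup.mem_sInf] at hy
    obtain ⟨A₀, hA₀, hA₀Q⟩ := hex
    have h0 := hy (imageAlong ι A₀) ⟨⟨A₀, hA₀, rfl⟩, imageAlong_mono ι hA₀Q⟩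
    obtain ⟨s₀, hs₀, rfl⟩ := (mem_imageAlong_iff ι A₀ _).mp h0
    refine (mem_imageAlong_iff ι _ _).mpr ⟨s₀, ?_, rfl⟩
    unfold famInf
    rw [Subgroup.mem_sInf]
    rintro A ⟨hA, hAQ⟩
    have h1 := hy (imageAlong ι A) ⟨⟨A, hA, rfl⟩, imageAlong_mono ι hAQ⟩
    obtain ⟨s, hs, hss⟩ := (mem_imageAlong_iff ι A _).mp h1
    have h2 := hinj hss
    rw [← h2]
    exact hs
  · intro hy
    obtain ⟨s, hs, rfl⟩ := (mem_imageAlong_iff ι _ _).mp hy
    unfold famInf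
    rw [Subgroup.mem_sInf]
    rintro A' ⟨⟨A, hA, rfl⟩, hAQ⟩
    have hAQ' : A ≤ Q := (imageAlong_le_iff ι hinj (h𝒜 A hA)).mp hAQ
    refine (mem_imageAlong_iff ι A _).mpr ⟨s, ?_, rfl⟩
    unfold famInf at hs
    rw [Subgroup.mem_sInf] at hs
    exact hs A ⟨hA, hAQ'⟩

theorem zjFix_of_realized [Finite S] [Finite G] {p : ℕ} (E : FusionSystem S)
    (𝒜 : Set (Subgroup Ω)) (hA : FamHyp E 𝒜) (ι : S →* G) (hreal : E.IsRealizedBy ι)
    (T : Subgroup G) (hT : T = ι.range) :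
    ZJFix p T (imgFam ι 𝒜) := by
  have hinj := hreal.1
  refine ⟨?_, ?_, ?_, ?_, ?_⟩
  · rintro _ ⟨A, hA', rfl⟩
    rw [hT]
    exact imageAlong_le_of_range ι rfl A
  · rintro _ ⟨A, hA', rfl⟩ x hx y hy
    obtain ⟨a, ha, rfl⟩ := (mem_imageAlong_iff ι A _).mp hx
    obtain ⟨b, hb, rfl⟩ := (mem_imageAlong_iff ι A _).mp hy
    rw [← map_mul, ← map_mul]
    congr 1
    exact Subtype.ext (hA.comm A hA' a ha b hb)
  · obtain ⟨A, hA'⟩ := hA.ne
    exact ⟨_, A, hA', rfl⟩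
  · -- invariance
    rintro T' hT' ⟨_, ⟨A, hA', rfl⟩, hAT'⟩ g hg
    have hT'r : T' ≤ ι.range := hT ▸ hT'
    obtain ⟨Q, hQ⟩ : ∃ Q : Subgroup Ω, Q = preimageAlong ι T' := ⟨_, rfl⟩
    have hQS : Q ≤ S := hQ ▸ preimageAlong_le ι T'
    have hQT' : imageAlong ι Q = T' := hQ ▸ imageAlong_preimageAlong ι rfl hT'r
    have hAQ : A ≤ Q := by
      rw [← imageAlong_le_iff ι hinj (hA.le A hA'), hQT']
      exact hAT'
    have hconjT : ∀ y : Q, g * ι ⟨y, hQS y.2⟩ * g⁻¹ ∈ T' := by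
      intro y
      have h1 : ι ⟨y, hQS y.2⟩ ∈ T' := hQT' ▸ apply_mem_imageAlong ι hQS y
      exact ((Subgroup.mem_normalizer_iff.mp hg) _).mp h1
    obtain ⟨φ, hφ, hφS, hφι⟩ := exists_hom_of_conj E ι hreal hQS g (fun y => hT'r (hconjT y))
    have hQmem : ∀ z : Ω, z ∈ preimageAlong ι T' → z ∈ Q := by
      intro z hz
      rw [hQ]
      exact hz
    have hφQ : ∀ x : Q, φ x ∈ Q := by
      intro x
      apply hQmem
      refine (mem_preimageAlong _ _ _).mpr ⟨hφS x, ?_⟩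
      rw [hφι x]
      exact hconjT x
    obtain ⟨α, hα, hαφ⟩ := exists_aut_of_hom E hQS hφ hφQ
    have hfin : Finite (famInf (imgFam ι 𝒜) T') := inferInstance
    apply mem_normalizer_of_map_conj_le
    rintro _ ⟨y, hy, rfl⟩
    rw [SetLike.mem_coe, ← hQT', famInf_imgFam ι hinj 𝒜 hA.le ⟨A, hA', hAQ⟩] at hy
    obtain ⟨s, hs, rfl⟩ := (mem_imageAlong_iff ι _ _).mp hy
    have hsQ : (s : Ω) ∈ Q := (famInf_le hA' hAQ).trans hAQ hs
    have h1 := hA.inv Q hQS ⟨A, hA', hAQ⟩ α hα ⟨s, hsQ⟩ hs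
    rw [hαφ] at h1
    simp only [MulEquiv.coe_toMonoidHom, MulAut.conj_apply]
    rw [← hQT', famInf_imgFam ι hinj 𝒜 hA.le ⟨A, hA', hAQ⟩]
    have h2 := hφι ⟨s, hsQ⟩
    have h3 : (⟨((⟨(s : Ω), hsQ⟩ : Q) : Ω), hQS hsQ⟩ : S) = s := Subtype.ext rfl
    rw [h3] at h2
    rw [← h2]
    exact (mem_imageAlong_iff ι _ _).mpr ⟨_, h1, rfl⟩
  · -- replacement
    rintro B' hB'T hcl ⟨_, ⟨A, hA', rfl⟩, hBA, hnBA⟩
    have hB'r : B' ≤ ι.range := hT ▸ hB'T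
    obtain ⟨B, hB⟩ : ∃ B : Subgroup Ω, B = preimageAlong ι B' := ⟨_, rfl⟩
    have hBS : B ≤ S := hB ▸ preimageAlong_le ι B'
    have hBB' : imageAlong ι B = B' := hB ▸ imageAlong_preimageAlong ι rfl hB'r
    have hmem : ∀ b : Ω, ∀ hb : b ∈ B, ι ⟨b, hBS hb⟩ ∈ B' := fun b hb =>
      hBB' ▸ apply_mem_imageAlong ι hBS ⟨b, hb⟩
    have hcomm : ∀ a (ha : a ∈ B) b (hb : b ∈ B),
        ι ⟨⁅a, b⁆, S.mul_mem (S.mul_mem (S.mul_mem (hBS ha) (hBS hb)) (S.inv_mem (hBS ha)))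
          (S.inv_mem (hBS hb))⟩ = ⁅ι ⟨a, hBS ha⟩, ι ⟨b, hBS hb⟩⁆ := by
      intro a ha b hb
      have e : (⟨⁅a, b⁆, S.mul_mem (S.mul_mem (S.mul_mem (hBS ha) (hBS hb)) (S.inv_mem (hBS ha)))
          (S.inv_mem (hBS hb))⟩ : S) = ⁅(⟨a, hBS ha⟩ : S), ⟨b, hBS hb⟩⁆ := Subtype.ext rfl
      rw [e, map_commutatorElement]
    -- class at most two
    have hcl' : ⁅⁅B, B⁆, B⁆ = ⊥ := by
      rw [Subgroup.commutator_eq_bot_iff_le_centralizer, Subgroup.commutator_le]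
      intro a ha b hb
      rw [Subgroup.mem_centralizer_iff]
      intro c hc
      have h1 : ⁅⁅ι ⟨a, hBS ha⟩, ι ⟨b, hBS hb⟩⁆, ι ⟨c, hBS hc⟩⁆ ∈ ⁅⁅B', B'⁆, B'⁆ :=
        Subgroup.commutator_mem_commutator
          (Subgroup.commutator_mem_commutator (hmem a ha) (hmem b hb)) (hmem c hc)
      rw [hcl, Subgroup.mem_bot, commutatorElement_eq_one_iff_mul_comm, ← hcomm a ha b hb,
        ← map_mul, ← map_mul] at h1
      have h2 := hinj h1
      exact (congrArg (fun w : S => (w : Ω)) h2).symm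
    have hBA' : ⁅B, B⁆ ≤ A := by
      rw [Subgroup.commutator_le]
      intro a ha b hb
      have h1 : ⁅ι ⟨a, hBS ha⟩, ι ⟨b, hBS hb⟩⁆ ∈ imageAlong ι A :=
        hBA (Subgroup.commutator_mem_commutator (hmem a ha) (hmem b hb))
      rw [← hcomm a ha b hb] at h1
      obtain ⟨z, hz, hzx⟩ := (mem_imageAlong_iff ι A _).mp h1
      have h2 := hinj hzx
      have h3 : (z : Ω) = ⁅a, b⁆ := congrArg (fun w : S => (w : Ω)) h2
      rw [← h3]
      exact hz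
    have hnBA' : ¬ B ≤ A := by
      intro h
      apply hnBA
      rw [← hBB']
      exact imageAlong_mono ι h
    obtain ⟨A₁, hA₁, h1, h2, h3⟩ := hA.repl B hBS hcl' ⟨A, hA', hBA', hnBA'⟩
    refine ⟨imageAlong ι A₁, ⟨A₁, hA₁, rfl⟩, ?_, ?_, ?_⟩
    · rw [Subgroup.commutator_le]
      intro x hx y hy
      rw [← hBB'] at hx hy
      obtain ⟨a, ha, rfl⟩ := (mem_imageAlong_iff ι B _).mp hx
      obtain ⟨b, hb, rfl⟩ := (mem_imageAlong_iff ι B _).mp hy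
      have h4 := hcomm a ha b hb
      rw [Subtype.coe_eta, Subtype.coe_eta] at h4
      rw [← h4]
      exact (mem_imageAlong_iff ι A₁ _).mpr ⟨_, h1 (Subgroup.commutator_mem_commutator ha hb), rfl⟩
    · intro h
      apply h2
      rw [← hBB'] at h
      exact (imageAlong_le_iff ι hinj hBS).mp h
    · intro x hx
      rw [← hBB'] at hx
      obtain ⟨b, hb, rfl⟩ := (mem_imageAlong_iff ι B _).mp hx
      have hfin : Finite (imageAlong ι A₁) := inferInstance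
      apply mem_normalizer_of_map_conj_le
      rintro _ ⟨y, hy, rfl⟩
      obtain ⟨a, ha, rfl⟩ := (mem_imageAlong_iff ι A₁ _).mp hy
      simp only [MulEquiv.coe_toMonoidHom, MulAut.conj_apply]
      rw [← map_inv, ← map_mul, ← map_mul]
      refine (mem_imageAlong_iff ι A₁ _).mpr ⟨_, ?_, rfl⟩
      exact ((Subgroup.mem_normalizer_iff.mp (h3 hb)) _).mp ha

end Translate

end Cfsg.Agent.Helper26.FamilyFusion
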