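import Mathlib
import Cfsg.Agent.Helper26.FamilyFusion

set_option autoImplicit false
set_option linter.style.haveILetI false
set_option linter.unusedSectionVars false

/-! The fusion system induced on `S` by a subgroup `H` of a realizing group `G` containing the
image of `S`. -/

namespace Cfsg.Agent.Helper26.FamilyFusion

open Cfsg Cfsg.FusionSystem Cfsg.Agent.Helper25 Cfsg.Agent.Helper26 Cfsg.Agent.Helper26.MasterRed
open scoped commutatorElement

universe u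

section Sub

variable {Ω : Type*} [Group Ω] {S : Subgroup Ω} {G : Type*} [Group G]

/-- The fusion system on `S` induced by a subgroup `H` of `G` containing the image of `ι`. -/
noncomputable def subRealized (ι : S →* G) (hinj : Function.Injective ι) (H : Subgroup G)
    (hH : ι.range ≤ H) : FusionSystem S where
  Hom P := {φ | ∃ (hP : P ≤ S) (hφ : ∀ x : P, φ x ∈ S), ∃ h ∈ H, ∀ x : P,
    ι ⟨φ x, hφ x⟩ = h * ι ⟨x, hP x.2⟩ * h⁻¹}
  le_of_mem := fun ⟨hP, hφ, _⟩ => ⟨hP, hφ⟩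
  injective_of_mem := by
    rintro P φ ⟨hP, hφ, h, hh, hx⟩ x y hxy
    have h3 : ι ⟨φ x, hφ x⟩ = ι ⟨φ y, hφ y⟩ := by
      congr 1
      exact Subtype.ext hxy
    rw [hx x, hx y] at h3
    have h4 : ι ⟨x, hP x.2⟩ = ι ⟨y, hP y.2⟩ := by
      have := mul_right_cancel h3
      exact mul_left_cancel this
    have h5 := hinj h4
    exact Subtype.ext (congrArg (fun z : S => (z : Ω)) h5)
  conj_mem := by
    intro P g hP hg
    have hval : ∀ x : P, conjHom P g x ∈ S := fun x =>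
      S.mul_mem (S.mul_mem hg (hP x.2)) (S.inv_mem hg)
    refine ⟨hP, hval, ι ⟨g, hg⟩, hH ⟨_, rfl⟩, fun x => ?_⟩
    rw [← map_inv, ← map_mul, ← map_mul]
    congr 1
  comp_mem := by
    rintro P Q φ ψ ⟨hP, hφ, h, hh, hx⟩ ⟨hQ, hψ, k, hk, hy⟩ hPQ
    refine ⟨hP, fun x => hψ _, k * h, H.mul_mem hk hh, fun x => ?_⟩
    have h1 := hy ⟨φ x, hPQ x⟩
    have h2 := hx x
    have e : (⟨((⟨φ x, hPQ x⟩ : Q) : Ω), hQ (hPQ x)⟩ : S) = ⟨φ x, hφ x⟩ := Subtype.ext rfl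
    rw [e, h2] at h1
    rw [mul_inv_rev]
    have e2 : ι ⟨(ψ.comp (φ.codRestrict Q hPQ)) x, hψ _⟩ = ι ⟨ψ ⟨φ x, hPQ x⟩, hψ _⟩ := rfl
    rw [e2, h1]
    group
  inv_mem := by
    rintro P φ ⟨hP, hφ, h, hh, hx⟩
    have hφinj : Function.Injective φ := by
      intro x y hxy
      have h3 : ι ⟨φ x, hφ x⟩ = ι ⟨φ y, hφ y⟩ := by
        congr 1
        exact Subtype.ext hxy
      rw [hx x, hx y] at h3
      have h4 : ι ⟨x, hP x.2⟩ = ι ⟨y, hP y.2⟩ := mul_left_cancel (mul_right_cancel h3)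
      exact Subtype.ext (congrArg (fun z : S => (z : Ω)) (hinj h4))
    have hrS : φ.range ≤ S := by
      rintro _ ⟨x, rfl⟩
      exact hφ x
    refine ⟨P.subtype.comp (isoOfHom φ hφinj rfl).symm.toMonoidHom, ?_, ?_⟩
    · refine ⟨hrS, fun y => hP (Subtype.mem _), h⁻¹, H.inv_mem hh, ?_⟩
      rintro ⟨_, ⟨x, rfl⟩⟩
      have e1 : (isoOfHom φ hφinj rfl).symm ⟨φ x, ⟨x, rfl⟩⟩ = x := by
        rw [MulEquiv.symm_apply_eq]
        exact Subtype.ext rfl
      have e2 : ι ⟨(P.subtype.comp (isoOfHom φ hφinj rfl).symm.toMonoidHom) ⟨φ x, ⟨x, rfl⟩⟩,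
          hP (Subtype.mem _)⟩ = ι ⟨x, hP x.2⟩ := by
        congr 1
        apply Subtype.ext
        show (((isoOfHom φ hφinj rfl).symm ⟨φ x, ⟨x, rfl⟩⟩ : P) : Ω) = x
        rw [e1]
      rw [e2]
      have h2 := hx x
      have e3 : ι ⟨((⟨φ x, ⟨x, rfl⟩⟩ : φ.range) : Ω), hrS ⟨x, rfl⟩⟩ = ι ⟨φ x, hφ x⟩ := rfl
      rw [e3, h2]
      group
    · intro x
      have e1 : (isoOfHom φ hφinj rfl).symm ⟨φ x, ⟨x, rfl⟩⟩ = x := by
        rw [MulEquiv.symm_apply_eq]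
        exact Subtype.ext rfl
      show (((isoOfHom φ hφinj rfl).symm ⟨φ x, ⟨x, rfl⟩⟩ : P) : Ω) = x
      rw [e1]

theorem subRealized_isRealizedBy (ι : S →* G) (hinj : Function.Injective ι) (H : Subgroup G)
    (hH : ι.range ≤ H) :
    (subRealized ι hinj H hH).IsRealizedBy (ι.codRestrict H (fun s => hH ⟨s, rfl⟩)) := by
  refine ⟨fun x y hxy => hinj (congrArg Subtype.val hxy), ?_⟩
  intro P hP φ hφ
  constructor
  · rintro ⟨_, _, h, hh, hx⟩
    exact ⟨⟨h, hh⟩, fun x => Subtype.ext (hx x)⟩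
  · rintro ⟨g, hg⟩
    exact ⟨hP, hφ, g, g.2, fun x => congrArg Subtype.val (hg x)⟩

theorem subRealized_le (E : FusionSystem S) (ι : S →* G) (hreal : E.IsRealizedBy ι)
    (H : Subgroup G) (hH : ι.range ≤ H) : subRealized ι hreal.1 H hH ≤ E := by
  rintro P φ ⟨hP, hφ, h, -, hx⟩
  exact (hreal.2 P hP φ hφ).mpr ⟨h, hx⟩

theorem range_codRestrict (ι : S →* G) (H : Subgroup G) (hH : ι.range ≤ H) :
    (ι.codRestrict H (fun s => hH ⟨s, rfl⟩)).range = ι.range.subgroupOf H := by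
  ext ⟨y, hy⟩
  rw [Subgroup.mem_subgroupOf]
  constructor
  · rintro ⟨s, hs⟩
    exact ⟨s, congrArg Subtype.val hs⟩
  · rintro ⟨s, hs⟩
    exact ⟨s, Subtype.ext hs⟩

end Sub

end Cfsg.Agent.Helper26.FamilyFusion
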