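import Mathlib
import Cfsg.Agent.Helper26.FamilySub

set_option autoImplicit false
set_option linter.style.haveILetI false
set_option linter.unusedSectionVars false

/-! The constrained case of the axiomatic Glauberman–Thompson criterion: a model of a system
with a family as in `FamHyp` whose normalizer system at the intersection of the family is inner,
is a `p`-group. -/

namespace Cfsg.Agent.Helper26.FamilyFusion

open Cfsg Cfsg.FusionSystem Cfsg.Agent.Helper25 Cfsg.Agent.Helper26 Cfsg.Agent.Helper26.MasterRed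
open scoped commutatorElement

universe u

theorem centralizer_pCore_le_subgroup {G : Type*} [Group G] [Finite G] {p : ℕ} [Fact p.Prime]
    (hc : Subgroup.centralizer (pCore p G : Set G) ≤ pCore p G) (H : Subgroup G)
    (hH : pCore p G ≤ H) :
    Subgroup.centralizer ((pCore p ↥H : Subgroup ↥H) : Set ↥H) ≤ pCore p ↥H := by
  haveI hnG : (pCore p G).Normal := Cfsg.Agent.Helper14.pCore_normal p
  have hn : ((pCore p G).subgroupOf H).Normal := Subgroup.normal_subgroupOf
  have hpg : IsPGroup p ((pCore p G).subgroupOf H) :=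
    (Cfsg.Agent.Helper14.pCore_isPGroup p).comap_subtype
  have hle : (pCore p G).subgroupOf H ≤ pCore p ↥H := Cfsg.Agent.Helper14.le_pCore p hn hpg
  intro x hx
  apply hle
  rw [Subgroup.mem_subgroupOf]
  apply hc
  rw [Subgroup.mem_centralizer_iff]
  intro q hq
  have hqH : q ∈ H := hH hq
  have h1 : (⟨q, hqH⟩ : H) ∈ pCore p ↥H := hle (by rw [Subgroup.mem_subgroupOf]; exact hq)
  have h2 := (Subgroup.mem_centralizer_iff.mp hx) ⟨q, hqH⟩ h1
  exact congrArg Subtype.val h2

section Main

variable {Ω : Type*} [Group Ω] {S : Subgroup Ω}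

theorem famInf_le_self {𝒜 : Set (Subgroup Ω)} (h𝒜 : ∀ A ∈ 𝒜, A ≤ S) (hne : 𝒜.Nonempty) :
    famInf 𝒜 S ≤ S := by
  obtain ⟨A, hA⟩ := hne
  exact (famInf_le hA (h𝒜 A hA)).trans (h𝒜 A hA)

theorem le_normalizer_famInf [Finite S] {F : FusionSystem S} {𝒜 : Set (Subgroup Ω)}
    (hA : FamHyp F 𝒜) : S ≤ Subgroup.normalizer ((famInf 𝒜 S : Subgroup Ω) : Set Ω) := by
  intro s hs
  have hIS := famInf_le_self hA.le hA.ne
  have hfin : Finite (famInf 𝒜 S) := finite_of_le hIS
  apply mem_normalizer_of_map_conj_le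
  rintro _ ⟨y, hy, rfl⟩
  simp only [MulEquiv.coe_toMonoidHom, MulAut.conj_apply]
  obtain ⟨A, hA'⟩ := hA.ne
  have hmem : (MulAut.conj (⟨s, hs⟩ : S)) ∈ F.autGroup S := by
    rw [mem_autGroup_iff F le_rfl]
    have e : autHom (MulAut.conj (⟨s, hs⟩ : S)) = conjHom S s := by
      ext x
      rfl
    rw [e]
    exact F.conj_mem le_rfl hs
  have := hA.inv S le_rfl ⟨A, hA', hA.le A hA'⟩ _ hmem ⟨y, hIS hy⟩ hy
  exact this

theorem surjective_of_famHyp {p : ℕ} [Fact p.Prime] (hp : p ≠ 2) [Finite S] (hS : IsPGroup p S)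
    (E : FusionSystem S) (𝒜 : Set (Subgroup Ω)) (hA : FamHyp E 𝒜)
    (hNI : NInner E (famInf 𝒜 S))
    {G : Type u} [Group G] [Finite G] (ι : S →* G) (hreal : E.IsRealizedBy ι) (T : Sylow p G)
    (hT : (T : Subgroup G) = ι.range)
    (hc : Subgroup.centralizer (pCore p G : Set G) ≤ pCore p G) : Function.Surjective ι := by
  by_contra hns
  have hTtop : (T : Subgroup G) ≠ ⊤ := by
    intro h
    apply hns
    rw [← MonoidHom.range_eq_top, ← hT, h]
  obtain ⟨H, hH, hmin⟩ := WellFounded.has_min (wellFounded_lt (α := Subgroup G))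
    {H | (T : Subgroup G) < H} ⟨⊤, lt_top_iff_ne_top.mpr hTtop⟩
  have hTH : (T : Subgroup G) ≤ H := le_of_lt hH
  have hrH : ι.range ≤ H := hT ▸ hTH
  have hmaxH : ∀ K : Subgroup ↥H, ((T.subtype hTH : Sylow p ↥H) : Subgroup ↥H) ≤ K →
      K = ((T.subtype hTH : Sylow p ↥H) : Subgroup ↥H) ∨ K = ⊤ := by
    intro K hK
    rw [Sylow.coe_subtype] at hK ⊢
    have hK' : (T : Subgroup G) ≤ K.map H.subtype := by
      have := Subgroup.map_mono (f := H.subtype) hK
      rwa [Subgroup.map_subgroupOf_eq_of_le hTH] at this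
    have hKH : K.map H.subtype ≤ H := by
      rintro _ ⟨x, -, rfl⟩
      exact x.2
    rcases eq_or_lt_of_le hK' with h | h
    · left
      have : (K.map H.subtype).comap H.subtype = K :=
        Subgroup.comap_map_eq_self_of_injective H.subtype_injective K
      rw [← this, ← h]
      rfl
    · right
      have h1 : ¬ K.map H.subtype < H := hmin _ h
      have h2 : K.map H.subtype = H := by
        rcases eq_or_lt_of_le hKH with h3 | h3
        · exact h3
        · exact absurd h3 h1
      apply Subgroup.map_injective H.subtype_injective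
      rw [h2, ← MonoidHom.range_eq_map, Subgroup.range_subtype]
  -- the induced system
  have hrealH := subRealized_isRealizedBy ι hreal.1 H hrH
  have hleH := subRealized_le E ι hreal H hrH
  have hTeq : ((T.subtype hTH : Sylow p ↥H) : Subgroup ↥H) =
      (ι.codRestrict H (fun s => hrH ⟨s, rfl⟩)).range := by
    rw [Sylow.coe_subtype, range_codRestrict, hT]
  have hcH := centralizer_pCore_le_subgroup hc H
    ((Cfsg.Agent.Helper14.pCore_le_sylow p T).trans hTH)
  have hAH : FamHyp (subRealized ι hreal.1 H hrH) 𝒜 := hA.mono hleH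
  have hZ := zjFix_of_realized (p := p) (subRealized ι hreal.1 H hrH) 𝒜 hAH
    (ι.codRestrict H (fun s => hrH ⟨s, rfl⟩)) hrealH _ hTeq
  have hIS := famInf_le_self hA.le hA.ne
  have hnpc := npc_normalizer_of_ninner hS (subRealized ι hreal.1 H hrH)
    (ι.codRestrict H (fun s => hrH ⟨s, rfl⟩)) hrealH (T.subtype hTH) hTeq hIS
    (le_normalizer_famInf hA) (ninner_of_le hleH hNI)
  obtain ⟨A, hA'⟩ := hA.ne
  have hfam := famInf_imgFam (ι.codRestrict H (fun s => hrH ⟨s, rfl⟩)) hrealH.1 𝒜 hA.le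
    (Q := S) ⟨A, hA', hA.le A hA'⟩
  rw [imageAlong_self, ← hTeq] at hfam
  have hnpc' : HasNormalPComplement p ↥(Subgroup.normalizer
      ((famInf (imgFam (ι.codRestrict H (fun s => hrH ⟨s, rfl⟩)) 𝒜)
        ((T.subtype hTH : Sylow p ↥H) : Subgroup ↥H) : Subgroup ↥H) : Set ↥H)) := by
    rw [hfam]
    exact hnpc
  have htop := FamilyNPC.sylow_eq_top_of_maximal hp (T.subtype hTH) hmaxH hcH hZ hnpc'
  rw [Sylow.coe_subtype, Subgroup.subgroupOf_eq_top] at htop
  exact absurd hH (not_lt_of_ge htop)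

end Main

end Cfsg.Agent.Helper26.FamilyFusion
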