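import Mathlib

set_option autoImplicit false

namespace Cfsg.Agent.Helper26

open Subgroup

section abstract

variable {Γ A : Type*} [Group Γ] [CommGroup A] (ρ : Γ →* MulAut A)

/-- the fixed points of a subgroup under an action by automorphisms -/
def fixedSub (H : Subgroup Γ) : Subgroup A where
  carrier := {a | ∀ h ∈ H, ρ h a = a}
  one_mem' := fun h _ => map_one _
  mul_mem' := fun {a b} ha hb h hh => by
    show ρ h (a * b) = a * b
    rw [map_mul, ha h hh, hb h hh]
  inv_mem' := fun {a} ha h hh => by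
    show ρ h a⁻¹ = a⁻¹
    rw [map_inv, ha h hh]

theorem mem_fixedSub {H : Subgroup Γ} {a : A} : a ∈ fixedSub ρ H ↔ ∀ h ∈ H, ρ h a = a := Iff.rfl

theorem fixedSub_anti {H K : Subgroup Γ} (h : H ≤ K) : fixedSub ρ K ≤ fixedSub ρ H :=
  fun _ ha x hx => ha x (h hx)

variable (H : Subgroup Γ) [H.FiniteIndex]

/-- the trace map from `H`-fixed points to `Γ`-fixed points -/
noncomputable def traceHom : A →* A :=
  letI : Fintype (Γ ⧸ H) := Fintype.ofFinite _
  ∏ q : Γ ⧸ H, (ρ q.out).toMonoidHom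

theorem traceHom_apply (a : A) :
    traceHom ρ H a = letI : Fintype (Γ ⧸ H) := Fintype.ofFinite _; ∏ q : Γ ⧸ H, ρ q.out a := by
  unfold traceHom
  rw [MonoidHom.finset_prod_apply]
  rfl

theorem apply_eq_of_coset {a : A} (ha : a ∈ fixedSub ρ H) {x y : Γ} (hxy : x⁻¹ * y ∈ H) :
    ρ y a = ρ x a := by
  have : y = x * (x⁻¹ * y) := by group
  rw [this, map_mul, MulAut.mul_apply, ha _ hxy]

theorem traceHom_fixed {a : A} (ha : a ∈ fixedSub ρ H) (g : Γ) :
    ρ g (traceHom ρ H a) = traceHom ρ H a := by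
  letI : Fintype (Γ ⧸ H) := Fintype.ofFinite _
  rw [traceHom_apply, map_prod]
  have h1 : ∀ q : Γ ⧸ H, ρ g (ρ q.out a) = ρ ((g • q).out) a := by
    intro q
    rw [← MulAut.mul_apply, ← map_mul]
    symm
    apply apply_eq_of_coset ρ H ha
    have h2 : (QuotientGroup.mk ((g • q).out) : Γ ⧸ H) = QuotientGroup.mk (g * q.out) := by
      rw [QuotientGroup.out_eq']
      conv_lhs => rw [← QuotientGroup.out_eq' q]
      rfl
    have h3 := QuotientGroup.eq.mp h2.symm
    exact h3
  rw [Finset.prod_congr rfl (fun q _ => h1 q)]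
  exact Equiv.prod_comp (MulAction.toPerm g : Equiv.Perm (Γ ⧸ H)) (fun q => ρ q.out a)

theorem traceHom_of_fixed {a : A} (ha : a ∈ fixedSub ρ ⊤) : traceHom ρ H a = a ^ H.index := by
  letI : Fintype (Γ ⧸ H) := Fintype.ofFinite _
  rw [traceHom_apply]
  rw [Finset.prod_congr rfl (fun q _ => ha q.out (mem_top _))]
  rw [Finset.prod_const, Finset.card_univ, Subgroup.index_eq_card, Nat.card_eq_fintype_card]

/-- The fixed points of `Γ` form a direct factor of the fixed points of a subgroup `H` whose index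
is coprime to the exponent. -/
theorem exists_complement_fixedSub (N : ℕ) (hN : ∀ a : A, a ^ N = 1)
    (hcop : Nat.Coprime H.index N) :
    ∃ K : Subgroup A, K ≤ fixedSub ρ H ∧ fixedSub ρ ⊤ ⊓ K = ⊥ ∧
      fixedSub ρ ⊤ ⊔ K = fixedSub ρ H := by
  refine ⟨fixedSub ρ H ⊓ (traceHom ρ H).ker, inf_le_left, ?_, ?_⟩
  · rw [eq_bot_iff]
    rintro a ⟨ha1, -, ha3⟩
    rw [mem_bot]
    have ha3' : traceHom ρ H a = 1 := ha3
    have ha1' : a ∈ fixedSub ρ ⊤ := ha1
    rw [traceHom_of_fixed ρ H ha1'] at ha3'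
    have ha3 := ha3'
    have := pow_gcd_eq_one.mpr ⟨ha3, hN a⟩
    rw [Nat.Coprime] at hcop
    rwa [hcop, pow_one] at this
  · apply le_antisymm
    · exact sup_le (fixedSub_anti ρ le_top) inf_le_left
    · intro a ha
      have ht : traceHom ρ H a ∈ fixedSub ρ ⊤ := fun g _ => traceHom_fixed ρ H ha g
      -- Bezout
      have hbez := Nat.gcd_eq_gcd_ab H.index N
      rw [hcop] at hbez
      set u := Nat.gcdA H.index N with hu
      set v := Nat.gcdB H.index N with hv
      set t := traceHom ρ H a with htdef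
      have hc : t ^ u ∈ fixedSub ρ ⊤ := zpow_mem ht u
      have hcH : t ^ u ∈ fixedSub ρ H := fixedSub_anti ρ le_top hc
      have htr : traceHom ρ H (a * (t ^ u)⁻¹) = 1 := by
        rw [map_mul, map_inv, traceHom_of_fixed ρ H hc, ← htdef]
        have e1 : (t ^ u) ^ H.index = t ^ ((H.index : ℤ) * u) := by
          rw [← zpow_natCast, ← zpow_mul, mul_comm]
        have e2 : t ^ ((N : ℤ) * v) = 1 := by
          rw [zpow_mul, zpow_natCast, hN, one_zpow]
        have e3 : (H.index : ℤ) * u = 1 - (N : ℤ) * v := by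
          have : ((1 : ℕ) : ℤ) = (H.index : ℤ) * u + (N : ℤ) * v := hbez
          push_cast at this
          linarith
        rw [e1, e3, zpow_sub, zpow_one, e2]
        simp
      have hmem : a * (t ^ u)⁻¹ ∈ fixedSub ρ H ⊓ (traceHom ρ H).ker :=
        mem_inf.mpr ⟨(fixedSub ρ H).mul_mem ha ((fixedSub ρ H).inv_mem hcH), MonoidHom.mem_ker.mpr htr⟩
      have e : a = t ^ u * (a * (t ^ u)⁻¹) := by
        rw [mul_comm a, ← mul_assoc, mul_inv_cancel, one_mul]
      rw [e]
      exact mul_mem (mem_sup_left hc) (mem_sup_right hmem)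

end abstract

end Cfsg.Agent.Helper26
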