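import Mathlib
import Cfsg.Prelude.Def_FusionSystem
import Cfsg.Agent.Helper25.FusionSimpleCrit
import Cfsg.Agent.Helper25.DihedralAut
import Cfsg.Agent.Helper25.FusionAlperin2
import Cfsg.Agent.Helper25.FusionBGH2
import Cfsg.Agent.S5076

set_option autoImplicit false

/-! Simplicity of the 2-fusion system of a finite group with one class of involutions, whose Sylow
2-subgroup is generated by involutions and has a 2-group as automorphism group. -/

namespace Cfsg.Agent.Helper26.FusInvSimple

open Cfsg Cfsg.FusionSystem Cfsg.Agent.Helper25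

variable {G : Type*} [Group G] [Finite G]

theorem stronglyClosed_eq (S : Sylow 2 G)
    (hconj : ∀ x y : G, orderOf x = 2 → orderOf y = 2 → IsConj x y)
    (hgen : (S : Subgroup G) ≤ Subgroup.closure {x : G | x ∈ (S : Subgroup G) ∧ orderOf x = 2})
    (T : Subgroup G) (hT : (groupFusionSystem (S : Subgroup G)).StronglyClosed T) :
    T = ⊥ ∨ T = (S : Subgroup G) := by
  haveI : Fact (Nat.Prime 2) := ⟨Nat.prime_two⟩
  by_cases hT1 : T = ⊥
  · exact Or.inl hT1
  right
  apply le_antisymm hT.1
  refine hgen.trans ?_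
  rw [Subgroup.closure_le]
  rintro x ⟨hxS, hx2⟩
  -- T has an involution
  have hTp : IsPGroup 2 T := S.isPGroup'.to_le hT.1
  have hTnt : Nontrivial T := by
    rw [← not_subsingleton_iff_nontrivial]
    intro hsub
    exact hT1 (Subgroup.eq_bot_of_subsingleton T)
  obtain ⟨k, hk⟩ := hTp.exists_card_eq
  have hk0 : k ≠ 0 := by
    rintro rfl
    rw [pow_zero] at hk
    have : Subsingleton T := (Nat.card_eq_one_iff_unique.mp hk).1
    exact not_subsingleton T this
  have hdvd : 2 ∣ Nat.card T := by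
    rw [hk]; exact dvd_pow_self 2 hk0
  obtain ⟨t, ht⟩ := exists_prime_orderOf_dvd_card' 2 hdvd
  have ht2 : orderOf (t : G) = 2 := by rw [Subgroup.orderOf_coe]; exact ht
  obtain ⟨g, hg⟩ := isConj_iff.mp (hconj (t : G) x ht2 hx2)
  have hR : Subgroup.zpowers (t : G) ≤ T := by
    rw [Subgroup.zpowers_le]; exact t.2
  have hφ : conjHom (Subgroup.zpowers (t : G)) g ∈
      (groupFusionSystem (S : Subgroup G)).Hom (Subgroup.zpowers (t : G)) := by
    refine ⟨hR.trans hT.1, ?_, g, fun y => rfl⟩
    rintro ⟨y, n, rfl⟩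
    show g * (t : G) ^ n * g⁻¹ ∈ (S : Subgroup G)
    have : g * (t : G) ^ n * g⁻¹ = (g * (t : G) * g⁻¹) ^ n := by
      rw [conj_zpow]
    rw [this, hg]
    exact zpow_mem hxS n
  have := hT.2 _ hR _ hφ ⟨(t : G), Subgroup.mem_zpowers _⟩
  have h2 : conjHom (Subgroup.zpowers (t : G)) g ⟨(t : G), Subgroup.mem_zpowers _⟩ = x := hg
  rw [h2] at this
  exact this


theorem isSimple_of_invol (S : Sylow 2 G) (hS1 : (S : Subgroup G) ≠ ⊥)
    (hconj : ∀ x y : G, orderOf x = 2 → orderOf y = 2 → IsConj x y)
    (hgen : (S : Subgroup G) ≤ Subgroup.closure {x : G | x ∈ (S : Subgroup G) ∧ orderOf x = 2})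
    (hA : IsPGroup 2 (MulAut (S : Subgroup G))) :
    (groupFusionSystem (S : Subgroup G)).IsSimple 2 := by
  have : Fact (Nat.Prime 2) := ⟨Nat.prime_two⟩
  have hsat := Cfsg.Agent.S5076.result 2 S
  have hInn : (groupFusionSystem (S : Subgroup G)).autGroup (S : Subgroup G) =
      Cfsg.Inn (S : Subgroup G) := autGroup_top_eq_inn 2 _ hsat hA
  apply groupFusionSystem_isSimple 2 S hS1 (stronglyClosed_eq S hconj hgen)
  apply le_antisymm
  · -- `Aut_G(S) = Inn(S)` is induced by `S`
    have hS : (groupFusionSystem (S : Subgroup G)).IsFullyNormalized (S : Subgroup G) ∧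
        (groupFusionSystem (S : Subgroup G)).IsRadical 2 (S : Subgroup G) ∧
        (groupFusionSystem (S : Subgroup G)).IsCentric (S : Subgroup G) := by
      have hQ : ∀ Q : Subgroup G, (groupFusionSystem (S : Subgroup G)).IsConj (S : Subgroup G) Q →
          Q = (S : Subgroup G) := by
        rintro Q ⟨φ, hφ, rfl⟩
        exact range_eq_of_hom_top _ hφ
      refine ⟨⟨le_rfl, ?_⟩, ⟨le_rfl, ?_⟩, ⟨le_rfl, ?_⟩⟩
      · intro Q hQc
        rw [hQ Q hQc]
      · have hp : IsPGroup 2 ((groupFusionSystem (S : Subgroup G)).autGroup (S : Subgroup G)) :=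
          hA.to_subgroup _
        have htop : Cfsg.pCore 2 ((groupFusionSystem (S : Subgroup G)).autGroup (S : Subgroup G)) = ⊤ := by
          apply le_antisymm le_top
          apply le_sSup
          refine ⟨inferInstance, ?_⟩
          exact hp.of_equiv Subgroup.topEquiv.symm
        rw [htop, ← MonoidHom.range_eq_map, Subgroup.range_subtype, hInn]
      · intro Q hQc
        rw [hQ Q hQc]
        exact inf_le_left
    rw [← Cfsg.Agent.S5076.autGroup_groupFusion (S : Subgroup G) (S : Subgroup G) le_rfl, hInn,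
      ← autInducedBy_self_eq_inn]
    refine le_trans ?_ (le_iSup₂ (f := fun (R : Subgroup G)
      (_ : (groupFusionSystem (S : Subgroup G)).IsFullyNormalized R ∧
        (groupFusionSystem (S : Subgroup G)).IsRadical 2 R ∧
        (groupFusionSystem (S : Subgroup G)).IsCentric R) =>
      autInducedBy (Subgroup.closure {g : G | g ∈ Subgroup.normalizer (R : Set G) ∧
        ∃ k : ℕ, orderOf g = 2 ^ k}) (S : Subgroup G)) (S : Subgroup G) hS)
    apply autInducedBy_mono
    intro g hg
    apply Subgroup.subset_closure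
    refine ⟨Subgroup.le_normalizer hg, ?_⟩
    obtain ⟨k, hk⟩ := S.isPGroup' ⟨g, hg⟩
    have hk' : g ^ (2 ^ k) = 1 := by
      have := congrArg Subtype.val hk
      simpa using this
    obtain ⟨j, -, hj⟩ := (Nat.dvd_prime_pow Nat.prime_two).mp (orderOf_dvd_of_pow_eq_one hk')
    exact ⟨j, hj⟩
  · apply iSup₂_le
    intro R _
    exact autInducedBy_mono le_top _

end Cfsg.Agent.Helper26.FusInvSimple
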