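import Mathlib
import Cfsg.Prelude.Def_FusionSystem
import Cfsg.Prelude.Def_FusionComponents
import Cfsg.Agent.Helper25.FusionSimpleCrit
import Cfsg.Agent.Helper25.DihedralAut
import Cfsg.Agent.Helper25.FusionAlperin2
import Cfsg.Agent.Helper25.FusionBGH2
import Cfsg.Agent.Helper26.FusionAbelian
import Cfsg.Agent.Helper26.FusInvSimple
import Cfsg.Agent.S5076
import Cfsg.Agent.S5132
import Cfsg.Agent.S5133
import Cfsg.Agent.S5134

set_option autoImplicit false

/-! Simplicity of the 2-fusion system of a finite perfect group with one class of involutions,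
whose Sylow 2-subgroup is generated by its involutions and one more element, and has a 2-group as
automorphism group. -/

namespace Cfsg.Agent.Helper26.FusPerfSimple

open Cfsg Cfsg.FusionSystem Cfsg.Agent.Helper25
open scoped commutatorElement

section abstract

variable {Ω : Type*} [Group Ω] {S : Subgroup Ω}

theorem subgroupOf_normal_of_stronglyClosed (F : FusionSystem S) {T : Subgroup Ω}
    (hT : F.StronglyClosed T) : (T.subgroupOf S).Normal := by
  constructor
  intro t ht s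
  have hφ := F.conj_mem hT.1 s.2
  have := hT.2 T le_rfl _ hφ ⟨(t : Ω), ht⟩
  exact this

/-- the automorphism group of a cyclic 2-group is a 2-group -/
theorem isPGroup_mulAut_of_cyclic {C : Type*} [Group C] [Finite C] [IsCyclic C]
    (hC : IsPGroup 2 C) : IsPGroup 2 (MulAut C) := by
  have : Fact (Nat.Prime 2) := ⟨Nat.prime_two⟩
  obtain ⟨k, hk⟩ := hC.exists_card_eq
  have hcard := IsCyclic.card_mulAut C
  rw [hk] at hcard
  rcases Nat.eq_zero_or_pos k with rfl | hk0
  · rw [pow_zero, Nat.totient_one] at hcard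
    exact IsPGroup.of_card (n := 0) (by rw [hcard, pow_zero])
  · rw [Nat.totient_prime_pow Nat.prime_two hk0] at hcard
    exact IsPGroup.of_card (n := k - 1) (by rw [hcard]; norm_num)

/-- In a saturated fusion system (at the prime 2), if `T` is strongly closed and `S / T` is cyclic,
then every map of the system moves elements only by elements of `T`. -/
theorem inv_mul_apply_mem [Finite S] (hS : IsPGroup 2 S) (F : FusionSystem S)
    (hF : F.IsSaturated 2) {T : Subgroup Ω} (hT : F.StronglyClosed T)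
    (hcyc : ∃ c : S, (⊤ : Subgroup S) ≤ T.subgroupOf S ⊔ Subgroup.zpowers c)
    {P : Subgroup Ω} {φ : P →* Ω} (hφ : φ ∈ F.Hom P) (x : P) : (x : Ω)⁻¹ * φ x ∈ T := by
  have : Fact (Nat.Prime 2) := ⟨Nat.prime_two⟩
  have hN : (T.subgroupOf S).Normal := subgroupOf_normal_of_stronglyClosed F hT
  obtain ⟨E, hE⟩ := Cfsg.Agent.S5132.result 2 hS F T hT
  have hsurj := Cfsg.Agent.S5134.result 2 hS F hF T hT _ E hE
  have hEsat : E.IsSaturated 2 := Cfsg.Agent.S5133.result 2 hS F hF E _ hsurj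
  obtain ⟨φ', hφ', hP, hφS, hP', hind⟩ := hsurj.1.2 P φ hφ
  -- the quotient group is cyclic
  obtain ⟨c, hc⟩ := hcyc
  have hcycQ : IsCyclic (S ⧸ T.subgroupOf S) := by
    refine ⟨⟨QuotientGroup.mk c, ?_⟩⟩
    intro y
    obtain ⟨s, rfl⟩ := QuotientGroup.mk_surjective y
    have h1 : (QuotientGroup.mk' (T.subgroupOf S)) s ∈
        (T.subgroupOf S ⊔ Subgroup.zpowers c).map (QuotientGroup.mk' (T.subgroupOf S)) :=
      Subgroup.mem_map_of_mem _ (hc (Subgroup.mem_top s))
    rw [Subgroup.map_sup, QuotientGroup.map_mk'_self, bot_sup_eq, MonoidHom.map_zpowers] at h1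
    exact h1
  have hfinQ : Finite (S ⧸ T.subgroupOf S) := inferInstance
  have hpQ : IsPGroup 2 (S ⧸ T.subgroupOf S) := hS.to_quotient _
  have hab : ∀ a ∈ (⊤ : Subgroup (S ⧸ T.subgroupOf S)), ∀ b ∈ (⊤ : Subgroup (S ⧸ T.subgroupOf S)),
      a * b = b * a := by
    intro a _ b _
    have := hcycQ
    exact (IsCyclic.commGroup (α := S ⧸ T.subgroupOf S)).mul_comm a b
  have hpT : IsPGroup 2 (⊤ : Subgroup (S ⧸ T.subgroupOf S)) :=
    hpQ.of_equiv Subgroup.topEquiv.symm
  have hAQ : IsPGroup 2 (MulAut (S ⧸ T.subgroupOf S)) := isPGroup_mulAut_of_cyclic hpQ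
  have hA : IsPGroup 2 (MulAut (⊤ : Subgroup (S ⧸ T.subgroupOf S))) :=
    hAQ.of_equiv (MulAut.congr Subgroup.topEquiv).symm
  obtain ⟨α, hα, hαφ⟩ := Cfsg.Agent.Helper26.abelian_exists_aut_extension 2 hpT E hEsat hab hφ'
  rw [autGroup_top_eq_inn 2 E hEsat hA] at hα
  obtain ⟨g, rfl⟩ := hα
  have key := hαφ ⟨_, hP' x⟩
  rw [hind x] at key
  have h1 : (QuotientGroup.mk' (T.subgroupOf S)) ⟨(x : Ω), hP x.2⟩ =
      (QuotientGroup.mk' (T.subgroupOf S)) ⟨φ x, hφS x⟩ := by
    rw [← key]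
    simp only [MulAut.conj_apply]
    have := hab g g.2 _ (Subgroup.mem_top ((QuotientGroup.mk' (T.subgroupOf S)) ⟨(x : Ω), hP x.2⟩))
    show _ = (g : S ⧸ T.subgroupOf S) * (QuotientGroup.mk' (T.subgroupOf S)) ⟨(x : Ω), hP x.2⟩ *
      (g : S ⧸ T.subgroupOf S)⁻¹
    rw [this, mul_inv_cancel_right]
  have h2 : (QuotientGroup.mk' (T.subgroupOf S)) ((⟨(x : Ω), hP x.2⟩ : S)⁻¹ * ⟨φ x, hφS x⟩) = 1 := by
    rw [map_mul, map_inv, h1, inv_mul_cancel]
  exact (hE.2.1 _).mp h2

end abstract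


section grp

variable {G : Type*} [Group G] [Finite G]

/-- a nontrivial strongly closed subgroup contains all involutions of `S`, if all involutions of `G`
are conjugate -/
theorem invol_mem_of_stronglyClosed (S : Sylow 2 G)
    (hconj : ∀ x y : G, orderOf x = 2 → orderOf y = 2 → IsConj x y)
    (T : Subgroup G) (hT : (groupFusionSystem (S : Subgroup G)).StronglyClosed T) (hT1 : T ≠ ⊥)
    {x : G} (hxS : x ∈ (S : Subgroup G)) (hx2 : orderOf x = 2) : x ∈ T := by
  have : Fact (Nat.Prime 2) := ⟨Nat.prime_two⟩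
  have hTp : IsPGroup 2 T := S.isPGroup'.to_le hT.1
  have hTnt : Nontrivial T := by
    rw [← not_subsingleton_iff_nontrivial]
    intro hsub
    exact hT1 (Subgroup.eq_bot_of_subsingleton T)
  obtain ⟨k, hk⟩ := hTp.exists_card_eq
  have hk0 : k ≠ 0 := by
    rintro rfl
    rw [pow_zero] at hk
    have : Subsingleton T := (Nat.card_eq_one_iff_unique.mp hk).1
    exact not_subsingleton T this
  have hdvd : 2 ∣ Nat.card T := by
    rw [hk]; exact dvd_pow_self 2 hk0
  obtain ⟨t, ht⟩ := exists_prime_orderOf_dvd_card' 2 hdvd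
  have ht2 : orderOf (t : G) = 2 := by rw [Subgroup.orderOf_coe]; exact ht
  obtain ⟨g, hg⟩ := isConj_iff.mp (hconj (t : G) x ht2 hx2)
  have hR : Subgroup.zpowers (t : G) ≤ T := by
    rw [Subgroup.zpowers_le]; exact t.2
  have hφ : conjHom (Subgroup.zpowers (t : G)) g ∈
      (groupFusionSystem (S : Subgroup G)).Hom (Subgroup.zpowers (t : G)) := by
    refine ⟨hR.trans hT.1, ?_, g, fun y => rfl⟩
    rintro ⟨y, n, rfl⟩
    show g * (t : G) ^ n * g⁻¹ ∈ (S : Subgroup G)
    have : g * (t : G) ^ n * g⁻¹ = (g * (t : G) * g⁻¹) ^ n := by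
      rw [conj_zpow]
    rw [this, hg]
    exact zpow_mem hxS n
  have := hT.2 _ hR _ hφ ⟨(t : G), Subgroup.mem_zpowers _⟩
  have h2 : conjHom (Subgroup.zpowers (t : G)) g ⟨(t : G), Subgroup.mem_zpowers _⟩ = x := hg
  rw [h2] at this
  exact this

theorem stronglyClosed_eq (S : Sylow 2 G) (hperf : commutator G = ⊤)
    (hconj : ∀ x y : G, orderOf x = 2 → orderOf y = 2 → IsConj x y)
    (hgen : ∃ c ∈ (S : Subgroup G), (S : Subgroup G) ≤
      Subgroup.closure ({x : G | x ∈ (S : Subgroup G) ∧ orderOf x = 2} ∪ {c}))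
    (T : Subgroup G) (hT : (groupFusionSystem (S : Subgroup G)).StronglyClosed T) :
    T = ⊥ ∨ T = (S : Subgroup G) := by
  have : Fact (Nat.Prime 2) := ⟨Nat.prime_two⟩
  by_cases hT1 : T = ⊥
  · exact Or.inl hT1
  right
  apply le_antisymm hT.1
  obtain ⟨c, hcS, hc⟩ := hgen
  have hsat := Cfsg.Agent.S5076.result 2 S
  -- `S / T` is cyclic
  have hcyc : ∃ c' : (S : Subgroup G), (⊤ : Subgroup (S : Subgroup G)) ≤
      T.subgroupOf (S : Subgroup G) ⊔ Subgroup.zpowers c' := by
    refine ⟨⟨c, hcS⟩, ?_⟩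
    intro s _
    have h1 : Subgroup.closure ({x : G | x ∈ (S : Subgroup G) ∧ orderOf x = 2} ∪ {c}) ≤
        (T.subgroupOf (S : Subgroup G) ⊔ Subgroup.zpowers (⟨c, hcS⟩ : (S : Subgroup G))).map
          (S : Subgroup G).subtype := by
      rw [Subgroup.closure_le]
      rintro y (⟨hyS, hy2⟩ | hy)
      · refine ⟨⟨y, hyS⟩, Subgroup.mem_sup_left ?_, rfl⟩
        exact invol_mem_of_stronglyClosed S hconj T hT hT1 hyS hy2
      · rw [Set.mem_singleton_iff] at hy
        subst hy
        exact ⟨⟨y, hcS⟩, Subgroup.mem_sup_right (Subgroup.mem_zpowers _), rfl⟩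
    obtain ⟨k, hk, hks⟩ := h1 (hc s.2)
    have : k = s := Subtype.ext hks
    rw [← this]; exact hk
  have key : ∀ x ∈ (S : Subgroup G), ∀ u : G, u * x * u⁻¹ ∈ (S : Subgroup G) →
      x⁻¹ * (u * x * u⁻¹) ∈ T := by
    intro x hx u hux
    have hφ : conjHom (Subgroup.zpowers x) u ∈
        (groupFusionSystem (S : Subgroup G)).Hom (Subgroup.zpowers x) := by
      refine ⟨by rw [Subgroup.zpowers_le]; exact hx, ?_, u, fun y => rfl⟩
      rintro ⟨y, n, rfl⟩
      show u * x ^ n * u⁻¹ ∈ (S : Subgroup G)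
      have : u * x ^ n * u⁻¹ = (u * x * u⁻¹) ^ n := by rw [conj_zpow]
      rw [this]
      exact zpow_mem hux n
    exact inv_mul_apply_mem S.isPGroup' _ hsat hT hcyc hφ ⟨x, Subgroup.mem_zpowers x⟩
  have hfoc := Subgroup.commutator_inf_eq_focalSubgroup S
  rw [hperf, top_inf_eq] at hfoc
  rw [hfoc, Subgroup.focalSubgroup_def, Subgroup.closure_le]
  rintro g₀ ⟨hg₀, x, hx, u, rfl⟩
  have hux : u * x⁻¹ * u⁻¹ ∈ (S : Subgroup G) := by
    have h1 : x⁻¹ * ⁅x, u⁆ ∈ (S : Subgroup G) := mul_mem (inv_mem hx) hg₀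
    have e : x⁻¹ * ⁅x, u⁆ = u * x⁻¹ * u⁻¹ := by
      rw [commutatorElement_def]; group
    rwa [e] at h1
  have := key x⁻¹ (inv_mem hx) u hux
  have e : ⁅x, u⁆ = x⁻¹⁻¹ * (u * x⁻¹ * u⁻¹) := by
    rw [commutatorElement_def]; group
  rw [SetLike.mem_coe, e]
  exact this

theorem isSimple_of_perfect (S : Sylow 2 G) (hS1 : (S : Subgroup G) ≠ ⊥)
    (hperf : commutator G = ⊤)
    (hconj : ∀ x y : G, orderOf x = 2 → orderOf y = 2 → IsConj x y)
    (hgen : ∃ c ∈ (S : Subgroup G), (S : Subgroup G) ≤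
      Subgroup.closure ({x : G | x ∈ (S : Subgroup G) ∧ orderOf x = 2} ∪ {c}))
    (hA : IsPGroup 2 (MulAut (S : Subgroup G))) :
    (groupFusionSystem (S : Subgroup G)).IsSimple 2 := by
  have : Fact (Nat.Prime 2) := ⟨Nat.prime_two⟩
  have hsat := Cfsg.Agent.S5076.result 2 S
  have hInn : (groupFusionSystem (S : Subgroup G)).autGroup (S : Subgroup G) =
      Cfsg.Inn (S : Subgroup G) := autGroup_top_eq_inn 2 _ hsat hA
  apply groupFusionSystem_isSimple 2 S hS1 (stronglyClosed_eq S hperf hconj hgen)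
  apply le_antisymm
  · have hS : (groupFusionSystem (S : Subgroup G)).IsFullyNormalized (S : Subgroup G) ∧
        (groupFusionSystem (S : Subgroup G)).IsRadical 2 (S : Subgroup G) ∧
        (groupFusionSystem (S : Subgroup G)).IsCentric (S : Subgroup G) := by
      have hQ : ∀ Q : Subgroup G, (groupFusionSystem (S : Subgroup G)).IsConj (S : Subgroup G) Q →
          Q = (S : Subgroup G) := by
        rintro Q ⟨φ, hφ, rfl⟩
        exact range_eq_of_hom_top _ hφ
      refine ⟨⟨le_rfl, ?_⟩, ⟨le_rfl, ?_⟩, ⟨le_rfl, ?_⟩⟩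
      · intro Q hQc
        rw [hQ Q hQc]
      · have hp : IsPGroup 2 ((groupFusionSystem (S : Subgroup G)).autGroup (S : Subgroup G)) :=
          hA.to_subgroup _
        have htop : Cfsg.pCore 2 ((groupFusionSystem (S : Subgroup G)).autGroup (S : Subgroup G)) = ⊤ := by
          apply le_antisymm le_top
          apply le_sSup
          refine ⟨inferInstance, ?_⟩
          exact hp.of_equiv Subgroup.topEquiv.symm
        rw [htop, ← MonoidHom.range_eq_map, Subgroup.range_subtype, hInn]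
      · intro Q hQc
        rw [hQ Q hQc]
        exact inf_le_left
    rw [← Cfsg.Agent.S5076.autGroup_groupFusion (S : Subgroup G) (S : Subgroup G) le_rfl, hInn,
      ← autInducedBy_self_eq_inn]
    refine le_trans ?_ (le_iSup₂ (f := fun (R : Subgroup G)
      (_ : (groupFusionSystem (S : Subgroup G)).IsFullyNormalized R ∧
        (groupFusionSystem (S : Subgroup G)).IsRadical 2 R ∧
        (groupFusionSystem (S : Subgroup G)).IsCentric R) =>
      autInducedBy (Subgroup.closure {g : G | g ∈ Subgroup.normalizer (R : Set G) ∧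
        ∃ k : ℕ, orderOf g = 2 ^ k}) (S : Subgroup G)) (S : Subgroup G) hS)
    apply autInducedBy_mono
    intro g hg
    apply Subgroup.subset_closure
    refine ⟨Subgroup.le_normalizer hg, ?_⟩
    obtain ⟨k, hk⟩ := S.isPGroup' ⟨g, hg⟩
    have hk' : g ^ (2 ^ k) = 1 := by
      have := congrArg Subtype.val hk
      simpa using this
    obtain ⟨j, -, hj⟩ := (Nat.dvd_prime_pow Nat.prime_two).mp (orderOf_dvd_of_pow_eq_one hk')
    exact ⟨j, hj⟩
  · apply iSup₂_le
    intro R _
    exact autInducedBy_mono le_top _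

end grp

end Cfsg.Agent.Helper26.FusPerfSimple
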