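import Mathlib
import Cfsg.Prelude.Def_FusionSystem

set_option autoImplicit false

namespace Cfsg.Agent.Helper26

open Cfsg Cfsg.FusionSystem

variable {Ω : Type*} [Group Ω] {S : Subgroup Ω}

/-- A normal subsystem over the whole of `S` of a system whose top automizer is inner is the whole system. -/
theorem hom_eq_of_isInvariantIn_top (F : FusionSystem S) (htop : F.autGroup S = Cfsg.Inn ↥S)
    (E : FusionSystem S) (hE : E.IsInvariantIn F) (P : Subgroup Ω) : E.Hom P = F.Hom P := by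
  obtain ⟨hsub, -, -, hfrat⟩ := hE
  apply Set.Subset.antisymm (hsub P)
  intro φ hφ
  have hPS : P ≤ S := (F.le_of_mem hφ).1
  obtain ⟨α, hα, φ₀, hφ₀, hx⟩ := hfrat P hPS φ hφ
  rw [htop] at hα
  obtain ⟨s, rfl⟩ := hα
  have hφ₀S : ∀ x : P, φ₀ x ∈ S := (E.le_of_mem hφ₀).2
  have hconj : conjHom S (s : Ω) ∈ E.Hom S := E.conj_mem le_rfl s.2
  have hcomp := E.comp_mem hφ₀ hconj hφ₀S
  have heq : (conjHom S (s : Ω)).comp (φ₀.codRestrict S hφ₀S) = φ := by
    ext x
    rw [hx x (hφ₀S x)]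
    rfl
  rw [heq] at hcomp
  exact hcomp

theorem isSimple_of_inner_top_of_stronglyClosed (p : ℕ) (F : FusionSystem S) (hF : F.IsSaturated p)
    (hS1 : S ≠ ⊥) (htop : F.autGroup S = Cfsg.Inn ↥S)
    (hsc : ∀ T : Subgroup Ω, F.StronglyClosed T → T = ⊥ ∨ T = S) : F.IsSimple p := by
  refine ⟨hF, hS1, ?_⟩
  intro T E hE
  have hinv : E.IsInvariantIn F := hE.1.2.2
  rcases hsc T hinv.2.1 with h | h
  · exact Or.inl h
  · right
    subst h
    exact ⟨rfl, hom_eq_of_isInvariantIn_top F htop E hinv⟩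

end Cfsg.Agent.Helper26
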