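import Mathlib
import Cfsg.Agent.Helper26.FixedTransfer
import Cfsg.Agent.Helper26.FusionChainLocal
import Cfsg.Agent.Helper25.FusionSat
import Cfsg.Agent.Helper25.FusionAut
import Cfsg.Agent.Helper25.FusionNormal
import Cfsg.Agent.Helper25.FusionGroup2
import Cfsg.Agent.S5144
import Cfsg.Agent.S5145

set_option autoImplicit false

namespace Cfsg.Agent.Helper26

open Cfsg Cfsg.FusionSystem Cfsg.Agent.Helper25
open scoped IsMulCommutative

/-- restriction of automorphisms to the centre -/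
def centerRestrict (Q : Type*) [Group Q] : MulAut Q →* MulAut (Subgroup.center Q) where
  toFun α :=
    { toFun := fun x => ⟨α x.1, by
        rw [Subgroup.mem_center_iff]
        intro g
        have h1 := Subgroup.mem_center_iff.mp x.2 (α.symm g)
        have h2 := congrArg α h1
        simpa using h2⟩
      invFun := fun x => ⟨α.symm x.1, by
        rw [Subgroup.mem_center_iff]
        intro g
        have h1 := Subgroup.mem_center_iff.mp x.2 (α g)
        have h2 := congrArg α.symm h1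
        simpa using h2⟩
      left_inv := fun x => by simp
      right_inv := fun x => by simp
      map_mul' := fun x y => by
        apply Subtype.ext
        simp }
  map_one' := by
    ext x
    rfl
  map_mul' := fun α β => by
    ext x
    rfl

theorem centerRestrict_apply {Q : Type*} [Group Q] (α : MulAut Q) (x : Subgroup.center Q) :
    ((centerRestrict Q α x : Subgroup.center Q) : Q) = α x.1 := rfl

variable {Ω : Type*} [Group Ω] {S : Subgroup Ω}

/-- the embedding of the centre of `Q` in the ambient group -/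
def centerEmb (Q : Subgroup Ω) : Subgroup.center Q →* Ω := Q.subtype.comp (Subgroup.center Q).subtype

theorem centerEmb_injective (Q : Subgroup Ω) : Function.Injective (centerEmb Q) := by
  intro x y h
  apply Subtype.ext
  apply Subtype.ext
  exact h

theorem centerEmb_apply (Q : Subgroup Ω) (x : Subgroup.center Q) : centerEmb Q x = ((x : Q) : Ω) := rfl

/-- the action of `Aut_F(Q)` on `Z(Q)` -/
def autCenterAction (F : FusionSystem S) (Q : Subgroup Ω) : F.autGroup Q →* MulAut (Subgroup.center Q) :=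
  (centerRestrict Q).comp (F.autGroup Q).subtype

/-- A central subgroup lies in the centre of `S`. -/
theorem le_center_of_isCentral (F : FusionSystem S) {C : Subgroup Ω} (hC : F.IsCentral C) :
    C ≤ S ⊓ Subgroup.centralizer (S : Set Ω) := by
  intro x hx
  refine Subgroup.mem_inf.mpr ⟨hC.1 hx, ?_⟩
  rw [Subgroup.mem_centralizer_iff]
  intro s hs
  obtain ⟨ψ, _, hext, hfix⟩ := hC.2 S (conjHom S s) (F.conj_mem le_rfl hs)
  have h1 := hext ⟨x, hC.1 hx⟩
  have h2 := hfix ⟨x, hx⟩
  have e : (Subgroup.inclusion le_sup_left ⟨x, hC.1 hx⟩ : ↥(S ⊔ C)) =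
      Subgroup.inclusion le_sup_right ⟨x, hx⟩ := rfl
  rw [e, h2] at h1
  have h3 : (conjHom S s) ⟨x, hC.1 hx⟩ = s * x * s⁻¹ := rfl
  rw [h3] at h1
  have h4 : x = s * x * s⁻¹ := h1
  calc s * x = s * x * s⁻¹ * s := by group
    _ = x * s := by rw [← h4]

/-- A central subgroup is normal in the system. -/
theorem isNormal_of_isCentral (F : FusionSystem S) {C : Subgroup Ω} (hC : F.IsCentral C) :
    F.IsNormal C := by
  refine ⟨hC.1, fun P φ hφ => ?_⟩
  obtain ⟨ψ, hψ, hext, hfix⟩ := hC.2 P φ hφ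
  refine ⟨ψ, hψ, hext, ?_⟩
  ext y
  constructor
  · rintro ⟨x, hx, rfl⟩
    have := hfix ⟨x.1, hx⟩
    have e : (Subgroup.inclusion le_sup_right (⟨x.1, hx⟩ : C) : ↥(P ⊔ C)) = x := rfl
    rw [e] at this
    rw [this]
    exact hx
  · intro hy
    refine ⟨Subgroup.inclusion le_sup_right ⟨y, hy⟩, hy, ?_⟩
    exact hfix ⟨y, hy⟩

/-- Elements of a central subgroup inside `Q` are fixed by `Aut_F(Q)`. -/
theorem apply_eq_of_isCentral (F : FusionSystem S) {C Q : Subgroup Ω} (hC : F.IsCentral C)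
    (hQS : Q ≤ S) {α : MulAut Q} (hα : α ∈ F.autGroup Q) {x : Ω} (hxC : x ∈ C) (hxQ : x ∈ Q) :
    α ⟨x, hxQ⟩ = ⟨x, hxQ⟩ := by
  rw [mem_autGroup_iff F hQS] at hα
  obtain ⟨ψ, _, hext, hfix⟩ := hC.2 Q (autHom α) hα
  have h1 := hext ⟨x, hxQ⟩
  have h2 := hfix ⟨x, hxC⟩
  have e : (Subgroup.inclusion le_sup_left ⟨x, hxQ⟩ : ↥(Q ⊔ C)) =
      Subgroup.inclusion le_sup_right ⟨x, hxC⟩ := rfl
  rw [e, h2] at h1
  apply Subtype.ext
  exact h1.symm


/-- The image in `Ω` of the fixed points of `Aut_F(Q)` on `Z(Q)` is central, for `Q` normal. -/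
theorem isCentral_fixed (F : FusionSystem S) {Q : Subgroup Ω} (hQ : F.IsNormal Q) :
    F.IsCentral ((fixedSub (A := Subgroup.center Q) (autCenterAction F Q) ⊤).map (centerEmb Q)) := by
  have hC'Q : (fixedSub (A := Subgroup.center Q) (autCenterAction F Q) ⊤).map (centerEmb Q) ≤ Q := by
    rintro _ ⟨x, -, rfl⟩
    exact x.1.2
  refine ⟨hC'Q.trans hQ.1, fun P φ hφ => ?_⟩
  obtain ⟨ψ₁, hψ₁, hext, hmap⟩ := hQ.2 P φ hφ
  have hle : P ⊔ (fixedSub (A := Subgroup.center Q) (autCenterAction F Q) ⊤).map (centerEmb Q) ≤ P ⊔ Q :=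
    sup_le_sup_left hC'Q P
  refine ⟨ψ₁.comp (Subgroup.inclusion hle), restrict_mem F hle hψ₁, ?_, ?_⟩
  · intro x
    exact hext x
  · rintro ⟨_, ⟨x, hx, rfl⟩⟩
    let ψQ : Q →* Ω := ψ₁.comp (Subgroup.inclusion le_sup_right)
    have hψQ : ψQ ∈ F.Hom Q := restrict_mem F le_sup_right hψ₁
    have hrange : ψQ.range = Q := by
      ext y
      constructor
      · rintro ⟨q, rfl⟩
        have : ψQ q ∈ Subgroup.map ψ₁ (Q.subgroupOf (P ⊔ Q)) :=
          ⟨Subgroup.inclusion le_sup_right q, q.2, rfl⟩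
        rwa [hmap] at this
      · intro hy
        have hy' : y ∈ Subgroup.map ψ₁ (Q.subgroupOf (P ⊔ Q)) := by rw [hmap]; exact hy
        obtain ⟨z, hz, rfl⟩ := hy'
        exact ⟨⟨z.1, hz⟩, rfl⟩
    let α : MulAut Q := isoOfHom ψQ (F.injective_of_mem hψQ) hrange
    have hα : α ∈ F.autGroup Q := by
      rw [mem_autGroup_iff F hQ.1]
      have : autHom α = ψQ := by
        ext q
        rfl
      rw [this]
      exact hψQ
    have hfix : autCenterAction F Q ⟨α, hα⟩ x = x := hx ⟨α, hα⟩ (Subgroup.mem_top _)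
    have h2 := congrArg (centerEmb Q) hfix
    exact h2

/-- the fixed points of `Aut_F(Q)` on `Z(Q)` give the centre of `F`, for `Q = O_p(F)` -/
theorem center_eq_map_fixed [Finite S] (F : FusionSystem S) :
    F.center = (fixedSub (A := Subgroup.center F.core) (autCenterAction F F.core) ⊤).map (centerEmb F.core) := by
  have hQ : F.IsNormal F.core := Cfsg.Agent.S5145.result F
  have hcen : F.IsCentral F.center := Cfsg.Agent.S5144.result F
  apply le_antisymm
  · intro x hx
    have hxQ : x ∈ F.core := (le_sSup (isNormal_of_isCentral F hcen) : F.center ≤ F.core) hx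
    have hxZ := le_center_of_isCentral F hcen hx
    have hxc : (⟨x, hxQ⟩ : F.core) ∈ Subgroup.center F.core := by
      rw [Subgroup.mem_center_iff]
      intro g
      apply Subtype.ext
      exact (Subgroup.mem_centralizer_iff.mp hxZ.2) g.1 (hQ.1 g.2)
    refine ⟨⟨⟨x, hxQ⟩, hxc⟩, ?_, rfl⟩
    intro α _
    apply Subtype.ext
    exact apply_eq_of_isCentral F hcen hQ.1 α.2 hx hxQ
  · exact le_sSup (isCentral_fixed F hQ)

/-- the fixed points of `Aut_S(Q)` on `Z(Q)` give `Z(S)` when `Z(S) ≤ Q` and `Q` is normal in `S` -/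
theorem centerS_eq_map_fixed (F : FusionSystem S) {Q : Subgroup Ω} (hQS : Q ≤ S)
    (hZQ : S ⊓ Subgroup.centralizer (S : Set Ω) ≤ Q)
    (hSN : S ≤ Subgroup.normalizer (Q : Set Ω)) :
    S ⊓ Subgroup.centralizer (S : Set Ω) =
      (fixedSub (A := Subgroup.center Q) (autCenterAction F Q) ((autInducedBy S Q).subgroupOf (F.autGroup Q))).map
        (centerEmb Q) := by
  apply le_antisymm
  · intro z hz
    have hzQ : z ∈ Q := hZQ hz
    have hzc : (⟨z, hzQ⟩ : Q) ∈ Subgroup.center Q := by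
      rw [Subgroup.mem_center_iff]
      intro g
      apply Subtype.ext
      exact (Subgroup.mem_centralizer_iff.mp hz.2) g.1 (hQS g.2)
    refine ⟨⟨⟨z, hzQ⟩, hzc⟩, ?_, rfl⟩
    intro α hα
    rw [Subgroup.mem_subgroupOf] at hα
    apply Subtype.ext
    show α.1 ⟨z, hzQ⟩ = ⟨z, hzQ⟩
    have key : ∀ β ∈ autInducedBy S Q, β ⟨z, hzQ⟩ = ⟨z, hzQ⟩ := by
      intro β hβ
      unfold autInducedBy at hβ
      induction hβ using Subgroup.closure_induction with
      | mem β hβ1 =>
        obtain ⟨g, hg, hβg⟩ := hβ1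
        apply Subtype.ext
        rw [hβg]
        have := (Subgroup.mem_centralizer_iff.mp hz.2) g hg
        show g * z * g⁻¹ = z
        rw [this, mul_inv_cancel_right]
      | one => rfl
      | mul β γ _ _ hβ2 hγ2 => rw [MulAut.mul_apply, hγ2, hβ2]
      | inv β _ hβ2 =>
        rw [MulAut.inv_apply]
        exact (MulEquiv.symm_apply_eq β).mpr hβ2.symm
    exact key α.1 hα
  · rintro _ ⟨x, hx, rfl⟩
    refine Subgroup.mem_inf.mpr ⟨hQS x.1.2, ?_⟩
    rw [Subgroup.mem_centralizer_iff]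
    intro s hs
    have hsN : s ∈ Subgroup.normalizer (Q : Set Ω) := hSN hs
    have hmem : Q.normalizerMonoidHom ⟨s, hsN⟩ ∈ autInducedBy S Q := by
      rw [autInducedBy_eq_map]
      exact ⟨⟨s, hsN⟩, Subgroup.mem_subgroupOf.mpr hs, rfl⟩
    have hmemF : Q.normalizerMonoidHom ⟨s, hsN⟩ ∈ F.autGroup Q :=
      autInducedBy_le_autGroup F hQS hmem
    have hfix := hx ⟨_, hmemF⟩ (Subgroup.mem_subgroupOf.mpr hmem)
    have h2 := congrArg (centerEmb Q) hfix
    have h3 : centerEmb Q (autCenterAction F Q ⟨_, hmemF⟩ x) = s * ((x : Q) : Ω) * s⁻¹ := rfl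
    rw [h3] at h2
    rw [centerEmb_apply] at h2 ⊢
    calc s * ((x : Q) : Ω) = s * ((x : Q) : Ω) * s⁻¹ * s := by group
      _ = ((x : Q) : Ω) * s := by rw [h2]


/-- `Z(F)` is a direct factor of `Z(S)` when `Z(S) ≤ O_p(F)`. -/
theorem exists_complement_center [Finite S] (p : ℕ) [Fact p.Prime] (hS : IsPGroup p S)
    (F : FusionSystem S) (hF : F.IsSaturated p)
    (hZ : S ⊓ Subgroup.centralizer (S : Set Ω) ≤ F.core) :
    ∃ K : Subgroup Ω, K ≤ S ⊓ Subgroup.centralizer (S : Set Ω) ∧ F.center ⊓ K = ⊥ ∧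
      F.center ⊔ K = S ⊓ Subgroup.centralizer (S : Set Ω) := by
  have hp : p.Prime := Fact.out
  have hQ : F.IsNormal F.core := Cfsg.Agent.S5145.result F
  have hQS : F.core ≤ S := hQ.1
  have hSN := le_normalizer_of_isNormal F hQ
  have hfinQ : Finite F.core := finite_of_le hQS
  -- fully automized
  obtain ⟨Q', hconj, haut, -⟩ := hF F.core hQS
  have hwc := weaklyClosed_of_stronglyClosed F (stronglyClosed_of_isNormal F hQ)
  obtain ⟨φ, hφ, hr⟩ := hconj
  have hQ' : Q' = F.core := by rw [← hr]; exact hwc.2 φ hφ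
  rw [hQ'] at haut
  obtain ⟨-, R, hR⟩ := haut
  have hfinA : Finite (F.autGroup F.core) := inferInstance
  have hnd : ¬ p ∣ ((autInducedBy S F.core).subgroupOf (F.autGroup F.core)).index := by
    rw [← hR]
    exact R.not_dvd_index
  obtain ⟨n, hn⟩ := IsPGroup.iff_card.mp (hS.to_le hQS : IsPGroup p F.core)
  have hcop : Nat.Coprime ((autInducedBy S F.core).subgroupOf (F.autGroup F.core)).index
      (Nat.card F.core) := by
    rw [hn]
    apply Nat.Coprime.pow_right
    exact ((Nat.Prime.coprime_iff_not_dvd hp).mpr hnd).symm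
  have hN : ∀ a : Subgroup.center F.core, a ^ Nat.card F.core = 1 := by
    intro a
    apply Subtype.ext
    rw [SubmonoidClass.coe_pow, OneMemClass.coe_one]
    exact pow_card_eq_one'
  obtain ⟨K₀, hK₀le, hK₀inf, hK₀sup⟩ := exists_complement_fixedSub (autCenterAction F F.core)
    ((autInducedBy S F.core).subgroupOf (F.autGroup F.core)) (Nat.card F.core) hN hcop
  refine ⟨K₀.map (centerEmb F.core), ?_, ?_, ?_⟩
  · rw [centerS_eq_map_fixed F hQS hZ hSN]
    exact Subgroup.map_mono hK₀le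
  · rw [center_eq_map_fixed F, ← Subgroup.map_inf _ _ _ (centerEmb_injective F.core), hK₀inf,
      Subgroup.map_bot]
  · rw [center_eq_map_fixed F, ← Subgroup.map_sup, hK₀sup]
    exact (centerS_eq_map_fixed F hQS hZ hSN).symm

end Cfsg.Agent.Helper26
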