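import Mathlib
import Cfsg.Agent.Helper10.OmegaTwo
import Cfsg.Agent.Helper15.CharP2
import Cfsg.Agent.Helper25.FusionNormal
import Cfsg.Agent.Helper25.FusionGroup2
import Cfsg.Agent.S5077

set_option autoImplicit false

namespace Cfsg.Agent.Helper26

open Cfsg Cfsg.FusionSystem Cfsg.Agent.Helper25 Cfsg.Agent.Helper23

variable {Ω : Type*} [Group Ω]

/-- A `p`-group normalizing `⟨x⟩` with `x ^ p = 1` centralizes `x`. -/
theorem conj_eq_of_pow_prime {S : Subgroup Ω} {p : ℕ} [Fact p.Prime] (hS : IsPGroup p S)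
    {x : Ω} (hxp : x ^ p = 1)
    (hn : ∀ s ∈ S, s * x * s⁻¹ ∈ Subgroup.zpowers x) : ∀ s ∈ S, s * x * s⁻¹ = x := by
  have hp : p.Prime := Fact.out
  intro s hs
  by_cases hx1 : x = 1
  · rw [hx1]; group
  have hord : orderOf x = p := by
    have := orderOf_dvd_of_pow_eq_one hxp
    rcases (Nat.dvd_prime hp).mp this with h | h
    · exact absurd (orderOf_eq_one_iff.mp h) hx1
    · exact h
  have hK : ∀ y, y ∈ Subgroup.zpowers x ↔ (MulAut.conj s) y ∈ Subgroup.zpowers x := by
    have hfwd : ∀ t ∈ S, ∀ y ∈ Subgroup.zpowers x, t * y * t⁻¹ ∈ Subgroup.zpowers x := by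
      intro t ht y hy
      obtain ⟨k, rfl⟩ := hy
      have : t * x ^ k * t⁻¹ = (t * x * t⁻¹) ^ k := by
        rw [conj_zpow]
      rw [this]
      exact zpow_mem (hn t ht) k
    intro y
    constructor
    · intro hy
      exact hfwd s hs y hy
    · intro hy
      have := hfwd s⁻¹ (inv_mem hs) _ hy
      simpa [MulAut.conj_apply, mul_assoc] using this
  have hfo : IsOfFinOrder x := by
    rw [← orderOf_pos_iff, hord]
    exact hp.pos
  have hfin : Finite (Subgroup.zpowers x) := finite_zpowers.mpr hfo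
  have hcardz : Nat.card (Subgroup.zpowers x) = p := by rw [Nat.card_zpowers, hord]
  have h1 : orderOf (restrictAut (MulAut.conj s) (Subgroup.zpowers x) hK) ∣ orderOf s :=
    (orderOf_restrictAut_dvd _ _ hK).trans (orderOf_map_dvd MulAut.conj s)
  obtain ⟨k, hk⟩ := hS ⟨s, hs⟩
  have hsk : s ^ p ^ k = 1 := by
    have := congrArg Subtype.val hk
    simpa using this
  have h2 : orderOf (restrictAut (MulAut.conj s) (Subgroup.zpowers x) hK) ∣ p ^ k :=
    h1.trans (orderOf_dvd_of_pow_eq_one hsk)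
  have h3 : orderOf (restrictAut (MulAut.conj s) (Subgroup.zpowers x) hK) ∣ p - 1 := by
    have := orderOf_dvd_natCard (restrictAut (MulAut.conj s) (Subgroup.zpowers x) hK)
    rwa [IsCyclic.card_mulAut, hcardz, Nat.totient_prime hp] at this
  have hcop : Nat.Coprime (p ^ k) (p - 1) := by
    apply Nat.Coprime.pow_left
    rw [Nat.coprime_comm]
    have : p - 1 + 1 = p := Nat.sub_add_cancel hp.one_le
    have h4 : Nat.Coprime (p - 1) (p - 1 + 1) := by simp
    rwa [this] at h4
  have h5 : orderOf (restrictAut (MulAut.conj s) (Subgroup.zpowers x) hK) = 1 :=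
    Nat.eq_one_of_dvd_coprimes hcop h2 h3
  rw [orderOf_eq_one_iff] at h5
  have h6 := congrArg (fun b => ((b ⟨x, Subgroup.mem_zpowers x⟩ : Subgroup.zpowers x) : Ω)) h5
  simpa [restrictAut_apply, MulAut.conj_apply] using h6

/-- If `s` normalizes `⟨x⟩` and `x ^ 4 = 1`, then `s` centralizes or inverts `x`. -/
theorem conj_eq_or_inv_of_pow_four {x s : Ω} (hx4 : x ^ 4 = 1)
    (hn : s * x * s⁻¹ ∈ Subgroup.zpowers x) : s * x * s⁻¹ = x ∨ s * x * s⁻¹ = x⁻¹ := by
  obtain ⟨k, hk⟩ := hn
  have hk0 : x ^ k = s * x * s⁻¹ := hk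
  have hk' : x ^ (k % 4) = s * x * s⁻¹ := by
    rw [← hk0]
    have h4 : x ^ (4 : ℤ) = 1 := by exact_mod_cast hx4
    conv_rhs => rw [← Int.emod_add_mul_ediv k 4, zpow_add, zpow_mul, h4, one_zpow, mul_one]
  have hr : k % 4 = 0 ∨ k % 4 = 1 ∨ k % 4 = 2 ∨ k % 4 = 3 := by omega
  rcases hr with h | h | h | h
  · rw [h, zpow_zero] at hk'
    have : x = 1 := by
      have h2 : s⁻¹ * (s * x * s⁻¹) * s = x := by group
      rw [← hk'] at h2
      rw [← h2]; group
    left
    rw [this]; group
  · rw [h, zpow_one] at hk'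
    exact Or.inl hk'.symm
  · rw [h] at hk'
    have hx2 : x ^ (2 : ℤ) = x ^ 2 := by norm_cast
    rw [hx2] at hk'
    have h2 : (s * x * s⁻¹) ^ 2 = 1 := by
      rw [← hk', ← pow_mul]
      exact hx4
    have h3 : x ^ 2 = 1 := by
      have : (s * x * s⁻¹) ^ 2 = s * x ^ 2 * s⁻¹ := by rw [conj_pow]
      rw [this] at h2
      have h4 : s⁻¹ * (s * x ^ 2 * s⁻¹) * s = x ^ 2 := by group
      rw [h2] at h4
      rw [← h4]; group
    rw [h3] at hk'
    have : x = 1 := by
      have h2 : s⁻¹ * (s * x * s⁻¹) * s = x := by group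
      rw [← hk'] at h2
      rw [← h2]; group
    left
    rw [this]; group
  · rw [h] at hk'
    right
    rw [← hk']
    have : x ^ (3 : ℤ) * x = 1 := by
      have h3 : x ^ (3 : ℤ) = x ^ 3 := by norm_cast
      rw [h3, ← pow_succ]
      exact hx4
    exact eq_inv_of_mul_eq_one_left this


variable {S : Subgroup Ω}

theorem not_isEssential_of_cyclic_normal [Finite S] (p : ℕ) [Fact p.Prime] (hS : IsPGroup p S)
    (F : FusionSystem S) (hF : F.IsSaturated p)
    (hnorm : ∀ x ∈ F.focalSubgroup, (x ^ p = 1 ∨ (p = 2 ∧ x ^ 4 = 1)) →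
      ∀ s ∈ S, s * x * s⁻¹ ∈ Subgroup.zpowers x) (P : Subgroup Ω) : ¬ F.IsEssential p P := by
  intro hess
  have hp : p.Prime := Fact.out
  have hPS : P ≤ S := hess.2.1.1
  have hfinP : Finite P := finite_of_le hPS
  have hPp : IsPGroup p P := hS.to_le hPS
  let X : Set P := {x | (x : Ω) ∈ F.focalSubgroup ∧ (x ^ p = 1 ∨ (p = 2 ∧ x ^ 4 = 1))}
  have hfoc : ∀ α ∈ F.autGroup P, ∀ x : P, ((x : Ω))⁻¹ * ((α x : P) : Ω) ∈ F.focalSubgroup := by
    intro α hα x
    apply Subgroup.subset_closure
    exact ⟨P, autHom α, x, (mem_autGroup_iff F hPS α).mp hα, rfl⟩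
  have hfocmem : ∀ α ∈ F.autGroup P, ∀ x : P, (x : Ω) ∈ F.focalSubgroup →
      ((α x : P) : Ω) ∈ F.focalSubgroup := by
    intro α hα x hx
    have e : ((α x : P) : Ω) = (x : Ω) * ((x : Ω)⁻¹ * ((α x : P) : Ω)) := by group
    rw [e]
    exact mul_mem hx (hfoc α hα x)
  have hXinv : ∀ α ∈ F.autGroup P, ∀ x ∈ X, α x ∈ X := by
    intro α hα x hx
    refine ⟨hfocmem α hα x hx.1, ?_⟩
    rcases hx.2 with h | ⟨h2, h⟩
    · left
      rw [← map_pow, h, map_one]
    · right
      refine ⟨h2, ?_⟩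
      rw [← map_pow, h, map_one]
  let Good : Subgroup (MulAut P) :=
    { carrier := {κ | ∀ x ∈ X, κ x = x ∨ (p = 2 ∧ κ x = x⁻¹)}
      one_mem' := fun x _ => Or.inl rfl
      mul_mem' := by
        intro κ κ' hκ hκ' x hx
        rw [MulAut.mul_apply]
        rcases hκ' x hx with h | ⟨h2, h⟩
        · rw [h]
          exact hκ x hx
        · rw [h, map_inv]
          rcases hκ x hx with h' | ⟨_, h'⟩
          · right
            exact ⟨h2, by rw [h']⟩
          · left
            rw [h', inv_inv]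
      inv_mem' := by
        intro κ hκ x hx
        rcases hκ x hx with h | ⟨h2, h⟩
        · left
          rw [MulAut.inv_apply]
          exact (MulEquiv.symm_apply_eq κ).mpr h.symm
        · right
          refine ⟨h2, ?_⟩
          rw [MulAut.inv_apply]
          apply (MulEquiv.symm_apply_eq κ).mpr
          rw [map_inv, h, inv_inv] }
  have hgen : ∀ α ∈ F.autGroup P, ∀ c ∈ autInducedBy S P, α * c * α⁻¹ ∈ Good := by
    intro α hα c hc x hx
    rw [mem_autInducedBy_iff] at hc
    obtain ⟨s, hs, hcs⟩ := hc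
    have hy : α⁻¹ x ∈ X := hXinv α⁻¹ (inv_mem hα) x hx
    have hcy : ((c (α⁻¹ x) : P) : Ω) = s * ((α⁻¹ x : P) : Ω) * s⁻¹ := hcs (α⁻¹ x)
    have hαy : α (α⁻¹ x) = x := by simp
    show α (c (α⁻¹ x)) = x ∨ (p = 2 ∧ α (c (α⁻¹ x)) = x⁻¹)
    rcases hy.2 with h | ⟨h2, h⟩
    · have hyp : ((α⁻¹ x : P) : Ω) ^ p = 1 := by
        have := congrArg Subtype.val h
        simpa using this
      have hny := hnorm _ hy.1 (Or.inl hyp)
      have h3 := conj_eq_of_pow_prime hS hyp hny s hs
      have hcy' : c (α⁻¹ x) = α⁻¹ x := Subtype.ext (hcy.trans h3)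
      left
      rw [hcy', hαy]
    · have hy4 : ((α⁻¹ x : P) : Ω) ^ 4 = 1 := by
        have := congrArg Subtype.val h
        simpa using this
      have hny := hnorm _ hy.1 (Or.inr ⟨h2, hy4⟩) s hs
      rcases conj_eq_or_inv_of_pow_four hy4 hny with h3 | h3
      · have hcy' : c (α⁻¹ x) = α⁻¹ x := Subtype.ext (hcy.trans h3)
        left
        rw [hcy', hαy]
      · have hcy' : c (α⁻¹ x) = (α⁻¹ x)⁻¹ := Subtype.ext (hcy.trans h3)
        right
        refine ⟨h2, ?_⟩
        rw [hcy', map_inv, hαy]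
  have hKA : (Subgroup.normalClosure
      (((autInducedBy S P).subgroupOf (F.autGroup P) : Subgroup (F.autGroup P)) :
        Set (F.autGroup P))).map (F.autGroup P).subtype ≤ F.autGroup P :=
    Subgroup.map_subtype_le _
  have hKnorm : ∀ α ∈ F.autGroup P, ∀ k ∈ (Subgroup.normalClosure
      (((autInducedBy S P).subgroupOf (F.autGroup P) : Subgroup (F.autGroup P)) :
        Set (F.autGroup P))).map (F.autGroup P).subtype, α * k * α⁻¹ ∈ (Subgroup.normalClosure
      (((autInducedBy S P).subgroupOf (F.autGroup P) : Subgroup (F.autGroup P)) :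
        Set (F.autGroup P))).map (F.autGroup P).subtype := by
    rintro α hα _ ⟨k₀, hk₀, rfl⟩
    exact ⟨⟨α, hα⟩ * k₀ * ⟨α, hα⟩⁻¹, Subgroup.normalClosure_normal.conj_mem k₀ hk₀ ⟨α, hα⟩, rfl⟩
  have hKGood : (Subgroup.normalClosure
      (((autInducedBy S P).subgroupOf (F.autGroup P) : Subgroup (F.autGroup P)) :
        Set (F.autGroup P))).map (F.autGroup P).subtype ≤ Good := by
    rw [Subgroup.map_le_iff_le_comap]
    unfold Subgroup.normalClosure
    rw [Subgroup.closure_le]
    intro k₀ hk₀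
    rw [Group.mem_conjugatesOfSet_iff] at hk₀
    obtain ⟨r, hr, hrk⟩ := hk₀
    rw [isConj_iff] at hrk
    obtain ⟨a, rfl⟩ := hrk
    exact hgen a.1 a.2 r.1 (Subgroup.mem_subgroupOf.mp hr)
  have hRK : autInducedBy S P ≤ (Subgroup.normalClosure
      (((autInducedBy S P).subgroupOf (F.autGroup P) : Subgroup (F.autGroup P)) :
        Set (F.autGroup P))).map (F.autGroup P).subtype := by
    intro c hc
    have hcA : c ∈ F.autGroup P := autInducedBy_le_autGroup F hPS hc
    exact ⟨⟨c, hcA⟩, Subgroup.subset_normalClosure (Subgroup.mem_subgroupOf.mpr hc), rfl⟩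
  have hKp : IsPGroup p ((Subgroup.normalClosure
      (((autInducedBy S P).subgroupOf (F.autGroup P) : Subgroup (F.autGroup P)) :
        Set (F.autGroup P))).map (F.autGroup P).subtype) := by
    apply Cfsg.Agent.Helper15.isPGroup_of_forall_coprime_eq_one
    intro β hβ hcop
    have hβA := hKA hβ
    have hβG := hKGood hβ
    have hfix : ∀ x ∈ X, β x = x := by
      intro x hx
      rcases hβG x hx with h | ⟨h2, h⟩
      · exact h
      · have hodd : Odd (orderOf β) := by
          rw [h2] at hcop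
          exact Nat.Coprime.odd_of_right hcop
        obtain ⟨m, hm⟩ := hodd
        have hβ2 : (β ^ 2) x = x := by
          rw [pow_two, MulAut.mul_apply, h, map_inv, h, inv_inv]
        have e : β = (β ^ 2) ^ (m + 1) := by
          rw [← pow_mul, show 2 * (m + 1) = orderOf β + 1 by omega, pow_succ,
            pow_orderOf_eq_one, one_mul]
        have hall : ∀ n : ℕ, ((β ^ 2) ^ n) x = x := by
          intro n
          induction n with
          | zero => rfl
          | succ n ih => rw [pow_succ, MulAut.mul_apply, hβ2, ih]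
        rw [e]
        exact hall _
    have hP₀inv : ∀ y, y ∈ (F.focalSubgroup).comap P.subtype ↔
        β y ∈ (F.focalSubgroup).comap P.subtype := by
      intro y
      constructor
      · intro hy
        exact hfocmem β hβA y hy
      · intro hy
        have := hfocmem β⁻¹ (inv_mem hβA) (β y) hy
        have e : β⁻¹ (β y) = y := by simp
        rw [e] at this
        exact this
    have hb1 : restrictAut β ((F.focalSubgroup).comap P.subtype) hP₀inv = 1 := by
      apply Cfsg.Agent.Helper10.aut_eq_one_of_fixes_omega' (hPp.to_subgroup _) _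
        (Nat.Coprime.coprime_dvd_left (orderOf_restrictAut_dvd β _ hP₀inv) hcop)
      intro y hy
      apply Subtype.ext
      rw [restrictAut_apply]
      apply hfix
      refine ⟨y.2, ?_⟩
      rcases hy with h | ⟨h2, h⟩
      · left
        have := congrArg Subtype.val h
        rw [SubmonoidClass.coe_pow, OneMemClass.coe_one] at this
        exact this
      · right
        refine ⟨h2, ?_⟩
        have := congrArg Subtype.val h
        rw [SubmonoidClass.coe_pow, OneMemClass.coe_one] at this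
        exact this
    ext x
    rw [MulAut.one_apply]
    congr 1
    apply aut_fixes_of_fixes_comm hPp β hcop x
    have hmem : x⁻¹ * β x ∈ (F.focalSubgroup).comap P.subtype := hfoc β hβA x
    have := congrArg (fun b' : MulAut ((F.focalSubgroup).comap P.subtype) =>
      ((b' ⟨x⁻¹ * β x, hmem⟩ : (F.focalSubgroup).comap P.subtype) : P)) hb1
    exact this
  have hKInn := opAutLeInn_of_isEssential F p hess _ hKA hKnorm hKp
  obtain ⟨-, hfa⟩ := Cfsg.Agent.S5077.sylow_axiom p hS F hF P hess.2.1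
  obtain ⟨-, Rs, hRs⟩ := hfa
  obtain ⟨-, -, hN, E, hdvd, -, -⟩ := hess
  have hle : (Rs : Subgroup (F.autGroup P)) ≤ (Inn P).subgroupOf (F.autGroup P) := by
    rw [hRs]
    intro c hc
    exact hKInn (hRK (Subgroup.mem_subgroupOf.mp hc))
  have h1 : ((Inn P).subgroupOf (F.autGroup P)).index ∣ (Rs : Subgroup (F.autGroup P)).index :=
    Subgroup.index_dvd_of_le hle
  have h2 : p ∣ ((Inn P).subgroupOf (F.autGroup P)).index := by
    rw [Subgroup.index_eq_card]
    exact hdvd
  exact Rs.not_dvd_index (h2.trans h1)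

theorem isNormal_top_of_cyclic_normal [Finite S] (p : ℕ) [Fact p.Prime] (hS : IsPGroup p S)
    (F : FusionSystem S) (hF : F.IsSaturated p)
    (hnorm : ∀ x ∈ F.focalSubgroup, (x ^ p = 1 ∨ (p = 2 ∧ x ^ 4 = 1)) →
      ∀ s ∈ S, s * x * s⁻¹ ∈ Subgroup.zpowers x) : F.IsNormal S := by
  apply isNormal_of_alperin p hS F hF S
  rintro P (rfl | hess)
  · refine ⟨le_rfl, fun α _ => ?_⟩
    rw [Subgroup.subgroupOf_self]
    exact Subgroup.map_top_of_surjective _ α.surjective
  · exact absurd hess (not_isEssential_of_cyclic_normal p hS F hF hnorm P)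

end Cfsg.Agent.Helper26
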