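import Mathlib
import Cfsg.Agent.Helper25.FusionAlperin2
import Cfsg.Agent.Helper25.FusionGroup2

set_option autoImplicit false

namespace Cfsg.Agent.Helper26

open Cfsg Cfsg.FusionSystem Cfsg.Agent.Helper25

/-- A Frattini-type step: `T ≤ K ≤ M` with `T` of the order of a Sylow `p`-subgroup of `M` and `K` normalized by `M`;
then every element of `M` can be corrected by an element of `K` so as to normalize `T`. -/
theorem frattini_elt {A : Type*} [Group A] [Finite A] (p : ℕ) [Fact p.Prime] {T K M : Subgroup A}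
    (hTK : T ≤ K) (hKM : K ≤ M) (hT : IsPGroup p T) (hcard : Nat.card T = pPart p (Nat.card M))
    (hnorm : ∀ α ∈ M, ∀ κ ∈ K, α * κ * α⁻¹ ∈ K) (α : A) (hα : α ∈ M) :
    ∃ κ ∈ K, ∀ c ∈ T, (κ * α) * c * (κ * α)⁻¹ ∈ T := by
  have hp : p.Prime := Fact.out
  -- T is Sylow in K
  have h1 : Nat.card T ≤ pPart p (Nat.card K) := card_le_pPart_of_isPGroup p hT hTK
  have h2 : pPart p (Nat.card K) ≤ pPart p (Nat.card M) := by
    unfold pPart
    apply Nat.pow_le_pow_right hp.pos
    have hdvd : Nat.card K ∣ Nat.card M := Subgroup.card_dvd_of_le hKM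
    exact (Nat.factorization_le_iff_dvd Nat.card_pos.ne' Nat.card_pos.ne').mpr hdvd p
  have h3 : Nat.card ↥(T ⊓ K) = pPart p (Nat.card K) := by
    rw [inf_of_le_left hTK]
    omega
  obtain ⟨R, hR⟩ := (isSylowIn_iff_card p T K).mpr h3
  -- the conjugate of T by α
  set T' : Subgroup A := T.map (MulAut.conj α).toMonoidHom with hT'
  have hT'p : IsPGroup p T' := hT.map _
  have hU : IsPGroup p (T'.subgroupOf K) := hT'p.comap_of_injective K.subtype K.subtype_injective
  obtain ⟨g, hg⟩ := exists_conj_le_sylow p R hU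
  refine ⟨(g : A), g.2, fun c hc => ?_⟩
  have hcK : α * c * α⁻¹ ∈ K := hnorm α hα c (hTK hc)
  have hcT' : α * c * α⁻¹ ∈ T' := ⟨c, hc, by simp [MulAut.conj_apply]⟩
  have h4 : (MulAut.conj g).toMonoidHom ⟨α * c * α⁻¹, hcK⟩ ∈ (R : Subgroup K) :=
    hg ⟨⟨α * c * α⁻¹, hcK⟩, hcT', rfl⟩
  rw [hR, Subgroup.mem_subgroupOf] at h4
  have h5 : (((MulAut.conj g).toMonoidHom ⟨α * c * α⁻¹, hcK⟩ : K) : A) =
      ((g : A) * α) * c * ((g : A) * α)⁻¹ := by
    simp [MulAut.conj_apply, mul_assoc]
  rwa [h5] at h4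

variable {Ω : Type*} [Group Ω] {S : Subgroup Ω}

/-- The induction underlying Alperin's fusion theorem: to show `F ≤ E` for a saturated `F` it suffices to control the
automizer of `S` and, for each proper fully normalized `R`, the automizer of `R` given that the maps of `F` between larger
subgroups are already in `E`. -/
theorem le_of_autGroup_step [Finite S] (p : ℕ) [Fact p.Prime] (hS : IsPGroup p S) (F : FusionSystem S)
    (hF : F.IsSaturated p) (E : FusionSystem S)
    (htop : F.autGroup S ≤ E.autGroup S)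
    (hstep : ∀ R : Subgroup Ω, F.IsFullyNormalized R → R ≠ S →
      (∀ Q : Subgroup Ω, Q ≤ S → Nat.card R < Nat.card Q → F.Hom Q ⊆ E.Hom Q) →
        F.autGroup R ≤ E.autGroup R) :
    F ≤ E := by
  have key : ∀ n : ℕ, ∀ P : Subgroup Ω, P ≤ S → Nat.card S - Nat.card P = n →
      F.Hom P ⊆ E.Hom P := by
    intro n
    induction n using Nat.strong_induction_on with
    | _ n ih =>
      intro P hPS hn φ hφ
      have hcardle : ∀ Q : Subgroup Ω, Q ≤ S → Nat.card Q ≤ Nat.card S := fun Q hQS =>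
        Nat.card_le_card_of_injective (Subgroup.inclusion hQS) (Subgroup.inclusion_injective _)
      have IH : ∀ Q : Subgroup Ω, Q ≤ S → Nat.card P < Nat.card Q → F.Hom Q ⊆ E.Hom Q := by
        intro Q hQS hlt
        have hQle := hcardle Q hQS
        exact ih (Nat.card S - Nat.card Q) (by omega) Q hQS rfl
      by_cases hPeq : P = S
      · subst hPeq
        have hr := range_eq_of_hom_top F hφ
        set α : MulAut P := isoOfHom φ (F.injective_of_mem hφ) hr
        have hα : autHom α = φ := by ext x; rfl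
        have h1 : α ∈ F.autGroup P := Subgroup.subset_closure (by
          show autHom α ∈ F.Hom P
          rw [hα]; exact hφ)
        have h2 := htop h1
        rw [mem_autGroup_iff E le_rfl] at h2
        rwa [hα] at h2
      · obtain ⟨R, hPR, hFN⟩ := exists_isConj_fullyNormalized F hPS
        have hRS : R ≤ S := hFN.1
        have hcardR : Nat.card R = Nat.card P := (card_eq_of_isConj F hPR).symm
        have hPcard : ¬ Nat.card S ≤ Nat.card P := fun h =>
          hPeq (Subgroup.eq_of_le_of_card_ge hPS h)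
        have hRne : R ≠ S := by
          rintro rfl
          exact hPcard hcardR.le
        obtain ⟨hFC, hFA⟩ := Cfsg.Agent.S5077.sylow_axiom p hS F hF R hFN
        have hrec := Cfsg.Agent.S5077.extension_axiom p hS F hF R hFC
        -- Sub-claim A
        have hA : F.autGroup R ≤ E.autGroup R :=
          hstep R hFN hRne (fun Q hQS hlt => IH Q hQS (by rw [← hcardR]; exact hlt))
        -- Sub-claim B
        have hB : ∀ P' : Subgroup Ω, F.IsConj P' R →
            ∃ ψ : P' →* Ω, ψ ∈ F.Hom P' ∧ ψ ∈ E.Hom P' ∧ ψ.range = R := by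
          intro P' hP'R
          have hP'S : P' ≤ S := (isConj_le F hP'R).1
          have hcardP' : Nat.card P' = Nat.card P := (card_eq_of_isConj F hP'R).trans hcardR
          have hP'ne : P' ≠ S := by
            rintro rfl
            exact hPcard hcardP'.le
          obtain ⟨χ, hχ, hχN, hχmap⟩ := Cfsg.Agent.S5079.result p hS F R P' hFA hrec hP'R
          obtain ⟨g, hgN, hgP'⟩ := exists_mem_normalizerIn_not_mem p hS hP'S hP'ne
          have hP'N : P' ≤ normalizerIn S P' := fun x hx => ⟨hP'S hx, Subgroup.le_normalizer hx⟩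
          have hlt : P' < normalizerIn S P' := lt_of_le_of_ne hP'N (fun h => hgP' (h ▸ hgN))
          have hNS : normalizerIn S P' ≤ S := inf_le_left
          have hχE : χ ∈ E.Hom _ :=
            IH _ hNS (by rw [← hcardP']; exact card_lt_of_lt hNS hlt) hχ
          refine ⟨χ.comp (Subgroup.inclusion hP'N), restrict_mem F hP'N hχ,
            restrict_mem E hP'N hχE, ?_⟩
          rw [← hχmap]
          ext y
          constructor
          · rintro ⟨x, rfl⟩
            exact ⟨Subgroup.inclusion hP'N x, x.2, rfl⟩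
          · rintro ⟨x, hx, rfl⟩
            exact ⟨⟨x, hx⟩, rfl⟩
        -- apply
        have hPP' : F.IsConj P φ.range := ⟨φ, hφ, rfl⟩
        obtain ⟨ψ₁, hψ₁F, hψ₁E, hr₁⟩ := hB P hPR
        obtain ⟨ψ₂, hψ₂F, hψ₂E, hr₂⟩ := hB φ.range (isConj_trans F (isConj_symm F hPP') hPR)
        let e₀ := isoOfHom φ (F.injective_of_mem hφ) rfl
        let e₁ := isoOfHom ψ₁ (F.injective_of_mem hψ₁F) hr₁
        let e₂ := isoOfHom ψ₂ (F.injective_of_mem hψ₂F) hr₂
        let α : MulAut R := e₁.symm.trans (e₀.trans e₂)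
        have hαF : autHom α ∈ F.Hom R := by
          have h1 := isoOfHom_symm_mem F hψ₁F hr₁
          have h2 : φ.range.subtype.comp (e₀.toMonoidHom.comp e₁.symm.toMonoidHom) ∈ F.Hom R :=
            comp_mem' F h1 hφ (fun x => (e₁.symm x).2) (fun x => rfl)
          exact comp_mem' F h2 hψ₂F (fun x => (e₀ (e₁.symm x)).2) (fun x => rfl)
        have hαE : autHom α ∈ E.Hom R :=
          (mem_autGroup_iff E hRS α).mp (hA ((mem_autGroup_iff F hRS α).mpr hαF))
        have h3 := isoOfHom_symm_mem E hψ₂E hr₂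
        have h4 : (autHom α).comp e₁.toMonoidHom ∈ E.Hom P :=
          comp_mem' E hψ₁E hαE (fun x => (e₁ x).2) (fun x => rfl)
        refine comp_mem' E h4 h3 (fun x => (α (e₁ x)).2) (fun x => ?_)
        show φ x = ((e₂.symm (α (e₁ x)) : φ.range) : Ω)
        have h5 : α (e₁ x) = e₂ (e₀ x) := by
          show e₂ (e₀ (e₁.symm (e₁ x))) = _
          rw [MulEquiv.symm_apply_apply]
        rw [h5, MulEquiv.symm_apply_apply]
        rfl
  intro P φ hφ
  exact key _ P (F.le_of_mem hφ).1 rfl hφ

theorem autGroup_mono {F E : FusionSystem S} (hle : E ≤ F) {R : Subgroup Ω} (hRS : R ≤ S) :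
    E.autGroup R ≤ F.autGroup R := by
  intro α hα
  rw [mem_autGroup_iff E hRS] at hα
  rw [mem_autGroup_iff F hRS]
  exact hle R hα

/-- A subsystem `E ≤ F` over the same `S` whose automizers are normalized by those of `F` and which has the full
automizer of `S` is all of `F` (for saturated `F`). -/
theorem le_of_normalized_of_top [Finite S] (p : ℕ) [Fact p.Prime] (hS : IsPGroup p S) (F : FusionSystem S)
    (hF : F.IsSaturated p) (E : FusionSystem S) (hle : E ≤ F)
    (hnorm : ∀ R : Subgroup Ω, R ≤ S → ∀ α ∈ F.autGroup R, ∀ κ ∈ E.autGroup R,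
      α * κ * α⁻¹ ∈ E.autGroup R)
    (htop : F.autGroup S ≤ E.autGroup S) : F ≤ E := by
  refine le_of_autGroup_step p hS F hF E htop ?_
  intro R hFN hRne IH α hα
  have hRS : R ≤ S := hFN.1
  have hfinR : Finite R := finite_of_le hRS
  obtain ⟨hFC, hFA⟩ := Cfsg.Agent.S5077.sylow_axiom p hS F hF R hFN
  have hrec : F.IsReceptive R := Cfsg.Agent.S5077.extension_axiom p hS F hF R hFC
  have hcard := (isFullyAutomized_iff_card F p hRS).mp hFA
  obtain ⟨κ, hκ, hβT⟩ := frattini_elt p (autInducedBy_le_autGroup E hRS) (autGroup_mono hle hRS)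
    (autInducedBy_isPGroup hS R) hcard (hnorm R hRS) α hα
  set β : MulAut R := κ * α with hβ
  have hβF : β ∈ F.autGroup R := (F.autGroup R).mul_mem (autGroup_mono hle hRS hκ) hα
  have hβmem : autHom β ∈ F.Hom R := (mem_autGroup_iff F hRS β).mp hβF
  obtain ⟨g, hgN, hgR⟩ := exists_mem_normalizerIn_not_mem p hS hRS hRne
  let cg : MulAut R := R.normalizerMonoidHom ⟨g, hgN.2⟩
  have hcgS : cg ∈ autInducedBy S R := by
    rw [autInducedBy_eq_map]
    exact ⟨⟨g, hgN.2⟩, hgN.1, rfl⟩
  have hmem := hβT cg hcgS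
  rw [autInducedBy_eq_map] at hmem
  obtain ⟨m, hmS, hmc⟩ := hmem
  have hmS' : (m : Ω) ∈ S := hmS
  have hgext : g ∈ extender S R (autHom β) := by
    apply Subgroup.subset_closure
    refine ⟨hgN.1, hgN.2, (m : Ω), hmS', ?_⟩
    intro x hx
    have h1 := congrArg (fun γ : MulAut R => ((γ (β x) : R) : Ω)) hmc
    simp only [MulAut.mul_apply, MulAut.inv_apply_self] at h1
    rw [normalizerMonoidHom_coe] at h1
    show ((β ⟨g * x * g⁻¹, hx⟩ : R) : Ω) = (m : Ω) * ((β x : R) : Ω) * (m : Ω)⁻¹
    rw [h1]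
    rfl
  obtain ⟨Q, hRQ, χ, hχ, hχβ⟩ := extendsProperly_of_extender F hrec β hβmem hgext hgR
  have hQS : Q ≤ S := (F.le_of_mem hχ).1
  have hχE : χ ∈ E.Hom Q := IH Q hQS (card_lt_of_lt hQS hRQ) hχ
  have h1 := restrict_mem E hRQ.le hχE
  have h2 : χ.comp (Subgroup.inclusion hRQ.le) = autHom β := by
    ext x; exact hχβ x
  rw [h2] at h1
  have hβE : β ∈ E.autGroup R := (mem_autGroup_iff E hRS β).mpr h1
  have h3 := (E.autGroup R).mul_mem ((E.autGroup R).inv_mem hκ) hβE
  rwa [hβ, inv_mul_cancel_left] at h3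

end Cfsg.Agent.Helper26
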