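import Mathlib
import Cfsg.Agent.Helper26.FusionHypFactor
import Cfsg.Agent.Helper26.FusionCenterFactor
import Cfsg.Agent.Helper26.FusionInner
import Cfsg.Agent.Helper25.FusionInduced
import Cfsg.Agent.Helper25.FusionQuasisimple
import Cfsg.Agent.Helper9.PResidual
import Cfsg.Agent.S5077

set_option autoImplicit false

/-! Grün's lemma for fusion systems: the factor system of a perfect saturated system modulo its centre
has trivial centre. -/

namespace Cfsg.Agent.Helper26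

open Cfsg Cfsg.FusionSystem Cfsg.Agent.Helper25

variable {Ω Ω' : Type*} [Group Ω] [Group Ω'] {S : Subgroup Ω}

/-- maps of the system fix the elements of a central subgroup -/
theorem hom_apply_eq_of_isCentral (F : FusionSystem S) {C R : Subgroup Ω} (hC : F.IsCentral C)
    {ψ : R →* Ω} (hψ : ψ ∈ F.Hom R) (x : R) (hx : (x : Ω) ∈ C) : ψ x = x := by
  obtain ⟨ψ', -, hext, hfix⟩ := hC.2 R ψ hψ
  have h1 := hext x
  have h2 := hfix ⟨x, hx⟩
  have e : Subgroup.inclusion (le_sup_left : R ≤ R ⊔ C) x =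
      Subgroup.inclusion (le_sup_right : C ≤ R ⊔ C) ⟨x, hx⟩ := Subtype.ext rfl
  rw [e, h2] at h1
  exact h1.symm

/-- Criterion for centrality via the Alperin–Goldschmidt theorem. -/
theorem isCentral_of_alperin [Finite S] (p : ℕ) [Fact p.Prime] (hS : IsPGroup p S)
    (F : FusionSystem S) (hF : F.IsSaturated p) (C : Subgroup Ω)
    (h : ∀ P : Subgroup Ω, (P = S ∨ F.IsEssential p P) →
      C ≤ P ∧ ∀ α ∈ F.autGroup P, ∀ x : P, (x : Ω) ∈ C → α x = x) :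
    F.IsCentral C := by
  have hCS : C ≤ S := (h S (Or.inl rfl)).1
  have hCZ : C ≤ Subgroup.centralizer (S : Set Ω) := by
    intro x hx
    rw [Subgroup.mem_centralizer_iff]
    intro g hg
    have hgN : g ∈ Subgroup.normalizer (S : Set Ω) := Subgroup.le_normalizer hg
    have hmem : S.normalizerMonoidHom ⟨g, hgN⟩ ∈ F.autGroup S := by
      apply autInducedBy_le_autGroup F le_rfl
      rw [mem_autInducedBy_iff]
      exact ⟨g, hg, fun x => rfl⟩
    have h1 := (h S (Or.inl rfl)).2 _ hmem ⟨x, hCS hx⟩ hx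
    have h2 : g * x * g⁻¹ = x := congrArg Subtype.val h1
    calc g * x = g * x * g⁻¹ * g := by group
      _ = x * g := by rw [h2]
  have hN : centralizerIn S C = S := by
    apply inf_eq_left.mpr
    intro s hs
    rw [Subgroup.mem_centralizer_iff]
    intro c hc
    exact ((Subgroup.mem_centralizer_iff.mp (hCZ hc)) s hs).symm
  set E : FusionSystem S := castSystem hN (centralizerSystem F C hCS) with hE
  have hEHom : ∀ P, E.Hom P = F.centralizerHom C P := fun P => castSystem_Hom hN _ P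
  have hle : F ≤ E := by
    apply alperin_le p hS F hF E
    intro P hP
    obtain ⟨hCP, hfix⟩ := h P hP
    have hPS : P ≤ S := by
      rcases hP with rfl | hP
      · exact le_rfl
      · exact hP.2.1.1
    intro α hα
    rw [mem_autGroup_iff E hPS, hEHom]
    have hα' : autHom α ∈ F.Hom P := (mem_autGroup_iff F hPS α).mp hα
    have hsup : P ⊔ C = P := sup_eq_left.mpr hCP
    refine ⟨hα', hPS.trans hN.ge, fun x => hN.ge (hPS (α x).2),
      (autHom α).comp (Subgroup.inclusion hsup.le), cast_mem F hsup hα', fun x => ?_, fun x => ?_⟩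
    · rfl
    · have h1 := hfix α hα ⟨x, hCP x.2⟩ x.2
      exact congrArg Subtype.val h1
  refine ⟨hCS, fun P φ hφ => ?_⟩
  have h1 := hle P hφ
  rw [hEHom] at h1
  exact h1.2.2.2

/-- a `p'`-automorphism of a `p`-group that moves `x` by a fixed element fixes `x` -/
theorem apply_eq_of_coprime_of_fix {R : Type*} [Group R] [Finite R] (p : ℕ) [Fact p.Prime]
    (hR : IsPGroup p R) (α : MulAut R) (hcop : (orderOf α).Coprime p) (x : R)
    (hfix : α (x⁻¹ * α x) = x⁻¹ * α x) : α x = x := by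
  set ζ : R := x⁻¹ * α x with hζ
  have hpow : ∀ k : ℕ, (α ^ k) x = x * ζ ^ k := by
    intro k
    induction k with
    | zero => simp
    | succ k ih =>
      rw [pow_succ', MulAut.mul_apply, ih, map_mul, map_pow, hfix, pow_succ', ← mul_assoc]
      congr 1
      rw [hζ, mul_inv_cancel_left]
  have h1 := hpow (orderOf α)
  rw [pow_orderOf_eq_one, MulAut.one_apply] at h1
  have h2 : ζ ^ orderOf α = 1 := by
    have := mul_left_cancel (a := x) (b := 1) (c := ζ ^ orderOf α) (by rw [mul_one]; exact h1)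
    exact this.symm
  obtain ⟨j, hj⟩ := hR ζ
  have h3 : orderOf ζ ∣ Nat.gcd (orderOf α) (p ^ j) :=
    Nat.dvd_gcd (orderOf_dvd_of_pow_eq_one h2) (orderOf_dvd_of_pow_eq_one hj)
  have h4 : Nat.gcd (orderOf α) (p ^ j) = 1 := Nat.Coprime.pow_right j hcop
  rw [h4, Nat.dvd_one, orderOf_eq_one_iff] at h3
  have h5 : x⁻¹ * α x = 1 := h3
  exact (inv_mul_eq_one.mp h5).symm

theorem preimageAlong_imageAlong_le (θ : S →* Ω') {Z : Subgroup Ω}
    (hker : ∀ s : S, θ s = 1 ↔ (s : Ω) ∈ Z) (P : Subgroup Ω) :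
    preimageAlong θ (imageAlong θ P) ≤ P ⊔ Z := by
  intro x hx
  obtain ⟨hxS, hx'⟩ := (mem_preimageAlong _ _ _).mp hx
  obtain ⟨y, hy, hyx⟩ := hx'
  have hy' : (y : Ω) ∈ P := hy
  have h1 : θ (y⁻¹ * ⟨x, hxS⟩) = 1 := by rw [map_mul, map_inv, hyx, inv_mul_cancel]
  have h2 : ((y⁻¹ * ⟨x, hxS⟩ : S) : Ω) ∈ Z := (hker _).mp h1
  have h3 : (y : Ω)⁻¹ * x ∈ Z := h2
  have e : x = (y : Ω) * ((y : Ω)⁻¹ * x) := by group
  rw [e]
  exact Subgroup.mul_mem _ (Subgroup.mem_sup_left hy') (Subgroup.mem_sup_right h3)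

section Grun

variable [Finite S] (p : ℕ) [Fact p.Prime] (F : FusionSystem S) {Z : Subgroup Ω}
  (hZc : F.IsCentral Z) (θ : S →* Ω') (hker : ∀ s : S, θ s = 1 ↔ (s : Ω) ∈ Z)
  {S' : Subgroup Ω'} (hrange : θ.range = S') (E : FusionSystem S')
  (hiff : ∀ (P' : Subgroup Ω') (φ' : P' →* Ω'),
    φ' ∈ E.Hom P' ↔ P' ≤ S' ∧ ∃ φ ∈ F.Hom (preimageAlong θ P'), InducedAlong θ φ φ')
  {C' : Subgroup Ω'} (hC' : E.IsCentral C')

include hZc hker hrange hiff hC' in
/-- automorphisms of a full preimage move the elements of the preimage of a central subgroup of the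
factor system only by elements of the kernel -/
theorem inv_mul_apply_mem_of_preimage {R' : Subgroup Ω'} (hR' : R' ≤ S')
    (α : MulAut ↥(preimageAlong θ R')) (hα : α ∈ F.autGroup (preimageAlong θ R'))
    (x : ↥(preimageAlong θ R')) (hx : (x : Ω) ∈ preimageAlong θ C') :
    (x : Ω)⁻¹ * ((α x : ↥(preimageAlong θ R')) : Ω) ∈ Z := by
  have hT := stronglyClosed_of_isCentral F hZc
  have hspec := indAutHom'_spec F hT θ hker hrange E hiff hR' ⟨α, hα⟩ x
  obtain ⟨hxS, hxC⟩ := (mem_preimageAlong _ _ _).mp hx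
  have hfix := apply_eq_of_isCentral E hC' hR'
    (indAutHom' F hT θ hker hrange E hiff hR' ⟨α, hα⟩).2 hxC (preimageAlong_map_mem θ R' x)
  rw [hfix] at hspec
  have hαS : ((α x : ↥(preimageAlong θ R')) : Ω) ∈ S := preimageAlong_le θ R' (α x).2
  have h1 : θ ((⟨x, hxS⟩ : S)⁻¹ * ⟨_, hαS⟩) = 1 := by
    rw [map_mul, map_inv]
    have : θ ⟨x, hxS⟩ = θ ⟨_, hαS⟩ := hspec
    rw [this, inv_mul_cancel]
  exact (hker _).mp h1

include hZc hker hrange hiff hC' in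
/-- `p'`-automorphisms of a subgroup containing the kernel fix the preimage of a central subgroup of
the factor system elementwise -/
theorem apply_eq_of_coprime_of_preimage (hS : IsPGroup p S) {R : Subgroup Ω} {R' : Subgroup Ω'}
    (hR' : R' ≤ S') (hR : R = preimageAlong θ R')
    (α : MulAut R) (hα : α ∈ F.autGroup R) (hcop : (orderOf α).Coprime p)
    (x : R) (hx : (x : Ω) ∈ preimageAlong θ C') : α x = x := by
  subst hR
  have hRS := preimageAlong_le θ R'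
  have hfinR : Finite ↥(preimageAlong θ R') := finite_of_le hRS
  have hRp : IsPGroup p ↥(preimageAlong θ R') :=
    hS.of_injective (Subgroup.inclusion hRS) (Subgroup.inclusion_injective _)
  apply apply_eq_of_coprime_of_fix p hRp α hcop x
  have hmem := inv_mul_apply_mem_of_preimage F hZc θ hker hrange E hiff hC' hR' α hα x hx
  have hmemR : (x : Ω)⁻¹ * ((α x : ↥(preimageAlong θ R')) : Ω) ∈ preimageAlong θ R' :=
    Subgroup.mul_mem _ (Subgroup.inv_mem _ x.2) (α x).2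
  have h1 := apply_eq_of_isCentral F hZc hRS hα hmem hmemR
  have e : x⁻¹ * α x = ⟨(x : Ω)⁻¹ * ((α x : ↥(preimageAlong θ R')) : Ω), hmemR⟩ := Subtype.ext rfl
  rw [e]
  exact h1

include hZc hker hrange hiff hC' in
/-- the commutator with an element of the preimage of a central subgroup of the factor system is
invariant under the maps of the system -/
theorem comm_eq_of_mem_preimage {z : Ω} (hz : z ∈ preimageAlong θ C') {P : Subgroup Ω}
    {φ : P →* Ω} (hφ : φ ∈ F.Hom P) (x : P) :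
    (x : Ω) * z * (x : Ω)⁻¹ * z⁻¹ = φ x * z * (φ x)⁻¹ * z⁻¹ := by
  have hT := stronglyClosed_of_isCentral F hZc
  have hP : P ≤ S := (F.le_of_mem hφ).1
  have hφS : ∀ y : P, φ y ∈ S := (F.le_of_mem hφ).2
  obtain ⟨ψ₁, hψ₁, hext₁, -⟩ := hZc.2 P φ hφ
  have hPb : imageAlong θ P ≤ S' := by
    rintro _ ⟨y, -, rfl⟩
    rw [← hrange]
    exact ⟨y, rfl⟩
  have hR₁le : preimageAlong θ (imageAlong θ P) ≤ P ⊔ Z := preimageAlong_imageAlong_le θ hker P
  have hPR₁ : P ≤ preimageAlong θ (imageAlong θ P) := fun y hy =>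
    (mem_preimageAlong _ _ _).mpr ⟨hP hy, ⟨⟨y, hP hy⟩, hy, rfl⟩⟩
  have hψ₁' : ψ₁.comp (Subgroup.inclusion hR₁le) ∈ F.Hom (preimageAlong θ (imageAlong θ P)) :=
    restrict_mem F hR₁le hψ₁
  obtain ⟨ψb₁, hind₁⟩ := exists_inducedAlong F hT θ hker hrange hPb hψ₁'
  have hψb₁ : ψb₁ ∈ E.Hom (imageAlong θ P) := (hiff _ _).mpr ⟨hPb, _, hψ₁', hind₁⟩
  obtain ⟨ψb₂, hψb₂, hextb, hfixb⟩ := hC'.2 (imageAlong θ P) ψb₁ hψb₁
  obtain ⟨-, ψ₂, hψ₂, hind₂⟩ := (hiff _ _).mp hψb₂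
  have hψ₂S : ∀ y : ↥(preimageAlong θ (imageAlong θ P ⊔ C')), ψ₂ y ∈ S := (F.le_of_mem hψ₂).2
  have hxS : (x : Ω) ∈ S := hP x.2
  have hxPb : θ ⟨x, hxS⟩ ∈ imageAlong θ P := ⟨⟨x, hxS⟩, x.2, rfl⟩
  have hxR₂ : (x : Ω) ∈ preimageAlong θ (imageAlong θ P ⊔ C') :=
    (mem_preimageAlong _ _ _).mpr ⟨hxS, Subgroup.mem_sup_left hxPb⟩
  obtain ⟨hzS, hzC⟩ := (mem_preimageAlong _ _ _).mp hz
  have hzR₂ : z ∈ preimageAlong θ (imageAlong θ P ⊔ C') :=
    (mem_preimageAlong _ _ _).mpr ⟨hzS, Subgroup.mem_sup_right hzC⟩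
  -- the two congruences
  have e1 : θ ⟨ψ₂ ⟨x, hxR₂⟩, hψ₂S _⟩ = θ ⟨φ x, hφS x⟩ := by
    have h1 := inducedAlong_apply θ hind₂ ⟨x, hxR₂⟩ hxS (Subgroup.mem_sup_left hxPb) (hψ₂S _)
    have h2 := hextb ⟨θ ⟨x, hxS⟩, hxPb⟩
    have h3 := inducedAlong_apply θ hind₁ ⟨x, hPR₁ x.2⟩ hxS hxPb
      ((F.le_of_mem hψ₁').2 _)
    have h4 : (ψ₁.comp (Subgroup.inclusion hR₁le)) ⟨x, hPR₁ x.2⟩ = φ x := hext₁ x
    rw [← h1]
    refine Eq.trans ?_ (Eq.trans h3 ?_)
    · exact h2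
    · congr 1
      exact Subtype.ext h4
  have e2 : θ ⟨ψ₂ ⟨z, hzR₂⟩, hψ₂S _⟩ = θ ⟨z, hzS⟩ := by
    have h1 := inducedAlong_apply θ hind₂ ⟨z, hzR₂⟩ hzS (Subgroup.mem_sup_right hzC) (hψ₂S _)
    have h2 := hfixb ⟨θ ⟨z, hzS⟩, hzC⟩
    rw [← h1]
    exact h2
  have hζ₁ : (φ x)⁻¹ * ψ₂ ⟨x, hxR₂⟩ ∈ Z := by
    have h1 : θ ((⟨φ x, hφS x⟩ : S)⁻¹ * ⟨ψ₂ ⟨x, hxR₂⟩, hψ₂S _⟩) = 1 := by
      rw [map_mul, map_inv, e1, inv_mul_cancel]
    exact (hker _).mp h1
  have hζ₂ : z⁻¹ * ψ₂ ⟨z, hzR₂⟩ ∈ Z := by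
    have h1 : θ ((⟨z, hzS⟩ : S)⁻¹ * ⟨ψ₂ ⟨z, hzR₂⟩, hψ₂S _⟩) = 1 := by
      rw [map_mul, map_inv, e2, inv_mul_cancel]
    exact (hker _).mp h1
  -- the commutator lies in `Z`
  have hzc := le_center_of_isCentral E hC' hzC
  have hcS : (x : Ω) * z * (x : Ω)⁻¹ * z⁻¹ ∈ S :=
    S.mul_mem (S.mul_mem (S.mul_mem hxS hzS) (S.inv_mem hxS)) (S.inv_mem hzS)
  have hcZ : (x : Ω) * z * (x : Ω)⁻¹ * z⁻¹ ∈ Z := by
    have e : (⟨(x : Ω) * z * (x : Ω)⁻¹ * z⁻¹, hcS⟩ : S) =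
        ⟨x, hxS⟩ * ⟨z, hzS⟩ * (⟨x, hxS⟩ : S)⁻¹ * (⟨z, hzS⟩ : S)⁻¹ := Subtype.ext rfl
    have h1 : θ ⟨(x : Ω) * z * (x : Ω)⁻¹ * z⁻¹, hcS⟩ = 1 := by
      rw [e, map_mul, map_mul, map_mul, map_inv, map_inv]
      have hxS' : θ ⟨x, hxS⟩ ∈ S' := hPb hxPb
      have := (Subgroup.mem_centralizer_iff.mp hzc.2) _ hxS'
      rw [this, mul_inv_cancel_right, mul_inv_cancel]
    exact (hker _).mp h1
  have hcR₂ : (x : Ω) * z * (x : Ω)⁻¹ * z⁻¹ ∈ preimageAlong θ (imageAlong θ P ⊔ C') :=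
    Subgroup.mul_mem _ (Subgroup.mul_mem _ (Subgroup.mul_mem _ hxR₂ hzR₂) (Subgroup.inv_mem _ hxR₂))
      (Subgroup.inv_mem _ hzR₂)
  have hfixc := hom_apply_eq_of_isCentral F hZc hψ₂ ⟨_, hcR₂⟩ hcZ
  have ec : (⟨(x : Ω) * z * (x : Ω)⁻¹ * z⁻¹, hcR₂⟩ : ↥(preimageAlong θ (imageAlong θ P ⊔ C'))) =
      ⟨x, hxR₂⟩ * ⟨z, hzR₂⟩ * (⟨x, hxR₂⟩ : ↥(preimageAlong θ (imageAlong θ P ⊔ C')))⁻¹ *
        (⟨z, hzR₂⟩ : ↥(preimageAlong θ (imageAlong θ P ⊔ C')))⁻¹ := Subtype.ext rfl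
  rw [ec, map_mul, map_mul, map_mul, map_inv, map_inv] at hfixc
  have hfixc' : ψ₂ ⟨x, hxR₂⟩ * ψ₂ ⟨z, hzR₂⟩ * (ψ₂ ⟨x, hxR₂⟩)⁻¹ * (ψ₂ ⟨z, hzR₂⟩)⁻¹ =
      (x : Ω) * z * (x : Ω)⁻¹ * z⁻¹ := hfixc
  have hZcen := le_center_of_isCentral F hZc
  have k1 : ∀ s ∈ S, ((φ x)⁻¹ * ψ₂ ⟨x, hxR₂⟩) * s = s * ((φ x)⁻¹ * ψ₂ ⟨x, hxR₂⟩) := fun s hs =>
    ((Subgroup.mem_centralizer_iff.mp (hZcen hζ₁).2) s hs).symm
  have k2 : ∀ s ∈ S, (z⁻¹ * ψ₂ ⟨z, hzR₂⟩) * s = s * (z⁻¹ * ψ₂ ⟨z, hzR₂⟩) := fun s hs =>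
    ((Subgroup.mem_centralizer_iff.mp (hZcen hζ₂).2) s hs).symm
  set a := φ x with ha
  set ζ₁ := (φ x)⁻¹ * ψ₂ ⟨x, hxR₂⟩ with hζ₁def
  set ζ₂ := z⁻¹ * ψ₂ ⟨z, hzR₂⟩ with hζ₂def
  have hx2 : ψ₂ ⟨x, hxR₂⟩ = a * ζ₁ := by rw [hζ₁def, mul_inv_cancel_left]
  have hz2 : ψ₂ ⟨z, hzR₂⟩ = z * ζ₂ := by rw [hζ₂def, mul_inv_cancel_left]
  have haS : a ∈ S := hφS x
  have hζ₂S : ζ₂ ∈ S := (hZcen hζ₂).1
  rw [← hfixc', hx2, hz2]
  calc a * ζ₁ * (z * ζ₂) * (a * ζ₁)⁻¹ * (z * ζ₂)⁻¹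
      = a * (ζ₁ * (z * ζ₂)) * ζ₁⁻¹ * a⁻¹ * (z * ζ₂)⁻¹ := by group
    _ = a * ((z * ζ₂) * ζ₁) * ζ₁⁻¹ * a⁻¹ * (z * ζ₂)⁻¹ := by rw [k1 (z * ζ₂) (S.mul_mem hzS hζ₂S)]
    _ = a * z * (ζ₂ * a⁻¹) * ζ₂⁻¹ * z⁻¹ := by group
    _ = a * z * (a⁻¹ * ζ₂) * ζ₂⁻¹ * z⁻¹ := by rw [k2 a⁻¹ (S.inv_mem haS)]
    _ = a * z * a⁻¹ * z⁻¹ := by group

include hZc hker hrange hiff hC' in
/-- the preimage of a central subgroup of the factor system centralizes the hyperfocal subgroup -/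
theorem preimage_le_centralizer_hyperfocal :
    preimageAlong θ C' ≤ Subgroup.centralizer (F.hyperfocalSubgroup p : Set Ω) := by
  intro z hz
  have key : F.hyperfocalSubgroup p ≤ Subgroup.centralizer ({z} : Set Ω) := by
    unfold hyperfocalSubgroup
    rw [Subgroup.closure_le]
    rintro _ ⟨P, α, x, hPS, -, rfl⟩
    rw [SetLike.mem_coe, Subgroup.mem_centralizer_iff]
    intro w hw
    rw [Set.mem_singleton_iff] at hw
    subst hw
    have hφ : autHom (α : MulAut P) ∈ F.Hom P := (mem_autGroup_iff F hPS _).mp α.2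
    have h1 := comm_eq_of_mem_preimage F hZc θ hker hrange E hiff hC' hz hφ x
    have h2 : (x : Ω) * w * (x : Ω)⁻¹ =
        (((α : MulAut P) x : P) : Ω) * w * (((α : MulAut P) x : P) : Ω)⁻¹ :=
      mul_right_cancel h1
    symm
    calc (x : Ω)⁻¹ * (((α : MulAut P) x : P) : Ω) * w
        = (x : Ω)⁻¹ * ((((α : MulAut P) x : P) : Ω) * w * (((α : MulAut P) x : P) : Ω)⁻¹) *
          (((α : MulAut P) x : P) : Ω) := by group
      _ = (x : Ω)⁻¹ * ((x : Ω) * w * (x : Ω)⁻¹) * (((α : MulAut P) x : P) : Ω) := by rw [h2]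
      _ = w * ((x : Ω)⁻¹ * (((α : MulAut P) x : P) : Ω)) := by group
  rw [Subgroup.mem_centralizer_iff]
  intro h hh
  exact ((Subgroup.mem_centralizer_iff.mp (key hh)) z rfl).symm

include hZc hker hrange hiff hC' in
/-- Grün: in a perfect saturated system the preimage of a central subgroup of the factor system
modulo a central subgroup is central -/
theorem preimage_isCentral (hS : IsPGroup p S) (hF : F.IsSaturated p)
    (hperf : F.hyperfocalSubgroup p = S) : F.IsCentral (preimageAlong θ C') := by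
  have hZ₂S := preimageAlong_le θ C'
  have hZ₂cen : preimageAlong θ C' ≤ Subgroup.centralizer (S : Set Ω) := by
    have := preimage_le_centralizer_hyperfocal p F hZc θ hker hrange E hiff hC'
    rwa [hperf] at this
  have hZS : Z ≤ S := hZc.1
  have hZZ₂ : Z ≤ preimageAlong θ C' := ker_le_preimageAlong θ hZS hker C'
  apply isCentral_of_alperin p hS F hF
  intro R hR
  have hRS : R ≤ S := by
    rcases hR with rfl | hR
    · exact le_rfl
    · exact hR.2.1.1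
  have hZ₂R : preimageAlong θ C' ≤ R := by
    rcases hR with rfl | hR
    · exact hZ₂S
    · have hcen := hR.1.2 R (isConj_refl F hR.1.1)
      intro z hz
      apply hcen
      refine Subgroup.mem_inf.mpr ⟨hZ₂S hz, ?_⟩
      exact Subgroup.centralizer_le hRS (hZ₂cen hz)
  refine ⟨hZ₂R, ?_⟩
  have hFN : F.IsFullyNormalized R := by
    rcases hR with rfl | hR
    · exact top_isFullyNormalized F
    · exact hR.2.1
  obtain ⟨-, hFA⟩ := Cfsg.Agent.S5077.sylow_axiom p hS F hF R hFN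
  obtain ⟨PA, hPA⟩ := hFA.2
  have hfinR : Finite R := finite_of_le hRS
  have hfinA : Finite (MulAut R) :=
    Finite.of_injective (fun e : MulAut R => (e : R → R)) (fun a b h => DFunLike.coe_injective h)
  let Fix : Subgroup ↥(F.autGroup R) :=
    { carrier := {a | ∀ x : R, (x : Ω) ∈ preimageAlong θ C' → a.1 x = x}
      one_mem' := fun x _ => rfl
      mul_mem' := by
        intro a b ha hb x hx
        show a.1 (b.1 x) = x
        rw [hb x hx, ha x hx]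
      inv_mem' := by
        intro a ha x hx
        show a.1⁻¹ x = x
        have h1 := ha x hx
        rw [MulAut.inv_apply]
        exact (MulEquiv.symm_apply_eq a.1).mpr h1.symm }
  have htop : Fix = ⊤ := by
    rw [eq_top_iff, ← Cfsg.Agent.Helper9.sylow_sup_pResidual PA]
    apply sup_le
    · intro a ha
      have ha' : a ∈ (autInducedBy S R).subgroupOf (F.autGroup R) := by
        rw [← hPA]
        exact ha
      rw [Subgroup.mem_subgroupOf] at ha'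
      obtain ⟨g, hgS, hg⟩ := (mem_autInducedBy_iff S R a.1).mp ha'
      intro x hx
      apply Subtype.ext
      rw [hg x]
      have := (Subgroup.mem_centralizer_iff.mp (hZ₂cen hx)) g hgS
      rw [this, mul_inv_cancel_right]
    · unfold pResidual
      rw [Subgroup.closure_le]
      intro a ha x hx
      have hR' : imageAlong θ R ≤ S' := by
        rintro _ ⟨y, -, rfl⟩
        rw [← hrange]
        exact ⟨y, rfl⟩
      have hReq : R = preimageAlong θ (imageAlong θ R) := by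
        have := preimageAlong_imageAlong_sup θ hZS hRS hker
        rw [sup_eq_left.mpr (hZZ₂.trans hZ₂R)] at this
        exact this.symm
      exact apply_eq_of_coprime_of_preimage p F hZc θ hker hrange E hiff hC' hS hR' hReq a.1 a.2
        (by rw [Subgroup.orderOf_coe]; exact ha) x hx
  intro α hα x hx
  have hmem : (⟨α, hα⟩ : ↥(F.autGroup R)) ∈ Fix := by
    rw [htop]
    trivial
  exact hmem x hx

end Grun

/-- Grün's lemma for fusion systems -/
theorem factor_center_eq_bot [Finite S] (p : ℕ) [Fact p.Prime] (hS : IsPGroup p S)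
    (F : FusionSystem S) (hF : F.IsSaturated p) (hperf : F.hyperfocalSubgroup p = S)
    {S' : Subgroup Ω'} [Finite S'] (θ : S →* Ω') (E : FusionSystem S')
    (hE : F.IsFactorSystem F.center θ E) : E.center = ⊥ := by
  obtain ⟨hTS, hker, hrange, hiff⟩ := hE
  have hZc : F.IsCentral F.center := Cfsg.Agent.S5144.result F
  have hC' : E.IsCentral E.center := Cfsg.Agent.S5144.result E
  have h1 := preimage_isCentral p F hZc θ hker hrange E hiff hC' hS hF hperf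
  have h2 : preimageAlong θ E.center ≤ F.center := le_sSup h1
  rw [eq_bot_iff]
  intro c hc
  have hcS' : c ∈ S' := hC'.1 hc
  rw [← hrange] at hcS'
  obtain ⟨s, rfl⟩ := hcS'
  have hs : (s : Ω) ∈ preimageAlong θ E.center :=
    (mem_preimageAlong _ _ _).mpr ⟨s.2, hc⟩
  rw [Subgroup.mem_bot]
  exact (hker s).mpr (h2 hs)

end Cfsg.Agent.Helper26
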