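import Mathlib
import Cfsg.Agent.S5081
import Cfsg.Agent.S5079
import Cfsg.Agent.S5077

set_option autoImplicit false

/-! The class of an essential subgroup cannot be omitted from a generating family. -/

namespace Cfsg.Agent.Helper26

open Cfsg Cfsg.FusionSystem Cfsg.Agent.Helper25

variable {Ω : Type*} [Group Ω] {S : Subgroup Ω}

/-- `τ` is a map of the system on `N_S(A)` carrying `A` onto `Q` -/
def IsNormMap (F : FusionSystem S) (Q A : Subgroup Ω) (τ : ↥(normalizerIn S A) →* Ω) : Prop :=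
  τ ∈ F.Hom (normalizerIn S A) ∧ (A.subgroupOf (normalizerIn S A)).map τ = Q

/-- the subgroup of `Aut(Q)` generated by the automorphisms that extend properly -/
def extSubgroup (F : FusionSystem S) (Q : Subgroup Ω) : Subgroup (MulAut Q) :=
  Subgroup.closure {α : MulAut Q | ExtendsProperly F Q α}

theorem le_normalizerIn {A : Subgroup Ω} (hAS : A ≤ S) : A ≤ normalizerIn S A :=
  fun _ hx => Subgroup.mem_inf.mpr ⟨hAS hx, Subgroup.le_normalizer hx⟩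

theorem IsNormMap.le {F : FusionSystem S} {Q A : Subgroup Ω} {τ : ↥(normalizerIn S A) →* Ω}
    (h : IsNormMap F Q A τ) (hAS : A ≤ S) (x : A) : τ ⟨x, le_normalizerIn hAS x.2⟩ ∈ Q := by
  rw [← h.2]
  exact ⟨⟨x, le_normalizerIn hAS x.2⟩, x.2, rfl⟩

theorem IsNormMap.isConj {F : FusionSystem S} {Q A : Subgroup Ω} {τ : ↥(normalizerIn S A) →* Ω}
    (h : IsNormMap F Q A τ) (hAS : A ≤ S) : F.IsConj A Q := by
  refine ⟨τ.comp (Subgroup.inclusion (le_normalizerIn hAS)),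
    restrict_mem F (le_normalizerIn hAS) h.1, ?_⟩
  rw [← h.2]
  ext y
  constructor
  · rintro ⟨x, rfl⟩
    exact ⟨Subgroup.inclusion (le_normalizerIn hAS) x, x.2, rfl⟩
  · rintro ⟨n, hn, rfl⟩
    exact ⟨⟨n, hn⟩, rfl⟩

theorem card_eq_of_isConj [Finite S] (F : FusionSystem S) {A B : Subgroup Ω} (h : F.IsConj A B) :
    Nat.card A = Nat.card B := by
  obtain ⟨φ, hφ, hr⟩ := h
  exact Nat.card_congr (isoOfHom φ (F.injective_of_mem hφ) hr).toEquiv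

theorem ne_of_isConj_of_ne [Finite S] (F : FusionSystem S) {A Q : Subgroup Ω} (h : F.IsConj A Q)
    (hQne : Q ≠ S) : A ≠ S := by
  intro hA
  apply hQne
  have hQS : Q ≤ S := (isConj_le F h).2
  have hc := card_eq_of_isConj F h
  rw [hA] at hc
  exact Subgroup.eq_of_le_of_card_ge hQS hc.le

/-- the key construction: a map defined on a subgroup `A₁` properly containing and normalizing `A`,
read through normalizer maps, gives an automorphism of `Q` that extends properly -/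
theorem exists_ext_of_normalizing [Finite S] (F : FusionSystem S) {Q A A₁ B : Subgroup Ω}
    (hAA₁ : A < A₁) (hA₁N : A₁ ≤ normalizerIn S A) {χ : A₁ →* Ω} (hχ : χ ∈ F.Hom A₁)
    (hB : (A.subgroupOf A₁).map χ = B)
    {τA : ↥(normalizerIn S A) →* Ω} (hτA : IsNormMap F Q A τA)
    {τB : ↥(normalizerIn S B) →* Ω} (hτB : IsNormMap F Q B τB) :
    ∃ α ∈ extSubgroup F Q, ∀ (x : A₁) (_ : (x : Ω) ∈ A) (hχx : χ x ∈ normalizerIn S B)
      (hτ : τA ⟨x, hA₁N x.2⟩ ∈ Q), τB ⟨χ x, hχx⟩ = ((α ⟨τA ⟨x, hA₁N x.2⟩, hτ⟩ : Q) : Ω) := by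
  have hA₁S : A₁ ≤ S := hA₁N.trans inf_le_left
  have hχS : ∀ x : A₁, χ x ∈ S := (F.le_of_mem hχ).2
  have hAA₁' : A ≤ A₁ := hAA₁.le
  -- `χ` maps into `N_S(B)`
  have hχN : ∀ x : A₁, χ x ∈ normalizerIn S B := by
    have key : ∀ x : A₁, ∀ b ∈ B, χ x * b * (χ x)⁻¹ ∈ B := by
      intro x b hb
      rw [← hB] at hb ⊢
      obtain ⟨a, ha, rfl⟩ := hb
      have ha' : (a : Ω) ∈ A := ha
      have hxN := (hA₁N x.2).2
      have hmem : (x : Ω) * a * (x : Ω)⁻¹ ∈ A := (Subgroup.mem_normalizer_iff.mp hxN a).mp ha'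
      refine ⟨x * a * x⁻¹, hmem, ?_⟩
      rw [map_mul, map_mul, map_inv]
    intro x
    refine Subgroup.mem_inf.mpr ⟨hχS x, ?_⟩
    rw [Subgroup.mem_normalizer_iff]
    intro b
    constructor
    · exact key x b
    · intro hb
      have h1 := key x⁻¹ _ hb
      rw [map_inv] at h1
      have e : (χ x)⁻¹ * (χ x * b * (χ x)⁻¹) * ((χ x)⁻¹)⁻¹ = b := by group
      rwa [e] at h1
  -- the restriction of `τA` to `A₁` and its inverse
  have hτA₁ : τA.comp (Subgroup.inclusion hA₁N) ∈ F.Hom A₁ := restrict_mem F hA₁N hτA.1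
  obtain ⟨σ, hσ, hσinv, hσr⟩ := exists_inv_mem F hτA₁ rfl
  have hmemR : ∀ x : A₁, (τA.comp (Subgroup.inclusion hA₁N)) x ∈
      (τA.comp (Subgroup.inclusion hA₁N)).range := fun x => MonoidHom.mem_range.mpr ⟨x, rfl⟩
  have hσA₁ : ∀ r : ↥(τA.comp (Subgroup.inclusion hA₁N)).range, σ r ∈ A₁ := by
    intro r
    exact hσr.le ⟨r, rfl⟩
  have hρ₁ := F.comp_mem hσ hχ hσA₁
  have hρ₁N : ∀ r : ↥(τA.comp (Subgroup.inclusion hA₁N)).range,
      (χ.comp (σ.codRestrict A₁ hσA₁)) r ∈ normalizerIn S B := fun r => hχN _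
  have hρ := F.comp_mem hρ₁ hτB.1 hρ₁N
  set ρ := τB.comp ((χ.comp (σ.codRestrict A₁ hσA₁)).codRestrict (normalizerIn S B) hρ₁N) with hρdef
  -- `Q < R`
  have hQR : Q ≤ (τA.comp (Subgroup.inclusion hA₁N)).range := by
    intro q hq
    rw [← hτA.2] at hq
    obtain ⟨n, hn, rfl⟩ := hq
    have hn' : (n : Ω) ∈ A := hn
    exact MonoidHom.mem_range.mpr ⟨⟨n, hAA₁' hn'⟩, rfl⟩
  have hQRne : Q ≠ (τA.comp (Subgroup.inclusion hA₁N)).range := by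
    intro h
    obtain ⟨a₁, ha₁, ha₁A⟩ := SetLike.exists_of_lt hAA₁
    have h1 : (τA.comp (Subgroup.inclusion hA₁N)) ⟨a₁, ha₁⟩ ∈ Q := by
      rw [h]
      exact hmemR _
    rw [← hτA.2] at h1
    obtain ⟨n, hn, hne⟩ := h1
    have hn' : (n : Ω) ∈ A := hn
    have h2 : n = Subgroup.inclusion hA₁N ⟨a₁, ha₁⟩ := F.injective_of_mem hτA.1 hne
    apply ha₁A
    have : (n : Ω) = a₁ := by rw [h2]; rfl
    rw [← this]
    exact hn'
  have hQR' : Q < (τA.comp (Subgroup.inclusion hA₁N)).range := lt_of_le_of_ne hQR hQRne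
  -- the value of `ρ` on `τA x`
  have hρval : ∀ (x : A₁) (hr : (τA.comp (Subgroup.inclusion hA₁N)) x ∈
      (τA.comp (Subgroup.inclusion hA₁N)).range), ρ ⟨_, hr⟩ = τB ⟨χ x, hχN x⟩ := by
    intro x hr
    show τB ⟨χ ⟨σ ⟨_, hr⟩, hσA₁ _⟩, _⟩ = τB ⟨χ x, hχN x⟩
    congr 2
    congr 1
    exact Subtype.ext (hσinv x hr)
  -- `ρ` maps `Q` into `Q`
  have hρQ : ∀ q : Q, ρ (Subgroup.inclusion hQR q) ∈ Q := by
    intro q
    have hq : (q : Ω) ∈ (A.subgroupOf (normalizerIn S A)).map τA := hτA.2.ge q.2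
    obtain ⟨n, hn, hnq⟩ := hq
    have hn' : (n : Ω) ∈ A := hn
    have e : Subgroup.inclusion hQR q = ⟨(τA.comp (Subgroup.inclusion hA₁N)) ⟨n, hAA₁' hn'⟩,
        hmemR _⟩ := by
      apply Subtype.ext
      show (q : Ω) = τA _
      rw [← hnq]
      rfl
    rw [e, hρval]
    rw [← hτB.2]
    refine ⟨⟨χ ⟨n, hAA₁' hn'⟩, hχN _⟩, ?_, rfl⟩
    show χ ⟨n, hAA₁' hn'⟩ ∈ B
    rw [← hB]
    exact ⟨⟨n, hAA₁' hn'⟩, hn', rfl⟩
  have hQS : Q ≤ S := by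
    intro q hq
    exact (F.le_of_mem hρ).1 (hQR hq)
  have hfinQ : Finite Q := finite_of_le hQS
  let f : Q →* Q := (ρ.comp (Subgroup.inclusion hQR)).codRestrict Q hρQ
  have hfinj : Function.Injective f := by
    intro a b hab
    have h1 : ρ (Subgroup.inclusion hQR a) = ρ (Subgroup.inclusion hQR b) :=
      congrArg Subtype.val hab
    exact Subgroup.inclusion_injective hQR (F.injective_of_mem hρ h1)
  have hfbij : Function.Bijective f := ⟨hfinj, Finite.surjective_of_injective hfinj⟩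
  let α : MulAut Q := MulEquiv.ofBijective f hfbij
  have hαval : ∀ q : Q, ((α q : Q) : Ω) = ρ (Subgroup.inclusion hQR q) := fun q => rfl
  refine ⟨α, Subgroup.subset_closure ⟨_, hQR', ρ, hρ, fun q => (hαval q).symm⟩, ?_⟩
  intro x hxA hχx hτ
  rw [hαval]
  have e : Subgroup.inclusion hQR ⟨τA ⟨x, hA₁N x.2⟩, hτ⟩ =
      ⟨(τA.comp (Subgroup.inclusion hA₁N)) x, hmemR x⟩ := Subtype.ext rfl
  rw [e, hρval]

/-- `φ` is compatible with the subgroup of properly extending automorphisms of `Q` -/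
def GoodMap (F : FusionSystem S) (Q : Subgroup Ω) {A : Subgroup Ω} (φ : A →* Ω) : Prop :=
  ∀ (B : Subgroup Ω), φ.range = B →
    ∀ (τA : ↥(normalizerIn S A) →* Ω) (τB : ↥(normalizerIn S B) →* Ω),
    IsNormMap F Q A τA → IsNormMap F Q B τB →
    ∃ α ∈ extSubgroup F Q, ∀ (x : A) (hx : (x : Ω) ∈ normalizerIn S A)
      (hφx : φ x ∈ normalizerIn S B) (hτ : τA ⟨x, hx⟩ ∈ Q),
      τB ⟨φ x, hφx⟩ = ((α ⟨τA ⟨x, hx⟩, hτ⟩ : Q) : Ω)

theorem exists_isNormMap [Finite S] (p : ℕ) [Fact p.Prime] (hS : IsPGroup p S) (F : FusionSystem S)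
    (hF : F.IsSaturated p) {Q : Subgroup Ω} (hQN : F.IsFullyNormalized Q) {B : Subgroup Ω}
    (hB : F.IsConj B Q) : ∃ τ, IsNormMap F Q B τ := by
  obtain ⟨hFC, hFA⟩ := Cfsg.Agent.S5077.sylow_axiom p hS F hF Q hQN
  have hRec := Cfsg.Agent.S5077.extension_axiom p hS F hF Q hFC
  obtain ⟨τ, hτ, -, hτQ⟩ := Cfsg.Agent.S5079.result p hS F Q B hFA hRec hB
  exact ⟨τ, hτ, hτQ⟩

theorem exists_ext_of_restrict [Finite S] (p : ℕ) [Fact p.Prime] (hS : IsPGroup p S)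
    (F : FusionSystem S) {Q B Q₂ C : Subgroup Ω} (hBQ₂ : B < Q₂) {ψ : Q₂ →* Ω}
    (hψ : ψ ∈ F.Hom Q₂) (hC : (B.subgroupOf Q₂).map ψ = C)
    {τB : ↥(normalizerIn S B) →* Ω} (hτB : IsNormMap F Q B τB)
    {τC : ↥(normalizerIn S C) →* Ω} (hτC : IsNormMap F Q C τC) :
    ∃ α ∈ extSubgroup F Q, ∀ (y : Q₂) (_ : (y : Ω) ∈ B) (hy : (y : Ω) ∈ normalizerIn S B)
      (hψy : ψ y ∈ normalizerIn S C) (hτ : τB ⟨y, hy⟩ ∈ Q),
      τC ⟨ψ y, hψy⟩ = ((α ⟨τB ⟨y, hy⟩, hτ⟩ : Q) : Ω) := by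
  have hQ₂S : Q₂ ≤ S := (F.le_of_mem hψ).1
  have hfinQ₂ : Finite Q₂ := finite_of_le hQ₂S
  have hQ₂p : IsPGroup p Q₂ :=
    hS.of_injective (Subgroup.inclusion hQ₂S) (Subgroup.inclusion_injective _)
  obtain ⟨g, hgN, hgB⟩ := exists_mem_normalizerIn_not_mem (S := Q₂) p hQ₂p hBQ₂.le hBQ₂.ne
  have hBA₁ : B ≤ normalizerIn Q₂ B := le_normalizerIn hBQ₂.le
  have hlt : B < normalizerIn Q₂ B := lt_of_le_of_ne hBA₁ (fun h => hgB (h.ge hgN))
  have hA₁Q₂ : normalizerIn Q₂ B ≤ Q₂ := inf_le_left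
  have hA₁N : normalizerIn Q₂ B ≤ normalizerIn S B := fun x hx =>
    Subgroup.mem_inf.mpr ⟨hQ₂S hx.1, hx.2⟩
  have hχ : ψ.comp (Subgroup.inclusion hA₁Q₂) ∈ F.Hom (normalizerIn Q₂ B) :=
    restrict_mem F hA₁Q₂ hψ
  have hB' : (B.subgroupOf (normalizerIn Q₂ B)).map (ψ.comp (Subgroup.inclusion hA₁Q₂)) = C := by
    rw [← hC]
    ext y
    constructor
    · rintro ⟨x, hx, rfl⟩
      exact ⟨Subgroup.inclusion hA₁Q₂ x, hx, rfl⟩
    · rintro ⟨x, hx, rfl⟩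
      have hx' : (x : Ω) ∈ B := hx
      exact ⟨⟨x, hBA₁ hx'⟩, hx', rfl⟩
  obtain ⟨α, hα, hαv⟩ := exists_ext_of_normalizing F hlt hA₁N hχ hB' hτB hτC
  refine ⟨α, hα, fun y hyB hy hψy hτ => ?_⟩
  exact hαv ⟨y, hBA₁ hyB⟩ hyB hψy hτ

theorem goodMap_conj [Finite S] (p : ℕ) [Fact p.Prime] (hS : IsPGroup p S) (F : FusionSystem S)
    {Q : Subgroup Ω} (hQne : Q ≠ S) {A : Subgroup Ω} (hAS : A ≤ S) {g : Ω} (hg : g ∈ S) :
    GoodMap F Q (conjHom A g) := by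
  intro B hB τA τB hτA hτB
  have hconj := hτA.isConj hAS
  have hAne : A ≠ S := ne_of_isConj_of_ne F hconj hQne
  obtain ⟨n, hnN, hnA⟩ := exists_mem_normalizerIn_not_mem p hS hAS hAne
  have hlt : A < normalizerIn S A :=
    lt_of_le_of_ne (le_normalizerIn hAS) (fun h => hnA (h.ge hnN))
  have hχ : conjHom (normalizerIn S A) g ∈ F.Hom (normalizerIn S A) := F.conj_mem inf_le_left hg
  have hB' : (A.subgroupOf (normalizerIn S A)).map (conjHom (normalizerIn S A) g) = B := by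
    rw [← hB]
    ext y
    constructor
    · rintro ⟨x, hx, rfl⟩
      exact ⟨⟨x, hx⟩, rfl⟩
    · rintro ⟨x, rfl⟩
      exact ⟨⟨x, le_normalizerIn hAS x.2⟩, x.2, rfl⟩
  obtain ⟨α, hα, hαv⟩ := exists_ext_of_normalizing F hlt le_rfl hχ hB' hτA hτB
  refine ⟨α, hα, fun x hx hφx hτ => ?_⟩
  exact hαv ⟨x, hx⟩ x.2 hφx hτ

theorem goodMap_comp [Finite S] (p : ℕ) [Fact p.Prime] (hS : IsPGroup p S) (F : FusionSystem S)
    (hF : F.IsSaturated p) {Q : Subgroup Ω} (hQN : F.IsFullyNormalized Q) {A Q₂ : Subgroup Ω}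
    {φ : A →* Ω} {ψ : Q₂ →* Ω} (hφ : φ ∈ F.Hom A) (hφg : GoodMap F Q φ) (hψ : ψ ∈ F.Hom Q₂)
    (hψg : GoodMap F Q ψ) (h : ∀ x : A, φ x ∈ Q₂) :
    GoodMap F Q (ψ.comp (φ.codRestrict Q₂ h)) := by
  intro C hC τA τC hτA hτC
  have hAS : A ≤ S := (F.le_of_mem hφ).1
  have hQ₂S : Q₂ ≤ S := (F.le_of_mem hψ).1
  have hBQ₂ : φ.range ≤ Q₂ := by
    rintro _ ⟨x, rfl⟩
    exact h x
  have hBS : φ.range ≤ S := hBQ₂.trans hQ₂S
  have hconjAQ := hτA.isConj hAS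
  have hconjAB : F.IsConj A φ.range := ⟨φ, hφ, rfl⟩
  have hconjBQ : F.IsConj φ.range Q := isConj_trans F (isConj_symm F hconjAB) hconjAQ
  obtain ⟨τB, hτB⟩ := exists_isNormMap p hS F hF hQN hconjBQ
  obtain ⟨α₁, hα₁, hα₁v⟩ := hφg φ.range rfl τA τB hτA hτB
  have hCeq : (φ.range.subgroupOf Q₂).map ψ = C := by
    rw [← hC]
    ext y
    constructor
    · rintro ⟨z, hz, rfl⟩
      obtain ⟨x, hx⟩ := hz
      refine ⟨x, ?_⟩
      show ψ ⟨φ x, h x⟩ = ψ z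
      congr 1
      exact Subtype.ext hx
    · rintro ⟨x, rfl⟩
      exact ⟨⟨φ x, h x⟩, ⟨x, rfl⟩, rfl⟩
  have hα₂ : ∃ α₂ ∈ extSubgroup F Q, ∀ (y : Q₂) (_ : (y : Ω) ∈ φ.range)
      (hy : (y : Ω) ∈ normalizerIn S φ.range) (hψy : ψ y ∈ normalizerIn S C)
      (hτ : τB ⟨y, hy⟩ ∈ Q), τC ⟨ψ y, hψy⟩ = ((α₂ ⟨τB ⟨y, hy⟩, hτ⟩ : Q) : Ω) := by
    rcases eq_or_lt_of_le hBQ₂ with heq | hlt
    · have aux : ∀ (B' : Subgroup Ω) (_ : B' = Q₂) (τB' : ↥(normalizerIn S B') →* Ω),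
          IsNormMap F Q B' τB' → (B'.subgroupOf Q₂).map ψ = C →
          ∃ α₂ ∈ extSubgroup F Q, ∀ (y : Q₂) (_ : (y : Ω) ∈ B')
            (hy : (y : Ω) ∈ normalizerIn S B') (hψy : ψ y ∈ normalizerIn S C)
            (hτ : τB' ⟨y, hy⟩ ∈ Q), τC ⟨ψ y, hψy⟩ = ((α₂ ⟨τB' ⟨y, hy⟩, hτ⟩ : Q) : Ω) := by
        intro B' hB' τB' hτB' hCB'
        subst hB'
        have hψr : ψ.range = C := by
          rw [← hCB']
          ext y
          constructor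
          · rintro ⟨z, rfl⟩
            exact ⟨z, z.2, rfl⟩
          · rintro ⟨z, -, rfl⟩
            exact ⟨z, rfl⟩
        obtain ⟨α₂, hα₂, hα₂v⟩ := hψg C hψr τB' τC hτB' hτC
        exact ⟨α₂, hα₂, fun y _ hy hψy hτ => hα₂v y hy hψy hτ⟩
      exact aux φ.range heq τB hτB hCeq
    · exact exists_ext_of_restrict p hS F hlt hψ hCeq hτB hτC
  obtain ⟨α₂, hα₂, hα₂v⟩ := hα₂
  refine ⟨α₂ * α₁, Subgroup.mul_mem _ hα₂ hα₁, ?_⟩
  intro x hx hφx hτ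
  have hφxN : φ x ∈ normalizerIn S φ.range := le_normalizerIn hBS ⟨x, rfl⟩
  have h1 := hα₁v x hx hφxN hτ
  have hτ' : τB ⟨φ x, hφxN⟩ ∈ Q := by
    rw [h1]
    exact (α₁ _).2
  have h2 := hα₂v ⟨φ x, h x⟩ ⟨x, rfl⟩ hφxN hφx hτ'
  rw [MulAut.mul_apply]
  have e : (⟨τB ⟨φ x, hφxN⟩, hτ'⟩ : Q) = α₁ ⟨τA ⟨x, hx⟩, hτ⟩ := Subtype.ext h1
  rw [← e]
  exact h2

theorem goodMap_inv (F : FusionSystem S) {Q A : Subgroup Ω} {φ : A →* Ω}
    (hφg : GoodMap F Q φ) {ψ : φ.range →* Ω}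
    (hinv : ∀ x : A, ψ ⟨φ x, ⟨x, rfl⟩⟩ = x) : GoodMap F Q ψ := by
  intro C hC τB τC hτB hτC
  have hCA : A = C := by
    rw [← hC]
    ext y
    constructor
    · intro hy
      exact ⟨⟨φ ⟨y, hy⟩, ⟨_, rfl⟩⟩, hinv ⟨y, hy⟩⟩
    · rintro ⟨⟨_, x, rfl⟩, rfl⟩
      rw [hinv]
      exact x.2
  subst hCA
  obtain ⟨α, hα, hαv⟩ := hφg φ.range rfl τC τB hτC hτB
  refine ⟨α⁻¹, Subgroup.inv_mem _ hα, ?_⟩
  intro y hy hψy hτ
  obtain ⟨y, x, rfl⟩ := y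
  have hψx : ψ ⟨φ x, ⟨x, rfl⟩⟩ = x := hinv x
  have hxN : (x : Ω) ∈ normalizerIn S A := by
    rw [← hψx]
    exact hψy
  have hτ'' : τC ⟨x, hxN⟩ ∈ Q := by
    rw [← hτC.2]
    exact ⟨⟨x, hxN⟩, x.2, rfl⟩
  have h1 := hαv x hxN hy hτ''
  have e : (⟨τB ⟨φ x, hy⟩, hτ⟩ : Q) = α ⟨τC ⟨x, hxN⟩, hτ''⟩ := Subtype.ext h1
  rw [e, MulAut.inv_apply_self]
  show τC ⟨ψ ⟨φ x, ⟨x, rfl⟩⟩, hψy⟩ = τC ⟨x, hxN⟩
  congr 1
  exact Subtype.ext hψx

/-- the system of the maps compatible with the properly extending automorphisms of `Q` -/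
def omitSystem [Finite S] (p : ℕ) [Fact p.Prime] (hS : IsPGroup p S) (F : FusionSystem S)
    (hF : F.IsSaturated p) (Q : Subgroup Ω) (hQN : F.IsFullyNormalized Q) (hQne : Q ≠ S) :
    FusionSystem S where
  Hom A := {φ | φ ∈ F.Hom A ∧ GoodMap F Q φ}
  le_of_mem h := F.le_of_mem h.1
  injective_of_mem h := F.injective_of_mem h.1
  conj_mem := fun hP hg => ⟨F.conj_mem hP hg, goodMap_conj p hS F hQne hP hg⟩
  comp_mem := fun hφ hψ h =>
    ⟨F.comp_mem hφ.1 hψ.1 h, goodMap_comp p hS F hF hQN hφ.1 hφ.2 hψ.1 hψ.2 h⟩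
  inv_mem := fun hφ => by
    obtain ⟨ψ, hψ, hinv⟩ := F.inv_mem hφ.1
    exact ⟨ψ, ⟨hψ, goodMap_inv F hφ.2 hinv⟩, hinv⟩

theorem ne_top_of_isEssential [Finite S] (p : ℕ) [Fact p.Prime] (hS : IsPGroup p S)
    (F : FusionSystem S) (hF : F.IsSaturated p) {Q : Subgroup Ω} (hQ : F.IsEssential p Q) :
    Q ≠ S := by
  intro hQS
  subst hQS
  obtain ⟨-, hFN, hN, E, hdvd, -, -⟩ := hQ
  obtain ⟨-, R₀, hR₀⟩ := (Cfsg.Agent.S5077.sylow_axiom p hS F hF Q hFN).2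
  have hfinA : Finite (MulAut Q) :=
    Finite.of_injective (fun e : MulAut Q => (e : Q → Q)) (fun a b h => DFunLike.coe_injective h)
  have hle : (R₀ : Subgroup ↥(F.autGroup Q)) ≤ (Inn Q).subgroupOf (F.autGroup Q) := by
    rw [hR₀]
    intro a ha
    rw [Subgroup.mem_subgroupOf] at ha ⊢
    obtain ⟨g, hg, hga⟩ := (mem_autInducedBy_iff Q Q a.1).mp ha
    refine ⟨⟨g, hg⟩, ?_⟩
    ext x
    rw [hga x]
    rfl
  have h1 : ((Inn Q).subgroupOf (F.autGroup Q)).index ∣ (R₀ : Subgroup ↥(F.autGroup Q)).index :=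
    Subgroup.index_dvd_of_le hle
  rw [← Subgroup.index_eq_card] at hdvd
  exact R₀.not_dvd_index (hdvd.trans h1)

theorem exists_omitting [Finite S] (p : ℕ) [Fact p.Prime] (hS : IsPGroup p S) (F : FusionSystem S)
    (hF : F.IsSaturated p) (Q : Subgroup Ω) (hQ : F.IsEssential p Q) :
    ∃ E : FusionSystem S, (∀ R : Subgroup Ω, R ≤ S → ¬ F.IsConj Q R →
      F.autGroup R ≤ E.autGroup R) ∧ ¬ F ≤ E := by
  have hQne : Q ≠ S := ne_top_of_isEssential p hS F hF hQ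
  have hQN : F.IsFullyNormalized Q := hQ.2.1
  have hQS : Q ≤ S := hQN.1
  refine ⟨omitSystem p hS F hF Q hQN hQne, ?_, ?_⟩
  · intro R hRS hnc α hα
    rw [mem_autGroup_iff _ hRS]
    have hαF : autHom α ∈ F.Hom R := (mem_autGroup_iff F hRS α).mp hα
    refine ⟨hαF, ?_⟩
    intro B _ τA τB hτA _
    exact absurd (isConj_symm F (hτA.isConj hRS)) hnc
  · intro hle
    obtain h | h := Cfsg.Agent.S5081.result p hS F hF Q (lt_of_le_of_ne hQS hQne) hQN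
      (extSubgroup F Q) rfl
    · exact h.1 hQ
    · obtain ⟨-, hN, -, hne, -⟩ := h
      apply hne
      rw [eq_top_iff]
      rintro x -
      obtain ⟨β, rfl⟩ := QuotientGroup.mk'_surjective _ x
      refine ⟨β, ?_, rfl⟩
      show β.1 ∈ extSubgroup F Q
      -- `β` is good
      have hβF : autHom β.1 ∈ F.Hom Q := (mem_autGroup_iff F hQS β.1).mp β.2
      have hβE := hle Q hβF
      have hsub : (normalizerIn S Q).subtype ∈ F.Hom (normalizerIn S Q) :=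
        subtype_mem F inf_le_left
      have hτ : IsNormMap F Q Q (normalizerIn S Q).subtype := by
        refine ⟨hsub, ?_⟩
        ext y
        constructor
        · rintro ⟨x, hx, rfl⟩
          exact hx
        · intro hy
          exact ⟨⟨y, le_normalizerIn hQS hy⟩, hy, rfl⟩
      obtain ⟨α, hα, hαv⟩ := hβE.2 Q (autHom_range β.1) _ _ hτ hτ
      have hβα : β.1 = α := by
        ext x
        have := hαv x (le_normalizerIn hQS x.2) (le_normalizerIn hQS (β.1 x).2) x.2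
        exact this
      rw [hβα]
      exact hα

end Cfsg.Agent.Helper26
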