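import Mathlib
import Cfsg.Agent.Helper26.FusionFrattini

set_option autoImplicit false

namespace Cfsg.Agent.Helper26

open Cfsg Cfsg.FusionSystem Cfsg.Agent.Helper25

variable {Ω : Type*} [Group Ω] {S : Subgroup Ω}

/-- The system whose maps are the maps of `F`, except that on the `F`-conjugates of `R` they are required to be maps of `E`
as well; it is a fusion system as soon as `E` contains the maps of `F` between subgroups larger than `R`. -/
def patchSystem [Finite S] (F E : FusionSystem S) (R : Subgroup Ω)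
    (hIH : ∀ Q : Subgroup Ω, Q ≤ S → Nat.card R < Nat.card Q → F.Hom Q ⊆ E.Hom Q) :
    FusionSystem S where
  Hom P := {φ | φ ∈ F.Hom P ∧ (F.IsConj R P → φ ∈ E.Hom P)}
  le_of_mem h := F.le_of_mem h.1
  injective_of_mem h := F.injective_of_mem h.1
  conj_mem hP hg := ⟨F.conj_mem hP hg, fun _ => E.conj_mem hP hg⟩
  comp_mem := by
    rintro P Q φ ψ ⟨hφF, hφE⟩ ⟨hψF, hψE⟩ h
    refine ⟨F.comp_mem hφF hψF h, fun hRP => ?_⟩
    have hφ' := hφE hRP
    have hQS : Q ≤ S := (F.le_of_mem hψF).1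
    have hψ' : ψ ∈ E.Hom Q := by
      by_cases hRQ : F.IsConj R Q
      · exact hψE hRQ
      · refine hIH Q hQS ?_ hψF
        have hcard : Nat.card R = Nat.card P := card_eq_of_isConj F hRP
        have hfinQ : Finite Q := finite_of_le hQS
        have hle : φ.range ≤ Q := by
          rintro _ ⟨x, rfl⟩
          exact h x
        have hPr : Nat.card P = Nat.card φ.range := card_eq_of_isConj F ⟨φ, hφF, rfl⟩
        rw [hcard, hPr]
        by_contra hcon
        push Not at hcon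
        have heq : φ.range = Q := Subgroup.eq_of_le_of_card_ge hle hcon
        exact hRQ (isConj_trans F hRP ⟨φ, hφF, heq⟩)
    exact E.comp_mem hφ' hψ' h
  inv_mem := by
    rintro P φ ⟨hφF, hφE⟩
    obtain ⟨ψ, hψ, hinv⟩ := F.inv_mem hφF
    refine ⟨ψ, ⟨hψ, fun hRr => ?_⟩, hinv⟩
    have hRP : F.IsConj R P := isConj_trans F hRr (isConj_symm F ⟨φ, hφF, rfl⟩)
    obtain ⟨ψ', hψ', hinv'⟩ := E.inv_mem (hφE hRP)
    have e : ψ = ψ' := by
      ext ⟨_, x, rfl⟩
      rw [hinv x, hinv' x]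
    rw [e]
    exact hψ'

theorem patchSystem_Hom [Finite S] (F E : FusionSystem S) (R : Subgroup Ω)
    (hIH : ∀ Q : Subgroup Ω, Q ≤ S → Nat.card R < Nat.card Q → F.Hom Q ⊆ E.Hom Q)
    (P : Subgroup Ω) :
    (patchSystem F E R hIH).Hom P = {φ | φ ∈ F.Hom P ∧ (F.IsConj R P → φ ∈ E.Hom P)} := rfl

/-- If a conjugation-closed family not containing `R` generates `F`, and `E` contains the maps of `F` between subgroups
larger than `R`, then `E` contains the `F`-automorphisms of `R`. -/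
theorem autGroup_le_of_generating_not_mem [Finite S] (F E : FusionSystem S) {R : Subgroup Ω}
    (hRS : R ≤ S)
    (hIH : ∀ Q : Subgroup Ω, Q ≤ S → Nat.card R < Nat.card Q → F.Hom Q ⊆ E.Hom Q)
    (𝒬 : Set (Subgroup Ω)) (hc : ∀ R' ∈ 𝒬, ∀ R'' : Subgroup Ω, F.IsConj R' R'' → R'' ∈ 𝒬)
    (hg : ∀ E' : FusionSystem S, (∀ R' ∈ 𝒬, F.autGroup R' ≤ E'.autGroup R') → F ≤ E')
    (hR : R ∉ 𝒬) : F.autGroup R ≤ E.autGroup R := by
  have h1 : F ≤ patchSystem F E R hIH := by
    apply hg
    intro R' hR'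
    apply Subgroup.closure_mono
    intro α hα
    refine ⟨hα, fun hconj => ?_⟩
    exact absurd (hc R' hR' R (isConj_symm F hconj)) hR
  intro α hα
  rw [mem_autGroup_iff F hRS] at hα
  rw [mem_autGroup_iff E hRS]
  exact (h1 R hα).2 (isConj_refl F hRS)

end Cfsg.Agent.Helper26
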