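import Mathlib

set_option autoImplicit false
set_option linter.unusedSectionVars false
set_option linter.unusedVariables false

/-! # The norm map of an action on a commutative group, and fixed points as a direct factor -/

namespace Cfsg.Agent.Helper26.NormAct

open Subgroup

variable {A Y : Type*} [Group A] [CommGroup Y] (ρ : A →* MulAut Y) (M : Subgroup A)
  [Fintype (A ⧸ M)]

/-- the norm map `Y → Y` over `A / M` -/
noncomputable def tauAct : Y →* Y :=
  ∏ q : A ⧸ M, (ρ q.out).toMonoidHom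

theorem tauAct_apply (z : Y) : tauAct ρ M z = ∏ q : A ⧸ M, ρ q.out z := by
  unfold tauAct
  rw [MonoidHom.finsetProd_apply]
  rfl

theorem out_smul_mem (g : A) (q : A ⧸ M) : (g * q.out)⁻¹ * (g • q).out ∈ M := by
  rw [← QuotientGroup.eq, QuotientGroup.out_eq']
  have e : g • q = g • ((q.out : A) : A ⧸ M) := by rw [QuotientGroup.out_eq']
  rw [e]; rfl

theorem tauAct_fixed {z : Y} (hz : ∀ a ∈ M, ρ a z = z) (g : A) :
    ρ g (tauAct ρ M z) = tauAct ρ M z := by
  rw [tauAct_apply, map_prod]
  have e : ∀ q : A ⧸ M, ρ g (ρ q.out z) = ρ ((g • q).out) z := by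
    intro q
    have h1 := out_smul_mem M g q
    have e2 : (g • q).out = g * q.out * ((g * q.out)⁻¹ * (g • q).out) := by group
    rw [e2, map_mul, map_mul, MulAut.mul_apply, MulAut.mul_apply, hz _ h1]
  simp_rw [e]
  exact Equiv.prod_comp (MulAction.toPerm g) (fun q : A ⧸ M => ρ q.out z)

theorem tauAct_of_fixed {z : Y} (hz : ∀ g : A, ρ g z = z) :
    tauAct ρ M z = z ^ Fintype.card (A ⧸ M) := by
  rw [tauAct_apply]
  simp_rw [hz]
  rw [Finset.prod_const, Finset.card_univ]

/-- the subgroup of points fixed by `M` -/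
def fixSub (M : Subgroup A) : Subgroup Y where
  carrier := {y | ∀ a ∈ M, ρ a y = y}
  one_mem' := fun a _ => map_one _
  mul_mem' := fun {x y} hx hy a ha => by rw [map_mul, hx a ha, hy a ha]
  inv_mem' := fun {x} hx a ha => by rw [map_inv, hx a ha]

theorem mem_fixSub {M : Subgroup A} {y : Y} : y ∈ fixSub ρ M ↔ ∀ a ∈ M, ρ a y = y := Iff.rfl

/-- **Fixed points as a direct factor**: if `M` has index prime to `p` in `A` and `Y` is a
`p`-group, the fixed points of `A` are a direct factor of the fixed points of `M`. -/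
theorem exists_complement_fixed {p : ℕ} [Fact p.Prime] (hY : IsPGroup p Y)
    (hM : (Fintype.card (A ⧸ M)).Coprime p) :
    ∃ K : Subgroup Y, K ≤ fixSub ρ M ∧ fixSub ρ ⊤ ⊓ K = ⊥ ∧ fixSub ρ ⊤ ⊔ K = fixSub ρ M := by
  set m := Fintype.card (A ⧸ M) with hm
  refine ⟨fixSub ρ M ⊓ (tauAct ρ M).ker, inf_le_left, ?_, ?_⟩
  · rw [eq_bot_iff]
    rintro y ⟨hy1, -, hy2⟩
    rw [mem_bot]
    have h1 : tauAct ρ M y = y ^ m :=
      tauAct_of_fixed ρ M (fun g => hy1 g (mem_top g))
    have hy2' : tauAct ρ M y = 1 := hy2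
    rw [h1] at hy2'
    have hy2 := hy2'
    obtain ⟨k, hk⟩ := hY y
    have hcop : (p ^ k).Coprime m := (Nat.Coprime.pow_left k hM.symm)
    have := orderOf_dvd_of_pow_eq_one hy2
    have h2 := orderOf_dvd_of_pow_eq_one hk
    have h3 : orderOf y ∣ Nat.gcd (p ^ k) m := Nat.dvd_gcd h2 this
    rw [hcop] at h3
    exact orderOf_eq_one_iff.mp (Nat.dvd_one.mp h3)
  · apply le_antisymm
    · apply sup_le
      · intro y hy a _
        exact hy a (mem_top a)
      · exact inf_le_left
    · intro z hz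
      set t := tauAct ρ M z with ht
      have htfix : t ∈ fixSub ρ (⊤ : Subgroup A) := fun g _ => tauAct_fixed ρ M hz g
      -- an `m`-th root of `t` among the fixed points
      have hFp : IsPGroup p ↥(fixSub ρ (⊤ : Subgroup A)) := hY.to_subgroup _
      obtain ⟨w, hw⟩ := (hFp.powEquiv hM.symm).surjective ⟨t, htfix⟩
      have hw' : (w : Y) ^ m = t := by
        have := congrArg Subtype.val hw
        simpa [IsPGroup.powEquiv] using this
      have hwM : (w : Y) ∈ fixSub ρ M := fun a _ => w.2 a (mem_top a)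
      have hτw : tauAct ρ M (w : Y) = t := by
        rw [tauAct_of_fixed ρ M (fun g => w.2 g (mem_top g)), hw']
      have hk : z * (w : Y)⁻¹ ∈ fixSub ρ M ⊓ (tauAct ρ M).ker := by
        refine ⟨(fixSub ρ M).mul_mem hz ((fixSub ρ M).inv_mem hwM), ?_⟩
        show tauAct ρ M (z * (w : Y)⁻¹) = 1
        rw [map_mul, map_inv, hτw, ← ht, mul_inv_cancel]
      have : z = (w : Y) * (z * (w : Y)⁻¹) := by
        rw [mul_comm z, mul_inv_cancel_left]
      rw [this]
      exact mul_mem (mem_sup_left w.2) (mem_sup_right hk)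

end Cfsg.Agent.Helper26.NormAct
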