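import Mathlib
import Cfsg.Agent.Helper26.GJ2
import Cfsg.Agent.Helper26.WCMain
import Cfsg.Agent.Helper26.NormAct
import Cfsg.Agent.S5084
import Cfsg.Agent.S5144
import Cfsg.Agent.S5077

set_option autoImplicit false
set_option linter.unusedSectionVars false
set_option linter.unusedVariables false

/-! # Glauberman's theorem for fusion systems (odd `p`) and the centre as a direct factor -/

namespace Cfsg.Agent.Helper26.GJ

open Cfsg Cfsg.FusionSystem Subgroup Cfsg.Agent.Helper25 Cfsg.Agent.Helper26.WC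
  Cfsg.Agent.Helper26.MasterRed

universe u

variable {p : ℕ} [Fact p.Prime] {Ω : Type u} [Group Ω] {S : Subgroup Ω} [Finite S]

theorem thompsonA_le (S : Subgroup Ω) : Cfsg.thompsonSubgroupAOf S ≤ S := by
  rintro _ ⟨y, -, rfl⟩
  exact y.2

/-- for `p` odd: an element of `Z(S)` fixed by `Aut_F(J(S))` is fixed by every map of `F` -/
theorem fixes_of_aut_fixed (hp : p ≠ 2) (hS : IsPGroup p S) (F : FusionSystem S)
    (hF : F.IsSaturated p) {x : Ω} (hxS : x ∈ S)
    (hxJ : x ∈ Cfsg.thompsonSubgroupAOf S)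
    (hfix : ∀ α ∈ F.autGroup (Cfsg.thompsonSubgroupAOf S),
      α ⟨x, hxJ⟩ = (⟨x, hxJ⟩ : ↥(Cfsg.thompsonSubgroupAOf S))) : Fixes F x := by
  have hJS := thompsonA_le S
  apply master (whyp_Wj.{u} hp) (Nat.card S) Ω S rfl hS F hF x hxS
  intro P φ hφ hxP
  obtain ⟨hφF, hPN, hφN, ψ, hψ, hext, hmap⟩ :
      φ ∈ F.normalizerHom (Cfsg.thompsonSubgroupAOf S) P := hφ
  have hψJ := restrict_mem F (le_sup_right : Cfsg.thompsonSubgroupAOf S ≤ P ⊔ Cfsg.thompsonSubgroupAOf S) hψ
  have hvals : ∀ y : ↥(Cfsg.thompsonSubgroupAOf S),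
      (ψ.comp (Subgroup.inclusion (le_sup_right :
        Cfsg.thompsonSubgroupAOf S ≤ P ⊔ Cfsg.thompsonSubgroupAOf S))) y ∈
        Cfsg.thompsonSubgroupAOf S := by
    intro y
    have hm : (ψ.comp (Subgroup.inclusion (le_sup_right :
        Cfsg.thompsonSubgroupAOf S ≤ P ⊔ Cfsg.thompsonSubgroupAOf S))) y ∈
        map ψ ((Cfsg.thompsonSubgroupAOf S).subgroupOf (P ⊔ Cfsg.thompsonSubgroupAOf S)) :=
      ⟨Subgroup.inclusion le_sup_right y, Subgroup.mem_subgroupOf.mpr y.2, rfl⟩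
    rw [hmap] at hm
    exact hm
  obtain ⟨α, hα, hαe⟩ := exists_aut_of_hom F hJS hψJ hvals
  have h1 := hfix α hα
  have h2 := hαe ⟨x, hxJ⟩
  rw [h1] at h2
  have h3 := hext ⟨x, hxP⟩
  rw [← h3]
  have : Subgroup.inclusion (le_sup_left : P ≤ P ⊔ Cfsg.thompsonSubgroupAOf S) ⟨x, hxP⟩ =
      Subgroup.inclusion (le_sup_right : Cfsg.thompsonSubgroupAOf S ≤ P ⊔ Cfsg.thompsonSubgroupAOf S)
        ⟨x, hxJ⟩ := rfl
  rw [this]
  exact h2.symm


open scoped IsMulCommutative

open Cfsg.Agent.Helper26.NormAct in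
/-- **The centre of a saturated fusion system is a direct factor of `Z(S)`** (`p` odd). -/
theorem center_direct_factor (hp : p ≠ 2) (hS : IsPGroup p S) (F : FusionSystem S)
    (hF : F.IsSaturated p) :
    ∃ K : Subgroup Ω, K ≤ (S ⊓ centralizer (S : Set Ω)) ∧ F.center ⊓ K = ⊥ ∧
      F.center ⊔ K = (S ⊓ centralizer (S : Set Ω)) := by
  classical
  have hpp : p.Prime := Fact.out
  set J := Cfsg.thompsonSubgroupAOf S with hJ
  have hJS : J ≤ S := thompsonA_le S
  have hJfin : Finite J := finite_of_le hJS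
  have hSNJ : S ≤ normalizer (J : Set Ω) :=
    le_normalizer.trans (thompsonSubgroupAOf_le_normalizer S)
  have hZJ : S ⊓ centralizer (S : Set Ω) ≤ J :=
    Cfsg.Agent.Helper26.CF.center_le_thompsonSubgroupAOf S
  set A₀ := F.autGroup J with hA₀
  let ρ : ↥A₀ →* MulAut ↥(center ↥J) := (MulAut.characteristic (center ↥J)).comp A₀.subtype
  have hρ : ∀ (a : ↥A₀) (y : ↥(center ↥J)), ((ρ a y : ↥(center ↥J)) : ↥J) = (a : MulAut ↥J) (y : ↥J) :=
    fun a y => rfl
  set M : Subgroup ↥A₀ := (autInducedBy S J).subgroupOf A₀ with hM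
  let _ : Fintype (↥A₀ ⧸ M) := Fintype.ofFinite _
  -- the index of `M` is prime to `p`
  have hFN : F.IsFullyNormalized J := isFullyNormalized_of_normal F hJS hSNJ
  obtain ⟨-, -, R, hR⟩ := Cfsg.Agent.S5077.sylow_axiom p hS F hF J hFN
  have hMcop : (Fintype.card (↥A₀ ⧸ M)).Coprime p := by
    have h1 : Fintype.card (↥A₀ ⧸ M) = M.index := by
      rw [Subgroup.index_eq_card, Nat.card_eq_fintype_card]
    have hRM : (R : Subgroup ↥A₀) = M := hR
    rw [h1, ← hRM]
    exact ((Nat.Prime.coprime_iff_not_dvd hpp).mpr R.not_dvd_index).symm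
  have hY : IsPGroup p ↥(center ↥J) := by
    apply hS.of_injective ((Subgroup.inclusion hJS).comp (center ↥J).subtype)
    exact (Subgroup.inclusion_injective hJS).comp (center ↥J).subtype_injective
  have hY' : @IsPGroup p ↥(center ↥J) CommGroup.toGroup := hY
  obtain ⟨K, hKM, hinf, hsup⟩ := exists_complement_fixed ρ M hY' hMcop
  let ι : ↥(center ↥J) →* Ω := J.subtype.comp (center ↥J).subtype
  have hι : Function.Injective ι := J.subtype_injective.comp (center ↥J).subtype_injective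
  -- Claim A
  have hA : (fixSub ρ M).map ι = S ⊓ centralizer (S : Set Ω) := by
    ext x
    constructor
    · rintro ⟨y, hy, rfl⟩
      refine ⟨hJS (y : ↥J).2, ?_⟩
      apply mem_centralizer_iff.mpr
      intro s hs
      have hsN : s ∈ normalizer (J : Set Ω) := hSNJ hs
      set α := J.normalizerMonoidHom ⟨s, hsN⟩ with hα
      have hαS : α ∈ autInducedBy S J :=
        (mem_autInducedBy_iff S J α).mpr ⟨s, hs, fun x => rfl⟩
      have hαA : α ∈ A₀ := autInducedBy_le_autGroup F hJS hαS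
      have hm : (⟨α, hαA⟩ : ↥A₀) ∈ M := Subgroup.mem_subgroupOf.mpr hαS
      have h1 := hy ⟨α, hαA⟩ hm
      have h2 := congrArg (fun t : ↥(center ↥J) => ((t : ↥J) : Ω)) h1
      have h3 : s * ι y * s⁻¹ = ι y := h2
      calc s * ι y = (s * ι y * s⁻¹) * s := by group
        _ = ι y * s := by rw [h3]
    · intro hx
      have hxJ : x ∈ J := hZJ hx
      have hxc : (⟨x, hxJ⟩ : ↥J) ∈ center ↥J := by
        rw [mem_center_iff]
        intro g
        apply Subtype.ext
        exact mem_centralizer_iff.mp hx.2 g (hJS g.2)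
      refine ⟨⟨⟨x, hxJ⟩, hxc⟩, ?_, rfl⟩
      intro a ha
      have ha' : (a : MulAut ↥J) ∈ autInducedBy S J := Subgroup.mem_subgroupOf.mp ha
      obtain ⟨g, hg, hge⟩ := (mem_autInducedBy_iff S J _).mp ha'
      apply Subtype.ext
      apply Subtype.ext
      rw [hρ]
      show (((a : MulAut ↥J) ⟨x, hxJ⟩ : ↥J) : Ω) = x
      rw [hge ⟨x, hxJ⟩]
      have := mem_centralizer_iff.mp hx.2 g hg
      show g * x * g⁻¹ = x
      rw [this]; group
  -- Claim B
  have hcen := Cfsg.Agent.S5144.result F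
  obtain ⟨hZS, hZc⟩ := (Cfsg.Agent.S5084.result p hS F hF F.center).mp hcen
  have hB : (fixSub ρ ⊤).map ι = F.center := by
    apply le_antisymm
    · have hcen' : F.IsCentral ((fixSub ρ ⊤).map ι) := by
        rw [Cfsg.Agent.S5084.result p hS F hF]
        refine ⟨?_, ?_⟩
        · rintro _ ⟨y, -, rfl⟩
          exact hJS (y : ↥J).2
        · rintro _ ⟨y, hy, rfl⟩ w ⟨φ, hφ, hφw⟩
          have hxJ : ι y ∈ J := (y : ↥J).2
          have hfix : ∀ α ∈ F.autGroup J, α ⟨ι y, hxJ⟩ = (⟨ι y, hxJ⟩ : ↥J) := by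
            intro α hα
            have h1 := hy ⟨α, hα⟩ (mem_top _)
            have h2 := congrArg (fun t : ↥(center ↥J) => (t : ↥J)) h1
            exact h2
          have hF' := fixes_of_aut_fixed hp hS F hF (hJS hxJ) hxJ hfix
          rw [← hφw]
          exact hF' _ φ hφ (mem_zpowers _)
      exact le_sSup hcen'
    · intro x hx
      have hxS : x ∈ S := hZS hx
      have hxZ : x ∈ S ⊓ centralizer (S : Set Ω) := by
        refine ⟨hxS, ?_⟩
        apply mem_centralizer_iff.mpr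
        intro s hs
        have hz : zpowers x ≤ S := zpowers_le.mpr hxS
        have h1 : F.IsConjElt x (s * x * s⁻¹) :=
          ⟨conjHom (zpowers x) s, F.conj_mem hz hs, rfl⟩
        have h2 := hZc x hx _ h1
        calc s * x = (s * x * s⁻¹) * s := by group
          _ = x * s := by rw [h2]
      have hxJ : x ∈ J := hZJ hxZ
      have hxc : (⟨x, hxJ⟩ : ↥J) ∈ center ↥J := by
        rw [mem_center_iff]
        intro g
        apply Subtype.ext
        exact mem_centralizer_iff.mp hxZ.2 g (hJS g.2)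
      refine ⟨⟨⟨x, hxJ⟩, hxc⟩, ?_, rfl⟩
      intro a _
      apply Subtype.ext
      apply Subtype.ext
      rw [hρ]
      show (((a : MulAut ↥J) ⟨x, hxJ⟩ : ↥J) : Ω) = x
      have haF : autHom (a : MulAut ↥J) ∈ F.Hom J := (mem_autGroup_iff F hJS _).mp a.2
      have hz : zpowers x ≤ J := zpowers_le.mpr hxJ
      have h1 := restrict_mem F hz haF
      have h2 : F.IsConjElt x (((a : MulAut ↥J) ⟨x, hxJ⟩ : ↥J) : Ω) := ⟨_, h1, rfl⟩
      exact hZc x hx _ h2
  refine ⟨K.map ι, ?_, ?_, ?_⟩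
  · rw [← hA]
    exact Subgroup.map_mono hKM
  · rw [← hB, ← Subgroup.map_inf _ _ ι hι, hinf, Subgroup.map_bot]
  · rw [← hB, ← Subgroup.map_sup, hsup, hA]

end Cfsg.Agent.Helper26.GJ
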