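import Mathlib
import Cfsg.Agent.Helper26.FusionFrattini
import Cfsg.Agent.Helper26.GenJ
import Cfsg.Agent.Helper25.FusionAlperin3
import Cfsg.Agent.Helper25.FusionNormal
import Cfsg.Agent.Helper25.FusionChain
import Cfsg.Agent.Helper5.GenFTJ1
import Cfsg.Agent.Helper28.GenFST
import Cfsg.Agent.Helper28.GenFNQ
import Cfsg.Agent.Helper18.GenFQE
import Cfsg.Agent.Helper1.GenFTR
import Cfsg.Agent.Helper27.GenFFR
import Cfsg.Agent.Helper27.GenFTJ3

set_option autoImplicit false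
set_option linter.unusedSectionVars false
set_option linter.unusedVariables false

/-! # Pieces for `F = ⟨C_F(℧¹(Z(S))), N_F(J(S))⟩`, collected under one namespace

The pieces were proved by helper5 (Thompson subgroup), helper28 (star system, normal subgroups of
normalizer systems), helper27 (Frattini, growth of normalizers), helper18 (quadratic element) and
helper1 (transport of automizers). -/

namespace Cfsg.Agent.Helper26.GenF

open Cfsg Cfsg.FusionSystem Cfsg.Agent.Helper25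

variable {Ω : Type*} [Group Ω]

/-- `℧¹(Z(S))` -/
abbrev VZ (p : ℕ) (S : Subgroup Ω) : Subgroup Ω :=
  Cfsg.powerClosure p 1 (S ⊓ Subgroup.centralizer (S : Set Ω))

/-- `J(S)` -/
abbrev JA (S : Subgroup Ω) : Subgroup Ω := Cfsg.thompsonSubgroupAOf S

theorem frattini_normal {A : Type*} [Group A] [Finite A] (p : ℕ) [Fact p.Prime] {T K M : Subgroup A}
    (hTM : T ≤ M) (hKM : K ≤ M) (hT : IsPGroup p T)
    (hcard : Nat.card T = Cfsg.Agent.Helper25.pPart p (Nat.card M))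
    (hnorm : ∀ α ∈ M, ∀ κ ∈ K, α * κ * α⁻¹ ∈ K) (α : A) (hα : α ∈ M) :
    ∃ κ ∈ K, ∀ c ∈ K ⊓ T, (κ * α) * c * (κ * α)⁻¹ ∈ K ⊓ T :=
  Cfsg.Agent.Helper27.GenF.frattini_normal p hTM hKM hT hcard hnorm α hα

theorem center_le_JA (T : Subgroup Ω) [Finite T] :
    T ⊓ Subgroup.centralizer (T : Set Ω) ≤ JA T :=
  Cfsg.Agent.Helper5.GenF.center_le_JA T

theorem JA_le (T : Subgroup Ω) : JA T ≤ T := Cfsg.Agent.Helper5.GenF.JA_le T

theorem JA_eq_of_le {T R : Subgroup Ω} [Finite T] (hRT : R ≤ T) (h : JA T ≤ R) : JA R = JA T :=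
  Cfsg.Agent.Helper5.GenF.JA_eq_of_le hRT h

/-- `J` commutes with injective homomorphisms -/
theorem JA_range {P : Subgroup Ω} [Finite P] (φ : P →* Ω) (hφ : Function.Injective φ) :
    JA φ.range = ((JA P).subgroupOf P).map φ :=
  Cfsg.Agent.Helper5.GenF.JA_range φ hφ

/-- invariance under abstract isomorphism of the condition `J(S') ≤ R` -/
theorem JA_le_of_equiv {S' P R : Subgroup Ω} [Finite S'] (hP : P ≤ S') (hR : R ≤ S')
    (e : P ≃* R) (h : JA S' ≤ R) : JA S' ≤ P :=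
  Cfsg.Agent.Helper5.GenF.JA_le_of_equiv hP hR e h

/-- normalizers grow: a subgroup `X` normalized by the `p`-group `S` whose part normalizing `P`
lies in `P` lies in `P` -/
theorem le_of_normalizer_inf_le {S P X : Subgroup Ω} [Finite S] (p : ℕ) [Fact p.Prime]
    (hS : IsPGroup p S) (hPS : P ≤ S) (hXS : X ≤ S) (hSX : S ≤ Subgroup.normalizer (X : Set Ω))
    (h : X ⊓ Subgroup.normalizer (P : Set Ω) ≤ P) : X ≤ P :=
  Cfsg.Agent.Helper27.GenF.le_of_normalizer_inf_le p hS hPS hXS hSX h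

theorem quad_elt {p : ℕ} [Fact p.Prime] {S B : Subgroup Ω} [Finite S] (hS : IsPGroup p S)
    (hBS : B ≤ S) (hSB : S ≤ Subgroup.normalizer (B : Set Ω))
    (hBab : ∀ x ∈ B, ∀ y ∈ B, x * y = y * x)
    (hJ : ¬ JA S ≤ Subgroup.centralizer (B : Set Ω)) :
    ∃ y ∈ S, y ∉ Subgroup.centralizer (B : Set Ω) ∧
      y ∈ Subgroup.centralizer ((Cfsg.powerClosure p 1 B : Subgroup Ω) : Set Ω) :=
  Cfsg.Agent.Helper18.GenF.quad_elt hS hBS hSB hBab hJ

variable {S : Subgroup Ω}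

theorem autGroup_le_of_conj (F E : FusionSystem S) {P : Subgroup Ω} (χ : P →* Ω)
    (hχF : χ ∈ F.Hom P) (hχE : χ ∈ E.Hom P)
    (h : ∀ θ ∈ F.Hom χ.range, θ.range = χ.range → θ ∈ E.Hom χ.range) :
    F.autGroup P ≤ E.autGroup P :=
  Cfsg.Agent.Helper1.GenF.autGroup_le_of_conj F E χ hχF hχE h

end Cfsg.Agent.Helper26.GenF
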