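import Mathlib
import Cfsg.Agent.Helper26.GenF1

set_option autoImplicit false
set_option linter.unusedSectionVars false
set_option linter.unusedVariables false

/-! # The Frattini–extension step -/

namespace Cfsg.Agent.Helper26.GenF

open Cfsg Cfsg.FusionSystem Cfsg.Agent.Helper25 Cfsg.Agent.Helper26

variable {Ω : Type*} [Group Ω] {S : Subgroup Ω}

/-- **Frattini–extension step.** `P` fully normalized in the saturated system `F`, `Y ≤ P` invariant
under `Aut_F(P)` and normalized by `S`.  If `E` contains the automorphisms of `P` in `F` fixing `Y`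
elementwise and all maps of `F` between larger subgroups, then `Aut_F(P) ≤ Aut_E(P)` or
`C_S(Y) ≤ P`. -/
theorem ext_or_le [Finite S] (p : ℕ) [Fact p.Prime] (hS : IsPGroup p S) (F : FusionSystem S)
    (hF : F.IsSaturated p) (E : FusionSystem S) {P : Subgroup Ω} (hPfn : F.IsFullyNormalized P)
    (Y : Subgroup Ω) (hYP : Y ≤ P) (hSY : S ≤ Subgroup.normalizer (Y : Set Ω))
    (hinv : ∀ α ∈ F.autGroup P, ∀ y : P, (y : Ω) ∈ Y → ((α y : P) : Ω) ∈ Y)
    (hΓ : ∀ α ∈ F.autGroup P, (∀ y : P, (y : Ω) ∈ Y → α y = y) → α ∈ E.autGroup P)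
    (BG : ∀ Q' : Subgroup Ω, Q' ≤ S → Nat.card P < Nat.card Q' → F.Hom Q' ⊆ E.Hom Q') :
    F.autGroup P ≤ E.autGroup P ∨ centralizerIn S Y ≤ P := by
  by_cases hle : centralizerIn S Y ≤ P
  · exact Or.inr hle
  left
  have hPS : P ≤ S := hPfn.1
  have hfinP : Finite P := finite_of_le hPS
  -- an element of `C_S(Y)` normalizing `P` outside `P`
  have hCS : centralizerIn S Y ≤ S := inf_le_left
  have hSC : S ≤ Subgroup.normalizer ((centralizerIn S Y : Subgroup Ω) : Set Ω) := by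
    intro s hs
    have key : ∀ t ∈ S, ∀ c ∈ centralizerIn S Y, t * c * t⁻¹ ∈ centralizerIn S Y := by
      intro t ht c hc
      refine ⟨S.mul_mem (S.mul_mem ht hc.1) (S.inv_mem ht), ?_⟩
      apply Subgroup.mem_centralizer_iff.mpr
      intro y hy
      have hy' : t⁻¹ * y * t⁻¹⁻¹ ∈ Y :=
        (Subgroup.mem_normalizer_iff.mp (hSY (S.inv_mem ht)) y).mp hy
      have h1 := Subgroup.mem_centralizer_iff.mp hc.2 _ hy'
      calc y * (t * c * t⁻¹) = t * ((t⁻¹ * y * t⁻¹⁻¹) * c) * t⁻¹ := by group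
        _ = t * (c * (t⁻¹ * y * t⁻¹⁻¹)) * t⁻¹ := by rw [h1]
        _ = t * c * t⁻¹ * y := by group
    rw [Subgroup.mem_normalizer_iff]
    intro c
    constructor
    · exact key s hs c
    · intro hc
      have := key s⁻¹ (S.inv_mem hs) _ hc
      have e : s⁻¹ * (s * c * s⁻¹) * s⁻¹⁻¹ = c := by group
      rwa [e] at this
  have hex : ∃ g, g ∈ centralizerIn S Y ∧ g ∈ Subgroup.normalizer (P : Set Ω) ∧ g ∉ P := by
    by_contra hcon
    apply hle
    apply le_of_normalizer_inf_le p hS hPS hCS hSC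
    intro g hg
    by_contra hgP
    exact hcon ⟨g, hg.1, hg.2, hgP⟩
  obtain ⟨g, hgC, hgN, hgP⟩ := hex
  have hgS : g ∈ S := hgC.1
  intro α hα
  obtain ⟨hFC, hFA⟩ := Cfsg.Agent.S5077.sylow_axiom p hS F hF P hPfn
  have hrec : F.IsReceptive P := Cfsg.Agent.S5077.extension_axiom p hS F hF P hFC
  have hcard := (isFullyAutomized_iff_card F p hPS).mp hFA
  -- the normal subgroup of automorphisms fixing `Y`
  let K : Subgroup (MulAut P) :=
    { carrier := {κ | κ ∈ F.autGroup P ∧ ∀ y : P, (y : Ω) ∈ Y → κ y = y}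
      one_mem' := ⟨(F.autGroup P).one_mem, fun y _ => rfl⟩
      mul_mem' := by
        rintro a b ⟨ha, ha'⟩ ⟨hb, hb'⟩
        refine ⟨(F.autGroup P).mul_mem ha hb, fun y hy => ?_⟩
        rw [MulAut.mul_apply, hb' y hy, ha' y hy]
      inv_mem' := by
        rintro a ⟨ha, ha'⟩
        refine ⟨(F.autGroup P).inv_mem ha, fun y hy => ?_⟩
        have := ha' y hy
        calc a⁻¹ y = a⁻¹ (a y) := by rw [this]
          _ = y := by simp }
  have hKM : K ≤ F.autGroup P := fun κ hκ => hκ.1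
  have hKE : K ≤ E.autGroup P := fun κ hκ => hΓ κ hκ.1 hκ.2
  have hnorm : ∀ β ∈ F.autGroup P, ∀ κ ∈ K, β * κ * β⁻¹ ∈ K := by
    intro β hβ κ hκ
    refine ⟨(F.autGroup P).mul_mem ((F.autGroup P).mul_mem hβ hκ.1) ((F.autGroup P).inv_mem hβ),
      fun y hy => ?_⟩
    have h1 : ((β⁻¹ y : P) : Ω) ∈ Y := hinv β⁻¹ ((F.autGroup P).inv_mem hβ) y hy
    rw [MulAut.mul_apply, MulAut.mul_apply, hκ.2 _ h1]
    simp
  obtain ⟨κ, hκ, hβT⟩ := frattini_normal p (autInducedBy_le_autGroup F hPS) hKM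
    (autInducedBy_isPGroup hS P) hcard hnorm α hα
  set β : MulAut P := κ * α with hβ
  have hβF : β ∈ F.autGroup P := (F.autGroup P).mul_mem (hKM hκ) hα
  have hβmem : autHom β ∈ F.Hom P := (mem_autGroup_iff F hPS β).mp hβF
  let cg : MulAut P := P.normalizerMonoidHom ⟨g, hgN⟩
  have hcgS : cg ∈ autInducedBy S P := by
    rw [autInducedBy_eq_map]
    exact ⟨⟨g, hgN⟩, hgS, rfl⟩
  have hcgK : cg ∈ K := by
    refine ⟨autInducedBy_le_autGroup F hPS hcgS, fun y hy => ?_⟩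
    apply Subtype.ext
    rw [normalizerMonoidHom_coe]
    have := Subgroup.mem_centralizer_iff.mp hgC.2 (y : Ω) hy
    calc g * (y : Ω) * g⁻¹ = ((y : Ω) * g) * g⁻¹ := by rw [this]
      _ = (y : Ω) := by group
  have hmem := (hβT cg ⟨hcgK, hcgS⟩).2
  rw [autInducedBy_eq_map] at hmem
  obtain ⟨m, hmS, hmc⟩ := hmem
  have hmS' : (m : Ω) ∈ S := hmS
  have hgext : g ∈ extender S P (autHom β) := by
    apply Subgroup.subset_closure
    refine ⟨hgS, hgN, (m : Ω), hmS', ?_⟩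
    intro x hx
    have h1 := congrArg (fun γ : MulAut P => ((γ (β x) : P) : Ω)) hmc
    simp only [MulAut.mul_apply, MulAut.inv_apply_self] at h1
    rw [normalizerMonoidHom_coe] at h1
    show ((β ⟨g * x * g⁻¹, hx⟩ : P) : Ω) = (m : Ω) * ((β x : P) : Ω) * (m : Ω)⁻¹
    rw [h1]
    rfl
  obtain ⟨Q', hPQ', χ, hχ, hχβ⟩ := extendsProperly_of_extender F hrec β hβmem hgext hgP
  have hQ'S : Q' ≤ S := (F.le_of_mem hχ).1
  have hχE : χ ∈ E.Hom Q' := BG Q' hQ'S (card_lt_of_lt hQ'S hPQ') hχ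
  have h1 := restrict_mem E hPQ'.le hχE
  have h2 : χ.comp (Subgroup.inclusion hPQ'.le) = autHom β := by
    ext x; exact hχβ x
  rw [h2] at h1
  have hβE : β ∈ E.autGroup P := (mem_autGroup_iff E hPS β).mpr h1
  have h3 := (E.autGroup P).mul_mem ((E.autGroup P).inv_mem (hKE hκ)) hβE
  rwa [hβ, inv_mul_cancel_left] at h3

end Cfsg.Agent.Helper26.GenF
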