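import Mathlib
import Cfsg.Agent.Helper26.GenF2
import Cfsg.Agent.Helper26.WCMain
import Cfsg.Agent.Helper25.FusionKNormSys
import Cfsg.Agent.Helper25.FusionNormalizerConstrained

set_option autoImplicit false
set_option linter.unusedSectionVars false
set_option linter.unusedVariables false

/-! # The two recursion steps for `F = ⟨C_F(℧¹(Z(S))), N_F(J(S))⟩` -/

namespace Cfsg.Agent.Helper26.GenF

open Cfsg Cfsg.FusionSystem Cfsg.Agent.Helper25 Cfsg.Agent.Helper26 Cfsg.Agent.Helper26.MasterRed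

variable {Ω : Type*} [Group Ω] {S : Subgroup Ω}

theorem isNormal_normalizerSystem (F : FusionSystem S) {Q U : Subgroup Ω} (hQ : F.IsNormal Q)
    (hUS : U ≤ S) (hQN : Q ≤ normalizerIn S U) :
    (normalizerSystem F U hUS).IsNormal Q :=
  Cfsg.Agent.Helper28.GenF.isNormal_normalizerSystem F hQ hUS hQN

theorem VZ_le (p : ℕ) (S : Subgroup Ω) : VZ p S ≤ S ⊓ Subgroup.centralizer (S : Set Ω) := by
  unfold VZ Cfsg.powerClosure
  rw [Subgroup.closure_le]
  rintro _ ⟨x, hx, rfl⟩
  exact Subgroup.pow_mem _ hx _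

theorem powerClosure_mono (p n : ℕ) {K L : Subgroup Ω} (h : K ≤ L) :
    Cfsg.powerClosure p n K ≤ Cfsg.powerClosure p n L := by
  unfold Cfsg.powerClosure
  apply Subgroup.closure_mono
  rintro _ ⟨x, hx, rfl⟩
  exact ⟨x, h hx, rfl⟩

theorem powerClosure_le (p n : ℕ) (K : Subgroup Ω) : Cfsg.powerClosure p n K ≤ K := by
  unfold Cfsg.powerClosure
  rw [Subgroup.closure_le]
  rintro _ ⟨x, hx, rfl⟩
  exact Subgroup.pow_mem _ hx _

/-- the centre of `S` lies in the centre of any subgroup of `S` containing it -/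
theorem center_le_center {S' : Subgroup Ω} (hS' : S' ≤ S)
    (h : S ⊓ Subgroup.centralizer (S : Set Ω) ≤ S') :
    S ⊓ Subgroup.centralizer (S : Set Ω) ≤ S' ⊓ Subgroup.centralizer (S' : Set Ω) := by
  intro z hz
  exact ⟨h hz, Subgroup.centralizer_le (by exact_mod_cast hS') hz.2⟩

theorem center_le_normalizerIn {U : Subgroup Ω} (hUS : U ≤ S) :
    S ⊓ Subgroup.centralizer (S : Set Ω) ≤ normalizerIn S U := by
  intro z hz
  apply Cfsg.Agent.Helper26.WC.mem_normalizerIn_of_central hz.1 _ hUS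
  intro s hs
  have := Subgroup.mem_centralizer_iff.mp hz.2 s hs
  calc s * z * s⁻¹ = (z * s) * s⁻¹ := by rw [this]
    _ = z := by group

/-- monotonicity of the centralizer maps -/
theorem centralizerHom_mono {S' : Subgroup Ω} (F' : FusionSystem S') (F : FusionSystem S)
    (hS' : S' ≤ S) (hsub : ∀ R : Subgroup Ω, F'.Hom R ⊆ F.Hom R) {V V' : Subgroup Ω} (hV : V ≤ V')
    (R : Subgroup Ω) : F'.centralizerHom V' R ⊆ F.centralizerHom V R := by
  rintro φ ⟨h1, h2, h3, ψ, h4, h5, h6⟩
  have hcc : centralizerIn S' V' ≤ centralizerIn S V := fun x hx =>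
    ⟨hS' hx.1, Subgroup.centralizer_le (by exact_mod_cast hV) hx.2⟩
  have hle : R ⊔ V ≤ R ⊔ V' := sup_le_sup_left hV R
  refine ⟨hsub _ h1, h2.trans hcc, fun x => hcc (h3 x), ψ.comp (Subgroup.inclusion hle),
    restrict_mem F hle (hsub _ h4), fun x => h5 x, fun x => ?_⟩
  exact h6 ⟨x, hV x.2⟩

theorem normalizerHom_mono {S' : Subgroup Ω} (F' : FusionSystem S') (F : FusionSystem S)
    (hS' : S' ≤ S) (hsub : ∀ R : Subgroup Ω, F'.Hom R ⊆ F.Hom R) (U R : Subgroup Ω) :
    F'.normalizerHom U R ⊆ F.normalizerHom U R := by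
  rintro φ ⟨h1, h2, h3, ψ, h4, h5, h6⟩
  have hcc : normalizerIn S' U ≤ normalizerIn S U := fun x hx => ⟨hS' hx.1, hx.2⟩
  exact ⟨hsub _ h1, h2.trans hcc, fun x => hcc (h3 x), ψ, hsub _ h4, h5, h6⟩

/-- an automorphism in the system fixing `V ≤ P` elementwise is a map of the centralizer system -/
theorem autHom_mem_centralizerHom (F : FusionSystem S) {P V : Subgroup Ω} (hPS : P ≤ S)
    (hVP : V ≤ P) (hVc : V ≤ Subgroup.centralizer (S : Set Ω)) {α : MulAut P}
    (hα : α ∈ F.autGroup P) (hfix : ∀ y : P, (y : Ω) ∈ V → α y = y) :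
    autHom α ∈ F.centralizerHom V P := by
  have hα' : autHom α ∈ F.Hom P := (mem_autGroup_iff F hPS α).mp hα
  have hPc : P ≤ centralizerIn S V := by
    intro x hx
    refine ⟨hPS hx, ?_⟩
    apply Subgroup.mem_centralizer_iff.mpr
    intro v hv
    exact (Subgroup.mem_centralizer_iff.mp (hVc hv) x (hPS hx)).symm
  have hle : P ⊔ V ≤ P := sup_le le_rfl hVP
  refine ⟨hα', hPc, fun x => hPc (α x).2, (autHom α).comp (Subgroup.inclusion hle),
    restrict_mem F hle hα', fun x => ?_, fun v => ?_⟩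
  · show ((α _ : P) : Ω) = ((α x : P) : Ω)
    congr 1
  · show ((α ⟨(v : Ω), hVP v.2⟩ : P) : Ω) = (v : Ω)
    rw [hfix ⟨(v : Ω), hVP v.2⟩ v.2]

/-- an automorphism in the system mapping `U ≤ P` onto itself is a map of `N_F(U)` -/
theorem autHom_mem_normalizerHom_of_pres (F : FusionSystem S) {P U : Subgroup Ω} (hPS : P ≤ S)
    (hUP : U ≤ P) (hPN : P ≤ Subgroup.normalizer (U : Set Ω)) {α : MulAut P}
    (hα : α ∈ F.autGroup P) (h1 : ∀ y : P, (y : Ω) ∈ U → ((α y : P) : Ω) ∈ U)
    (h2 : ∀ y : P, (y : Ω) ∈ U → ((α⁻¹ y : P) : Ω) ∈ U) :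
    autHom α ∈ F.normalizerHom U P := by
  have hα' : autHom α ∈ F.Hom P := (mem_autGroup_iff F hPS α).mp hα
  have hPN' : P ≤ normalizerIn S U := fun x hx => ⟨hPS hx, hPN hx⟩
  refine mem_normalizerHom_of_le F hUP hα' hPN' (fun x => hPN' (α x).2) ?_
  ext y
  constructor
  · rintro ⟨x, hx, rfl⟩
    exact h1 x hx
  · intro hy
    refine ⟨α⁻¹ ⟨y, hUP hy⟩, h2 ⟨y, hUP hy⟩ hy, ?_⟩
    show ((α (α⁻¹ ⟨y, hUP hy⟩) : P) : Ω) = y
    simp

/-- automorphisms preserving `Y` (with their inverses) preserve the centralizer of `Y` -/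
theorem apply_mem_centralizer {P Y : Subgroup Ω} (hYP : Y ≤ P) (α : MulAut P)
    (h2 : ∀ y : P, (y : Ω) ∈ Y → ((α⁻¹ y : P) : Ω) ∈ Y) (x : P)
    (hx : (x : Ω) ∈ Subgroup.centralizer (Y : Set Ω)) :
    ((α x : P) : Ω) ∈ Subgroup.centralizer (Y : Set Ω) := by
  apply Subgroup.mem_centralizer_iff.mpr
  intro v hv
  set v' : P := α⁻¹ ⟨v, hYP hv⟩ with hv'
  have hv'Y : (v' : Ω) ∈ Y := h2 ⟨v, hYP hv⟩ hv
  have hc : v' * x = x * v' := by
    apply Subtype.ext
    exact Subgroup.mem_centralizer_iff.mp hx _ hv'Y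
  have hαv : α v' = ⟨v, hYP hv⟩ := by simp [hv']
  have := congrArg (fun z : P => ((α z : P) : Ω)) hc
  simp only [map_mul, Subgroup.coe_mul, hαv] at this
  exact this

/-- automorphisms in the system preserve `J(S)` when it lies in their source -/
theorem autHom_mem_normalizerHom_JA [Finite S] (F : FusionSystem S) {P : Subgroup Ω} (hPS : P ≤ S)
    (hJP : JA S ≤ P) {α : MulAut P} (hα : α ∈ F.autGroup P) :
    autHom α ∈ F.normalizerHom (JA S) P := by
  have hα' : autHom α ∈ F.Hom P := (mem_autGroup_iff F hPS α).mp hα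
  have hfinP : Finite P := finite_of_le hPS
  have hJ : JA P = JA S := JA_eq_of_le hPS hJP
  have hSN : S ≤ Subgroup.normalizer ((JA S : Subgroup Ω) : Set Ω) :=
    Subgroup.le_normalizer.trans (Cfsg.Agent.Helper26.GJ.thompsonSubgroupAOf_le_normalizer S)
  have hPN' : P ≤ normalizerIn S (JA S) := fun x hx => ⟨hPS hx, hSN (hPS hx)⟩
  refine mem_normalizerHom_of_le F hJP hα' hPN' (fun x => hPN' (α x).2) ?_
  have h := JA_range (autHom α) (F.injective_of_mem hα')
  rw [autHom_range, hJ] at h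
  exact h.symm

section Recursion

variable (p : ℕ) [Fact p.Prime]

/-- the statement proved by induction -/
def MainAt (Ω : Type*) [Group Ω] (p : ℕ) (n k : ℕ) : Prop :=
  ∀ (S : Subgroup Ω) [Finite S], Nat.card S = n → IsPGroup p S →
    ∀ F : FusionSystem S, F.IsSaturated p → ∀ Q : Subgroup Ω, F.IsNormal Q → Nat.card Q + k = n →
    ∀ E : FusionSystem S, (∀ R : Subgroup Ω, F.centralizerHom (VZ p S) R ⊆ E.Hom R) →
      (∀ R : Subgroup Ω, F.normalizerHom (JA S) R ⊆ E.Hom R) → F ≤ E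

/-- the good sources for the star system -/
def goodJ (S' : Subgroup Ω) (m : ℕ) (R : Subgroup Ω) : Prop :=
  m < Nat.card R ∨ (Nat.card R = m ∧ ¬ JA S' ≤ R)

theorem goodJ_mono (S' : Subgroup Ω) [Finite S'] (m : ℕ) (P R : Subgroup Ω) (f : P →* R)
    (hf : Function.Injective f) (hP : P ≤ S') (hR : R ≤ S') (h : goodJ S' m P) : goodJ S' m R := by
  have hfinP : Finite P := finite_of_le hP
  have hfinR : Finite R := finite_of_le hR
  have hcard : Nat.card P ≤ Nat.card R := Nat.card_le_card_of_injective f hf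
  rcases h with h | ⟨h1, h2⟩
  · exact Or.inl (lt_of_lt_of_le h hcard)
  · by_cases hlt : m < Nat.card R
    · exact Or.inl hlt
    · have heq : Nat.card R = m := by omega
      refine Or.inr ⟨heq, fun hJ => h2 ?_⟩
      have hbij : Function.Bijective f :=
        (Nat.bijective_iff_injective_and_card f).mpr ⟨hf, by omega⟩
      exact JA_le_of_equiv hP hR (MulEquiv.ofBijective f hbij) hJ

/-- **Descent**: the normalizer system of a fully normalized `U` with `N_S(U) < S`. -/
theorem descend (n : ℕ) (IHn : ∀ n' < n, ∀ k : ℕ, MainAt Ω p n' k)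
    (S : Subgroup Ω) [Finite S] (hcard : Nat.card S = n) (hS : IsPGroup p S)
    (F : FusionSystem S) (hF : F.IsSaturated p) (E : FusionSystem S)
    (hC : ∀ R : Subgroup Ω, F.centralizerHom (VZ p S) R ⊆ E.Hom R)
    (hN : ∀ R : Subgroup Ω, F.normalizerHom (JA S) R ⊆ E.Hom R)
    (U : Subgroup Ω) (hUfn : F.IsFullyNormalized U) (hne : normalizerIn S U ≠ S) (m : ℕ)
    (BG : ∀ Q' : Subgroup Ω, Q' ≤ S → m < Nat.card Q' → F.Hom Q' ⊆ E.Hom Q') :
    ∀ R : Subgroup Ω, goodJ (normalizerIn S U) m R → F.normalizerHom U R ⊆ E.Hom R := by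
  have hUS : U ≤ S := hUfn.1
  set S' := normalizerIn S U with hS'def
  have hS'S : S' ≤ S := inf_le_left
  have hfin' : Finite S' := finite_of_le hS'S
  have hS'p : IsPGroup p S' := isPGroup_of_le hS hS'S
  have hlt : Nat.card S' < n := by
    rw [← hcard]
    exact card_lt_of_lt hS'S hne
  have hE' := normalizerSystem_isNormalizerSystem F U hUS
  have hsat := normalizerSystem_isSaturated p hS F hF U hUfn _ hE'
  have hnorm := normalizerSystem_isNormal F hUS _ hE'
  have hUS' : U ≤ S' := hnorm.1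
  have hUfin : Finite U := finite_of_le hUS
  have hUcard : Nat.card U ≤ Nat.card S' := card_le_of_le hUS'
  have hsub : ∀ R : Subgroup Ω, (normalizerSystem F U hUS).Hom R ⊆ F.Hom R := fun R φ hφ => hφ.1
  let Estar := Cfsg.Agent.Helper28.GenF.starSystem E S' hS'S (goodJ S' m) (goodJ_mono S' m)
  have hZ : S ⊓ Subgroup.centralizer (S : Set Ω) ≤ S' ⊓ Subgroup.centralizer (S' : Set Ω) :=
    center_le_center hS'S (center_le_normalizerIn hUS)
  have hV : VZ p S ≤ VZ p S' := powerClosure_mono p 1 hZ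
  have key : normalizerSystem F U hUS ≤ Estar := by
    apply IHn (Nat.card S') hlt (Nat.card S' - Nat.card U) S' rfl hS'p _ hsat U hnorm (by omega)
    · -- centralizer maps
      intro R φ hφ
      have hφ1 := hφ.1
      have hle := (normalizerSystem F U hUS).le_of_mem hφ1
      refine ⟨hle.1, hle.2, (normalizerSystem F U hUS).injective_of_mem hφ1, fun _ => ?_⟩
      exact hC R (centralizerHom_mono _ F hS'S hsub hV R hφ)
    · -- normalizer maps
      intro R φ hφ
      have hφ1 := hφ.1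
      have hle := (normalizerSystem F U hUS).le_of_mem hφ1
      refine ⟨hle.1, hle.2, (normalizerSystem F U hUS).injective_of_mem hφ1, fun hg => ?_⟩
      have hRS : R ≤ S := hle.1.trans hS'S
      rcases hg with hg | ⟨hg1, hg2⟩
      · exact BG R hRS hg (hsub R hφ1)
      · obtain ⟨-, -, -, ψ, hψ, hext, -⟩ := hφ
        have hψF : ψ ∈ F.Hom (R ⊔ JA S') := hsub _ hψ
        have hsupS : R ⊔ JA S' ≤ S := (F.le_of_mem hψF).1
        have hltR : R < R ⊔ JA S' := by
          refine lt_of_le_of_ne le_sup_left ?_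
          intro h
          apply hg2
          rw [h]
          exact le_sup_right
        have hψE : ψ ∈ E.Hom (R ⊔ JA S') :=
          BG _ hsupS (by rw [← hg1]; exact card_lt_of_lt hsupS hltR) hψF
        have h1 := restrict_mem E (le_sup_left : R ≤ R ⊔ JA S') hψE
        have h2 : ψ.comp (Subgroup.inclusion (le_sup_left : R ≤ R ⊔ JA S')) = φ := by
          ext x; exact hext x
        rwa [h2] at h1
  intro R hg φ hφ
  exact (key R hφ).2.2.2 hg

/-- **Same level**: the normalizer system of a subgroup `D ⊴ S` larger than `Q`. -/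
theorem samelevel (n k : ℕ) (IHk : ∀ k' < k, MainAt Ω p n k')
    (S : Subgroup Ω) [Finite S] (hcard : Nat.card S = n) (hS : IsPGroup p S)
    (F : FusionSystem S) (hF : F.IsSaturated p) (Q : Subgroup Ω) (hk : Nat.card Q + k = n)
    (E : FusionSystem S)
    (hC : ∀ R : Subgroup Ω, F.centralizerHom (VZ p S) R ⊆ E.Hom R)
    (hN : ∀ R : Subgroup Ω, F.normalizerHom (JA S) R ⊆ E.Hom R)
    (D : Subgroup Ω) (hDS : D ≤ S) (hSD : S ≤ Subgroup.normalizer (D : Set Ω))
    (D' : Subgroup Ω) (hD' : (normalizerSystem F D hDS).IsNormal D')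
    (hlt : Nat.card Q < Nat.card D') :
    ∀ R : Subgroup Ω, F.normalizerHom D R ⊆ E.Hom R := by
  set S' := normalizerIn S D with hS'def
  have hNS : S' = S := le_antisymm inf_le_left (fun y hy => ⟨hy, hSD hy⟩)
  have hS'S : S' ≤ S := inf_le_left
  have hfin' : Finite S' := finite_of_le hS'S
  have hS'p : IsPGroup p S' := isPGroup_of_le hS hS'S
  have hcard' : Nat.card S' = n := by rw [hNS]; exact hcard
  have hDfn := isFullyNormalized_of_normal F hDS hSD
  have hE' := normalizerSystem_isNormalizerSystem F D hDS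
  have hsat := normalizerSystem_isSaturated p hS F hF D hDfn _ hE'
  have hD'S' : D' ≤ S' := hD'.1
  have hD'fin : Finite D' := finite_of_le (hD'S'.trans hS'S)
  have hD'card : Nat.card D' ≤ n := by
    rw [← hcard']
    exact card_le_of_le hD'S'
  have hsub : ∀ R : Subgroup Ω, (normalizerSystem F D hDS).Hom R ⊆ F.Hom R := fun R φ hφ => hφ.1
  let Estar := Cfsg.Agent.Helper28.GenF.starSystem E S' hS'S (fun _ => True) (fun _ _ _ _ _ _ _ => trivial)
  have hV : VZ p S' = VZ p S := by rw [hNS]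
  have hJ : JA S' = JA S := by rw [hNS]
  have key : normalizerSystem F D hDS ≤ Estar := by
    apply IHk (n - Nat.card D') (by omega) S' hcard' hS'p _ hsat D' hD' (by omega)
    · intro R φ hφ
      have hφ1 := hφ.1
      have hle := (normalizerSystem F D hDS).le_of_mem hφ1
      refine ⟨hle.1, hle.2, (normalizerSystem F D hDS).injective_of_mem hφ1, fun _ => ?_⟩
      rw [hV] at hφ
      exact hC R (centralizerHom_mono _ F hS'S hsub le_rfl R hφ)
    · intro R φ hφ
      have hφ1 := hφ.1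
      have hle := (normalizerSystem F D hDS).le_of_mem hφ1
      refine ⟨hle.1, hle.2, (normalizerSystem F D hDS).injective_of_mem hφ1, fun _ => ?_⟩
      rw [hJ] at hφ
      exact hN R (normalizerHom_mono _ F hS'S hsub _ R hφ)
  intro R φ hφ
  exact (key R hφ).2.2.2 trivial

end Recursion

end Cfsg.Agent.Helper26.GenF
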