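import Mathlib
import Cfsg.Agent.Helper26.GenF3
import Cfsg.Agent.S5079
import Cfsg.Agent.S5078
import Cfsg.Agent.Helper26.FusionOmit

set_option autoImplicit false
set_option linter.unusedSectionVars false
set_option linter.unusedVariables false

/-! # `F = ⟨C_F(℧¹(Z(S))), N_F(J(S))⟩`: the main induction -/

namespace Cfsg.Agent.Helper26.GenF

open Cfsg Cfsg.FusionSystem Cfsg.Agent.Helper25 Cfsg.Agent.Helper26 Cfsg.Agent.Helper26.MasterRed

variable {Ω : Type*} [Group Ω] {S : Subgroup Ω}

/-- preservation of `℧¹(B)` by automorphisms preserving `B` -/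
theorem apply_mem_powerClosure {P B : Subgroup Ω} (p n : ℕ) (hBP : B ≤ P) (α : MulAut P)
    (h : ∀ y : P, (y : Ω) ∈ B → ((α y : P) : Ω) ∈ B) (x : P)
    (hx : (x : Ω) ∈ Cfsg.powerClosure p n B) : ((α x : P) : Ω) ∈ Cfsg.powerClosure p n B := by
  have hXP : Cfsg.powerClosure p n B ≤ P := (powerClosure_le p n B).trans hBP
  have key : ∀ z : Ω, z ∈ Cfsg.powerClosure p n B → ∀ hz : z ∈ P,
      ((α ⟨z, hz⟩ : P) : Ω) ∈ Cfsg.powerClosure p n B := by
    intro z hz
    unfold Cfsg.powerClosure at hz
    induction hz using Subgroup.closure_induction with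
    | mem z hz =>
      obtain ⟨b, hb, rfl⟩ := hz
      intro hzP
      have h1 : (⟨b ^ p ^ n, hzP⟩ : P) = (⟨b, hBP hb⟩ : P) ^ p ^ n := Subtype.ext rfl
      rw [h1, map_pow]
      apply Subgroup.subset_closure
      exact ⟨_, h ⟨b, hBP hb⟩ hb, rfl⟩
    | one =>
      intro h1
      have : (⟨1, h1⟩ : P) = 1 := rfl
      rw [this, map_one]
      exact Subgroup.one_mem _
    | mul a b ha hb iha ihb =>
      intro hab
      have haP : a ∈ P := hXP ha
      have hbP : b ∈ P := hXP hb
      have : (⟨a * b, hab⟩ : P) = ⟨a, haP⟩ * ⟨b, hbP⟩ := rfl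
      rw [this, map_mul]
      exact Subgroup.mul_mem _ (iha haP) (ihb hbP)
    | inv a ha iha =>
      intro hai
      have haP : a ∈ P := hXP ha
      have : (⟨a⁻¹, hai⟩ : P) = (⟨a, haP⟩ : P)⁻¹ := rfl
      rw [this, map_inv]
      exact Subgroup.inv_mem _ (iha haP)
  exact key x hx x.2

variable (p : ℕ) [Fact p.Prime]

set_option maxHeartbeats 1600000 in
/-- the main induction -/
theorem main_at : ∀ n k : ℕ, MainAt Ω p n k := by
  intro n
  induction n using Nat.strong_induction_on with
  | _ n IHn =>
  intro k
  induction k using Nat.strong_induction_on with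
  | _ k IHk =>
  intro S _ hcard hS F hF Q hQ hk E hC hN
  apply alperin_le_ind p hS F hF E
  intro P hP BG
  have hVc : VZ p S ≤ Subgroup.centralizer (S : Set Ω) := (VZ_le p S).trans inf_le_right
  have hVZ : VZ p S ≤ S ⊓ Subgroup.centralizer (S : Set Ω) := VZ_le p S
  rcases hP with rfl | hP
  · -- `P = S`
    intro α hα
    rw [mem_autGroup_iff E le_rfl]
    exact hN _ (autHom_mem_normalizerHom_JA F le_rfl (JA_le _) hα)
  -- `P` essential
  have hPfn : F.IsFullyNormalized P := hP.2.1
  have hPS : P ≤ S := hPfn.1
  have hfinP : Finite P := finite_of_le hPS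
  have hQS : Q ≤ S := hQ.1
  have hQfin : Finite Q := finite_of_le hQS
  have hQP : Q ≤ P := le_of_isNormal_of_isEssential p hS F hQ hP
  have hCP : centralizerIn S P ≤ P := hP.1.2 P (isConj_refl F hPS)
  have hZP : S ⊓ Subgroup.centralizer (S : Set Ω) ≤ P := by
    intro z hz
    exact hCP ⟨hz.1, Subgroup.centralizer_le (by exact_mod_cast hPS) hz.2⟩
  have hSQ : S ≤ Subgroup.normalizer (Q : Set Ω) := le_normalizer_of_isNormal F hQ
  have hsc := stronglyClosed_of_isNormal F hQ
  have hinvQ : ∀ α ∈ F.autGroup P, ∀ y : P, (y : Ω) ∈ Q → ((α y : P) : Ω) ∈ Q :=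
    fun α hα y hy => autGroup_apply_mem_of_stronglyClosed F hsc hPS α hα y hy
  -- membership in `E` from the two kinds of maps
  have toE : ∀ α : MulAut P, autHom α ∈ E.Hom P → α ∈ E.autGroup P :=
    fun α h => (mem_autGroup_iff E hPS α).mpr h
  have hPne : P ≠ S := Cfsg.Agent.Helper26.ne_top_of_isEssential p hS F hF hP
  by_cases hZQ : S ⊓ Subgroup.centralizer (S : Set Ω) ≤ Q
  · ---------------- Case A: `Z(S) ≤ Q`
    set B := Q ⊓ Subgroup.centralizer (Q : Set Ω) with hBdef
    have hBQ : B ≤ Q := inf_le_left
    have hBP : B ≤ P := hBQ.trans hQP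
    have hBS : B ≤ S := hBQ.trans hQS
    have hSB : S ≤ Subgroup.normalizer (B : Set Ω) :=
      Cfsg.Agent.Helper10.le_normalizer_self_inf_centralizer hSQ
    have hBab : ∀ x ∈ B, ∀ y ∈ B, x * y = y * x := by
      intro x hx y hy
      exact Subgroup.mem_centralizer_iff.mp hy.2 x hx.1
    have hinvB : ∀ α ∈ F.autGroup P, ∀ y : P, (y : Ω) ∈ B → ((α y : P) : Ω) ∈ B := by
      intro α hα y hy
      refine ⟨hinvQ α hα y hy.1, ?_⟩
      exact apply_mem_centralizer hQP α
        (fun z hz => hinvQ α⁻¹ ((F.autGroup P).inv_mem hα) z hz) y hy.2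
    have hZB : S ⊓ Subgroup.centralizer (S : Set Ω) ≤ B := by
      intro z hz
      exact ⟨hZQ hz, Subgroup.centralizer_le (by exact_mod_cast hQS) hz.2⟩
    by_cases hJ : JA S ≤ Subgroup.centralizer (B : Set Ω)
    · -- A1
      have hstep := ext_or_le p hS F hF E hPfn B hBP hSB hinvB (by
        intro α hα hfix
        apply toE
        apply hC
        exact autHom_mem_centralizerHom F hPS ((hVZ.trans hZB).trans hBP) hVc hα
          (fun y hy => hfix y ((hVZ.trans hZB) hy))) BG
      rcases hstep with h | h
      · exact h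
      · have hJP : JA S ≤ P := fun x hx => h ⟨JA_le S hx, hJ hx⟩
        intro α hα
        exact toE α (hN _ (autHom_mem_normalizerHom_JA F hPS hJP hα))
    · -- A2
      obtain ⟨y, hyS, hyB, hyX⟩ := quad_elt hS hBS hSB hBab hJ
      set X := Cfsg.powerClosure p 1 B with hXdef
      have hXB : X ≤ B := powerClosure_le p 1 B
      have hXP : X ≤ P := hXB.trans hBP
      have hSX : S ≤ Subgroup.normalizer (X : Set Ω) := by
        rw [hXdef, ← Cfsg.Agent.Helper26.GenJ.pw_eq_powerClosure]
        exact Cfsg.Agent.Helper10.le_normalizer_pw p hSB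
      have hinvX : ∀ α ∈ F.autGroup P, ∀ y : P, (y : Ω) ∈ X → ((α y : P) : Ω) ∈ X :=
        fun α hα y hy => apply_mem_powerClosure p 1 hBP α (hinvB α hα) y hy
      have hVX : VZ p S ≤ X := powerClosure_mono p 1 hZB
      have hstep := ext_or_le p hS F hF E hPfn X hXP hSX hinvX (by
        intro α hα hfix
        apply toE
        apply hC
        exact autHom_mem_centralizerHom F hPS (hVX.trans hXP) hVc hα
          (fun y hy => hfix y (hVX hy))) BG
      rcases hstep with h | h
      · exact h
      · set D := centralizerIn S X with hDdef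
        have hDS : D ≤ S := inf_le_left
        have hSD : S ≤ Subgroup.normalizer (D : Set Ω) :=
          le_normalizer_centralizerIn hSX
        have hQD : Q ≤ D := by
          intro q hq
          refine ⟨hQS hq, ?_⟩
          apply Subgroup.mem_centralizer_iff.mpr
          intro x hx
          exact (Subgroup.mem_centralizer_iff.mp (hXB hx).2 q hq).symm
        have hyD : y ∈ D := ⟨hyS, hyX⟩
        have hyQ : y ∉ Q := by
          intro hq
          apply hyB
          apply Subgroup.mem_centralizer_iff.mpr
          intro b hb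
          exact (Subgroup.mem_centralizer_iff.mp hb.2 y hq).symm
        have hDfin : Finite D := finite_of_le hDS
        have hlt : Nat.card Q < Nat.card D := by
          apply MasterRed.card_lt_of_lt hQD
          intro h
          exact hyQ (h ▸ hyD)
        have hDn := normalizerSystem_isNormal F hDS _ (normalizerSystem_isNormalizerSystem F D hDS)
        have hsl := samelevel p n k IHk S hcard hS F hF Q hk E hC hN D hDS hSD D hDn hlt
        intro α hα
        apply toE
        apply hsl
        have hαi := (F.autGroup P).inv_mem hα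
        refine autHom_mem_normalizerHom_of_pres F hPS h (hPS.trans hSD) hα ?_ ?_
        · intro x hx
          exact ⟨hPS (α x).2, apply_mem_centralizer hXP α (hinvX α⁻¹ hαi) x hx.2⟩
        · intro x hx
          refine ⟨hPS (α⁻¹ x).2, apply_mem_centralizer hXP α⁻¹ ?_ x hx.2⟩
          rw [inv_inv]
          exact hinvX α hα
  · ---------------- Case B: `Z(S) ≰ Q`
    have hQneP : Q ≠ P := by
      intro h
      apply hZQ
      rw [h]
      exact hZP
    have hltQP : Nat.card Q < Nat.card P := MasterRed.card_lt_of_lt hQP hQneP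
    set T := normalizerIn S P with hTdef
    have hTS : T ≤ S := inf_le_left
    have hTfin : Finite T := finite_of_le hTS
    have hPT : P ≤ T := fun x hx => ⟨hPS hx, Subgroup.le_normalizer hx⟩
    by_cases hT : T = S
    · -- B1
      have hSP : S ≤ Subgroup.normalizer (P : Set Ω) := by
        intro s hs
        have : s ∈ T := hT ▸ hs
        exact this.2
      have hPn := normalizerSystem_isNormal F hPS _ (normalizerSystem_isNormalizerSystem F P hPS)
      have hsl := samelevel p n k IHk S hcard hS F hF Q hk E hC hN P hPS hSP P hPn hltQP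
      intro α hα
      apply toE
      apply hsl
      exact Cfsg.Agent.Helper26.WC.autHom_mem_normalizerHom F hPS hα
    · by_cases hJP : JA T ≤ P
      · -- B3
        set K₁ := JA T with hK₁def
        have hJPeq : JA P = K₁ := JA_eq_of_le hPT hJP
        have hK₁S : K₁ ≤ S := (JA_le T).trans hTS
        have hZT : S ⊓ Subgroup.centralizer (S : Set Ω) ≤ T ⊓ Subgroup.centralizer (T : Set Ω) :=
          center_le_center hTS (center_le_normalizerIn hPS)
        have hK₁Q : ¬ K₁ ≤ Q := by
          intro h
          apply hZQ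
          exact (hZT.trans (center_le_JA T)).trans h
        set T₂ := normalizerIn S K₁ with hT₂def
        have hT₂S : T₂ ≤ S := inf_le_left
        have hT₂fin : Finite T₂ := finite_of_le hT₂S
        have hTT₂ : T ≤ T₂ := by
          intro x hx
          refine ⟨hTS hx, ?_⟩
          exact Cfsg.Agent.Helper26.GJ.thompsonSubgroupAOf_le_normalizer T (Subgroup.le_normalizer hx)
        have hPT₂ : P ≤ T₂ := hPT.trans hTT₂
        have hltPT : Nat.card P < Nat.card T₂ := by
          obtain ⟨g, hgN, hgP⟩ := exists_mem_normalizerIn_not_mem p hS hPS hPne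
          apply MasterRed.card_lt_of_lt hPT₂
          intro h
          exact hgP (h ▸ hTT₂ hgN)
        obtain ⟨K', hconj, hFA, hRec⟩ := hF K₁ hK₁S
        obtain ⟨χ, hχ, hχN, hχU⟩ := Cfsg.Agent.S5079.result p hS F K' K₁ hFA hRec hconj
        have hK'fn : F.IsFullyNormalized K' :=
          isFullyNormalized_of_automized_receptive F p hS hFA (Cfsg.Agent.S5078.result F K' hRec)
        have hK'S : K' ≤ S := hK'fn.1
        have hχE : χ ∈ E.Hom T₂ := BG T₂ hT₂S hltPT hχ
        set χP : P →* Ω := χ.comp (Subgroup.inclusion hPT₂) with hχPdef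
        have hχPF : χP ∈ F.Hom P := restrict_mem F hPT₂ hχ
        have hχPE : χP ∈ E.Hom P := restrict_mem E hPT₂ hχE
        have hχPinj : Function.Injective χP := F.injective_of_mem hχPF
        apply autGroup_le_of_conj F E χP hχPF hχPE
        suffices claim : ∀ P' : Subgroup Ω, χP.range = P' → ∀ θ ∈ F.Hom P', θ.range = P' →
            θ ∈ E.Hom P' from claim _ rfl
        intro P' hP'def θ hθ hθr
        have hP'S : P' ≤ S := (F.le_of_mem hθ).1
        have hP'fin : Finite P' := finite_of_le hP'S
        -- `J(P') = K'`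
        have hJP' : JA P' = K' := by
          rw [← hP'def, JA_range χP hχPinj, hJPeq, ← hχU]
          ext z
          constructor
          · rintro ⟨x, hx, rfl⟩
            exact ⟨⟨(x : Ω), hPT₂ x.2⟩, hx, rfl⟩
          · rintro ⟨x, hx, rfl⟩
            exact ⟨⟨(x : Ω), hJP hx⟩, hx, rfl⟩
        have hK'P' : K' ≤ P' := hJP' ▸ JA_le P'
        have hθinj : Function.Injective θ := F.injective_of_mem hθ
        have hmap : (K'.subgroupOf P').map θ = K' := by
          have h := JA_range θ hθinj
          rw [hθr, hJP'] at h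
          exact h.symm
        set S₁ := normalizerIn S K' with hS₁def
        have hS₁S : S₁ ≤ S := inf_le_left
        have hS₁fin : Finite S₁ := finite_of_le hS₁S
        have hP'N : P' ≤ Subgroup.normalizer (K' : Set Ω) := by
          rw [← hJP']
          exact Subgroup.le_normalizer.trans
            (Cfsg.Agent.Helper26.GJ.thompsonSubgroupAOf_le_normalizer P')
        have hP'S₁ : P' ≤ S₁ := fun x hx => ⟨hP'S hx, hP'N hx⟩
        have hθN : θ ∈ F.normalizerHom K' P' := by
          refine mem_normalizerHom_of_le F hK'P' hθ hP'S₁ (fun x => hP'S₁ ?_) hmap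
          have h1 : θ x ∈ θ.range := ⟨x, rfl⟩
          rwa [hθr] at h1
        have hcardP' : Nat.card P' = Nat.card P := by
          rw [← hP'def]
          exact (Nat.card_congr (MonoidHom.ofInjective hχPinj).toEquiv).symm
        by_cases hS₁ : S₁ = S
        · -- same level, with the normal subgroup `K' ⊔ Q`
          have hSK' : S ≤ Subgroup.normalizer (K' : Set Ω) := by
            intro s hs
            have : s ∈ S₁ := hS₁ ▸ hs
            exact this.2
          have hK'n := normalizerSystem_isNormal F hK'S _
            (normalizerSystem_isNormalizerSystem F K' hK'S)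
          have hQn : (normalizerSystem F K' hK'S).IsNormal Q :=
            isNormal_normalizerSystem F hQ hK'S (fun q hq => ⟨hQS hq, hSK' (hQS hq)⟩)
          have hD' := isNormal_sup _ hK'n hQn
          have hK'Q : ¬ K' ≤ Q := by
            intro hle
            apply hK₁Q
            intro x hx
            have hxT₂ : x ∈ T₂ := ⟨hK₁S hx, Subgroup.le_normalizer hx⟩
            -- `χ x ∈ K' ≤ Q`, and `Q` is strongly closed
            have h1 : χ ⟨x, hxT₂⟩ ∈ K' := by
              rw [← hχU]
              exact ⟨⟨x, hxT₂⟩, hx, rfl⟩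
            have hχK : χ.comp (Subgroup.inclusion (show K₁ ≤ T₂ from
                fun z hz => ⟨hK₁S hz, Subgroup.le_normalizer hz⟩)) ∈ F.Hom K₁ :=
              restrict_mem F _ hχ
            obtain ⟨ψ, hψ, hinv⟩ := F.inv_mem hχK
            have hrange : (χ.comp (Subgroup.inclusion (show K₁ ≤ T₂ from
                fun z hz => ⟨hK₁S hz, Subgroup.le_normalizer hz⟩))).range ≤ Q := by
              rintro _ ⟨z, rfl⟩
              apply hle
              rw [← hχU]
              exact ⟨⟨(z : Ω), ⟨hK₁S z.2, Subgroup.le_normalizer z.2⟩⟩, z.2, rfl⟩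
            have := hsc.2 _ hrange ψ hψ ⟨_, ⟨⟨x, hx⟩, rfl⟩⟩
            rwa [hinv ⟨x, hx⟩] at this
          have hsupfin : Finite (K' ⊔ Q : Subgroup Ω) := finite_of_le (sup_le hK'S hQS)
          have hlt : Nat.card Q < Nat.card (K' ⊔ Q : Subgroup Ω) := by
            apply MasterRed.card_lt_of_lt le_sup_right
            intro h
            apply hK'Q
            rw [h]
            exact le_sup_left
          have hsl := samelevel p n k IHk S hcard hS F hF Q hk E hC hN K' hK'S hSK' _ hD' hlt
          exact hsl _ hθN
        · -- descent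
          have hds := descend p n IHn S hcard hS F hF E hC hN K' hK'fn hS₁ (Nat.card P)
            BG P' ?_
          · exact hds hθN
          · right
            refine ⟨hcardP', ?_⟩
            intro hJS₁
            have heq : JA P' = JA S₁ := JA_eq_of_le hP'S₁ hJS₁
            rw [hJP'] at heq
            obtain ⟨g, hgN, hgS₁⟩ := exists_mem_normalizerIn_not_mem p hS hS₁S hS₁
            apply hgS₁
            refine ⟨hgN.1, ?_⟩
            rw [heq]
            exact Cfsg.Agent.Helper26.GJ.thompsonSubgroupAOf_le_normalizer S₁ hgN.2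
      · -- B2
        have hds := descend p n IHn S hcard hS F hF E hC hN P hPfn hT (Nat.card P) BG P
          (Or.inr ⟨rfl, hJP⟩)
        intro α hα
        apply toE
        apply hds
        exact Cfsg.Agent.Helper26.WC.autHom_mem_normalizerHom F hPS hα

end Cfsg.Agent.Helper26.GenF
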