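import Mathlib
import Cfsg.Agent.Helper18.K2P.Defs
import Cfsg.Agent.Helper18.K2P.QB
import Cfsg.Agent.Helper18.K2P.RACT
import Cfsg.Agent.Helper18.K2P.STAB
import Cfsg.Agent.Helper18.K2P.OMEGA

set_option autoImplicit false
set_option linter.unusedSectionVars false
set_option linter.unusedVariables false

/-! # S5692, `k = 2` hyperbolic blocks (route `departures/helper18_k2p_route.md`), chapter C (helper26):
a Siegel element `E(z, w)` of `M` with small support and `w_p ≠ 0` off the support gives a Siegel element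
with a frame centre. -/

namespace Cfsg.Agent.K2P

open Matrix Cfsg.Agent.OC2P Cfsg.Agent.Helper28.Sg Cfsg.Agent.Helper28.Spin
  Cfsg.Agent.Helper12.OrthGen Cfsg.Agent.K2M

variable {F : Type*} [Field F] {t : ℕ} {Q : QuadraticForm F (Fin t × Fin 2 → F)}
  {q : QuadraticForm F (Fin 2 → F)} {e f : Fin 2 → F}

/-- avoiding four values -/
theorem CONVERT.aux_avoid [Fintype F] (hq : 5 ≤ Fintype.card F) (a b c d : F) :
    ∃ k : F, k ≠ a ∧ k ≠ b ∧ k ≠ c ∧ k ≠ d := by
  classical
  by_contra hcon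
  push_neg at hcon
  have hsub : (Finset.univ : Finset F) ⊆ {a, b, c, d} := by
    intro k _
    by_cases h1 : k = a
    · simp [h1]
    by_cases h2 : k = b
    · simp [h2]
    by_cases h3 : k = c
    · simp [h3]
    have h4 := hcon k h1 h2 h3
    simp [h4]
  have h1 := Finset.card_le_card hsub
  have h2 : ({a, b, c, d} : Finset F).card ≤ 4 := Finset.card_le_four
  rw [Finset.card_univ] at h1
  omega

/-- `r2` is additive -/
theorem CONVERT.aux_r2_add (y a b : Fin 2 → F) : r2 q y (a + b) = r2 q y a + r2 q y b := by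
  unfold r2
  rw [QuadraticMap.polar_add_right, mul_add, add_smul]
  abel

theorem CONVERT.aux_r2_smul (y : Fin 2 → F) (c : F) (a : Fin 2 → F) :
    r2 q y (c • a) = c • r2 q y a := by
  unfold r2
  rw [QuadraticMap.polar_smul_right]
  simp only [smul_eq_mul]
  rw [smul_sub, smul_smul]
  congr 2
  ring

theorem CONVERT.aux_r2_sub (y a b : Fin 2 → F) : r2 q y (a - b) = r2 q y a - r2 q y b := by
  have h : a - b = a + (-1 : F) • b := by rw [neg_one_smul, sub_eq_add_neg]
  rw [h, CONVERT.aux_r2_add, CONVERT.aux_r2_smul, neg_one_smul, sub_eq_add_neg]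

theorem CONVERT.aux_r2_zero (y : Fin 2 → F) : r2 q y 0 = 0 := by
  unfold r2
  rw [QuadraticMap.polar_zero_right, mul_zero, zero_smul, sub_zero]

/-- the norm of `e - lam f` -/
theorem CONVERT.aux_q (bp : BP Q q e f) (lam : F) : q (e - lam • f) = -lam := by
  have h : e - lam • f = e + (-lam) • f := by rw [neg_smul, sub_eq_add_neg]
  rw [h, QuadraticMap.map_add (⇑q), QuadraticMap.map_smul, bp.qe, bp.qf,
    QuadraticMap.polar_smul_right, bp.ef]
  simp

theorem CONVERT.aux_polar_e (bp : BP Q q e f) (lam : F) :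
    QuadraticMap.polar ⇑q (e - lam • f) e = -lam := by
  have h : e - lam • f = e + (-lam) • f := by rw [neg_smul, sub_eq_add_neg]
  rw [h, QuadraticMap.polar_add_left, QuadraticMap.polar_smul_left, QuadraticMap.polar_self,
    bp.qe, QuadraticMap.polar_comm, bp.ef]
  simp

theorem CONVERT.aux_polar_f (bp : BP Q q e f) (lam : F) :
    QuadraticMap.polar ⇑q (e - lam • f) f = 1 := by
  have h : e - lam • f = e + (-lam) • f := by rw [neg_smul, sub_eq_add_neg]
  rw [h, QuadraticMap.polar_add_left, QuadraticMap.polar_smul_left, QuadraticMap.polar_self,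
    bp.qf, bp.ef]
  simp

/-- the reflection in `e - lam f` swaps the frame lines -/
theorem CONVERT.aux_r2_e (bp : BP Q q e f) {lam : F} (hl : lam ≠ 0) :
    r2 q (e - lam • f) e = lam • f := by
  unfold r2
  rw [CONVERT.aux_q bp, CONVERT.aux_polar_e bp]
  have h : (-lam)⁻¹ * -lam = 1 := inv_mul_cancel₀ (neg_ne_zero.mpr hl)
  rw [h, one_smul]
  abel

theorem CONVERT.aux_r2_f (bp : BP Q q e f) {lam : F} (hl : lam ≠ 0) :
    r2 q (e - lam • f) f = lam⁻¹ • e := by
  unfold r2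
  rw [CONVERT.aux_q bp, CONVERT.aux_polar_f bp, mul_one, smul_sub, smul_smul]
  have h : (-lam)⁻¹ * lam = -1 := by
    rw [inv_neg, neg_mul, inv_mul_cancel₀ hl]
  rw [h]
  simp only [inv_neg, neg_smul, one_smul]
  abel

/-- the rotation `e ↦ lam e`, `f ↦ lam⁻¹ f` of the binary space -/
noncomputable def CONVERT.rot (q : QuadraticForm F (Fin 2 → F)) (e f : Fin 2 → F) (lam : F)
    (y : Fin 2 → F) : Fin 2 → F :=
  r2 q (e - (1 : F) • f) (r2 q (e - lam • f) y)

theorem CONVERT.rot_add (lam : F) (a b : Fin 2 → F) :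
    CONVERT.rot q e f lam (a + b) = CONVERT.rot q e f lam a + CONVERT.rot q e f lam b := by
  unfold CONVERT.rot
  rw [CONVERT.aux_r2_add, CONVERT.aux_r2_add]

theorem CONVERT.rot_sub (lam : F) (a b : Fin 2 → F) :
    CONVERT.rot q e f lam (a - b) = CONVERT.rot q e f lam a - CONVERT.rot q e f lam b := by
  unfold CONVERT.rot
  rw [CONVERT.aux_r2_sub, CONVERT.aux_r2_sub]

theorem CONVERT.rot_smul (lam c : F) (a : Fin 2 → F) :
    CONVERT.rot q e f lam (c • a) = c • CONVERT.rot q e f lam a := by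
  unfold CONVERT.rot
  rw [CONVERT.aux_r2_smul, CONVERT.aux_r2_smul]

theorem CONVERT.rot_zero (lam : F) : CONVERT.rot q e f lam 0 = 0 := by
  unfold CONVERT.rot
  rw [CONVERT.aux_r2_zero, CONVERT.aux_r2_zero]

theorem CONVERT.rot_e (bp : BP Q q e f) {lam : F} (hl : lam ≠ 0) :
    CONVERT.rot q e f lam e = lam • e := by
  unfold CONVERT.rot
  rw [CONVERT.aux_r2_e bp hl, CONVERT.aux_r2_smul, CONVERT.aux_r2_f bp one_ne_zero, inv_one,
    one_smul]

theorem CONVERT.rot_f (bp : BP Q q e f) {lam : F} (hl : lam ≠ 0) :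
    CONVERT.rot q e f lam f = lam⁻¹ • f := by
  unfold CONVERT.rot
  rw [CONVERT.aux_r2_f bp hl, CONVERT.aux_r2_smul, CONVERT.aux_r2_e bp one_ne_zero, one_smul]

theorem CONVERT.rot_comb (bp : BP Q q e f) {lam : F} (hl : lam ≠ 0) (a b : F) :
    CONVERT.rot q e f lam (a • e + b • f) = (lam * a) • e + (lam⁻¹ * b) • f := by
  rw [CONVERT.rot_add, CONVERT.rot_smul, CONVERT.rot_smul, CONVERT.rot_e bp hl,
    CONVERT.rot_f bp hl, smul_smul, smul_smul, mul_comm a, mul_comm b]

/-- coordinates in the hyperbolic basis -/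
theorem CONVERT.coord (bp : BP Q q e f) (y : Fin 2 → F) :
    y = QuadraticMap.polar ⇑q y f • e + QuadraticMap.polar ⇑q y e • f := by
  have hli : LinearIndependent F ![e, f] := by
    rw [LinearIndependent.pair_iff]
    intro s t' h
    have h1 := congrArg (fun v => QuadraticMap.polar ⇑q v f) h
    have h2 := congrArg (fun v => QuadraticMap.polar ⇑q v e) h
    simp only [QuadraticMap.polar_add_left, QuadraticMap.polar_smul_left, QuadraticMap.polar_self,
      bp.qe, bp.qf, bp.ef, QuadraticMap.polar_zero_left] at h1 h2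
    rw [QuadraticMap.polar_comm (⇑q) f e, bp.ef] at h2
    simp at h1 h2
    exact ⟨h1, h2⟩
  have hspan : Submodule.span F (Set.range ![e, f]) = ⊤ :=
    hli.span_eq_top_of_card_eq_finrank' (by simp)
  set d := y - (QuadraticMap.polar ⇑q y f • e + QuadraticMap.polar ⇑q y e • f) with hd
  have hde : QuadraticMap.polar ⇑q d e = 0 := by
    rw [hd, QuadraticMap.polar_sub_left, QuadraticMap.polar_add_left, QuadraticMap.polar_smul_left,
      QuadraticMap.polar_smul_left, QuadraticMap.polar_self, bp.qe,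
      QuadraticMap.polar_comm (⇑q) f e, bp.ef]
    simp
  have hdf : QuadraticMap.polar ⇑q d f = 0 := by
    rw [hd, QuadraticMap.polar_sub_left, QuadraticMap.polar_add_left, QuadraticMap.polar_smul_left,
      QuadraticMap.polar_smul_left, QuadraticMap.polar_self, bp.qf, bp.ef]
    simp
  have hd0 : d = 0 := by
    apply bp.ndq.1 d
    intro n
    rw [QuadraticMap.polarBilin_apply_apply]
    have hn : n ∈ Submodule.span F (Set.range ![e, f]) := by rw [hspan]; trivial
    rw [Submodule.mem_span_range_iff_exists_fun] at hn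
    obtain ⟨c, rfl⟩ := hn
    rw [Fin.sum_univ_two]
    show QuadraticMap.polar ⇑q d (c 0 • e + c 1 • f) = 0
    rw [QuadraticMap.polar_add_right, QuadraticMap.polar_smul_right, QuadraticMap.polar_smul_right,
      hde, hdf]
    simp
  have := sub_eq_zero.mp hd0
  exact this

theorem CONVERT.rot_sub_comb (bp : BP Q q e f) {lam : F} (hl : lam ≠ 0) (a b : F) :
    CONVERT.rot q e f lam (a • e + b • f) - (a • e + b • f)
      = ((lam - 1) * a) • e + ((lam⁻¹ - 1) * b) • f := by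
  rw [CONVERT.rot_comb bp hl]
  simp only [sub_mul, one_mul, sub_smul]
  abel

/-- norms of the reflection vectors are nonzero -/
theorem CONVERT.aux_Qne (bp : BP Q q e f) (i : Fin t) {lam : F} (hl : lam ≠ 0) :
    Q (binj i (e - lam • f)) ≠ 0 := by
  rw [QB.Q_binj bp.toBM0, CONVERT.aux_q bp]
  exact neg_ne_zero.mpr hl

/-- the torus element `ρ_p(lam) ρ_l(lam⁻¹)` -/
noncomputable def CONVERT.tor (bp : BP Q q e f) (p l : Fin t) (lam : F) (hl : lam ≠ 0) : OG Q :=
  (reflO Q (binj p (e - (1 : F) • f)) (CONVERT.aux_Qne bp p one_ne_zero) *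
    reflO Q (binj l (e - (1 : F) • f)) (CONVERT.aux_Qne bp l one_ne_zero)) *
  (reflO Q (binj p (e - lam • f)) (CONVERT.aux_Qne bp p hl) *
    reflO Q (binj l (e - lam⁻¹ • f)) (CONVERT.aux_Qne bp l (inv_ne_zero hl)))

theorem CONVERT.tor_mem [Fintype F] (bp : BP Q q e f) (ht : 3 ≤ t) {M : Subgroup (OG Q)}
    (hM : HasMO M) (p l : Fin t) (lam : F) (hl : lam ≠ 0) : CONVERT.tor bp p l lam hl ∈ M := by
  unfold CONVERT.tor
  apply M.mul_mem
  · exact OMEGA.pair_mem bp.toBM0 ht hM p l _ _ _ _ ⟨_, rfl⟩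
  · apply OMEGA.pair_mem bp.toBM0 ht hM p l
    rw [CONVERT.aux_q bp, CONVERT.aux_q bp]
    refine ⟨1, ?_⟩
    rw [neg_mul_neg, mul_inv_cancel₀ hl, one_mul]

theorem CONVERT.tor_bproj (bp : BP Q q e f) {p l : Fin t} (hpl : p ≠ l) (lam : F) (hl : lam ≠ 0)
    (x : Fin t × Fin 2 → F) (i : Fin t) :
    bproj i (mt Q (CONVERT.tor bp p l lam hl) *ᵥ x) =
      if i = p then CONVERT.rot q e f lam (bproj p x)
      else if i = l then CONVERT.rot q e f lam⁻¹ (bproj l x) else bproj i x := by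
  unfold CONVERT.tor
  rw [mt_mul_mulVec, mt_mul_mulVec, mt_mul_mulVec]
  by_cases hip : i = p
  · subst hip
    rw [if_pos rfl, RACT.bproj_same bp.toBM0, RACT.bproj_ne bp.toBM0 hpl,
      RACT.bproj_same bp.toBM0, RACT.bproj_ne bp.toBM0 hpl]
    rfl
  · rw [if_neg hip]
    by_cases hil : i = l
    · subst hil
      rw [if_pos rfl, RACT.bproj_ne bp.toBM0 hip, RACT.bproj_same bp.toBM0,
        RACT.bproj_ne bp.toBM0 hip, RACT.bproj_same bp.toBM0]
      rfl
    · rw [if_neg hil, RACT.bproj_ne bp.toBM0 hip, RACT.bproj_ne bp.toBM0 hil,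
        RACT.bproj_ne bp.toBM0 hip, RACT.bproj_ne bp.toBM0 hil]

/-- the torus element fixes vectors without components in the blocks `p`, `l` -/
theorem CONVERT.tor_fix (bp : BP Q q e f) {p l : Fin t} (hpl : p ≠ l) (lam : F) (hl : lam ≠ 0)
    {z : Fin t × Fin 2 → F} (hp : bproj p z = 0) (hl' : bproj l z = 0) :
    mt Q (CONVERT.tor bp p l lam hl) *ᵥ z = z := by
  apply QB.ext
  intro i
  rw [CONVERT.tor_bproj bp hpl]
  by_cases hip : i = p
  · subst hip
    rw [if_pos rfl, hp, CONVERT.rot_zero]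
  · rw [if_neg hip]
    by_cases hil : i = l
    · subst hil
      rw [if_pos rfl, hl', CONVERT.rot_zero]
    · rw [if_neg hil]

theorem CONVERT.tor_binj (bp : BP Q q e f) {p l : Fin t} (hpl : p ≠ l) (lam : F) (hl : lam ≠ 0)
    (y : Fin 2 → F) :
    mt Q (CONVERT.tor bp p l lam hl) *ᵥ binj p y = binj p (CONVERT.rot q e f lam y) := by
  apply QB.ext
  intro i
  rw [CONVERT.tor_bproj bp hpl]
  by_cases hip : i = p
  · subst hip
    rw [if_pos rfl, bproj_binj, bproj_binj]
  · rw [if_neg hip, bproj_binj_ne hip (CONVERT.rot q e f lam y), bproj_binj_ne hip y]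
    by_cases hil : i = l
    · subst hil
      rw [if_pos rfl, bproj_binj_ne hip y, CONVERT.rot_zero]
    · rw [if_neg hil]

theorem CONVERT.tor_sub (bp : BP Q q e f) {p l : Fin t} (hpl : p ≠ l) (lam : F) (hl : lam ≠ 0)
    (x : Fin t × Fin 2 → F) :
    mt Q (CONVERT.tor bp p l lam hl) *ᵥ x - x =
      binj p (CONVERT.rot q e f lam (bproj p x) - bproj p x) +
      binj l (CONVERT.rot q e f lam⁻¹ (bproj l x) - bproj l x) := by
  apply QB.ext
  intro i
  rw [QB.bproj_sub, QB.bproj_add, CONVERT.tor_bproj bp hpl]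
  by_cases hip : i = p
  · subst hip
    rw [if_pos rfl, bproj_binj, bproj_binj_ne hpl, add_zero]
  · rw [if_neg hip, bproj_binj_ne hip, zero_add]
    by_cases hil : i = l
    · subst hil
      rw [if_pos rfl, bproj_binj]
    · rw [if_neg hil, bproj_binj_ne hil, sub_self]

/-- a parameter `s ≠ 0, -1` with `s² + s + 1 ≠ 0` -/
theorem CONVERT.aux_s [Fintype F] (hq : 5 ≤ Fintype.card F) :
    ∃ s : F, s ≠ 0 ∧ 1 + s ≠ 0 ∧ s ^ 2 + s + 1 ≠ 0 := by
  by_cases h : ∃ r : F, r ^ 2 + r + 1 = 0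
  · obtain ⟨r, hr⟩ := h
    obtain ⟨s, h1, h2, h3, h4⟩ := CONVERT.aux_avoid hq 0 (-1) r (-1 - r)
    refine ⟨s, h1, ?_, ?_⟩
    · intro h
      apply h2
      linear_combination h
    · have hfac : s ^ 2 + s + 1 = (s - r) * (s - (-1 - r)) := by linear_combination hr
      rw [hfac]
      exact mul_ne_zero (sub_ne_zero.mpr h3) (sub_ne_zero.mpr h4)
  · obtain ⟨s, h1, h2, -, -⟩ := CONVERT.aux_avoid hq (0 : F) (-1) 0 0
    exact ⟨s, h1, fun h' => h2 (by linear_combination h'), fun hs => h ⟨s, hs⟩⟩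

/-- a torus-invariant additive subgroup of a hyperbolic block containing a nonzero vector contains a nonzero frame
vector -/
theorem CONVERT.frame [Fintype F] (bp : BP Q q e f) (ht : 3 ≤ t) (hF : 5 ≤ Fintype.card F)
    {M : Subgroup (OG Q)} (hM : HasMO M) {z : Fin t × Fin 2 → F} (hz : Q z = 0) {p l : Fin t}
    (hpl : p ≠ l) (hzp : bproj p z = 0) (hzl : bproj l z = 0) {a b : F}
    (hmem : binj p (a • e + b • f) ∈ Rad M z hz) (hab : a ≠ 0 ∨ b ≠ 0) :
    ∃ (u : Fin 2 → F) (c : F), (u = e ∨ u = f) ∧ c ≠ 0 ∧ binj p (c • u) ∈ Rad M z hz := by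
  have hinv : ∀ (lam : F) (hl : lam ≠ 0) (y : Fin 2 → F), binj p y ∈ Rad M z hz →
      binj p (CONVERT.rot q e f lam y) ∈ Rad M z hz := by
    intro lam hl y hy
    exact Rad_conj' (CONVERT.tor_mem bp ht hM p l lam hl) hy hz
      (CONVERT.tor_fix bp hpl lam hl hzp hzl) (CONVERT.tor_binj bp hpl lam hl y)
  by_cases ha : a = 0
  · have hb : b ≠ 0 := by
      rcases hab with h | h
      · exact absurd ha h
      · exact h
    refine ⟨f, b, Or.inr rfl, hb, ?_⟩
    rw [ha, zero_smul, zero_add] at hmem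
    exact hmem
  · obtain ⟨s, hs0, hs1, hs2⟩ := CONVERT.aux_s (F := F) hF
    have hs' : s / (1 + s) ≠ 0 := div_ne_zero hs0 hs1
    have h1 := hinv 1 one_ne_zero _ hmem
    have h2 := hinv s hs0 _ hmem
    have h3 := hinv (s / (1 + s)) hs' _ hmem
    have hA := (Rad M z hz).sub_mem ((Rad M z hz).add_mem h1 h2) h3
    rw [← QB.binj_add, ← QB.binj_sub, CONVERT.rot_comb bp one_ne_zero, CONVERT.rot_comb bp hs0,
      CONVERT.rot_comb bp hs'] at hA
    have hcoef : (1 : F)⁻¹ + s⁻¹ - (s / (1 + s))⁻¹ = 0 := by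
      field_simp
      ring
    have hcomp : (1 * a) • e + ((1 : F)⁻¹ * b) • f + ((s * a) • e + (s⁻¹ * b) • f) -
        ((s / (1 + s) * a) • e + ((s / (1 + s))⁻¹ * b) • f)
        = ((1 + s - s / (1 + s)) * a) • e := by
      have h0 : ((1 : F)⁻¹ * b) • f + (s⁻¹ * b) • f - ((s / (1 + s))⁻¹ * b) • f = 0 := by
        rw [← add_smul, ← sub_smul, ← add_mul, ← sub_mul, hcoef, zero_mul, zero_smul]
      have h0' : (1 * a) • e + (s * a) • e - (s / (1 + s) * a) • e
          = ((1 + s - s / (1 + s)) * a) • e := by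
        rw [← add_smul, ← sub_smul, ← add_mul, ← sub_mul]
      rw [← h0', ← add_zero ((1 * a) • e + (s * a) • e - (s / (1 + s) * a) • e), ← h0]
      abel
    rw [hcomp] at hA
    refine ⟨e, (1 + s - s / (1 + s)) * a, Or.inl rfl, ?_, hA⟩
    have hk : 1 + s - s / (1 + s) = (s ^ 2 + s + 1) / (1 + s) := by
      field_simp
      ring
    rw [hk]
    exact mul_ne_zero (div_ne_zero hs2 hs1) ha

/-- **chapter C** -/
theorem CONVERT.main [Fintype F] (bp : BP Q q e f) (ht : 7 ≤ t) (hF : 7 ≤ Fintype.card F)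
    {M : Subgroup (OG Q)} (hM : HasMO M) (hS : SiegOut M) : SiegF Q q e f M := by
  classical
  obtain ⟨z, w, hz, I, p, hz0, hI, hzI, hp, hw, hwp⟩ := hS
  -- two free blocks
  have hcard : 1 < ((insert p I)ᶜ : Finset (Fin t)).card := by
    rw [Finset.card_compl, Fintype.card_fin]
    have := Finset.card_insert_le p I
    omega
  obtain ⟨l, hl, l', hl', hll'⟩ := Finset.one_lt_card.mp hcard
  rw [Finset.mem_compl, Finset.mem_insert, not_or] at hl hl'
  have hpl : p ≠ l := fun h => hl.1 h.symm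
  have hpl' : p ≠ l' := fun h => hl'.1 h.symm
  have hzp : bproj p z = 0 := hzI p hp
  have hzl : bproj l z = 0 := hzI l hl.2
  have hzl' : bproj l' z = 0 := hzI l' hl'.2
  obtain ⟨μ, hμ0, hμ1, -, -⟩ := CONVERT.aux_avoid (F := F) (by omega) (0 : F) 1 0 0
  -- first commutator
  have hg1 := CONVERT.tor_mem bp (by omega) hM p l μ hμ0
  have hx1 : mt Q (CONVERT.tor bp p l μ hμ0) *ᵥ w - w ∈ Rad M z hz :=
    (Rad M z hz).sub_mem
      (Rad_conj' hg1 hw hz (CONVERT.tor_fix bp hpl μ hμ0 hzp hzl) rfl) hw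
  rw [CONVERT.tor_sub bp hpl μ hμ0 w] at hx1
  -- second commutator
  have hg2 := CONVERT.tor_mem bp (by omega) hM p l' μ hμ0
  have hx2 := (Rad M z hz).sub_mem
      (Rad_conj' hg2 hx1 hz (CONVERT.tor_fix bp hpl' μ hμ0 hzp hzl') rfl) hx1
  rw [CONVERT.tor_sub bp hpl' μ hμ0] at hx2
  rw [QB.bproj_add, QB.bproj_add, bproj_binj, bproj_binj_ne hpl, add_zero,
    bproj_binj_ne (Ne.symm hpl'), bproj_binj_ne (Ne.symm hll'), add_zero, CONVERT.rot_zero,
    sub_zero, QB.binj_zero, add_zero] at hx2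
  -- coordinates
  obtain ⟨α, β, hc⟩ : ∃ α β : F, bproj p w = α • e + β • f :=
    ⟨_, _, CONVERT.coord bp (bproj p w)⟩
  have hab : α ≠ 0 ∨ β ≠ 0 := by
    by_contra hcon
    rw [not_or, not_not, not_not] at hcon
    apply hwp
    rw [hc, hcon.1, hcon.2, zero_smul, zero_smul, add_zero]
  rw [hc, CONVERT.rot_sub_comb bp hμ0, CONVERT.rot_sub_comb bp hμ0] at hx2
  have hμ1' : μ⁻¹ - 1 ≠ 0 := by
    intro h
    apply hμ1
    have := sub_eq_zero.mp h
    rwa [inv_eq_one] at this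
  have hab' : (μ - 1) * ((μ - 1) * α) ≠ 0 ∨ (μ⁻¹ - 1) * ((μ⁻¹ - 1) * β) ≠ 0 := by
    rcases hab with h | h
    · left
      exact mul_ne_zero (sub_ne_zero.mpr hμ1) (mul_ne_zero (sub_ne_zero.mpr hμ1) h)
    · right
      exact mul_ne_zero hμ1' (mul_ne_zero hμ1' h)
  obtain ⟨u, c, hu, hc0, hmem⟩ :=
    CONVERT.frame bp (by omega) (by omega) hM hz hpl hzp hzl hx2 hab'
  have hQu : Q (binj p u) = 0 := by
    rcases hu with rfl | rfl
    · rw [QB.Q_binj bp.toBM0, bp.qe]
    · rw [QB.Q_binj bp.toBM0, bp.qf]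
  rw [QB.binj_smul] at hmem
  have hQcu : Q (c • binj p u) = 0 := by
    rw [QuadraticMap.map_smul, hQu, smul_zero]
  have h1 : z ∈ Rad M (c • binj p u) hQcu := Rad_swap hQcu hmem
  have h2 : c • z ∈ Rad M (binj p u) hQu := Rad_smul_left hQu c hQcu h1
  exact ⟨p, u, c • z, hQu, hu, smul_ne_zero hc0 hz0, by rw [QB.bproj_smul, hzp, smul_zero], h2⟩

end Cfsg.Agent.K2P
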