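import Mathlib
import Cfsg.Agent.Helper26.SC1

set_option autoImplicit false
set_option linter.style.haveILetI false
set_option linter.unusedSectionVars false
set_option linter.unusedVariables false

/-! The focal subgroup of a normalizer system, the subsystem of the maps moving every element by
an element of a fixed subgroup, and the lifting of a focal inclusion from a factor system. -/

namespace Cfsg.Agent.Helper26.SC

open Cfsg Cfsg.FusionSystem Cfsg.Agent.Helper25 Cfsg.Agent.Helper26.MasterRed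
  Cfsg.Agent.Helper26.WC Cfsg.Agent.Helper26.GF

section Basic

variable {Ω : Type*} [Group Ω] {S : Subgroup Ω}

/-- the subsystem of the maps moving every element by an element of `N` -/
def focSys (F : FusionSystem S) (N : Subgroup Ω)
    (hN : ∀ a ∈ S, ∀ g ∈ S, a⁻¹ * (g * a * g⁻¹) ∈ N) : FusionSystem S where
  Hom P := {φ | φ ∈ F.Hom P ∧ ∀ x : P, (x : Ω)⁻¹ * φ x ∈ N}
  le_of_mem := fun h => F.le_of_mem h.1
  injective_of_mem := fun h => F.injective_of_mem h.1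
  conj_mem := by
    intro P g hP hg
    refine ⟨F.conj_mem hP hg, fun x => ?_⟩
    exact hN x (hP x.2) g hg
  comp_mem := by
    rintro P Q φ ψ ⟨hφ, hφN⟩ ⟨hψ, hψN⟩ h
    refine ⟨F.comp_mem hφ hψ h, fun x => ?_⟩
    have h1 := hφN x
    have h2 := hψN ⟨φ x, h x⟩
    have e : (x : Ω)⁻¹ * (ψ.comp (φ.codRestrict Q h)) x =
        ((x : Ω)⁻¹ * φ x) * ((φ x)⁻¹ * ψ ⟨φ x, h x⟩) := by
      rw [mul_assoc, mul_inv_cancel_left]
      rfl
    rw [e]
    exact N.mul_mem h1 h2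
  inv_mem := by
    rintro P φ ⟨hφ, hφN⟩
    obtain ⟨ψ, hψ, hinv⟩ := F.inv_mem hφ
    refine ⟨ψ, ⟨hψ, ?_⟩, hinv⟩
    rintro ⟨_, x, rfl⟩
    rw [hinv x]
    have := N.inv_mem (hφN x)
    rwa [mul_inv_rev, inv_inv] at this

theorem mem_focSys_iff (F : FusionSystem S) (N : Subgroup Ω)
    (hN : ∀ a ∈ S, ∀ g ∈ S, a⁻¹ * (g * a * g⁻¹) ∈ N) (P : Subgroup Ω) (φ : P →* Ω) :
    φ ∈ (focSys F N hN).Hom P ↔ φ ∈ F.Hom P ∧ ∀ x : P, (x : Ω)⁻¹ * φ x ∈ N := Iff.rfl

/-- the focal subgroup of the normalizer system of `V` -/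
def Mfoc (F : FusionSystem S) (V : Subgroup Ω) : Subgroup Ω :=
  Subgroup.closure {y : Ω | ∃ (P : Subgroup Ω) (φ : P →* Ω) (x : P),
    φ ∈ F.normalizerHom V P ∧ y = (x : Ω)⁻¹ * φ x}

theorem mem_mfoc (F : FusionSystem S) (V : Subgroup Ω) {P : Subgroup Ω} {φ : P →* Ω}
    (hφ : φ ∈ F.normalizerHom V P) (x : P) : (x : Ω)⁻¹ * φ x ∈ Mfoc F V :=
  Subgroup.subset_closure ⟨P, φ, x, hφ, rfl⟩

theorem mem_focal (F : FusionSystem S) {P : Subgroup Ω} {φ : P →* Ω}
    (hφ : φ ∈ F.Hom P) (x : P) : (x : Ω)⁻¹ * φ x ∈ F.focalSubgroup :=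
  Subgroup.subset_closure ⟨P, φ, x, hφ, rfl⟩

theorem focal_le_of_forall (F : FusionSystem S) (M : Subgroup Ω)
    (h : ∀ (P : Subgroup Ω) (φ : P →* Ω), φ ∈ F.Hom P → ∀ x : P, (x : Ω)⁻¹ * φ x ∈ M) :
    F.focalSubgroup ≤ M := by
  unfold focalSubgroup
  rw [Subgroup.closure_le]
  rintro _ ⟨P, φ, x, hφ, rfl⟩
  exact h P φ hφ x

theorem mfoc_le_of_forall (F : FusionSystem S) (V M : Subgroup Ω)
    (h : ∀ (P : Subgroup Ω) (φ : P →* Ω), φ ∈ F.normalizerHom V P →
      ∀ x : P, (x : Ω)⁻¹ * φ x ∈ M) :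
    Mfoc F V ≤ M := by
  unfold Mfoc
  rw [Subgroup.closure_le]
  rintro _ ⟨P, φ, x, hφ, rfl⟩
  exact h P φ hφ x

theorem mfoc_le_focal (F : FusionSystem S) (V : Subgroup Ω) : Mfoc F V ≤ F.focalSubgroup :=
  mfoc_le_of_forall F V _ (fun P φ hφ x => mem_focal F hφ.1 x)

theorem focal_le_S (F : FusionSystem S) : F.focalSubgroup ≤ S := by
  apply focal_le_of_forall
  intro P φ hφ x
  exact S.mul_mem (S.inv_mem ((F.le_of_mem hφ).1 x.2)) ((F.le_of_mem hφ).2 x)

theorem focal_eq_mfoc (F : FusionSystem S) (V : Subgroup Ω)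
    (N : FusionSystem (normalizerIn S V)) (hN : F.IsNormalizerSystem V N) :
    N.focalSubgroup = Mfoc F V := by
  apply le_antisymm
  · apply focal_le_of_forall
    intro P φ hφ x
    rw [hN P] at hφ
    exact mem_mfoc F V hφ x
  · apply mfoc_le_of_forall
    intro P φ hφ x
    rw [← hN P] at hφ
    exact mem_focal N hφ x

theorem normalizerHom_mono {S₁ : Subgroup Ω} (E : FusionSystem S₁) (F : FusionSystem S)
    (hle : S₁ ≤ S)
    (hsub : ∀ (P : Subgroup Ω) (φ : P →* Ω), φ ∈ E.Hom P → φ ∈ F.Hom P)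
    (V P : Subgroup Ω) : E.normalizerHom V P ⊆ F.normalizerHom V P := by
  rintro φ ⟨hφ, h2, h3, ψ, hψ, hext, hmap⟩
  have hN : normalizerIn S₁ V ≤ normalizerIn S V := fun y hy => ⟨hle hy.1, hy.2⟩
  exact ⟨hsub _ _ hφ, h2.trans hN, fun x => hN (h3 x), ψ, hsub _ _ hψ, hext, hmap⟩

theorem mfoc_mono {S₁ : Subgroup Ω} (E : FusionSystem S₁) (F : FusionSystem S)
    (hle : S₁ ≤ S)
    (hsub : ∀ (P : Subgroup Ω) (φ : P →* Ω), φ ∈ E.Hom P → φ ∈ F.Hom P)
    (V : Subgroup Ω) : Mfoc E V ≤ Mfoc F V := by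
  apply mfoc_le_of_forall
  intro P φ hφ x
  exact mem_mfoc F V (normalizerHom_mono E F hle hsub V P hφ) x

/-- the derived subgroup of `S` lies in the focal subgroup of the normalizer system of a subgroup
normal in `S` -/
theorem mfoc_conj (F : FusionSystem S) {V : Subgroup Ω} (hVS : V ≤ S)
    (hSN : S ≤ Subgroup.normalizer (V : Set Ω)) :
    ∀ a ∈ S, ∀ g ∈ S, a⁻¹ * (g * a * g⁻¹) ∈ Mfoc F V := by
  intro a ha g hg
  have hSN' : S ≤ normalizerIn S V := fun y hy => ⟨hy, hSN hy⟩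
  have h1 : conjHom S g ∈ (normalizerSystem F V hVS).Hom S :=
    (normalizerSystem F V hVS).conj_mem hSN' ⟨hg, hSN hg⟩
  have h2 : conjHom S g ∈ F.normalizerHom V S := h1
  exact mem_mfoc F V h2 ⟨a, ha⟩

/-- if `S` is normal in the system then every map lies in the normalizer system of a
characteristic subgroup of `S` -/
theorem mem_normalizerHom_of_top_normal [Finite S] (F : FusionSystem S) (hn : F.IsNormal S)
    {V : Subgroup Ω} (hVS : V ≤ S) (hVc : (V.subgroupOf S).Characteristic)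
    {P : Subgroup Ω} {φ : P →* Ω} (hφ : φ ∈ F.Hom P) : φ ∈ F.normalizerHom V P := by
  have hPS : P ≤ S := (F.le_of_mem hφ).1
  have hφS := (F.le_of_mem hφ).2
  have hSN : S ≤ Subgroup.normalizer (V : Set Ω) := fun g hg =>
    mem_normalizer_of_characteristic hVS hVc (Subgroup.le_normalizer hg)
  have hSN' : S ≤ normalizerIn S V := fun y hy => ⟨hy, hSN hy⟩
  obtain ⟨ψ, hψ, hext, hmap⟩ := hn.2 P φ hφ
  have hψS := (F.le_of_mem hψ).2
  have hXS : P ⊔ S ≤ S := (F.le_of_mem hψ).1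
  have hVfin : Finite V := finite_of_le hVS
  -- the automorphism of `S` induced by `ψ`
  have hSX : S ≤ P ⊔ S := le_sup_right
  let f : S →* S := (ψ.comp (Subgroup.inclusion hSX)).codRestrict S (fun y => hψS _)
  have hfinj : Function.Injective f := by
    intro a b hab
    have h1 : ψ (Subgroup.inclusion hSX a) = ψ (Subgroup.inclusion hSX b) :=
      congrArg Subtype.val hab
    exact Subgroup.inclusion_injective hSX (F.injective_of_mem hψ h1)
  have hfbij : Function.Bijective f := Finite.injective_iff_bijective.mp hfinj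
  let e : S ≃* S := MulEquiv.ofBijective f hfbij
  have he : ∀ y : S, ((e y : S) : Ω) = ψ (Subgroup.inclusion hSX y) := fun y => rfl
  have hchar := Subgroup.characteristic_iff_map_eq.mp hVc e
  have hψV : ∀ y : ↥(P ⊔ S), (y : Ω) ∈ V → ψ y ∈ V := by
    intro y hy
    have h1 : e ⟨y, hXS y.2⟩ ∈ (V.subgroupOf S).map e.toMonoidHom := ⟨⟨y, hXS y.2⟩, hy, rfl⟩
    rw [hchar] at h1
    have h2 : ((e ⟨y, hXS y.2⟩ : S) : Ω) ∈ V := h1
    rw [he] at h2
    exact h2
  have hle : P ⊔ V ≤ P ⊔ S := sup_le le_sup_left (hVS.trans le_sup_right)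
  refine ⟨hφ, hPS.trans hSN', fun x => hSN' (hφS x), ψ.comp (Subgroup.inclusion hle),
    restrict_mem F hle hψ, fun x => ?_, ?_⟩
  · rw [← hext x]
    rfl
  · have hinj : Function.Injective (ψ.comp (Subgroup.inclusion hle)) :=
      F.injective_of_mem (restrict_mem F hle hψ)
    apply map_eq_of_map_le hinj _ le_sup_right
    rintro _ ⟨y, hy, rfl⟩
    exact hψV _ hy

end Basic

end Cfsg.Agent.Helper26.SC
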