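import Mathlib
import Cfsg.Agent.Helper26.SC2

set_option autoImplicit false
set_option linter.style.haveILetI false
set_option linter.unusedSectionVars false
set_option linter.unusedVariables false

/-! Lifting a focal inclusion from a factor system. -/

namespace Cfsg.Agent.Helper26.SC

open Cfsg Cfsg.FusionSystem Cfsg.Agent.Helper25 Cfsg.Agent.Helper26.MasterRed
  Cfsg.Agent.Helper26.WC Cfsg.Agent.Helper26.GF

variable {Ω Ω' : Type*} [Group Ω] [Group Ω'] {S : Subgroup Ω} [Finite S]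

set_option maxHeartbeats 1600000 in
theorem focal_le_of_lift (p : ℕ) [Fact p.Prime] (hS : IsPGroup p S)
    (E : FusionSystem S) (hE : E.IsSaturated p) {Q : Subgroup Ω} (hQ : E.StronglyClosed Q)
    (θ : S →* Ω') {S' : Subgroup Ω'} (E' : FusionSystem S') (hfs : E.IsFactorSystem Q θ E')
    {U' : Subgroup Ω'}
    (M₁ : Subgroup Ω) (hM₁ : M₁ ≤ E.focalSubgroup)
    (h1 : E'.focalSubgroup ≤ Mfoc E' U')
    (h2 : ∀ (P : Subgroup Ω) (ψ : P →* Ω), ψ ∈ E.normalizerHom (preimageAlong θ U') P →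
      ∀ y : P, (y : Ω)⁻¹ * ψ y ∈ M₁)
    (h3 : ∀ z ∈ E.focalSubgroup, z ∈ Q → z ∈ M₁) :
    E.focalSubgroup ≤ M₁ := by
  have hmor := isSurjectiveMorphism_of_isFactorSystem p hS E hE hQ θ E' hfs
  obtain ⟨hQS, hker, hrange, hiff⟩ := hfs
  obtain ⟨⟨hθS, hmorph⟩, -, -⟩ := hmor
  have hM₁S : M₁ ≤ S := hM₁.trans (focal_le_S E)
  have hTS : preimageAlong θ U' ≤ S := preimageAlong_le θ U'
  have hTfin : Finite (preimageAlong θ U') := finite_of_le hTS
  -- the focal subgroup of the normalizer system of `U'` lies in the image of `M₁`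
  have hB : Mfoc E' U' ≤ (M₁.subgroupOf S).map θ := by
    apply mfoc_le_of_forall
    intro P' ψ' hψ' y'
    obtain ⟨hψ'E, hP'N, hval', χ', hχ', hext', hmap'⟩ := hψ'
    obtain ⟨hXS', χ, hχ, hind⟩ := (hiff _ χ').mp hχ'
    have hP'S' : P' ≤ S' := le_sup_left.trans hXS'
    have hU'S' : U' ≤ S' := le_sup_right.trans hXS'
    have hRS : preimageAlong θ (P' ⊔ U') ≤ S := preimageAlong_le θ _
    have hχS := (E.le_of_mem hχ).2
    have hTR : preimageAlong θ U' ≤ preimageAlong θ (P' ⊔ U') :=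
      Cfsg.Agent.Helper25.preimageAlong_mono θ le_sup_right
    have happ : ∀ r : ↥(preimageAlong θ (P' ⊔ U')),
        χ' ⟨θ ⟨r, hRS r.2⟩, preimageAlong_map_mem θ _ r⟩ = θ ⟨χ r, hχS r⟩ :=
      fun r => inducedAlong_apply θ hind r (hRS r.2) _ (hχS r)
    have hχ'U : ∀ z : ↥(P' ⊔ U'), (z : Ω') ∈ U' → χ' z ∈ U' := by
      intro z hz
      have h0 : χ' z ∈ (U'.subgroupOf (P' ⊔ U')).map χ' := ⟨z, hz, rfl⟩
      exact (show ∀ Y : Subgroup Ω', (U'.subgroupOf (P' ⊔ U')).map χ' = Y → χ' z ∈ Y from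
        fun Y hY => hY ▸ h0) U' hmap'
    have hU'N : U' ≤ normalizerIn S' U' := fun y hy => ⟨hU'S' hy, Subgroup.le_normalizer hy⟩
    have hχ'N : ∀ z : ↥(P' ⊔ U'), χ' z ∈ normalizerIn S' U' := by
      intro z
      have := forall_mem_sup_of (le_sup_left : P' ≤ P' ⊔ U') (le_sup_right : U' ≤ P' ⊔ U')
        ((normalizerIn S' U').comap χ') ?_ ?_ z z.2
      · exact this
      · intro y hy
        rw [Subgroup.mem_comap]
        have h5 := hext' ⟨y, hy⟩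
        have e : Subgroup.inclusion (le_sup_left : P' ≤ P' ⊔ U') ⟨y, hy⟩ = y := Subtype.ext rfl
        rw [e] at h5
        rw [h5]
        exact hval' _
      · intro y hy
        rw [Subgroup.mem_comap]
        exact hU'N (hχ'U y hy)
    have hmemT : ∀ (x : Ω) (hx : x ∈ S), x ∈ preimageAlong θ U' ↔ θ ⟨x, hx⟩ ∈ U' := by
      intro x hx
      rw [mem_preimageAlong]
      exact ⟨fun ⟨_, h⟩ => h, fun h => ⟨hx, h⟩⟩
    have hmemN : ∀ (x : Ω) (hx : x ∈ S), θ ⟨x, hx⟩ ∈ normalizerIn S' U' →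
        x ∈ normalizerIn S (preimageAlong θ U') := by
      intro x hx h
      exact ⟨hx, mem_normalizer_preimageAlong θ U' ⟨x, hx⟩ h.2⟩
    have hXN : P' ⊔ U' ≤ normalizerIn S' U' := sup_le hP'N hU'N
    have hχN : χ ∈ E.normalizerHom (preimageAlong θ U') (preimageAlong θ (P' ⊔ U')) := by
      apply mem_normalizerHom_of_le E hTR hχ
      · intro r hr
        exact hmemN r (hRS hr) (hXN (preimageAlong_map_mem θ _ ⟨r, hr⟩))
      · intro r
        apply hmemN _ (hχS r)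
        rw [← happ r]
        exact hχ'N _
      · apply map_eq_of_map_le (E.injective_of_mem hχ) _ hTR
        rintro _ ⟨r, hr, rfl⟩
        have hr' : (r : Ω) ∈ preimageAlong θ U' := hr
        rw [hmemT _ (hχS r), ← happ r]
        exact hχ'U _ ((hmemT _ (hRS r.2)).mp hr')
    obtain ⟨x, hx⟩ := exists_preimageAlong θ hrange hP'S' y'
    have hPR : preimageAlong θ P' ≤ preimageAlong θ (P' ⊔ U') :=
      Cfsg.Agent.Helper25.preimageAlong_mono θ le_sup_left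
    obtain ⟨r, hr⟩ : ∃ r : ↥(preimageAlong θ (P' ⊔ U')), r = Subgroup.inclusion hPR x := ⟨_, rfl⟩
    have hrx : θ ⟨r, hRS r.2⟩ = (y' : Ω') := by
      rw [← hx]
      congr 1
      apply Subtype.ext
      rw [hr]
      rfl
    have hmem := h2 _ χ hχN r
    have hrS : (r : Ω)⁻¹ * χ r ∈ S := hM₁S hmem
    have e1 : Subgroup.inclusion (le_sup_left : P' ≤ P' ⊔ U') y' =
        ⟨θ ⟨r, hRS r.2⟩, preimageAlong_map_mem θ _ r⟩ := Subtype.ext hrx.symm
    have e2 : ψ' y' = θ ⟨χ r, hχS r⟩ := by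
      rw [← hext' y', e1, happ r]
    have e3 : (⟨(r : Ω)⁻¹ * χ r, hrS⟩ : S) = (⟨r, hRS r.2⟩ : S)⁻¹ * ⟨χ r, hχS r⟩ :=
      Subtype.ext rfl
    refine ⟨⟨(r : Ω)⁻¹ * χ r, hrS⟩, hmem, ?_⟩
    rw [e3, map_mul, map_inv, hrx, e2]
  -- generators
  apply focal_le_of_forall
  intro P φ hφ x
  obtain ⟨φ', hφ', hind⟩ := hmorph P φ hφ
  obtain ⟨hP, hφS, hP', he⟩ := hind
  have h4 := mem_focal E' hφ' ⟨θ ⟨x, hP x.2⟩, hP' x⟩
  rw [he x] at h4
  obtain ⟨m, hm, hme⟩ := hB (h1 h4)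
  have hm' : (m : Ω) ∈ M₁ := hm
  obtain ⟨g, hg⟩ : ∃ g : S, g = (⟨x, hP x.2⟩ : S)⁻¹ * ⟨φ x, hφS x⟩ := ⟨_, rfl⟩
  have hgv : (g : Ω) = (x : Ω)⁻¹ * φ x := by rw [hg]; rfl
  have hθg : θ g = θ m := by
    rw [hg, map_mul, map_inv]
    exact hme.symm
  have hk : θ (m⁻¹ * g) = 1 := by
    rw [map_mul, map_inv, hθg, inv_mul_cancel]
  have hkQ : ((m⁻¹ * g : S) : Ω) ∈ Q := (hker _).mp hk
  have hgf : (g : Ω) ∈ E.focalSubgroup := by
    rw [hgv]
    exact mem_focal E hφ x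
  have hkf : ((m⁻¹ * g : S) : Ω) ∈ E.focalSubgroup := by
    show (m : Ω)⁻¹ * (g : Ω) ∈ E.focalSubgroup
    exact Subgroup.mul_mem _ (Subgroup.inv_mem _ (hM₁ hm')) hgf
  have hkM := h3 _ hkf hkQ
  have e : (x : Ω)⁻¹ * φ x = (m : Ω) * ((m⁻¹ * g : S) : Ω) := by
    rw [← hgv]
    show (g : Ω) = (m : Ω) * ((m : Ω)⁻¹ * (g : Ω))
    rw [mul_inv_cancel_left]
  rw [e]
  exact M₁.mul_mem hm' hkM

end Cfsg.Agent.Helper26.SC
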