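import Mathlib
import Cfsg.Agent.Helper26.SC3
import Cfsg.Agent.Helper26.WCModel

set_option autoImplicit false
set_option linter.style.haveILetI false
set_option linter.unusedSectionVars false
set_option linter.unusedVariables false

/-! The local focal condition in a model. -/

namespace Cfsg.Agent.Helper26.SC

open Cfsg Cfsg.FusionSystem Cfsg.Agent.Helper25 Cfsg.Agent.Helper26.MasterRed
  Cfsg.Agent.Helper26.WC Cfsg.Agent.Helper26.GF
open scoped commutatorElement

universe u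

/-- the hypotheses on a functor with the local focal condition -/
structure THyp (p : ℕ) (W : ∀ (Q : Type u) [Group Q], Subgroup Q) : Prop where
  hW1 : ∀ (Q : Type u) [Group Q] [Finite Q], IsPGroup p Q → Nontrivial Q → W Q ≠ ⊥
  hW2 : ∀ (Q R : Type u) [Group Q] [Group R] [Finite Q], IsPGroup p Q → ∀ φ : Q ≃* R,
    (W Q).map φ.toMonoidHom = W R
  hT : ∀ (G : Type u) [Group G] [Finite G] (P : Sylow p G),
    Subgroup.centralizer ((Cfsg.pCore p G : Subgroup G) : Set G) ≤ Cfsg.pCore p G →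
    Cfsg.pCore p G ⊓ commutator G = Cfsg.pCore p G ⊓
      (commutator ↥(Subgroup.normalizer ((Wup W (P : Subgroup G) : Subgroup G) : Set G))).map
        (Subgroup.normalizer ((Wup W (P : Subgroup G) : Subgroup G) : Set G)).subtype

variable {p : ℕ} {W : ∀ (Q : Type u) [Group Q], Subgroup Q} {Ω : Type u} [Group Ω]

theorem twup_char (hH : THyp p W) {A : Subgroup Ω} [Finite A] (hA : IsPGroup p A) :
    ((Wup W A).subgroupOf A).Characteristic := by
  rw [wup_subgroupOf]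
  rw [Subgroup.characteristic_iff_map_eq]
  intro φ
  exact hH.hW2 ↥A ↥A hA φ

theorem twup_ne_bot (hH : THyp p W) {A : Subgroup Ω} [Finite A] (hA : IsPGroup p A)
    (hA1 : A ≠ ⊥) : Wup W A ≠ ⊥ := by
  intro h
  have h1 : W ↥A ≠ ⊥ := hH.hW1 ↥A hA ((Subgroup.nontrivial_iff_ne_bot A).mpr hA1)
  apply h1
  have h2 := wup_subgroupOf (W := W) A
  rw [h] at h2
  rw [← h2]
  exact Subgroup.bot_subgroupOf A

theorem twup_range (hH : THyp p W) {A : Subgroup Ω} [Finite A] (hA : IsPGroup p A)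
    {G : Type u} [Group G] (ι : A →* G) (hinj : Function.Injective ι) :
    Wup W ι.range = ((Wup W A).subgroupOf A).map ι := by
  rw [wup_subgroupOf]
  have h1 := hH.hW2 ↥A ↥ι.range hA (MonoidHom.ofInjective hinj)
  unfold Wup
  rw [← h1, Subgroup.map_map]
  congr 1

theorem le_normalizer_twup (hH : THyp p W) {S : Subgroup Ω} [Finite S]
    (hS : IsPGroup p S) : S ≤ Subgroup.normalizer ((Wup W S : Subgroup Ω) : Set Ω) := by
  intro g hg
  exact mem_normalizer_of_characteristic (wup_le S) (twup_char hH hS) (Subgroup.le_normalizer hg)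

variable [Fact p.Prime] {S : Subgroup Ω}

set_option maxHeartbeats 1600000 in
/-- In a model, the part of the focal subgroup inside a normal subgroup of the system lies in the
focal subgroup of the normalizer system of the functor subgroup. -/
theorem inter_le_of_model [Finite S] (hH : THyp p W) (hS : IsPGroup p S) (F : FusionSystem S)
    {G : Type u} [Group G] (ι : S →* G) (hM : F.IsModel p G ι) {Q : Subgroup Ω}
    (hQ : F.IsNormal Q) : ∀ z ∈ F.focalSubgroup, z ∈ Q → z ∈ Mfoc F (Wup W S) := by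
  intro z hzf hzQ
  have hQn := normal_map_of_isModel p F ι hM hQ
  obtain ⟨hfin, hreal, ⟨T, hT⟩, hcent⟩ := hM
  have hinj := hreal.1
  have hQS : Q ≤ S := hQ.1
  have hzS : z ∈ S := hQS hzQ
  have hzcore : ι ⟨z, hzS⟩ ∈ pCore p G := by
    have h1 : (Q.subgroupOf S).map ι ≤ pCore p G := by
      apply Cfsg.Agent.Helper14.le_pCore p hQn
      have h2 : IsPGroup p ↥(Q.subgroupOf S) :=
        hS.of_injective (Q.subgroupOf S).subtype (Subgroup.subtype_injective _)
      exact h2.map ι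
    exact h1 ⟨⟨z, hzS⟩, hzQ, rfl⟩
  -- the image of the focal subgroup lies in the derived subgroup
  have hfc : F.focalSubgroup ≤ ((commutator G).comap ι).map S.subtype := by
    apply focal_le_of_forall
    intro P φ hφ x
    have hPS := (F.le_of_mem hφ).1
    have hφS := (F.le_of_mem hφ).2
    obtain ⟨g, hg⟩ := (hreal.2 P hPS φ hφS).mp hφ
    refine ⟨(⟨x, hPS x.2⟩ : S)⁻¹ * ⟨φ x, hφS x⟩, ?_, rfl⟩
    rw [SetLike.mem_coe, Subgroup.mem_comap, map_mul, map_inv, hg x]
    have e : (ι ⟨x, hPS x.2⟩)⁻¹ * (g * ι ⟨x, hPS x.2⟩ * g⁻¹) = ⁅(ι ⟨x, hPS x.2⟩)⁻¹, g⁆ := by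
      rw [commutatorElement_def]
      group
    rw [e]
    exact Subgroup.commutator_mem_commutator (Subgroup.mem_top _) (Subgroup.mem_top _)
  have hzc : ι ⟨z, hzS⟩ ∈ commutator G := by
    obtain ⟨z', hz'c, hz'e⟩ := hfc hzf
    have : z' = ⟨z, hzS⟩ := Subtype.ext hz'e
    rw [← this]
    exact hz'c
  -- the functor subgroup of the Sylow subgroup
  have hWT : Wup W (T : Subgroup G) = ((Wup W S).subgroupOf S).map ι := by
    rw [hT]
    exact twup_range hH hS ι hinj
  have hWS : Wup W S ≤ S := wup_le S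
  have hWfin : Finite (Wup W S) := finite_of_le hWS
  have hSNW : S ≤ Subgroup.normalizer ((Wup W S : Subgroup Ω) : Set Ω) := le_normalizer_twup hH hS
  have hSNW' : S ≤ normalizerIn S (Wup W S) := fun y hy => ⟨hy, hSNW hy⟩
  have hTN : (T : Subgroup G) ≤
      Subgroup.normalizer ((Wup W (T : Subgroup G) : Subgroup G) : Set G) :=
    le_normalizer_twup hH T.2
  -- apply the local condition
  have hN := hH.hT G T hcent
  have h1 : ι ⟨z, hzS⟩ ∈ pCore p G ⊓ commutator G := ⟨hzcore, hzc⟩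
  rw [hN] at h1
  obtain ⟨n, hn, hne⟩ := h1.2
  have hTr : ∀ y : G, y ∈ (T : Subgroup G) ↔ y ∈ ι.range := fun y => by rw [hT]
  have hnT : n ∈ ((T.subtype hTN : Sylow p _) : Subgroup _) := by
    rw [Sylow.coe_subtype, Subgroup.mem_subgroupOf]
    exact (hTr _).mpr ⟨⟨z, hzS⟩, hne.symm⟩
  have hfocal := Subgroup.commutator_inf_eq_focalSubgroup (T.subtype hTN)
  have hnf : n ∈ Subgroup.focalSubgroup ((T.subtype hTN : Sylow p _) : Subgroup _) := by
    rw [← hfocal]
    exact ⟨hn, hnT⟩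
  -- the focal subgroup of the normalizer comes from the normalizer system
  have hmain : Subgroup.focalSubgroup ((T.subtype hTN : Sylow p _) : Subgroup _) ≤
      (((Mfoc F (Wup W S)).subgroupOf S).map ι).comap
        (Subgroup.normalizer ((Wup W (T : Subgroup G) : Subgroup G) : Set G)).subtype := by
    unfold Subgroup.focalSubgroup
    rw [Subgroup.closure_le]
    rintro g ⟨hgT, x, hxT, u, rfl⟩
    rw [Sylow.coe_subtype, Subgroup.mem_subgroupOf] at hgT hxT
    obtain ⟨a, ha⟩ := (hTr _).mp hxT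
    obtain ⟨b, hb⟩ := (hTr _).mp hgT
    have hgW : ∀ y ∈ ((Wup W S).subgroupOf S).map ι, (u : G) * y * (u : G)⁻¹ ∈
        ((Wup W S).subgroupOf S).map ι := by
      intro y hy
      rw [← hWT] at hy ⊢
      exact ((Subgroup.mem_normalizer_iff.mp u.2) y).mp hy
    let K : Subgroup ↥S := ι.range.comap ((MulAut.conj (u : G)).toMonoidHom.comp ι)
    have hK : ∀ y : S, y ∈ K ↔ (u : G) * ι y * (u : G)⁻¹ ∈ ι.range := fun y => Iff.rfl
    have hYS : K.map S.subtype ≤ S := by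
      rintro _ ⟨y, -, rfl⟩
      exact y.2
    have hVY : Wup W S ≤ K.map S.subtype := by
      intro v hv
      refine ⟨⟨v, hWS hv⟩, ?_, rfl⟩
      rw [SetLike.mem_coe, hK]
      obtain ⟨w, -, hw⟩ := hgW _ ⟨⟨v, hWS hv⟩, hv, rfl⟩
      exact ⟨w, hw⟩
    have haK : a⁻¹ ∈ K := by
      rw [hK, map_inv, ha]
      refine ⟨a⁻¹ * b, ?_⟩
      rw [map_mul, map_inv, ha, hb]
      rw [commutatorElement_def]
      simp only [Subgroup.coe_mul, Subgroup.coe_inv]
      group
    have hconj : ∀ y : ↥(K.map S.subtype), (u : G) * ι ⟨y, hYS y.2⟩ * (u : G)⁻¹ ∈ ι.range := by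
      rintro ⟨_, y, hy, rfl⟩
      exact (hK y).mp hy
    obtain ⟨ψ, hψ, hψS, hψι⟩ := exists_hom_of_conj F ι hreal hYS (u : G) hconj
    have hψW : ∀ y : ↥(K.map S.subtype), (y : Ω) ∈ Wup W S → ψ y ∈ Wup W S := by
      intro y hy
      obtain ⟨w, hw, hwe⟩ := hgW _ ⟨⟨y, hYS y.2⟩, hy, rfl⟩
      rw [← hψι y] at hwe
      have h2 := hinj hwe
      have h3 : (w : Ω) = ψ y := congrArg Subtype.val h2
      rw [← h3]
      exact hw
    have hψN : ψ ∈ F.normalizerHom (Wup W S) (K.map S.subtype) := by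
      refine mem_normalizerHom_of_le F hVY hψ (hYS.trans hSNW') (fun y => hSNW' (hψS y)) ?_
      apply map_eq_of_map_le (F.injective_of_mem hψ) _ hVY
      rintro _ ⟨y, hy, rfl⟩
      exact hψW y hy
    have haY : ((a⁻¹ : S) : Ω) ∈ K.map S.subtype := ⟨a⁻¹, haK, rfl⟩
    have hmem := mem_mfoc F (Wup W S) hψN ⟨((a⁻¹ : S) : Ω), haY⟩
    have hmemS : (((a⁻¹ : S) : Ω))⁻¹ * ψ ⟨((a⁻¹ : S) : Ω), haY⟩ ∈ S :=
      S.mul_mem (S.inv_mem (a⁻¹).2) (hψS _)
    rw [SetLike.mem_coe, Subgroup.mem_comap]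
    refine ⟨⟨_, hmemS⟩, hmem, ?_⟩
    have e3 : (⟨(((a⁻¹ : S) : Ω))⁻¹ * ψ ⟨((a⁻¹ : S) : Ω), haY⟩, hmemS⟩ : S) =
        (a⁻¹)⁻¹ * ⟨ψ ⟨((a⁻¹ : S) : Ω), haY⟩, hψS _⟩ := Subtype.ext rfl
    rw [e3, map_mul, hψι]
    have e4 : (⟨((⟨((a⁻¹ : S) : Ω), haY⟩ : ↥(K.map S.subtype)) : Ω), hYS haY⟩ : S) = a⁻¹ :=
      Subtype.ext rfl
    rw [e4, inv_inv, map_inv, ha]
    show _ = ((⁅x, u⁆ : ↥(Subgroup.normalizer _)) : G)
    rw [commutatorElement_def]
    simp only [Subgroup.coe_mul, Subgroup.coe_inv]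
    group
  have h2 := hmain hnf
  rw [Subgroup.mem_comap] at h2
  obtain ⟨m, hm, hme⟩ := h2
  have hme' : ι m = ι ⟨z, hzS⟩ := by
    rw [hme]
    exact hne
  have hmz := hinj hme'
  rw [hmz] at hm
  exact hm

end Cfsg.Agent.Helper26.SC
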