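import Mathlib
import Cfsg.Agent.Helper26.SC4
import Cfsg.Agent.Helper26.CB11
import Cfsg.Agent.S5090

set_option autoImplicit false
set_option linter.style.haveILetI false
set_option linter.unusedSectionVars false
set_option linter.unusedVariables false

/-! A functor with the local focal condition controls transfer in every saturated system. -/

namespace Cfsg.Agent.Helper26.SC

open Cfsg Cfsg.FusionSystem Cfsg.Agent.Helper25 Cfsg.Agent.Helper26.MasterRed
  Cfsg.Agent.Helper26.WC Cfsg.Agent.Helper26.GF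
open scoped commutatorElement

universe u

variable {p : ℕ} [Fact p.Prime] {W : ∀ (Q : Type u) [Group Q], Subgroup Q}

set_option maxHeartbeats 1600000 in
/-- The reduction modulo a normal subgroup. -/
theorem lift_core {Ω : Type u} [Group Ω] {S : Subgroup Ω} [Finite S] (hH : THyp p W)
    (hS : IsPGroup p S) (E : FusionSystem S) (hE : E.IsSaturated p)
    {Q : Subgroup Ω} (hQ : E.IsNormal Q) (hQ1 : Q ≠ ⊥) (hQneS : Q ≠ S)
    (IH : ∀ (Ω' : Type u) [Group Ω'] (S' : Subgroup Ω') [Finite S'],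
      Nat.card S' < Nat.card S → IsPGroup p S' → ∀ F' : FusionSystem S', F'.IsSaturated p →
        F'.focalSubgroup ≤ Mfoc F' (Wup W S'))
    (hstep : ∀ U : Subgroup Ω, U ≤ S → S ≤ Subgroup.normalizer (U : Set Ω) → Q ≤ U → Q ≠ U →
      ∀ (P : Subgroup Ω) (ψ : P →* Ω), ψ ∈ E.normalizerHom U P →
        ∀ y : P, (y : Ω)⁻¹ * ψ y ∈ Mfoc E (Wup W S))
    (hint : ∀ z ∈ E.focalSubgroup, z ∈ Q → z ∈ Mfoc E (Wup W S)) :
    E.focalSubgroup ≤ Mfoc E (Wup W S) := by
  have hQS : Q ≤ S := hQ.1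
  have hSN := le_normalizer_of_isNormal E hQ
  have hsc := stronglyClosed_of_isNormal E hQ
  have hQfin : Finite Q := finite_of_le hQS
  have hQn : (Q.subgroupOf S).Normal := Subgroup.normal_subgroupOf_of_le_normalizer hSN
  have hker : ∀ s : S, QuotientGroup.mk' (Q.subgroupOf S) s = 1 ↔ (s : Ω) ∈ Q := by
    intro s
    rw [QuotientGroup.mk'_apply, QuotientGroup.eq_one_iff]
    rfl
  have hrange : (QuotientGroup.mk' (Q.subgroupOf S)).range = ⊤ :=
    MonoidHom.range_eq_top.mpr (QuotientGroup.mk'_surjective _)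
  have hfs := factorSystem_isFactorSystem E hsc (QuotientGroup.mk' (Q.subgroupOf S)) hker
    hrange
  obtain ⟨F', hF'e⟩ : ∃ F' : FusionSystem (⊤ : Subgroup (↥S ⧸ Q.subgroupOf S)),
      F' = factorSystem E hsc (QuotientGroup.mk' (Q.subgroupOf S)) hker hrange := ⟨_, rfl⟩
  rw [← hF'e] at hfs
  have hiff := hfs.2.2.2
  have hS' : IsPGroup p ↥(⊤ : Subgroup (↥S ⧸ Q.subgroupOf S)) :=
    (hS.to_quotient (Q.subgroupOf S)).to_subgroup ⊤
  have hF'sat : F'.IsSaturated p :=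
    factor_isSaturated E hsc (QuotientGroup.mk' (Q.subgroupOf S)) hker hrange F' hiff p hS hE
  have hcard' : Nat.card ↥(⊤ : Subgroup (↥S ⧸ Q.subgroupOf S)) * Nat.card Q = Nat.card S := by
    rw [Nat.card_congr (Subgroup.topEquiv (G := ↥S ⧸ Q.subgroupOf S)).toEquiv,
      Subgroup.card_eq_card_quotient_mul_card_subgroup (Q.subgroupOf S),
      Nat.card_congr (Subgroup.subgroupOfEquivOfLe hQS).toEquiv]
  have hQ1' : 1 < Nat.card Q := one_lt_card_of_ne_bot hQ1
  have hnpos : 0 < Nat.card S := Nat.card_pos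
  have hlt' : Nat.card ↥(⊤ : Subgroup (↥S ⧸ Q.subgroupOf S)) < Nat.card S := by
    have hpos : 0 < Nat.card ↥(⊤ : Subgroup (↥S ⧸ Q.subgroupOf S)) := Nat.card_pos
    nlinarith
  have hW' : F'.focalSubgroup ≤ Mfoc F' (Wup W (⊤ : Subgroup (↥S ⧸ Q.subgroupOf S))) :=
    IH _ _ hlt' hS' F' hF'sat
  have htop : (⊤ : Subgroup (↥S ⧸ Q.subgroupOf S)) ≠ ⊥ := by
    intro h
    apply hQneS
    apply le_antisymm hQS
    intro y hy
    have h1 : QuotientGroup.mk' (Q.subgroupOf S) ⟨y, hy⟩ ∈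
        (⊤ : Subgroup (↥S ⧸ Q.subgroupOf S)) := Subgroup.mem_top _
    rw [h, Subgroup.mem_bot] at h1
    exact (hker _).mp h1
  have hW'1 : Wup W (⊤ : Subgroup (↥S ⧸ Q.subgroupOf S)) ≠ ⊥ := twup_ne_bot hH hS' htop
  have hW'n : (⊤ : Subgroup (↥S ⧸ Q.subgroupOf S)) ≤ Subgroup.normalizer
      ((Wup W (⊤ : Subgroup (↥S ⧸ Q.subgroupOf S)) :
        Subgroup (↥S ⧸ Q.subgroupOf S)) : Set (↥S ⧸ Q.subgroupOf S)) :=
    le_normalizer_twup hH hS'
  -- the preimage `T` of `W(S/Q)`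
  obtain ⟨T, hTe⟩ : ∃ T : Subgroup Ω, T = preimageAlong (QuotientGroup.mk' (Q.subgroupOf S))
      (Wup W (⊤ : Subgroup (↥S ⧸ Q.subgroupOf S))) := ⟨_, rfl⟩
  have hTS : T ≤ S := by rw [hTe]; exact preimageAlong_le _ _
  have hSNT : S ≤ Subgroup.normalizer (T : Set Ω) := by
    intro g hg
    rw [hTe]
    apply mem_normalizer_preimageAlong _ _ ⟨g, hg⟩
    apply hW'n
    exact Subgroup.mem_top _
  have hQT : Q ≤ T := by
    rw [hTe]
    exact ker_le_preimageAlong _ hQS hker _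
  have hQT' : Q ≠ T := by
    intro h
    apply hW'1
    rw [eq_bot_iff]
    intro y hy
    obtain ⟨z, hz⟩ := QuotientGroup.mk'_surjective (Q.subgroupOf S) y
    have hzU : (z : Ω) ∈ T := by
      rw [hTe, mem_preimageAlong]
      exact ⟨z.2, by rw [Subtype.coe_eta, hz]; exact hy⟩
    rw [← h] at hzU
    rw [Subgroup.mem_bot, ← hz]
    exact (hker z).mpr hzU
  have h2 := hstep T hTS hSNT hQT hQT'
  rw [hTe] at h2
  exact focal_le_of_lift p hS E hE hsc (QuotientGroup.mk' (Q.subgroupOf S)) F' hfs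
    (Mfoc E (Wup W S)) (mfoc_le_focal E _) hW' h2 hint

set_option maxHeartbeats 3200000 in
/-- The case of a system with a nontrivial normal subgroup. -/
theorem claimB (hH : THyp p W) (n : ℕ)
    (IH : ∀ m < n, ∀ (Ω : Type u) [Group Ω] (S : Subgroup Ω) [Finite S], Nat.card S = m →
      IsPGroup p S → ∀ F : FusionSystem S, F.IsSaturated p →
        F.focalSubgroup ≤ Mfoc F (Wup W S)) :
    ∀ (k : ℕ) (Ω : Type u) [Group Ω] (S : Subgroup Ω) [Finite S], Nat.card S = n → IsPGroup p S →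
      ∀ F : FusionSystem S, F.IsSaturated p →
      ∀ Q : Subgroup Ω, F.IsNormal Q → Q ≠ ⊥ → Nat.card Q + k = n →
        F.focalSubgroup ≤ Mfoc F (Wup W S) := by
  intro k
  induction k using Nat.strong_induction_on with
  | _ k ihk =>
  intro Ω _ S _ hcard hS F hF Q hQ hQ1 hk
  have hQS : Q ≤ S := hQ.1
  have hSN : S ≤ Subgroup.normalizer (Q : Set Ω) := le_normalizer_of_isNormal F hQ
  have hQfin : Finite Q := finite_of_le hQS
  have hVS : Wup W S ≤ S := wup_le S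
  have hSNV := le_normalizer_twup hH hS
  have hIH' : ∀ (Ω' : Type u) [Group Ω'] (S' : Subgroup Ω') [Finite S'],
      Nat.card S' < Nat.card S → IsPGroup p S' → ∀ F' : FusionSystem S', F'.IsSaturated p →
        F'.focalSubgroup ≤ Mfoc F' (Wup W S') := by
    intro Ω' _ S' _ hlt hS' F' hF'
    rw [hcard] at hlt
    exact IH _ hlt Ω' S' rfl hS' F' hF'
  -- subgroups normal in `S` properly containing `Q`
  have hstepE : ∀ E : FusionSystem S, E.IsSaturated p → ∀ U : Subgroup Ω, U ≤ S →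
      S ≤ Subgroup.normalizer (U : Set Ω) → Q ≤ U → Q ≠ U →
      ∀ (P : Subgroup Ω) (ψ : P →* Ω), ψ ∈ E.normalizerHom U P →
        ∀ y : P, (y : Ω)⁻¹ * ψ y ∈ Mfoc E (Wup W S) := by
    intro E hEsat U hUS hSNU hQU hQU' P ψ hψ y
    have hUfin : Finite U := finite_of_le hUS
    have hcardU := card_lt_of_lt hQU hQU'
    have hcardU' : Nat.card U ≤ n := by
      rw [← hcard]
      exact card_le_of_le hUS
    have hU1 : U ≠ ⊥ := by
      intro h
      apply hQ1
      rw [eq_bot_iff, ← h]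
      exact hQU
    have hUfn := isFullyNormalized_of_normal E hUS hSNU
    have hEU := normalizerSystem_isNormalizerSystem E _ hUS
    have hNS : normalizerIn S U = S :=
      le_antisymm inf_le_left (fun y hy => ⟨hy, hSNU hy⟩)
    haveI hNfin : Finite (normalizerIn S U) := finite_of_le inf_le_left
    have hNp : IsPGroup p (normalizerIn S U) := isPGroup_of_le hS inf_le_left
    have hNcard : Nat.card (normalizerIn S U) = n := by
      rw [hNS]
      exact hcard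
    have hEUsat := normalizerSystem_isSaturated p hS E hEsat _ hUfn _ hEU
    have hEUn := normalizerSystem_isNormal E hUS _ hEU
    have h1 : (normalizerSystem E U hUS).focalSubgroup ≤
        Mfoc (normalizerSystem E U hUS) (Wup W (normalizerIn S U)) :=
      ihk (n - Nat.card U) (by omega) Ω _ hNcard hNp _ hEUsat U hEUn hU1 (by omega)
    rw [wup_congr hNS] at h1
    have h2 : ψ ∈ (normalizerSystem E U hUS).Hom P := hψ
    have h3 := h1 (mem_focal _ h2 y)
    exact mfoc_mono (normalizerSystem E U hUS) E inf_le_left (fun P φ hφ => hφ.1) _ h3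
  by_cases hCQ : centralizerIn S Q ≤ Q
  · by_cases hQeS : Q = S
    · -- `S` is normal in the system
      have hn : F.IsNormal S := (congrArg (fun X => F.IsNormal X) hQeS).mp hQ
      apply focal_le_of_forall
      intro P φ hφ x
      exact mem_mfoc F _ (mem_normalizerHom_of_top_normal F hn hVS (twup_char hH hS) hφ) x
    · -- the constrained case
      have hQc : F.IsCentric Q := by
        refine ⟨hQS, fun Q' hQ' => ?_⟩
        rw [eq_of_isConj_of_isNormal F hQ hQ']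
        exact hCQ
      have hcon : F.IsConstrained p := ⟨hF, Q, hQ, hQc⟩
      obtain ⟨G, hG, ι, hM⟩ := Cfsg.Agent.S5090.result p hS F hcon
      exact lift_core hH hS F hF hQ hQ1 hQeS hIH' (hstepE F hF)
        (inter_le_of_model hH hS F ι hM hQ)
  · have hQneS : Q ≠ S := by
      intro h
      apply hCQ
      rw [h]
      exact inf_le_left
    -- the system `S C_F(Q)`
    obtain ⟨E₁, hE₁e⟩ : ∃ E₁ : FusionSystem S, E₁ = scSys F Q hQS hSN := ⟨_, rfl⟩
    have hE₁sat : E₁.IsSaturated p := by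
      rw [hE₁e]
      exact scSys_isSaturated p hS F hF hQ
    have hE₁Q : E₁.IsNormal Q := by
      rw [hE₁e]
      exact scSys_isNormal F Q hQS hSN
    have hE₁sub : ∀ (P : Subgroup Ω) (φ : P →* Ω), φ ∈ E₁.Hom P → φ ∈ F.Hom P := by
      rw [hE₁e]
      exact scSys_sub F Q hQS hSN
    have hE₁id : ∀ (P : Subgroup Ω) (hQP : Q ≤ P) (θ : P →* Ω), θ ∈ F.Hom P →
        (∀ q : Q, θ ⟨q, hQP q.2⟩ = q) → θ ∈ E₁.Hom P := by
      rw [hE₁e]
      exact scSys_mem_of_id F Q hQS hSN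
    have hE₁conj : ∀ (P : Subgroup Ω) (hQP : Q ≤ P) (φ : P →* Ω), φ ∈ E₁.Hom P →
        ∃ s ∈ S, ∀ q : Q, φ ⟨q, hQP q.2⟩ = s * q * s⁻¹ := by
      rw [hE₁e]
      exact scSys_conj_of_mem F Q hQS hSN
    -- the derived subgroup of `S`
    have hder : ⁅S, S⁆ ≤ Mfoc E₁ (Wup W S) := by
      rw [Subgroup.commutator_le]
      intro a ha g hg
      have h1 := mfoc_conj E₁ hVS hSNV a⁻¹ (S.inv_mem ha) g hg
      have e : ⁅a, g⁆ = (a⁻¹)⁻¹ * (g * a⁻¹ * g⁻¹) := by
        rw [commutatorElement_def]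
        group
      rw [e]
      exact h1
    have hintE₁ : ∀ z ∈ E₁.focalSubgroup, z ∈ Q → z ∈ Mfoc E₁ (Wup W S) := by
      intro z hzf hzQ
      have hzS : z ∈ S := hQS hzQ
      have hwc : Cfsg.Agent.Helper26.CB.WeakCentral E₁ ⟨z, hzS⟩ := by
        intro m P ψ hψ h s hs
        obtain ⟨χ, hχ, hext, -⟩ := hE₁Q.2 P ψ hψ
        obtain ⟨t, ht, hconj⟩ := hE₁conj (P ⊔ Q) le_sup_right χ hχ
        have hzmQ : z ^ m ∈ Q := Q.pow_mem hzQ m
        have hzmP : z ^ m ∈ P := h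
        have h5 := hconj ⟨z ^ m, hzmQ⟩
        have h6 := hext ⟨z ^ m, hzmP⟩
        have e0 : Subgroup.inclusion (le_sup_left : P ≤ P ⊔ Q) ⟨z ^ m, hzmP⟩ =
            ⟨((⟨z ^ m, hzmQ⟩ : Q) : Ω), (le_sup_right : Q ≤ P ⊔ Q) hzmQ⟩ := Subtype.ext rfl
        have h7 : (s : Ω) = t * z ^ m * t⁻¹ := by
          rw [← hs]
          show ψ ⟨z ^ m, hzmP⟩ = _
          rw [← h6, e0, h5]
        have h8 : s = (⟨t, ht⟩ : S) * (⟨z, hzS⟩ : S) ^ m * (⟨t, ht⟩ : S)⁻¹ := by
          apply Subtype.ext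
          rw [h7]
          simp
        rw [h8, map_mul, map_mul, map_inv, map_pow]
        exact mul_inv_cancel_comm _ _
      have h9 := Cfsg.Agent.Helper26.CB.mem_commutator_of_weakCentral p hS E₁ hE₁sat hwc hzf
      exact hder h9
    have hfocE₁ : E₁.focalSubgroup ≤ Mfoc E₁ (Wup W S) :=
      lift_core hH hS E₁ hE₁sat hE₁Q hQ1 hQneS hIH' (hstepE E₁ hE₁sat) hintE₁
    have hM₁F : Mfoc E₁ (Wup W S) ≤ Mfoc F (Wup W S) := mfoc_mono E₁ F le_rfl hE₁sub _
    -- the subsystem of the maps moving elements inside the focal subgroup of `N_F(W(S))`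
    have hM := mfoc_conj F hVS hSNV
    obtain ⟨𝒩, h𝒩e⟩ : ∃ 𝒩 : FusionSystem S, 𝒩 = focSys F (Mfoc F (Wup W S)) hM := ⟨_, rfl⟩
    have h𝒩iff : ∀ (P : Subgroup Ω) (φ : P →* Ω), φ ∈ 𝒩.Hom P ↔
        φ ∈ F.Hom P ∧ ∀ x : P, (x : Ω)⁻¹ * φ x ∈ Mfoc F (Wup W S) := by
      rw [h𝒩e]
      exact mem_focSys_iff F _ hM
    have h𝒩F : ∀ (R : Subgroup Ω) (θ : R →* Ω), θ ∈ 𝒩.Hom R → θ ∈ F.Hom R :=
      fun R θ h => ((h𝒩iff R θ).mp h).1
    have hsc' : ∀ (P : Subgroup Ω) (hQP : Q ≤ P) (θ : P →* Ω), θ ∈ F.Hom P →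
        (∀ q : Q, θ ⟨q, hQP q.2⟩ = q) → θ ∈ 𝒩.Hom P := by
      intro P hQP θ hθ hid
      rw [h𝒩iff]
      exact ⟨hθ, fun x => hM₁F (hfocE₁ (mem_focal E₁ (hE₁id P hQP θ hθ hid) x))⟩
    have hR : SCtl F (Q ⊔ centralizerIn S Q) 𝒩 := by
      intro P ψ hψ
      rw [h𝒩iff]
      refine ⟨hψ.1, fun y => hstepE F hF _ (sup_le hQS inf_le_left)
        (le_normalizer_sup_of hSN (le_normalizer_centralizerIn hSN)) le_sup_left ?_ P ψ hψ y⟩
      intro h
      exact hCQ (le_of_le_of_eq le_sup_right h.symm)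
    have hall := le_of_sc_of_sctl p hS F hF 𝒩 h𝒩F hQ hsc' hR
    apply focal_le_of_forall
    intro P φ hφ x
    exact ((h𝒩iff P φ).mp (hall P φ hφ)).2 x

end Cfsg.Agent.Helper26.SC
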