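import Mathlib
import Cfsg.Agent.Helper26.SC5

set_option autoImplicit false
set_option linter.style.haveILetI false
set_option linter.unusedSectionVars false
set_option linter.unusedVariables false

/-! A functor with the local focal condition controls transfer in every saturated system:
the main induction. -/

namespace Cfsg.Agent.Helper26.SC

open Cfsg Cfsg.FusionSystem Cfsg.Agent.Helper25 Cfsg.Agent.Helper26.MasterRed
  Cfsg.Agent.Helper26.WC Cfsg.Agent.Helper26.GF

universe u

variable {p : ℕ} [Fact p.Prime] {W : ∀ (Q : Type u) [Group Q], Subgroup Q}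

set_option maxHeartbeats 1600000 in
/-- **A functor with the local focal condition controls transfer.** -/
theorem master (hH : THyp p W) :
    ∀ (n : ℕ) (Ω : Type u) [Group Ω] (S : Subgroup Ω) [Finite S], Nat.card S = n →
      IsPGroup p S → ∀ F : FusionSystem S, F.IsSaturated p →
        F.focalSubgroup ≤ Mfoc F (Wup W S) := by
  intro n
  induction n using Nat.strong_induction_on with
  | _ n IH =>
  intro Ω _ S _ hcard hS F hF
  have hVS : Wup W S ≤ S := wup_le S
  have hSNV := le_normalizer_twup hH hS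
  have hM := mfoc_conj F hVS hSNV
  obtain ⟨𝒩, h𝒩e⟩ : ∃ 𝒩 : FusionSystem S, 𝒩 = focSys F (Mfoc F (Wup W S)) hM := ⟨_, rfl⟩
  have h𝒩iff : ∀ (P : Subgroup Ω) (φ : P →* Ω), φ ∈ 𝒩.Hom P ↔
      φ ∈ F.Hom P ∧ ∀ x : P, (x : Ω)⁻¹ * φ x ∈ Mfoc F (Wup W S) := by
    rw [h𝒩e]
    exact mem_focSys_iff F _ hM
  have h𝒩F : ∀ (R : Subgroup Ω) (θ : R →* Ω), θ ∈ 𝒩.Hom R → θ ∈ F.Hom R :=
    fun R θ h => ((h𝒩iff R θ).mp h).1
  suffices hall : ∀ (P : Subgroup Ω) (φ : P →* Ω), φ ∈ F.Hom P → φ ∈ 𝒩.Hom P by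
    apply focal_le_of_forall
    intro P φ hφ x
    exact ((h𝒩iff P φ).mp (hall P φ hφ)).2 x
  by_cases hN : ∀ Q : Subgroup Ω, F.IsFullyNormalized Q → Q ≠ ⊥ → SCtl F Q 𝒩
  · exact le_of_forall_sctl p hS F hF 𝒩 h𝒩F hN
  · exfalso
    have hN' : ∃ Q : Subgroup Ω, F.IsFullyNormalized Q ∧ Q ≠ ⊥ ∧ ¬ SCtl F Q 𝒩 := by
      by_contra hc
      apply hN
      intro Q h1 h2
      by_contra h3
      exact hc ⟨Q, h1, h2, h3⟩
    -- choose `Q` with `|N_S(Q)|` as large as possible
    let T : Set ℕ := {m | ∃ Q : Subgroup Ω, F.IsFullyNormalized Q ∧ Q ≠ ⊥ ∧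
      ¬ SCtl F Q 𝒩 ∧ Nat.card (normalizerIn S Q) = m}
    have hTne : T.Nonempty := by
      obtain ⟨Q, h1, h2, h3⟩ := hN'
      exact ⟨_, Q, h1, h2, h3, rfl⟩
    have hbdd : BddAbove T := by
      refine ⟨Nat.card S, ?_⟩
      rintro m ⟨Q, -, -, -, rfl⟩
      exact card_le_of_le inf_le_left
    obtain ⟨Q, hQfn, hQ1, hQni, hQc⟩ := Nat.sSup_mem hTne hbdd
    have hmax : ∀ Q' : Subgroup Ω, F.IsFullyNormalized Q' → Q' ≠ ⊥ →
        Nat.card (normalizerIn S Q) < Nat.card (normalizerIn S Q') → SCtl F Q' 𝒩 := by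
      intro Q' h1 h2 h3
      by_contra h4
      have h5 : Nat.card (normalizerIn S Q') ≤ sSup T := le_csSup hbdd ⟨Q', h1, h2, h4, rfl⟩
      omega
    have hRS : normalizerIn S Q ≤ S := inf_le_left
    haveI hRfin : Finite (normalizerIn S Q) := finite_of_le hRS
    have hRp : IsPGroup p (normalizerIn S Q) := isPGroup_of_le hS hRS
    have hE := normalizerSystem_isNormalizerSystem F Q hQfn.1
    have hEsat := normalizerSystem_isSaturated p hS F hF Q hQfn _ hE
    have hQR : Q ≤ normalizerIn S Q := fun y hy => ⟨hQfn.1 hy, Subgroup.le_normalizer hy⟩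
    have hQfin : Finite Q := finite_of_le hQfn.1
    have hEsub : ∀ (P : Subgroup Ω) (φ : P →* Ω), φ ∈ (normalizerSystem F Q hQfn.1).Hom P →
        φ ∈ F.Hom P := fun P φ hφ => hφ.1
    apply hQni
    by_cases hRe : normalizerIn S Q = S
    · have hEn := normalizerSystem_isNormal F hQfn.1 _ hE
      have hRcard : Nat.card (normalizerIn S Q) = n := by
        rw [hRe]
        exact hcard
      have hQle : Nat.card Q ≤ n := by
        rw [← hcard]
        exact card_le_of_le hQfn.1
      have h1 : (normalizerSystem F Q hQfn.1).focalSubgroup ≤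
          Mfoc (normalizerSystem F Q hQfn.1) (Wup W (normalizerIn S Q)) :=
        claimB hH n IH (n - Nat.card Q) Ω _ hRcard hRp _ hEsat Q hEn hQ1 (by omega)
      rw [wup_congr hRe] at h1
      intro P φ hφ
      rw [h𝒩iff]
      have h2 : φ ∈ (normalizerSystem F Q hQfn.1).Hom P := hφ
      refine ⟨hφ.1, fun x => ?_⟩
      exact mfoc_mono (normalizerSystem F Q hQfn.1) F inf_le_left hEsub _
        (h1 (mem_focal _ h2 x))
    · have hlt : Nat.card (normalizerIn S Q) < n := by
        rw [← hcard]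
        exact card_lt_of_lt hRS hRe
      have hRne : normalizerIn S Q ≠ ⊥ := by
        intro h
        apply hQ1
        rw [eq_bot_iff, ← h]
        exact hQR
      have hUR : Wup W (normalizerIn S Q) ≤ normalizerIn S Q := wup_le _
      have hUc := twup_char hH hRp
      have hctlU : SCtl F (Wup W (normalizerIn S Q)) 𝒩 :=
        sctl_of_char_of_max p hS F hF 𝒩 h𝒩F Q hmax hRe hUR (twup_ne_bot hH hRp hRne) hUc
      have h1 : (normalizerSystem F Q hQfn.1).focalSubgroup ≤
          Mfoc (normalizerSystem F Q hQfn.1) (Wup W (normalizerIn S Q)) :=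
        IH _ hlt Ω _ rfl hRp _ hEsat
      have h4 : Mfoc (normalizerSystem F Q hQfn.1) (Wup W (normalizerIn S Q)) ≤
          Mfoc F (Wup W S) := by
        apply mfoc_le_of_forall
        intro P' ψ hψ y
        have h5 := normalizerHom_mono (normalizerSystem F Q hQfn.1) F inf_le_left hEsub _ _ hψ
        exact ((h𝒩iff P' ψ).mp (hctlU P' h5)).2 y
      intro P φ hφ
      rw [h𝒩iff]
      have h2 : φ ∈ (normalizerSystem F Q hQfn.1).Hom P := hφ
      exact ⟨hφ.1, fun x => h4 (h1 (mem_focal _ h2 x))⟩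

/-- The focal subgroup of the normalizer system of the functor subgroup is the focal subgroup of
the whole system. -/
theorem focal_normalizer_eq {Ω : Type u} [Group Ω] {S : Subgroup Ω} [Finite S] (hH : THyp p W)
    (hS : IsPGroup p S) (F : FusionSystem S) (hF : F.IsSaturated p)
    (N : FusionSystem (normalizerIn S (Wup W S))) (hN : F.IsNormalizerSystem (Wup W S) N) :
    N.focalSubgroup = F.focalSubgroup := by
  rw [focal_eq_mfoc F _ N hN]
  apply le_antisymm
  · exact mfoc_le_focal F _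
  · exact master hH _ Ω S rfl hS F hF

end Cfsg.Agent.Helper26.SC
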