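import Mathlib
import Cfsg.Agent.Helper26.SC6
import Cfsg.Agent.Helper26.ZI7
import Cfsg.Agent.Helper10.KInfTransfer
import Cfsg.Agent.Helper14.PCore

set_option autoImplicit false
set_option linter.style.haveILetI false
set_option linter.unusedSectionVars false
set_option linter.unusedVariables false

/-! For `p ≥ 5`: a saturated fusion system whose automizer of `S` is a `p`-group has a proper
focal subgroup (Glauberman's `K_∞` controls transfer). -/

namespace Cfsg.Agent.Helper26.KI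

open Cfsg Cfsg.FusionSystem Cfsg.Agent.Helper25 Cfsg.Agent.Helper26.MasterRed
  Cfsg.Agent.Helper26.WC Cfsg.Agent.Helper26.SC
open scoped commutatorElement

universe u

variable {p : ℕ} [Fact p.Prime]

theorem thyp_kInf (hp : 5 ≤ p) : THyp.{u} p Cfsg.kInfLower where
  hW1 := (Cfsg.Agent.Helper10.kInfLower_isCharPFunctor (p := p)).1
  hW2 := (Cfsg.Agent.Helper10.kInfLower_isCharPFunctor (p := p)).2
  hT := by
    intro G _ _ P hcent
    have h1 := Cfsg.Agent.Helper10.kInfLower_focal hp P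
    apply le_antisymm
    · intro x hx
      refine ⟨hx.1, ?_⟩
      rw [Subgroup.map_subtype_commutator]
      exact h1 ⟨Cfsg.Agent.Helper14.pCore_le_sylow p P hx.1, hx.2⟩
    · intro x hx
      refine ⟨hx.1, ?_⟩
      have h2 := hx.2
      rw [Subgroup.map_subtype_commutator] at h2
      rw [commutator_def]
      exact Subgroup.commutator_mono le_top le_top h2

variable {Ω : Type*} [Group Ω]

/-- every automorphism of `S` in the system is inner -/
def AutInner {S : Subgroup Ω} (F : FusionSystem S) : Prop :=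
  ∀ α ∈ F.autGroup S, ∃ g ∈ S, ∀ x : S, ((α x : S) : Ω) = g * x * g⁻¹

theorem autInner_of_sub {R S : Subgroup Ω} (h : R = S) (E : FusionSystem R) (F : FusionSystem S)
    (hsub : ∀ (P : Subgroup Ω) (φ : P →* Ω), φ ∈ E.Hom P → φ ∈ F.Hom P) (hF : AutInner F) :
    AutInner E := by
  subst h
  intro α hα
  apply hF α
  rw [mem_autGroup_iff F le_rfl]
  exact hsub _ _ ((mem_autGroup_iff E le_rfl α).mp hα)

theorem autInner_of_isPGroup {S : Subgroup Ω} [Finite S] (F : FusionSystem S)
    (hF : F.IsSaturated p) (haut : IsPGroup p ↥(F.autGroup S)) : AutInner F := by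
  intro α hα
  obtain ⟨k, hk⟩ := haut ⟨α, hα⟩
  have hk' : α ^ (p ^ k) = 1 := congrArg Subtype.val hk
  exact (mem_autInducedBy_iff S S α).mp
    (Cfsg.Agent.Helper26.ZI.pElement_mem_autInducedBy F hF hα hk')

/-- with `K = S`: the focal subgroup of the normalizer system is the commutator subgroup -/
theorem mfoc_le_commutator {S : Subgroup Ω} [Finite S] (F : FusionSystem S) (hF : AutInner F) :
    Mfoc F S ≤ ⁅S, S⁆ := by
  apply mfoc_le_of_forall
  intro P φ hφ x
  obtain ⟨hφF, hPN, hval, ψ, hψ, hext, hmap⟩ := hφ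
  have hPS : P ≤ S := (F.le_of_mem hφF).1
  have hsup : S = P ⊔ S := (sup_eq_right.mpr hPS).symm
  have hψ' := cast_mem F hsup hψ
  obtain ⟨ψ', hψ'e⟩ : ∃ ψ' : S →* Ω, ψ' = ψ.comp (Subgroup.inclusion hsup.le) := ⟨_, rfl⟩
  rw [← hψ'e] at hψ'
  have hr := range_eq_of_hom_top F hψ'
  have hα : isoOfHom ψ' (F.injective_of_mem hψ') hr ∈ F.autGroup S := by
    rw [mem_autGroup_iff F le_rfl]
    have e : autHom (isoOfHom ψ' (F.injective_of_mem hψ') hr) = ψ' := by ext y; rfl
    rw [e]
    exact hψ'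
  obtain ⟨g, hg, hgx⟩ := hF _ hα
  have h1 : φ x = g * x * g⁻¹ := by
    have h2 := hgx ⟨x, hPS x.2⟩
    rw [← hext x]
    have h3 : ((isoOfHom ψ' (F.injective_of_mem hψ') hr ⟨x, hPS x.2⟩ : S) : Ω) =
        ψ (Subgroup.inclusion le_sup_left x) := by
      show ψ' ⟨x, hPS x.2⟩ = _
      rw [hψ'e]
      rfl
    rw [← h3]
    exact h2
  rw [h1]
  have e : (x : Ω)⁻¹ * (g * x * g⁻¹) = ⁅(x : Ω)⁻¹, g⁆ := by
    rw [commutatorElement_def]
    group
  rw [e]
  exact Subgroup.commutator_mem_commutator (S.inv_mem (hPS x.2)) hg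

theorem commutator_ne_self {S : Subgroup Ω} [Finite S] (hS : IsPGroup p S) (hS1 : S ≠ ⊥) :
    ⁅S, S⁆ ≠ S := by
  intro h
  haveI : Nontrivial S := (Subgroup.nontrivial_iff_ne_bot S).mpr hS1
  haveI : Group.IsNilpotent S := hS.isNilpotent
  have hlt := Group.IsSolvable.commutator_lt_top_of_nontrivial S
  apply hlt.ne
  rw [eq_top_iff]
  intro s _
  have h1 : (s : Ω) ∈ ⁅S, S⁆ := by rw [h]; exact s.2
  rw [← Subgroup.map_subtype_commutator] at h1
  obtain ⟨s', hs', hss⟩ := h1
  have e : s' = s := Subtype.ext hss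
  rw [← e]
  exact hs'

end Cfsg.Agent.Helper26.KI
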