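import Mathlib
import Cfsg.Agent.Helper26.KI1
import Cfsg.Agent.Helper25.FusionIso2

set_option autoImplicit false
set_option linter.style.haveILetI false
set_option linter.unusedSectionVars false
set_option linter.unusedVariables false

/-! For `p ≥ 5`: a saturated fusion system whose automizer of `S` is a `p`-group has a proper
focal subgroup: the induction. -/

namespace Cfsg.Agent.Helper26.KI

open Cfsg Cfsg.FusionSystem Cfsg.Agent.Helper25 Cfsg.Agent.Helper26.MasterRed
  Cfsg.Agent.Helper26.WC Cfsg.Agent.Helper26.SC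
open scoped commutatorElement

universe u

variable {p : ℕ} [Fact p.Prime]

set_option maxHeartbeats 3200000 in
theorem focal_ne (hp : 5 ≤ p) : ∀ (n : ℕ) (Ω : Type u) [Group Ω] (S : Subgroup Ω) [Finite S],
    Nat.card S = n → IsPGroup p S → S ≠ ⊥ → ∀ F : FusionSystem S, F.IsSaturated p →
      AutInner F → F.focalSubgroup ≠ S := by
  intro n
  induction n using Nat.strong_induction_on with
  | _ n IH =>
  intro Ω _ S _ hcard hS hS1 F hF haut hfoc
  have hH := thyp_kInf.{u} (p := p) hp
  have hKS : Wup kInfLower S ≤ S := wup_le S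
  have hK1 := twup_ne_bot hH hS hS1
  have hSN := le_normalizer_twup hH hS
  have h1 := master hH _ Ω S rfl hS F hF
  have h2 : Mfoc F (Wup kInfLower S) = S :=
    le_antisymm ((mfoc_le_focal F _).trans (focal_le_S F)) ((le_of_eq hfoc.symm).trans h1)
  by_cases hKe : Wup kInfLower S = S
  · rw [hKe] at h2
    have h3 := mfoc_le_commutator F haut
    rw [h2] at h3
    apply commutator_ne_self hS hS1
    apply le_antisymm _ h3
    rw [Subgroup.commutator_le]
    intro a ha b hb
    exact S.mul_mem (S.mul_mem (S.mul_mem ha hb) (S.inv_mem ha)) (S.inv_mem hb)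
  · obtain ⟨K, hKdef⟩ : ∃ K : Subgroup Ω, K = Wup kInfLower S := ⟨_, rfl⟩
    rw [← hKdef] at hKS hK1 hSN h2 hKe
    have hKfn := isFullyNormalized_of_normal F hKS hSN
    have hE := normalizerSystem_isNormalizerSystem F K hKS
    obtain ⟨E, hEe⟩ : ∃ E : FusionSystem (normalizerIn S K), E = normalizerSystem F K hKS :=
      ⟨_, rfl⟩
    rw [← hEe] at hE
    have hRS : normalizerIn S K = S := le_antisymm inf_le_left (fun x hx => ⟨hx, hSN hx⟩)
    haveI hRfin : Finite (normalizerIn S K) := finite_of_le inf_le_left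
    have hRp : IsPGroup p (normalizerIn S K) := isPGroup_of_le hS inf_le_left
    have hEsat := normalizerSystem_isSaturated p hS F hF K hKfn E hE
    have hEn := normalizerSystem_isNormal F hKS E hE
    have hsc := stronglyClosed_of_isNormal E hEn
    have hEsub : ∀ (P : Subgroup Ω) (φ : P →* Ω), φ ∈ E.Hom P → φ ∈ F.Hom P := by
      intro P φ h
      rw [hE P] at h
      exact h.1
    have hEaut : AutInner E := autInner_of_sub hRS E F hEsub haut
    have hEfoc : E.focalSubgroup = normalizerIn S K := by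
      rw [focal_eq_mfoc F K E hE, h2, hRS]
    have hRN : normalizerIn S K ≤ Subgroup.normalizer (K : Set Ω) := inf_le_right
    have hKR : K ≤ normalizerIn S K := hEn.1
    have hKfin : Finite K := finite_of_le hKS
    haveI hKn : (K.subgroupOf (normalizerIn S K)).Normal :=
      Subgroup.normal_subgroupOf_of_le_normalizer hRN
    have hker : ∀ s : normalizerIn S K,
        QuotientGroup.mk' (K.subgroupOf (normalizerIn S K)) s = 1 ↔ (s : Ω) ∈ K := by
      intro s
      rw [QuotientGroup.mk'_apply, QuotientGroup.eq_one_iff]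
      rfl
    have hrange : (QuotientGroup.mk' (K.subgroupOf (normalizerIn S K))).range = ⊤ :=
      MonoidHom.range_eq_top.mpr (QuotientGroup.mk'_surjective _)
    have hfs := factorSystem_isFactorSystem E hsc
      (QuotientGroup.mk' (K.subgroupOf (normalizerIn S K))) hker hrange
    obtain ⟨E', hE'e⟩ : ∃ E' : FusionSystem
        (⊤ : Subgroup (↥(normalizerIn S K) ⧸ K.subgroupOf (normalizerIn S K))),
        E' = factorSystem E hsc (QuotientGroup.mk' (K.subgroupOf (normalizerIn S K)))
          hker hrange := ⟨_, rfl⟩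
    rw [← hE'e] at hfs
    have hiff := hfs.2.2.2
    have hS' : IsPGroup p ↥(⊤ : Subgroup (↥(normalizerIn S K) ⧸
        K.subgroupOf (normalizerIn S K))) :=
      (hRp.to_quotient (K.subgroupOf (normalizerIn S K))).to_subgroup ⊤
    have hE'sat : E'.IsSaturated p :=
      factor_isSaturated E hsc (QuotientGroup.mk' (K.subgroupOf (normalizerIn S K))) hker hrange
        E' hiff p hRp hEsat
    have hRcard : Nat.card (normalizerIn S K) = n := by rw [hRS]; exact hcard
    have hcard' : Nat.card ↥(⊤ : Subgroup (↥(normalizerIn S K) ⧸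
        K.subgroupOf (normalizerIn S K))) * Nat.card K = n := by
      rw [Nat.card_congr (Subgroup.topEquiv
        (G := ↥(normalizerIn S K) ⧸ K.subgroupOf (normalizerIn S K))).toEquiv, ← hRcard,
        Subgroup.card_eq_card_quotient_mul_card_subgroup (K.subgroupOf (normalizerIn S K)),
        Nat.card_congr (Subgroup.subgroupOfEquivOfLe hKR).toEquiv]
    have hK1' : 1 < Nat.card K := one_lt_card_of_ne_bot hK1
    have hnpos : 0 < n := by rw [← hcard]; exact Nat.card_pos
    have hlt' : Nat.card ↥(⊤ : Subgroup (↥(normalizerIn S K) ⧸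
        K.subgroupOf (normalizerIn S K))) < n := by
      have hpos : 0 < Nat.card ↥(⊤ : Subgroup (↥(normalizerIn S K) ⧸
        K.subgroupOf (normalizerIn S K))) := Nat.card_pos
      nlinarith
    have htop : (⊤ : Subgroup (↥(normalizerIn S K) ⧸ K.subgroupOf (normalizerIn S K))) ≠ ⊥ := by
      intro h
      apply hKe
      apply le_antisymm hKS
      intro x hx
      have hxR : x ∈ normalizerIn S K := by rw [hRS]; exact hx
      have h3 : QuotientGroup.mk' (K.subgroupOf (normalizerIn S K)) ⟨x, hxR⟩ ∈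
          (⊤ : Subgroup (↥(normalizerIn S K) ⧸ K.subgroupOf (normalizerIn S K))) :=
        Subgroup.mem_top _
      rw [h, Subgroup.mem_bot] at h3
      exact (hker ⟨x, hxR⟩).mp h3
    -- the automizer of the quotient is inner
    have hpre : normalizerIn S K =
        preimageAlong (QuotientGroup.mk' (K.subgroupOf (normalizerIn S K))) ⊤ := by
      apply le_antisymm
      · intro x hx
        rw [mem_preimageAlong]
        exact ⟨hx, Subgroup.mem_top _⟩
      · exact preimageAlong_le _ ⊤
    have hE'aut : AutInner E' := by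
      intro α' hα'
      have h3 : autHom α' ∈ E'.Hom ⊤ := (mem_autGroup_iff E' le_rfl α').mp hα'
      obtain ⟨-, φ, hφ, hind⟩ := (hiff _ _).mp h3
      have hφ₁ := cast_mem E hpre hφ
      obtain ⟨φ₁, hφ₁e⟩ : ∃ φ₁ : ↥(normalizerIn S K) →* Ω,
          φ₁ = φ.comp (Subgroup.inclusion hpre.le) := ⟨_, rfl⟩
      rw [← hφ₁e] at hφ₁
      have hr := range_eq_of_hom_top E hφ₁
      have hα : isoOfHom φ₁ (E.injective_of_mem hφ₁) hr ∈ E.autGroup (normalizerIn S K) := by
        rw [mem_autGroup_iff E le_rfl]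
        have e : autHom (isoOfHom φ₁ (E.injective_of_mem hφ₁) hr) = φ₁ := by ext y; rfl
        rw [e]
        exact hφ₁
      obtain ⟨g, hg, hgx⟩ := hEaut _ hα
      refine ⟨QuotientGroup.mk' (K.subgroupOf (normalizerIn S K)) ⟨g, hg⟩,
        Subgroup.mem_top _, fun y' => ?_⟩
      obtain ⟨r, hr'⟩ := QuotientGroup.mk'_surjective (K.subgroupOf (normalizerIn S K))
        (y' : ↥(normalizerIn S K) ⧸ K.subgroupOf (normalizerIn S K))
      have hrpre : (r : Ω) ∈
          preimageAlong (QuotientGroup.mk' (K.subgroupOf (normalizerIn S K))) ⊤ := hpre.le r.2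
      have hφS : φ ⟨r, hrpre⟩ ∈ normalizerIn S K := (E.le_of_mem hφ).2 _
      have h5 := inducedAlong_apply_eq (QuotientGroup.mk' (K.subgroupOf (normalizerIn S K)))
        hind ⟨r, hrpre⟩ y' r.2 (by rw [← hr']) hφS
      have h6 : φ ⟨r, hrpre⟩ = g * r * g⁻¹ := by
        have h7 := hgx r
        have h8 : ((isoOfHom φ₁ (E.injective_of_mem hφ₁) hr r : ↥(normalizerIn S K)) : Ω) =
            φ ⟨r, hrpre⟩ := by
          show φ₁ r = _
          rw [hφ₁e]
          rfl
        rw [← h8]
        exact h7
      show autHom α' y' = _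
      rw [h5]
      have e : (⟨φ ⟨r, hrpre⟩, hφS⟩ : ↥(normalizerIn S K)) = ⟨g, hg⟩ * r * ⟨g, hg⟩⁻¹ :=
        Subtype.ext h6
      rw [e, map_mul, map_mul, map_inv, hr']
    -- the image of the focal subgroup
    have hmor := isSurjectiveMorphism_of_isFactorSystem p hRp E hEsat hsc
      (QuotientGroup.mk' (K.subgroupOf (normalizerIn S K))) E' hfs
    obtain ⟨⟨hθS, hmorph⟩, -, -⟩ := hmor
    have himg : E.focalSubgroup ≤ ((E'.focalSubgroup).comap
        (QuotientGroup.mk' (K.subgroupOf (normalizerIn S K)))).map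
          (normalizerIn S K).subtype := by
      apply focal_le_of_forall
      intro P φ hφ x
      obtain ⟨φ', hφ', hind⟩ := hmorph P φ hφ
      obtain ⟨hP, hφS, hP', he⟩ := hind
      have h4 := mem_focal E' hφ' ⟨QuotientGroup.mk' (K.subgroupOf (normalizerIn S K))
        ⟨x, hP x.2⟩, hP' x⟩
      rw [he x] at h4
      refine ⟨(⟨x, hP x.2⟩ : ↥(normalizerIn S K))⁻¹ * ⟨φ x, hφS x⟩, ?_, rfl⟩
      show QuotientGroup.mk' (K.subgroupOf (normalizerIn S K))
        ((⟨x, hP x.2⟩ : ↥(normalizerIn S K))⁻¹ * ⟨φ x, hφS x⟩) ∈ E'.focalSubgroup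
      rw [map_mul, map_inv]
      exact h4
    apply IH _ hlt' _ _ rfl hS' htop E' hE'sat hE'aut
    rw [eq_top_iff]
    intro y _
    obtain ⟨r, hr⟩ := QuotientGroup.mk'_surjective (K.subgroupOf (normalizerIn S K)) y
    have hrf : (r : Ω) ∈ E.focalSubgroup := by rw [hEfoc]; exact r.2
    obtain ⟨r', hr', hrr⟩ := himg hrf
    have e : r' = r := Subtype.ext hrr
    rw [e] at hr'
    rw [← hr]
    exact hr'

end Cfsg.Agent.Helper26.KI
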