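import Mathlib
import Cfsg.Agent.Helper26.MSupDefs
import Cfsg.Agent.Helper26.PSL2Syl
import Cfsg.Agent.Helper26.FusInvSimple
import Cfsg.Agent.Helper12.SL2OrderFour

set_option autoImplicit false

/-! # The dihedral case of S5287: `PSL₂(F)` -/

namespace Cfsg.Agent.Helper26.MSup

open Cfsg Cfsg.FusionSystem
open QuaternionGroup DihedralGroup

theorem zmod_cast_eq_zero_iff (n : ℕ) [NeZero n] (i : ZMod (2 * n)) :
    ZMod.castHom (Dvd.intro_left 2 rfl : n ∣ 2 * n) (ZMod n) i = 0 ↔ i = 0 ∨ i = (n : ZMod (2 * n)) := by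
  have hn : 0 < n := Nat.pos_of_ne_zero (NeZero.ne n)
  have : NeZero (2 * n) := ⟨by omega⟩
  constructor
  · intro h
    rw [ZMod.castHom_apply, ← ZMod.natCast_val, ZMod.natCast_eq_zero_iff] at h
    have hlt := ZMod.val_lt i
    obtain ⟨c, hc⟩ := h
    have hc01 : c = 0 ∨ c = 1 := by
      rcases c with _ | _ | c
      · left; rfl
      · right; rfl
      · exfalso
        have h1 : n * (c + 1 + 1) = n * c + 2 * n := by ring
        rw [h1] at hc
        omega
    rcases hc01 with rfl | rfl
    · left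
      rw [mul_zero] at hc
      exact (ZMod.val_eq_zero i).mp hc
    · right
      rw [mul_one] at hc
      rw [← ZMod.natCast_zmod_val i, hc]
  · rintro (rfl | rfl)
    · rw [map_zero]
    · rw [map_natCast, ZMod.natCast_self]

/-- the natural surjection from the generalized quaternion group onto the dihedral group -/
theorem exists_quat_to_dih (n : ℕ) [NeZero n] :
    ∃ δ : QuaternionGroup n →* DihedralGroup n, Function.Surjective δ ∧
      ∀ x, δ x = 1 ↔ x = 1 ∨ x = QuaternionGroup.a (n : ZMod (2 * n)) := by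
  let c := ZMod.castHom (Dvd.intro_left 2 rfl : n ∣ 2 * n) (ZMod n)
  have hcn : c (n : ZMod (2 * n)) = 0 := by
    rw [map_natCast, ZMod.natCast_self]
  let f : QuaternionGroup n → DihedralGroup n := fun x =>
    match x with
    | QuaternionGroup.a i => r (c i)
    | QuaternionGroup.xa i => sr (c i)
  have hmul : ∀ x y, f (x * y) = f x * f y := by
    rintro (i | i) (j | j)
    · show r (c (i + j)) = r (c i) * r (c j)
      rw [map_add, DihedralGroup.r_mul_r]
    · show sr (c (j - i)) = r (c i) * sr (c j)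
      rw [map_sub, DihedralGroup.r_mul_sr]
    · show sr (c (i + j)) = sr (c i) * r (c j)
      rw [map_add, DihedralGroup.sr_mul_r]
    · show r (c ((n : ZMod (2 * n)) + j - i)) = sr (c i) * sr (c j)
      rw [map_sub, map_add, hcn, zero_add, DihedralGroup.sr_mul_sr]
  let δ : QuaternionGroup n →* DihedralGroup n :=
    { toFun := f
      map_one' := by
        show r (c 0) = 1
        rw [map_zero]; rfl
      map_mul' := hmul }
  refine ⟨δ, ?_, ?_⟩
  · have hcs : Function.Surjective c := ZMod.castHom_surjective _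
    rintro (j | j)
    · obtain ⟨i, rfl⟩ := hcs j
      exact ⟨QuaternionGroup.a i, rfl⟩
    · obtain ⟨i, rfl⟩ := hcs j
      exact ⟨QuaternionGroup.xa i, rfl⟩
  · rintro (i | i)
    · show r (c i) = 1 ↔ _
      rw [DihedralGroup.one_def]
      constructor
      · intro h
        have h0 : c i = 0 := DihedralGroup.r.inj h
        rcases (zmod_cast_eq_zero_iff n i).mp h0 with rfl | rfl
        · left; rfl
        · right; rfl
      · rintro (h | h)
        · rw [QuaternionGroup.one_def] at h
          have := QuaternionGroup.a.inj h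
          rw [this, map_zero]
        · have := QuaternionGroup.a.inj h
          rw [this, hcn]
    · show sr (c i) = 1 ↔ _
      constructor
      · intro h
        rw [DihedralGroup.one_def] at h
        cases h
      · rintro (h | h)
        · rw [QuaternionGroup.one_def] at h
          cases h
        · cases h


variable {F : Type*} [Field F] [Fintype F]

local notation "SF" => Matrix.SpecialLinearGroup (Fin 2) F
local notation "PF" => Matrix.ProjectiveSpecialLinearGroup (Fin 2) F

/-- variant of `PSL2Syl.sylow_structure_aux` with a given isomorphism -/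
theorem sylow_structure_aux' (hodd : Fintype.card F % 2 = 1) (k : ℕ)
    (P : Sylow 2 SF) (e : (P : Subgroup SF) ≃* QuaternionGroup (2 ^ k)) (T : Subgroup PF)
    (hT : T = (P : Subgroup SF).map (QuotientGroup.mk' (Subgroup.center SF))) :
    ∃ φ : QuaternionGroup (2 ^ k) →* T, Function.Surjective φ ∧
      ∀ x, φ x = 1 ↔ x = 1 ∨ x = QuaternionGroup.a ((2 ^ k : ℕ) : ZMod (2 * 2 ^ k)) := by
  subst hT
  have : Fact (Nat.Prime 2) := ⟨Nat.prime_two⟩
  have h2F : (2 : F) ≠ 0 := Cfsg.Agent.Helper26.PSL2Syl.two_ne_zero' hodd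
  have : NeZero (2 ^ k) := ⟨by positivity⟩
  have hneg := Cfsg.Agent.Helper26.PSL2Syl.neg_one_mem_sylow P
  have hz : e ⟨-1, hneg⟩ = QuaternionGroup.a ((2 ^ k : ℕ) : ZMod (2 * 2 ^ k)) := by
    apply Cfsg.Agent.Helper26.PSL2Syl.quat_invol
    · intro h
      have h' : (⟨-1, hneg⟩ : (P : Subgroup SF)) = 1 := by
        rw [← e.map_eq_one_iff]; exact h
      have := congrArg Subtype.val h'
      exact Cfsg.Agent.Helper18.Dickson.one_ne_neg_one h2F this.symm
    · rw [← map_mul]
      have : (⟨-1, hneg⟩ : (P : Subgroup SF)) * ⟨-1, hneg⟩ = 1 := by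
        apply Subtype.ext
        show (-1 : SF) * (-1) = 1
        rw [neg_mul_neg, one_mul]
      rw [this, map_one]
  let ψ : (P : Subgroup SF) →* ((P : Subgroup SF).map (QuotientGroup.mk' (Subgroup.center SF))) :=
    (QuotientGroup.mk' (Subgroup.center SF)).subgroupMap (P : Subgroup SF)
  have hψs : Function.Surjective ψ :=
    (QuotientGroup.mk' (Subgroup.center SF)).subgroupMap_surjective (P : Subgroup SF)
  refine ⟨ψ.comp e.symm.toMonoidHom, hψs.comp e.symm.surjective, ?_⟩
  intro x
  have h1 : (ψ.comp e.symm.toMonoidHom) x = 1 ↔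
      ((e.symm x : (P : Subgroup SF)) : SF) ∈ Subgroup.center SF := by
    rw [← QuotientGroup.eq_one_iff]
    constructor
    · intro h
      exact congrArg Subtype.val h
    · intro h
      exact Subtype.ext h
  rw [h1, Cfsg.Agent.Helper18.Dickson.mem_center_iff']
  constructor
  · rintro (h | h)
    · left
      have : e.symm x = 1 := Subtype.ext h
      rwa [e.symm.map_eq_one_iff] at this
    · right
      have : e.symm x = ⟨-1, hneg⟩ := Subtype.ext h
      rw [← hz, ← this, e.apply_symm_apply]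
  · rintro (rfl | rfl)
    · left
      rw [map_one]; rfl
    · right
      rw [← hz, e.symm_apply_apply]

/-- a dihedral group of order at least 8 is not commutative -/
theorem dihedral_not_comm (n : ℕ) (hn : 3 ≤ n) :
    ¬ ∀ a b : DihedralGroup n, a * b = b * a := by
  intro h
  have h1 := h (DihedralGroup.sr 0) (DihedralGroup.r 1)
  simp only [DihedralGroup.sr_mul_r, DihedralGroup.r_mul_sr] at h1
  have h2 := DihedralGroup.sr.inj h1
  have h3 : ((2 : ℕ) : ZMod n) = 0 := by
    push_cast
    linear_combination h2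
  rw [ZMod.natCast_eq_zero_iff] at h3
  have := Nat.le_of_dvd (by norm_num) h3
  omega

/-- DS: dihedral Sylow 2-subgroups of `PSL₂(F)` and no chain. -/
theorem DS (hodd : Fintype.card F % 2 = 1)
    (h16 : 16 ∣ Fintype.card F ^ 2 - 1) (k : ℕ)
    (hk : ∀ P : Sylow 2 (Matrix.SpecialLinearGroup (Fin 2) F),
      Nonempty ((P : Subgroup (Matrix.SpecialLinearGroup (Fin 2) F)) ≃* QuaternionGroup (2 ^ k)))
    (R : Sylow 2 (Matrix.ProjectiveSpecialLinearGroup (Fin 2) F)) :
    Nonempty ((R : Subgroup (Matrix.ProjectiveSpecialLinearGroup (Fin 2) F)) ≃*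
      DihedralGroup (2 ^ k)) ∧
    ¬ HasChain (groupFusionSystem (R : Subgroup (Matrix.ProjectiveSpecialLinearGroup (Fin 2) F))) := by
  have : Fact (Nat.Prime 2) := ⟨Nat.prime_two⟩
  have h2F : (2 : F) ≠ 0 := Cfsg.Agent.Helper26.PSL2Syl.two_ne_zero' hodd
  have hπ : Function.Surjective (QuotientGroup.mk' (Subgroup.center SF)) :=
    QuotientGroup.mk'_surjective _
  obtain ⟨P, hP⟩ := Sylow.mapSurjective_surjective hπ 2 R
  obtain ⟨e⟩ := hk P
  have : NeZero (2 ^ k) := ⟨by positivity⟩
  -- `k ≥ 2`
  have hcardP : Nat.card (P : Subgroup SF) = 4 * 2 ^ k := by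
    rw [Nat.card_congr e.toEquiv, Nat.card_eq_fintype_card, QuaternionGroup.card]
  have hk2 : 2 ≤ k := by
    have h1 := P.card_eq_multiplicity
    have h2 : 16 ∣ Nat.card SF := by
      rw [Cfsg.Agent.Helper2.SL2.card_SL2]
      exact Dvd.dvd.mul_left h16 _
    have h3 : 4 ≤ (Nat.card SF).factorization 2 := by
      rw [← Nat.Prime.pow_dvd_iff_le_factorization Nat.prime_two Nat.card_pos.ne']
      exact h2
    rw [hcardP] at h1
    have h4 : (4 : ℕ) * 2 ^ k = 2 ^ (k + 2) := by ring
    rw [h4] at h1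
    have h5 := Nat.pow_right_injective (le_refl 2) h1
    omega
  obtain ⟨φ, hφs, hφk⟩ := sylow_structure_aux' hodd k P e (R : Subgroup PF) (by rw [← hP]; rfl)
  obtain ⟨δ, hδs, hδk⟩ := exists_quat_to_dih (2 ^ k)
  have hker : φ.ker = δ.ker := by
    ext x
    rw [MonoidHom.mem_ker, MonoidHom.mem_ker, hφk, hδk]
  have eR : (R : Subgroup PF) ≃* DihedralGroup (2 ^ k) :=
    ((QuotientGroup.quotientKerEquivOfSurjective φ hφs).symm.trans
      (QuotientGroup.quotientMulEquivOfEq hker)).trans
      (QuotientGroup.quotientKerEquivOfSurjective δ hδs)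
  refine ⟨⟨eR⟩, ?_⟩
  intro hch
  have hnc : ¬ ∀ a b : (R : Subgroup PF), a * b = b * a := by
    intro h
    apply dihedral_not_comm (2 ^ k) (by
      calc 3 ≤ 2 ^ 2 := by norm_num
        _ ≤ 2 ^ k := Nat.pow_le_pow_right (by norm_num) hk2)
    intro a b
    have := h (eR.symm a) (eR.symm b)
    rw [← map_mul, ← map_mul] at this
    exact eR.symm.injective this
  have hRne : (R : Subgroup PF) ≠ ⊥ := by
    intro hbot
    apply hnc
    intro a b
    have ha : (a : PF) = 1 := (Subgroup.mem_bot).mp (hbot ▸ a.2)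
    have hb : (b : PF) = 1 := (Subgroup.mem_bot).mp (hbot ▸ b.2)
    apply Subtype.ext
    simp [ha, hb]
  obtain ⟨C, x, hC, hxR, -, hnot, hle⟩ := chain_cut _ hch (R : Subgroup PF) le_rfl hRne
  have hconj : ∀ x y : PF, orderOf x = 2 → orderOf y = 2 → IsConj x y :=
    fun x y hx hy => Cfsg.Agent.Helper12.psl2_isConj_of_orderOf_two h2F x y hx hy
  have hgen : (R : Subgroup PF) ≤
      Subgroup.closure {x : PF | x ∈ (R : Subgroup PF) ∧ orderOf x = 2} := by
    intro y hy
    have h1 := Cfsg.Agent.Helper26.QuatQuot.mem_closure_invol k φ hφk hφs ⟨y, hy⟩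
    have h2 : (Subgroup.closure {z : (R : Subgroup PF) | orderOf z = 2}).map (R : Subgroup PF).subtype ≤
        Subgroup.closure {x : PF | x ∈ (R : Subgroup PF) ∧ orderOf x = 2} := by
      rw [MonoidHom.map_closure, Subgroup.closure_le]
      rintro _ ⟨z, hz, rfl⟩
      apply Subgroup.subset_closure
      refine ⟨z.2, ?_⟩
      rw [Subgroup.coe_subtype, Subgroup.orderOf_coe]
      exact hz
    exact h2 ⟨⟨y, hy⟩, h1, rfl⟩
  rcases Cfsg.Agent.Helper26.FusInvSimple.stronglyClosed_eq R hconj hgen C hC with hCb | hCR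
  · -- `R` is cyclic
    rw [hCb, bot_sup_eq] at hle
    apply hnc
    intro a b
    obtain ⟨i, hi⟩ := Subgroup.mem_zpowers_iff.mp (hle a.2)
    obtain ⟨j, hj⟩ := Subgroup.mem_zpowers_iff.mp (hle b.2)
    apply Subtype.ext
    show (a : PF) * b = b * a
    rw [← hi, ← hj, ← zpow_add, ← zpow_add, add_comm]
  · exact hnot hCR.ge

end Cfsg.Agent.Helper26.MSup
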