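import Mathlib

set_option autoImplicit false

namespace Cfsg.Agent.Helper26.MSup

/-- K4: the dihedral group of order 4 is the Klein four-group. -/
theorem K4 : Nonempty (DihedralGroup 2 ≃*
    Multiplicative (ZMod (2 ^ 1)) × Multiplicative (ZMod (2 ^ 1))) := by
  have h : IsKleinFour (Multiplicative (ZMod (2 ^ 1)) × Multiplicative (ZMod (2 ^ 1))) := by
    refine ⟨?_, ?_⟩
    · rw [Nat.card_prod, Nat.card_eq_fintype_card]
      rfl
    · apply Nat.dvd_antisymm
      · apply Monoid.exponent_dvd_of_forall_pow_eq_one
        decide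
      · have hx := Monoid.order_dvd_exponent
          ((Multiplicative.ofAdd (1 : ZMod (2 ^ 1)), 1) :
            Multiplicative (ZMod (2 ^ 1)) × Multiplicative (ZMod (2 ^ 1)))
        have h2 : orderOf ((Multiplicative.ofAdd (1 : ZMod (2 ^ 1)), 1) :
            Multiplicative (ZMod (2 ^ 1)) × Multiplicative (ZMod (2 ^ 1))) = 2 := by
          apply orderOf_eq_prime
          · decide
          · decide
        rwa [h2] at hx
  exact IsKleinFour.nonempty_mulEquiv

end Cfsg.Agent.Helper26.MSup
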