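import Mathlib
import Cfsg.Agent.Helper26.MSupDefs
import Cfsg.Agent.Helper25.FusionSemi

set_option autoImplicit false

/-! # Transport of a group fusion system without supersoluble chain along `S ≃* R` -/

namespace Cfsg.Agent.Helper26.MSup

open Cfsg Cfsg.FusionSystem Subgroup Cfsg.Agent.Helper25

theorem subgroupOf_sup_zpowers' {Ω : Type*} [Group Ω] {S : Subgroup Ω} {B : Subgroup Ω}
    (hB : B ≤ S) {x : Ω} (hx : x ∈ S) :
    (B ⊔ zpowers x).subgroupOf S = B.subgroupOf S ⊔ zpowers (⟨x, hx⟩ : S) := by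
  rw [subgroupOf_sup hB (zpowers_le.mpr hx)]
  congr 1
  have h1 : (zpowers (⟨x, hx⟩ : S)).map S.subtype = zpowers x := by
    rw [MonoidHom.map_zpowers]
    rfl
  rw [← h1]
  exact comap_map_eq_self_of_injective (subtype_injective S) _

/-- RZ: transport of a group fusion system without chain to `S`. -/
theorem RZ {Ω : Type*} [Group Ω] {S : Subgroup Ω} [Finite S] (p : ℕ) [Fact p.Prime]
    {G : Type*} [Group G] [Finite G] (R : Sylow p G) (e : S ≃* (R : Subgroup G))
    (hno : ¬ HasChain (groupFusionSystem (R : Subgroup G))) :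
    ∃ F : FusionSystem S, F.IsSaturated p ∧ ¬ HasChain F := by
  obtain ⟨ι, hι⟩ : ∃ ι : S →* G, ι = (R : Subgroup G).subtype.comp e.toMonoidHom := ⟨_, rfl⟩
  have hιapp : ∀ s : S, ι s = ((e s : (R : Subgroup G)) : G) := fun s => by rw [hι]; rfl
  have hinj : Function.Injective ι := by
    intro a b hab
    rw [hιapp, hιapp] at hab
    exact e.injective (Subtype.ext hab)
  have hιR : ∀ s : S, ι s ∈ (R : Subgroup G) := fun s => by rw [hιapp]; exact (e s).2
  have hrange : ι.range = (R : Subgroup G) := by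
    ext y
    constructor
    · rintro ⟨s, rfl⟩
      exact hιR s
    · intro hy
      refine ⟨e.symm ⟨y, hy⟩, ?_⟩
      rw [hιapp, e.apply_symm_apply]
  refine ⟨pullSystem ι hinj, pullSystem_isSaturated ι hinj p R hrange.symm, ?_⟩
  rintro ⟨m, c, h0, hlast, hsc, hstep⟩
  apply hno
  refine ⟨m, fun i => ((c i).subgroupOf S).map ι, ?_, ?_, ?_, ?_⟩
  · show ((c 0).subgroupOf S).map ι = ⊥
    rw [h0, bot_subgroupOf, Subgroup.map_bot]
  · show ((c (Fin.last m)).subgroupOf S).map ι = _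
    rw [hlast, subgroupOf_self, ← MonoidHom.range_eq_map, hrange]
  · intro i
    have hDR : ((c i).subgroupOf S).map ι ≤ (R : Subgroup G) := by
      rintro _ ⟨s, -, rfl⟩
      exact hιR s
    refine ⟨hDR, ?_⟩
    rintro Q hQD φ ⟨hQR, hφR, g, hg⟩ y
    obtain ⟨s, hs, hsy⟩ := hQD y.2
    rw [SetLike.mem_coe, mem_subgroupOf] at hs
    show φ y ∈ ((c i).subgroupOf S).map ι
    -- conjugate of powers of `y` stay in `R`
    have hpow : ∀ z : zpowers (s : Ω), g * ι ⟨z, (zpowers_le.mpr s.2) z.2⟩ * g⁻¹ ∈ (R : Subgroup G) := by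
      rintro ⟨z, n, rfl⟩
      have h1 : (⟨(s : Ω) ^ n, (zpowers_le.mpr s.2) ⟨n, rfl⟩⟩ : S) = s ^ n := Subtype.ext (by simp)
      rw [h1, map_zpow, ← conj_zpow, hsy, ← hg y]
      exact zpow_mem (hφR y) n
    -- the map in the pulled back system
    let θ : zpowers (s : Ω) →* (R : Subgroup G) :=
      { toFun := fun z => ⟨g * ι ⟨z, (zpowers_le.mpr s.2) z.2⟩ * g⁻¹, hpow z⟩
        map_one' := by
          apply Subtype.ext
          show g * ι ⟨((1 : zpowers (s : Ω)) : Ω), _⟩ * g⁻¹ = 1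
          have : (⟨((1 : zpowers (s : Ω)) : Ω), (zpowers_le.mpr s.2) (1 : zpowers (s : Ω)).2⟩ : S) = 1 :=
            Subtype.ext rfl
          rw [this, map_one, mul_one, mul_inv_cancel]
        map_mul' := by
          intro a b
          apply Subtype.ext
          show g * ι ⟨((a * b : zpowers (s : Ω)) : Ω), _⟩ * g⁻¹ =
            (g * ι ⟨a, _⟩ * g⁻¹) * (g * ι ⟨b, _⟩ * g⁻¹)
          have : (⟨((a * b : zpowers (s : Ω)) : Ω), (zpowers_le.mpr s.2) (a * b).2⟩ : S) =
              ⟨a, (zpowers_le.mpr s.2) a.2⟩ * ⟨b, (zpowers_le.mpr s.2) b.2⟩ := Subtype.ext rfl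
          rw [this, map_mul]
          group }
    let ψ : zpowers (s : Ω) →* Ω := S.subtype.comp (e.symm.toMonoidHom.comp θ)
    have hψ : ψ ∈ (pullSystem ι hinj).Hom (zpowers (s : Ω)) := by
      rw [mem_pullSystem_iff]
      refine ⟨zpowers_le.mpr s.2, fun z => (e.symm (θ z)).2, g, fun z => ?_⟩
      have h1 : (⟨ψ z, (e.symm (θ z)).2⟩ : S) = e.symm (θ z) := Subtype.ext rfl
      rw [h1, hιapp, e.apply_symm_apply]
      rfl
    have hmem := (hsc i).2 _ (zpowers_le.mpr hs) ψ hψ ⟨(s : Ω), mem_zpowers _⟩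
    refine ⟨e.symm (θ ⟨(s : Ω), mem_zpowers _⟩), ?_, ?_⟩
    · rw [SetLike.mem_coe, mem_subgroupOf]
      exact hmem
    · rw [hιapp, e.apply_symm_apply]
      show g * ι ⟨(s : Ω), _⟩ * g⁻¹ = φ y
      have h1 : (⟨(s : Ω), (zpowers_le.mpr s.2) (mem_zpowers (s : Ω))⟩ : S) = s := Subtype.ext rfl
      rw [h1, hsy, hg y]
  · intro i
    obtain ⟨hle, x, hxS, hx⟩ := hstep i
    refine ⟨Subgroup.map_mono (fun z hz => ?_), ι ⟨x, hxS⟩, hιR _, ?_⟩
    · rw [mem_subgroupOf] at hz ⊢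
      exact hle hz
    · show ((c i.succ).subgroupOf S).map ι = ((c i.castSucc).subgroupOf S).map ι ⊔ _
      rw [hx, subgroupOf_sup_zpowers' (hsc _).1 hxS, Subgroup.map_sup, MonoidHom.map_zpowers]

end Cfsg.Agent.Helper26.MSup
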