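import Mathlib
import Cfsg.Agent.Helper2.Transvec

/-! S5075 piece SLGEN: on a finite-dimensional space, a linear equivalence of determinant one is a
product of transvections. -/

set_option autoImplicit false

namespace Cfsg.Agent.S5075P

namespace SLGEN

variable {k : Type*} [Field k] {W : Type*} [AddCommGroup W] [Module k W]

theorem exists_equiv {n : ℕ} (b : Module.Basis (Fin n) k W)
    (A : Matrix.SpecialLinearGroup (Fin n) k) :
    ∃ g : W ≃ₗ[k] W, (g : W →ₗ[k] W) = Matrix.toLin b b (A : Matrix (Fin n) (Fin n) k) := by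
  have h1 : (A : Matrix (Fin n) (Fin n) k) * ((A⁻¹ : Matrix.SpecialLinearGroup (Fin n) k) :
      Matrix (Fin n) (Fin n) k) = 1 := by
    rw [← Matrix.SpecialLinearGroup.coe_mul, mul_inv_cancel, Matrix.SpecialLinearGroup.coe_one]
  have h2 : ((A⁻¹ : Matrix.SpecialLinearGroup (Fin n) k) : Matrix (Fin n) (Fin n) k) *
      (A : Matrix (Fin n) (Fin n) k) = 1 := by
    rw [← Matrix.SpecialLinearGroup.coe_mul, inv_mul_cancel, Matrix.SpecialLinearGroup.coe_one]
  refine ⟨LinearEquiv.ofLinearMap (Matrix.toLin b b (A : Matrix (Fin n) (Fin n) k))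
    (Matrix.toLin b b ((A⁻¹ : Matrix.SpecialLinearGroup (Fin n) k) : Matrix (Fin n) (Fin n) k))
    ?_ ?_, rfl⟩
  · rw [← Matrix.toLin_mul, h1, Matrix.toLin_one]
  · rw [← Matrix.toLin_mul, h2, Matrix.toLin_one]

theorem toLin_transvection {n : ℕ} (b : Module.Basis (Fin n) k W) (i j : Fin n)
    (c : k) :
    Matrix.toLin b b (1 + Matrix.single i j c) =
      LinearMap.transvection (c • b.coord j) (b i) := by
  apply b.ext
  intro l
  rw [Matrix.toLin_self, LinearMap.transvection.apply]
  simp only [Matrix.add_apply, Matrix.one_apply, Matrix.single_apply,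
    add_smul, Finset.sum_add_distrib, ite_smul, one_smul, zero_smul, Finset.sum_ite_eq',
    Finset.mem_univ, if_true, LinearMap.smul_apply, Module.Basis.coord_apply,
    Module.Basis.repr_self, smul_eq_mul]
  congr 1
  by_cases hjl : j = l
  · subst hjl
    simp
  · simp [hjl]

end SLGEN

open SLGEN in
theorem sl_gen {k : Type*} [Field k] {W : Type*} [AddCommGroup W] [Module k W]
    [FiniteDimensional k W] (f : W ≃ₗ[k] W) (hf : LinearMap.det (f : W →ₗ[k] W) = 1) :
    f ∈ Subgroup.closure (LinearEquiv.transvections k W) := by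
  classical
  obtain ⟨n, hn⟩ : ∃ n, Module.finrank k W = n := ⟨_, rfl⟩
  let b : Module.Basis (Fin n) k W := Module.finBasisOfFinrankEq k W hn
  have hdet : (LinearMap.toMatrix b b (f : W →ₗ[k] W)).det = 1 := by
    rw [LinearMap.det_toMatrix]; exact hf
  have hfm : (f : W →ₗ[k] W) = Matrix.toLin b b (LinearMap.toMatrix b b (f : W →ₗ[k] W)) := by
    rw [Matrix.toLin_toMatrix]
  by_cases hn2 : 2 ≤ n
  · have : Nontrivial (Fin n) := Fin.nontrivial_iff_two_le.mpr hn2
    have key : ∀ A : Matrix.SpecialLinearGroup (Fin n) k, ∀ g : W ≃ₗ[k] W,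
        (g : W →ₗ[k] W) = Matrix.toLin b b (A : Matrix (Fin n) (Fin n) k) →
        g ∈ Subgroup.closure (LinearEquiv.transvections k W) := by
      intro A
      refine Cfsg.Agent.Helper2.SL_transvection_induction
        (fun A : Matrix.SpecialLinearGroup (Fin n) k => ∀ g : W ≃ₗ[k] W,
          (g : W →ₗ[k] W) = Matrix.toLin b b (A : Matrix (Fin n) (Fin n) k) →
          g ∈ Subgroup.closure (LinearEquiv.transvections k W)) ?_ ?_ A
      · intro i j hij c g hg
        apply Subgroup.subset_closure
        rw [Matrix.SpecialLinearGroup.transvection_coe, toLin_transvection b i j c] at hg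
        have h0 : (c • b.coord j) (b i) = 0 := by
          simp [hij]
        have : g = LinearEquiv.transvection h0 := by
          apply LinearEquiv.toLinearMap_injective
          rw [hg, LinearEquiv.transvection.coe_toLinearMap]
        rw [this]
        exact LinearEquiv.mem_transvections h0
      · intro A B hA hB g hg
        obtain ⟨gA, hgA⟩ := exists_equiv b A
        obtain ⟨gB, hgB⟩ := exists_equiv b B
        have : g = gA * gB := by
          apply LinearEquiv.toLinearMap_injective
          rw [hg, Matrix.SpecialLinearGroup.coe_mul, Matrix.toLin_mul b b b, ← hgA, ← hgB]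
          rfl
        rw [this]
        exact Subgroup.mul_mem _ (hA gA hgA) (hB gB hgB)
    exact key ⟨_, hdet⟩ f hfm
  · have h1 : LinearMap.toMatrix b b (f : W →ₗ[k] W) = 1 := by
      have hn' : n = 0 ∨ n = 1 := by omega
      rcases hn' with h0 | h1
      · subst h0
        ext i
        exact i.elim0
      · subst h1
        ext i j
        have e1 : i = 0 := Subsingleton.elim _ _
        have e2 : j = 0 := Subsingleton.elim _ _
        subst e1 e2
        rw [Matrix.det_fin_one] at hdet
        rw [hdet]
        simp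
    have : f = 1 := by
      apply LinearEquiv.toLinearMap_injective
      rw [hfm, h1, Matrix.toLin_one]
      rfl
    rw [this]
    exact Subgroup.one_mem _

end Cfsg.Agent.S5075P
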