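import Mathlib

/-! S5075 piece SPGEN: the isometries of a nondegenerate alternating form on a finite-dimensional
space are generated by the symplectic transvections `x ↦ x + c * B w x • w`. -/

set_option autoImplicit false

namespace Cfsg.Agent.S5075P

namespace SPGEN

variable {k : Type*} [Field k] {W : Type*} [AddCommGroup W] [Module k W]

/-- the set of symplectic transvections. -/
def S (B : LinearMap.BilinForm k W) : Set (W ≃ₗ[k] W) :=
  {t : W ≃ₗ[k] W | ∃ (w : W) (c : k) (h : (c • B w) w = 0), t = LinearEquiv.transvection h}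

variable {B : LinearMap.BilinForm k W}

theorem tau_mem (hB : B.IsAlt) (w : W) (c : k) :
    ∃ t ∈ S B, ∀ x, t x = x + (c * B w x) • w := by
  have h : (c • B w) w = 0 := by
    rw [LinearMap.smul_apply, hB.self_eq_zero, smul_zero]
  refine ⟨LinearEquiv.transvection h, ⟨w, c, h, rfl⟩, fun x => ?_⟩
  rw [LinearEquiv.transvection.apply, LinearMap.smul_apply, smul_eq_mul]

theorem swap_eq (hB : B.IsAlt) (x y : W) : B x y = - B y x := by
  rw [hB.neg_eq]

/-- a symplectic transvection moving `u` to `u'` when `B u u' ≠ 0`. -/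
theorem move (hB : B.IsAlt) (u u' : W) (hne : B u u' ≠ 0) :
    ∃ t ∈ S B, t u = u' ∧ ∀ x, B (u' - u) x = 0 → t x = x := by
  have hne' : B u' u ≠ 0 := by
    rw [swap_eq hB]; exact neg_ne_zero.mpr hne
  obtain ⟨t, ht, htx⟩ := tau_mem hB (u' - u) (B u' u)⁻¹
  refine ⟨t, ht, ?_, ?_⟩
  · rw [htx, map_sub, LinearMap.sub_apply, hB.self_eq_zero, sub_zero, inv_mul_cancel₀ hne',
      one_smul, add_sub_cancel]
  · intro x hx
    rw [htx, hx, mul_zero, zero_smul, add_zero]

end SPGEN

open SPGEN in
theorem sp_gen {k : Type*} [Field k] {W : Type*} [AddCommGroup W] [Module k W]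
    [FiniteDimensional k W] (B : LinearMap.BilinForm k W) (hB : B.IsAlt) (hnd : B.Nondegenerate)
    (f : W ≃ₗ[k] W) (hf : ∀ x y, B (f x) (f y) = B x y) :
    f ∈ Subgroup.closure {t : W ≃ₗ[k] W | ∃ (w : W) (c : k) (h : (c • B w) w = 0),
      t = LinearEquiv.transvection h} := by
  classical
  have key : ∀ n, ∀ U' : Submodule k W, Module.finrank k W - Module.finrank k U' = n →
      Disjoint U' (B.orthogonal U') → ∀ f : W ≃ₗ[k] W, (∀ x y, B (f x) (f y) = B x y) →
      (∀ x ∈ U', f x = x) → f ∈ Subgroup.closure (S B) := by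
    intro n
    induction n using Nat.strong_induction_on with
    | _ n ih =>
    intro U' hn hdisj f hf hfix
    by_cases hn0 : n = 0
    · -- U' = ⊤
      have hle : Module.finrank k U' ≤ Module.finrank k W := Submodule.finrank_le U'
      have htop : U' = ⊤ := Submodule.eq_top_of_finrank_eq (by omega)
      have : f = 1 := by
        ext x
        exact hfix x (htop ▸ Submodule.mem_top)
      rw [this]; exact Subgroup.one_mem _
    -- notation
    obtain ⟨O, hO⟩ : ∃ O : Submodule k W, O = B.orthogonal U' := ⟨_, rfl⟩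
    rw [← hO] at hdisj
    have hOmem : ∀ a, a ∈ O ↔ ∀ y ∈ U', B y a = 0 := by
      intro a; rw [hO]; exact LinearMap.BilinForm.mem_orthogonal_iff
    have hOO : B.orthogonal O = U' := by
      rw [hO]; exact LinearMap.BilinForm.orthogonal_orthogonal hnd hB.isRefl U'
    have hOfin : Module.finrank k O = n := by
      rw [hO, LinearMap.BilinForm.finrank_orthogonal hnd]; exact hn
    have fixU : ∀ a ∈ O, ∀ x ∈ U', B a x = 0 := by
      intro a ha x hx
      rw [swap_eq hB, (hOmem a).mp ha x hx, neg_zero]
    have hsep : ∀ a ∈ O, a ≠ 0 → ∃ w ∈ O, B a w ≠ 0 := by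
      intro a ha ha0
      by_contra hcon
      push Not at hcon
      have h1 : a ∈ B.orthogonal O := by
        rw [LinearMap.BilinForm.mem_orthogonal_iff]
        intro w hw
        rw [swap_eq hB, hcon w hw, neg_zero]
      rw [hOO] at h1
      exact ha0 (Submodule.disjoint_def.mp hdisj a h1 ha)
    have presO : ∀ g : W ≃ₗ[k] W, (∀ x y, B (g x) (g y) = B x y) → (∀ x ∈ U', g x = x) →
        ∀ x ∈ O, g x ∈ O := by
      intro g hg hgfix x hx
      rw [hOmem]
      intro y hy
      have := hg y x
      rw [hgfix y hy] at this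
      rw [this]
      exact (hOmem x).mp hx y hy
    -- step 1: transitivity on nonzero vectors of O
    have step1 : ∀ a ∈ O, ∀ b ∈ O, a ≠ 0 → b ≠ 0 →
        ∃ t ∈ Subgroup.closure (S B), (∀ x ∈ U', t x = x) ∧ t a = b := by
      intro a ha b hb ha0 hb0
      by_cases hab : B a b ≠ 0
      · obtain ⟨t, ht, hta, htfix⟩ := move hB a b hab
        refine ⟨t, Subgroup.subset_closure ht, fun x hx => htfix x ?_, hta⟩
        rw [map_sub, LinearMap.sub_apply, fixU b hb x hx, fixU a ha x hx, sub_zero]
      · push Not at hab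
        obtain ⟨w1, hw1, hw1'⟩ := hsep a ha ha0
        obtain ⟨w2, hw2, hw2'⟩ := hsep b hb hb0
        have hz : ∃ z ∈ O, B a z ≠ 0 ∧ B b z ≠ 0 := by
          by_cases h1 : B b w1 ≠ 0
          · exact ⟨w1, hw1, hw1', h1⟩
          by_cases h2 : B a w2 ≠ 0
          · exact ⟨w2, hw2, h2, hw2'⟩
          push Not at h1 h2
          refine ⟨w1 + w2, O.add_mem hw1 hw2, ?_, ?_⟩
          · rw [map_add, h2, add_zero]; exact hw1'
          · rw [map_add, h1, zero_add]; exact hw2'
        obtain ⟨z, hzO, hz1, hz2⟩ := hz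
        have hz2' : B z b ≠ 0 := by
          rw [swap_eq hB]; exact neg_ne_zero.mpr hz2
        obtain ⟨t1, ht1, ht1a, ht1fix⟩ := move hB a z hz1
        obtain ⟨t2, ht2, ht2a, ht2fix⟩ := move hB z b hz2'
        refine ⟨t2 * t1, Subgroup.mul_mem _ (Subgroup.subset_closure ht2)
          (Subgroup.subset_closure ht1), fun x hx => ?_, ?_⟩
        · rw [LinearEquiv.mul_apply, ht1fix x, ht2fix x]
          · rw [map_sub, LinearMap.sub_apply, fixU b hb x hx, fixU z hzO x hx, sub_zero]
          · rw [map_sub, LinearMap.sub_apply, fixU z hzO x hx, fixU a ha x hx, sub_zero]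
        · rw [LinearEquiv.mul_apply, ht1a, ht2a]
    -- step 2: transitivity on hyperbolic partners
    have step2 : ∀ v ∈ O, ∀ w ∈ O, ∀ w' ∈ O, B v w = 1 → B v w' = 1 →
        ∃ t ∈ Subgroup.closure (S B), (∀ x ∈ U', t x = x) ∧ t v = v ∧ t w' = w := by
      intro v hv w hw w' hw' hvw hvw'
      have hwv : B w v = -1 := by rw [swap_eq hB, hvw]
      have hw'v : B w' v = -1 := by rw [swap_eq hB, hvw']
      by_cases hww : B w' w ≠ 0
      · obtain ⟨t, ht, hta, htfix⟩ := move hB w' w hww
        refine ⟨t, Subgroup.subset_closure ht, fun x hx => htfix x ?_, htfix v ?_, hta⟩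
        · rw [map_sub, LinearMap.sub_apply, fixU w hw x hx, fixU w' hw' x hx, sub_zero]
        · rw [map_sub, LinearMap.sub_apply, hwv, hw'v, sub_self]
      · push Not at hww
        have hz1 : B w' (w' + v) ≠ 0 := by
          rw [map_add, hB.self_eq_zero, zero_add, hw'v]; norm_num
        have hz2 : B (w' + v) w ≠ 0 := by
          rw [map_add, LinearMap.add_apply, hww, zero_add, hvw]; norm_num
        have hzO : w' + v ∈ O := O.add_mem hw' hv
        obtain ⟨t1, ht1, ht1a, ht1fix⟩ := move hB w' (w' + v) hz1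
        obtain ⟨t2, ht2, ht2a, ht2fix⟩ := move hB (w' + v) w hz2
        have e1 : w' + v - w' = v := by abel
        refine ⟨t2 * t1, Subgroup.mul_mem _ (Subgroup.subset_closure ht2)
          (Subgroup.subset_closure ht1), fun x hx => ?_, ?_, ?_⟩
        · rw [LinearEquiv.mul_apply, ht1fix x, ht2fix x]
          · rw [map_sub, LinearMap.sub_apply, fixU w hw x hx, fixU _ hzO x hx, sub_zero]
          · rw [e1]; exact fixU v hv x hx
        · rw [LinearEquiv.mul_apply, ht1fix v, ht2fix v]
          · rw [map_sub, LinearMap.sub_apply, map_add, LinearMap.add_apply, hwv, hw'v,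
              hB.self_eq_zero]
            ring
          · rw [e1]; exact hB.self_eq_zero v
        · rw [LinearEquiv.mul_apply, ht1a, ht2a]
    -- pick a hyperbolic pair in O
    have hOne : O ≠ ⊥ := by
      intro h
      rw [h, finrank_bot] at hOfin
      exact hn0 hOfin.symm
    obtain ⟨v, hvO, hv0⟩ := Submodule.exists_mem_ne_zero_of_ne_bot hOne
    obtain ⟨w0, hw0O, hw0⟩ := hsep v hvO hv0
    obtain ⟨w, hwO, hvw⟩ : ∃ w ∈ O, B v w = 1 :=
      ⟨(B v w0)⁻¹ • w0, O.smul_mem _ hw0O, by
        rw [map_smul, smul_eq_mul, inv_mul_cancel₀ hw0]⟩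
    -- step 1 applied
    have hfv : f v ≠ 0 := fun h => hv0 (f.map_eq_zero_iff.mp h)
    obtain ⟨t1, ht1, ht1fix, ht1v⟩ := step1 (f v) (presO f hf hfix v hvO) v hvO hfv hv0
    have presB : ∀ t ∈ Subgroup.closure (S B), ∀ x y, B (t x) (t y) = B x y := by
      intro t ht
      induction ht using Subgroup.closure_induction with
      | mem t ht =>
        obtain ⟨u, c, h, rfl⟩ := ht
        intro x y
        simp only [LinearEquiv.transvection.apply, LinearMap.smul_apply, smul_eq_mul, map_add,
          map_smul, LinearMap.add_apply, hB.self_eq_zero, mul_zero, add_zero]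
        rw [swap_eq hB x u]
        ring
      | one => intro x y; rfl
      | mul a b _ _ ha hb =>
        intro x y
        rw [LinearEquiv.mul_apply, LinearEquiv.mul_apply, ha, hb]
      | inv a _ ha =>
        intro x y
        have := ha (a⁻¹ x) (a⁻¹ y)
        rw [← LinearEquiv.mul_apply, ← LinearEquiv.mul_apply, mul_inv_cancel] at this
        exact this.symm
    have hg : ∀ x y, B ((t1 * f) x) ((t1 * f) y) = B x y := by
      intro x y
      rw [LinearEquiv.mul_apply, LinearEquiv.mul_apply, presB t1 ht1, hf]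
    have hgfix : ∀ x ∈ U', (t1 * f) x = x := by
      intro x hx; rw [LinearEquiv.mul_apply, hfix x hx, ht1fix x hx]
    have hgv : (t1 * f) v = v := by rw [LinearEquiv.mul_apply, ht1v]
    have hw'O : (t1 * f) w ∈ O := presO _ hg hgfix w hwO
    have hvw' : B v ((t1 * f) w) = 1 := by
      have := hg v w
      rw [hgv] at this
      rw [this, hvw]
    obtain ⟨t2, ht2, ht2fix, ht2v, ht2w⟩ := step2 v hvO w hwO _ hw'O hvw hvw'
    obtain ⟨h, hh⟩ : ∃ h, h = t2 * (t1 * f) := ⟨_, rfl⟩
    have hhB : ∀ x y, B (h x) (h y) = B x y := by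
      intro x y
      rw [hh]
      show B (t2 ((t1 * f) x)) (t2 ((t1 * f) y)) = B x y
      rw [presB t2 ht2, hg]
    have hhv : h v = v := by
      rw [hh]
      show t2 ((t1 * f) v) = v
      rw [hgv, ht2v]
    have hhw : h w = w := by
      rw [hh]
      show t2 ((t1 * f) w) = w
      rw [ht2w]
    have hhU : ∀ x ∈ U', h x = x := by
      intro x hx
      rw [hh]
      show t2 ((t1 * f) x) = x
      rw [hgfix x hx, ht2fix x hx]
    have hwv : B w v = -1 := by rw [swap_eq hB, hvw]
    have hhfix : ∀ x ∈ U' ⊔ Submodule.span k {v, w}, h x = x := by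
      intro x hx
      obtain ⟨u, hu, s, hs, rfl⟩ := Submodule.mem_sup.mp hx
      obtain ⟨α, β, rfl⟩ := Submodule.mem_span_pair.mp hs
      rw [map_add, map_add, map_smul, map_smul, hhU u hu, hhv, hhw]
    have hvU : v ∉ U' := fun hv => hv0 (Submodule.disjoint_def.mp hdisj v hv hvO)
    have hlt : U' < U' ⊔ Submodule.span k {v, w} := by
      refine lt_of_le_of_ne le_sup_left ?_
      intro heq
      apply hvU
      rw [heq]
      exact Submodule.mem_sup_right (Submodule.subset_span (by simp))
    have hfinlt := Submodule.finrank_lt_finrank_of_lt hlt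
    have hfinle : Module.finrank k ↥(U' ⊔ Submodule.span k {v, w}) ≤ Module.finrank k W :=
      Submodule.finrank_le _
    have hdisj' : Disjoint (U' ⊔ Submodule.span k {v, w})
        (B.orthogonal (U' ⊔ Submodule.span k {v, w})) := by
      rw [Submodule.disjoint_def]
      intro x hx hxo
      obtain ⟨u, hu, s, hs, rfl⟩ := Submodule.mem_sup.mp hx
      obtain ⟨α, β, rfl⟩ := Submodule.mem_span_pair.mp hs
      rw [LinearMap.BilinForm.mem_orthogonal_iff] at hxo
      have hvmem : v ∈ U' ⊔ Submodule.span k {v, w} :=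
        Submodule.mem_sup_right (Submodule.subset_span (by simp))
      have hwmem : w ∈ U' ⊔ Submodule.span k {v, w} :=
        Submodule.mem_sup_right (Submodule.subset_span (by simp))
      have hu0 : u = 0 := by
        apply Submodule.disjoint_def.mp hdisj u hu
        rw [hOmem]
        intro y hy
        have := hxo y (Submodule.mem_sup_left hy)
        rw [map_add, map_add, map_smul, map_smul, (hOmem v).mp hvO y hy, (hOmem w).mp hwO y hy,
          smul_zero, smul_zero, add_zero, add_zero] at this
        exact this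
      have h1 := hxo v hvmem
      have h2 := hxo w hwmem
      rw [hu0, zero_add, map_add, map_smul, map_smul, hB.self_eq_zero, hvw, smul_zero, zero_add,
        smul_eq_mul, mul_one] at h1
      rw [hu0, zero_add, map_add, map_smul, map_smul, hB.self_eq_zero, hwv, smul_zero, add_zero,
        smul_eq_mul, mul_neg, mul_one, neg_eq_zero] at h2
      rw [hu0, h1, h2, zero_smul, zero_smul, add_zero, add_zero]
    have hle' : Module.finrank k U' ≤ Module.finrank k W := Submodule.finrank_le U'
    have hhmem : h ∈ Subgroup.closure (S B) :=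
      ih (Module.finrank k W - Module.finrank k ↥(U' ⊔ Submodule.span k {v, w})) (by omega)
        (U' ⊔ Submodule.span k {v, w}) rfl hdisj' h hhB hhfix
    have hfeq : f = t1⁻¹ * (t2⁻¹ * h) := by
      rw [hh]; group
    rw [hfeq]
    exact Subgroup.mul_mem _ (Subgroup.inv_mem _ ht1)
      (Subgroup.mul_mem _ (Subgroup.inv_mem _ ht2) hhmem)
  exact key _ ⊥ rfl (by simp) f hf (by
    intro x hx
    rw [Submodule.mem_bot] at hx
    rw [hx, map_zero])

end Cfsg.Agent.S5075P
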