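import Cfsg.Agent.Helper29.OC2K.Defs
import Cfsg.Agent.Helper29.OC2K.STAB
import Cfsg.Agent.Helper29.OC2K.BLK
import Cfsg.Agent.Helper29.OC2K.CMP1
import Cfsg.Agent.Helper29.OC2K.CMP2
import Cfsg.Agent.Helper29.OC2K.STEP0
import Cfsg.Agent.Helper29.OC2K.REFLMEM
import Cfsg.Agent.Helper29.OC2K.SIEGMEM
import Cfsg.Agent.Helper29.OC2K.GEOC
import Cfsg.Agent.Helper4.OC2KQ2F
import Cfsg.Agent.Helper10.OC2KQ2LEMA

set_option autoImplicit false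
set_option linter.unusedSectionVars false
set_option linter.unusedVariables false

/-! # S5694 CHAR2, `q = 2` route 2 (designer helper10), piece Q2LEMB (helper26). -/

namespace Cfsg.Agent.OC2K

open Matrix Cfsg.Agent.Helper28.Sg Cfsg.Agent.Helper28.Spin Cfsg.Agent.Helper12.OrthGen
  Cfsg.Agent.S2614 Cfsg.Agent.S5683P Cfsg.Agent.Helper28.NDM

variable {F : Type*} [Field F] {t k : ℕ} {ι : Type} [Fintype ι] [DecidableEq ι] {Q : QuadraticForm F (ι → F)} [QHyp Q] {D : Fin t → Submodule F (ι → F)}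
  {M : Subgroup (OGq Q)}

theorem Q2.LEMB.main [Fintype F] (hq : Fintype.card F = 2) (hD : HD Q k D) (hHM : HS D ≤ M)
    {m : OGq Q} (hm : m ∈ M) {e a : ι → F} (he : Pure D e) (hQe : Q e ≠ 0) (ha : Pure D a)
    (hQa : Q a ≠ 0) (hme : Pure D (mt (Q) m *ᵥ e)) (hma : ¬ Pure D (mt (Q) m *ᵥ a)) : G1 M D := by
  obtain ⟨ce, hce⟩ := he
  obtain ⟨ca, hca⟩ := ha
  obtain ⟨c, hc⟩ := hme
  have hQ : Q e = Q a := by rw [Q2.F.eq_one hq hQe, Q2.F.eq_one hq hQa]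
  have h1 : reflO (Q) e hQe * reflO (Q) a hQa ∈ M := hHM (REFLMEM.mem hD hce hca hQe hQa hQ)
  have hQme : Q (mt (Q) m *ᵥ e) ≠ 0 := by rw [Q_isom]; exact hQe
  have hQma : Q (mt (Q) m *ᵥ a) ≠ 0 := by rw [Q_isom]; exact hQa
  have h2 : reflO (Q) (mt (Q) m *ᵥ e) hQme * reflO (Q) (mt (Q) m *ᵥ a) hQma ∈ M := by
    rw [reflO_conj (Q) m e hQe hQme, reflO_conj (Q) m a hQa hQma]
    have : m * reflO (Q) e hQe * m⁻¹ * (m * reflO (Q) a hQa * m⁻¹) =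
        m * (reflO (Q) e hQe * reflO (Q) a hQa) * m⁻¹ := by group
    rw [this]
    exact M.mul_mem (M.mul_mem hm h1) (M.inv_mem hm)
  exact Q2.LEMA.main (Q2.F.two hq) hD hHM hc hQme hQma hma h2

end Cfsg.Agent.OC2K
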