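import Mathlib
import Cfsg.Agent.Helper26.OL8

set_option autoImplicit false
set_option linter.style.haveILetI false
set_option linter.unusedSectionVars false
set_option linter.unusedVariables false

/-! The automorphism of `S` inverting `Z₀` attached to an essential subgroup `Z(S)⟨x⟩`, and the
uniqueness of its fixed points on the centre. -/

namespace Cfsg.Agent.Helper26.OL

open Cfsg Cfsg.FusionSystem Cfsg.Agent.Helper25 Cfsg.Agent.Helper26.ZI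

variable {Ω : Type*} [Group Ω] {p : ℕ} [Fact p.Prime] {S A : Subgroup Ω} [Finite S]

/-- the part of the centre fixed by a conjugate of `Aut_S(P)` -/
def CC {x : Ω} (g : MulAut ↥(PP S x)) : Subgroup Ω :=
  (Zs S x ⊓ (Zs S x).map g.toMonoidHom).map (PP S x).subtype

/-- an automorphism of `S` in `F` that fixes `C`, inverts `Z₀`, with `Z(S) = C Z₀` -/
structure Good (F : FusionSystem S) (γ : MulAut ↥S) (C : Subgroup Ω) : Prop where
  mem : γ ∈ F.autGroup S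
  le : C ≤ ZZ S
  fix : ∀ z : ↥S, (z : Ω) ∈ C → γ z = z
  inv : ∀ w : ↥S, (w : Ω) ∈ Z0 S → γ w = w⁻¹
  gen : ∀ z : ↥S, (z : Ω) ∈ ZZ S → ∃ c w : ↥S, (c : Ω) ∈ C ∧ (w : Ω) ∈ Z0 S ∧ z = c * w

theorem mem_CC {x : Ω} {g : MulAut ↥(PP S x)} {z : Ω} (hz : z ∈ CC g) :
    ∃ z' : ↥(PP S x), (z' : Ω) ∈ ZZ S ∧ ((g z' : ↥(PP S x)) : Ω) = z := by
  obtain ⟨c, hc, rfl⟩ := hz
  obtain ⟨z', hz', hgz⟩ := (Subgroup.mem_inf.mp hc).2
  exact ⟨z', hz', congrArg Subtype.val hgz⟩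

set_option maxHeartbeats 1600000 in
theorem exists_good (h : Hyp p S A) (F : FusionSystem S) (hF : F.IsSaturated p)
    (hAe : ¬ F.IsEssential p A) {x : Ω} (hx : x ∈ S) (hxA : x ∉ A)
    (hess : F.IsEssential p (PP S x)) {g : MulAut ↥(PP S x)} (hg : g ∈ F.autGroup (PP S x))
    (hgZ : ¬ (Zs S x).map g.toMonoidHom ≤ Zs S x) :
    (∃ γ, Good F γ (CC g)) ∧ Nat.card (Z0 S) ≤ p := by
  haveI := finite_PP (S := S) hx
  have hA := hPc (S := S) hx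
  obtain ⟨u, huT, hu1, s, hs, hsP, hsN, hus⟩ := exists_T_ne_one h hx hxA
  have hTG := autInducedBy_le_autGroup F (PP_le (S := S) hx)
  have huG : u ∈ F.autGroup (PP S x) := hTG huT
  have hu'G : g * u * g⁻¹ ∈ F.autGroup (PP S x) := mul_mem (mul_mem hg huG) (inv_mem hg)
  have hu'1 : g * u * g⁻¹ ≠ 1 := by
    intro h5
    apply hu1
    have : u = g⁻¹ * (g * u * g⁻¹) * g := by group
    rw [this, h5]
    group
  have hfu : fixSub u = Zs S x := T_fixSub h hx hxA huT hu1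
  have hfu' : fixSub (g * u * g⁻¹) = (Zs S x).map g.toMonoidHom := by
    rw [fixSub_conj, hfu]
  have hne : fixSub u ≠ fixSub (g * u * g⁻¹) := by
    rw [hfu, hfu']
    intro he
    apply hgZ
    rw [← he]
  have hL := not_isPGroup_closure h F hF hx hxA hess huG hu'G hu1 hu'1 hne
  have hL' : ∀ τ ∈ autInducedBy S (PP S x), τ ≠ 1 →
      ¬ IsPGroup p (Subgroup.closure ({g * u * g⁻¹, τ} : Set (MulAut ↥(PP S x)))) := by
    intro τ hτ hτ1
    apply not_isPGroup_closure h F hF hx hxA hess hu'G (hTG hτ) hu'1 hτ1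
    rw [T_fixSub h hx hxA hτ hτ1, ← hfu]
    exact hne.symm
  obtain ⟨ι, hιL, hιu, hιfix, hιinv, hgen, hcomm⟩ := lemmaG_abs h hx hxA huT hu1 g hL hL'
  have hιG : ι ∈ F.autGroup (PP S x) := by
    have : Subgroup.closure ({u, g * u * g⁻¹} : Set (MulAut ↥(PP S x))) ≤ F.autGroup (PP S x) := by
      rw [Subgroup.closure_le]
      rintro α (rfl | rfl)
      · exact huG
      · exact hu'G
    exact this hιL
  -- the bound on `Z₀`
  have hcard : Nat.card (Z0 S) ≤ p := by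
    rw [← (T_transv h hx hxA huT hu1).1]
    have hZ0P : Z0 S ≤ PP S x := (Z0_le S).trans (ZZ_le_PP S x)
    apply Nat.card_le_card_of_injective
      (fun w : Z0 S => (⟨⟨w, hZ0P w.2⟩, hcomm ⟨w, hZ0P w.2⟩ w.2⟩ : commSub hA u))
    intro a b hab
    apply Subtype.ext
    exact congrArg (fun y : commSub hA u => ((y : ↥(PP S x)) : Ω)) hab
  refine ⟨?_, hcard⟩
  -- the extension
  obtain ⟨Q, hPQ, hQS, hlt, ψ, hψ, hψι⟩ := exists_extension_of_witness p h.hS F hF hess.2.1 hιG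
    hs hsN hsP hs (fun y hy => by
      have e : (⟨s * y * s⁻¹, hy⟩ : ↥(PP S x)) = u y := Subtype.ext (hus y).symm
      rw [e]
      have h1 : ι (u y) = u (ι y) := by
        have := congrArg (fun α : MulAut ↥(PP S x) => α y) hιu
        exact this
      rw [h1, hus])
  have hψN : ψ ∈ (NZ F).Hom Q := by
    apply star h F hF hAe Q ψ hψ
    rw [← h.card_PP hx hxA]
    exact hlt
  have hZQ : ZZ S ≤ Q := (ZZ_le_PP S x).trans hPQ
  obtain ⟨γ, hγ, hγψ⟩ := NZ_act F hZQ hψN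
  have hγι : ∀ z : ↥S, ∀ hz : (z : Ω) ∈ ZZ S,
      ((γ z : ↥S) : Ω) = ((ι ⟨z, ZZ_le_PP S x hz⟩ : ↥(PP S x)) : Ω) := by
    intro z hz
    have h1 := hγψ ⟨z, hz⟩
    rw [hψι (z : Ω) (ZZ_le_PP S x hz) (hZQ hz)] at h1
    exact h1.symm
  have hCCfix : ∀ c : ↥(PP S x), c ∈ Zs S x ⊓ (Zs S x).map g.toMonoidHom → ι c = c := by
    intro c hc
    apply hιfix
    rw [hfu, hfu']
    exact hc
  refine ⟨γ, hγ, ?_, ?_, ?_, ?_⟩
  · rintro _ ⟨c, hc, rfl⟩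
    exact (Subgroup.mem_inf.mp hc).1
  · intro z hz
    obtain ⟨c, hc, hcz⟩ := hz
    have hzZ : (z : Ω) ∈ ZZ S := by
      rw [← hcz]
      exact (Subgroup.mem_inf.mp hc).1
    apply Subtype.ext
    rw [hγι z hzZ]
    have e : (⟨z, ZZ_le_PP S x hzZ⟩ : ↥(PP S x)) = c := Subtype.ext hcz.symm
    rw [e, hCCfix c hc]
    exact hcz
  · intro w hw
    apply Subtype.ext
    rw [hγι w (Z0_le S hw), hιinv _ hw]
    rfl
  · intro z hz
    obtain ⟨c, hc, w, hw, hzcw⟩ := hgen ⟨z, ZZ_le_PP S x hz⟩ hz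
    rw [hfu, hfu'] at hc
    refine ⟨⟨c, PP_le hx c.2⟩, ⟨w, PP_le hx w.2⟩, ⟨c, hc, rfl⟩, hw, ?_⟩
    apply Subtype.ext
    show (z : Ω) = (c : Ω) * (w : Ω)
    exact congrArg Subtype.val hzcw

theorem pow_apply_of_fix {G : Type*} [Group G] (δ : MulAut G) {z w : G} (h1 : δ z = z * w)
    (h2 : δ w = w) (k : ℕ) : (δ ^ k) z = z * w ^ k := by
  induction k with
  | zero => simp
  | succ k ih =>
    rw [pow_succ', MulAut.mul_apply, ih, map_mul, map_pow, h1, h2, mul_assoc, ← pow_succ']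

/-- an element of `Aut_F(S)` acting trivially on `Z₀` and on `Z(S)/Z₀` is trivial on `Z(S)` -/
theorem fix_of_stab (hS : IsPGroup p S) (F : FusionSystem S) (hF : F.IsSaturated p)
    {δ : MulAut ↥S} (hδ : δ ∈ F.autGroup S) (h0 : ∀ w : ↥S, (w : Ω) ∈ Z0 S → δ w = w)
    (h1 : ∀ z : ↥S, (z : Ω) ∈ ZZ S → ((z⁻¹ * δ z : ↥S) : Ω) ∈ Z0 S) :
    ∀ z : ↥S, (z : Ω) ∈ ZZ S → δ z = z := by
  intro z hz
  have hp := (Fact.out : p.Prime)
  haveI : Finite (MulAut ↥S) :=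
    Finite.of_injective (fun e : MulAut ↥S => (e : ↥S → ↥S)) (fun a b h => DFunLike.coe_injective h)
  have hw := h1 z hz
  have hδz : δ z = z * (z⁻¹ * δ z) := by rw [mul_inv_cancel_left]
  have hδw := h0 _ hw
  have hn : orderOf δ ≠ 0 := (orderOf_pos δ).ne'
  obtain ⟨e, m', hm', hnm⟩ := Nat.exists_eq_pow_mul_and_not_dvd hn p hp.ne_one
  have hε : δ ^ m' ∈ F.autGroup S := Subgroup.pow_mem _ hδ m'
  have hεp : (δ ^ m') ^ (p ^ e) = 1 := by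
    rw [← pow_mul, mul_comm, ← hnm]
    exact pow_orderOf_eq_one δ
  have h2 := pElement_fix_ZS F hF hε hεp (z := (z : Ω)) hz
  have h3 : (δ ^ m') z = z := Subtype.ext h2
  rw [pow_apply_of_fix δ hδz hδw m'] at h3
  have h4 : (z⁻¹ * δ z) ^ m' = 1 := by
    have := mul_left_cancel (a := z) (b := (z⁻¹ * δ z) ^ m') (c := 1) (by rw [h3, mul_one])
    exact this
  obtain ⟨k, hk⟩ := hS (z⁻¹ * δ z)
  have hcop : Nat.Coprime (p ^ k) m' :=
    Nat.Coprime.pow_left k ((Nat.Prime.coprime_iff_not_dvd hp).mpr hm')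
  have hd1 := orderOf_dvd_of_pow_eq_one hk
  have hd2 := orderOf_dvd_of_pow_eq_one h4
  have hd3 := Nat.dvd_gcd hd1 hd2
  rw [hcop.gcd_eq_one, Nat.dvd_one, orderOf_eq_one_iff] at hd3
  rw [hδz, hd3, mul_one]

/-- the subgroup `C` is determined -/
theorem good_unique (hS : IsPGroup p S) (hp2 : p ≠ 2) (F : FusionSystem S)
    (hF : F.IsSaturated p) {γ γ' : MulAut ↥S} {C C' : Subgroup Ω} (hG : Good F γ C)
    (hG' : Good F γ' C') : C ≤ C' := by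
  have hp := (Fact.out : p.Prime)
  -- `γ⁻¹` on `Z₀`
  have hinv0 : ∀ w : ↥S, (w : Ω) ∈ Z0 S → γ⁻¹ w = w⁻¹ := by
    intro w hw
    have h1 := hG.inv w⁻¹ ((Z0 S).inv_mem hw)
    rw [inv_inv] at h1
    calc γ⁻¹ w = γ⁻¹ (γ w⁻¹) := by rw [h1]
      _ = w⁻¹ := MulAut.inv_apply_self _ _ _
  -- `γ` modulo `Z₀`
  have hmod : ∀ (β : MulAut ↥S) (D : Subgroup Ω), Good F β D →
      ∀ z : ↥S, (z : Ω) ∈ ZZ S → ((z⁻¹ * β z : ↥S) : Ω) ∈ Z0 S := by
    intro β D hβ z hz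
    obtain ⟨c, w, hc, hw, rfl⟩ := hβ.gen z hz
    rw [map_mul, hβ.fix c hc, hβ.inv w hw]
    have e : (c * w)⁻¹ * (c * w⁻¹) = w⁻¹ * w⁻¹ := by group
    rw [e]
    exact (Z0 S).mul_mem ((Z0 S).inv_mem hw) ((Z0 S).inv_mem hw)
  have hZaut : ∀ (β : MulAut ↥S) (z : ↥S), (z : Ω) ∈ ZZ S → ((β z : ↥S) : Ω) ∈ ZZ S :=
    fun β z hz => aut_ZZ β hz
  have hmodinv : ∀ z : ↥S, (z : Ω) ∈ ZZ S → ((z⁻¹ * γ⁻¹ z : ↥S) : Ω) ∈ Z0 S := by
    intro z hz
    have h1 := hmod γ C hG (γ⁻¹ z) (hZaut γ⁻¹ z hz)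
    rw [MulAut.apply_inv_self] at h1
    have e : z⁻¹ * γ⁻¹ z = ((γ⁻¹ z)⁻¹ * z)⁻¹ := by group
    rw [e]
    exact (Z0 S).inv_mem h1
  have hδ : ∀ z : ↥S, (z : Ω) ∈ ZZ S → (γ⁻¹ * γ') z = z := by
    apply fix_of_stab hS F hF (Subgroup.mul_mem _ (Subgroup.inv_mem _ hG.mem) hG'.mem)
    · intro w hw
      rw [MulAut.mul_apply, hG'.inv w hw, hinv0 _ ((Z0 S).inv_mem hw), inv_inv]
    · intro z hz
      rw [MulAut.mul_apply]
      have h1 := hmod γ' C' hG' z hz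
      have h2 := hmodinv (γ' z) (hZaut γ' z hz)
      have e : z⁻¹ * γ⁻¹ (γ' z) = (z⁻¹ * γ' z) * ((γ' z)⁻¹ * γ⁻¹ (γ' z)) := by group
      rw [e]
      exact (Z0 S).mul_mem h1 h2
  have heq : ∀ z : ↥S, (z : Ω) ∈ ZZ S → γ' z = γ z := by
    intro z hz
    have h1 := hδ z hz
    rw [MulAut.mul_apply] at h1
    have h2 := congrArg γ h1
    rw [MulAut.apply_inv_self] at h2
    exact h2
  intro z hz
  have hzZ : z ∈ ZZ S := hG.le hz
  have hzS : z ∈ S := ZZ_le S hzZ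
  obtain ⟨c', w', hc', hw', hzcw⟩ := hG'.gen ⟨z, hzS⟩ hzZ
  have h1 : γ ⟨z, hzS⟩ = ⟨z, hzS⟩ := hG.fix ⟨z, hzS⟩ hz
  have h2 : γ' ⟨z, hzS⟩ = c' * w'⁻¹ := by
    rw [hzcw, map_mul, hG'.fix c' hc', hG'.inv w' hw']
  rw [heq _ hzZ, h1, hzcw] at h2
  have h3 : w' ^ 2 = 1 := by
    have h4 : w' = w'⁻¹ := mul_left_cancel h2
    rw [pow_two]
    nth_rewrite 1 [h4]
    exact inv_mul_cancel w'
  obtain ⟨k, hk⟩ := hS w'
  have hcop : Nat.Coprime (p ^ k) 2 :=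
    Nat.Coprime.pow_left k ((Nat.coprime_primes hp Nat.prime_two).mpr hp2)
  have hd1 := orderOf_dvd_of_pow_eq_one hk
  have hd2 := orderOf_dvd_of_pow_eq_one h3
  have hd3 := Nat.dvd_gcd hd1 hd2
  rw [hcop.gcd_eq_one, Nat.dvd_one, orderOf_eq_one_iff] at hd3
  have h5 : (⟨z, hzS⟩ : ↥S) = c' := by rw [hzcw, hd3, mul_one]
  have h6 : z = (c' : Ω) := congrArg Subtype.val h5
  rw [h6]
  exact hc'

theorem good_eq (hS : IsPGroup p S) (hp2 : p ≠ 2) (F : FusionSystem S)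
    (hF : F.IsSaturated p) {γ γ' : MulAut ↥S} {C C' : Subgroup Ω} (hG : Good F γ C)
    (hG' : Good F γ' C') : C = C' :=
  le_antisymm (good_unique hS hp2 F hF hG hG') (good_unique hS hp2 F hF hG' hG)

end Cfsg.Agent.Helper26.OL
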