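import Mathlib
import Cfsg.Agent.Helper26.OL9
import Cfsg.Agent.Helper25.FusionNormal

set_option autoImplicit false
set_option linter.style.haveILetI false
set_option linter.unusedSectionVars false
set_option linter.unusedVariables false

/-! The fixed part of the centre is normal in the fusion system, hence trivial. -/

namespace Cfsg.Agent.Helper26.OL

open Cfsg Cfsg.FusionSystem Cfsg.Agent.Helper25 Cfsg.Agent.Helper26.ZI
open scoped commutatorElement

variable {Ω : Type*} [Group Ω] {p : ℕ} [Fact p.Prime] {S A : Subgroup Ω} [Finite S]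

theorem map_eq_of_forall_mem {R : Subgroup Ω} [Finite R] (C : Subgroup Ω) (α : MulAut ↥R)
    (hα : ∀ c : ↥R, (c : Ω) ∈ C → ((α c : ↥R) : Ω) ∈ C) :
    (C.subgroupOf R).map α.toMonoidHom = C.subgroupOf R := by
  apply Subgroup.eq_of_le_of_card_ge
  · rintro _ ⟨c, hc, rfl⟩
    exact hα c hc
  · rw [Subgroup.card_map_of_injective α.injective]

/-- the stabilizer of `C ∩ R` in `Aut(R)` -/
def stabSub (R C : Subgroup Ω) : Subgroup (MulAut ↥R) where
  carrier := {α | (C.subgroupOf R).map α.toMonoidHom = C.subgroupOf R}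
  one_mem' := by
    show (C.subgroupOf R).map (MonoidHom.id _) = _
    rw [Subgroup.map_id]
  mul_mem' := by
    intro a b ha hb
    show (C.subgroupOf R).map (a.toMonoidHom.comp b.toMonoidHom) = _
    have ha' : (C.subgroupOf R).map a.toMonoidHom = C.subgroupOf R := ha
    have hb' : (C.subgroupOf R).map b.toMonoidHom = C.subgroupOf R := hb
    rw [← Subgroup.map_map, hb', ha']
  inv_mem' := by
    intro a ha
    have ha' : (C.subgroupOf R).map a.toMonoidHom = C.subgroupOf R := ha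
    show (C.subgroupOf R).map a⁻¹.toMonoidHom = C.subgroupOf R
    nth_rewrite 1 [← ha']
    rw [Subgroup.map_map]
    have : a⁻¹.toMonoidHom.comp a.toMonoidHom = MonoidHom.id _ := by
      ext y
      simp
    rw [this, Subgroup.map_id]

theorem mem_stabSub {R C : Subgroup Ω} {α : MulAut ↥R} :
    α ∈ stabSub R C ↔ (C.subgroupOf R).map α.toMonoidHom = C.subgroupOf R := Iff.rfl

theorem apply_mem_of_mem_stabSub {R C : Subgroup Ω} {α : MulAut ↥R} (hα : α ∈ stabSub R C)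
    {c : ↥R} (hc : (c : Ω) ∈ C) : ((α c : ↥R) : Ω) ∈ C := by
  have h1 : α c ∈ (C.subgroupOf R).map α.toMonoidHom := ⟨c, hc, rfl⟩
  rw [mem_stabSub.mp hα] at h1
  exact h1

theorem aut_commutator' (α : MulAut ↥S) {d : ↥S} (hd : d ∈ commutator ↥S) :
    α d ∈ commutator ↥S :=
  (Subgroup.characteristic_iff_map_le.mp inferInstance α) ⟨d, hd, rfl⟩

theorem aut_Z0 (β : MulAut ↥S) {w : ↥S} (hw : (w : Ω) ∈ Z0 S) : ((β w : ↥S) : Ω) ∈ Z0 S := by
  refine ⟨aut_ZZ β hw.1, ?_⟩
  have h1 : (w : Ω) ∈ ⁅S, S⁆ := hw.2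
  rw [← Subgroup.map_subtype_commutator] at h1 ⊢
  obtain ⟨w', hw', hww⟩ := h1
  have e : w' = w := Subtype.ext hww
  rw [e] at hw'
  exact ⟨β w, aut_commutator' β hw', rfl⟩

/-- transport of a good pair by an element of `Aut_F(S)` -/
theorem good_conj {F : FusionSystem S} {γ : MulAut ↥S} {C : Subgroup Ω} (hG : Good F γ C)
    {β : MulAut ↥S} (hβ : β ∈ F.autGroup S) :
    Good F (β * γ * β⁻¹) (((C.subgroupOf S).map β.toMonoidHom).map S.subtype) := by
  refine ⟨mul_mem (mul_mem hβ hG.mem) (inv_mem hβ), ?_, ?_, ?_, ?_⟩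
  · rintro _ ⟨_, ⟨c, hc, rfl⟩, rfl⟩
    exact aut_ZZ β (hG.le hc)
  · rintro z ⟨_, ⟨c, hc, rfl⟩, hz⟩
    have e : z = β c := Subtype.ext hz.symm
    rw [e, MulAut.mul_apply, MulAut.mul_apply, MulAut.inv_apply_self, hG.fix c hc]
  · intro w hw
    rw [MulAut.mul_apply, MulAut.mul_apply, hG.inv _ (aut_Z0 β⁻¹ hw), map_inv,
      MulAut.apply_inv_self]
  · intro z hz
    obtain ⟨c, w, hc, hw, hzcw⟩ := hG.gen (β⁻¹ z) (aut_ZZ β⁻¹ hz)
    refine ⟨β c, β w, ⟨β c, ⟨c, hc, rfl⟩, rfl⟩, aut_Z0 β hw, ?_⟩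
    rw [← map_mul, ← hzcw, MulAut.apply_inv_self]

theorem good_aut_mem (hS : IsPGroup p S) (hp2 : p ≠ 2) (F : FusionSystem S)
    (hF : F.IsSaturated p) {γ : MulAut ↥S} {C : Subgroup Ω} (hG : Good F γ C)
    {β : MulAut ↥S} (hβ : β ∈ F.autGroup S) {c : ↥S} (hc : (c : Ω) ∈ C) :
    ((β c : ↥S) : Ω) ∈ C := by
  have h1 := good_eq hS hp2 F hF (good_conj hG hβ) hG
  rw [← h1]
  exact ⟨β c, ⟨c, hc, rfl⟩, rfl⟩

/-- maps of `NZ` preserve `C` -/
theorem act_mem (hS : IsPGroup p S) (hp2 : p ≠ 2) (F : FusionSystem S)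
    (hF : F.IsSaturated p) {γ : MulAut ↥S} {C : Subgroup Ω} (hG : Good F γ C)
    {R : Subgroup Ω} (hZR : ZZ S ≤ R) {φ : R →* Ω} (hφ : φ ∈ (NZ F).Hom R)
    {c : Ω} (hc : c ∈ C) : φ ⟨c, hZR (hG.le hc)⟩ ∈ C := by
  obtain ⟨β, hβ, hβφ⟩ := NZ_act F hZR hφ
  have h1 := hβφ ⟨c, hG.le hc⟩
  rw [h1]
  exact good_aut_mem hS hp2 F hF hG hβ (c := ⟨c, ZZ_le S (hG.le hc)⟩) hc

set_option maxHeartbeats 1600000 in
/-- invariance under the automizer of an abelian essential subgroup -/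
theorem abelian_inv (h : Hyp p S A) (hp2 : p ≠ 2) (F : FusionSystem S) (hF : F.IsSaturated p)
    (hAe : ¬ F.IsEssential p A) {γ : MulAut ↥S} {C : Subgroup Ω} (hG : Good F γ C)
    {x : Ω} (hx : x ∈ S) (hxA : x ∉ A) (hess : F.IsEssential p (PP S x)) :
    F.autGroup (PP S x) ≤ stabSub (PP S x) C := by
  haveI := finite_PP (S := S) hx
  have hFA := (Cfsg.Agent.S5077.sylow_axiom p h.hS F hF _ hess.2.1).2
  apply frattini_le p F (PP_le hx) hFA
  · intro k hk t ht
    rw [mem_stabSub]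
    apply map_eq_of_forall_mem
    intro c hc
    have hcZ : (c : Ω) ∈ ZZ S := hG.le hc
    have hex : ∃ z' : ↥(PP S x), (z' : Ω) ∈ ZZ S ∧ k z' = c := by
      by_cases hkZ : (Zs S x).map k.toMonoidHom ≤ Zs S x
      · have heq : (Zs S x).map k.toMonoidHom = Zs S x := by
          apply Subgroup.eq_of_le_of_card_ge hkZ
          rw [Subgroup.card_map_of_injective k.injective]
        have h1 : c ∈ (Zs S x).map k.toMonoidHom := by
          rw [heq]; exact hcZ
        obtain ⟨z', hz', hkz⟩ := h1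
        exact ⟨z', hz', hkz⟩
      · obtain ⟨⟨γ', hG'⟩, -⟩ := exists_good h F hF hAe hx hxA hess hk hkZ
        have h1 := good_eq h.hS hp2 F hF hG' hG
        have h2 : (c : Ω) ∈ CC k := by rw [h1]; exact hc
        obtain ⟨z', hz', hkz⟩ := mem_CC h2
        exact ⟨z', hz', Subtype.ext hkz⟩
    obtain ⟨z', hz', hkz⟩ := hex
    have h3 : (k * t * k⁻¹) c = c := by
      rw [← hkz, MulAut.mul_apply, MulAut.mul_apply, MulAut.inv_apply_self, T_fix hx ht hz']
    rw [h3]
    exact hc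
  · intro n hn hnorm
    rw [mem_stabSub]
    apply map_eq_of_forall_mem
    intro c hc
    obtain ⟨Q, hPQ, hQS, hlt, ψ, hψ, hψn⟩ :=
      exists_extension_of_normalizing p h.hS F hF hess.2.1 (h.PP_ne hx) hn hnorm
    have hψN : ψ ∈ (NZ F).Hom Q := by
      apply star h F hF hAe Q ψ hψ
      rw [← h.card_PP hx hxA]
      exact hlt
    have hZQ : ZZ S ≤ Q := (ZZ_le_PP S x).trans hPQ
    have h1 := act_mem h.hS hp2 F hF hG hZQ hψN hc
    rw [hψn (c : Ω) c.2 (hZQ (hG.le hc))] at h1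
    exact h1

set_option maxHeartbeats 1600000 in
/-- the fixed part of the centre is trivial -/
theorem good_eq_bot (h : Hyp p S A) (hp2 : p ≠ 2) (F : FusionSystem S) (hF : F.IsSaturated p)
    (hAe : ¬ F.IsEssential p A) (hcore : F.core = ⊥) {γ : MulAut ↥S} {C : Subgroup Ω}
    (hG : Good F γ C) : C = ⊥ := by
  have hN : F.IsNormal C := by
    apply isNormal_of_alperin p h.hS F hF
    intro R hR
    rcases hR with hR | hR
    · subst hR
      refine ⟨hG.le.trans (ZZ_le _), fun α hα => ?_⟩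
      apply map_eq_of_forall_mem
      intro c hc
      exact good_aut_mem h.hS hp2 F hF hG hα hc
    · have hRA : R ≠ A := fun e => hAe (e ▸ hR)
      have hRS : R ≤ S := hR.2.1.1
      haveI : Finite R := finite_of_le hRS
      obtain ⟨hZR, hcase⟩ := essential_cases h F hR hRA
      refine ⟨hG.le.trans hZR, fun α hα => ?_⟩
      rcases hcase with ⟨x, hx, hxA, rfl⟩ | ⟨-, hlt⟩
      · exact mem_stabSub.mp (abelian_inv h hp2 F hF hAe hG hx hxA hR hα)
      · apply map_eq_of_forall_mem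
        intro c hc
        have hαF : autHom α ∈ F.Hom R := (mem_autGroup_iff F hRS α).mp hα
        have hαN := star h F hF hAe R _ hαF hlt
        exact act_mem h.hS hp2 F hF hG hZR hαN hc
  have hle : C ≤ F.core := le_sSup hN
  rw [hcore] at hle
  exact le_bot_iff.mp hle

set_option maxHeartbeats 1600000 in
/-- some `Z(S)⟨x⟩` is essential -/
theorem exists_essential_PP (h : Hyp p S A) (F : FusionSystem S) (hF : F.IsSaturated p)
    (hAe : ¬ F.IsEssential p A) (hcore : F.core = ⊥) :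
    ∃ x ∈ S, x ∉ A ∧ F.IsEssential p (PP S x) := by
  by_contra hno
  have hN : F.IsNormal (ZZ S) := by
    apply isNormal_of_alperin p h.hS F hF
    intro R hR
    rcases hR with hR | hR
    · subst hR
      refine ⟨ZZ_le _, fun α hα => ?_⟩
      apply map_eq_of_forall_mem
      intro c hc
      exact aut_ZZ α hc
    · have hRA : R ≠ A := fun e => hAe (e ▸ hR)
      have hRS : R ≤ S := hR.2.1.1
      haveI : Finite R := finite_of_le hRS
      obtain ⟨hZR, hcase⟩ := essential_cases h F hR hRA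
      refine ⟨hZR, fun α hα => ?_⟩
      rcases hcase with ⟨x, hx, hxA, rfl⟩ | ⟨hcenR, -⟩
      · exact absurd ⟨x, hx, hxA, hR⟩ hno
      · apply map_eq_of_forall_mem
        intro z hz
        apply hcenR _ (α z).2
        intro q hq
        have h1 : (⟨q, hq⟩ : ↥R) = α (α⁻¹ ⟨q, hq⟩) := by simp
        have h2 : (α⁻¹ ⟨q, hq⟩ : ↥R) * z = z * (α⁻¹ ⟨q, hq⟩ : ↥R) :=
          Subtype.ext ((mem_ZZ.mp hz).2 _ (hRS (α⁻¹ ⟨q, hq⟩ : ↥R).2))
        have h3 : α ((α⁻¹ ⟨q, hq⟩ : ↥R) * z) = α (z * (α⁻¹ ⟨q, hq⟩ : ↥R)) := by rw [h2]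
        rw [map_mul, map_mul, ← h1] at h3
        exact congrArg Subtype.val h3
  have hle : ZZ S ≤ F.core := le_sSup hN
  rw [hcore] at hle
  exact h.ZZ_ne_bot (le_bot_iff.mp hle)

/-- the centre lies in the commutator subgroup and has order at most `p` -/
theorem ZZ_le_Z0 (h : Hyp p S A) (hp2 : p ≠ 2) (F : FusionSystem S) (hF : F.IsSaturated p)
    (hAe : ¬ F.IsEssential p A) (hcore : F.core = ⊥) :
    ZZ S ≤ Z0 S ∧ Nat.card (ZZ S) ≤ p := by
  obtain ⟨x, hx, hxA, hess⟩ := exists_essential_PP h F hF hAe hcore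
  obtain ⟨g, hg, hgZ⟩ := exists_moving h F hF hx hxA hess
  obtain ⟨⟨γ, hG⟩, hcard⟩ := exists_good h F hF hAe hx hxA hess hg hgZ
  have hC := good_eq_bot h hp2 F hF hAe hcore hG
  have hle : ZZ S ≤ Z0 S := by
    intro z hz
    obtain ⟨c, w, hc, hw, hzcw⟩ := hG.gen ⟨z, ZZ_le S hz⟩ hz
    rw [hC, Subgroup.mem_bot] at hc
    have hc1 : c = 1 := Subtype.ext hc
    rw [hc1, one_mul] at hzcw
    have : z = (w : Ω) := congrArg Subtype.val hzcw
    rw [this]
    exact hw
  refine ⟨hle, le_trans ?_ hcard⟩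
  haveI : Finite ↥(Z0 S) := finite_of_le ((Z0_le S).trans (ZZ_le S))
  exact Subgroup.card_le_of_le hle

end Cfsg.Agent.Helper26.OL
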