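import Mathlib
import Cfsg.Agent.Helper26.OL1

set_option autoImplicit false
set_option linter.style.haveILetI false
set_option linter.unusedSectionVars false
set_option linter.unusedVariables false

/-! Maximal class: a nonabelian `p`-group with an abelian subgroup of index `p` and centre of
order `p`. -/

namespace Cfsg.Agent.Helper26.OL

open scoped commutatorElement

variable {Ω : Type*} [Group Ω] {p : ℕ} [Fact p.Prime] {S A : Subgroup Ω} [Finite S]

theorem Hyp.exists_not_mem (h : Hyp p S A) : ∃ x ∈ S, x ∉ A := by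
  by_contra hno
  have hle : S ≤ A := by
    intro s hs
    by_contra hsA
    exact hno ⟨s, hs, hsA⟩
  have h1 : A.subgroupOf S = ⊤ := by
    rw [eq_top_iff]
    intro s _
    exact hle s.2
  have h2 := h.hidx
  rw [h1, Subgroup.index_top] at h2
  exact (Fact.out : p.Prime).ne_one h2.symm

/-- the iterated images of the commutator map -/
def Dk (h : Hyp p S A) {x : Ω} (hx : x ∈ S) (k : ℕ) : Subgroup ↥A :=
  (Subgroup.map (thHom h hx))^[k] ⊤

theorem Dk_succ (h : Hyp p S A) {x : Ω} (hx : x ∈ S) (k : ℕ) :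
    Dk h hx (k + 1) = (Dk h hx k).map (thHom h hx) := by
  unfold Dk
  rw [Function.iterate_succ_apply']

theorem card_le_Dk (h : Hyp p S A) {x : Ω} (hx : x ∈ S) (hxA : x ∉ A)
    (hZ : Nat.card (ZZ S) ≤ p) (k : ℕ) : Nat.card A ≤ p ^ k * Nat.card (Dk h hx k) := by
  induction k with
  | zero =>
    show Nat.card A ≤ p ^ 0 * Nat.card (⊤ : Subgroup ↥A)
    rw [Subgroup.card_top, pow_zero, one_mul]
  | succ k ih =>
    have h1 := card_le_mul_card_map h hx hxA (Dk h hx k)
    rw [← Dk_succ] at h1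
    calc Nat.card A ≤ p ^ k * Nat.card (Dk h hx k) := ih
      _ ≤ p ^ k * (Nat.card (ZZ S) * Nat.card (Dk h hx (k + 1))) := Nat.mul_le_mul_left _ h1
      _ ≤ p ^ k * (p * Nat.card (Dk h hx (k + 1))) :=
        Nat.mul_le_mul_left _ (Nat.mul_le_mul_right _ hZ)
      _ = p ^ (k + 1) * Nat.card (Dk h hx (k + 1)) := by rw [pow_succ, mul_assoc]

theorem Dk_le_lcs (h : Hyp p S A) {x : Ω} (hx : x ∈ S) (k : ℕ) :
    (Dk h hx k).map A.subtype ≤ Subgroup.lowerCentralSeries S k := by
  induction k with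
  | zero =>
    rintro _ ⟨a, -, rfl⟩
    exact h.hAS a.2
  | succ k ih =>
    rw [Dk_succ]
    rintro _ ⟨_, ⟨d, hd, rfl⟩, rfl⟩
    show ((thHom h hx d : ↥A) : Ω) ∈ ⁅Subgroup.lowerCentralSeries S k, S⁆
    rw [thHom_apply, ← commutatorElement_inv]
    apply Subgroup.inv_mem
    exact Subgroup.commutator_mem_commutator (ih ⟨d, hd, rfl⟩) hx

/-- maximal class -/
theorem lcs_ne_bot (h : Hyp p S A) (hZ : Nat.card (ZZ S) ≤ p) (n : ℕ)
    (hn : Nat.card S = p ^ n) (h3 : 3 ≤ n) : Subgroup.lowerCentralSeries S (n - 2) ≠ ⊥ := by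
  have hp := (Fact.out : p.Prime)
  obtain ⟨x, hx, hxA⟩ := h.exists_not_mem
  haveI : Finite ↥A := Finite.of_injective (Subgroup.inclusion h.hAS)
    (Subgroup.inclusion_injective _)
  have hA : Nat.card A = p ^ (n - 1) := by
    have h1 := h.card_eq
    rw [hn] at h1
    have h2 : p ^ n = p * p ^ (n - 1) := by
      rw [← pow_succ']
      congr 1
      omega
    rw [h2] at h1
    exact (Nat.eq_of_mul_eq_mul_left hp.pos h1).symm
  have h1 := card_le_Dk h hx hxA hZ (n - 2)
  rw [hA] at h1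
  have h2 : p ^ (n - 1) = p ^ (n - 2) * p := by
    rw [← pow_succ]
    congr 1
    omega
  rw [h2] at h1
  have h4 : p ≤ Nat.card (Dk h hx (n - 2)) :=
    Nat.le_of_mul_le_mul_left h1 (pow_pos hp.pos _)
  intro hbot
  have h5 := Dk_le_lcs h hx (n - 2)
  rw [hbot, le_bot_iff] at h5
  have h6 : Dk h hx (n - 2) = ⊥ := by
    rw [eq_bot_iff]
    intro d hd
    have h7 : (d : Ω) ∈ (Dk h hx (n - 2)).map A.subtype := ⟨d, hd, rfl⟩
    rw [h5, Subgroup.mem_bot] at h7
    rw [Subgroup.mem_bot]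
    exact Subtype.ext h7
  rw [h6, Subgroup.card_bot] at h4
  exact absurd h4 (not_le.mpr hp.one_lt)

end Cfsg.Agent.Helper26.OL
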