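import Mathlib
import Cfsg.Agent.Helper26.PStableQuot
import Cfsg.Agent.Helper26.SylowConj
import Cfsg.Agent.Helper25.FusionAlperin

set_option autoImplicit false
set_option linter.style.haveILetI false
set_option linter.unusedSectionVars false
set_option linter.unusedVariables false

/-! # `N_G(Z(J(P)))` controls the `p`-locals in characteristic `p` type with `p`-stable locals -/

namespace Cfsg.Agent.Helper26

open Subgroup

universe u

section PLZ

variable {G : Type u} [Group G] [Finite G] {p : ℕ} [hp : Fact p.Prime]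

theorem card_lt_card_of_lt' {H K : Subgroup G} (h : H < K) : Nat.card H < Nat.card K := by
  by_contra hcon
  push Not at hcon
  exact h.ne (eq_of_le_of_card_ge h.le hcon)

/-- Sylow conjugacy inside a subgroup containing a Sylow subgroup. -/
theorem exists_conj_mem_of_le_of_sylow (P : Sylow p G) {M T : Subgroup G}
    (hPM : (P : Subgroup G) ≤ M) (hTM : T ≤ M) (hT : IsPGroup p T) :
    ∃ m ∈ M, ∀ t ∈ T, m * t * m⁻¹ ∈ (P : Subgroup G) := by
  have hT' : IsPGroup p (T.subgroupOf M) := hT.comap_subtype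
  obtain ⟨Q₁, hQ₁⟩ := hT'.exists_le_sylow
  obtain ⟨m, hm⟩ := MulAction.exists_smul_eq M Q₁ (P.subtype hPM)
  refine ⟨m, m.2, ?_⟩
  intro t ht
  have h1 : (⟨t, hTM ht⟩ : M) ∈ (Q₁ : Subgroup M) := hQ₁ (mem_subgroupOf.mpr ht)
  have h2 : m * ⟨t, hTM ht⟩ * m⁻¹ ∈ ((m • Q₁ : Sylow p M) : Subgroup M) := by
    rw [mem_sylow_smul_iff]
    have : m⁻¹ * (m * ⟨t, hTM ht⟩ * m⁻¹) * m = ⟨t, hTM ht⟩ := by group
    rw [this]
    exact h1
  rw [hm, Sylow.coe_subtype, mem_subgroupOf] at h2
  exact h2

/-- `Z(J(S₁))` is normalized by `N` when `N` has trivial `p'`-core and is `p`-constrained and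
`p`-stable. -/
theorem le_normalizer_zj_of_sub (hp2 : p ≠ 2) {N : Subgroup G}
    (hO : Cfsg.pPrimeCore p ↥N = ⊥) (hc : Cfsg.IsPConstrained p ↥N) (hs : Cfsg.IsPStable p ↥N)
    (S₁ : Sylow p ↥N) :
    N ≤ normalizer (Cfsg.centerThompsonAOf ((S₁ : Subgroup N).map N.subtype) : Set G) := by
  have h := zj_factorization hp2 hc hs S₁
  rw [hO, bot_sup_eq] at h
  have hmap : Cfsg.centerThompsonAOf ((S₁ : Subgroup N).map N.subtype)
      = (Cfsg.centerThompsonAOf (S₁ : Subgroup N)).map N.subtype :=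
    (Cfsg.Agent.Lead.TNC.zjAFunctor p).map N.subtype (S₁ : Subgroup N)
      (N.subtype_injective.injOn)
  rw [hmap]
  have h2 := le_normalizer_map (H := Cfsg.centerThompsonAOf (S₁ : Subgroup N)) N.subtype
  rw [h, ← MonoidHom.range_eq_map, range_subtype] at h2
  exact h2

theorem plocal_le_aux (hp2 : p ≠ 2)
    (hloc : ∀ Q : Subgroup G, IsPGroup p Q → Q ≠ ⊥ →
      Cfsg.pPrimeCore p ↥(normalizer (Q : Set G)) = ⊥ ∧
      Cfsg.IsPConstrained p ↥(normalizer (Q : Set G)) ∧
      Cfsg.IsPStable p ↥(normalizer (Q : Set G))) (P : Sylow p G) :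
    ∀ n : ℕ, ∀ Q : Subgroup G, Q ≤ (P : Subgroup G) → Q ≠ ⊥ →
      Nat.card (P : Subgroup G) - Nat.card ((P : Subgroup G) ⊓ normalizer (Q : Set G) : Subgroup G) = n →
      normalizer (Q : Set G) ≤ normalizer (Cfsg.centerThompsonAOf (P : Subgroup G) : Set G) := by
  intro n
  induction n using Nat.strong_induction_on with
  | _ n ih =>
  intro Q hQP hQ1 hn
  have hQp : IsPGroup p Q := P.isPGroup'.to_le hQP
  obtain ⟨hO, hc, hs⟩ := hloc Q hQp hQ1
  have hQR : Q ≤ (P : Subgroup G) ⊓ normalizer (Q : Set G) := le_inf hQP le_normalizer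
  have hR1 : (P : Subgroup G) ⊓ normalizer (Q : Set G) ≠ ⊥ :=
    fun h => hQ1 (le_bot_iff.mp (h ▸ hQR))
  have hRp : IsPGroup p ((P : Subgroup G) ⊓ normalizer (Q : Set G) : Subgroup G) :=
    P.isPGroup'.to_le inf_le_left
  have ih' : ∀ Q' : Subgroup G, Q' ≤ (P : Subgroup G) → Q' ≠ ⊥ →
      Nat.card ((P : Subgroup G) ⊓ normalizer (Q : Set G) : Subgroup G) <
        Nat.card ((P : Subgroup G) ⊓ normalizer (Q' : Set G) : Subgroup G) →
      normalizer (Q' : Set G) ≤ normalizer (Cfsg.centerThompsonAOf (P : Subgroup G) : Set G) := by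
    intro Q' h1 h2 h3
    apply ih _ _ Q' h1 h2 rfl
    have h4 : Nat.card ((P : Subgroup G) ⊓ normalizer (Q' : Set G) : Subgroup G) ≤
        Nat.card (P : Subgroup G) := card_le_of_le inf_le_left
    omega
  -- properly larger normalizers inside `P`
  have hgrow : ∀ R : Subgroup G, R ≤ (P : Subgroup G) → R ≠ (P : Subgroup G) →
      Nat.card R < Nat.card ((P : Subgroup G) ⊓ normalizer (R : Set G) : Subgroup G) := by
    intro R hRP hne
    obtain ⟨g, hg, hgR⟩ := Cfsg.Agent.Helper25.exists_mem_normalizerIn_not_mem p P.isPGroup' hRP hne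
    apply card_lt_card_of_lt'
    refine lt_of_le_of_ne (le_inf hRP le_normalizer) ?_
    intro h
    apply hgR
    rw [h]
    exact hg
  -- a Sylow subgroup of `N` containing `R`
  have hRp' : IsPGroup p (((P : Subgroup G) ⊓ normalizer (Q : Set G)).subgroupOf
      (normalizer (Q : Set G))) := hRp.comap_subtype
  obtain ⟨S₁, hS₁⟩ := hRp'.exists_le_sylow
  have hRR₁ : (P : Subgroup G) ⊓ normalizer (Q : Set G) ≤
      (S₁ : Subgroup (normalizer (Q : Set G))).map (normalizer (Q : Set G)).subtype := by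
    intro x hx
    exact ⟨⟨x, hx.2⟩, hS₁ (mem_subgroupOf.mpr hx), rfl⟩
  have hR₁N : (S₁ : Subgroup (normalizer (Q : Set G))).map (normalizer (Q : Set G)).subtype ≤
      normalizer (Q : Set G) := map_subtype_le _
  have hR₁p : IsPGroup p ((S₁ : Subgroup (normalizer (Q : Set G))).map
      (normalizer (Q : Set G)).subtype) := S₁.isPGroup'.map _
  have hNZ := le_normalizer_zj_of_sub hp2 hO hc hs S₁
  by_cases hRR : (S₁ : Subgroup (normalizer (Q : Set G))).map (normalizer (Q : Set G)).subtype =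
      (P : Subgroup G) ⊓ normalizer (Q : Set G)
  · rw [hRR] at hNZ
    by_cases hRP : (P : Subgroup G) ⊓ normalizer (Q : Set G) = (P : Subgroup G)
    · rw [hRP] at hNZ
      exact hNZ
    · have hlt := hgrow _ inf_le_left hRP
      have hZR := (Cfsg.Agent.Lead.TNC.zjAFunctor p).le ((P : Subgroup G) ⊓ normalizer (Q : Set G))
      have hZ1 := (Cfsg.Agent.Lead.TNC.zjAFunctor p).ne_bot _ hRp hR1
      have hnl := (Cfsg.Agent.Lead.TNC.zjAFunctor p).normalizer_le
        ((P : Subgroup G) ⊓ normalizer (Q : Set G))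
      refine hNZ.trans (ih' _ (hZR.trans inf_le_left) hZ1 ?_)
      exact lt_of_lt_of_le hlt (card_le_of_le (inf_le_inf_left _ hnl))
  · -- `R < R₁`
    have hne : (P : Subgroup G) ⊓ normalizer (Q : Set G) ≠
        (S₁ : Subgroup (normalizer (Q : Set G))).map (normalizer (Q : Set G)).subtype :=
      fun h => hRR h.symm
    obtain ⟨g, hg, hgR⟩ := Cfsg.Agent.Helper25.exists_mem_normalizerIn_not_mem p hR₁p hRR₁ hne
    have hRP : (P : Subgroup G) ⊓ normalizer (Q : Set G) ≠ (P : Subgroup G) := by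
      intro hRP
      apply hRR
      rw [hRP] at hRR₁ ⊢
      exact (P.is_maximal' hR₁p hRR₁)
    have hRM : normalizer (((P : Subgroup G) ⊓ normalizer (Q : Set G) : Subgroup G) : Set G) ≤
        normalizer (Cfsg.centerThompsonAOf (P : Subgroup G) : Set G) :=
      ih' _ inf_le_left hR1 (hgrow _ inf_le_left hRP)
    have hTp : IsPGroup p ((S₁ : Subgroup (normalizer (Q : Set G))).map
        (normalizer (Q : Set G)).subtype ⊓
          normalizer (((P : Subgroup G) ⊓ normalizer (Q : Set G) : Subgroup G) : Set G) : Subgroup G) :=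
      hR₁p.to_le inf_le_left
    have hPM : (P : Subgroup G) ≤ normalizer (Cfsg.centerThompsonAOf (P : Subgroup G) : Set G) :=
      le_normalizer.trans ((Cfsg.Agent.Lead.TNC.zjAFunctor p).normalizer_le (P : Subgroup G))
    obtain ⟨m, hmM, hm⟩ := exists_conj_mem_of_le_of_sylow P hPM (inf_le_right.trans hRM) hTp
    have hRT : (P : Subgroup G) ⊓ normalizer (Q : Set G) <
        (S₁ : Subgroup (normalizer (Q : Set G))).map (normalizer (Q : Set G)).subtype ⊓
          normalizer (((P : Subgroup G) ⊓ normalizer (Q : Set G) : Subgroup G) : Set G) := by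
      refine lt_of_le_of_ne (le_inf hRR₁ le_normalizer) ?_
      intro h
      apply hgR
      rw [h]
      exact hg
    have hQ'P : Q.map (MulAut.conj m).toMonoidHom ≤ (P : Subgroup G) := by
      rintro _ ⟨x, hx, rfl⟩
      exact hm x (hRT.le (hQR hx))
    have hQ'1 : Q.map (MulAut.conj m).toMonoidHom ≠ ⊥ := by
      intro h
      apply hQ1
      rwa [Subgroup.map_eq_bot_iff_of_injective _ (MulAut.conj m).injective] at h
    have hlt : Nat.card ((P : Subgroup G) ⊓ normalizer (Q : Set G) : Subgroup G) <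
        Nat.card ((P : Subgroup G) ⊓
          normalizer ((Q.map (MulAut.conj m).toMonoidHom : Subgroup G) : Set G) : Subgroup G) := by
      have h1 : ((S₁ : Subgroup (normalizer (Q : Set G))).map (normalizer (Q : Set G)).subtype ⊓
          normalizer (((P : Subgroup G) ⊓ normalizer (Q : Set G) : Subgroup G) : Set G)).map
            (MulAut.conj m).toMonoidHom ≤ (P : Subgroup G) ⊓
              normalizer ((Q.map (MulAut.conj m).toMonoidHom : Subgroup G) : Set G) := by
        rintro _ ⟨t, ht, rfl⟩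
        refine ⟨hm t ht, ?_⟩
        exact le_normalizer_map _ (mem_map_of_mem _ (hR₁N ht.1))
      calc Nat.card ((P : Subgroup G) ⊓ normalizer (Q : Set G) : Subgroup G)
          < Nat.card ((S₁ : Subgroup (normalizer (Q : Set G))).map (normalizer (Q : Set G)).subtype ⊓
              normalizer (((P : Subgroup G) ⊓ normalizer (Q : Set G) : Subgroup G) : Set G) :
                Subgroup G) := card_lt_card_of_lt' hRT
        _ = _ := (card_map_conj _ m).symm
        _ ≤ _ := card_le_of_le h1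
    have h2 := ih' _ hQ'P hQ'1 hlt
    intro x hx
    have h3 : m * x * m⁻¹ ∈
        normalizer ((Q.map (MulAut.conj m).toMonoidHom : Subgroup G) : Set G) :=
      le_normalizer_map (MulAut.conj m).toMonoidHom (mem_map_of_mem _ hx)
    have h4 := h2 h3
    have h5 : x = m⁻¹ * (m * x * m⁻¹) * m := by group
    rw [h5]
    exact mul_mem (mul_mem (inv_mem hmM) h4) hmM

end PLZ

end Cfsg.Agent.Helper26
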