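import Mathlib
import Cfsg.Agent.Helper18.PSL3Inv2
import Cfsg.Agent.Helper2.SLCard

set_option autoImplicit false

/-! Sylow 2-subgroups of `PSL₃(q)`, `q` odd, are isomorphic to those of `GL₂(q)`. -/

namespace Cfsg.Agent.Helper26.PSL3Syl

open Cfsg.Agent.Helper18.PSL3Inv

variable {F : Type*} [Field F] [Fintype F]

local notation "G3" => Matrix.ProjectiveSpecialLinearGroup (Fin 3) F
local notation "S3" => Matrix.SpecialLinearGroup (Fin 3) F
local notation "G2" => GL (Fin 2) F

theorem q_ge (hodd : Fintype.card F % 2 = 1) : 3 ≤ Fintype.card F := by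
  have h1 : 1 < Fintype.card F := Fintype.one_lt_card
  omega

/-- `|SL₃(q)| = |GL₂(q)| · q²(q²+q+1)` -/
theorem card_SL3_eq :
    Nat.card S3 = Nat.card G2 * (Fintype.card F ^ 2 * (Fintype.card F ^ 2 + Fintype.card F + 1)) := by
  have h1 := Cfsg.Agent.Helper2.card_SL_mul_card_units (ι := Fin 3) (F := F)
  have h2 := Matrix.card_GL_field (𝔽 := F) 3
  have h3 := Matrix.card_GL_field (𝔽 := F) 2
  have h4 := Cfsg.Agent.Helper2.card_units_field (F := F)
  rw [Fin.prod_univ_three] at h2
  rw [Fin.prod_univ_two] at h3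
  simp only [Fin.val_zero, Fin.val_one, Fin.val_two, pow_zero, pow_one] at h2 h3
  have hq : 1 < Fintype.card F := Fintype.one_lt_card
  generalize Fintype.card F = q at *
  rw [h3]
  rw [h2, h4] at h1
  have hq1 : 0 < q - 1 := by omega
  apply Nat.eq_of_mul_eq_mul_right hq1
  rw [h1]
  have e1 : q ^ 3 - 1 = (q - 1) * (q ^ 2 + q + 1) := by
    obtain ⟨m, rfl⟩ : ∃ m, q = m + 1 := ⟨q - 1, by omega⟩
    rw [Nat.add_sub_cancel]
    apply Nat.sub_eq_of_eq_add
    ring
  have e2 : q ^ 3 - q = q * (q ^ 2 - 1) := by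
    rw [Nat.mul_sub, mul_one]; ring_nf
  have e3 : q ^ 3 - q ^ 2 = q ^ 2 * (q - 1) := by
    rw [Nat.mul_sub, mul_one]; ring_nf
  have e4 : q ^ 2 - q = q * (q - 1) := by
    rw [Nat.mul_sub, mul_one]; ring_nf
  rw [e1, e2, e3, e4]
  ring

theorem card_ker_odd :
    Odd (Nat.card (psi : G2 →* G3).ker) := by
  rw [card_ker]
  have h := Nat.gcd_dvd_right (Fintype.card F - 1) 3
  rcases (Nat.dvd_prime Nat.prime_three).mp h with h1 | h1 <;> rw [h1] <;> decide

theorem factorization_eq (hodd : Fintype.card F % 2 = 1) :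
    (Nat.card G3).factorization 2 = (Nat.card G2).factorization 2 := by
  have h1 : Nat.card (Subgroup.center S3) * Nat.card G3 = Nat.card S3 := by
    rw [mul_comm]
    exact (Subgroup.card_eq_card_quotient_mul_card_subgroup (Subgroup.center S3)).symm
  have h2 := Cfsg.Agent.Helper2.card_center_SL (F := F) 3 (by norm_num)
  have hd : Odd (Nat.card (Subgroup.center S3)) := by
    rw [h2]
    have h := Nat.gcd_dvd_left 3 (Nat.card Fˣ)
    rcases (Nat.dvd_prime Nat.prime_three).mp h with h1 | h1 <;> rw [h1] <;> decide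
  have hq : Odd (Fintype.card F) := Nat.odd_iff.mpr hodd
  have hM : Odd (Fintype.card F ^ 2 * (Fintype.card F ^ 2 + Fintype.card F + 1)) := by
    apply Odd.mul hq.pow
    have : Even (Fintype.card F ^ 2 + Fintype.card F) := by
      rw [sq, ← Nat.mul_succ]
      exact Nat.even_mul_succ_self _
    exact this.add_one
  have h3 := card_SL3_eq (F := F)
  rw [← h1] at h3
  have hfac : ∀ a : ℕ, Odd a → a.factorization 2 = 0 := fun a ha =>
    Nat.factorization_eq_zero_of_not_dvd (fun h => (Nat.not_even_iff_odd.mpr ha) (even_iff_two_dvd.mpr h))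
  have h4 := congrArg (fun m => m.factorization 2) h3
  rw [Nat.factorization_mul (Nat.card_pos).ne' (Nat.card_pos).ne',
    Nat.factorization_mul (Nat.card_pos).ne' (by positivity)] at h4
  simp only [Finsupp.coe_add, Pi.add_apply] at h4
  rw [hfac _ hd, hfac _ hM] at h4
  omega


theorem exists_sylow_equiv (hodd : Fintype.card F % 2 = 1) (S : Sylow 2 G3) :
    ∃ P : Sylow 2 G2, Nonempty ((S : Subgroup G3) ≃* (P : Subgroup G2)) := by
  have : Fact (Nat.Prime 2) := ⟨Nat.prime_two⟩
  obtain ⟨P⟩ : Nonempty (Sylow 2 G2) := inferInstance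
  refine ⟨P, ?_⟩
  have hinj : ∀ a : G2, a ∈ (P : Subgroup G2) → psi a = 1 → a = 1 := by
    intro a haP ha
    obtain ⟨k, hk⟩ := P.isPGroup' ⟨a, haP⟩
    have hk' : a ^ (2 ^ k) = 1 := by
      have := congrArg Subtype.val hk
      simpa using this
    have h1 : orderOf a ∣ 2 ^ k := orderOf_dvd_of_pow_eq_one hk'
    have h2 : orderOf a ∣ Nat.card (psi : G2 →* G3).ker := by
      have h3 : orderOf (⟨a, ha⟩ : (psi : G2 →* G3).ker) ∣ Nat.card (psi : G2 →* G3).ker :=
        orderOf_dvd_natCard _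
      rwa [← Subgroup.orderOf_coe] at h3
    have h4 : Nat.Coprime (2 ^ k) (Nat.card (psi : G2 →* G3).ker) :=
      Nat.Coprime.pow_left k (Nat.coprime_two_left.mpr card_ker_odd)
    have h5 : orderOf a ∣ 1 := by
      rw [← h4]; exact Nat.dvd_gcd h1 h2
    exact orderOf_eq_one_iff.mp (Nat.dvd_one.mp h5)
  have hbij : Function.Bijective ((psi : G2 →* G3).subgroupMap (P : Subgroup G2)) := by
    refine ⟨?_, (psi : G2 →* G3).subgroupMap_surjective (P : Subgroup G2)⟩
    rw [injective_iff_map_eq_one]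
    intro a ha
    have h1 : psi (a : G2) = 1 := congrArg Subtype.val ha
    exact Subtype.ext (hinj a a.2 h1)
  have e₀ : (P : Subgroup G2) ≃* ((P : Subgroup G2).map (psi : G2 →* G3)) :=
    MulEquiv.ofBijective _ hbij
  have hcard : Nat.card ((P : Subgroup G2).map (psi : G2 →* G3)) =
      2 ^ (Nat.card G3).factorization 2 := by
    rw [← Nat.card_congr e₀.toEquiv, P.card_eq_multiplicity, factorization_eq hodd]
  obtain ⟨g, hg⟩ := MulAction.exists_smul_eq G3 (Sylow.ofCard _ hcard) S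
  have e₁ := Sylow.equivSMul (Sylow.ofCard _ hcard) g
  rw [hg] at e₁
  exact ⟨e₁.symm.trans e₀.symm⟩

end Cfsg.Agent.Helper26.PSL3Syl
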