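import Mathlib
import Cfsg.Agent.Helper18.SU3Inv6
import Cfsg.Agent.S0279
import Cfsg.Agent.Helper12.PSUCommD

set_option autoImplicit false

/-! Sylow 2-subgroups of `PSU₃(q)`, `q` odd, are isomorphic to those of `GU₂(q)`. -/

namespace Cfsg.Agent.Helper26.PSU3Syl

open Cfsg.Agent.Helper18.PSL3Inv Cfsg.Agent.Helper18.SU3Inv

variable {F : Type*} [Field F] [Fintype F] {q : ℕ}

/-- `GU₂(q) → SU₃(q)`, `B ↦ diag((det B)⁻¹, B)` -/
noncomputable def psi1 (hF : Fintype.card F = q ^ 2) : ↥(Cfsg.GU 2 F q) →* ↥(Cfsg.SU 3 F q) :=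
  ((psi0 : GL (Fin 2) F →* _).comp (Cfsg.GU 2 F q).subtype).codRestrict (Cfsg.SU 3 F q)
    (fun B => psi0_mem hF B.2)

theorem psi1_injective (hF : Fintype.card F = q ^ 2) : Function.Injective (psi1 hF) := by
  intro B B' h
  have h1 : (psi0 B.1 : Matrix (Fin 3) (Fin 3) F) = (psi0 B'.1 : Matrix (Fin 3) (Fin 3) F) :=
    congrArg (fun y : ↥(Cfsg.SU 3 F q) =>
      ((y : Matrix.SpecialLinearGroup (Fin 3) F) : Matrix (Fin 3) (Fin 3) F)) h
  rw [psi0_val, psi0_val] at h1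
  exact Subtype.ext (Units.ext (blk_injective h1).1)

/-- the composite `GU₂ → SU₃ → PSU₃` -/
noncomputable def psi2 (hF : Fintype.card F = q ^ 2) : ↥(Cfsg.GU 2 F q) →* Cfsg.PSU 3 F q :=
  (QuotientGroup.mk' (Subgroup.center ↥(Cfsg.SU 3 F q))).comp (psi1 hF)

theorem card_center_odd (hF : Fintype.card F = q ^ 2) :
    Odd (Nat.card (Subgroup.center ↥(Cfsg.SU 3 F q))) := by
  rw [Cfsg.Agent.S0279.result hF 3 (le_refl 3)]
  have h := Nat.gcd_dvd_left 3 (q + 1)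
  rcases (Nat.dvd_prime Nat.prime_three).mp h with h1 | h1 <;> rw [h1] <;> decide

/-- `|SU₃(q)| = |GU₂(q)| · q²(q²-q+1)` -/
theorem card_SU3_eq (hF : Fintype.card F = q ^ 2) :
    Nat.card ↥(Cfsg.SU 3 F q) = Nat.card ↥(Cfsg.GU 2 F q) * (q ^ 2 * (q ^ 2 - q + 1)) := by
  have h1 := card_SU3 hF
  have h2 := card_GU2 hF
  rw [h2]
  have hq : 0 < q + 1 := by omega
  apply Nat.eq_of_mul_eq_mul_left hq
  rw [h1]
  have hq1 : q ≤ q ^ 2 := by nlinarith
  have e1 : q ^ 3 + 1 = (q + 1) * (q ^ 2 - q + 1) := by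
    zify [hq1]
    ring
  rw [e1]
  ring

theorem factorization_eq (hF : Fintype.card F = q ^ 2) (hodd : q % 2 = 1) :
    (Nat.card (Cfsg.PSU 3 F q)).factorization 2 = (Nat.card ↥(Cfsg.GU 2 F q)).factorization 2 := by
  have h1 : Nat.card (Subgroup.center ↥(Cfsg.SU 3 F q)) * Nat.card (Cfsg.PSU 3 F q) =
      Nat.card ↥(Cfsg.SU 3 F q) := by
    rw [mul_comm]
    exact (Subgroup.card_eq_card_quotient_mul_card_subgroup
      (Subgroup.center ↥(Cfsg.SU 3 F q))).symm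
  have hd := card_center_odd hF
  have hq : Odd q := Nat.odd_iff.mpr hodd
  have hM : Odd (q ^ 2 * (q ^ 2 - q + 1)) := by
    apply Odd.mul hq.pow
    have : Even (q ^ 2 - q) := by
      have h2 : Odd (q ^ 2) := hq.pow
      exact Nat.Odd.sub_odd h2 hq
    exact this.add_one
  have h3 := card_SU3_eq hF
  rw [← h1] at h3
  have hfac : ∀ a : ℕ, Odd a → a.factorization 2 = 0 := fun a ha =>
    Nat.factorization_eq_zero_of_not_dvd (fun h => (Nat.not_even_iff_odd.mpr ha) (even_iff_two_dvd.mpr h))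
  have h4 := congrArg (fun m => m.factorization 2) h3
  rw [Nat.factorization_mul (Nat.card_pos).ne' (Nat.card_pos).ne',
    Nat.factorization_mul (Nat.card_pos).ne' (Nat.pos_of_ne_zero (fun h => by rw [h] at hM; exact absurd hM (by decide))).ne'] at h4
  simp only [Finsupp.coe_add, Pi.add_apply] at h4
  rw [hfac _ hd, hfac _ hM] at h4
  omega


theorem exists_sylow_equiv (hF : Fintype.card F = q ^ 2) (hodd : q % 2 = 1)
    (S : Sylow 2 (Cfsg.PSU 3 F q)) :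
    ∃ P : Sylow 2 ↥(Cfsg.GU 2 F q), Nonempty ((S : Subgroup (Cfsg.PSU 3 F q)) ≃*
      (P : Subgroup ↥(Cfsg.GU 2 F q))) := by
  have : Fact (Nat.Prime 2) := ⟨Nat.prime_two⟩
  obtain ⟨P⟩ : Nonempty (Sylow 2 ↥(Cfsg.GU 2 F q)) := inferInstance
  refine ⟨P, ?_⟩
  have hinj : ∀ a : ↥(Cfsg.GU 2 F q), a ∈ (P : Subgroup ↥(Cfsg.GU 2 F q)) → psi2 hF a = 1 →
      a = 1 := by
    intro a haP ha
    have hc : psi1 hF a ∈ Subgroup.center ↥(Cfsg.SU 3 F q) := by
      rw [← QuotientGroup.eq_one_iff]; exact ha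
    obtain ⟨k, hk⟩ := P.isPGroup' ⟨a, haP⟩
    have hk' : a ^ (2 ^ k) = 1 := by
      have := congrArg Subtype.val hk
      simpa using this
    have h1 : orderOf a ∣ 2 ^ k := orderOf_dvd_of_pow_eq_one hk'
    have h2 : orderOf a ∣ Nat.card (Subgroup.center ↥(Cfsg.SU 3 F q)) := by
      have h3 : orderOf (⟨psi1 hF a, hc⟩ : Subgroup.center ↥(Cfsg.SU 3 F q)) ∣
          Nat.card (Subgroup.center ↥(Cfsg.SU 3 F q)) := orderOf_dvd_natCard _
      rwa [← Subgroup.orderOf_coe, orderOf_injective (psi1 hF) (psi1_injective hF)] at h3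
    have h4 : Nat.Coprime (2 ^ k) (Nat.card (Subgroup.center ↥(Cfsg.SU 3 F q))) :=
      Nat.Coprime.pow_left k (Nat.coprime_two_left.mpr (card_center_odd hF))
    have h5 : orderOf a ∣ 1 := by
      rw [← h4]; exact Nat.dvd_gcd h1 h2
    exact orderOf_eq_one_iff.mp (Nat.dvd_one.mp h5)
  have hbij : Function.Bijective ((psi2 hF).subgroupMap (P : Subgroup ↥(Cfsg.GU 2 F q))) := by
    refine ⟨?_, (psi2 hF).subgroupMap_surjective (P : Subgroup ↥(Cfsg.GU 2 F q))⟩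
    rw [injective_iff_map_eq_one]
    intro a ha
    have h1 : psi2 hF (a : ↥(Cfsg.GU 2 F q)) = 1 := congrArg Subtype.val ha
    exact Subtype.ext (hinj a a.2 h1)
  have e₀ : (P : Subgroup ↥(Cfsg.GU 2 F q)) ≃*
      ((P : Subgroup ↥(Cfsg.GU 2 F q)).map (psi2 hF)) := MulEquiv.ofBijective _ hbij
  have hcard : Nat.card ((P : Subgroup ↥(Cfsg.GU 2 F q)).map (psi2 hF)) =
      2 ^ (Nat.card (Cfsg.PSU 3 F q)).factorization 2 := by
    rw [← Nat.card_congr e₀.toEquiv, P.card_eq_multiplicity, factorization_eq hF hodd]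
  obtain ⟨g, hg⟩ := MulAction.exists_smul_eq (Cfsg.PSU 3 F q) (Sylow.ofCard _ hcard) S
  have e₁ := Sylow.equivSMul (Sylow.ofCard _ hcard) g
  rw [hg] at e₁
  exact ⟨e₁.symm.trans e₀.symm⟩

/-- all involutions of `PSU₃(q)`, `q` odd, are conjugate -/
theorem invol_conj (hF : Fintype.card F = q ^ 2) (hodd : q % 2 = 1)
    (a b : Cfsg.PSU 3 F q) (ha : orderOf a = 2) (hb : orderOf b = 2) : IsConj a b := by
  have hq : Odd q := Nat.odd_iff.mpr hodd
  have hcop : Nat.Coprime 2 (Nat.card (Subgroup.center ↥(Cfsg.SU 3 F q))) :=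
    Nat.coprime_two_left.mpr (card_center_odd hF)
  obtain ⟨x, hxa, hx⟩ := Cfsg.Agent.Helper12.PSUComm.exists_lift_orderOf
    (Subgroup.center ↥(Cfsg.SU 3 F q)) a 2 ha hcop
  obtain ⟨y, hyb, hy⟩ := Cfsg.Agent.Helper12.PSUComm.exists_lift_orderOf
    (Subgroup.center ↥(Cfsg.SU 3 F q)) b 2 hb hcop
  have hx1 : x ≠ 1 := by
    intro h; rw [h, orderOf_one] at hx; omega
  have hy1 : y ≠ 1 := by
    intro h; rw [h, orderOf_one] at hy; omega
  have hx2 : x * x = 1 := by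
    have := pow_orderOf_eq_one x
    rwa [hx, sq] at this
  have hy2 : y * y = 1 := by
    have := pow_orderOf_eq_one y
    rwa [hy, sq] at this
  obtain ⟨g, hg⟩ := exists_conj hF hq x hx1 hx2
  obtain ⟨k, hk⟩ := exists_conj hF hq y hy1 hy2
  rw [isConj_iff]
  refine ⟨QuotientGroup.mk (k * g⁻¹), ?_⟩
  rw [← hxa, ← hyb, ← QuotientGroup.mk_inv, ← QuotientGroup.mk_mul, ← QuotientGroup.mk_mul]
  congr 1
  rw [← hg, ← hk]
  group

end Cfsg.Agent.Helper26.PSU3Syl
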