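import Mathlib
import Cfsg.Prelude.Def_CaseTheorems
import Cfsg.Agent.Helper25.DihedralAut

set_option autoImplicit false

/-! Quasi-dihedral and wreathed 2-groups: generation by involutions and one more element, and
automorphism groups. -/

namespace Cfsg.Agent.Helper26.QDWr

/-- `H` is generated by its involutions together with one more element. -/
def GenInvolOne (H : Type*) [Group H] : Prop :=
  ∃ c : H, ∀ h : H, h ∈ Subgroup.closure ({x : H | orderOf x = 2} ∪ {c})

theorem GenInvolOne.of_equiv {H K : Type*} [Group H] [Group K] (e : H ≃* K) (h : GenInvolOne H) :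
    GenInvolOne K := by
  obtain ⟨c, hc⟩ := h
  refine ⟨e c, fun k => ?_⟩
  have h1 := hc (e.symm k)
  have h2 : e (e.symm k) ∈ (Subgroup.closure ({x : H | orderOf x = 2} ∪ {c})).map e.toMonoidHom :=
    Subgroup.mem_map_of_mem _ h1
  rw [e.apply_symm_apply, MonoidHom.map_closure] at h2
  refine Subgroup.closure_mono ?_ h2
  rintro _ ⟨y, hy | hy, rfl⟩
  · left
    show orderOf (e y) = 2
    rw [MulEquiv.orderOf_eq]; exact hy
  · right
    rw [Set.mem_singleton_iff] at hy
    subst hy; rfl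

section QD

variable {H : Type*} [Group H] [Finite H]

theorem qd_structure (h : Cfsg.IsQuasiDihedral H) :
    ∃ (n : ℕ) (x y : H), 3 ≤ n ∧ orderOf x = 2 ^ n ∧ orderOf y = 2 ∧
      y ∉ Subgroup.zpowers x ∧ (∀ h : H, h ∈ Subgroup.zpowers x ∨ ∃ w ∈ Subgroup.zpowers x, h = y * w) ∧
      ∀ h : H, h ∉ Subgroup.zpowers x → h ^ 4 = 1 := by
  obtain ⟨n, hn, hcard, x, y, hx, hy, hxy⟩ := h
  have h2n : 4 ≤ 2 ^ (n - 1) := by
    calc 4 = 2 ^ 2 := by norm_num
      _ ≤ 2 ^ (n - 1) := Nat.pow_le_pow_right (by norm_num) (by omega)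
  have hpow : 2 ^ n = 2 * 2 ^ (n - 1) := by
    rw [← pow_succ']; congr 1; omega
  have hynot : y ∉ Subgroup.zpowers x := by
    intro hmem
    obtain ⟨k, hk⟩ := hmem
    have hcomm : y * x * y⁻¹ = x := by
      rw [← hk]
      simp only
      rw [← zpow_add_one, ← zpow_neg, ← zpow_add]
      simp
    rw [hxy] at hcomm
    have h1 : x ^ (2 ^ (n - 1) - 2) = 1 := by
      have : x ^ (2 ^ (n - 1) - 1) = x ^ (2 ^ (n - 1) - 2) * x := by
        rw [← pow_succ]; congr 1; omega
      rw [this] at hcomm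
      exact mul_eq_right.mp hcomm
    have h2 := orderOf_dvd_of_pow_eq_one h1
    rw [hx] at h2
    have := Nat.le_of_dvd (by omega) h2
    omega
  have hidx : (Subgroup.zpowers x).index = 2 := by
    have h1 := (Subgroup.zpowers x).card_mul_index
    rw [Nat.card_zpowers, hx, hcard, pow_succ] at h1
    exact Nat.eq_of_mul_eq_mul_left (by positivity) h1
  have hgen : ∀ h : H, h ∈ Subgroup.zpowers x ∨ ∃ w ∈ Subgroup.zpowers x, h = y * w := by
    intro h
    by_cases hh : h ∈ Subgroup.zpowers x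
    · exact Or.inl hh
    · right
      refine ⟨y⁻¹ * h, ?_, by group⟩
      rw [Subgroup.mul_mem_iff_of_index_two hidx]
      constructor
      · intro h1; exact absurd (inv_mem_iff.mp h1) hynot
      · intro h1; exact absurd h1 hh
  refine ⟨n, x, y, hn, hx, hy, hynot, hgen, ?_⟩
  intro h hh
  rcases hgen h with h1 | ⟨w, ⟨k, rfl⟩, rfl⟩
  · exact absurd h1 hh
  · -- `(y x^k)^2 = x^(k 2^(n-1))`
    have hy2 : y * y = 1 := by
      have := pow_orderOf_eq_one y
      rwa [hy, sq] at this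
    have hyinv : y⁻¹ = y := inv_eq_of_mul_eq_one_right hy2
    have hconj : y * x ^ k * y = (x ^ (2 ^ (n - 1) - 1)) ^ k := by
      have : y * x ^ k * y⁻¹ = (y * x * y⁻¹) ^ k := by rw [conj_zpow]
      rw [hyinv] at this
      rw [this, ← hxy, hyinv]
    have hsq : (y * x ^ k) ^ 2 = (x ^ (2 ^ (n - 1))) ^ k := by
      rw [sq]
      have : y * x ^ k * (y * x ^ k) = (y * x ^ k * y) * x ^ k := by group
      rw [this, hconj, ← zpow_natCast, ← zpow_mul, ← zpow_add, ← zpow_natCast, ← zpow_mul]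
      congr 1
      have : ((2 ^ (n - 1) - 1 : ℕ) : ℤ) = 2 ^ (n - 1) - 1 := by
        rw [Nat.cast_sub (by omega)]; simp
      rw [this]
      push_cast
      ring
    have : (y * x ^ k) ^ 4 = ((y * x ^ k) ^ 2) ^ 2 := by rw [← pow_mul]
    rw [this, hsq, ← zpow_natCast, ← zpow_natCast, ← zpow_mul, ← zpow_mul]
    have : ((2 ^ (n - 1) : ℕ) : ℤ) * (k * ((2 : ℕ) : ℤ)) = ((2 ^ n : ℕ) : ℤ) * k := by
      rw [hpow]; push_cast; ring
    rw [this, zpow_mul, zpow_natCast, ← hx, pow_orderOf_eq_one, one_zpow]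

theorem genInvolOne_of_qd (h : Cfsg.IsQuasiDihedral H) : GenInvolOne H := by
  obtain ⟨n, x, y, hn, hx, hy, hynot, hgen, -⟩ := qd_structure h
  refine ⟨x, fun h => ?_⟩
  have hxc : x ∈ Subgroup.closure ({x : H | orderOf x = 2} ∪ {x}) :=
    Subgroup.subset_closure (Or.inr rfl)
  have hyc : y ∈ Subgroup.closure ({x : H | orderOf x = 2} ∪ {x}) :=
    Subgroup.subset_closure (Or.inl hy)
  have hz : Subgroup.zpowers x ≤ Subgroup.closure ({x : H | orderOf x = 2} ∪ {x}) := by
    rw [Subgroup.zpowers_le]; exact hxc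
  rcases hgen h with h1 | ⟨w, hw, rfl⟩
  · exact hz h1
  · exact mul_mem hyc (hz hw)

theorem isPGroup_mulAut_of_qd (h : Cfsg.IsQuasiDihedral H) : IsPGroup 2 (MulAut H) := by
  obtain ⟨n, x, y, hn, hx, hy, hynot, hgen, h4⟩ := qd_structure h
  refine Cfsg.Agent.Helper25.isPGroup_mulAut_of_cyclic_index_two x y n (by omega) hx hgen hynot ?_
  intro h hh
  have h1 := orderOf_dvd_of_pow_eq_one (h4 h hh)
  have h2 := Nat.le_of_dvd (by norm_num) h1
  rw [hx]
  have : 2 ^ 3 ≤ 2 ^ n := Nat.pow_le_pow_right (by norm_num) hn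
  omega

end QD

end Cfsg.Agent.Helper26.QDWr
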