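import Mathlib
import Cfsg.Agent.Helper26.QdSec4
import Cfsg.Agent.Helper26.QdNotStable

set_option autoImplicit false
set_option linter.unusedSectionVars false
set_option linter.unusedVariables false
set_option linter.style.haveILetI false

/-! # The standard natural pair inside `Qd(p)` -/

namespace Cfsg.Agent.Helper26.QdLoc

open Cfsg.Agent.Helper18.Dickson Cfsg.Agent.Helper14 Cfsg.Agent.Helper26.QdSec
  Cfsg.Agent.Helper26.QdNotStable

variable {p : ℕ} [hp : Fact p.Prime]

theorem affTau_pow (u : Fin 2 → ZMod p) (n : ℕ) : affTau u ^ n = affTau (n • u) := by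
  induction n with
  | zero => rw [pow_zero, zero_smul, affTau_zero]
  | succ n ih => rw [pow_succ, ih, succ_nsmul, affTau_add]

theorem affTau_injective : Function.Injective (affTau : (Fin 2 → ZMod p) → _) := by
  intro u v h
  have := congrArg affVec h
  rwa [affVec_affTau, affVec_affTau] at this

theorem conj_affIota_affTau (M : Matrix.SpecialLinearGroup (Fin 2) (ZMod p))
    (u : Fin 2 → ZMod p) :
    affIota (ZMod p) M * affTau u * (affIota (ZMod p) M)⁻¹ =
      affTau ((M : Matrix (Fin 2) (Fin 2) (ZMod p)).mulVec u) := by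
  rw [affIota_mul_affTau, mul_inv_cancel_right]

/-- the standard natural pair in `Qd(p)` -/
theorem coreHyp_aff : CoreHyp p (affIota (ZMod p) (uM (1 : ZMod p)))
    (affIota (ZMod p) (lM (1 : ZMod p))) (affTau (![1, 0] : Fin 2 → ZMod p))
    (affTau (![0, 1] : Fin 2 → ZMod p)) := by
  refine ⟨?_, ?_, ?_, ?_, ?_, ?_, ?_, ?_⟩
  · rw [← affTau_add, ← affTau_add, add_comm]
  · rw [affTau_pow]
    have : (p • (![1, 0] : Fin 2 → ZMod p)) = 0 := by
      ext i
      fin_cases i <;> simp
    rw [this, affTau_zero]
  · rw [affTau_pow]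
    have : (p • (![0, 1] : Fin 2 → ZMod p)) = 0 := by
      ext i
      fin_cases i <;> simp
    rw [this, affTau_zero]
  · rw [conj_affIota_affTau]
    congr 1
    ext i
    fin_cases i <;> simp [uM_coe, Matrix.mulVec, dotProduct, Fin.sum_univ_two]
  · rw [conj_affIota_affTau, ← affTau_add]
    congr 1
    ext i
    fin_cases i <;> simp [uM_coe, Matrix.mulVec, dotProduct, Fin.sum_univ_two]
  · rw [conj_affIota_affTau, ← affTau_add]
    congr 1
    ext i
    fin_cases i <;> simp [lM_coe, Matrix.mulVec, dotProduct, Fin.sum_univ_two]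
  · rw [conj_affIota_affTau]
    congr 1
    ext i
    fin_cases i <;> simp [lM_coe, Matrix.mulVec, dotProduct, Fin.sum_univ_two]
  · intro i j hij
    rw [affTau_pow, affTau_pow, ← affTau_add, ← affTau_zero (F := ZMod p)] at hij
    have h0 := affTau_injective hij
    have e0 := congrFun h0 0
    have e1 := congrFun h0 1
    simp at e0 e1
    exact ⟨(ZMod.natCast_eq_zero_iff i p).mp e0, (ZMod.natCast_eq_zero_iff j p).mp e1⟩

theorem ker_affPi_comm (a b : Cfsg.Agent.Helper17.affSub (ZMod p))
    (ha : a ∈ (affPi (ZMod p)).ker) (hb : b ∈ (affPi (ZMod p)).ker) : a * b = b * a := by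
  rw [exists_affTau_of_mem_ker a ha, exists_affTau_of_mem_ker b hb, ← affTau_add, ← affTau_add,
    add_comm]

/-- a group involving `Qd(p)` has a subgroup mapping onto the affine group -/
theorem exists_surjective_aff {X : Type*} [Group X] (h : Cfsg.Involves ↥(Cfsg.qd p) X) :
    ∃ (K : Subgroup X) (π : K →* ↥(Cfsg.Agent.Helper17.affSub (ZMod p))),
      Function.Surjective π := by
  rw [qd_eq_affSub] at h
  exact exists_surjective_of_involves h

end Cfsg.Agent.Helper26.QdLoc
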