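import Mathlib
import Cfsg.Agent.Helper26.QdLocA

set_option autoImplicit false
set_option linter.unusedSectionVars false
set_option linter.unusedVariables false
set_option linter.style.haveILetI false

/-! # Natural pairs: transfer along actions on a subgroup, and `p`-localization -/

namespace Cfsg.Agent.Helper26.QdLoc

open Cfsg.Agent.Helper26.QdSec

variable {p : ℕ}

section Basic

variable {X : Type*} [Group X]

/-- a natural pair local to the subgroup `R` -/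
def LocQd (p : ℕ) (X : Type*) [Group X] (R : Subgroup X) : Prop :=
  ∃ (A₂ : Subgroup X) (x y f₁ f₂ : X), SecHyp p A₂ x y f₁ f₂ ∧ A₂ ≤ R ∧ f₁ ∈ R ∧ f₂ ∈ R ∧
    x ∈ Subgroup.normalizer (R : Set X) ∧ y ∈ Subgroup.normalizer (R : Set X)

theorem LocQd.involves [Finite X] [hp : Fact p.Prime] (hp2 : p ≠ 2) {R : Subgroup X}
    (h : LocQd p X R) : Cfsg.Involves ↥(Cfsg.qd p) X := by
  obtain ⟨A₂, x, y, f₁, f₂, hs, -⟩ := h
  exact involves_qd_of_secHyp hp2 hs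

theorem mem_normalizer_of_conj_mem_fin (H : Subgroup X) [Finite H]
    (g : X) (h : ∀ x ∈ H, g * x * g⁻¹ ∈ H) : g ∈ Subgroup.normalizer (H : Set X) := by
  rw [Subgroup.mem_normalizer_iff]
  intro x
  constructor
  · exact h x
  · intro hx
    have hinj : Function.Injective (fun y : H => (⟨g * y.1 * g⁻¹, h y.1 y.2⟩ : H)) := by
      intro y z hyz
      apply Subtype.ext
      have := congrArg Subtype.val hyz
      simpa using this
    obtain ⟨y, hy⟩ := (Finite.injective_iff_surjective.1 hinj) ⟨g * x * g⁻¹, hx⟩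
    have h1 : g * y.1 * g⁻¹ = g * x * g⁻¹ := congrArg Subtype.val hy
    have h2 : y.1 = x := by simpa using h1
    rw [← h2]
    exact y.2

theorem conj_mem_of_mem_normalizer {R : Subgroup X} {x r : X}
    (hx : x ∈ Subgroup.normalizer (R : Set X)) (hr : r ∈ R) : x * r * x⁻¹ ∈ R :=
  (Subgroup.mem_normalizer_iff.mp hx r).mp hr

theorem mem_normalizer_inf {A B : Subgroup X} {g : X}
    (hA : g ∈ Subgroup.normalizer (A : Set X)) (hB : g ∈ Subgroup.normalizer (B : Set X)) :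
    g ∈ Subgroup.normalizer ((A ⊓ B : Subgroup X) : Set X) := by
  rw [Subgroup.mem_normalizer_iff] at hA hB ⊢
  intro h
  rw [Subgroup.mem_inf, Subgroup.mem_inf, ← hA h, ← hB h]

/-- a natural pair in the image of a homomorphism gives a natural pair modulo the kernel -/
theorem secHyp_of_ker {Y : Type*} [Group Y] (π : X →* Y) (B : Subgroup X) {x y f₁ f₂ : X}
    (h : CoreHyp p (π x) (π y) (π f₁) (π f₂))
    (hx : x ∈ Subgroup.normalizer (B : Set X)) (hy : y ∈ Subgroup.normalizer (B : Set X))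
    (hf₁ : f₁ ∈ B) (hf₂ : f₂ ∈ B) : SecHyp p (π.ker ⊓ B) x y f₁ f₂ := by
  have hker : ∀ g : X, g ∈ Subgroup.normalizer ((π.ker : Subgroup X) : Set X) := by
    intro g
    rw [Subgroup.normalizer_eq_top]
    exact Subgroup.mem_top g
  have hBn : ∀ {g : X}, g ∈ B → g ∈ Subgroup.normalizer (B : Set X) :=
    fun hg => Subgroup.le_normalizer hg
  refine ⟨mem_normalizer_inf (hker x) hx, mem_normalizer_inf (hker y) hy,
    mem_normalizer_inf (hker f₁) (hBn hf₁), mem_normalizer_inf (hker f₂) (hBn hf₂),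
    Subgroup.mem_inf.mpr ⟨?_, ?_⟩, Subgroup.mem_inf.mpr ⟨?_, ?_⟩, Subgroup.mem_inf.mpr ⟨?_, ?_⟩,
    Subgroup.mem_inf.mpr ⟨?_, ?_⟩, Subgroup.mem_inf.mpr ⟨?_, ?_⟩, Subgroup.mem_inf.mpr ⟨?_, ?_⟩,
    Subgroup.mem_inf.mpr ⟨?_, ?_⟩, ?_⟩
  · rw [MonoidHom.mem_ker, map_mul, map_inv, map_mul, map_mul, h.comm, inv_mul_cancel]
  · exact B.mul_mem (B.inv_mem (B.mul_mem hf₁ hf₂)) (B.mul_mem hf₂ hf₁)
  · rw [MonoidHom.mem_ker, map_pow, h.pow1]
  · exact B.pow_mem hf₁ _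
  · rw [MonoidHom.mem_ker, map_pow, h.pow2]
  · exact B.pow_mem hf₂ _
  · rw [MonoidHom.mem_ker, map_mul, map_inv, map_mul, map_mul, map_inv, h.r1, inv_mul_cancel]
  · exact B.mul_mem (B.inv_mem (conj_mem_of_mem_normalizer hx hf₁)) hf₁
  · rw [MonoidHom.mem_ker, map_mul, map_inv, map_mul, map_mul, map_inv, h.r2, map_mul,
      inv_mul_cancel]
  · exact B.mul_mem (B.inv_mem (conj_mem_of_mem_normalizer hx hf₂)) (B.mul_mem hf₁ hf₂)
  · rw [MonoidHom.mem_ker, map_mul, map_inv, map_mul, map_mul, map_inv, h.r3, map_mul,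
      inv_mul_cancel]
  · exact B.mul_mem (B.inv_mem (conj_mem_of_mem_normalizer hy hf₁)) (B.mul_mem hf₁ hf₂)
  · rw [MonoidHom.mem_ker, map_mul, map_inv, map_mul, map_mul, map_inv, h.r4, inv_mul_cancel]
  · exact B.mul_mem (B.inv_mem (conj_mem_of_mem_normalizer hy hf₂)) hf₂
  · intro i j hij
    apply h.ind
    have := (Subgroup.mem_inf.mp hij).1
    rw [MonoidHom.mem_ker, map_mul, map_pow, map_pow] at this
    exact this

/-- changing `x`, `y` by elements commuting with `f₁`, `f₂` -/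
theorem CoreHyp.mul_right {x y f₁ f₂ t s : X} (h : CoreHyp p x y f₁ f₂)
    (ht₁ : t * f₁ = f₁ * t) (ht₂ : t * f₂ = f₂ * t) (hs₁ : s * f₁ = f₁ * s)
    (hs₂ : s * f₂ = f₂ * s) : CoreHyp p (x * t) (y * s) f₁ f₂ := by
  have e : ∀ (a b c : X), b * c = c * b → a * b * c * (a * b)⁻¹ = a * c * a⁻¹ := by
    intro a b c hbc
    calc a * b * c * (a * b)⁻¹ = a * (b * c) * b⁻¹ * a⁻¹ := by group
      _ = a * (c * b) * b⁻¹ * a⁻¹ := by rw [hbc]
      _ = a * c * a⁻¹ := by group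
  refine ⟨h.comm, h.pow1, h.pow2, ?_, ?_, ?_, ?_, h.ind⟩
  · rw [e _ _ _ ht₁, h.r1]
  · rw [e _ _ _ ht₂, h.r2]
  · rw [e _ _ _ hs₁, h.r3]
  · rw [e _ _ _ hs₂, h.r4]

end Basic

section Transfer

variable {X X' : Type*} [Group X] [Group X'] [Finite X']

/-- **Transfer of a natural pair** along an injective map of the subgroup `R` carrying the actions
of `x`, `y` on `R` to those of `x'`, `y'`. -/
theorem SecHyp.transfer {R A₂ : Subgroup X} {x y f₁ f₂ : X}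
    (h : SecHyp p A₂ x y f₁ f₂) (hA : A₂ ≤ R) (hf₁ : f₁ ∈ R) (hf₂ : f₂ ∈ R)
    (hx : x ∈ Subgroup.normalizer (R : Set X)) (hy : y ∈ Subgroup.normalizer (R : Set X))
    (ι : R →* X') (hι : Function.Injective ι) (x' y' : X')
    (hx' : ∀ (r : R) (hr : x * r * x⁻¹ ∈ R), x' * ι r * x'⁻¹ = ι ⟨x * r * x⁻¹, hr⟩)
    (hy' : ∀ (r : R) (hr : y * r * y⁻¹ ∈ R), y' * ι r * y'⁻¹ = ι ⟨y * r * y⁻¹, hr⟩) :
    SecHyp p ((A₂.subgroupOf R).map ι) x' y' (ι ⟨f₁, hf₁⟩) (ι ⟨f₂, hf₂⟩) ∧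
      x' ∈ Subgroup.normalizer ((ι.range : Subgroup X') : Set X') ∧
      y' ∈ Subgroup.normalizer ((ι.range : Subgroup X') : Set X') := by
  have hmem : ∀ (r : R), (r : X) ∈ A₂ → ι r ∈ (A₂.subgroupOf R).map ι :=
    fun r hr => ⟨r, Subgroup.mem_subgroupOf.mpr hr, rfl⟩
  have hmem' : ∀ (r : R), ι r ∈ (A₂.subgroupOf R).map ι → (r : X) ∈ A₂ := by
    rintro r ⟨s, hs, hsr⟩
    rw [← hι hsr]
    exact Subgroup.mem_subgroupOf.mp hs
  have hnorm : ∀ (g : X) (g' : X'), g ∈ Subgroup.normalizer (R : Set X) →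
      g ∈ Subgroup.normalizer (A₂ : Set X) →
      (∀ (r : R) (hr : g * r * g⁻¹ ∈ R), g' * ι r * g'⁻¹ = ι ⟨g * r * g⁻¹, hr⟩) →
      g' ∈ Subgroup.normalizer (((A₂.subgroupOf R).map ι : Subgroup X') : Set X') := by
    intro g g' hgR hgA hg'
    apply mem_normalizer_of_conj_mem_fin
    rintro _ ⟨r, hr, rfl⟩
    rw [hg' r (conj_mem_of_mem_normalizer hgR r.2)]
    exact hmem _ (conj_mem_of_mem_normalizer hgA (Subgroup.mem_subgroupOf.mp hr))
  have hnormR : ∀ (g : X) (g' : X'), g ∈ Subgroup.normalizer (R : Set X) →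
      (∀ (r : R) (hr : g * r * g⁻¹ ∈ R), g' * ι r * g'⁻¹ = ι ⟨g * r * g⁻¹, hr⟩) →
      g' ∈ Subgroup.normalizer ((ι.range : Subgroup X') : Set X') := by
    intro g g' hgR hg'
    apply mem_normalizer_of_conj_mem_fin
    rintro _ ⟨r, rfl⟩
    rw [hg' r (conj_mem_of_mem_normalizer hgR r.2)]
    exact ⟨_, rfl⟩
  have hf : ∀ (f : X) (hf : f ∈ R) (r : R) (hr : f * r * f⁻¹ ∈ R),
      ι ⟨f, hf⟩ * ι r * (ι ⟨f, hf⟩)⁻¹ = ι ⟨f * r * f⁻¹, hr⟩ := by
    intro f hf r hr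
    rw [← map_inv, ← map_mul, ← map_mul]
    rfl
  refine ⟨⟨hnorm x x' hx h.hx hx', hnorm y y' hy h.hy hy',
    hnorm f₁ _ (Subgroup.le_normalizer hf₁) h.hf1 (hf f₁ hf₁),
    hnorm f₂ _ (Subgroup.le_normalizer hf₂) h.hf2 (hf f₂ hf₂), ?_, ?_, ?_, ?_, ?_, ?_, ?_, ?_⟩,
    hnormR x x' hx hx', hnormR y y' hy hy'⟩
  · rw [← map_mul, ← map_mul, ← map_inv, ← map_mul]
    exact hmem _ h.comm
  · rw [← map_pow]
    exact hmem _ h.pow1
  · rw [← map_pow]
    exact hmem _ h.pow2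
  · rw [hx' _ (conj_mem_of_mem_normalizer hx hf₁), ← map_inv, ← map_mul]
    exact hmem _ h.r1
  · rw [hx' _ (conj_mem_of_mem_normalizer hx hf₂), ← map_inv, ← map_mul, ← map_mul]
    exact hmem _ h.r2
  · rw [hy' _ (conj_mem_of_mem_normalizer hy hf₁), ← map_inv, ← map_mul, ← map_mul]
    exact hmem _ h.r3
  · rw [hy' _ (conj_mem_of_mem_normalizer hy hf₂), ← map_inv, ← map_mul]
    exact hmem _ h.r4
  · intro i j hij
    apply h.ind
    rw [← map_pow, ← map_pow, ← map_mul] at hij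
    exact hmem' _ hij

/-- transfer, packaged -/
theorem LocQd.transfer {R A₂ : Subgroup X} {x y f₁ f₂ : X}
    (h : SecHyp p A₂ x y f₁ f₂) (hA : A₂ ≤ R) (hf₁ : f₁ ∈ R) (hf₂ : f₂ ∈ R)
    (hx : x ∈ Subgroup.normalizer (R : Set X)) (hy : y ∈ Subgroup.normalizer (R : Set X))
    (ι : R →* X') (hι : Function.Injective ι) (x' y' : X')
    (hx' : ∀ (r : R) (hr : x * r * x⁻¹ ∈ R), x' * ι r * x'⁻¹ = ι ⟨x * r * x⁻¹, hr⟩)
    (hy' : ∀ (r : R) (hr : y * r * y⁻¹ ∈ R), y' * ι r * y'⁻¹ = ι ⟨y * r * y⁻¹, hr⟩) :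
    LocQd p X' ι.range := by
  obtain ⟨h1, h2, h3⟩ := SecHyp.transfer h hA hf₁ hf₂ hx hy ι hι x' y' hx' hy'
  refine ⟨_, x', y', _, _, h1, ?_, ⟨_, rfl⟩, ⟨_, rfl⟩, h2, h3⟩
  rintro _ ⟨r, -, rfl⟩
  exact ⟨r, rfl⟩

/-- natural pairs are carried along injective homomorphisms -/
theorem LocQd.map {R : Subgroup X} (h : LocQd p X R) (φ : X →* X')
    (hφ : Function.Injective φ) : LocQd p X' (R.map φ) := by
  obtain ⟨A₂, x, y, f₁, f₂, hs, hA, hf₁, hf₂, hx, hy⟩ := h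
  have h1 := LocQd.transfer hs hA hf₁ hf₂ hx hy (φ.comp R.subtype)
    (hφ.comp R.subtype_injective) (φ x) (φ y)
    (fun r hr => by
      show φ x * φ r * (φ x)⁻¹ = φ (x * r * x⁻¹)
      rw [map_mul, map_mul, map_inv])
    (fun r hr => by
      show φ y * φ r * (φ y)⁻¹ = φ (y * r * y⁻¹)
      rw [map_mul, map_mul, map_inv])
  have e : (φ.comp R.subtype).range = R.map φ := by
    rw [MonoidHom.range_comp, Subgroup.range_subtype]
  rw [← e]
  exact h1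

end Transfer

end Cfsg.Agent.Helper26.QdLoc
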