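import Mathlib
import Cfsg.Agent.Helper26.QdLocB

set_option autoImplicit false
set_option linter.unusedSectionVars false
set_option linter.unusedVariables false
set_option linter.style.haveILetI false

/-! # `p`-localization of natural pairs -/

namespace Cfsg.Agent.Helper26.QdLoc

open Cfsg.Agent.Helper14 Cfsg.Agent.Helper26.QdSec

variable {p : ℕ} [hp : Fact p.Prime]

/-- **`p`-localization**: a natural pair inside an abelian normal `p`-subgroup of a quotient lifts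
to a natural pair local to a `p`-subgroup. -/
theorem exists_locQd_of_hom {K Y : Type*} [Group K] [Finite K] [Group Y] (π : K →* Y)
    (hπ : Function.Surjective π) (E : Subgroup Y) [hEn : E.Normal] (hEp : IsPGroup p E)
    (hEab : ∀ a ∈ E, ∀ b ∈ E, a * b = b * a) {x₀ y₀ g₁ g₂ : Y} (h : CoreHyp p x₀ y₀ g₁ g₂)
    (h₁ : g₁ ∈ E) (h₂ : g₂ ∈ E) : ∃ R : Subgroup K, IsPGroup p R ∧ LocQd p K R := by
  classical
  obtain ⟨V, hVe⟩ : ∃ V : Subgroup K, V = E.comap π := ⟨_, rfl⟩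
  haveI hVn : V.Normal := by
    rw [hVe]
    exact hEn.comap π
  have hVmem : ∀ k : K, k ∈ V ↔ π k ∈ E := by
    intro k
    rw [hVe]
    rfl
  obtain ⟨S⟩ : Nonempty (Sylow p V) := inferInstance
  obtain ⟨R, hRe⟩ : ∃ R : Subgroup K, R = (S : Subgroup V).map V.subtype := ⟨_, rfl⟩
  have hfr : Subgroup.normalizer ((R : Subgroup K) : Set K) ⊔ V = ⊤ := by
    rw [hRe]
    exact Sylow.normalizer_sup_eq_top S
  have hRp : IsPGroup p R := by
    rw [hRe]
    exact S.2.map _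
  have hdec : ∀ g : K, ∃ n ∈ Subgroup.normalizer ((R : Subgroup K) : Set K), ∃ v ∈ V,
      n * v = g := by
    intro g
    have : g ∈ Subgroup.normalizer ((R : Subgroup K) : Set K) ⊔ V := by
      rw [hfr]
      exact Subgroup.mem_top g
    exact Subgroup.mem_sup_of_normal_right.mp this
  -- lifting elements of `E` into `R`
  let πV : ↥V →* ↥E := (π.comp V.subtype).codRestrict E (fun v => (hVmem v).mp v.2)
  have hsurjV : Function.Surjective πV := by
    rintro ⟨e, he⟩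
    obtain ⟨k, hk⟩ := hπ e
    exact ⟨⟨k, (hVmem k).mpr (hk ▸ he)⟩, Subtype.ext hk⟩
  have hlift : ∀ e ∈ E, ∃ r ∈ R, π r = e := by
    intro e he
    have hEp' : IsPGroup p ↥(⊤ : Subgroup ↥E) := hEp.to_subgroup ⊤
    have htop : (⊤ : Subgroup ↥E) ≤ (S.mapSurjective hsurjV : Sylow p ↥E) :=
      IsPGroup.le_sylow_of_normal hEp' _
    have hmem : (⟨e, he⟩ : E) ∈ ((S.mapSurjective hsurjV : Sylow p ↥E) : Subgroup ↥E) :=
      htop (Subgroup.mem_top _)
    rw [Sylow.coe_mapSurjective] at hmem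
    obtain ⟨s, hs, hse⟩ := hmem
    refine ⟨(s : K), ?_, congrArg Subtype.val hse⟩
    rw [hRe]
    exact ⟨s, hs, rfl⟩
  obtain ⟨r₁, hr₁, hπr₁⟩ := hlift g₁ h₁
  obtain ⟨r₂, hr₂, hπr₂⟩ := hlift g₂ h₂
  obtain ⟨x, hx⟩ := hπ x₀
  obtain ⟨y, hy⟩ := hπ y₀
  obtain ⟨nx, hnx, vx, hvx, hxe⟩ := hdec x
  obtain ⟨ny, hny, vy, hvy, hye⟩ := hdec y
  have hπnx : π nx = x₀ * (π vx)⁻¹ := by
    rw [← hx, ← hxe, map_mul, mul_inv_cancel_right]
  have hπny : π ny = y₀ * (π vy)⁻¹ := by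
    rw [← hy, ← hye, map_mul, mul_inv_cancel_right]
  have hvxE : (π vx)⁻¹ ∈ E := E.inv_mem ((hVmem vx).mp hvx)
  have hvyE : (π vy)⁻¹ ∈ E := E.inv_mem ((hVmem vy).mp hvy)
  have hcore : CoreHyp p (π nx) (π ny) (π r₁) (π r₂) := by
    rw [hπnx, hπny, hπr₁, hπr₂]
    exact CoreHyp.mul_right h (hEab _ hvxE _ h₁) (hEab _ hvxE _ h₂) (hEab _ hvyE _ h₁)
      (hEab _ hvyE _ h₂)
  have hs := secHyp_of_ker π R hcore hnx hny hr₁ hr₂
  exact ⟨R, hRp, _, nx, ny, r₁, r₂, hs, inf_le_right, hr₁, hr₂, hnx, hny⟩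

/-- **A group involving `Qd(p)` has a natural pair local to a `p`-subgroup.** -/
theorem exists_locQd_of_involves {X : Type*} [Group X] [Finite X]
    (h : Cfsg.Involves ↥(Cfsg.qd p) X) : ∃ R : Subgroup X, IsPGroup p R ∧ LocQd p X R := by
  obtain ⟨K, π, hπ⟩ := exists_surjective_aff h
  have hEp : IsPGroup p ↥(affPi (ZMod p)).ker := isPGroup_ker_affPi
  obtain ⟨R, hRp, hR⟩ := exists_locQd_of_hom π hπ (affPi (ZMod p)).ker hEp
    (fun a ha b hb => ker_affPi_comm a b ha hb) coreHyp_aff (affTau_mem_ker _) (affTau_mem_ker _)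
  exact ⟨R.map K.subtype, hRp.map _, hR.map K.subtype K.subtype_injective⟩

end Cfsg.Agent.Helper26.QdLoc
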