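import Mathlib
import Cfsg.Agent.Helper26.QdLocC
import Cfsg.Agent.Helper25.SylowIn
import Cfsg.Agent.Helper26.WCMain

set_option autoImplicit false
set_option linter.unusedSectionVars false
set_option linter.unusedVariables false
set_option linter.style.haveILetI false

/-! # Natural pairs local to a `p`-subgroup of largest order: the subgroup is `p`-centric -/

namespace Cfsg.Agent.Helper26.QdLoc

open Cfsg.Agent.Helper26.QdSec Cfsg.Agent.Helper25

variable {p : ℕ} [hp : Fact p.Prime] {G : Type*} [Group G] [Finite G]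

/-- Frattini's argument, for a subgroup normalized by `x`. -/
theorem exists_mul_mem_normalizer_sylow {C : Subgroup G} (S : Sylow p C) {x : G}
    (hx : x ∈ Subgroup.normalizer (C : Set G)) :
    ∃ c ∈ C, c * x ∈ Subgroup.normalizer
      ((((S : Subgroup C).map C.subtype : Subgroup G)) : Set G) := by
  obtain ⟨T₁, hT₁e⟩ : ∃ T₁ : Subgroup G, T₁ = (S : Subgroup C).map C.subtype := ⟨_, rfl⟩
  rw [← hT₁e]
  have hT₁C : T₁ ≤ C := by
    rw [hT₁e]
    exact Subgroup.map_subtype_le _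
  have hT₁p : IsPGroup p T₁ := by
    rw [hT₁e]
    exact S.2.map _
  obtain ⟨U, hUe⟩ : ∃ U : Subgroup G, U = T₁.map (MulAut.conj x).toMonoidHom := ⟨_, rfl⟩
  have hUC : U ≤ C := by
    rw [hUe]
    rintro _ ⟨t, ht, rfl⟩
    exact conj_mem_of_mem_normalizer hx (hT₁C ht)
  have hUp : IsPGroup p U := by
    rw [hUe]
    exact hT₁p.map _
  have hU' : IsPGroup p (U.subgroupOf C) := hUp.comap_subtype
  obtain ⟨k, hk⟩ := exists_conj_le_sylow p S hU'
  refine ⟨(k : G), k.2, ?_⟩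
  apply mem_normalizer_of_conj_mem_fin
  intro t ht
  have h1 : x * t * x⁻¹ ∈ U := by
    rw [hUe]
    exact ⟨t, ht, rfl⟩
  have h2 : k * ⟨x * t * x⁻¹, hUC h1⟩ * k⁻¹ ∈ (S : Subgroup C) := by
    apply hk
    exact ⟨⟨x * t * x⁻¹, hUC h1⟩, Subgroup.mem_subgroupOf.mpr h1, rfl⟩
  have h3 : ((k * ⟨x * t * x⁻¹, hUC h1⟩ * k⁻¹ : C) : G) ∈ T₁ := by
    rw [hT₁e]
    exact ⟨_, h2, rfl⟩
  have e : (k : G) * x * t * ((k : G) * x)⁻¹ = ((k * ⟨x * t * x⁻¹, hUC h1⟩ * k⁻¹ : C) : G) := by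
    simp only [Subgroup.coe_mul, Subgroup.coe_inv, mul_inv_rev]
    group
  rw [e]
  exact h3

theorem mem_normalizer_sup' {A B : Subgroup G} {g : G}
    (hA : g ∈ Subgroup.normalizer (A : Set G)) (hB : g ∈ Subgroup.normalizer (B : Set G)) :
    g ∈ Subgroup.normalizer ((A ⊔ B : Subgroup G) : Set G) :=
  Cfsg.Agent.Helper26.WC.le_normalizer_sup_of
    (S := Subgroup.normalizer (A : Set G) ⊓ Subgroup.normalizer (B : Set G)) inf_le_left
    inf_le_right ⟨hA, hB⟩

/-- **A `p`-subgroup of largest order carrying a local natural pair contains every `p`-subgroup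
of its centralizer.** -/
theorem le_of_locQd_max {R : Subgroup G} (hRp : IsPGroup p R) (hR : LocQd p G R)
    (hmax : ∀ R' : Subgroup G, IsPGroup p R' → LocQd p G R' → Nat.card R' ≤ Nat.card R)
    {T : Subgroup G} (hT : IsPGroup p T) (hTC : T ≤ Subgroup.centralizer (R : Set G)) :
    T ≤ R := by
  obtain ⟨C, hCe⟩ : ∃ C : Subgroup G, C = Subgroup.centralizer (R : Set G) := ⟨_, rfl⟩
  rw [← hCe] at hTC
  have hCcomm : ∀ c ∈ C, ∀ r ∈ R, c * r * c⁻¹ = r := by
    intro c hc r hr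
    rw [hCe] at hc
    have := Subgroup.mem_centralizer_iff.mp hc r hr
    rw [← this, mul_inv_cancel_right]
  have hCR : C ≤ Subgroup.normalizer (R : Set G) := by
    intro c hc
    apply mem_normalizer_of_conj_mem_fin
    intro r hr
    rw [hCcomm c hc r hr]
    exact hr
  have hNC : ∀ g ∈ Subgroup.normalizer (R : Set G), g ∈ Subgroup.normalizer (C : Set G) := by
    intro g hg
    apply mem_normalizer_of_conj_mem_fin
    intro c hc
    rw [hCe, Subgroup.mem_centralizer_iff]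
    intro r hr
    have hg' : g⁻¹ ∈ Subgroup.normalizer (R : Set G) := Subgroup.inv_mem _ hg
    have h1 : g⁻¹ * r * g⁻¹⁻¹ ∈ R := conj_mem_of_mem_normalizer hg' hr
    have h2 := hCcomm c hc _ h1
    have h3 : c * (g⁻¹ * r * g) = (g⁻¹ * r * g) * c := by
      rw [inv_inv] at h2
      calc c * (g⁻¹ * r * g) = (c * (g⁻¹ * r * g) * c⁻¹) * c := by group
        _ = (g⁻¹ * r * g) * c := by rw [h2]
    calc r * (g * c * g⁻¹) = g * ((g⁻¹ * r * g) * c) * g⁻¹ := by group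
      _ = g * (c * (g⁻¹ * r * g)) * g⁻¹ := by rw [h3]
      _ = g * c * g⁻¹ * r := by group
  -- a Sylow `p`-subgroup of `C` containing `T`
  have hT' : IsPGroup p (T.subgroupOf C) := hT.comap_subtype
  obtain ⟨S, hS⟩ := hT'.exists_le_sylow
  obtain ⟨T₁, hT₁e⟩ : ∃ T₁ : Subgroup G, T₁ = (S : Subgroup C).map C.subtype := ⟨_, rfl⟩
  have hTT₁ : T ≤ T₁ := by
    intro t ht
    rw [hT₁e]
    exact ⟨⟨t, hTC ht⟩, hS (Subgroup.mem_subgroupOf.mpr ht), rfl⟩
  have hT₁C : T₁ ≤ C := by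
    rw [hT₁e]
    exact Subgroup.map_subtype_le _
  have hT₁p : IsPGroup p T₁ := by
    rw [hT₁e]
    exact S.2.map _
  have hsup : IsPGroup p (R ⊔ T₁ : Subgroup G) :=
    IsPGroup.to_sup_of_normal_left' hRp hT₁p (hT₁C.trans hCR)
  -- the pair local to `R ⊔ T₁`
  obtain ⟨A₂, x, y, f₁, f₂, hs, hA, hf₁, hf₂, hx, hy⟩ := hR
  obtain ⟨cx, hcx, hcxN⟩ := exists_mul_mem_normalizer_sylow S (hNC x hx)
  obtain ⟨cy, hcy, hcyN⟩ := exists_mul_mem_normalizer_sylow S (hNC y hy)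
  rw [← hT₁e] at hcxN hcyN
  have hact : ∀ (c g : G), c ∈ C → g ∈ Subgroup.normalizer (R : Set G) → ∀ (r : R)
      (hr : g * r * g⁻¹ ∈ R), c * g * R.subtype r * (c * g)⁻¹ = R.subtype ⟨g * r * g⁻¹, hr⟩ := by
    intro c g hc hg r hr
    have h1 := hCcomm c hc _ hr
    show c * g * (r : G) * (c * g)⁻¹ = g * r * g⁻¹
    rw [← h1]
    group
  obtain ⟨hs', hx', hy'⟩ := SecHyp.transfer hs hA hf₁ hf₂ hx hy R.subtype R.subtype_injective
    (cx * x) (cy * y) (hact cx x hcx hx) (hact cy y hcy hy)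
  rw [Subgroup.subgroupOf_map_subtype, inf_of_le_left hA] at hs'
  rw [Subgroup.range_subtype] at hx' hy'
  have hs'' : SecHyp p A₂ (cx * x) (cy * y) f₁ f₂ := hs'
  have hloc : LocQd p G (R ⊔ T₁) :=
    ⟨A₂, cx * x, cy * y, f₁, f₂, hs'', hA.trans le_sup_left, Subgroup.mem_sup_left hf₁,
      Subgroup.mem_sup_left hf₂, mem_normalizer_sup' hx' hcxN, mem_normalizer_sup' hy' hcyN⟩
  have hcard := hmax _ hsup hloc
  have heq : R = R ⊔ T₁ := Subgroup.eq_of_le_of_card_ge le_sup_left hcard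
  rw [heq]
  exact hTT₁.trans le_sup_right

end Cfsg.Agent.Helper26.QdLoc
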