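import Mathlib
import Cfsg.Agent.Helper26.QdLocD
import Cfsg.Agent.Helper25.FusionGroup
import Cfsg.Agent.Helper25.FusionTransport
import Cfsg.Agent.Helper25.FusionNormalizerConstrained
import Cfsg.Agent.S5076
import Cfsg.Agent.S5090
import Cfsg.Prelude.Def_FusionReduction

set_option autoImplicit false
set_option linter.unusedSectionVars false
set_option linter.unusedVariables false
set_option linter.style.haveILetI false

/-! # `Qd(p)`-freeness of the fusion system of a group versus that of the group -/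

namespace Cfsg.Agent.Helper26.QdLoc

open Cfsg Cfsg.FusionSystem Cfsg.Agent.Helper26.QdSec Cfsg.Agent.Helper25

universe u

variable {p : ℕ} [hp : Fact p.Prime] {G : Type u} [Group G] [Finite G]

/-- conjugation by an element of `N_G(R)` is a map of the normalizer system of `R` -/
theorem conjHom_mem_normalizerHom {S R : Subgroup G} (hRS : R ≤ S) {g : G}
    (hg : g ∈ Subgroup.normalizer (R : Set G)) :
    conjHom R g ∈ (groupFusionSystem S).normalizerHom R R := by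
  have hRN : R ≤ normalizerIn S R := fun r hr => ⟨hRS hr, Subgroup.le_normalizer hr⟩
  have hsup : R ⊔ R = R := sup_idem R
  have hval : ∀ z : ↥(R ⊔ R), g * (z : G) * g⁻¹ ∈ R := by
    intro z
    have hz : (z : G) ∈ R := (sup_le le_rfl le_rfl : R ⊔ R ≤ R) z.2
    exact conj_mem_of_mem_normalizer hg hz
  refine ⟨⟨hRS, fun r => hRS (conj_mem_of_mem_normalizer hg r.2), g, fun _ => rfl⟩, hRN,
    fun r => hRN (conj_mem_of_mem_normalizer hg r.2), conjHom (R ⊔ R) g,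
    ⟨sup_le hRS hRS, fun z => hRS (hval z), g, fun _ => rfl⟩, fun _ => rfl, ?_⟩
  ext y
  constructor
  · rintro ⟨z, hz, rfl⟩
    exact conj_mem_of_mem_normalizer hg (Subgroup.mem_subgroupOf.mp hz)
  · intro hy
    have hg' : g⁻¹ ∈ Subgroup.normalizer (R : Set G) := Subgroup.inv_mem _ hg
    have h1 : g⁻¹ * y * g⁻¹⁻¹ ∈ R := conj_mem_of_mem_normalizer hg' hy
    refine ⟨⟨g⁻¹ * y * g⁻¹⁻¹, Subgroup.mem_sup_left h1⟩, Subgroup.mem_subgroupOf.mpr h1, ?_⟩
    show g * (g⁻¹ * y * g⁻¹⁻¹) * g⁻¹ = y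
    group

set_option maxHeartbeats 1600000 in
/-- If `G` involves `Qd(p)`, the fusion system of `G` is not `Qd(p)`-free. -/
theorem not_sectionFree_of_involves (hp2 : p ≠ 2) (P : Sylow p G)
    (h : Cfsg.Involves ↥(Cfsg.qd p) G) :
    ¬ (groupFusionSystem (P : Subgroup G)).IsSectionFree p ↥(Cfsg.qd p) := by
  intro hfree
  obtain ⟨F, hFe⟩ : ∃ F : FusionSystem (P : Subgroup G), F = groupFusionSystem (P : Subgroup G) :=
    ⟨_, rfl⟩
  rw [← hFe] at hfree
  have hS : IsPGroup p (P : Subgroup G) := P.2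
  have hF : F.IsSaturated p := by
    rw [hFe]
    exact Cfsg.Agent.S5076.result p P
  obtain ⟨R₀, hR₀p, hR₀⟩ := exists_locQd_of_involves h
  -- a `p`-subgroup of largest order with a local natural pair
  let T : Set ℕ := {m | ∃ R : Subgroup G, IsPGroup p R ∧ LocQd p G R ∧ Nat.card R = m}
  have hTne : T.Nonempty := ⟨_, R₀, hR₀p, hR₀, rfl⟩
  have hbdd : BddAbove T := by
    refine ⟨Nat.card G, ?_⟩
    rintro m ⟨R, -, -, rfl⟩
    exact Subgroup.card_le_card_group R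
  obtain ⟨R₁, hR₁p, hR₁, hR₁c⟩ := Nat.sSup_mem hTne hbdd
  have hmax : ∀ R' : Subgroup G, IsPGroup p R' → LocQd p G R' → Nat.card R' ≤ Nat.card R₁ := by
    intro R' h1 h2
    rw [hR₁c]
    exact le_csSup hbdd ⟨R', h1, h2, rfl⟩
  -- conjugates of `R₁`
  have hconjp : ∀ g : G, IsPGroup p (cj R₁ g) := fun g => hR₁p.map _
  have hconjl : ∀ g : G, LocQd p G (cj R₁ g) :=
    fun g => hR₁.map _ (MulAut.conj g).injective
  have hconjm : ∀ g : G, ∀ R' : Subgroup G, IsPGroup p R' → LocQd p G R' →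
      Nat.card R' ≤ Nat.card (cj R₁ g) := by
    intro g R' h1 h2
    rw [card_cj]
    exact hmax R' h1 h2
  have hcjcj : ∀ g k : G, cj (cj R₁ g) k = cj R₁ (k * g) := by
    intro g k
    unfold cj
    rw [Subgroup.map_map]
    congr 1
    ext z
    simp [mul_assoc]
  obtain ⟨g₁, hg₁⟩ := exists_conj_le_sylow p P hR₁p
  have hg₁' : cj R₁ g₁ ≤ (P : Subgroup G) := hg₁
  obtain ⟨R, hconj, hRfn⟩ := exists_isConj_fullyNormalized F hg₁'
  rw [hFe, groupFusion_isConj_iff] at hconj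
  obtain ⟨-, hRP, g₂, hRe⟩ := hconj
  rw [hcjcj] at hRe
  have hRp : IsPGroup p R := hRe ▸ hconjp _
  have hRl : LocQd p G R := hRe ▸ hconjl _
  -- `R` is centric
  have hRc : F.IsCentric R := by
    refine ⟨hRP, fun Q' hQ' => ?_⟩
    rw [hFe, groupFusion_isConj_iff] at hQ'
    obtain ⟨-, hQ'P, g₃, hQ'e⟩ := hQ'
    rw [hRe, hcjcj] at hQ'e
    rw [hQ'e]
    exact le_of_locQd_max (hconjp _) (hconjl _) (hconjm _)
      (isPGroup_of_le hS inf_le_left) inf_le_right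
  -- the model of the normalizer system
  have hRN : R ≤ normalizerIn (P : Subgroup G) R :=
    fun r hr => ⟨hRP hr, Subgroup.le_normalizer hr⟩
  have hE := normalizerSystem_isNormalizerSystem F R hRP
  haveI hNfin : Finite (normalizerIn (P : Subgroup G) R) := finite_of_le inf_le_left
  have hNp : IsPGroup p (normalizerIn (P : Subgroup G) R) := isPGroup_of_le hS inf_le_left
  have hcon := (normalizerSystem_isConstrained p hS F hF R hRfn hRc _ hE).1
  obtain ⟨L, hL, ι, hM⟩ := Cfsg.Agent.S5090.result p hNp (normalizerSystem F R hRP) hcon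
  have hnot := hfree R hRfn hRc _ hE L ι hM
  apply hnot
  haveI : Finite L := hM.1
  obtain ⟨A₂, x, y, f₁, f₂, hs, hA, hf₁, hf₂, hx, hy⟩ := hRl
  have hreal := hM.2.1
  have hex : ∀ g ∈ Subgroup.normalizer (R : Set G), ∃ g' : L, ∀ (r : R) (hr : g * r * g⁻¹ ∈ R),
      g' * (ι.comp (Subgroup.inclusion hRN)) r * g'⁻¹ =
        (ι.comp (Subgroup.inclusion hRN)) ⟨g * r * g⁻¹, hr⟩ := by
    intro g hg
    have h1 : conjHom R g ∈ (normalizerSystem F R hRP).Hom R := by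
      rw [hE R, hFe]
      exact conjHom_mem_normalizerHom hRP hg
    have hval : ∀ r : R, conjHom R g r ∈ normalizerIn (P : Subgroup G) R :=
      fun r => hRN (conj_mem_of_mem_normalizer hg r.2)
    obtain ⟨g', hg'⟩ := (hreal.2 R hRN (conjHom R g) hval).mp h1
    refine ⟨g', fun r hr => ?_⟩
    exact (hg' r).symm
  obtain ⟨x', hx'⟩ := hex x hx
  obtain ⟨y', hy'⟩ := hex y hy
  have hloc := LocQd.transfer hs hA hf₁ hf₂ hx hy (ι.comp (Subgroup.inclusion hRN))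
    (hreal.1.comp (Subgroup.inclusion_injective hRN)) x' y' hx' hy'
  exact hloc.involves hp2

set_option maxHeartbeats 1600000 in
/-- If a group realizing a normalizer system of the fusion system of `G` involves `Qd(p)`, so
does `G`. -/
theorem involves_of_realizing_involves (hp2 : p ≠ 2) (P : Sylow p G) (Q : Subgroup G)
    (N : FusionSystem (normalizerIn (P : Subgroup G) Q))
    (hN : (groupFusionSystem (P : Subgroup G)).IsNormalizerSystem Q N)
    {L : Type*} [Group L] (ι : ↥(normalizerIn (P : Subgroup G) Q) →* L)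
    (hM : N.IsModel p L ι) (h : Cfsg.Involves ↥(Cfsg.qd p) L) :
    Cfsg.Involves ↥(Cfsg.qd p) G := by
  haveI : Finite L := hM.1
  have hreal := hM.2.1
  have hinj := hreal.1
  obtain ⟨TL, hTL⟩ := hM.2.2.1
  obtain ⟨R₁, hR₁p, hR₁⟩ := exists_locQd_of_involves h
  obtain ⟨l, hl⟩ := exists_conj_le_sylow p TL hR₁p
  have hR₂l : LocQd p L (cj R₁ l) := hR₁.map _ (MulAut.conj l).injective
  obtain ⟨R₂, hR₂e⟩ : ∃ R₂ : Subgroup L, R₂ = cj R₁ l := ⟨_, rfl⟩
  rw [← hR₂e] at hR₂l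
  have hR₂r : R₂ ≤ ι.range := by
    rw [hR₂e, ← hTL]
    exact hl
  obtain ⟨A₂, x, y, f₁, f₂, hs, hA, hf₁, hf₂, hx, hy⟩ := hR₂l
  -- the inverse of `ι` on `R₂`
  obtain ⟨ι₂, hι₂e⟩ : ∃ ι₂ : ↥R₂ →* G, ι₂ = (realInv ι hinj).comp (Subgroup.inclusion hR₂r) :=
    ⟨_, rfl⟩
  have hι₂mem : ∀ r : R₂, ι₂ r ∈ normalizerIn (P : Subgroup G) Q := by
    intro r
    rw [hι₂e]
    exact realInv_mem ι hinj _
  have hιι₂ : ∀ r : R₂, ι ⟨ι₂ r, hι₂mem r⟩ = (r : L) := by
    intro r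
    have h1 := apply_realInv ι hinj (Subgroup.inclusion hR₂r r)
    have e : (⟨ι₂ r, hι₂mem r⟩ : normalizerIn (P : Subgroup G) Q) =
        ⟨realInv ι hinj (Subgroup.inclusion hR₂r r), realInv_mem ι hinj _⟩ := by
      apply Subtype.ext
      show ι₂ r = (realInv ι hinj) ((Subgroup.inclusion hR₂r) r)
      rw [hι₂e]
      rfl
    rw [e, h1]
    rfl
  have hι₂inj : Function.Injective ι₂ := by
    intro a b hab
    apply Subtype.ext
    rw [← hιι₂ a, ← hιι₂ b]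
    congr 1
    exact Subtype.ext hab
  have hP'N : ι₂.range ≤ normalizerIn (P : Subgroup G) Q := by
    rintro _ ⟨r, rfl⟩
    exact hι₂mem r
  have hex : ∀ g ∈ Subgroup.normalizer (R₂ : Set L), ∃ g' : G, ∀ (r : R₂)
      (hr : g * r * g⁻¹ ∈ R₂), g' * ι₂ r * g'⁻¹ = ι₂ ⟨g * r * g⁻¹, hr⟩ := by
    intro g hg
    have hιP' : ∀ s : ι₂.range, ι ⟨s, hP'N s.2⟩ ∈ R₂ := by
      rintro ⟨_, r, rfl⟩
      rw [hιι₂ r]
      exact r.2
    have hψval : ∀ s : ι₂.range, ((MulAut.conj g).toMonoidHom.comp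
        (ι.comp (Subgroup.inclusion hP'N))) s ∈ R₂ := by
      intro s
      exact conj_mem_of_mem_normalizer hg (hιP' s)
    let ψ : ↥ι₂.range →* ↥R₂ := ((MulAut.conj g).toMonoidHom.comp
      (ι.comp (Subgroup.inclusion hP'N))).codRestrict R₂ hψval
    have hψ : ∀ s : ι₂.range, ((ψ s : R₂) : L) = g * ι ⟨s, hP'N s.2⟩ * g⁻¹ := fun s => rfl
    have hφval : ∀ s : ι₂.range, (ι₂.comp ψ) s ∈ normalizerIn (P : Subgroup G) Q :=
      fun s => hι₂mem _
    have hφ : ι₂.comp ψ ∈ N.Hom ι₂.range := by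
      rw [hreal.2 ι₂.range hP'N (ι₂.comp ψ) hφval]
      refine ⟨g, fun s => ?_⟩
      have h1 := hιι₂ (ψ s)
      rw [hψ] at h1
      exact h1
    rw [hN] at hφ
    obtain ⟨-, -, g', hg'⟩ := hφ.1
    refine ⟨g', fun r hr => ?_⟩
    have h1 := hg' ⟨ι₂ r, ⟨r, rfl⟩⟩
    rw [← h1]
    show ι₂ (ψ ⟨ι₂ r, ⟨r, rfl⟩⟩) = ι₂ ⟨g * r * g⁻¹, hr⟩
    congr 1
    apply Subtype.ext
    rw [hψ]
    have h2 := hιι₂ r
    have e : (⟨((⟨ι₂ r, ⟨r, rfl⟩⟩ : ι₂.range) : G), hP'N (⟨ι₂ r, ⟨r, rfl⟩⟩ : ι₂.range).2⟩ :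
        normalizerIn (P : Subgroup G) Q) = ⟨ι₂ r, hι₂mem r⟩ := Subtype.ext rfl
    rw [e, h2]
  obtain ⟨x', hx'⟩ := hex x hx
  obtain ⟨y', hy'⟩ := hex y hy
  have hloc := LocQd.transfer hs hA hf₁ hf₂ hx hy ι₂ hι₂inj x' y' hx' hy'
  exact hloc.involves hp2

end Cfsg.Agent.Helper26.QdLoc
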