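import Mathlib
import Cfsg.Agent.Helper26.QdNotStable
import Cfsg.Agent.Helper26.QdStab4
import Cfsg.Agent.Helper14.QdSyl5
import Cfsg.Agent.Helper15.SL2Free5
import Cfsg.Agent.Helper10.KInfStab4

set_option autoImplicit false
set_option linter.unusedSectionVars false
set_option linter.unusedVariables false
set_option linter.style.haveILetI false

/-! # `Z(J(T))` controls strong fusion exactly in the `Qd(p)`-free groups -/

namespace Cfsg.Agent.Helper26.QdNoControl

open Cfsg.Agent.Helper14 Cfsg.Agent.Helper26.QdSec Cfsg.Agent.Helper26.QdNotStable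
open Cfsg.Agent.Lead.TNC Cfsg.Agent.Helper15.SL2Free Cfsg.Agent.Helper10
open Subgroup

universe u

section Char

/-- characteristic subgroups are transported by isomorphisms -/
theorem characteristic_map_equiv {A : Type*} {B : Type*} [Group A] [Group B] (φ : A ≃* B)
    (T : Subgroup A) [hT : T.Characteristic] : (T.map φ.toMonoidHom).Characteristic := by
  rw [characteristic_iff_map_eq]
  intro ψ
  have h1 := characteristic_iff_map_eq.mp hT ((φ.trans ψ).trans φ.symm)
  -- `ψ (φ T) = φ ((φ⁻¹ ψ φ) T)`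
  ext b
  constructor
  · rintro ⟨_, ⟨a, ha, rfl⟩, rfl⟩
    have h2 : φ.symm (ψ (φ a)) ∈ T := by
      rw [← h1]
      exact ⟨a, ha, rfl⟩
    exact ⟨_, h2, φ.apply_symm_apply _⟩
  · rintro ⟨a, ha, rfl⟩
    rw [← h1] at ha
    obtain ⟨a', ha', rfl⟩ := ha
    refine ⟨φ a', ⟨a', ha', rfl⟩, ?_⟩
    show ψ (φ a') = φ (φ.symm (ψ (φ a')))
    rw [φ.apply_symm_apply]

end Char

section Aff

variable {F : Type*} [Field F]

/-- conjugating a translation -/
theorem conj_affTau (c : Cfsg.Agent.Helper17.affSub F) (u : Fin 2 → F) :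
    c * affTau u * c⁻¹ = affTau ((affPi F c : Matrix (Fin 2) (Fin 2) F).mulVec u) := by
  apply affSub_ext
  intro v
  rw [affAct_mul, affAct_mul, affAct_affTau, affAct_affTau]
  have h1 : affAct c (affAct c⁻¹ v + u) =
      affAct c (affAct c⁻¹ v) + (affPi F c : Matrix (Fin 2) (Fin 2) F).mulVec u := by
    unfold affAct
    rw [Matrix.mulVec_add, Matrix.mulVec_add]
    abel
  rw [h1, ← affAct_mul, mul_inv_cancel, affAct_one]

/-- the translation subgroup is self-centralizing -/
theorem centralizer_ker_le :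
    centralizer (((affPi F).ker : Subgroup (Cfsg.Agent.Helper17.affSub F)) : Set _) ≤
      (affPi F).ker := by
  intro c hc
  rw [MonoidHom.mem_ker]
  apply Subtype.ext
  rw [Matrix.SpecialLinearGroup.coe_one]
  apply Matrix.toLin'.injective
  apply LinearMap.ext
  intro u
  rw [Matrix.toLin'_apply, Matrix.toLin'_one, LinearMap.id_apply]
  have h1 := (mem_centralizer_iff.mp hc) _ (affTau_mem_ker u)
  have h2 : c * affTau u * c⁻¹ = affTau u := by
    rw [← h1, mul_inv_cancel_right]
  rw [conj_affTau] at h2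
  have h3 := congrArg affVec h2
  rw [affVec_affTau, affVec_affTau] at h3
  exact h3

end Aff

section Main

variable {p : ℕ} [hp : Fact p.Prime]

/-- in a group isomorphic to `Qd(p)`, `Z(J(T))` does not control strong fusion -/
theorem not_controls_of_equiv {Y : Type u} [Group Y] [Finite Y]
    (e : Y ≃* ↥(Cfsg.Agent.Helper17.affSub (ZMod p))) (T₀ : Sylow p Y)
    (hctl : Cfsg.ControlsStrongFusion p (Cfsg.centerThompsonAOf (T₀ : Subgroup Y))) : False := by
  haveI : Fintype (ZMod p) := ZMod.fintype p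
  obtain ⟨T, hZT, hA⟩ := hctl
  obtain ⟨Z, hZ⟩ : ∃ Z : Subgroup Y, Z = Cfsg.centerThompsonAOf (T₀ : Subgroup Y) := ⟨_, rfl⟩
  rw [← hZ] at hA hZT
  -- the translation subgroup
  obtain ⟨V, hVdef⟩ : ∃ V : Subgroup Y, V = (affPi (ZMod p)).ker.comap e.toMonoidHom := ⟨_, rfl⟩
  haveI hVn : V.Normal := by
    rw [hVdef]
    exact (inferInstance : ((affPi (ZMod p)).ker).Normal).comap _
  have hVp : IsPGroup p V := by
    rw [hVdef]
    exact (isPGroup_ker_affPi (F := ZMod p) (p := p)).comap_of_injective _ e.injective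
  have hVT : ∀ S : Sylow p Y, V ≤ S := fun S =>
    (Cfsg.Agent.Helper14.le_pCore p hVn hVp).trans (Cfsg.Agent.Helper14.pCore_le_sylow p S)
  have hCV : centralizer (V : Set Y) ≤ V := by
    intro c hc
    rw [hVdef, mem_comap]
    apply centralizer_ker_le
    rw [mem_centralizer_iff]
    intro t ht
    have ht' : e.symm t ∈ V := by
      rw [hVdef, mem_comap]
      show e (e.symm t) ∈ _
      rw [e.apply_symm_apply]
      exact ht
    have h1 := (mem_centralizer_iff.mp hc) _ ht'
    have h2 := congrArg e h1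
    rw [map_mul, map_mul, e.apply_symm_apply] at h2
    exact h2
  -- `T₀ ≤ N(Z)`
  have hT₀N : (T₀ : Subgroup Y) ≤ normalizer (Z : Set Y) := by
    rw [hZ]
    exact le_normalizer.trans ((zjAFunctor.{u} p).normalizer_le (T₀ : Subgroup Y))
  -- `N(Z) = ⊤`
  have hNtop : normalizer (Z : Set Y) = ⊤ := by
    rw [eq_top_iff]
    intro g _
    obtain ⟨_, hg⟩ := hA (V : Set Y) (hVT T)
    have hgV : (fun a => g * a * g⁻¹) '' (V : Set Y) ⊆ ((T : Subgroup Y) : Set Y) := by
      rintro _ ⟨a, ha, rfl⟩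
      exact hVT T (hVn.conj_mem a ha g)
    obtain ⟨x, hx, hxa⟩ := hg g hgV
    have hc : x⁻¹ * g ∈ centralizer (V : Set Y) := by
      rw [mem_centralizer_iff]
      intro a ha
      have h1 := hxa a ha
      have h2 : a * (x⁻¹ * g) = x⁻¹ * (x * a * x⁻¹) * g := by group
      rw [h2, ← h1]
      group
    have h3 : x⁻¹ * g ∈ normalizer (Z : Set Y) := hT₀N (hVT T₀ (hCV hc))
    have h4 := (normalizer (Z : Set Y)).mul_mem hx h3
    rwa [mul_inv_cancel_left] at h4
  -- transport to `Qd(p)`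
  let S' : Sylow p ↥(Cfsg.Agent.Helper17.affSub (ZMod p)) :=
    T₀.mapSurjective (f := e.toMonoidHom) e.surjective
  have hS' : (S' : Subgroup ↥(Cfsg.Agent.Helper17.affSub (ZMod p))) =
      (T₀ : Subgroup Y).map e.toMonoidHom := rfl
  let W := toW (zjAFunctor.{u} p)
  have hW : Cfsg.IsCharPFunctor.{u} p W := toW_isCharPFunctor _
  -- the characteristic subgroup of `T₀`
  have hT₀nt : Nontrivial ↥(T₀ : Subgroup Y) := by
    rw [Subgroup.nontrivial_iff_ne_bot]
    intro h0
    -- `V ≤ T₀ = ⊥` but `V ≠ ⊥`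
    have hVbot : V = ⊥ := le_bot_iff.mp (h0 ▸ hVT T₀)
    have h1 : e.symm (affTau ![1, 0]) ∈ V := by
      rw [hVdef, mem_comap]
      show e (e.symm _) ∈ _
      rw [e.apply_symm_apply]
      exact affTau_mem_ker _
    rw [hVbot, mem_bot] at h1
    have h2 : affTau (![1, 0] : Fin 2 → ZMod p) = 1 := by
      have := congrArg e h1
      rwa [e.apply_symm_apply, map_one] at this
    have h3 := congrArg affVec h2
    rw [affVec_affTau, affVec_one] at h3
    have h4 := congrFun h3 0
    simp at h4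
  have hWne : W ↥(T₀ : Subgroup Y) ≠ ⊥ := hW.1 _ T₀.2 hT₀nt
  haveI hWc : (W ↥(T₀ : Subgroup Y)).Characteristic := by
    rw [characteristic_iff_map_eq]
    intro φ
    exact hW.2 _ _ T₀.2 φ
  have hWmap : (W ↥(T₀ : Subgroup Y)).map (T₀ : Subgroup Y).subtype = Z := by
    rw [hZ]
    exact inducedFunctor_toW (zjAFunctor.{u} p) (T₀ : Subgroup Y)
  -- the isomorphism `T₀ ≃ S'`
  let φ : ↥(T₀ : Subgroup Y) ≃* ↥(S' : Subgroup ↥(Cfsg.Agent.Helper17.affSub (ZMod p))) :=
    (T₀ : Subgroup Y).equivMapOfInjective e.toMonoidHom e.injective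
  obtain ⟨T', hT'⟩ : ∃ T' : Subgroup ↥(S' : Subgroup ↥(Cfsg.Agent.Helper17.affSub (ZMod p))),
      T' = (W ↥(T₀ : Subgroup Y)).map φ.toMonoidHom := ⟨_, rfl⟩
  haveI hT'c : T'.Characteristic := by
    rw [hT']
    exact characteristic_map_equiv φ _
  have hT'ne : T' ≠ ⊥ := by
    rw [hT', Ne, Subgroup.map_eq_bot_iff_of_injective _ φ.injective]
    exact hWne
  have hT'map : T'.map (S' : Subgroup ↥(Cfsg.Agent.Helper17.affSub (ZMod p))).subtype =
      Z.map e.toMonoidHom := by
    rw [hT', ← hWmap, Subgroup.map_map, Subgroup.map_map]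
    congr 1
  obtain ⟨h1, h2⟩ := qd_char_aux (Cfsg.Agent.Helper17.affSub (ZMod p)) rfl S' T' hT'ne hT'c
  apply h2
  rw [← h1, hT'map, normalizer_eq_top_iff]
  have hZn : Z.Normal := normalizer_eq_top_iff.mp hNtop
  exact hZn.map _ e.surjective

end Main

end Cfsg.Agent.Helper26.QdNoControl
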