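import Mathlib
import Cfsg.Agent.S3081
import Cfsg.Agent.S5157
import Cfsg.Agent.S5076
import Cfsg.Agent.Lead.BG8e
import Cfsg.Agent.Helper26.QdStab4

set_option autoImplicit false
set_option linter.style.haveILetI false
set_option linter.unusedSectionVars false
set_option linter.unusedVariables false

/-! The fusion system of a `Qd(p)`-free group (`p` odd) on a Sylow `p`-subgroup is solvable. -/

namespace Cfsg.Agent.Helper26.QdSolvable

open Cfsg Cfsg.FusionSystem
open scoped commutatorElement

universe u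

section Pullback

variable {G : Type u} [Group G] (U : Subgroup G)

/-- pull back a subgroup of `N_G(U)/U` to `G` -/
def pb (X : Subgroup (↥(Subgroup.normalizer (U : Set G)) ⧸ U.subgroupOf (Subgroup.normalizer (U : Set G)))) :
    Subgroup G :=
  (X.comap (QuotientGroup.mk' (U.subgroupOf (Subgroup.normalizer (U : Set G))))).map
    (Subgroup.normalizer (U : Set G)).subtype

theorem mem_pb (X : Subgroup (↥(Subgroup.normalizer (U : Set G)) ⧸ U.subgroupOf (Subgroup.normalizer (U : Set G))))
    (x : G) : x ∈ pb U X ↔ ∃ hx : x ∈ Subgroup.normalizer (U : Set G),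
      QuotientGroup.mk' (U.subgroupOf (Subgroup.normalizer (U : Set G))) ⟨x, hx⟩ ∈ X := by
  unfold pb
  constructor
  · rintro ⟨y, hy, rfl⟩
    exact ⟨y.2, hy⟩
  · rintro ⟨hx, h⟩
    exact ⟨⟨x, hx⟩, h, rfl⟩

theorem pb_mono {X Y : Subgroup (↥(Subgroup.normalizer (U : Set G)) ⧸ U.subgroupOf (Subgroup.normalizer (U : Set G)))}
    (h : X ≤ Y) : pb U X ≤ pb U Y := by
  intro x hx
  rw [mem_pb] at hx ⊢
  obtain ⟨hx1, hx2⟩ := hx
  exact ⟨hx1, h hx2⟩

theorem pb_bot : pb U ⊥ = U := by
  ext x
  rw [mem_pb]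
  constructor
  · rintro ⟨hx, h⟩
    rw [Subgroup.mem_bot, QuotientGroup.mk'_apply, QuotientGroup.eq_one_iff] at h
    exact h
  · intro hx
    refine ⟨Subgroup.le_normalizer hx, ?_⟩
    rw [Subgroup.mem_bot, QuotientGroup.mk'_apply, QuotientGroup.eq_one_iff]
    exact hx

theorem pb_map {P : Subgroup G} (hUP : U ≤ P) (hPN : P ≤ Subgroup.normalizer (U : Set G)) :
    pb U ((P.subgroupOf (Subgroup.normalizer (U : Set G))).map
      (QuotientGroup.mk' (U.subgroupOf (Subgroup.normalizer (U : Set G))))) = P := by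
  ext x
  rw [mem_pb]
  constructor
  · rintro ⟨hx, y, hy, hyx⟩
    have hy' : (y : G) ∈ P := hy
    have h1 : y⁻¹ * ⟨x, hx⟩ ∈ U.subgroupOf (Subgroup.normalizer (U : Set G)) :=
      (QuotientGroup.eq (s := U.subgroupOf (Subgroup.normalizer (U : Set G)))).mp hyx
    have h2 : (y : G)⁻¹ * x ∈ U := h1
    have h3 : (y : G) * ((y : G)⁻¹ * x) ∈ P := P.mul_mem hy' (hUP h2)
    rwa [mul_inv_cancel_left] at h3
  · intro hx
    exact ⟨hPN hx, ⟨⟨x, hPN hx⟩, hx, rfl⟩⟩

theorem commutator_pb_le {X Y : Subgroup (↥(Subgroup.normalizer (U : Set G)) ⧸ U.subgroupOf (Subgroup.normalizer (U : Set G)))}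
    (h : ⁅X, X⁆ ≤ Y) : ⁅pb U X, pb U X⁆ ≤ pb U Y := by
  rw [Subgroup.commutator_le]
  intro a ha b hb
  rw [mem_pb] at ha hb ⊢
  obtain ⟨ha1, ha2⟩ := ha
  obtain ⟨hb1, hb2⟩ := hb
  have hab : ⁅a, b⁆ ∈ Subgroup.normalizer (U : Set G) := by
    rw [commutatorElement_def]
    exact Subgroup.mul_mem _ (Subgroup.mul_mem _ (Subgroup.mul_mem _ ha1 hb1)
      (Subgroup.inv_mem _ ha1)) (Subgroup.inv_mem _ hb1)
  refine ⟨hab, h ?_⟩
  have e : (⟨⁅a, b⁆, hab⟩ : ↥(Subgroup.normalizer (U : Set G))) =
      ⁅(⟨a, ha1⟩ : ↥(Subgroup.normalizer (U : Set G))),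
        (⟨b, hb1⟩ : ↥(Subgroup.normalizer (U : Set G)))⁆ :=
    Subtype.ext rfl
  rw [e, map_commutatorElement]
  exact Subgroup.commutator_mem_commutator ha2 hb2

end Pullback

variable {G : Type u} [Group G] [Finite G] {p : ℕ} [Fact p.Prime]

/-- strongly closed subgroups of the fusion system of `N_G(U)/U` pull back to strongly closed
subgroups when `N_G(U)` controls strong fusion in `P` -/
theorem stronglyClosed_pb (P : Sylow p G) (U : Subgroup G) (hUP : U ≤ (P : Subgroup G))
    (hPN : (P : Subgroup G) ≤ Subgroup.normalizer (U : Set G))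
    (hctl : ∀ A : Set G, A ⊆ (P : Subgroup G) →
      ControlsStrongFusionOf (Subgroup.normalizer (U : Set G)) (P : Subgroup G) A)
    (X : Subgroup (↥(Subgroup.normalizer (U : Set G)) ⧸ U.subgroupOf (Subgroup.normalizer (U : Set G))))
    (hX : (groupFusionSystem (((P : Subgroup G).subgroupOf (Subgroup.normalizer (U : Set G))).map
      (QuotientGroup.mk' (U.subgroupOf (Subgroup.normalizer (U : Set G)))))).StronglyClosed X) :
    (groupFusionSystem (P : Subgroup G)).StronglyClosed (pb U X) := by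
  have hXP := hX.1
  have hpbP : pb U X ≤ (P : Subgroup G) := by
    have h1 := pb_mono U hXP
    rwa [pb_map U hUP hPN] at h1
  refine ⟨hpbP, ?_⟩
  rintro R hR φ ⟨hRP, hφP, g, hg⟩ x
  obtain ⟨-, hc⟩ := hctl (R : Set G) hRP
  obtain ⟨n, hn, hna⟩ := hc g (by
    rintro _ ⟨a, ha, rfl⟩
    have := hφP ⟨a, ha⟩
    rwa [hg] at this)
  have hRN : R ≤ Subgroup.normalizer (U : Set G) := hRP.trans hPN
  rw [hg, hna x x.2, mem_pb]
  have hxN : (x : G) ∈ Subgroup.normalizer (U : Set G) := hRN x.2
  have hmem : n * (x : G) * n⁻¹ ∈ Subgroup.normalizer (U : Set G) :=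
    Subgroup.mul_mem _ (Subgroup.mul_mem _ hn hxN) (Subgroup.inv_mem _ hn)
  refine ⟨hmem, ?_⟩
  -- the image of `R`
  have hRbar : (R.subgroupOf (Subgroup.normalizer (U : Set G))).map
      (QuotientGroup.mk' (U.subgroupOf (Subgroup.normalizer (U : Set G)))) ≤ X := by
    rintro _ ⟨y, hy, rfl⟩
    have hy' : (y : G) ∈ R := hy
    have h1 := hR hy'
    rw [mem_pb] at h1
    obtain ⟨hy1, hy2⟩ := h1
    exact hy2
  have hφbar : conjHom ((R.subgroupOf (Subgroup.normalizer (U : Set G))).map
      (QuotientGroup.mk' (U.subgroupOf (Subgroup.normalizer (U : Set G)))))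
      (QuotientGroup.mk' (U.subgroupOf (Subgroup.normalizer (U : Set G))) ⟨n, hn⟩) ∈
      (groupFusionSystem (((P : Subgroup G).subgroupOf (Subgroup.normalizer (U : Set G))).map
        (QuotientGroup.mk' (U.subgroupOf (Subgroup.normalizer (U : Set G)))))).Hom _ := by
    refine ⟨hRbar.trans hXP, ?_, _, fun y => rfl⟩
    rintro ⟨_, y, hy, rfl⟩
    have hy' : (y : G) ∈ R := hy
    have h1 : n * (y : G) * n⁻¹ ∈ (P : Subgroup G) := by
      rw [← hna y hy', ← hg ⟨y, hy'⟩]
      exact hφP _
    refine ⟨⟨n, hn⟩ * y * ⟨n, hn⟩⁻¹, h1, ?_⟩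
    rw [map_mul, map_mul, map_inv]
    rfl
  have h2 := hX.2 _ hRbar _ hφbar
    ⟨QuotientGroup.mk' (U.subgroupOf (Subgroup.normalizer (U : Set G))) ⟨x, hxN⟩, ⟨⟨x, hxN⟩, x.2, rfl⟩⟩
  have e : (⟨n * (x : G) * n⁻¹, hmem⟩ : ↥(Subgroup.normalizer (U : Set G))) =
      ⟨n, hn⟩ * ⟨x, hxN⟩ * ⟨n, hn⟩⁻¹ := Subtype.ext rfl
  rw [e, map_mul, map_mul, map_inv]
  exact h2

theorem bot_stronglyClosed (P : Sylow p G) :
    (groupFusionSystem (P : Subgroup G)).StronglyClosed ⊥ := by
  refine ⟨bot_le, ?_⟩
  intro R hR φ hφ x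
  have hx : (x : G) = 1 := by
    have := hR x.2
    rwa [Subgroup.mem_bot] at this
  have hx1 : x = 1 := Subtype.ext hx
  rw [hx1, map_one]
  exact Subgroup.one_mem _

/-- `Z(J(P))` is abelian -/
theorem commutator_centerThompsonAOf_eq_bot (P : Subgroup G) :
    ⁅centerThompsonAOf P, centerThompsonAOf P⁆ = ⊥ := by
  rw [eq_bot_iff, Subgroup.commutator_le]
  intro a ha b hb
  have h1 : b * a = a * b := (Subgroup.mem_centralizer_iff.mp ha.2) b hb.1
  rw [Subgroup.mem_bot, commutatorElement_eq_one_iff_mul_comm]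
  exact h1.symm

theorem exists_chain (hp : p ≠ 2) : ∀ n : ℕ, ∀ (G : Type u) [Group G] [Finite G],
    ¬ Involves ↥(qd p) G → ∀ P : Sylow p G, Nat.card (P : Subgroup G) = n →
    ∃ (m : ℕ) (T : Fin (m + 1) → Subgroup G), T 0 = ⊥ ∧ T (Fin.last m) = (P : Subgroup G) ∧
      Monotone T ∧ (∀ i, (groupFusionSystem (P : Subgroup G)).StronglyClosed (T i)) ∧
      ∀ i : Fin m, ⁅T i.succ, T i.succ⁆ ≤ T (Fin.castSucc i) := by
  intro n
  induction n using Nat.strong_induction_on with
  | _ n ih =>
  intro G _ _ hfree P hn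
  by_cases hP : (P : Subgroup G) = ⊥
  · exact ⟨0, fun _ => ⊥, rfl, hP.symm, fun _ _ _ => le_rfl, fun _ => bot_stronglyClosed P,
      fun i => i.elim0⟩
  · have hUP : centerThompsonAOf (P : Subgroup G) ≤ (P : Subgroup G) :=
      Cfsg.Agent.Lead.BG8.centerThompsonAOf_le' _
    have hUne : centerThompsonAOf (P : Subgroup G) ≠ ⊥ :=
      Cfsg.Agent.Lead.BG8.centerThompsonAOf_ne_bot P.isPGroup' hP
    have hPN : (P : Subgroup G) ≤
        Subgroup.normalizer (centerThompsonAOf (P : Subgroup G) : Set G) :=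
      (Subgroup.le_normalizer).trans
        (Cfsg.Agent.Lead.BG8.normalizer_le_normalizer_centerThompsonAOf _)
    have hctl := (Cfsg.Agent.S3081.result hp P (P : Subgroup G)
      ⟨le_rfl, fun x hx g h => h⟩ hfree).1
    haveI hUn : ((centerThompsonAOf (P : Subgroup G)).subgroupOf
        (Subgroup.normalizer (centerThompsonAOf (P : Subgroup G) : Set G))).Normal :=
      Subgroup.normal_in_normalizer
    have hfree' := Cfsg.Agent.Helper26.QdStab.not_involves_section hfree
      (Subgroup.normalizer (centerThompsonAOf (P : Subgroup G) : Set G))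
      (centerThompsonAOf (P : Subgroup G))
    obtain ⟨Pbar, hPbar⟩ : ∃ Pbar : Sylow p
        (↥(Subgroup.normalizer (centerThompsonAOf (P : Subgroup G) : Set G)) ⧸
          (centerThompsonAOf (P : Subgroup G)).subgroupOf
            (Subgroup.normalizer (centerThompsonAOf (P : Subgroup G) : Set G))),
        (Pbar : Subgroup _) = ((P : Subgroup G).subgroupOf
          (Subgroup.normalizer (centerThompsonAOf (P : Subgroup G) : Set G))).map
          (QuotientGroup.mk' ((centerThompsonAOf (P : Subgroup G)).subgroupOf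
            (Subgroup.normalizer (centerThompsonAOf (P : Subgroup G) : Set G)))) := by
      refine ⟨(P.subtype hPN).mapSurjective (QuotientGroup.mk'_surjective _), ?_⟩
      rw [Sylow.coe_mapSurjective, Sylow.coe_subtype]
    -- the cardinality drops
    have hPbar' : Pbar.toSubgroup = _ := hPbar
    have hcard : Nat.card ↥Pbar.toSubgroup < n := by
      rw [← hn, hPbar']
      have h1 := Subgroup.card_mul_index ((QuotientGroup.mk'
        ((centerThompsonAOf (P : Subgroup G)).subgroupOf
          (Subgroup.normalizer (centerThompsonAOf (P : Subgroup G) : Set G)))).comp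
        (Subgroup.inclusion hPN)).ker
      rw [Subgroup.index_ker] at h1
      have hr : ((QuotientGroup.mk'
          ((centerThompsonAOf (P : Subgroup G)).subgroupOf
            (Subgroup.normalizer (centerThompsonAOf (P : Subgroup G) : Set G)))).comp
          (Subgroup.inclusion hPN)).range =
          ((P : Subgroup G).subgroupOf
            (Subgroup.normalizer (centerThompsonAOf (P : Subgroup G) : Set G))).map
            (QuotientGroup.mk' ((centerThompsonAOf (P : Subgroup G)).subgroupOf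
              (Subgroup.normalizer (centerThompsonAOf (P : Subgroup G) : Set G)))) := by
        ext y
        constructor
        · rintro ⟨x, rfl⟩
          exact ⟨⟨x, hPN x.2⟩, x.2, rfl⟩
        · rintro ⟨x, hx, rfl⟩
          exact ⟨⟨x, hx⟩, rfl⟩
      rw [hr] at h1
      have hk : 1 < Nat.card ((QuotientGroup.mk'
          ((centerThompsonAOf (P : Subgroup G)).subgroupOf
            (Subgroup.normalizer (centerThompsonAOf (P : Subgroup G) : Set G)))).comp
          (Subgroup.inclusion hPN)).ker := by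
        rw [Subgroup.one_lt_card_iff_ne_bot]
        obtain ⟨u, hu1⟩ := (Subgroup.ne_bot_iff_exists_ne_one.mp hUne)
        intro hbot
        have hmem : (⟨u, hUP u.2⟩ : ↥(P : Subgroup G)) ∈ ((QuotientGroup.mk'
            ((centerThompsonAOf (P : Subgroup G)).subgroupOf
              (Subgroup.normalizer (centerThompsonAOf (P : Subgroup G) : Set G)))).comp
            (Subgroup.inclusion hPN)).ker := by
          rw [MonoidHom.mem_ker]
          show QuotientGroup.mk' _ _ = 1
          rw [QuotientGroup.mk'_apply, QuotientGroup.eq_one_iff]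
          exact u.2
        rw [hbot, Subgroup.mem_bot] at hmem
        apply hu1
        apply Subtype.ext
        exact congrArg (fun w : ↥(P : Subgroup G) => (w : G)) hmem
      have hpos : 0 < Nat.card ↥(((P : Subgroup G).subgroupOf
            (Subgroup.normalizer (centerThompsonAOf (P : Subgroup G) : Set G))).map
            (QuotientGroup.mk' ((centerThompsonAOf (P : Subgroup G)).subgroupOf
              (Subgroup.normalizer (centerThompsonAOf (P : Subgroup G) : Set G))))) :=
        Nat.card_pos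
      nlinarith
    obtain ⟨m, T, hT0, hTlast, hTmono, hTsc, hTcomm⟩ := ih _ hcard _ hfree' Pbar rfl
    have hTsc' : ∀ i, (groupFusionSystem (((P : Subgroup G).subgroupOf
        (Subgroup.normalizer (centerThompsonAOf (P : Subgroup G) : Set G))).map
        (QuotientGroup.mk' ((centerThompsonAOf (P : Subgroup G)).subgroupOf
          (Subgroup.normalizer (centerThompsonAOf (P : Subgroup G) : Set G)))))).StronglyClosed
        (T i) := by
      rw [← hPbar]
      exact hTsc
    refine ⟨m + 1, Fin.cons ⊥ (fun i => pb (centerThompsonAOf (P : Subgroup G)) (T i)),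
      rfl, ?_, ?_, ?_, ?_⟩
    · rw [← Fin.succ_last, Fin.cons_succ, hTlast, hPbar]
      exact pb_map _ hUP hPN
    · intro i j hij
      rcases Fin.eq_zero_or_eq_succ i with rfl | ⟨i', rfl⟩
      · rw [Fin.cons_zero]
        exact bot_le
      · rcases Fin.eq_zero_or_eq_succ j with rfl | ⟨j', rfl⟩
        · exact absurd hij (by simp)
        · rw [Fin.cons_succ, Fin.cons_succ]
          exact pb_mono _ (hTmono (Fin.succ_le_succ_iff.mp hij))
    · intro i
      rcases Fin.eq_zero_or_eq_succ i with rfl | ⟨i', rfl⟩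
      · rw [Fin.cons_zero]
        exact bot_stronglyClosed P
      · rw [Fin.cons_succ]
        exact stronglyClosed_pb P _ hUP hPN hctl (T i') (hTsc' i')
    · intro i
      rcases Fin.eq_zero_or_eq_succ i with rfl | ⟨i', rfl⟩
      · rw [Fin.cons_succ, hT0, pb_bot, commutator_centerThompsonAOf_eq_bot]
        exact bot_le
      · rw [Fin.cons_succ, ← Fin.succ_castSucc, Fin.cons_succ]
        exact commutator_pb_le _ (hTcomm i')

theorem isSolvableSystem_of_qd_free (hp : p ≠ 2) (hqd : ¬ Involves ↥(qd p) G) (P : Sylow p G) :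
    (groupFusionSystem (P : Subgroup G)).IsSolvableSystem := by
  rw [Cfsg.Agent.S5157.result p P.isPGroup' _ (Cfsg.Agent.S5076.result p P)]
  exact exists_chain hp _ G hqd P rfl

end Cfsg.Agent.Helper26.QdSolvable
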