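import Mathlib
import Cfsg.Prelude.Def_Transfer
import Cfsg.Prelude.Def_PLocal
import Cfsg.Agent.Helper26.Basic
import Cfsg.Agent.Helper26.Thompson

set_option autoImplicit false

namespace Cfsg.Agent.Helper26

open Cfsg
open scoped commutatorElement

variable {G : Type*} [Group G]

/-- `[V,H,H] = 1` implies `[H,H]` centralizes `V` (three subgroups lemma). -/
theorem commutator_le_centralizer_of_quadratic {V H : Subgroup G} (hq : ⁅⁅V, H⁆, H⁆ = ⊥) :
    ⁅H, H⁆ ≤ Subgroup.centralizer (V : Set G) := by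
  rw [← Subgroup.commutator_eq_bot_iff_le_centralizer]
  apply Subgroup.commutator_commutator_eq_bot_of_rotate
  · rw [Subgroup.commutator_comm H V]; exact hq
  · exact hq

/-- If `a` commutes with `w = a v a⁻¹ v⁻¹` then `a^n v a^-n = w^n v`. -/
theorem conj_pow_eq_of_commute {a v : G} (h : Commute a (a * v * a⁻¹ * v⁻¹)) (n : ℕ) :
    a ^ n * v * (a ^ n)⁻¹ = (a * v * a⁻¹ * v⁻¹) ^ n * v := by
  induction n with
  | zero => simp
  | succ n ih =>
    have h1 : a ^ (n + 1) * v * (a ^ (n + 1))⁻¹ = a * (a ^ n * v * (a ^ n)⁻¹) * a⁻¹ := by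
      rw [pow_succ']; group
    rw [h1, ih]
    have h2 : a * ((a * v * a⁻¹ * v⁻¹) ^ n * v) * a⁻¹ =
        (a * (a * v * a⁻¹ * v⁻¹) ^ n * a⁻¹) * (a * v * a⁻¹) := by group
    rw [h2]
    have h3 : a * (a * v * a⁻¹ * v⁻¹) ^ n * a⁻¹ = (a * v * a⁻¹ * v⁻¹) ^ n := by
      have := (h.pow_right n).eq
      rw [this]; group
    rw [h3, pow_succ]
    group

theorem pow_mem_centralizer_of_quadratic {p : ℕ} {V H : Subgroup G} (hV : IsElementaryAbelian p V)
    (hHV : H ≤ Subgroup.normalizer (V : Set G)) (hq : ⁅⁅V, H⁆, H⁆ = ⊥) {a : G} (ha : a ∈ H) :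
    a ^ p ∈ Subgroup.centralizer (V : Set G) := by
  rw [Subgroup.mem_centralizer_iff]
  intro v hv
  have hle : ⁅V, H⁆ ≤ Subgroup.centralizer (H : Set G) :=
    Subgroup.commutator_eq_bot_iff_le_centralizer.mp hq
  have hw : a * v * a⁻¹ * v⁻¹ ∈ ⁅V, H⁆ := by
    rw [Subgroup.commutator_comm]
    exact Subgroup.commutator_mem_commutator ha hv
  have hcomm : Commute a (a * v * a⁻¹ * v⁻¹) := by
    have := Subgroup.mem_centralizer_iff.mp (hle hw) a ha
    exact this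
  have hwV : a * v * a⁻¹ * v⁻¹ ∈ V := by
    have h1 : a * v * a⁻¹ ∈ V := (Subgroup.mem_normalizer_iff.mp (hHV ha) v).mp hv
    exact V.mul_mem h1 (V.inv_mem hv)
  have := conj_pow_eq_of_commute hcomm p
  rw [hV.2 _ hwV, one_mul] at this
  calc v * a ^ p = (a ^ p * v * (a ^ p)⁻¹) * a ^ p := by rw [this]
    _ = a ^ p * v := by group

/-- The commutator map `v ↦ v a v⁻¹ a⁻¹` on an abelian subgroup `V` normalized by `a`. -/
def commutatorHom (V : Subgroup G) (hV : ∀ x ∈ V, ∀ y ∈ V, x * y = y * x) (a : G)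
    (ha : a ∈ Subgroup.normalizer (V : Set G)) : V →* V where
  toFun v := ⟨(v : G) * a * (v : G)⁻¹ * a⁻¹, by
    have h1 : a * (v : G)⁻¹ * a⁻¹ ∈ V :=
      (Subgroup.mem_normalizer_iff.mp ha _).mp (V.inv_mem v.2)
    have : (v : G) * a * (v : G)⁻¹ * a⁻¹ = (v : G) * (a * (v : G)⁻¹ * a⁻¹) := by group
    rw [this]
    exact V.mul_mem v.2 h1⟩
  map_one' := by
    apply Subtype.ext
    simp
  map_mul' := by
    intro v w
    apply Subtype.ext
    have h1 : a * (v : G)⁻¹ * a⁻¹ ∈ V :=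
      (Subgroup.mem_normalizer_iff.mp ha _).mp (V.inv_mem v.2)
    have h2 : a * (w : G)⁻¹ * a⁻¹ ∈ V :=
      (Subgroup.mem_normalizer_iff.mp ha _).mp (V.inv_mem w.2)
    show ((v : G) * (w : G)) * a * ((v : G) * (w : G))⁻¹ * a⁻¹ =
      ((v : G) * a * (v : G)⁻¹ * a⁻¹) * ((w : G) * a * (w : G)⁻¹ * a⁻¹)
    have e1 : ((v : G) * (w : G)) * a * ((v : G) * (w : G))⁻¹ * a⁻¹ =
        (v : G) * ((w : G) * (a * (w : G)⁻¹ * a⁻¹)) * (a * (v : G)⁻¹ * a⁻¹) := by group
    have e2 : ((v : G) * a * (v : G)⁻¹ * a⁻¹) * ((w : G) * a * (w : G)⁻¹ * a⁻¹) =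
        (v : G) * ((a * (v : G)⁻¹ * a⁻¹) * ((w : G) * (a * (w : G)⁻¹ * a⁻¹))) := by group
    rw [e1, e2, hV _ h1 _ (V.mul_mem w.2 h2)]
    group

theorem card_le_sq_card_centralizer_of_quadratic [Finite G] {p : ℕ} {V : Subgroup G}
    (hV : IsElementaryAbelian p V) {a : G} (ha : a ∈ Subgroup.normalizer (V : Set G))
    (hq : ⁅⁅V, Subgroup.zpowers a⁆, Subgroup.zpowers a⁆ = ⊥) :
    Nat.card V ≤ Nat.card ↥(V ⊓ Subgroup.centralizer (Subgroup.zpowers a : Set G)) ^ 2 := by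
  have hVc := (isElementaryAbelian_iff.mp hV).1
  set φ := commutatorHom V hVc a ha with hφ
  set C := V ⊓ Subgroup.centralizer (Subgroup.zpowers a : Set G) with hC
  have hker : φ.ker.map V.subtype ≤ C := by
    rintro _ ⟨v, hv, rfl⟩
    refine Subgroup.mem_inf.mpr ⟨v.2, ?_⟩
    rw [Subgroup.mem_centralizer_iff]
    rintro _ ⟨i, rfl⟩
    have h1 : (v : G) * a * (v : G)⁻¹ * a⁻¹ = 1 := congrArg Subtype.val (MonoidHom.mem_ker.mp hv)
    have h2 : Commute a (v : G) := by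
      have : (v : G) * a = a * (v : G) := by
        calc (v : G) * a = ((v : G) * a * (v : G)⁻¹ * a⁻¹) * (a * (v : G)) := by group
          _ = a * (v : G) := by rw [h1, one_mul]
      exact this.symm
    exact (h2.zpow_left i).eq
  have hrange : φ.range.map V.subtype ≤ C := by
    rintro _ ⟨_, ⟨v, rfl⟩, rfl⟩
    refine Subgroup.mem_inf.mpr ⟨(φ v).2, ?_⟩
    have hle : ⁅V, Subgroup.zpowers a⁆ ≤ Subgroup.centralizer (Subgroup.zpowers a : Set G) :=
      Subgroup.commutator_eq_bot_iff_le_centralizer.mp hq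
    apply hle
    exact Subgroup.commutator_mem_commutator v.2 (Subgroup.mem_zpowers a)
  have h1 : Nat.card φ.ker ≤ Nat.card C := by
    rw [← card_map_subtype]; exact Subgroup.card_le_of_le hker
  have h2 : Nat.card φ.range ≤ Nat.card C := by
    rw [← card_map_subtype]; exact Subgroup.card_le_of_le hrange
  have h3 : Nat.card φ.ker * Nat.card φ.range = Nat.card V := by
    rw [← Subgroup.index_ker, Subgroup.card_mul_index]
  rw [← h3, sq]
  exact Nat.mul_le_mul h1 h2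

end Cfsg.Agent.Helper26
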