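import Mathlib
import Cfsg.Agent.Helper25.DihedralAut

set_option autoImplicit false

/-! The quotient of a generalised quaternion group of order `2^(k+2)`, `k ≥ 2`, by its centre:
generated by involutions, and with a `2`-group of automorphisms. -/

namespace Cfsg.Agent.Helper26.QuatQuot

open QuaternionGroup

section
variable {H : Type*} [Group H] (k : ℕ)
  (φ : QuaternionGroup (2 ^ k) →* H)

theorem zmod_facts (hk : 2 ≤ k) :
    ((2 ^ k : ℕ) : ZMod (2 * 2 ^ k)) ≠ 0 ∧ ((2 ^ (k - 1) : ℕ) : ZMod (2 * 2 ^ k)) ≠ 0 ∧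
    ((2 ^ (k - 1) : ℕ) : ZMod (2 * 2 ^ k)) ≠ ((2 ^ k : ℕ) : ZMod (2 * 2 ^ k)) := by
  obtain ⟨j, rfl⟩ : ∃ j, k = j + 1 := ⟨k - 1, by omega⟩
  have hpos : 0 < 2 ^ j := pow_pos (by norm_num) j
  have h1 : 2 ^ (j + 1) = 2 * 2 ^ j := by rw [pow_succ]; ring
  refine ⟨?_, ?_, ?_⟩
  · rw [Ne, ZMod.natCast_eq_zero_iff]
    intro h
    have := Nat.le_of_dvd (by positivity) h
    omega
  · rw [Ne, ZMod.natCast_eq_zero_iff, Nat.add_sub_cancel]
    intro h
    have := Nat.le_of_dvd (by positivity) h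
    omega
  · rw [Ne, ZMod.natCast_eq_natCast_iff, Nat.add_sub_cancel]
    intro h
    have h2 : 2 ^ j % (2 * 2 ^ (j + 1)) = 2 ^ j := Nat.mod_eq_of_lt (by omega)
    have h3 : 2 ^ (j + 1) % (2 * 2 ^ (j + 1)) = 2 ^ (j + 1) := Nat.mod_eq_of_lt (by omega)
    unfold Nat.ModEq at h
    omega

variable (hker : ∀ x, φ x = 1 ↔ x = 1 ∨ x = a ((2 ^ k : ℕ) : ZMod (2 * 2 ^ k)))

include hker in
theorem phi_xa_ne_one (i : ZMod (2 * 2 ^ k)) : φ (xa i) ≠ 1 := by
  intro h
  rcases (hker _).mp h with h | h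
  · rw [one_def] at h; cases h
  · cases h

include hker in
theorem phi_xa_sq (i : ZMod (2 * 2 ^ k)) : φ (xa i) ^ 2 = 1 := by
  rw [← map_pow, xa_sq]
  exact (hker _).mpr (Or.inr (by push_cast; rfl))

include hker in
theorem orderOf_phi_xa (i : ZMod (2 * 2 ^ k)) : orderOf (φ (xa i)) = 2 :=
  orderOf_eq_prime (phi_xa_sq k φ hker i) (phi_xa_ne_one k φ hker i)

theorem phi_a_eq (i : ZMod (2 * 2 ^ k)) :
    φ (a i) = φ (xa 0) * φ (xa (i - ((2 ^ k : ℕ) : ZMod (2 * 2 ^ k)))) := by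
  rw [← map_mul, xa_mul_xa]
  congr 2
  push_cast
  ring

include hker in
theorem mem_closure_invol (hsurj : Function.Surjective φ) (x : H) :
    x ∈ Subgroup.closure {y : H | orderOf y = 2} := by
  obtain ⟨q, rfl⟩ := hsurj x
  have hx : ∀ i, φ (xa i) ∈ Subgroup.closure {y : H | orderOf y = 2} := fun i =>
    Subgroup.subset_closure (orderOf_phi_xa k φ hker i)
  cases q with
  | a i => rw [phi_a_eq k φ i]; exact mul_mem (hx _) (hx _)
  | xa i => exact hx i


theorem phi_a (i : ZMod (2 * 2 ^ k)) : φ (a i) = φ (a 1) ^ i.val := by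
  have : NeZero (2 * 2 ^ k) := ⟨by positivity⟩
  rw [← map_pow, a_one_pow, ZMod.natCast_zmod_val]

include hker in
theorem orderOf_c (hk : 2 ≤ k) : orderOf (φ (a 1)) = 2 ^ k := by
  obtain ⟨h1, h2, h3⟩ := zmod_facts k hk
  obtain ⟨j, rfl⟩ : ∃ j, k = j + 1 := ⟨k - 1, by omega⟩
  apply orderOf_eq_prime_pow
  · rw [← map_pow, a_one_pow, hker, one_def]
    rintro (h | h)
    · exact h2 (QuaternionGroup.a.inj h)
    · exact h3 (QuaternionGroup.a.inj h)
  · rw [← map_pow, a_one_pow, hker]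
    right
    rfl

include hker in
theorem isPGroup_mulAut [Finite H] (hk : 2 ≤ k) (hsurj : Function.Surjective φ) :
    IsPGroup 2 (MulAut H) := by
  have hc := orderOf_c k φ hker hk
  have hmem : ∀ i, φ (a i) ∈ Subgroup.zpowers (φ (a 1)) := by
    intro i
    rw [phi_a k φ i]
    exact Subgroup.npow_mem_zpowers _ _
  have hmem' : ∀ y ∈ Subgroup.zpowers (φ (a 1)), ∃ i, y = φ (a i) := by
    intro y hy
    obtain ⟨n, rfl⟩ := (isOfFinOrder_of_finite (φ (a 1))).mem_powers_iff_mem_zpowers.mpr hy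
    refine ⟨(n : ZMod (2 * 2 ^ k)), ?_⟩
    show φ (a 1) ^ n = _
    rw [← map_pow, a_one_pow]
  have hnot : ∀ i, φ (xa i) ∉ Subgroup.zpowers (φ (a 1)) := by
    intro i hi
    obtain ⟨j, hj⟩ := hmem' _ hi
    have h1 : φ (a (-j) * xa i) = 1 := by
      rw [map_mul, hj, ← map_mul, a_mul_a, neg_add_cancel, a_zero, map_one]
    rw [a_mul_xa] at h1
    exact phi_xa_ne_one k φ hker _ h1
  refine Cfsg.Agent.Helper25.isPGroup_mulAut_of_cyclic_index_two (φ (a 1)) (φ (xa 0)) k (by omega)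
    hc ?_ (hnot 0) ?_
  · intro x
    obtain ⟨q, rfl⟩ := hsurj x
    cases q with
    | a i => exact Or.inl (hmem i)
    | xa i =>
      refine Or.inr ⟨φ (a i), hmem i, ?_⟩
      rw [← map_mul, xa_mul_a, zero_add]
  · intro x hx
    obtain ⟨q, rfl⟩ := hsurj x
    cases q with
    | a i => exact absurd (hmem i) hx
    | xa i =>
      rw [orderOf_phi_xa k φ hker i, hc]
      have : 2 ^ 2 ≤ 2 ^ k := Nat.pow_le_pow_right (by norm_num) hk
      omega

end

end Cfsg.Agent.Helper26.QuatQuot
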