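import Mathlib
import Cfsg.Agent.Helper16.S64Defs
import Cfsg.Agent.Helper26.S1237Defs
import Cfsg.Agent.Helper26.S64A
import Cfsg.Agent.Helper26.S2933NO256B

/-!
# S1237 piece NOT16 (driver helper26): order 16 is impossible in the non-abelian case
-/

set_option autoImplicit false

namespace Cfsg.Agent.S1237P

open Cfsg.Agent.S1237P
open Cfsg.Agent.Helper16.S64 (Fpf3 Fpf3Facts)

/-- NOT16: order 16 is impossible in the non-abelian case. -/
theorem NOT16 {T : Type*} [Group T] [Finite T] {V : Subgroup T} {ρ : MulAut T}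
    (c : Ctx V ρ) (hf : Fpf3 ρ) (hna : ∃ x y : T, x * y ≠ y * x) : Nat.card T ≠ 16 := by
  classical
  intro h16
  have hF : Fpf3Facts ρ := Cfsg.Agent.Helper26.S64.fpf3Facts_of_fpf3 hf
  have hρV : ∀ v ∈ V, ρ v ∈ V := by
    intro v hv
    rw [c.mem] at hv ⊢
    rw [← map_mul, hv, map_one]
  have hVtop : V ≠ ⊤ := by
    intro h
    have h1 : Nat.card V = Nat.card T := by rw [h, Subgroup.card_top]
    rw [c.card, h16] at h1
    omega
  obtain ⟨x, hx⟩ : ∃ x : T, x ∉ V := by
    by_contra h
    push Not at h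
    exact hVtop (eq_top_iff.mpr fun g _ => h g)
  set L : Subgroup T := Subgroup.closure ({x} ∪ ρ '' {x}) ⊔ V with hL
  have hLinv : ∀ n ∈ L, ρ n ∈ L := Cfsg.Agent.S2933P.NO256B_aux_inv hF.prod V hρV {x}
  have hVL : V ≤ L := le_sup_right
  have hxL : x ∈ L := (le_sup_left : Subgroup.closure ({x} ∪ ρ '' {x}) ≤ L)
    (Subgroup.subset_closure (Or.inl rfl))
  have h1 : Nat.card L % 3 = 1 := hF.card_mod L hLinv
  have h2 : Nat.card L ∣ 16 := h16 ▸ Subgroup.card_subgroup_dvd_card L
  have h3 : 4 ∣ Nat.card L := c.card ▸ Subgroup.card_dvd_of_le hVL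
  have h4 : Nat.card L ≠ 4 := by
    intro h
    apply hx
    have : V = L := Subgroup.eq_of_le_of_card_ge hVL (by rw [h, c.card])
    rw [this]; exact hxL
  have h5 : Nat.card L = 16 := by
    obtain ⟨m, hm⟩ := h3
    rw [hm] at h1 h2 h4 ⊢
    have h6 : m ∣ 4 := Nat.dvd_of_mul_dvd_mul_left (by norm_num) (show 4 * m ∣ 4 * 4 from h2)
    have h7 : m ≤ 4 := Nat.le_of_dvd (by norm_num) h6
    interval_cases m <;> omega
  have hLtop : L = ⊤ := Subgroup.eq_top_of_card_eq L (by rw [h5, h16])
  -- `L` is commutative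
  set S : Set T := ({x} ∪ ρ '' {x}) ∪ (V : Set T) with hS
  have hLS : L = Subgroup.closure S := by
    rw [hL, hS, Subgroup.closure_union ({x} ∪ ρ '' {x}), Subgroup.closure_eq]
  have hcV : ∀ v ∈ V, ∀ g : T, g * v = v * g := fun v hv g =>
    Subgroup.mem_center_iff.mp (c.central hv) g
  have hgen : ∀ s ∈ S, ∀ t ∈ S, s * t = t * s := by
    have hxr : x * ρ x = ρ x * x := hF.comm x
    rintro s ((hs | ⟨s', hs', rfl⟩) | hs) t ((ht | ⟨t', ht', rfl⟩) | ht)
    · rw [Set.mem_singleton_iff] at hs ht; rw [hs, ht]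
    · rw [Set.mem_singleton_iff] at hs ht'; rw [hs, ht']; exact hxr
    · exact hcV t ht s
    · rw [Set.mem_singleton_iff] at hs' ht; rw [hs', ht]; exact hxr.symm
    · rw [Set.mem_singleton_iff] at hs' ht'; rw [hs', ht']
    · exact hcV t ht _
    · exact (hcV s hs t).symm
    · exact (hcV s hs _).symm
    · exact (hcV s hs t).symm
  have h8 : Subgroup.closure S ≤ Subgroup.centralizer S := by
    rw [Subgroup.closure_le]
    intro s hs
    rw [SetLike.mem_coe, Subgroup.mem_centralizer_iff]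
    intro t ht
    exact hgen t ht s hs
  have h9 : Subgroup.closure S ≤ Subgroup.centralizer (Subgroup.closure S : Set T) := by
    rw [Subgroup.closure_le]
    intro s hs
    rw [SetLike.mem_coe, Subgroup.mem_centralizer_iff]
    intro g hg
    have := h8 hg
    rw [Subgroup.mem_centralizer_iff] at this
    exact (this s hs).symm
  obtain ⟨a, b, hab⟩ := hna
  apply hab
  have ha : a ∈ Subgroup.closure S := by rw [← hLS, hLtop]; exact Subgroup.mem_top a
  have hb : b ∈ Subgroup.closure S := by rw [← hLS, hLtop]; exact Subgroup.mem_top b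
  have := h9 hb
  rw [Subgroup.mem_centralizer_iff] at this
  exact this a ha

end Cfsg.Agent.S1237P
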