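import Mathlib
import Cfsg.Prelude.Def_Classical
import Cfsg.Prelude.Def_CaseTheorems
import Cfsg.Prelude.Def_LieRecognition
import Cfsg.Agent.Helper16.S64Defs
import Cfsg.Agent.Helper26.S1237Defs
import Cfsg.Agent.Helper25.S1237TAU
import Cfsg.Agent.Helper25.S1237MINEX
import Cfsg.Agent.Helper20.S1237PHI
import Cfsg.Agent.Helper21.S1237CENT
import Cfsg.Agent.Helper20.S1237VLE
import Cfsg.Agent.Helper18.S1237IDX16
import Cfsg.Agent.Helper14.S1237IDX64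

/-!
# S1237 piece ORD3 (driver helper26): the automorphism `ψ` has order 3
-/

set_option autoImplicit false

namespace Cfsg.Agent.S1237P

open Cfsg.Agent.S1237P

/-- ORD3: `ψ` has order 3. -/
theorem ORD3 {T : Type*} [Group T] [Finite T] (hT : IsPGroup 2 T) {V : Subgroup T} {ψ : MulAut T}
    (c : Ctx V ψ) (a : ℕ) (ha : 1 ≤ a) (hψ : orderOf ψ = 3 ^ a) : a = 1 := by
  by_contra hne
  have ha2 : 2 ≤ a := by omega
  obtain ⟨hτ1, hτ3, hτV, hτsub⟩ := TAU c a ha2 hψ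
  set τ := ψ ^ 3 ^ (a - 1) with hτ
  obtain ⟨M, d⟩ := MINEX ψ τ hτ1
  have hcomm : ∀ x : T, ψ (τ x) = τ (ψ x) := by
    intro x
    have h1 : ψ * τ = τ * ψ := by
      rw [hτ, ← pow_succ', ← pow_succ]
    have := congrArg (fun f : MulAut T => f x) h1
    simpa [MulAut.mul_apply] using this
  have hτM : ∀ i : ℕ, ∃ j : ℕ, τ ^ i = ψ ^ j := fun i => ⟨3 ^ (a - 1) * i, by rw [hτ, ← pow_mul]⟩
  have hcent := CENT hT ψ τ hcomm hτ3 hτM M d
  have hVP := VLE hT c τ hτV M d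
  have h16 := IDX16 hT V M (Phi M) c.mem c.card (PHI_le M) hVP hcent (fun x hx => PHI_sq M hx)
  have hM1 : M ≠ ⊥ := by
    rintro rfl
    obtain ⟨x, hx, hx'⟩ := d.moves
    rw [Subgroup.mem_bot] at hx
    rw [hx, map_one] at hx'
    exact hx' rfl
  have hPlt : Phi M < M := PHI_lt hT M hM1
  have hPψ : ∀ x ∈ Phi M, ψ x ∈ Phi M := fun x hx => PHI_map M ψ d.inv hx
  have hPfix : ∀ p ∈ Phi M, τ p = p := d.min (Phi M) hPlt hPψ
  have h64 := IDX64 hT ψ a ha2 hψ M (Phi M) (PHI_le M) d.inv hPfix d.moves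
  omega

end Cfsg.Agent.S1237P
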