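import Mathlib
import Cfsg.Prelude.Def_Classical
import Cfsg.Prelude.Def_CaseTheorems
import Cfsg.Prelude.Def_LieRecognition
import Cfsg.Agent.Helper16.S64Defs
import Cfsg.Agent.Helper26.S1237Defs
import Cfsg.Agent.Helper9.S1237INV
import Cfsg.Agent.Helper19.S1237POW
import Cfsg.Agent.Helper26.S1237ORD3
import Cfsg.Agent.Helper22.S1237FPF3
import Cfsg.Agent.Helper3.S1237ABEL
import Cfsg.Agent.Helper18.S1237SUZ
import Cfsg.Agent.Helper26.S1237NOT16
import Cfsg.Agent.Helper26.S1237FINAL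

/-!
# S1237: assembly (driver helper26)
-/

set_option autoImplicit false

namespace Cfsg.Agent.S1237P

open Cfsg.Agent.S1237P
open Cfsg.Agent.Helper16.S64 (Fpf3)

/-- ASM: the statement of S1237, given the statement of S1138 for `T`. -/
theorem ASM {T : Type*} [Group T] [Finite T] (hT : IsPGroup 2 T) (h2 : Cfsg.PRankLE 2 2 T)
    (h1 : ¬ Cfsg.PRankLE 2 1 T) (φ : MulAut T)
    (htrans : ∀ s t : T, orderOf s = 2 → orderOf t = 2 → ∃ k : ℕ, (φ ^ k) s = t)
    (h1138 : Cfsg.IsSuzukiTwoGroup T →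
      (Nat.card T = Nat.card (Subgroup.center T) ^ 2 ∨ Nat.card T = Nat.card (Subgroup.center T) ^ 3))
    {F : Type*} [Field F] [Fintype F] (hF : Fintype.card F = 16) (P : Sylow 2 (Cfsg.PSU 3 F 4)) :
    (∃ n : ℕ, 1 ≤ n ∧ Nonempty (T ≃* Multiplicative (ZMod (2 ^ n) × ZMod (2 ^ n)))) ∨
      Nonempty (T ≃* (P : Subgroup (Cfsg.PSU 3 F 4))) := by
  obtain ⟨V, c₀⟩ := INV hT h2 h1 φ htrans
  obtain ⟨ρ, a, ha, hρa, c⟩ := POW c₀
  have ha1 : a = 1 := ORD3 hT c a ha hρa
  have hρ : orderOf ρ = 3 := by rw [hρa, ha1, pow_one]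
  have hf : Fpf3 ρ := FPF3 hT c hρ
  by_cases hab : ∀ x y : T, x * y = y * x
  · exact Or.inl (ABEL hT c hρ hab)
  · right
    have hna : ∃ x y : T, x * y ≠ y * x := by
      by_contra h
      apply hab
      intro x y
      by_contra hxy
      exact h ⟨x, y, hxy⟩
    obtain ⟨hsuz, hcen⟩ := SUZ hT c hρ hna
    have h64 : Nat.card T = 64 := by
      rcases h1138 hsuz with h | h
      · exfalso
        rw [hcen, c.card] at h
        exact NOT16 c hf hna (by rw [h]; norm_num)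
      · rw [hcen, c.card] at h
        rw [h]; norm_num
    exact FINAL c hf hna h64 hF P

end Cfsg.Agent.S1237P
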