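import Mathlib
import Cfsg.Prelude.Def_Classical
import Cfsg.Agent.Helper16.S64Defs
import Cfsg.Agent.Helper26.S1237Defs
import Cfsg.Agent.Helper9.S2933NORM
import Cfsg.Agent.Helper18.S2933MODEL
import Cfsg.Agent.Helper16.S2933UNIQ

/-!
# S1237 piece FINAL (driver helper26): order 64
-/

set_option autoImplicit false

namespace Cfsg.Agent.S1237P

open Cfsg.Agent.S1237P
open Cfsg.Agent.Helper16.S64 (Fpf3)

/-- FINAL: order 64 (S2933 `NORM`, `MODEL_aux`, `UNIQ`). -/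
theorem FINAL {T : Type*} [Group T] [Finite T] {V : Subgroup T} {ρ : MulAut T}
    (c : Ctx V ρ) (hf : Fpf3 ρ) (hna : ∃ x y : T, x * y ≠ y * x) (h64 : Nat.card T = 64)
    {F : Type*} [Field F] [Fintype F] (hF : Fintype.card F = 16) (P : Sylow 2 (Cfsg.PSU 3 F 4)) :
    Nonempty (T ≃* (P : Subgroup (Cfsg.PSU 3 F 4))) := by
  have hna' : ¬ IsMulCommutative T := by
    intro h
    obtain ⟨x, y, hxy⟩ := hna
    exact hxy (h.is_comm.comm x y)
  have hall : ∀ u : T, u * u = 1 → u ∈ Subgroup.center T := fun u hu =>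
    c.central ((c.mem u).mpr hu)
  obtain ⟨s, x, w, hU⟩ := Cfsg.Agent.S2933P.NORM h64 hna' hf hall
  obtain ⟨ρ', s', x', w', hU'⟩ := Cfsg.Agent.S2933P.MODEL_aux hF P
  exact Cfsg.Agent.S2933P.UNIQ hU hU'

end Cfsg.Agent.S1237P
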