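import Mathlib
import Cfsg.Agent.Helper9.S1851.Defs
import Cfsg.Agent.Helper10.CharP
import Cfsg.Agent.S2923

/-! S1851 piece HE (driver helper9): subnormal subgroups of a group of characteristic 2 lie in
`calHe`. -/

set_option autoImplicit false

namespace Cfsg.Agent.S1851P

open Subgroup Cfsg

namespace HE

theorem mem_calHe_of_subnormal {G : Type*} [Group G] [Finite G] (H K : Subgroup G) (hKH : K ≤ H)
    (hchar : IsOfCharacteristicTwo ↥H) (hsn : (K.subgroupOf H).IsSubnormal) : K ∈ calHe G := by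
  have : Fact (Nat.Prime 2) := Nat.fact_prime_two
  have h1 : centralizer (pCore 2 ↥(K.subgroupOf H) : Set ↥(K.subgroupOf H)) ≤
      pCore 2 ↥(K.subgroupOf H) :=
    Cfsg.Agent.S2923.result (p := 2) hchar (K.subgroupOf H) hsn
  have h2 : generalizedFittingSubgroup ↥(K.subgroupOf H) = pCore 2 ↥(K.subgroupOf H) :=
    Cfsg.Agent.Helper10.fstar_eq_pCore_of_centralizer_le h1
  exact Cfsg.Agent.Helper10.fstar_eq_pCore_congr (Subgroup.subgroupOfEquivOfLe hKH) h2

end HE

end Cfsg.Agent.S1851P
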