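import Cfsg.Agent.Helper28.S2258Defs

/-!
# S2258: small toolbox for the counting pieces (COUNT1A, COUNT1B, COUNT4)

`mk2 a b c d h` : the element `[[a,b],[c,d]]` of `SL₂(F)`; extensionality by entries; entries of a
product; counting a subset of `SL₂(F)` through a parametrization.
-/

set_option autoImplicit false

namespace Cfsg.Agent.S2258P

namespace CNTLIB

variable {F : Type*} [Field F]

local notation "SF" => Matrix.SpecialLinearGroup (Fin 2) F
local notation "MF" => Matrix (Fin 2) (Fin 2) F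

/-- the element `[[a,b],[c,d]]` of `SL₂(F)` -/
def mk2 (a b c d : F) (h : a * d - b * c = 1) : SF :=
  ⟨!![a, b; c, d], by rw [Matrix.det_fin_two_of]; exact h⟩

@[simp] theorem mk2_00 (a b c d : F) (h : a * d - b * c = 1) : (mk2 a b c d h : MF) 0 0 = a := rfl
@[simp] theorem mk2_01 (a b c d : F) (h : a * d - b * c = 1) : (mk2 a b c d h : MF) 0 1 = b := rfl
@[simp] theorem mk2_10 (a b c d : F) (h : a * d - b * c = 1) : (mk2 a b c d h : MF) 1 0 = c := rfl
@[simp] theorem mk2_11 (a b c d : F) (h : a * d - b * c = 1) : (mk2 a b c d h : MF) 1 1 = d := rfl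

theorem sl_ext {A B : SF} (h00 : (A : MF) 0 0 = (B : MF) 0 0) (h01 : (A : MF) 0 1 = (B : MF) 0 1)
    (h10 : (A : MF) 1 0 = (B : MF) 1 0) (h11 : (A : MF) 1 1 = (B : MF) 1 1) : A = B := by
  apply Subtype.ext
  ext i j
  fin_cases i <;> fin_cases j <;> assumption

theorem sl_ext_iff {A B : SF} : A = B ↔ (A : MF) 0 0 = (B : MF) 0 0 ∧ (A : MF) 0 1 = (B : MF) 0 1 ∧
    (A : MF) 1 0 = (B : MF) 1 0 ∧ (A : MF) 1 1 = (B : MF) 1 1 :=
  ⟨fun h => by subst h; exact ⟨rfl, rfl, rfl, rfl⟩, fun h => sl_ext h.1 h.2.1 h.2.2.1 h.2.2.2⟩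

theorem sl_det (Y : SF) : (Y : MF) 0 0 * (Y : MF) 1 1 - (Y : MF) 0 1 * (Y : MF) 1 0 = 1 := by
  have := Y.2
  rwa [Matrix.det_fin_two] at this

theorem mul_entry (A B : SF) (i j : Fin 2) :
    ((A * B : SF) : MF) i j = (A : MF) i 0 * (B : MF) 0 j + (A : MF) i 1 * (B : MF) 1 j := by
  rw [Matrix.SpecialLinearGroup.coe_mul, Matrix.mul_apply, Fin.sum_univ_two]

theorem mk2_eta (Y : SF) :
    mk2 ((Y : MF) 0 0) ((Y : MF) 0 1) ((Y : MF) 1 0) ((Y : MF) 1 1) (sl_det Y) = Y :=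
  sl_ext rfl rfl rfl rfl

/-- counting through a parametrization -/
theorem card_eq_of_param {α : Type*} (P : SF → Prop) (f : α → SF) (hf : ∀ x, P (f x))
    (hinj : Function.Injective f) (hsurj : ∀ Y, P Y → ∃ x, f x = Y) :
    Nat.card {Y : SF // P Y} = Nat.card α := by
  symm
  apply Nat.card_eq_of_bijective (fun x => (⟨f x, hf x⟩ : {Y : SF // P Y}))
  constructor
  · intro x x' h
    exact hinj (congrArg Subtype.val h)
  · rintro ⟨Y, hY⟩
    obtain ⟨x, hx⟩ := hsurj Y hY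
    exact ⟨x, Subtype.ext hx⟩

/-- `0² - 4 = -1` is a non-square when `|F| = 3^p`, `p` odd -/
theorem not_isSquare_zero_sq_sub_four [Fintype F] {p : ℕ} (h : Hyp F p) :
    ¬ IsSquare ((0 : F) ^ 2 - 4) := by
  rintro ⟨x, hx⟩
  apply h.not_isSquare_neg_one
  have h3 := h.three_eq_zero
  exact ⟨x, by linear_combination hx + h3⟩

end CNTLIB

end Cfsg.Agent.S2258P
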