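import Cfsg.Agent.Helper26.S2258CNTLIB
import Cfsg.Agent.Helper26.S2258NORMCOUNT

/-!
# S2258, piece COUNT1B

`P1b Y` : `(a + d)² = 1 ∧ (c - b)² = 1` has `4 (q + 1)` solutions in `SL₂(F)`, `|F| = 3^p`:
for the four sign choices `(a + d, c - b) = (ε, ε')` the solutions are
`[[u - ε, v + ε'], [v - ε', -ε - u]]` with `u² + v² = 1`.
-/

set_option autoImplicit false

namespace Cfsg.Agent.S2258P

open CNTLIB

variable {F : Type*} [Field F]

local notation "SF" => Matrix.SpecialLinearGroup (Fin 2) F
local notation "MF" => Matrix (Fin 2) (Fin 2) F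

namespace COUNT1B

/-- the sign `±1` -/
def sg (e : Bool) : F := if e then 1 else -1

theorem sg_sq (e : Bool) : (sg e : F) ^ 2 = 1 := by cases e <;> simp [sg]

theorem sg_inj (h2 : (2 : F) ≠ 0) {e e' : Bool} (h : (sg e : F) = sg e') : e = e' := by
  cases e <;> cases e' <;> simp only [sg, if_true, if_false, Bool.false_eq_true] at h ⊢
  · exact absurd (by linear_combination (-1 : F) * h : (2 : F) = 0) h2
  · exact absurd (by linear_combination h : (2 : F) = 0) h2

theorem sg_cases (x : F) (hx : x ^ 2 = 1) : ∃ e : Bool, x = sg e := by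
  have : x * x = 1 := by rw [← sq]; exact hx
  rcases mul_self_eq_one_iff.mp this with h | h
  · exact ⟨true, by simp [sg, h]⟩
  · exact ⟨false, by simp [sg, h]⟩

/-- the parametrization -/
def par (x : Bool × Bool × {ab : F × F // ab.1 ^ 2 + 0 * ab.1 * ab.2 + ab.2 ^ 2 = 1}) : SF :=
  mk2 (x.2.2.1.1 - sg x.1) (x.2.2.1.2 + sg x.2.1) (x.2.2.1.2 - sg x.2.1) (-sg x.1 - x.2.2.1.1)
    (by
      have := x.2.2.2
      have h1 := sg_sq (F := F) x.1
      have h2 := sg_sq (F := F) x.2.1
      linear_combination h1 + h2 - this)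

end COUNT1B

open COUNT1B in
/-- COUNT1B (M; NORMCOUNT with `τ = 0`, `c = 1` after a shift). -/
theorem count1b [Fintype F] {p : ℕ} (h : Hyp F p) :
    Nat.card {Y : SF // P1b Y} = 4 * (Fintype.card F + 1) := by
  have h2 := h.two_ne_zero
  have h3 := h.three_eq_zero
  have hA := norm_count h2 0 1 (not_isSquare_zero_sq_sub_four h) one_ne_zero
  rw [card_eq_of_param (α := Bool × Bool ×
      {ab : F × F // ab.1 ^ 2 + 0 * ab.1 * ab.2 + ab.2 ^ 2 = 1}) P1b par,
    Nat.card_prod, Nat.card_prod, hA, Nat.card_eq_fintype_card, Fintype.card_bool]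
  · ring
  · rintro ⟨e, e', x⟩
    have h1 := sg_sq (F := F) e
    have h1' := sg_sq (F := F) e'
    constructor
    · simp only [par, mk2_00, mk2_11]
      linear_combination 4 * h1 + h3
    · simp only [par, mk2_10, mk2_01]
      linear_combination 4 * h1' + h3
  · rintro ⟨e, e', x⟩ ⟨f, f', x'⟩ hxx
    have h00 := congrArg (fun M : SF => (M : MF) 0 0) hxx
    have h01 := congrArg (fun M : SF => (M : MF) 0 1) hxx
    have h10 := congrArg (fun M : SF => (M : MF) 1 0) hxx
    have h11 := congrArg (fun M : SF => (M : MF) 1 1) hxx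
    simp only [par, mk2_00, mk2_01, mk2_10, mk2_11] at h00 h01 h10 h11
    have he : e = f := by
      apply sg_inj h2
      have : (2 : F) * sg e = 2 * sg f := by linear_combination (-1 : F) * h00 - h11
      exact mul_left_cancel₀ h2 this
    have he' : e' = f' := by
      apply sg_inj h2
      have : (2 : F) * sg e' = 2 * sg f' := by linear_combination h01 - h10
      exact mul_left_cancel₀ h2 this
    subst he; subst he'
    have hu : x.1.1 = x'.1.1 := by linear_combination h00
    have hv : x.1.2 = x'.1.2 := by linear_combination h01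
    have : x = x' := Subtype.ext (Prod.ext hu hv)
    rw [this]
  · rintro Y ⟨hY1, hY2⟩
    obtain ⟨e, he⟩ := sg_cases _ hY1
    obtain ⟨e', he'⟩ := sg_cases _ hY2
    have hd := sl_det Y
    have h1 := sg_sq (F := F) e
    have h1' := sg_sq (F := F) e'
    refine ⟨(e, e', ⟨((Y : MF) 0 0 + sg e, (Y : MF) 0 1 - sg e'), ?_⟩), ?_⟩
    · simp only
      have hd' : (Y : MF) 0 0 * (sg e - (Y : MF) 0 0) - (Y : MF) 0 1 * (sg e' + (Y : MF) 0 1) = 1 := by
        rw [← he, ← he']
        linear_combination hd
      linear_combination (-1 : F) * hd' + h1 + h1' + ((Y : MF) 0 0 * sg e - (Y : MF) 0 1 * sg e') * h3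
    · apply sl_ext
      · simp [par]
      · simp [par]
      · simp only [par, mk2_10]
        linear_combination (-1 : F) * he' - sg e' * h3
      · simp only [par, mk2_11]
        linear_combination (-1 : F) * he - sg e * h3

end Cfsg.Agent.S2258P
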