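import Cfsg.Agent.Helper26.S2258CNTLIB
import Cfsg.Agent.Helper26.S2258NORMCOUNT
import Cfsg.Agent.Helper26.S2258COUNT1B

/-!
# S2258, piece COUNT1A

`P1a Y` : `(c = -b ∧ d = a) ∨ d = -a ∨ b = c` has `2 (q - 2) (q + 1)` solutions in `SL₂(F)`,
`|F| = 3^p`, by inclusion–exclusion:
`A = {c = -b, d = a}` (`q + 1`), `B = {d = -a}` (`q (q - 1)`), `C = {b = c}` (`q (q - 1)`),
`A ∩ B`, `A ∩ C` (`2` each), `B ∩ C` (`q + 1`), `A ∩ B ∩ C = ∅`.
-/

set_option autoImplicit false

namespace Cfsg.Agent.S2258P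

open CNTLIB

variable {F : Type*} [Field F]

local notation "SF" => Matrix.SpecialLinearGroup (Fin 2) F
local notation "MF" => Matrix (Fin 2) (Fin 2) F

namespace COUNT1A

/-- inclusion–exclusion for three predicates -/
theorem card_or3 {α : Type*} [Finite α] (A B C : α → Prop) :
    Nat.card {x // A x ∨ B x ∨ C x} + Nat.card {x // A x ∧ B x} + Nat.card {x // A x ∧ C x} +
        Nat.card {x // B x ∧ C x} =
      Nat.card {x // A x} + Nat.card {x // B x} + Nat.card {x // C x} +
        Nat.card {x // A x ∧ B x ∧ C x} := by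
  have e : ∀ P : α → Prop, Nat.card {x // P x} = {x | P x}.ncard := fun P => by
    rw [← Nat.card_coe_set_eq]; rfl
  simp only [e]
  set sA : Set α := {x | A x} with hsA
  set sB : Set α := {x | B x} with hsB
  set sC : Set α := {x | C x} with hsC
  have h0 : {x | A x ∨ B x ∨ C x} = sA ∪ (sB ∪ sC) := rfl
  have hAB : {x | A x ∧ B x} = sA ∩ sB := rfl
  have hAC : {x | A x ∧ C x} = sA ∩ sC := rfl
  have hBC : {x | B x ∧ C x} = sB ∩ sC := rfl
  have hABC : {x | A x ∧ B x ∧ C x} = (sA ∩ sB) ∩ (sA ∩ sC) := by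
    ext x
    simp only [hsA, hsB, hsC, Set.mem_inter_iff, Set.mem_ofPred_eq]
    tauto
  rw [h0, hAB, hAC, hBC, hABC]
  have h1 := Set.ncard_union_add_ncard_inter sA (sB ∪ sC)
  have h2 := Set.ncard_union_add_ncard_inter sB sC
  have h3 := Set.ncard_union_add_ncard_inter (sA ∩ sB) (sA ∩ sC)
  have h4 : sA ∩ (sB ∪ sC) = (sA ∩ sB) ∪ (sA ∩ sC) := Set.inter_union_distrib_left _ _ _
  rw [h4] at h1
  omega

/-- `c = -b ∧ d = a` -/
def pA (Y : SF) : Prop := (Y : MF) 1 0 = -(Y : MF) 0 1 ∧ (Y : MF) 1 1 = (Y : MF) 0 0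
/-- `d = -a` -/
def pB (Y : SF) : Prop := (Y : MF) 1 1 = -(Y : MF) 0 0
/-- `b = c` -/
def pC (Y : SF) : Prop := (Y : MF) 0 1 = (Y : MF) 1 0

section

variable [Fintype F] {p : ℕ}

theorem cardA (h : Hyp F p) : Nat.card {Y : SF // pA Y} = Fintype.card F + 1 := by
  rw [card_eq_of_param (α := {ab : F × F // ab.1 ^ 2 + 0 * ab.1 * ab.2 + ab.2 ^ 2 = 1}) pA
    (fun x => mk2 x.1.1 x.1.2 (-x.1.2) x.1.1 (by have := x.2; linear_combination this))]
  · exact norm_count h.two_ne_zero 0 1 (not_isSquare_zero_sq_sub_four h) one_ne_zero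
  · intro x
    exact ⟨by simp, by simp⟩
  · intro x x' hxx
    have h00 := congrArg (fun M : SF => (M : MF) 0 0) hxx
    have h01 := congrArg (fun M : SF => (M : MF) 0 1) hxx
    simp only [mk2_00, mk2_01] at h00 h01
    exact Subtype.ext (Prod.ext h00 h01)
  · rintro Y ⟨h1, h2⟩
    have hd := sl_det Y
    refine ⟨⟨((Y : MF) 0 0, (Y : MF) 0 1), ?_⟩, ?_⟩
    · simp only
      rw [h1, h2] at hd
      linear_combination hd
    · exact sl_ext rfl rfl (by simp [h1]) (by simp [h2])

theorem cardBC (h : Hyp F p) : Nat.card {Y : SF // pB Y ∧ pC Y} = Fintype.card F + 1 := by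
  rw [card_eq_of_param (α := {ab : F × F // ab.1 ^ 2 + 0 * ab.1 * ab.2 + ab.2 ^ 2 = -1})
    (fun Y => pB Y ∧ pC Y)
    (fun x => mk2 x.1.1 x.1.2 x.1.2 (-x.1.1) (by have := x.2; linear_combination (-1 : F) * this))]
  · exact norm_count h.two_ne_zero 0 (-1) (not_isSquare_zero_sq_sub_four h)
      (neg_ne_zero.mpr one_ne_zero)
  · intro x
    exact ⟨by simp [pB], by simp [pC]⟩
  · intro x x' hxx
    have h00 := congrArg (fun M : SF => (M : MF) 0 0) hxx
    have h01 := congrArg (fun M : SF => (M : MF) 0 1) hxx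
    simp only [mk2_00, mk2_01] at h00 h01
    exact Subtype.ext (Prod.ext h00 h01)
  · rintro Y ⟨hB, hC⟩
    have hd := sl_det Y
    unfold pB at hB
    unfold pC at hC
    refine ⟨⟨((Y : MF) 0 0, (Y : MF) 0 1), ?_⟩, ?_⟩
    · simp only
      linear_combination (-1 : F) * hd + (Y : MF) 0 0 * hB + (Y : MF) 0 1 * hC
    · exact sl_ext rfl rfl (by simp [hC]) (by simp [hB])

theorem card_FxU : Nat.card (F × Fˣ) = Fintype.card F * (Fintype.card F - 1) := by
  rw [Nat.card_prod, Nat.card_units, Nat.card_eq_fintype_card]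

theorem cardB (h : Hyp F p) :
    Nat.card {Y : SF // pB Y} = Fintype.card F * (Fintype.card F - 1) := by
  rw [card_eq_of_param (α := F × Fˣ) pB
    (fun x => mk2 x.1 (x.2 : F) ((-1 - x.1 ^ 2) / (x.2 : F)) (-x.1) (by
      have := x.2.ne_zero
      field_simp
      ring))]
  · exact card_FxU
  · intro x
    simp [pB]
  · intro x x' hxx
    have h00 := congrArg (fun M : SF => (M : MF) 0 0) hxx
    have h01 := congrArg (fun M : SF => (M : MF) 0 1) hxx
    simp only [mk2_00, mk2_01] at h00 h01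
    exact Prod.ext h00 (Units.ext h01)
  · intro Y hB
    have hd := sl_det Y
    unfold pB at hB
    have h01 : (Y : MF) 0 1 ≠ 0 := by
      intro h0
      apply h.not_isSquare_neg_one
      refine ⟨(Y : MF) 0 0, ?_⟩
      rw [hB, h0] at hd
      linear_combination hd
    refine ⟨((Y : MF) 0 0, Units.mk0 _ h01), ?_⟩
    refine sl_ext rfl rfl ?_ (by simp [hB])
    simp only [mk2_10, Units.val_mk0]
    rw [div_eq_iff h01]
    rw [hB] at hd
    linear_combination hd

theorem cardC (h : Hyp F p) :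
    Nat.card {Y : SF // pC Y} = Fintype.card F * (Fintype.card F - 1) := by
  rw [card_eq_of_param (α := F × Fˣ) pC
    (fun x => mk2 (x.2 : F) x.1 x.1 ((1 + x.1 ^ 2) / (x.2 : F)) (by
      have := x.2.ne_zero
      field_simp
      ring))]
  · exact card_FxU
  · intro x
    simp [pC]
  · intro x x' hxx
    have h00 := congrArg (fun M : SF => (M : MF) 0 0) hxx
    have h01 := congrArg (fun M : SF => (M : MF) 0 1) hxx
    simp only [mk2_00, mk2_01] at h00 h01
    exact Prod.ext h01 (Units.ext h00)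
  · intro Y hC
    have hd := sl_det Y
    unfold pC at hC
    have h00 : (Y : MF) 0 0 ≠ 0 := by
      intro h0
      apply h.not_isSquare_neg_one
      refine ⟨(Y : MF) 0 1, ?_⟩
      rw [h0, ← hC] at hd
      linear_combination hd
    refine ⟨((Y : MF) 0 1, Units.mk0 _ h00), ?_⟩
    refine sl_ext rfl rfl (by simp [hC]) ?_
    simp only [mk2_11, Units.val_mk0]
    rw [div_eq_iff h00]
    linear_combination (-1 : F) * hd + (Y : MF) 0 1 * hC

theorem cardAB (h : Hyp F p) : Nat.card {Y : SF // pA Y ∧ pB Y} = 2 := by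
  have h2 := h.two_ne_zero
  rw [card_eq_of_param (α := Bool) (fun Y => pA Y ∧ pB Y)
    (fun e => mk2 0 (COUNT1B.sg e) (-COUNT1B.sg e) 0 (by
      have := COUNT1B.sg_sq (F := F) e
      linear_combination this))]
  · rw [Nat.card_eq_fintype_card, Fintype.card_bool]
  · intro e
    exact ⟨⟨by simp, by simp⟩, by simp [pB]⟩
  · intro e e' hxx
    have h01 := congrArg (fun M : SF => (M : MF) 0 1) hxx
    simp only [mk2_01] at h01
    exact COUNT1B.sg_inj h2 h01
  · rintro Y ⟨⟨hA1, hA2⟩, hB⟩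
    have hd := sl_det Y
    unfold pB at hB
    have h00 : (Y : MF) 0 0 = 0 := by
      have : (2 : F) * (Y : MF) 0 0 = 0 := by linear_combination hB - hA2
      rcases mul_eq_zero.mp this with h' | h'
      · exact absurd h' h2
      · exact h'
    have h11 : (Y : MF) 1 1 = 0 := by rw [hA2, h00]
    have hsq : ((Y : MF) 0 1) ^ 2 = 1 := by
      rw [h00, h11, hA1] at hd
      linear_combination hd
    obtain ⟨e, he⟩ := COUNT1B.sg_cases _ hsq
    refine ⟨e, ?_⟩
    exact sl_ext (by simp [h00]) (by simp [he]) (by simp [hA1, he]) (by simp [h11])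

theorem cardAC (h : Hyp F p) : Nat.card {Y : SF // pA Y ∧ pC Y} = 2 := by
  have h2 := h.two_ne_zero
  rw [card_eq_of_param (α := Bool) (fun Y => pA Y ∧ pC Y)
    (fun e => mk2 (COUNT1B.sg e) 0 0 (COUNT1B.sg e) (by
      have := COUNT1B.sg_sq (F := F) e
      linear_combination this))]
  · rw [Nat.card_eq_fintype_card, Fintype.card_bool]
  · intro e
    exact ⟨⟨by simp, by simp⟩, by simp [pC]⟩
  · intro e e' hxx
    have h00 := congrArg (fun M : SF => (M : MF) 0 0) hxx
    simp only [mk2_00] at h00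
    exact COUNT1B.sg_inj h2 h00
  · rintro Y ⟨⟨hA1, hA2⟩, hC⟩
    have hd := sl_det Y
    unfold pC at hC
    have h01 : (Y : MF) 0 1 = 0 := by
      have : (2 : F) * (Y : MF) 0 1 = 0 := by linear_combination hA1 + hC
      rcases mul_eq_zero.mp this with h' | h'
      · exact absurd h' h2
      · exact h'
    have h10 : (Y : MF) 1 0 = 0 := by rw [← hC, h01]
    have hsq : ((Y : MF) 0 0) ^ 2 = 1 := by
      rw [h01, h10, hA2] at hd
      linear_combination hd
    obtain ⟨e, he⟩ := COUNT1B.sg_cases _ hsq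
    refine ⟨e, ?_⟩
    exact sl_ext (by simp [he]) (by simp [h01]) (by simp [h10]) (by simp [hA2, he])

theorem cardABC (h : Hyp F p) : Nat.card {Y : SF // pA Y ∧ pB Y ∧ pC Y} = 0 := by
  have h2 := h.two_ne_zero
  have : IsEmpty {Y : SF // pA Y ∧ pB Y ∧ pC Y} := by
    refine ⟨?_⟩
    rintro ⟨Y, ⟨hA1, hA2⟩, hB, hC⟩
    have hd := sl_det Y
    unfold pB at hB
    unfold pC at hC
    have h00 : (Y : MF) 0 0 = 0 := by
      have : (2 : F) * (Y : MF) 0 0 = 0 := by linear_combination hB - hA2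
      rcases mul_eq_zero.mp this with h' | h'
      · exact absurd h' h2
      · exact h'
    have h01 : (Y : MF) 0 1 = 0 := by
      have : (2 : F) * (Y : MF) 0 1 = 0 := by linear_combination hA1 + hC
      rcases mul_eq_zero.mp this with h' | h'
      · exact absurd h' h2
      · exact h'
    rw [h00, h01] at hd
    simp at hd
  exact Nat.card_of_isEmpty

end

end COUNT1A

open COUNT1A in
/-- COUNT1A (L; NORMCOUNT with `τ = 0`, inclusion–exclusion). -/
theorem count1a [Fintype F] {p : ℕ} (h : Hyp F p) :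
    Nat.card {Y : SF // P1a Y} = 2 * (Fintype.card F - 2) * (Fintype.card F + 1) := by
  have hfin : Finite SF := Subtype.finite
  have key := card_or3 (α := SF) pA pB pC
  rw [cardA h, cardB h, cardC h, cardAB h, cardAC h, cardBC h, cardABC h] at key
  have hP : Nat.card {Y : SF // P1a Y} = Nat.card {Y : SF // pA Y ∨ pB Y ∨ pC Y} := rfl
  rw [hP]
  have hq : 27 ≤ Fintype.card F := h.card_ge
  obtain ⟨k, hk⟩ : ∃ k, Fintype.card F = k + 2 := ⟨Fintype.card F - 2, by omega⟩
  rw [hk] at key ⊢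
  have e1 : k + 2 - 1 = k + 1 := by omega
  have e2 : k + 2 - 2 = k := by omega
  rw [e1] at key
  rw [e2]
  nlinarith [key]

end Cfsg.Agent.S2258P
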