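import Cfsg.Agent.Helper26.S2258CNTLIB
import Cfsg.Agent.Helper26.S2258NORMCOUNT

/-!
# S2258, piece COUNT4

`P4 τ Y` (`Y` centralizes or inverts the companion matrix `cM τ`) has `2 (q + 1)` solutions:
centralizers `[[a,-b],[b,a+τ b]]` with norm `1`, inverters `[[a,τ a+b],[b,-a]]` with norm `-1`.
-/

set_option autoImplicit false

namespace Cfsg.Agent.S2258P

open CNTLIB

variable {F : Type*} [Field F]

local notation "SF" => Matrix.SpecialLinearGroup (Fin 2) F
local notation "MF" => Matrix (Fin 2) (Fin 2) F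

namespace COUNT4

theorem cM_00 (τ : F) : ((cM τ : SF) : MF) 0 0 = 0 := rfl
theorem cM_01 (τ : F) : ((cM τ : SF) : MF) 0 1 = -1 := rfl
theorem cM_10 (τ : F) : ((cM τ : SF) : MF) 1 0 = 1 := rfl
theorem cM_11 (τ : F) : ((cM τ : SF) : MF) 1 1 = τ := rfl

theorem comm_iff (τ : F) (Y : SF) : Y * cM τ = cM τ * Y ↔
    (Y : MF) 0 1 = -(Y : MF) 1 0 ∧ (Y : MF) 1 1 = (Y : MF) 0 0 + τ * (Y : MF) 1 0 := by
  rw [sl_ext_iff]
  simp only [mul_entry, cM_00, cM_01, cM_10, cM_11]
  constructor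
  · rintro ⟨h1, -, h3, -⟩
    exact ⟨by linear_combination h1, by linear_combination h3⟩
  · rintro ⟨h1, h2⟩
    exact ⟨by linear_combination h1, by linear_combination τ * h1 + h2, by linear_combination h2,
      by linear_combination (-1 : F) * h1⟩

theorem inv_iff (τ : F) (Y : SF) : Y * cM τ = (cM τ)⁻¹ * Y ↔
    (Y : MF) 1 1 = -(Y : MF) 0 0 ∧ (Y : MF) 0 1 = τ * (Y : MF) 0 0 + (Y : MF) 1 0 := by
  have h0 : Y * cM τ = (cM τ)⁻¹ * Y ↔ cM τ * (Y * cM τ) = Y := by
    constructor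
    · intro h; rw [h, mul_inv_cancel_left]
    · intro h; rw [eq_inv_mul_iff_mul_eq]; exact h
  rw [h0, sl_ext_iff]
  simp only [mul_entry, cM_00, cM_01, cM_10, cM_11]
  constructor
  · rintro ⟨e00, -, e10, -⟩
    exact ⟨by linear_combination (-1 : F) * e00, by linear_combination e10 + τ * e00⟩
  · rintro ⟨k1, k2⟩
    exact ⟨by linear_combination (-1 : F) * k1, by linear_combination (-1 : F) * k2 - τ * k1,
      by linear_combination k2 + τ * k1, by linear_combination τ * k2 + (τ ^ 2 - 1) * k1⟩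

theorem disj (h2 : (2 : F) ≠ 0) (τ : F) (Y : SF) :
    ¬ (Y * cM τ = cM τ * Y ∧ Y * cM τ = (cM τ)⁻¹ * Y) := by
  rintro ⟨h1, h3⟩
  rw [h1] at h3
  have h4 : cM τ = (cM τ)⁻¹ := mul_right_cancel h3
  have h5 : cM τ * cM τ = 1 := mul_eq_one_iff_eq_inv.mpr h4
  have h6 := congrArg (fun M : SF => (M : MF) 0 0) h5
  simp only [mul_entry, cM_00, cM_01, cM_10, Matrix.SpecialLinearGroup.coe_one,
    Matrix.one_apply_eq] at h6
  apply h2
  linear_combination (-1 : F) * h6

/-- centralizing elements -/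
def cen (τ : F) (x : {ab : F × F // ab.1 ^ 2 + τ * ab.1 * ab.2 + ab.2 ^ 2 = 1}) : SF :=
  mk2 x.1.1 (-x.1.2) x.1.2 (x.1.1 + τ * x.1.2) (by have := x.2; linear_combination this)

/-- inverting elements -/
def inv (τ : F) (x : {ab : F × F // ab.1 ^ 2 + τ * ab.1 * ab.2 + ab.2 ^ 2 = -1}) : SF :=
  mk2 x.1.1 (τ * x.1.1 + x.1.2) x.1.2 (-x.1.1) (by have := x.2; linear_combination (-1 : F) * this)

theorem cen_comm (τ : F) (x) : cen τ x * cM τ = cM τ * cen τ x := by
  rw [comm_iff]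
  simp [cen]

theorem inv_inv (τ : F) (x) : inv τ x * cM τ = (cM τ)⁻¹ * inv τ x := by
  rw [inv_iff]
  simp [inv]

end COUNT4

open COUNT4 in
/-- COUNT4 (M–L; NORMCOUNT with `c = 1` and `c = -1`). -/
theorem count4 [Fintype F] {p : ℕ} (h : Hyp F p) (τ : F) (hτ : τ ≠ 0)
    (hsq : ¬ IsSquare (τ ^ 2 - 4)) :
    Nat.card {Y : SF // P4 τ Y} = 2 * (Fintype.card F + 1) := by
  have h2 := h.two_ne_zero
  have hA := norm_count h2 τ 1 hsq one_ne_zero
  have hB := norm_count h2 τ (-1) hsq (neg_ne_zero.mpr one_ne_zero)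
  rw [card_eq_of_param (α := {ab : F × F // ab.1 ^ 2 + τ * ab.1 * ab.2 + ab.2 ^ 2 = 1} ⊕
      {ab : F × F // ab.1 ^ 2 + τ * ab.1 * ab.2 + ab.2 ^ 2 = -1}) (P4 τ)
      (Sum.elim (cen τ) (inv τ)), Nat.card_sum, hA, hB]
  · ring
  · rintro (x | x)
    · exact Or.inl (cen_comm τ x)
    · exact Or.inr (inv_inv τ x)
  · rintro (x | x) (x' | x') hxx
    · simp only [Sum.elim_inl] at hxx
      have h00 := congrArg (fun M : SF => (M : MF) 0 0) hxx
      have h10 := congrArg (fun M : SF => (M : MF) 1 0) hxx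
      simp only [cen, mk2_00, mk2_10] at h00 h10
      exact congrArg Sum.inl (Subtype.ext (Prod.ext h00 h10))
    · exfalso
      simp only [Sum.elim_inl, Sum.elim_inr] at hxx
      exact disj h2 τ (cen τ x) ⟨cen_comm τ x, by rw [hxx]; exact inv_inv τ x'⟩
    · exfalso
      simp only [Sum.elim_inl, Sum.elim_inr] at hxx
      exact disj h2 τ (cen τ x') ⟨cen_comm τ x', by rw [← hxx]; exact inv_inv τ x⟩
    · simp only [Sum.elim_inr] at hxx
      have h00 := congrArg (fun M : SF => (M : MF) 0 0) hxx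
      have h10 := congrArg (fun M : SF => (M : MF) 1 0) hxx
      simp only [inv, mk2_00, mk2_10] at h00 h10
      exact congrArg Sum.inr (Subtype.ext (Prod.ext h00 h10))
  · rintro Y (hY | hY)
    · obtain ⟨k1, k2⟩ := (comm_iff τ Y).mp hY
      have hd := sl_det Y
      refine ⟨Sum.inl ⟨((Y : MF) 0 0, (Y : MF) 1 0), ?_⟩, ?_⟩
      · simp only
        rw [k1, k2] at hd
        linear_combination hd
      · simp only [Sum.elim_inl]
        exact sl_ext rfl (by simp [cen, k1]) rfl (by simp [cen, k2])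
    · obtain ⟨k1, k2⟩ := (inv_iff τ Y).mp hY
      have hd := sl_det Y
      refine ⟨Sum.inr ⟨((Y : MF) 0 0, (Y : MF) 1 0), ?_⟩, ?_⟩
      · simp only
        rw [k1, k2] at hd
        linear_combination (-1 : F) * hd
      · simp only [Sum.elim_inr]
        exact sl_ext rfl (by simp [inv, k2]) rfl (by simp [inv, k1])

end Cfsg.Agent.S2258P
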