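import Mathlib
import Cfsg.Agent.Helper14.GLk.Defs

/-! S2478, piece ARITH: the bound `A q r n ≤ q ^ n` (telescoping induction). -/

set_option autoImplicit false

namespace Cfsg.Agent.S2478P

namespace ARITH

theorem N_zero (q : ℕ) : N q 0 = 1 := by
  unfold N
  rw [if_pos rfl]

theorem N_succ_cast (q k : ℕ) (hq : 1 ≤ q) :
    ((N q (k + 1) : ℕ) : ℤ) = (q : ℤ) ^ (k + 1) - (q : ℤ) ^ k := by
  unfold N
  rw [if_neg (Nat.succ_ne_zero k), Nat.add_sub_cancel,
    Nat.cast_sub (Nat.pow_le_pow_right hq (Nat.le_succ k))]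
  push_cast
  rfl

theorem N_succ_nonneg (q k : ℕ) (hq : 1 ≤ q) : (0 : ℤ) ≤ (q : ℤ) ^ (k + 1) - (q : ℤ) ^ k := by
  rw [sub_nonneg]
  exact pow_le_pow_right₀ (by exact_mod_cast hq) (Nat.le_succ k)

theorem A_succ (q r n : ℕ) : A q (r + 1) n =
    ∑ a ∈ Finset.range (n / (r + 1) + 1), N q a * A q r (n - (r + 1) * a) := by
  rw [A]

/-- the telescoping partial sums -/
theorem partial_sum (q r : ℕ) (hq : 1 ≤ q) (B : ℕ → ℕ)
    (hB : ∀ j, (B (r + 1 + j) : ℤ) + (q : ℤ) ^ (j + 1) ≤ (q : ℤ) ^ (r + 1 + j)) :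
    ∀ k j n, n = (r + 1) * (k + 1) + j →
      (∑ a ∈ Finset.range (k + 1), (N q a : ℤ) * (B (n - (r + 1) * a) : ℤ)) +
        (q : ℤ) ^ ((r + 1) * k + j) + (q : ℤ) ^ (k + j + 1) ≤ (q : ℤ) ^ n + (q : ℤ) ^ (k + j) := by
  intro k
  induction k with
  | zero =>
    intro j n hn
    rw [Finset.sum_range_one, N_zero, hn]
    have h := hB j
    have e : (r + 1) * (0 + 1) + j - (r + 1) * 0 = r + 1 + j := by
      rw [Nat.mul_zero, Nat.sub_zero, Nat.zero_add, Nat.mul_one]
    rw [e]
    have e2 : (r + 1) * (0 + 1) + j = r + 1 + j := by ring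
    rw [e2]
    push_cast
    linear_combination h
  | succ k ih =>
    intro j n hn
    rw [Finset.sum_range_succ]
    have h1 := ih (j + (r + 1)) n (by rw [hn]; ring)
    have e : n - (r + 1) * (k + 1) = r + 1 + j := by
      rw [hn]
      apply Nat.sub_eq_of_eq_add
      ring
    rw [e, N_succ_cast q k hq]
    have h2 := hB j
    have h3 := mul_le_mul_of_nonneg_left h2 (N_succ_nonneg q k hq)
    rw [hn] at h1 ⊢
    linear_combination h1 + h3

end ARITH

theorem A_bound (q : ℕ) (hq : 2 ≤ q) (r n : ℕ) :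
    (n ≤ r → A q r n ≤ q ^ n) ∧ (r < n → A q r n + q ^ (n - r) ≤ q ^ n) := by
  induction r generalizing n with
  | zero =>
    constructor
    · intro h
      have : n = 0 := by omega
      subst this
      simp [A]
    · intro h
      have : n ≠ 0 := by omega
      simp [A, this]
  | succ r ih =>
    have hq1 : 1 ≤ q := by omega
    by_cases hn : n ≤ r
    · have h0 : n / (r + 1) = 0 := Nat.div_eq_of_lt (by omega)
      have hA : A q (r + 1) n = A q r n := by
        rw [ARITH.A_succ, h0, zero_add, Finset.sum_range_one, ARITH.N_zero, one_mul, mul_zero,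
          Nat.sub_zero]
      constructor
      · intro _
        rw [hA]
        exact (ih n).1 hn
      · intro h
        omega
    · have hn' : r + 1 ≤ n := by omega
      obtain ⟨k, hk⟩ : ∃ k, n / (r + 1) = k + 1 :=
        ⟨n / (r + 1) - 1, by have := Nat.div_pos hn' (Nat.succ_pos r); omega⟩
      obtain ⟨j, hj⟩ : ∃ j, j = n % (r + 1) := ⟨_, rfl⟩
      have hjr : j ≤ r := by
        have := Nat.mod_lt n (Nat.succ_pos r)
        rw [← hj] at this
        omega
      have hnk : n = (r + 1) * (k + 1) + j := by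
        rw [hj, ← hk]
        exact (Nat.div_add_mod n (r + 1)).symm
      have hB : ∀ j', ((A q r (r + 1 + j') : ℕ) : ℤ) + (q : ℤ) ^ (j' + 1) ≤
          (q : ℤ) ^ (r + 1 + j') := by
        intro j'
        have h := (ih (r + 1 + j')).2 (by omega)
        have e : r + 1 + j' - r = j' + 1 := by omega
        rw [e] at h
        exact_mod_cast h
      have hP := ARITH.partial_sum q r hq1 (A q r) hB k j n hnk
      have hlast : ((N q (k + 1) : ℕ) : ℤ) * (A q r j : ℤ) + (q : ℤ) ^ (k + j) ≤
          (q : ℤ) ^ (k + 1 + j) := by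
        have h1 : (A q r j : ℤ) ≤ (q : ℤ) ^ j := by exact_mod_cast (ih j).1 hjr
        rw [ARITH.N_succ_cast q k hq1]
        have h := mul_le_mul_of_nonneg_left h1 (ARITH.N_succ_nonneg q k hq1)
        linear_combination h
      have hAz : ((A q (r + 1) n : ℕ) : ℤ) + (q : ℤ) ^ ((r + 1) * k + j) ≤ (q : ℤ) ^ n := by
        rw [ARITH.A_succ, hk, Finset.sum_range_succ]
        have e : n - (r + 1) * (k + 1) = j := by
          rw [hnk]
          exact Nat.add_sub_cancel_left ..
        rw [e]
        push_cast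
        linear_combination hP + hlast
      have hA : A q (r + 1) n + q ^ ((r + 1) * k + j) ≤ q ^ n := by exact_mod_cast hAz
      have hexp : n - (r + 1) = (r + 1) * k + j := by
        rw [hnk]
        apply Nat.sub_eq_of_eq_add
        ring
      constructor
      · intro _
        exact le_trans (Nat.le_add_right _ _) hA
      · intro _
        rw [hexp]
        exact hA

end Cfsg.Agent.S2478P
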