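import Mathlib
import Cfsg.Agent.Helper14.GLk.Defs
import Cfsg.Agent.Helper15.S2478COUNTMON

/-! S2478, piece LOWER: `q ^ n - q ^ (n - 1) ≤ k(GL_n(q))`, via the companion matrices
(multiplication by the root on `AdjoinRoot f` in the power basis). -/

set_option autoImplicit false

namespace Cfsg.Agent.S2478P

open Polynomial

universe u

namespace LOWER

variable {F : Type u} [Field F]

/-- the companion matrix of `f`: multiplication by `root f` on `AdjoinRoot f` in the power basis -/
noncomputable def compMat (f : F[X]) (hf : f ≠ 0) {n : ℕ} (hn : f.natDegree = n) :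
    Matrix (Fin n) (Fin n) F :=
  Matrix.reindex (finCongr ((AdjoinRoot.powerBasis_dim hf).trans hn))
    (finCongr ((AdjoinRoot.powerBasis_dim hf).trans hn))
    (Algebra.leftMulMatrix (AdjoinRoot.powerBasis hf).basis (AdjoinRoot.powerBasis hf).gen)

theorem charpoly_compMat (f : F[X]) (hm : f.Monic) {n : ℕ} (hn : f.natDegree = n) :
    (compMat f hm.ne_zero hn).charpoly = f := by
  unfold compMat
  rw [Matrix.charpoly_reindex, charpoly_leftMulMatrix,
    AdjoinRoot.minpoly_powerBasis_gen_of_monic hm]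

theorem det_compMat_ne_zero (f : F[X]) (hm : f.Monic) {n : ℕ} (hn : f.natDegree = n)
    (h0 : f.coeff 0 ≠ 0) : (compMat f hm.ne_zero hn).det ≠ 0 := by
  rw [Matrix.det_eq_sign_charpoly_coeff, charpoly_compMat f hm hn]
  exact mul_ne_zero (pow_ne_zero _ (by norm_num)) h0

end LOWER

theorem lower_bound {F : Type u} [Field F] [Fintype F] (n : ℕ) (hn : 1 ≤ n) :
    Fintype.card F ^ n - Fintype.card F ^ (n - 1) ≤
      Nat.card (ConjClasses (Matrix.GeneralLinearGroup (Fin n) F)) := by
  classical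
  have hcard := card_monic F n
  have hN : N (Fintype.card F) n = Fintype.card F ^ n - Fintype.card F ^ (n - 1) := by
    unfold N
    rw [if_neg (by omega)]
  rw [← hN, ← hcard]
  refine Nat.card_le_card_of_injective
    (fun f : {f : F[X] // f.Monic ∧ f.natDegree = n ∧ f.coeff 0 ≠ 0} =>
      ConjClasses.mk (Matrix.GeneralLinearGroup.mkOfDetNeZero
        (LOWER.compMat f.1 f.2.1.ne_zero f.2.2.1)
        (LOWER.det_compMat_ne_zero f.1 f.2.1 f.2.2.1 f.2.2.2))) ?_
  intro f g hfg
  simp only at hfg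
  rw [ConjClasses.mk_eq_mk_iff_isConj, isConj_iff] at hfg
  obtain ⟨c, hc⟩ := hfg
  have h1 := congrArg (fun M : Matrix.GeneralLinearGroup (Fin n) F =>
    (M : Matrix (Fin n) (Fin n) F).charpoly) hc
  simp only [Units.val_mul, Matrix.coe_units_inv] at h1
  rw [Matrix.charpoly_units_conj] at h1
  have e1 : ((Matrix.GeneralLinearGroup.mkOfDetNeZero
        (LOWER.compMat f.1 f.2.1.ne_zero f.2.2.1)
        (LOWER.det_compMat_ne_zero f.1 f.2.1 f.2.2.1 f.2.2.2) :
        Matrix.GeneralLinearGroup (Fin n) F) : Matrix (Fin n) (Fin n) F) =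
      LOWER.compMat f.1 f.2.1.ne_zero f.2.2.1 := rfl
  have e2 : ((Matrix.GeneralLinearGroup.mkOfDetNeZero
        (LOWER.compMat g.1 g.2.1.ne_zero g.2.2.1)
        (LOWER.det_compMat_ne_zero g.1 g.2.1 g.2.2.1 g.2.2.2) :
        Matrix.GeneralLinearGroup (Fin n) F) : Matrix (Fin n) (Fin n) F) =
      LOWER.compMat g.1 g.2.1.ne_zero g.2.2.1 := rfl
  rw [e1, e2, LOWER.charpoly_compMat f.1 f.2.1 f.2.2.1, LOWER.charpoly_compMat g.1 g.2.1 g.2.2.1]
    at h1
  exact Subtype.ext h1

end Cfsg.Agent.S2478P
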