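import Mathlib
import Cfsg.Agent.Helper26.S2478LOWER

/-! S2479, piece GLLOWER1: `q ^ n - q ^ (n - 1) + 1 ≤ k(GL_n(q))` for `n ≥ 2`:
the classes of the companion matrices and the class of `1`. -/

set_option autoImplicit false

namespace Cfsg.Agent.S2479P

open Polynomial Cfsg.Agent.S2478P

universe u

namespace GLLOWER1

variable {F : Type u} [Field F]

/-- a companion matrix of degree `≥ 2` is not the identity. -/
theorem compMat_ne_one (f : F[X]) (hm : f.Monic) {n : ℕ} (hn : f.natDegree = n) (h2 : 2 ≤ n) :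
    LOWER.compMat f hm.ne_zero hn ≠ 1 := by
  intro h
  unfold LOWER.compMat at h
  have h1 : Algebra.leftMulMatrix (AdjoinRoot.powerBasis hm.ne_zero).basis
      (AdjoinRoot.powerBasis hm.ne_zero).gen = 1 := by
    apply (Matrix.reindex (finCongr ((AdjoinRoot.powerBasis_dim hm.ne_zero).trans hn))
      (finCongr ((AdjoinRoot.powerBasis_dim hm.ne_zero).trans hn))).injective
    rw [h]
    simp [Matrix.reindex_apply]
  have h2' : (AdjoinRoot.powerBasis hm.ne_zero).gen = 1 := by
    apply Algebra.leftMulMatrix_injective (AdjoinRoot.powerBasis hm.ne_zero).basis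
    rw [h1, map_one]
  have h3 := AdjoinRoot.minpoly_powerBasis_gen_of_monic hm
  have hnt : Nontrivial (AdjoinRoot f) := by
    apply AdjoinRoot.nontrivial
    rw [degree_eq_natDegree hm.ne_zero, hn]
    intro h0
    have h00 : n = 0 := by exact_mod_cast h0
    omega
  rw [h2', minpoly.one] at h3
  have h4 : f.natDegree = 1 := by
    rw [← h3]
    exact natDegree_X_sub_C 1
  omega

end GLLOWER1

-- piece GLLOWER1
theorem gl_lower_succ {F : Type u} [Field F] [Fintype F] (n : ℕ) (hn : 2 ≤ n) :
    Fintype.card F ^ n - Fintype.card F ^ (n - 1) + 1 ≤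
      Nat.card (ConjClasses (Matrix.GeneralLinearGroup (Fin n) F)) := by
  classical
  have hcard := card_monic F n
  have hN : N (Fintype.card F) n = Fintype.card F ^ n - Fintype.card F ^ (n - 1) := by
    unfold N
    rw [if_neg (by omega)]
  have hq : 2 ≤ Fintype.card F := Fintype.one_lt_card
  have hpos : 0 < Fintype.card F ^ n - Fintype.card F ^ (n - 1) := by
    have : Fintype.card F ^ (n - 1) < Fintype.card F ^ n :=
      Nat.pow_lt_pow_right hq (by omega)
    omega
  have hfin : Finite {f : F[X] // f.Monic ∧ f.natDegree = n ∧ f.coeff 0 ≠ 0} := by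
    apply Nat.finite_of_card_ne_zero
    rw [hcard, hN]
    omega
  rw [← hN, ← hcard, ← Finite.card_option]
  refine Nat.card_le_card_of_injective
    (fun o : Option {f : F[X] // f.Monic ∧ f.natDegree = n ∧ f.coeff 0 ≠ 0} =>
      match o with
      | none => ConjClasses.mk (1 : Matrix.GeneralLinearGroup (Fin n) F)
      | some f => ConjClasses.mk (Matrix.GeneralLinearGroup.mkOfDetNeZero
        (LOWER.compMat f.1 f.2.1.ne_zero f.2.2.1)
        (LOWER.det_compMat_ne_zero f.1 f.2.1 f.2.2.1 f.2.2.2))) ?_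
  have key : ∀ f : {f : F[X] // f.Monic ∧ f.natDegree = n ∧ f.coeff 0 ≠ 0},
      ConjClasses.mk (1 : Matrix.GeneralLinearGroup (Fin n) F) ≠
      ConjClasses.mk (Matrix.GeneralLinearGroup.mkOfDetNeZero
        (LOWER.compMat f.1 f.2.1.ne_zero f.2.2.1)
        (LOWER.det_compMat_ne_zero f.1 f.2.1 f.2.2.1 f.2.2.2)) := by
    intro f h
    rw [ConjClasses.mk_eq_mk_iff_isConj, isConj_iff] at h
    obtain ⟨c, hc⟩ := h
    rw [mul_one, mul_inv_cancel] at hc
    have h1 := congrArg (fun M : Matrix.GeneralLinearGroup (Fin n) F =>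
      (M : Matrix (Fin n) (Fin n) F)) hc
    simp only [Units.val_one] at h1
    have e1 : ((Matrix.GeneralLinearGroup.mkOfDetNeZero
          (LOWER.compMat f.1 f.2.1.ne_zero f.2.2.1)
          (LOWER.det_compMat_ne_zero f.1 f.2.1 f.2.2.1 f.2.2.2) :
          Matrix.GeneralLinearGroup (Fin n) F) : Matrix (Fin n) (Fin n) F) =
        LOWER.compMat f.1 f.2.1.ne_zero f.2.2.1 := rfl
    rw [e1] at h1
    exact GLLOWER1.compMat_ne_one f.1 f.2.1 f.2.2.1 hn h1.symm
  intro o1 o2 h
  cases o1 with
  | none =>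
    cases o2 with
    | none => rfl
    | some g => exact absurd h (key g)
  | some f =>
    cases o2 with
    | none => exact absurd h.symm (key f)
    | some g =>
      simp only at h
      rw [ConjClasses.mk_eq_mk_iff_isConj, isConj_iff] at h
      obtain ⟨c, hc⟩ := h
      have h1 := congrArg (fun M : Matrix.GeneralLinearGroup (Fin n) F =>
        (M : Matrix (Fin n) (Fin n) F).charpoly) hc
      simp only [Units.val_mul, Matrix.coe_units_inv] at h1
      rw [Matrix.charpoly_units_conj] at h1
      have e1 : ((Matrix.GeneralLinearGroup.mkOfDetNeZero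
            (LOWER.compMat f.1 f.2.1.ne_zero f.2.2.1)
            (LOWER.det_compMat_ne_zero f.1 f.2.1 f.2.2.1 f.2.2.2) :
            Matrix.GeneralLinearGroup (Fin n) F) : Matrix (Fin n) (Fin n) F) =
          LOWER.compMat f.1 f.2.1.ne_zero f.2.2.1 := rfl
      have e2 : ((Matrix.GeneralLinearGroup.mkOfDetNeZero
            (LOWER.compMat g.1 g.2.1.ne_zero g.2.2.1)
            (LOWER.det_compMat_ne_zero g.1 g.2.1 g.2.2.1 g.2.2.2) :
            Matrix.GeneralLinearGroup (Fin n) F) : Matrix (Fin n) (Fin n) F) =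
          LOWER.compMat g.1 g.2.1.ne_zero g.2.2.1 := rfl
      rw [e1, e2, LOWER.charpoly_compMat f.1 f.2.1 f.2.2.1,
        LOWER.charpoly_compMat g.1 g.2.1 g.2.2.1] at h1
      exact congrArg some (Subtype.ext h1)

end Cfsg.Agent.S2479P
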