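import Mathlib
import Cfsg.Agent.Helper7.S2481Defs
import Cfsg.Agent.Helper7.S2481STBASIC
import Cfsg.Agent.Helper26.S2481FIELD
import Cfsg.Agent.Helper26.S2481QST

/-!
# S2481 Hermitian chapter, piece NORMLIFT: symmetric units of `F[X]/(p^e)` congruent to `1` are norms
-/

set_option autoImplicit false

namespace Cfsg.Agent.S2481P

open Polynomial
open Cfsg.Agent.Helper2.Herm (cj)

namespace NORMLIFT

variable {F : Type*} [Field F] [Fintype F] {q : ℕ}

theorem norm_lift (hF : Fintype.card F = q ^ 2) (N : ℕ) (hN : 0 < N) (p : F[X]) (hp : p.Monic)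
    (hirr : Irreducible p) (e : ℕ) (he : 1 ≤ e) (hpN : p ^ e ∣ X ^ N - 1)
    (hsd : p ∣ st (cj hF) N p) (s : F[X]) (hs1 : p ∣ s - 1)
    (hsym : p ^ e ∣ st (cj hF) N s - s) :
    ∃ y : F[X], p ∣ y - 1 ∧ p ^ e ∣ y * st (cj hF) N y - s := by
  have hf : p ^ e ∣ st (cj hF) N (p ^ e) := by
    rw [map_pow]; exact pow_dvd_pow_of_dvd hsd e
  let π := Ideal.Quotient.mk (Ideal.span {p ^ e})
  let θ := QST.thetaQ (cj hF) N (p ^ e) hf
  have hθmk : ∀ a : F[X], θ (π a) = π (st (cj hF) N a) := fun a => rfl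
  have hθ : ∀ x, θ (θ x) = x :=
    QST.thetaQ_thetaQ (cj hF) (Cfsg.Agent.Helper2.Herm.cj_cj hF) N hN (p ^ e) hf hpN
  have hπ : ∀ a b : F[X], π a = π b ↔ p ^ e ∣ a - b := QST.mk_eq_mk_iff (p ^ e)
  let J : Ideal (F[X] ⧸ Ideal.span {p ^ e}) := Ideal.span {π p}
  have hJe : J ^ e = ⊥ := by
    rw [Ideal.span_singleton_pow, ← map_pow, Ideal.span_singleton_eq_bot,
      Ideal.Quotient.eq_zero_iff_mem, Ideal.mem_span_singleton]
  obtain ⟨l, hl⟩ := FIELD.exists_trace_one hF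
  have hl' : π (C l) + θ (π (C l)) = 1 := by
    rw [hθmk, STBASIC.st_C, ← map_add, ← C_add, Cfsg.Agent.Helper2.Herm.cj_apply, hl, C_1, map_one]
  have hsJ : π s - 1 ∈ J := by
    have : π s - 1 = π (s - 1) := by rw [map_sub, map_one]
    rw [this, Ideal.mem_span_singleton]
    exact map_dvd π hs1
  have hθs : θ (π s) = π s := by
    rw [hθmk, hπ]; exact hsym
  obtain ⟨y, hy1, hy⟩ := QST.abstract_norm_lift θ hθ J e hJe (π (C l)) hl' (π s) hsJ hθs
  obtain ⟨y0, rfl⟩ := Ideal.Quotient.mk_surjective y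
  refine ⟨y0, ?_, ?_⟩
  · rw [Ideal.mem_span_singleton] at hy1
    obtain ⟨c, hc⟩ := hy1
    obtain ⟨c0, rfl⟩ := Ideal.Quotient.mk_surjective c
    have h1 : π (y0 - 1) = π (p * c0) := by
      rw [map_sub, map_one, map_mul]; exact hc
    rw [hπ] at h1
    have h2 : p ∣ y0 - 1 - p * c0 := dvd_trans (dvd_pow_self p (by omega)) h1
    have h3 : y0 - 1 = (y0 - 1 - p * c0) + p * c0 := by ring
    rw [h3]
    exact dvd_add h2 (dvd_mul_right p c0)
  · rw [hθmk, ← map_mul, hπ] at hy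
    exact hy

end NORMLIFT

end Cfsg.Agent.S2481P
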