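import Mathlib
import Cfsg.Agent.Helper7.S2481Defs
import Cfsg.Agent.Helper7.S2481STBASIC
import Cfsg.Agent.Helper26.S2481FIELD
import Cfsg.Agent.Helper26.S2481QST

/-!
# S2481 Hermitian chapter, piece NORMRES: symmetric units of the residue field `F[X]/(p)` are norms
-/

set_option autoImplicit false

namespace Cfsg.Agent.S2481P

open Polynomial
open Cfsg.Agent.Helper2.Herm (cj)

namespace NORMRES

/-- an involutive nontrivial automorphism of a finite field `L` is `y ↦ y^m` with `|L| = m^2` -/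
theorem exists_pow_of_involution {L : Type*} [Field L] [Fintype L] (θ : L →+* L)
    (hθ : ∀ x, θ (θ x) = x) (hne : ∃ x, θ x ≠ x) :
    ∃ m : ℕ, Fintype.card L = m ^ 2 ∧ ∀ y, θ y = y ^ m := by
  classical
  obtain ⟨P, hchar⟩ := CharP.exists L
  have := hchar
  have : Fact P.Prime := ⟨CharP.char_is_prime L P⟩
  let _ : Algebra (ZMod P) L := ZMod.algebra L P
  -- `θ` as an algebra automorphism over the prime field
  let E0 : L ≃+* L :=
    { toFun := θ, invFun := θ, left_inv := hθ, right_inv := hθ,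
      map_mul' := θ.map_mul, map_add' := θ.map_add }
  have hcomm : ∀ r : ZMod P, E0 (algebraMap (ZMod P) L r) = algebraMap (ZMod P) L r := by
    intro r
    have : θ.comp (algebraMap (ZMod P) L) = algebraMap (ZMod P) L := Subsingleton.elim _ _
    exact RingHom.congr_fun this r
  let E : L ≃ₐ[ZMod P] L := AlgEquiv.ofRingEquiv (f := E0) hcomm
  have hE : ∀ y, E y = θ y := fun y => rfl
  obtain ⟨⟨i, hi⟩, hEi⟩ := (FiniteField.bijective_frobeniusAlgEquivOfAlgebraic_pow (ZMod P) L).2 E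
  simp only at hEi
  have hcard : Fintype.card (ZMod P) = P := ZMod.card P
  have hpow : ∀ y, θ y = y ^ (P ^ i) := by
    intro y
    rw [← hE, ← hEi, AlgEquiv.coe_pow, FiniteField.coe_frobeniusAlgEquivOfAlgebraic_iterate, hcard]
  -- the order of Frobenius
  have hord := FiniteField.orderOf_frobeniusAlgEquivOfAlgebraic (ZMod P) L
  have hsq : (FiniteField.frobeniusAlgEquivOfAlgebraic (ZMod P) L) ^ (2 * i) = 1 := by
    rw [mul_comm, pow_mul, hEi]
    ext y
    rw [pow_two, AlgEquiv.mul_apply, hE, hE, hθ, AlgEquiv.one_apply]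
  have hdvd : Module.finrank (ZMod P) L ∣ 2 * i := by
    rw [← hord]; exact orderOf_dvd_of_pow_eq_one hsq
  have hi0 : i ≠ 0 := by
    rintro rfl
    obtain ⟨x, hx⟩ := hne
    apply hx
    rw [hpow, pow_zero, pow_one]
  have h2i : 2 * i = Module.finrank (ZMod P) L := by
    obtain ⟨c, hc⟩ := hdvd
    have hc0 : c ≠ 0 := by rintro rfl; omega
    have hc2 : c < 2 := by
      by_contra h
      have : Module.finrank (ZMod P) L * 2 ≤ Module.finrank (ZMod P) L * c :=
        Nat.mul_le_mul_left _ (by omega)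
      omega
    have : c = 1 := by omega
    rw [hc, this, mul_one]
  refine ⟨P ^ i, ?_, hpow⟩
  rw [Module.card_eq_pow_finrank (K := ZMod P) (V := L), hcard, ← h2i, ← pow_mul, mul_comm]

/-- norms in a finite field with an involution -/
theorem field_norm_surj {L : Type*} [Field L] [Finite L] (θ : L →+* L)
    (hθ : ∀ x, θ (θ x) = x) (hne : ∃ x, θ x ≠ x) (a : L) (ha : θ a = a) :
    ∃ y, y * θ y = a := by
  have := Fintype.ofFinite L
  obtain ⟨m, hm, hpow⟩ := exists_pow_of_involution θ hθ hne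
  obtain ⟨y, hy⟩ := FIELD.exists_norm hm a (by rw [← hpow, ha])
  exact ⟨y, by rw [hpow, hy]⟩

variable {F : Type*} [Field F] [Fintype F] {q : ℕ}

theorem norm_res (hF : Fintype.card F = q ^ 2) (N : ℕ) (hN : 0 < N) (p : F[X]) (hp : p.Monic)
    (hirr : Irreducible p) (hpN : p ∣ X ^ N - 1) (hsd : p ∣ st (cj hF) N p) (s : F[X])
    (hs : ¬ p ∣ s) (hsym : p ∣ st (cj hF) N s - s) :
    ∃ y : F[X], p ∣ y * st (cj hF) N y - s := by
  have : Fact (Irreducible p) := ⟨hirr⟩
  have hmf : Module.Finite F (AdjoinRoot p) := hp.finite_adjoinRoot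
  have hfin : Finite (AdjoinRoot p) := Module.finite_of_finite F
  let θ : AdjoinRoot p →+* AdjoinRoot p := QST.thetaQ (cj hF) N p hsd
  have hθmk : ∀ a : F[X], θ (AdjoinRoot.mk p a) = AdjoinRoot.mk p (st (cj hF) N a) := fun a => rfl
  have hθ : ∀ x, θ (θ x) = x :=
    QST.thetaQ_thetaQ (cj hF) (Cfsg.Agent.Helper2.Herm.cj_cj hF) N hN p hsd hpN
  have hne : ∃ x, θ x ≠ x := by
    obtain ⟨l, hl⟩ := FIELD.exists_ne_conj hF
    refine ⟨AdjoinRoot.mk p (C l), ?_⟩
    rw [hθmk, STBASIC.st_C, AdjoinRoot.mk_C, AdjoinRoot.mk_C]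
    intro h
    exact hl ((AdjoinRoot.of p).injective h)
  have ha : θ (AdjoinRoot.mk p s) = AdjoinRoot.mk p s := by
    rw [hθmk, AdjoinRoot.mk_eq_mk]
    exact hsym
  obtain ⟨y, hy⟩ := field_norm_surj θ hθ hne (AdjoinRoot.mk p s) ha
  obtain ⟨y0, rfl⟩ := AdjoinRoot.mk_surjective y
  refine ⟨y0, ?_⟩
  rw [hθmk, ← map_mul, AdjoinRoot.mk_eq_mk] at hy
  exact hy

end NORMRES

end Cfsg.Agent.S2481P
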