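import Mathlib
import Cfsg.Agent.Helper7.S2481Defs
import Cfsg.Agent.Helper7.S2481STBASIC
import Cfsg.Agent.Helper26.S2481FIELD
import Cfsg.Agent.Helper26.S2481QST
import Cfsg.Agent.Helper26.S2481NORMRES
import Cfsg.Agent.Helper26.S2481NORMLIFT

/-!
# S2481 Hermitian chapter, piece NORM: symmetric units of `F[X]/(p^e)` are norms
-/

set_option autoImplicit false

namespace Cfsg.Agent.S2481P

open Polynomial
open Cfsg.Agent.Helper2.Herm (cj)

namespace NORM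

variable {F : Type*} [Field F] [Fintype F] {q : ℕ}

theorem norm (hF : Fintype.card F = q ^ 2) (N : ℕ) (hN : 0 < N) (p : F[X]) (hp : p.Monic)
    (hirr : Irreducible p) (e : ℕ) (he : 1 ≤ e) (hpN : p ^ e ∣ X ^ N - 1)
    (hsd : p ∣ st (cj hF) N p) (s : F[X]) (hs : ¬ p ∣ s)
    (hsym : p ^ e ∣ st (cj hF) N s - s) :
    ∃ y : F[X], p ^ e ∣ y * st (cj hF) N y - s := by
  have hpe : p ∣ p ^ e := dvd_pow_self p (by omega)
  obtain ⟨y₀, hy₀⟩ := NORMRES.norm_res hF N hN p hp hirr (dvd_trans hpe hpN) hsd s hs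
    (dvd_trans hpe hsym)
  have hf : p ^ e ∣ st (cj hF) N (p ^ e) := by
    rw [map_pow]; exact pow_dvd_pow_of_dvd hsd e
  let π := Ideal.Quotient.mk (Ideal.span {p ^ e})
  let θ := QST.thetaQ (cj hF) N (p ^ e) hf
  have hθmk : ∀ a : F[X], θ (π a) = π (st (cj hF) N a) := fun a => rfl
  have hθ : ∀ x, θ (θ x) = x :=
    QST.thetaQ_thetaQ (cj hF) (Cfsg.Agent.Helper2.Herm.cj_cj hF) N hN (p ^ e) hf hpN
  have hπ : ∀ a b : F[X], π a = π b ↔ p ^ e ∣ a - b := QST.mk_eq_mk_iff (p ^ e)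
  have hπpe : π (p ^ e) = 0 := by
    rw [Ideal.Quotient.eq_zero_iff_mem, Ideal.mem_span_singleton]
  obtain ⟨n₀, hn₀⟩ : ∃ n₀ : F[X], n₀ = y₀ * st (cj hF) N y₀ := ⟨_, rfl⟩
  rw [← hn₀] at hy₀
  have hpn₀ : ¬ p ∣ n₀ := by
    intro h
    apply hs
    have : s = n₀ - (n₀ - s) := by ring
    rw [this]
    exact dvd_sub h hy₀
  have hcop : IsCoprime n₀ (p ^ e) :=
    ((hirr.coprime_iff_not_dvd.2 hpn₀).symm).pow_right
  obtain ⟨u, v, huv⟩ := hcop
  have hun : π u * π n₀ = 1 := by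
    have h1 : π (u * n₀ + v * p ^ e) = 1 := by rw [huv, map_one]
    rw [map_add, map_mul, map_mul, hπpe, mul_zero, add_zero] at h1
    exact h1
  have hπn₀ : π n₀ = π y₀ * θ (π y₀) := by rw [hn₀, map_mul, hθmk]
  have hθn : θ (π n₀) = π n₀ := by
    rw [hπn₀, map_mul, hθ, mul_comm]
  have hθu : θ (π u) = π u := by
    have h1 : θ (π u) * π n₀ = 1 := by
      rw [← hθn, ← map_mul, hun, map_one]
    calc θ (π u) = θ (π u) * (π u * π n₀) := by rw [hun, mul_one]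
      _ = (θ (π u) * π n₀) * π u := by ring
      _ = π u := by rw [h1, one_mul]
  have ha : p ∣ s * u - 1 := by
    have h1 : s * u - 1 = -((n₀ - s) * u) + -(v * p ^ e) := by
      have : (1 : F[X]) = u * n₀ + v * p ^ e := huv.symm
      linear_combination (-1 : F[X]) * this
    rw [h1]
    exact dvd_add (Dvd.dvd.neg_right (Dvd.dvd.mul_right hy₀ u))
      (Dvd.dvd.neg_right (Dvd.dvd.mul_left hpe v))
  have hb : p ^ e ∣ st (cj hF) N (s * u) - s * u := by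
    rw [← hπ, ← hθmk, map_mul, map_mul, hθu]
    congr 1
    rw [hθmk, hπ]
    exact hsym
  obtain ⟨y₁, _, hy₁⟩ := NORMLIFT.norm_lift hF N hN p hp hirr e he hpN hsd (s * u) ha hb
  refine ⟨y₀ * y₁, ?_⟩
  rw [← hπ]
  have h1 : π (y₁ * st (cj hF) N y₁) = π (s * u) := (hπ _ _).2 hy₁
  calc π (y₀ * y₁ * st (cj hF) N (y₀ * y₁))
      = π n₀ * π (y₁ * st (cj hF) N y₁) := by
        rw [hn₀, ← map_mul, map_mul (st (cj hF) N)]; congr 1; ring
    _ = π s * (π u * π n₀) := by rw [h1, map_mul]; ring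
    _ = π s := by rw [hun, mul_one]

end NORM

end Cfsg.Agent.S2481P
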