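import Mathlib
import Cfsg.Prelude.Def_Classical
import Cfsg.Agent.Helper13.S2496Defs

/-!
# S2496, piece DETPOW

`σ(N b)⁻¹ N b = 1 ⟺ b ^ ((q^(2h) - 1)/(q + 1)) = 1` for `b ≠ 0` in `K`, `|F| = q²`, `[K : F] = h`.
-/

set_option autoImplicit false

namespace Cfsg.Agent.S2496P

namespace DETPOW

/-- `(q^(2h) - 1)/(q + 1) = ((q^(2h) - 1)/(q² - 1)) (q - 1)` -/
theorem arith (q h : ℕ) (hq : 2 ≤ q) :
    (q ^ (2 * h) - 1) / (q + 1) = (q ^ (2 * h) - 1) / (q ^ 2 - 1) * (q - 1) := by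
  have hd : q ^ 2 - 1 ∣ q ^ (2 * h) - 1 := by
    simpa only [one_pow, pow_mul] using Nat.sub_dvd_pow_sub_pow (q ^ 2) 1 h
  obtain ⟨E, hE⟩ := hd
  have hfac : q ^ 2 - 1 = (q - 1) * (q + 1) := by
    obtain ⟨k, rfl⟩ : ∃ k, q = k + 1 := ⟨q - 1, by omega⟩
    have : (k + 1) ^ 2 - 1 = k * (k + 2) := by
      have : (k + 1) ^ 2 = k * (k + 2) + 1 := by ring
      omega
    simpa using this
  have hpos : 0 < q ^ 2 - 1 := by
    have : 4 ≤ q ^ 2 := by nlinarith
    omega
  rw [hE, Nat.mul_div_cancel_left _ hpos, hfac]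
  rw [show (q - 1) * (q + 1) * E = (q + 1) * (E * (q - 1)) by ring,
    Nat.mul_div_cancel_left _ (by omega : 0 < q + 1)]

end DETPOW

section

variable {F K : Type*} [Field F] [Fintype F] [Field K] [Algebra F K] [Finite K] {p : ℕ}
  [Fact p.Prime] [CharP F p] [CharP K p] {f q : ℕ}

/-- DETPOW: the determinant condition is `b ^ M₁ = 1` -/
theorem det_cond_iff (hq : q = p ^ f) (hF : Fintype.card F = q ^ 2) {h : ℕ}
    (hK : Module.finrank F K = h) (hh : 1 ≤ h) (b : K) (hb : b ≠ 0) :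
    (frob F p f (Algebra.norm F b))⁻¹ * Algebra.norm F b = 1 ↔
      b ^ ((q ^ (2 * h) - 1) / (q + 1)) = 1 := by
  have hq2 : 2 ≤ q := by
    have h1 : 1 < Fintype.card F := Fintype.one_lt_card
    rw [hF] at h1
    by_contra hcon
    have : q ≤ 1 := by omega
    have : q ^ 2 ≤ 1 := by nlinarith
    omega
  have hfin : FiniteDimensional F K := inferInstance
  set N := Algebra.norm F b with hN
  have hN0 : N ≠ 0 := Algebra.norm_ne_zero_iff.mpr hb
  have hfr : frob F p f N = N ^ q := by rw [frob_apply, hq]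
  have hfr0 : frob F p f N ≠ 0 := by rw [hfr]; exact pow_ne_zero _ hN0
  -- step 1, 2
  have h1 : (frob F p f N)⁻¹ * N = 1 ↔ N ^ (q - 1) = 1 := by
    rw [inv_mul_eq_one₀ hfr0, hfr]
    have hsplit : N ^ q = N ^ (q - 1) * N := by
      rw [← pow_succ]; congr 1; omega
    rw [hsplit]
    constructor
    · intro h'
      have : N ^ (q - 1) * N = 1 * N := by rw [one_mul]; exact h'
      exact mul_right_cancel₀ hN0 this
    · intro h'
      rw [h', one_mul]
  rw [h1]
  -- step 3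
  have hcardK : Nat.card K = q ^ (2 * h) := by
    have := Fintype.ofFinite K
    rw [Nat.card_eq_fintype_card, Module.card_eq_pow_finrank (K := F) (V := K), hK, hF, ← pow_mul]
  have hcardF : Nat.card F = q ^ 2 := by rw [Nat.card_eq_fintype_card, hF]
  have hnorm : algebraMap F K N = b ^ ((q ^ (2 * h) - 1) / (q ^ 2 - 1)) := by
    rw [hN, FiniteField.algebraMap_norm_eq_pow, hcardK, hcardF]
  have h2 : N ^ (q - 1) = 1 ↔ (algebraMap F K N) ^ (q - 1) = 1 := by
    constructor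
    · intro h'; rw [← RingHom.map_pow, h', map_one]
    · intro h'
      apply (algebraMap F K).injective
      rw [RingHom.map_pow, h', map_one]
  rw [h2, hnorm, ← pow_mul, DETPOW.arith q h hq2]

end

end Cfsg.Agent.S2496P
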