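import Mathlib
import Cfsg.Prelude.Def_Classical
import Cfsg.Agent.Helper28.S2512Defs
import Cfsg.Agent.Helper19.S2264RECIP1
import Cfsg.Agent.Helper10.S2510CHARPOW
import Cfsg.Agent.Helper24.S2511CHARPOW2

/-! S2512 piece GENIDX (driver helper28): `charpoly_inv`, `charpoly_eq_pow`, `charpoly_eq_pow_mul` for a general
finite index type. -/

set_option autoImplicit false

universe u

namespace Cfsg.Agent.S2512P

open Polynomial Matrix
open Cfsg.Agent.S2264P

namespace GENIDX

/-- reindexing along `Fintype.equivFin` keeps the minimal polynomial -/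
theorem minpoly_reindex {K : Type*} [Field K] {ι : Type*} [Fintype ι] [DecidableEq ι]
    (A : Matrix ι ι K) :
    minpoly K (Matrix.reindex (Fintype.equivFin ι) (Fintype.equivFin ι) A) = minpoly K A := by
  have := minpoly.algEquiv_eq (Matrix.reindexAlgEquiv K K (Fintype.equivFin ι)) A
  rwa [Matrix.coe_reindexAlgEquiv] at this

end GENIDX

/-- GENIDX -/
theorem charpoly_inv_gen {K : Type*} [Field K] {ι : Type*} [Fintype ι] [DecidableEq ι]
    (A : Matrix ι ι K) (hA : IsUnit A.det) : A⁻¹.charpoly = recip A.charpoly := by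
  have hAu : IsUnit A := (Matrix.isUnit_iff_isUnit_det A).2 hA
  have hd : A.det ≠ 0 := hA.ne_zero
  rw [Matrix.charpoly_inv A hAu, ← Matrix.reverse_charpoly]
  unfold recip
  have h1 := Matrix.det_eq_sign_charpoly_coeff A
  have h2 : A.charpoly.coeff 0 = (-1) ^ Fintype.card ι * A.det := by
    rw [h1, ← mul_assoc, ← mul_pow]
    simp
  rw [h2, Ring.inverse_eq_inv', mul_inv, ← inv_pow, inv_neg_one, C_mul, C_pow, C_neg, C_1]

/-- GENIDX -/
theorem charpoly_eq_pow_gen {K : Type*} [Field K] {ι : Type*} [Fintype ι] [DecidableEq ι]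
    (A : Matrix ι ι K) (f : K[X]) (hf : f.Monic) (hirr : Irreducible f) (e : ℕ)
    (hμ : minpoly K A = f ^ e) : ∃ m : ℕ, A.charpoly = f ^ m := by
  have h := Cfsg.Agent.S2510P.charpoly_eq_pow
    (Matrix.reindex (Fintype.equivFin ι) (Fintype.equivFin ι) A) f hf hirr e
    (by rw [GENIDX.minpoly_reindex, hμ])
  rwa [Matrix.charpoly_reindex] at h

/-- GENIDX -/
theorem charpoly_eq_pow_mul_gen {K : Type*} [Field K] {ι : Type*} [Fintype ι] [DecidableEq ι]
    (A : Matrix ι ι K) (φ ψ : K[X]) (hφ : φ.Monic) (hψ : ψ.Monic) (hφi : Irreducible φ)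
    (hψi : Irreducible ψ) (e : ℕ) (hμ : minpoly K A = (φ * ψ) ^ e) :
    ∃ a b : ℕ, A.charpoly = φ ^ a * ψ ^ b := by
  have h := Cfsg.Agent.S2511P.charpoly_eq_pow_mul
    (Matrix.reindex (Fintype.equivFin ι) (Fintype.equivFin ι) A) φ ψ hφ hψ hφi hψi e
    (by rw [GENIDX.minpoly_reindex, hμ])
  rwa [Matrix.charpoly_reindex] at h

end Cfsg.Agent.S2512P
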