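import Mathlib
import Cfsg.Prelude.Def_Classical
import Cfsg.Agent.Helper28.S2512Defs
import Cfsg.Agent.Helper19.S2264RECIP1
import Cfsg.Agent.Helper26.S2264RECIP2
import Cfsg.Agent.Helper26.S2512GENIDX

/-! S2512 pieces CHARREC, CHARSELF, CHARPAIR (driver helper28): the characteristic polynomial of a symplectic
matrix is self-reciprocal; shape of the characteristic polynomial of a bad element. -/

set_option autoImplicit false

universe u

namespace Cfsg.Agent.S2512P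

open Polynomial Matrix
open Cfsg.Agent.S2264P

/-- CHARREC -/
theorem charpoly_recip_sp {F : Type*} [Field F] {n : ℕ} (A : Matrix.symplecticGroup (Fin n) F) :
    recip (mat A).charpoly = (mat A).charpoly := by
  have hdet : IsUnit (mat A).det := SymplecticGroup.symplectic_det A.2
  rw [← charpoly_inv_gen (mat A) hdet]
  have h1 : (mat A)⁻¹ = -Matrix.J (Fin n) F * (mat A)ᵀ * Matrix.J (Fin n) F :=
    SymplecticGroup.inv_eq_symplectic_inv (mat A) A.2
  -- `J` as a unit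
  let Ju : (Matrix (Fin n ⊕ Fin n) (Fin n ⊕ Fin n) F)ˣ :=
    ⟨Matrix.J (Fin n) F, -Matrix.J (Fin n) F, by rw [mul_neg, Matrix.J_squared, neg_neg],
      by rw [neg_mul, Matrix.J_squared, neg_neg]⟩
  have h2 : (mat A)⁻¹ = Ju.val⁻¹ * (mat A)ᵀ * Ju.val := by
    rw [h1]
    show -Matrix.J (Fin n) F * (mat A)ᵀ * Matrix.J (Fin n) F =
      (Matrix.J (Fin n) F)⁻¹ * (mat A)ᵀ * Matrix.J (Fin n) F
    rw [Matrix.J_inv]
  rw [h2, Matrix.charpoly_units_conj', Matrix.charpoly_transpose]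

namespace CHARSP

theorem card_idx (n : ℕ) : Fintype.card (Fin n ⊕ Fin n) = 2 * n := by
  rw [Fintype.card_sum, Fintype.card_fin]; ring

/-- for distinct monic irreducible `φ, ψ`: `φ^a ψ^b = ψ^a φ^b` forces `a ≤ b` -/
theorem le_of_pow_mul_eq {K : Type*} [Field K] (φ ψ : K[X]) (hφ : φ.Monic) (hψ : ψ.Monic)
    (hφi : Irreducible φ) (hψi : Irreducible ψ) (hne : ψ ≠ φ) (a b : ℕ)
    (h : φ ^ a * ψ ^ b = ψ ^ a * φ ^ b) : a ≤ b := by
  by_contra hlt
  push Not at hlt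
  have hab : a = b + (a - b) := by omega
  have hφ0 : φ ^ b ≠ 0 := pow_ne_zero _ hφ.ne_zero
  have h1 : φ ^ b * (φ ^ (a - b) * ψ ^ b) = φ ^ b * ψ ^ a := by
    calc φ ^ b * (φ ^ (a - b) * ψ ^ b) = φ ^ (b + (a - b)) * ψ ^ b := by rw [pow_add]; ring
      _ = φ ^ a * ψ ^ b := by rw [← hab]
      _ = ψ ^ a * φ ^ b := h
      _ = φ ^ b * ψ ^ a := by ring
  have h2 := mul_left_cancel₀ hφ0 h1
  have h3 : φ ∣ ψ ^ a := by
    rw [← h2]
    exact Dvd.dvd.mul_right (dvd_pow_self φ (by omega)) _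
  have h4 : φ ∣ ψ := hφi.prime.dvd_of_dvd_pow h3
  have h5 : φ = ψ := eq_of_monic_of_associated hφ hψ (hφi.associated_of_dvd hψi h4)
  exact hne h5.symm

end CHARSP

/-- CHARSELF -/
theorem charpoly_self_sp {F : Type*} [Field F] {n : ℕ} (A : Matrix.symplecticGroup (Fin n) F)
    {φ : F[X]} (hm : φ.Monic) (hirr : Irreducible φ) (e : ℕ)
    (hμ : minpoly F (mat A) = φ ^ e) : ∃ m' : ℕ, e ≤ m' ∧ 2 * n = m' * φ.natDegree := by
  obtain ⟨m', hm'⟩ := charpoly_eq_pow_gen (mat A) φ hm hirr e hμ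
  refine ⟨m', ?_, ?_⟩
  · have h1 : φ ^ e ∣ φ ^ m' := by
      rw [← hμ, ← hm']
      exact Matrix.minpoly_dvd_charpoly (mat A)
    exact (pow_dvd_pow_iff hm.ne_zero hirr.not_isUnit).1 h1
  · have h1 := Matrix.charpoly_natDegree_eq_dim (mat A)
    rw [hm', hm.natDegree_pow, CHARSP.card_idx] at h1
    exact h1.symm

/-- CHARPAIR -/
theorem charpoly_pair_sp {F : Type*} [Field F] {n : ℕ} (A : Matrix.symplecticGroup (Fin n) F)
    {φ : F[X]} (hm : φ.Monic) (hirr : Irreducible φ) (h0 : φ.coeff 0 ≠ 0) (hne : recip φ ≠ φ) (e : ℕ)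
    (hμ : minpoly F (mat A) = (φ * recip φ) ^ e) : ∃ m' : ℕ, e ≤ m' ∧ n = m' * φ.natDegree := by
  have hmr : (recip φ).Monic := recip_monic h0
  have hirrr : Irreducible (recip φ) := recip_irreducible hirr h0
  obtain ⟨a, b, hab⟩ := charpoly_eq_pow_mul_gen (mat A) φ (recip φ) hm hmr hirr hirrr e hμ
  have hrec := charpoly_recip_sp A
  rw [hab, recip_mul, recip_pow, recip_pow, recip_recip hm h0] at hrec
  -- `(recip φ)^a * φ^b = φ^a * (recip φ)^b`
  have h1 : φ ^ a * recip φ ^ b = recip φ ^ a * φ ^ b := hrec.symm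
  have hle1 : a ≤ b := CHARSP.le_of_pow_mul_eq φ (recip φ) hm hmr hirr hirrr hne a b h1
  have h2 : recip φ ^ b * φ ^ a = φ ^ b * recip φ ^ a := by
    rw [mul_comm, h1, mul_comm]
  have hle2 : b ≤ a :=
    CHARSP.le_of_pow_mul_eq (recip φ) φ hmr hm hirrr hirr (fun h => hne h.symm) b a h2
  have hba : b = a := le_antisymm hle2 hle1
  rw [hba, ← mul_pow] at hab
  have hmm : (φ * recip φ).Monic := hm.mul hmr
  have hnu : ¬ IsUnit (φ * recip φ) := by
    intro h
    exact hirr.not_isUnit (isUnit_of_mul_isUnit_left h)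
  refine ⟨a, ?_, ?_⟩
  · have h3 : (φ * recip φ) ^ e ∣ (φ * recip φ) ^ a := by
      rw [← hμ, ← hab]
      exact Matrix.minpoly_dvd_charpoly (mat A)
    exact (pow_dvd_pow_iff hmm.ne_zero hnu).1 h3
  · have h3 := Matrix.charpoly_natDegree_eq_dim (mat A)
    rw [hab, hmm.natDegree_pow, hm.natDegree_mul hmr, natDegree_recip h0, CHARSP.card_idx] at h3
    have : 2 * n = 2 * (a * φ.natDegree) := by rw [← h3]; ring
    omega

end Cfsg.Agent.S2512P
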