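import Mathlib
import Cfsg.Prelude.Def_Classical
import Cfsg.Agent.Helper28.S2512Defs
import Cfsg.Agent.Helper7.S2264FACS
import Cfsg.Agent.Helper19.S2264REVFAC

/-! S2512 piece SHAPER (driver helper28): `SingleR μ ⇒ μ = φ^e` or `μ = (φ · recip φ)^e`. -/

set_option autoImplicit false

namespace Cfsg.Agent.S2512P

open Polynomial Matrix
open Cfsg.Agent.S2264P

/-- SHAPER -/
theorem single_shape_r {F : Type*} [Field F] {μ : F[X]} (hμ : Good μ) (hd : 1 ≤ μ.natDegree)
    (hs : SingleR μ) :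
    ∃ (φ : F[X]) (e : ℕ), φ.Monic ∧ Irreducible φ ∧ φ.coeff 0 ≠ 0 ∧ 1 ≤ e ∧
      ((recip φ = φ ∧ μ = φ ^ e) ∨ (recip φ ≠ φ ∧ μ = (φ * recip φ) ^ e)) := by
  classical
  obtain ⟨φ, hφ⟩ : (facs μ).Nonempty := by
    by_contra hne
    rw [Finset.not_nonempty_iff_eq_empty] at hne
    have h := natDegree_eq_sum hμ.monic
    rw [hne, Finset.sum_empty] at h
    omega
  obtain ⟨hirr, hm, hdvd⟩ := (mem_facs hμ.monic.ne_zero).1 hφ
  have h0 := coeff_zero_ne_zero_of_mem_facs hμ.coeff0 hφ
  have hφ' := recip_mem_facs hμ hφ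
  have hmult := mult_recip hμ hφ
  have hmpos := mult_pos hφ
  refine ⟨φ, mult μ φ, hm, hirr, h0, hmpos, ?_⟩
  by_cases hr : recip φ = φ
  · left
    refine ⟨hr, ?_⟩
    have hfacs : facs μ = {φ} := by
      rw [Finset.eq_singleton_iff_unique_mem]
      refine ⟨hφ, fun g hg => ?_⟩
      rcases hs φ hφ g hg with h | h
      · exact h
      · rw [h, hr]
    have hprod := prod_facs hμ.monic
    rw [hfacs, Finset.prod_singleton] at hprod
    exact hprod.symm
  · right
    refine ⟨hr, ?_⟩
    have hfacs : facs μ = {φ, recip φ} := by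
      ext g
      rw [Finset.mem_insert, Finset.mem_singleton]
      constructor
      · intro hg
        exact hs φ hφ g hg
      · rintro (h | h)
        · rw [h]; exact hφ
        · rw [h]; exact hφ'
    have hne : φ ≠ recip φ := fun h => hr h.symm
    have hprod := prod_facs hμ.monic
    rw [hfacs, Finset.prod_pair hne, hmult] at hprod
    rw [mul_pow]
    exact hprod.symm

end Cfsg.Agent.S2512P
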