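import Mathlib
import Cfsg.Agent.Helper29.S2558DDefs
import Cfsg.Agent.Helper26.S2558GRAMDET

/-! # S2558 chapter (D) DISCRIMINANTS, piece SAMEDISC: `SameDisc` is an equivalence relation on
nondegenerate spaces. -/

set_option autoImplicit false

namespace Cfsg.Agent.S2558P

open Cfsg.Agent.Helper2.SympInvol Cfsg.Agent.S2482P

universe u

namespace DISC

theorem sameDisc_refl {F : Type u} [Field F] (S : SpSpace F) : S.SameDisc S :=
  ⟨Module.finrank F S.V, Module.finBasis F S.V, Module.finBasis F S.V, ⟨_, rfl⟩⟩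

theorem sameDisc_symm {F : Type u} [Field F] {S S' : SpSpace F} (h : S.SameDisc S') :
    S'.SameDisc S := by
  obtain ⟨k, b, b', hsq⟩ := h
  exact ⟨k, b', b, by rwa [mul_comm]⟩

theorem sameDisc_trans {F : Type u} [Field F] {S S' S'' : SpSpace F} (h' : S'.IsOrth)
    (h₁ : S.SameDisc S') (h₂ : S'.SameDisc S'') : S.SameDisc S'' := by
  obtain ⟨k, b, b', x, hx⟩ := h₁
  obtain ⟨k', c', c'', y, hy⟩ := h₂
  have hk : k = k' := by
    have h1 := Module.finrank_eq_card_basis b'
    have h2 := Module.finrank_eq_card_basis c'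
    rw [Fintype.card_fin] at h1 h2
    omega
  subst hk
  obtain ⟨p, hp, hpc⟩ := det_basis_change S'.B b' c'
  have hd : (LinearMap.BilinForm.toMatrix b' S'.B).det ≠ 0 := det_ne_zero S'.B h'.nondeg b'
  refine ⟨k, b, c'', x * y * (p * (LinearMap.BilinForm.toMatrix b' S'.B).det)⁻¹, ?_⟩
  rw [hpc] at hy
  set d := (LinearMap.BilinForm.toMatrix b S.B).det
  set d' := (LinearMap.BilinForm.toMatrix b' S'.B).det
  set d'' := (LinearMap.BilinForm.toMatrix c'' S''.B).det
  have hpd : p * d' ≠ 0 := mul_ne_zero hp hd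
  have key : d * d'' * ((p * d') * (p * d')) = (x * y) * (x * y) := by
    calc d * d'' * ((p * d') * (p * d')) = (d * d') * (p ^ 2 * d' * d'') := by ring
      _ = (x * x) * (y * y) := by rw [hx, hy]
      _ = (x * y) * (x * y) := by ring
  field_simp
  linear_combination key

/-- (D5) -/
theorem sameDisc_ofO {F : Type u} [Field F] {ι : Type} [Fintype ι] [DecidableEq ι]
    (B : LinearMap.BilinForm F (ι → F)) (M M' : Matrix ι ι F) :
    (ofO B M).SameDisc (ofO B M') := by
  let b : Module.Basis (Fin (Fintype.card ι)) F (ι → F) :=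
    (Pi.basisFun F ι).reindex (Fintype.equivFin ι)
  exact ⟨Fintype.card ι, b, b, ⟨_, rfl⟩⟩

end DISC

end Cfsg.Agent.S2558P
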