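import Mathlib
import Cfsg.Agent.Helper26.S2607AG1

/-! S2607, piece AG3: `N ≅ C₂ × C₂`, `f` odd, `φ` centralising a non-trivial element of `N`. -/

set_option autoImplicit false

namespace Cfsg.Agent.S2607P

namespace AG3

theorem klein_facts : ∀ t x y : Multiplicative (ZMod 2 × ZMod 2), t ≠ 1 → x ≠ 1 → x ≠ t →
    y ≠ 1 → y ≠ t → (y = x ∨ y = t * x) := by
  decide

theorem klein_sq : ∀ t : Multiplicative (ZMod 2 × ZMod 2), t * t = 1 := by
  decide

/-- `φ` centralises `N` -/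
theorem central {O : Type*} [Group O] (N : Subgroup O) [N.Normal]
    (e : ↥N ≃* Multiplicative (ZMod 2 × ZMod 2)) (φ : O) (f : ℕ)
    (hfo : Odd f) (hord : φ ^ f = 1)
    (s : O) (hs : s ∈ N) (hs1 : s ≠ 1) (hsφ : φ * s = s * φ) :
    ∀ n ∈ N, φ * n = n * φ := by
  have hss : s * s = 1 := by
    have h := klein_sq (e ⟨s, hs⟩)
    rw [← map_mul, ← e.map_one] at h
    have h2 := e.injective h
    exact congrArg Subtype.val h2
  have hconj_s : φ * s * φ⁻¹ = s := by rw [hsφ, mul_inv_cancel_right]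
  -- `φ n φ⁻¹ ∈ {n, s n}`
  have hstep : ∀ n ∈ N, φ * n * φ⁻¹ = n ∨ φ * n * φ⁻¹ = s * n := by
    intro n hn
    by_cases hn1 : n = 1
    · left; rw [hn1, mul_one, mul_inv_cancel]
    by_cases hns : n = s
    · left; rw [hns]; exact hconj_s
    have hmem : φ * n * φ⁻¹ ∈ N := ‹N.Normal›.conj_mem n hn φ
    have hy1 : φ * n * φ⁻¹ ≠ 1 := by
      intro h
      apply hn1
      have : n = φ⁻¹ * (φ * n * φ⁻¹) * φ := by group
      rw [this, h]; group
    have hys : φ * n * φ⁻¹ ≠ s := by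
      intro h
      apply hns
      calc n = φ⁻¹ * (φ * n * φ⁻¹) * φ := by group
        _ = φ⁻¹ * s * φ := by rw [h]
        _ = φ⁻¹ * (s * φ) := by group
        _ = φ⁻¹ * (φ * s) := by rw [hsφ]
        _ = s := by group
    have key := klein_facts (e ⟨s, hs⟩) (e ⟨n, hn⟩) (e ⟨φ * n * φ⁻¹, hmem⟩)
      (fun h => hs1 (by
        rw [← e.map_one] at h
        exact congrArg Subtype.val (e.injective h)))
      (fun h => hn1 (by
        rw [← e.map_one] at h
        exact congrArg Subtype.val (e.injective h)))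
      (fun h => hns (congrArg Subtype.val (e.injective h)))
      (fun h => hy1 (by
        rw [← e.map_one] at h
        exact congrArg Subtype.val (e.injective h)))
      (fun h => hys (congrArg Subtype.val (e.injective h)))
    rcases key with h | h
    · left
      exact congrArg Subtype.val (e.injective h)
    · right
      rw [← map_mul] at h
      exact congrArg Subtype.val (e.injective h)
  -- `φ ^ 2` centralises `N`
  have hsq : ∀ n ∈ N, Commute (φ ^ 2) n := by
    intro n hn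
    have h2 : φ ^ 2 * n * (φ ^ 2)⁻¹ = n := by
      have e1 : φ ^ 2 * n * (φ ^ 2)⁻¹ = φ * (φ * n * φ⁻¹) * φ⁻¹ := by rw [pow_two]; group
      rw [e1]
      rcases hstep n hn with h | h
      · rw [h, h]
      · rw [h]
        have e2 : φ * (s * n) * φ⁻¹ = (φ * s * φ⁻¹) * (φ * n * φ⁻¹) := by group
        rw [e2, hconj_s, h, ← mul_assoc, hss, one_mul]
    show φ ^ 2 * n = n * φ ^ 2
    calc φ ^ 2 * n = (φ ^ 2 * n * (φ ^ 2)⁻¹) * φ ^ 2 := by group
      _ = n * φ ^ 2 := by rw [h2]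
  intro n hn
  obtain ⟨m, hm⟩ := hfo
  have hφ : φ = (φ ^ 2) ^ (m + 1) := by
    rw [← pow_mul]
    have : 2 * (m + 1) = f + 1 := by omega
    rw [this, pow_succ, hord, one_mul]
  have := (hsq n hn).pow_left (m + 1)
  rw [← hφ] at this
  exact this

end AG3

/-- AG3: the case `N ≅ C₂ × C₂`, `f` odd, `φ` centralising a non-trivial element of `N` -/
theorem prod_of_klein {O : Type*} [Group O] (N : Subgroup O) [N.Normal]
    (e : ↥N ≃* Multiplicative (ZMod 2 × ZMod 2)) (φ : O) (f : ℕ)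
    (hfo : Odd f) (hord : φ ^ f = 1) (hint : ∀ k : ℕ, φ ^ k ∈ N → f ∣ k)
    (hgen : ∀ x : O, ∃ k : ℕ, x * φ ^ k ∈ N)
    (s : O) (hs : s ∈ N) (hs1 : s ≠ 1) (hsφ : φ * s = s * φ) :
    Nonempty (O ≃* Multiplicative (ZMod 2 × ZMod 2 × ZMod f)) := by
  have hf : 1 ≤ f := hfo.pos
  obtain ⟨E⟩ := prod_of_central N φ f hf hord hint hgen
    (AG3.central N e φ f hfo hord s hs hs1 hsφ)
  exact ⟨E.trans ((MulEquiv.prodCongr e (MulEquiv.refl _)).trans
    ((MulEquiv.prodMultiplicative (ZMod 2 × ZMod 2) (ZMod f)).symm.trans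
      (AddEquiv.prodAssoc (M := ZMod 2) (N := ZMod 2) (P := ZMod f)).toMultiplicative))⟩

end Cfsg.Agent.S2607P
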