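import Mathlib
import Cfsg.Agent.Helper26.S2607AG1

/-! S2607, piece AG4: `N ≅ D₈`, `φ` centralising a non-central involution `s` of `N`. -/

set_option autoImplicit false

namespace Cfsg.Agent.S2607P

namespace AG4

open DihedralGroup

theorem F1 : ∀ t g x : DihedralGroup 4, t * t = 1 → t * g ≠ g * t →
    ∃ i < 4, ∃ j < 2, x = (r 1) ^ i * t ^ j := by
  decide

theorem F2 : ∀ t g : DihedralGroup 4, t * t = 1 → t * g ≠ g * t →
    t * r 1 * t⁻¹ = (r 1)⁻¹ := by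
  decide

theorem F3 : ∀ y : DihedralGroup 4, y ^ 2 ≠ 1 → y = r 1 ∨ y = (r 1)⁻¹ := by
  decide

theorem F4 : (r 1 : DihedralGroup 4) ^ 2 ≠ 1 := by
  decide

/-- an element commuting with the two generators `ρ`, `s` of `N` centralises `N` -/
theorem central_of_gens {O : Type*} [Group O] (N : Subgroup O)
    (e : ↥N ≃* DihedralGroup 4) (ψ : O)
    (s : O) (hs : s ∈ N) (hs2 : s * s = 1) (g : O) (hg : g ∈ N) (hsg : s * g ≠ g * s)
    (ρ : O) (hρ : ρ ∈ N) (heρ : e ⟨ρ, hρ⟩ = r 1) (h1 : Commute ψ ρ) (h2 : Commute ψ s) :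
    ∀ n ∈ N, ψ * n = n * ψ := by
  intro n hn
  have ht2 : e ⟨s, hs⟩ * e ⟨s, hs⟩ = 1 := by
    rw [← map_mul, ← e.map_one]
    congr 1
    exact Subtype.ext hs2
  have htg : e ⟨s, hs⟩ * e ⟨g, hg⟩ ≠ e ⟨g, hg⟩ * e ⟨s, hs⟩ := by
    intro h
    rw [← map_mul, ← map_mul] at h
    exact hsg (congrArg Subtype.val (e.injective h))
  obtain ⟨i, _, j, _, hx⟩ := F1 (e ⟨s, hs⟩) (e ⟨g, hg⟩) (e ⟨n, hn⟩) ht2 htg
  rw [← heρ, ← map_pow, ← map_pow, ← map_mul] at hx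
  have hn' : n = ρ ^ i * s ^ j := congrArg Subtype.val (e.injective hx)
  rw [hn']
  exact ((h1.pow_right i).mul_right (h2.pow_right j))

end AG4

open DihedralGroup in
/-- AG4: the case `N ≅ D₈`, `φ` centralising a non-central involution `s` of `N` -/
theorem prod_of_dihedral {O : Type*} [Group O] (N : Subgroup O) [N.Normal]
    (e : ↥N ≃* DihedralGroup 4) (φ : O) (f : ℕ)
    (hf : 1 ≤ f) (hord : φ ^ f = 1) (hint : ∀ k : ℕ, φ ^ k ∈ N → f ∣ k)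
    (hgen : ∀ x : O, ∃ k : ℕ, x * φ ^ k ∈ N)
    (s : O) (hs : s ∈ N) (hs2 : s * s = 1) (hsφ : φ * s = s * φ)
    (g : O) (hg : g ∈ N) (hsg : s * g ≠ g * s) :
    Nonempty (O ≃* DihedralGroup 4 × Multiplicative (ZMod f)) := by
  -- it suffices to find a good generator of the complement centralising `N`
  suffices hmain : ∃ ψ : O, ψ ^ f = 1 ∧ (∀ k : ℕ, ψ ^ k ∈ N → f ∣ k) ∧
      (∀ x : O, ∃ k : ℕ, x * ψ ^ k ∈ N) ∧ ∀ n ∈ N, ψ * n = n * ψ by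
    obtain ⟨ψ, h1, h2, h3, h4⟩ := hmain
    obtain ⟨E⟩ := prod_of_central N ψ f hf h1 h2 h3 h4
    exact ⟨E.trans (MulEquiv.prodCongr e (MulEquiv.refl _))⟩
  obtain ⟨ρ', hρ'⟩ : ∃ ρ' : N, e ρ' = r 1 := ⟨e.symm (r 1), e.apply_symm_apply _⟩
  obtain ⟨ρ, hρ⟩ := ρ'
  have ht2 : e ⟨s, hs⟩ * e ⟨s, hs⟩ = 1 := by
    rw [← map_mul, ← e.map_one]
    congr 1
    exact Subtype.ext hs2
  have htg : e ⟨s, hs⟩ * e ⟨g, hg⟩ ≠ e ⟨g, hg⟩ * e ⟨s, hs⟩ := by
    intro h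
    rw [← map_mul, ← map_mul] at h
    exact hsg (congrArg Subtype.val (e.injective h))
  -- `s ρ s⁻¹ = ρ⁻¹`
  have hsρ : s * ρ * s⁻¹ = ρ⁻¹ := by
    have h := AG4.F2 (e ⟨s, hs⟩) (e ⟨g, hg⟩) ht2 htg
    rw [← hρ', ← map_inv, ← map_inv, ← map_mul, ← map_mul] at h
    exact congrArg Subtype.val (e.injective h)
  -- `ρ ^ 2 ≠ 1`
  have hρ2 : ρ ^ 2 ≠ 1 := by
    intro h
    apply AG4.F4
    rw [← hρ', ← map_pow, ← e.map_one]
    congr 1
    exact Subtype.ext h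
  -- `φ ρ φ⁻¹ ∈ {ρ, ρ⁻¹}`
  have hmem : φ * ρ * φ⁻¹ ∈ N := ‹N.Normal›.conj_mem ρ hρ φ
  have hy2 : (e ⟨φ * ρ * φ⁻¹, hmem⟩) ^ 2 ≠ 1 := by
    intro h
    rw [← map_pow, ← e.map_one] at h
    have h' : (φ * ρ * φ⁻¹) ^ 2 = 1 := congrArg Subtype.val (e.injective h)
    apply hρ2
    have e1 : (φ * ρ * φ⁻¹) ^ 2 = φ * ρ ^ 2 * φ⁻¹ := by rw [pow_two, pow_two]; group
    rw [e1] at h'
    calc ρ ^ 2 = φ⁻¹ * (φ * ρ ^ 2 * φ⁻¹) * φ := by group
      _ = 1 := by rw [h']; group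
  have hcase : φ * ρ * φ⁻¹ = ρ ∨ φ * ρ * φ⁻¹ = ρ⁻¹ := by
    rcases AG4.F3 _ hy2 with h | h
    · left
      rw [← hρ'] at h
      exact congrArg Subtype.val (e.injective h)
    · right
      rw [← hρ', ← map_inv] at h
      exact congrArg Subtype.val (e.injective h)
  have hφs : Commute φ s := hsφ
  rcases hcase with hA | hB
  · -- `φ` itself centralises `N`
    have hφρ : Commute φ ρ := by
      show φ * ρ = ρ * φ
      calc φ * ρ = (φ * ρ * φ⁻¹) * φ := by group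
        _ = ρ * φ := by rw [hA]
    exact ⟨φ, hord, hint, hgen,
      AG4.central_of_gens N e φ s hs hs2 g hg hsg ρ hρ hρ' hφρ hφs⟩
  · -- `s φ` centralises `N`
    have hφ2 : Commute (φ ^ 2) ρ := by
      show φ ^ 2 * ρ = ρ * φ ^ 2
      have e1 : φ ^ 2 * ρ * (φ ^ 2)⁻¹ = φ * (φ * ρ * φ⁻¹) * φ⁻¹ := by rw [pow_two]; group
      have e2 : φ * ρ⁻¹ * φ⁻¹ = (φ * ρ * φ⁻¹)⁻¹ := by group
      have e3 : φ ^ 2 * ρ * (φ ^ 2)⁻¹ = ρ := by rw [e1, hB, e2, hB, inv_inv]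
      calc φ ^ 2 * ρ = (φ ^ 2 * ρ * (φ ^ 2)⁻¹) * φ ^ 2 := by group
        _ = ρ * φ ^ 2 := by rw [e3]
    have hρne : ρ ≠ ρ⁻¹ := by
      intro h
      apply hρ2
      rw [pow_two]
      nth_rewrite 2 [h]
      exact mul_inv_cancel ρ
    have hfe : Even f := by
      by_contra hodd
      rw [Nat.not_even_iff_odd] at hodd
      obtain ⟨m, hm⟩ := hodd
      have hφ : φ = (φ ^ 2) ^ (m + 1) := by
        rw [← pow_mul]
        have : 2 * (m + 1) = f + 1 := by omega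
        rw [this, pow_succ, hord, one_mul]
      have hc : Commute φ ρ := by
        have := hφ2.pow_left (m + 1)
        rw [← hφ] at this
        exact this
      apply hρne
      rw [← hB]
      calc ρ = (ρ * φ) * φ⁻¹ := by group
        _ = (φ * ρ) * φ⁻¹ := by rw [hc.eq]
    obtain ⟨m, hm⟩ := hfe
    have hsf : s ^ f = 1 := by
      rw [hm, ← two_mul, pow_mul, pow_two, hs2, one_pow]
    have hsφ' : Commute s φ := hφs.symm
    have hpow : ∀ k : ℕ, (s * φ) ^ k = s ^ k * φ ^ k := fun k => hsφ'.mul_pow k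
    have hψs : Commute (s * φ) s := by
      show s * φ * s = s * (s * φ)
      rw [mul_assoc, hsφ]
    have hψρ : Commute (s * φ) ρ := by
      show s * φ * ρ = ρ * (s * φ)
      have e1 : s * φ * ρ * (s * φ)⁻¹ = s * (φ * ρ * φ⁻¹) * s⁻¹ := by group
      have e2 : s * ρ⁻¹ * s⁻¹ = (s * ρ * s⁻¹)⁻¹ := by group
      have e3 : s * φ * ρ * (s * φ)⁻¹ = ρ := by rw [e1, hB, e2, hsρ, inv_inv]
      calc s * φ * ρ = (s * φ * ρ * (s * φ)⁻¹) * (s * φ) := by group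
        _ = ρ * (s * φ) := by rw [e3]
    refine ⟨s * φ, ?_, ?_, ?_,
      AG4.central_of_gens N e (s * φ) s hs hs2 g hg hsg ρ hρ hρ' hψρ hψs⟩
    · rw [hpow, hsf, hord, one_mul]
    · intro k hk
      apply hint
      rw [hpow] at hk
      have : φ ^ k = (s ^ k)⁻¹ * (s ^ k * φ ^ k) := by group
      rw [this]
      exact N.mul_mem (N.inv_mem (N.pow_mem hs k)) hk
    · intro x
      obtain ⟨k, hk⟩ := hgen x
      refine ⟨k, ?_⟩
      rw [hpow, (hsφ'.pow_pow k k).eq, ← mul_assoc]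
      exact N.mul_mem hk (N.pow_mem hs k)

end Cfsg.Agent.S2607P
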