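import Cfsg.Agent.S2855P.Defs

/-!
S2855 piece EXUN: the unique maximal subgroup of `E` over the Sylow subgroup `T ∩ E`, seen in `H`.
-/

set_option autoImplicit false

namespace Cfsg.Agent.S2855P

open Cfsg

section Minimal

variable {H : Type*} [Group H] [Finite H] {p : ℕ} [Fact p.Prime]

/-- piece EXUN: the unique maximal subgroup of `E` over the Sylow subgroup `T ∩ E`, seen in `H`. -/
theorem exists_unique_isMaxOver (T E : Subgroup H) (S : Sylow p ↥E)
    (hS : (S : Subgroup ↥E) = T.subgroupOf E) (hmin : IsMinimalOver (S : Subgroup ↥E)) :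
    ∃ M, IsMaxOver T E M ∧ ∀ M', IsMaxOver T E M' → M' = M := by
  obtain ⟨_, M0, ⟨hM0c, hM0S⟩, hM0u⟩ := hmin
  refine ⟨M0.map E.subtype, ⟨Helper14.map_subtype_le _, ?_, ?_⟩, ?_⟩
  · rw [Helper14.subgroupOf_map_subtype']
    exact hM0c
  · intro x hx
    have hxS : (⟨x, hx.2⟩ : ↥E) ∈ T.subgroupOf E := by
      rw [Subgroup.mem_subgroupOf]
      exact hx.1
    rw [← hS] at hxS
    exact ⟨⟨x, hx.2⟩, hM0S hxS, rfl⟩
  · rintro M' ⟨hM'E, hM'c, hM'T⟩
    have hle : (S : Subgroup ↥E) ≤ M'.subgroupOf E := by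
      rw [hS]
      intro x hx
      rw [Subgroup.mem_subgroupOf] at hx ⊢
      exact hM'T ⟨hx, x.2⟩
    have h := hM0u (M'.subgroupOf E) ⟨hM'c, hle⟩
    rw [← h, Helper14.map_subtype_subgroupOf hM'E]

end Minimal

end Cfsg.Agent.S2855P
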