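import Cfsg.Agent.S2855P.Defs

/-!
S2855 piece INTLE: `L ∩ E` lies in the unique maximal subgroup of `E` over `T ∩ E` when `E ≰ L`.
-/

set_option autoImplicit false

namespace Cfsg.Agent.S2855P

open Cfsg

section Minimal

variable {H : Type*} [Group H] [Finite H] {p : ℕ} [Fact p.Prime]

/-- piece INTLE -/
theorem inf_le_of_unique_isMaxOver (T L E M : Subgroup H) (hTL : T ≤ L) (hEL : ¬ E ≤ L)
    (huniq : ∀ M', IsMaxOver T E M' → M' = M) : L ⊓ E ≤ M := by
  have hne : (L ⊓ E).subgroupOf E ≠ ⊤ := by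
    intro h
    rw [Subgroup.subgroupOf_eq_top] at h
    exact hEL (h.trans inf_le_left)
  obtain ⟨M0, hM0c, hle⟩ := Helper14.exists_coatom_ge_of_ne_top hne
  have hmax : IsMaxOver T E (M0.map E.subtype) := by
    refine ⟨Helper14.map_subtype_le _, ?_, ?_⟩
    · rw [Helper14.subgroupOf_map_subtype']
      exact hM0c
    · intro x hx
      refine ⟨⟨x, hx.2⟩, hle ?_, rfl⟩
      rw [Subgroup.mem_subgroupOf]
      exact ⟨hTL hx.1, hx.2⟩
  have h := huniq _ hmax
  rw [← h]
  intro x hx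
  refine ⟨⟨x, hx.2⟩, hle ?_, rfl⟩
  rw [Subgroup.mem_subgroupOf]
  exact hx

end Minimal

end Cfsg.Agent.S2855P
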