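import Mathlib
import Cfsg.Agent.Helper26.S3050Defs
import Cfsg.Agent.Helper26.S3050NS

/-! # S3050, piece B: equivariant symmetric biadditive maps between natural-type modules vanish -/

set_option autoImplicit false

namespace Cfsg.Agent.S3050P

open Cfsg.Agent.Helper18.NatMod

variable {F : Type*} [Field F] [CharP F 2]

local notation "SF" => Matrix.SpecialLinearGroup (Fin 2) F
local notation "MF" => Matrix (Fin 2) (Fin 2) F

theorem bil_zero (hbig : ∃ t : F, t ≠ 0 ∧ t ≠ 1)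
    {M₁ M₂ : Type*} [AddCommGroup M₁] [DistribMulAction SF M₁]
    [AddCommGroup M₂] [DistribMulAction SF M₂]
    (n₁ : NatStr F M₁) (n₂ : NatStr F M₂) (h2₁ : Exp2 M₁) (h2₂ : Exp2 M₂)
    (B : M₁ →+ M₁ →+ M₂) (heq : ∀ (g : SF) (x y : M₁), B (g • x) (g • y) = g • B x y)
    (hsym : ∀ x y : M₁, B x y = B y x) : ∀ x y : M₁, B x y = 0 := by
  obtain ⟨t, ht0, ht1⟩ := hbig
  have hwsq : ∀ m : M₁, (ww : SF) • (ww : SF) • m = m := by
    intro m
    rw [← mul_smul, ww_sq, one_smul]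
  -- Step 1: `B(W₁, W₁) ⊆ W₂`
  have hW : ∀ a ∈ fixu F M₁, ∀ b ∈ fixu F M₁, B a b ∈ fixu F M₂ := by
    intro a ha b hb
    rw [mem_fixu, ← heq, mem_fixu.mp ha, mem_fixu.mp hb]
  -- Step 2
  have key : ∀ a ∈ fixu F M₁, ∀ b ∈ fixu F M₁, ∀ s : F,
      B a (ka F s b) = ka F s (pr2 F (B a ((ww : SF) • b))) := by
    intro a ha b hb s
    have h := heq (uu s) a ((ww : SF) • b)
    rw [n₁.uu_fix s ha, n₁.uu_ww s hb, map_add] at h
    obtain ⟨hc1, hc2, hdec⟩ := n₂.dec (B a ((ww : SF) • b))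
    generalize B a ((ww : SF) • b) = X at h hc1 hc2 hdec ⊢
    have h3 : (uu s : SF) • X = pr1 F X + ka F s (pr2 F X) + (ww : SF) • pr2 F X := by
      conv_lhs => rw [hdec]
      rw [smul_add, n₂.uu_fix s hc1, n₂.uu_ww s hc2]
      abel
    rw [h3] at h
    have h4 : pr1 F X + ka F s (pr2 F X) + (ww : SF) • pr2 F X
        = ka F s (pr2 F X) + (pr1 F X + (ww : SF) • pr2 F X) := by abel
    rw [h4, ← hdec] at h
    exact add_right_cancel h
  have key1 : ∀ a ∈ fixu F M₁, ∀ b ∈ fixu F M₁, pr2 F (B a ((ww : SF) • b)) = B a b := by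
    intro a ha b hb
    have h := key a ha b hb 1
    rw [n₁.ka_one, n₂.ka_one] at h
    exact h.symm
  have lin2 : ∀ a ∈ fixu F M₁, ∀ b ∈ fixu F M₁, ∀ s : F, B a (ka F s b) = ka F s (B a b) := by
    intro a ha b hb s
    rw [key a ha b hb s, key1 a ha b hb]
  have lin1 : ∀ a ∈ fixu F M₁, ∀ b ∈ fixu F M₁, ∀ s : F, B (ka F s a) b = ka F s (B a b) := by
    intro a ha b hb s
    rw [hsym, lin2 b hb a ha s, hsym]
  -- Step 3: `B = 0` on `W₁ × W₁`
  have hWW : ∀ a ∈ fixu F M₁, ∀ b ∈ fixu F M₁, B a b = 0 := by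
    intro a ha b hb
    have h := heq (hh (Units.mk0 t ht0)) a b
    rw [n₁.hh_fix _ ha, n₁.hh_fix _ hb, n₂.hh_fix _ (hW a ha b hb), Units.val_mk0] at h
    rw [lin1 a ha _ (n₁.ka_mem t hb) t, lin2 a ha b hb t] at h
    -- `κ_t (κ_t X) = κ_t X`
    generalize B a b = X at h ⊢
    have h5 : ka F t (ka F t X + X) = 0 := by
      rw [n₂.ka_map_add, h]
      exact h2₂ _
    have h6 : ka F t X + X = 0 := n₂.ka_inj ht0 h5
    have h7 : ka F (t + 1) X = 0 := by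
      rw [n₂.ka_add, n₂.ka_one]
      exact h6
    refine n₂.ka_inj ?_ h7
    intro h8
    apply ht1
    have : t = -1 := eq_neg_of_add_eq_zero_left h8
    rw [this, CharTwo.neg_eq]
  -- Step 4: `B(a, w b) ∈ W₂`
  have hmix_mem : ∀ a ∈ fixu F M₁, ∀ b ∈ fixu F M₁, B a ((ww : SF) • b) ∈ fixu F M₂ := by
    intro a ha b hb
    obtain ⟨hc1, hc2, hdec⟩ := n₂.dec (B a ((ww : SF) • b))
    rw [key1 a ha b hb, hWW a ha b hb, smul_zero, add_zero] at hdec
    rw [hdec]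
    exact hc1
  have hmix : ∀ a ∈ fixu F M₁, ∀ b ∈ fixu F M₁, B a ((ww : SF) • b) = 0 := by
    intro a ha b hb
    have h := heq ww a ((ww : SF) • b)
    rw [hwsq, hsym] at h
    -- h : B b (ww • a) = ww • B a (ww • b)
    have h9 : B b ((ww : SF) • a) + (ww : SF) • B a ((ww : SF) • b) = 0 := by
      rw [← h]
      exact h2₂ _
    exact (n₂.uniq _ (hmix_mem b hb a ha) _ (hmix_mem a ha b hb) h9).2
  have hmix' : ∀ a ∈ fixu F M₁, ∀ b ∈ fixu F M₁, B ((ww : SF) • a) b = 0 := by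
    intro a ha b hb
    rw [hsym]
    exact hmix b hb a ha
  have hww : ∀ a ∈ fixu F M₁, ∀ b ∈ fixu F M₁, B ((ww : SF) • a) ((ww : SF) • b) = 0 := by
    intro a ha b hb
    rw [heq, hWW a ha b hb, smul_zero]
  intro x y
  obtain ⟨hx1, hx2, hx⟩ := n₁.dec x
  obtain ⟨hy1, hy2, hy⟩ := n₁.dec y
  rw [hx, hy]
  simp only [map_add, AddMonoidHom.add_apply]
  rw [hWW _ hx1 _ hy1, hmix _ hx1 _ hy2, hmix' _ hx2 _ hy1, hww _ hx2 _ hy2]
  simp

end Cfsg.Agent.S3050P
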