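import Mathlib
import Cfsg.Agent.Helper26.S3050Defs
import Cfsg.Agent.Helper1.S3050D2
import Cfsg.Agent.Helper1.S3050D3

/-! # S3050, piece D4: `Fpf` for the conjugation module of an abelian normal subgroup `N ≤ Q` -/

set_option autoImplicit false

namespace Cfsg.Agent.S3050P

open Cfsg.Agent.Helper18.NatMod
open scoped IsMulCommutative

variable {F : Type*} [Field F] [CharP F 2]

local notation "SF" => Matrix.SpecialLinearGroup (Fin 2) F
local notation "MF" => Matrix (Fin 2) (Fin 2) F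

variable {G : Type*} [Group G] (Q : Subgroup G) [Q.Normal]
  (e : G ⧸ Q ≃* Matrix.SpecialLinearGroup (Fin 2) F)

/-- D4 -/
theorem fpf_modOf [Finite G] [Finite F] (N : Subgroup G) [N.Normal] [IsMulCommutative ↥N]
    (hNQ : Q ≤ Subgroup.centralizer (N : Set G)) (hN : N ≤ Q)
    (x : G) (hx : orderOf x = 3) (hfpf : ∀ q ∈ Q, x * q * x⁻¹ = q → q = 1) :
    @Fpf F _ (Additive ↥N) _ (modOf Q e N hNQ) := by
  letI := modOf Q e N hNQ
  intro g hg m
  -- the image of `x`
  have hx3 : x ^ 3 = 1 := by rw [← hx]; exact pow_orderOf_eq_one x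
  have hx1 : x ≠ 1 := by
    intro h
    rw [h, orderOf_one] at hx
    norm_num at hx
  have hxb1 : e (x : G ⧸ Q) ≠ 1 := by
    intro h
    have h1 : (x : G ⧸ Q) = 1 := by
      have := congrArg e.symm h
      rwa [MulEquiv.symm_apply_apply, map_one] at this
    have hxQ : x ∈ Q := (QuotientGroup.eq_one_iff x).mp h1
    exact hx1 (hfpf x hxQ (by group))
  have hxb3 : (e (x : G ⧸ Q)) ^ 3 = 1 := by
    rw [← map_pow, ← QuotientGroup.mk_pow, hx3, QuotientGroup.mk_one, map_one]
  have htr : tr (e (x : G ⧸ Q)) = 1 := tr_of_order3 _ hxb1 hxb3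
  obtain ⟨k, hk⟩ := conj_of_tr (e (x : G ⧸ Q)) g htr hg
  obtain ⟨k', hk'⟩ := QuotientGroup.mk_surjective (e.symm k)
  have hke : e (k' : G ⧸ Q) = k := by rw [hk', MulEquiv.apply_symm_apply]
  -- the conjugate `y` of `x`
  set y : G := k' * x * k'⁻¹ with hy
  have hyg : e (y : G ⧸ Q) = g := by
    rw [hk, hy, QuotientGroup.mk_mul, QuotientGroup.mk_mul, QuotientGroup.mk_inv, map_mul, map_mul,
      map_inv, hke]
  have hy3 : y * y * y = 1 := by
    have : y * y * y = k' * (x ^ 3) * k'⁻¹ := by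
      rw [hy, pow_three]; group
    rw [this, hx3]; group
  have hyf : ∀ q ∈ Q, y * q * y⁻¹ = q → q = 1 := by
    intro q hq h
    have h1 : k'⁻¹ * q * k' ∈ Q := by
      have := Subgroup.Normal.conj_mem (inferInstance : Q.Normal) q hq k'⁻¹
      simpa using this
    have h2 : x * (k'⁻¹ * q * k') * x⁻¹ = k'⁻¹ * q * k' := by
      have : x * (k'⁻¹ * q * k') * x⁻¹ = k'⁻¹ * (y * q * y⁻¹) * k' := by
        rw [hy]; group
      rw [this, h]
    have h3 := hfpf _ h1 h2
    have : q = k' * (k'⁻¹ * q * k') * k'⁻¹ := by group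
    rw [this, h3]; group
  -- the computation
  have hsm : ∀ a : Additive ↥N, ((Additive.toMul (g • a) : ↥N) : G)
      = y * ((Additive.toMul a : ↥N) : G) * y⁻¹ := by
    intro a
    rw [← hyg]
    exact modOf_smul_coe Q e N hNQ y a
  apply Additive.toMul.injective
  apply Subtype.ext
  show ((Additive.toMul m : ↥N) : G) * ((Additive.toMul (g • m) : ↥N) : G)
    * ((Additive.toMul (g • g • m) : ↥N) : G) = 1
  rw [hsm (g • m), hsm m]
  set n : G := ((Additive.toMul m : ↥N) : G) with hn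
  have hnN : n ∈ N := (Additive.toMul m).2
  have hn1 : y * n * y⁻¹ ∈ N := Subgroup.Normal.conj_mem (inferInstance : N.Normal) n hnN y
  have hn2 : y * (y * n * y⁻¹) * y⁻¹ ∈ N :=
    Subgroup.Normal.conj_mem (inferInstance : N.Normal) _ hn1 y
  have hcomm : ∀ a ∈ N, ∀ b ∈ N, a * b = b * a := by
    intro a ha b hb
    have := mul_comm (⟨a, ha⟩ : ↥N) ⟨b, hb⟩
    exact congrArg Subtype.val this
  apply hyf
  · exact hN (N.mul_mem (N.mul_mem hnN hn1) hn2)
  · have hyinv : y⁻¹ = y * y := by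
      rw [inv_eq_iff_mul_eq_one, ← mul_assoc]; exact hy3
    have e1 : y * (n * (y * n * y⁻¹) * (y * (y * n * y⁻¹) * y⁻¹)) * y⁻¹
        = (y * n * y⁻¹) * (y * (y * n * y⁻¹) * y⁻¹) * (y * y * y * n * (y * y * y)⁻¹) := by
      group
    rw [e1, hy3, inv_one, mul_one, one_mul]
    rw [hcomm _ (N.mul_mem hn1 hn2) n hnN]
    simp only [mul_assoc]

end Cfsg.Agent.S3050P
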