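import Mathlib
import Cfsg.Agent.Helper26.S3050Defs
import Cfsg.Agent.Helper26.S3050B
import Cfsg.Agent.Helper26.S3050D4
import Cfsg.Agent.Helper18.S3050D5
import Cfsg.Agent.Helper6.S3050D6
import Cfsg.Agent.Helper9.S3050D7a
import Cfsg.Agent.Helper29.S3050A11
import Cfsg.Agent.Helper15.S3050C3cCore

/-! # S3050, piece D7b: `Q` has exponent 2 (induction on `|Q|`) -/

set_option autoImplicit false

namespace Cfsg.Agent.S3050P

open scoped IsMulCommutative

universe u

set_option maxHeartbeats 800000 in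
theorem exp_two {F : Type*} [Field F] [Fintype F] [CharP F 2] (hbig : ∃ a : F, a ≠ 0 ∧ a ≠ 1) :
    ∀ (n : ℕ) {G : Type u} [Group G] [Finite G] (Q : Subgroup G) [Q.Normal], IsPGroup 2 ↥Q →
      Nat.card ↥Q = n → ∀ (e : G ⧸ Q ≃* Matrix.SpecialLinearGroup (Fin 2) F) (x : G),
        orderOf x = 3 → (∀ q ∈ Q, x * q * x⁻¹ = q → q = 1) → ∀ q ∈ Q, q * q = 1 := by
  intro n
  induction n using Nat.strong_induction_on with
  | _ n ih =>
  intro G _ _ Q _ hQ hcard e x hx hfpf
  by_cases hbot : Q = ⊥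
  · intro q hq
    rw [hbot, Subgroup.mem_bot] at hq
    rw [hq, one_mul]
  obtain ⟨hMQ, hMn, hMab, hMc, hM2, hMne⟩ := omz_props Q hQ
  have hMne' := hMne hbot
  haveI := hMn
  haveI : IsMulCommutative ↥(omz Q) := ⟨⟨fun a b => Subtype.ext (hMab a a.2 b b.2)⟩⟩
  -- the quotient
  let π : G →* G ⧸ omz Q := QuotientGroup.mk' (omz Q)
  have hπs : Function.Surjective π := QuotientGroup.mk'_surjective (omz Q)
  have hπk : π.ker = omz Q := QuotientGroup.ker_mk' (omz Q)
  haveI hQ'n : (Q.map π).Normal := Subgroup.Normal.map inferInstance π hπs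
  let e' : (G ⧸ omz Q) ⧸ (Q.map π) ≃* Matrix.SpecialLinearGroup (Fin 2) F :=
    (QuotientGroup.quotientQuotientEquivQuotient (omz Q) Q hMQ).trans e
  have he' : ∀ g : G, e' ((π g : G ⧸ omz Q) : (G ⧸ omz Q) ⧸ (Q.map π)) = e (g : G ⧸ Q) := by
    intro g
    rfl
  obtain ⟨hx', hfpf'⟩ := quot_hyp Q (omz Q) hMQ hMab x hx hfpf
  have hQ' : IsPGroup 2 ↥(Q.map π) := hQ.map π
  have hcard' : Nat.card ↥(Q.map π) < n := by
    rw [← hcard]
    classical
    haveI : Fintype ↥Q := Fintype.ofFinite _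
    haveI : Fintype ↥(Q.map π) := Fintype.ofFinite _
    rw [Nat.card_eq_fintype_card, Nat.card_eq_fintype_card]
    apply Fintype.card_lt_of_surjective_not_injective (π.subgroupMap Q) (π.subgroupMap_surjective Q)
    intro hinj
    apply hMne'
    rw [eq_bot_iff]
    intro z hz
    have hzQ : z ∈ Q := hMQ hz
    have h1 : π.subgroupMap Q ⟨z, hzQ⟩ = π.subgroupMap Q 1 := by
      apply Subtype.ext
      show π z = π 1
      rw [map_one, ← MonoidHom.mem_ker, hπk]
      exact hz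
    have h2 := hinj h1
    rw [Subgroup.mem_bot]
    exact congrArg Subtype.val h2
  have hexp' : ∀ q' ∈ Q.map π, q' * q' = 1 :=
    ih _ hcard' (Q.map π) hQ' rfl e' (π x) hx' hfpf'
  have hcomm' : ∀ a ∈ Q.map π, ∀ b ∈ Q.map π, a * b = b * a := by
    intro a ha b hb
    have h1 := hexp' (a * b) ((Q.map π).mul_mem ha hb)
    have ha' : a⁻¹ = a := inv_eq_of_mul_eq_one_left (hexp' a ha)
    have hb' : b⁻¹ = b := inv_eq_of_mul_eq_one_left (hexp' b hb)
    have : (a * b)⁻¹ = a * b := inv_eq_of_mul_eq_one_left h1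
    rw [mul_inv_rev, ha', hb'] at this
    exact this.symm
  haveI : IsMulCommutative ↥(Q.map π) := ⟨⟨fun a b => Subtype.ext (hcomm' a a.2 b b.2)⟩⟩
  have hc' : Q.map π ≤ Subgroup.centralizer ((Q.map π : Subgroup (G ⧸ omz Q)) : Set (G ⧸ omz Q)) := by
    intro a ha
    rw [Subgroup.mem_centralizer_iff]
    intro b hb
    exact hcomm' b hb a ha
  have hsq : ∀ q ∈ Q, q * q ∈ omz Q := by
    intro q hq
    have := hexp' (π q) (Subgroup.mem_map_of_mem π hq)
    rw [← map_mul, ← MonoidHom.mem_ker, hπk] at this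
    exact this
  -- the two modules
  letI i₁ := modOf (Q.map π) e' (Q.map π) hc'
  letI i₂ := modOf Q e (omz Q) hMc
  have f₁ : Fpf F (Additive ↥(Q.map π)) :=
    fpf_modOf (Q.map π) e' (Q.map π) hc' le_rfl (π x) hx' hfpf'
  have f₂ : Fpf F (Additive ↥(omz Q)) := fpf_modOf Q e (omz Q) hMc hMQ x hx hfpf
  have x₁ : Exp2 (Additive ↥(Q.map π)) := by
    intro m
    apply Additive.toMul.injective
    apply Subtype.ext
    exact hexp' _ (Additive.toMul m).2
  have x₂ : Exp2 (Additive ↥(omz Q)) := by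
    intro m
    apply Additive.toMul.injective
    apply Subtype.ext
    exact hM2 _ (Additive.toMul m).2
  have n₁ : NatStr F (Additive ↥(Q.map π)) := natStr_of_fpf x₁ f₁
  have n₂ : NatStr F (Additive ↥(omz Q)) := natStr_of_fpf x₂ f₂
  obtain ⟨B, hB, hBeq, hBsym⟩ :=
    comm_map Q e (omz Q) hMQ hMc hM2 π hπs hπk (Q.map π) rfl hc' e' he'
  have hB0 := bil_zero hbig n₁ n₂ x₁ x₂ B hBeq hBsym
  -- `Q` is abelian
  have hcomm : ∀ a ∈ Q, ∀ b ∈ Q, a * b = b * a := by
    intro a ha b hb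
    have h1 := hB a b (Subgroup.mem_map_of_mem π ha) (Subgroup.mem_map_of_mem π hb)
    rw [hB0] at h1
    have h2 : a * b * a⁻¹ * b⁻¹ = 1 := by
      rw [← h1]; rfl
    have h3 : a * b * a⁻¹ * b⁻¹ * b * a = a * b := by group
    rw [h2] at h3
    simpa using h3.symm
  haveI : IsMulCommutative ↥Q := ⟨⟨fun a b => Subtype.ext (hcomm a a.2 b b.2)⟩⟩
  have hc : Q ≤ Subgroup.centralizer (Q : Set G) := by
    intro a ha
    rw [Subgroup.mem_centralizer_iff]
    intro b hb
    exact hcomm b hb a ha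
  letI i₃ := modOf Q e Q hc
  have f : Fpf F (Additive ↥Q) := fpf_modOf Q e Q hc le_rfl x hx hfpf
  have h4 : ∀ l : Additive ↥Q, (l + l) + (l + l) = 0 := by
    intro l
    apply Additive.toMul.injective
    apply Subtype.ext
    have := hM2 _ (hsq _ (Additive.toMul l).2)
    exact this
  have nsT : NatStr F ↥(twoTors (Additive ↥Q)) := by
    apply natStr_of_fpf
    · intro m
      exact Subtype.ext m.2
    · intro g hg m
      apply Subtype.ext
      have := f g hg (m : Additive ↥Q)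
      simpa using this
  have hfin := C3c_aux_main nsT hbig h4 f
  intro q hq
  have := hfin (Additive.ofMul (⟨q, hq⟩ : ↥Q))
  have h5 := congrArg (fun l : Additive ↥Q => ((Additive.toMul l : ↥Q) : G)) this
  exact h5

end Cfsg.Agent.S3050P
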