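import Mathlib
import Cfsg.Prelude.Def_Classical
import Cfsg.Agent.Helper6.S3439.Defs

/-! S3439 piece FIN (driver helper6): `N7 K` is finite when `K` is. -/

set_option autoImplicit false
set_option linter.unusedSectionVars false

namespace Cfsg.Agent.S3439P

open N7

variable {K : Type*} [Field K] [CharP K 3]

theorem finite_N7 [Finite K] : Finite (N7 K) := by
  apply Finite.of_injective
    (fun g : N7 K => (g.a, g.b, g.p1, g.p2, g.c1, g.c2, g.z))
  intro g h e
  simp only [Prod.mk.injEq] at e
  obtain ⟨e1, e2, e3, e4, e5, e6, e7⟩ := e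
  exact N7.ext e1 e2 e3 e4 e5 e6 e7

end Cfsg.Agent.S3439P
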