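import Mathlib
import Cfsg.Prelude.Def_Classical
import Cfsg.Agent.Helper6.S3439.Defs

/-! S3439 piece FIX5 (driver helper6): the elements of order 5 of `Q` are fixed-point-free on `N7 K`. -/

set_option autoImplicit false
set_option linter.unusedSectionVars false

namespace Cfsg.Agent.S3439P

open N7

variable {K : Type*} [Field K] [CharP K 3]

namespace FIX5

/-- `c x = x` with `c ≠ 1` forces `x = 0` -/
theorem eq_zero_of_mul_eq {c x : K} (hc : c ≠ 1) (h : c * x = x) : x = 0 := by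
  have h1 : (c - 1) * x = 0 := by rw [sub_mul, one_mul, h, sub_self]
  rcases mul_eq_zero.1 h1 with h2 | h2
  · exact absurd (sub_eq_zero.1 h2) hc
  · exact h2

end FIX5

theorem fix_five (ξ : K) (hξ : ξ ^ 5 = 1) (hξ1 : ξ ≠ 1) (g : N7 K) (h : Tm ξ 0 g = g) : g = 1 := by
  have hfr : ∀ x : K, fr K 0 x = x := by
    intro x
    rw [fr_apply, pow_zero, pow_one]
  have h28 : ξ ^ 28 ≠ 1 := by
    intro h1
    apply hξ1
    have e : ξ ^ 28 = ξ ^ 3 := by
      calc ξ ^ 28 = (ξ ^ 5) ^ 5 * ξ ^ 3 := by ring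
        _ = ξ ^ 3 := by rw [hξ, one_pow, one_mul]
    rw [e] at h1
    calc ξ = ξ * ξ ^ 5 := by rw [hξ, mul_one]
      _ = (ξ ^ 3) ^ 2 := by ring
      _ = 1 := by rw [h1, one_pow]
  have h4 : ξ ^ 4 ≠ 1 := by
    intro h1
    apply hξ1
    calc ξ = ξ ^ 4 * ξ := by rw [h1, one_mul]
      _ = ξ ^ 5 := by ring
      _ = 1 := hξ
  have h31 : ξ ^ 31 ≠ 1 := by
    intro h1
    apply hξ1
    calc ξ = (ξ ^ 5) ^ 6 * ξ := by rw [hξ, one_pow, one_mul]
      _ = ξ ^ 31 := by ring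
      _ = 1 := h1
  have ha := congrArg N7.a h
  have hb := congrArg N7.b h
  have hp1 := congrArg N7.p1 h
  have hp2 := congrArg N7.p2 h
  have hc1 := congrArg N7.c1 h
  have hc2 := congrArg N7.c2 h
  have hz := congrArg N7.z h
  simp only [Tm_a, Tm_b, Tm_p1, Tm_p2, Tm_c1, Tm_c2, Tm_z, hfr] at ha hb hp1 hp2 hc1 hc2 hz
  ext
  · exact FIX5.eq_zero_of_mul_eq hξ1 ha
  · exact FIX5.eq_zero_of_mul_eq hξ1 hb
  · exact FIX5.eq_zero_of_mul_eq h28 hp1
  · exact FIX5.eq_zero_of_mul_eq h4 hp2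
  · exact FIX5.eq_zero_of_mul_eq h4 hc1
  · exact FIX5.eq_zero_of_mul_eq h28 hc2
  · exact FIX5.eq_zero_of_mul_eq h31 hz

end Cfsg.Agent.S3439P
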