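import Cfsg.Agent.Helper26.S3818Defs
import Cfsg.Agent.Helper6.S3822B0
import Cfsg.Agent.Helper6.S3822AUX
import Cfsg.Agent.Helper4.S3822MC1
import Cfsg.Agent.Helper17.S3822REDUCE
import Cfsg.Agent.Helper10.S3822MODULEcore
import Cfsg.Agent.Helper26.S3818Asm

set_option autoImplicit false

namespace Cfsg.Agent.S3822P

open Module Cfsg.Agent.S3818P

universe u v w



/-- MC: the commuting claim. -/
theorem MC_commute {G : Type*} [Group G] [Finite G] {p : ℕ} [Fact p.Prime] (hp : 3 < p)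
    (P A : Subgroup G) (hP : Nat.card P = p)
    (hA : Group.IsSolvable ↥A ∧ ∃ a ∈ A, A = P ⊔ P.map (MulAut.conj a).toMonoidHom)
    (hmax : ∀ B : Subgroup G, A ≤ B → Group.IsSolvable ↥B →
      (∃ b ∈ B, B = P ⊔ P.map (MulAut.conj b).toMonoidHom) → B = A)
    (W R : Subgroup G) (q r : ℕ) (hq : q.Prime) (hr : r.Prime) (hqr : q ≠ r)
    (hW : IsPGroup q W) (hR : IsPGroup r R) (hRA : R ≤ A)
    (hRn : ∀ a ∈ A, ∀ y ∈ R, a * y * a⁻¹ ∈ R) (hWn : ∀ a ∈ A, ∀ w ∈ W, a * w * a⁻¹ ∈ W) :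
    ∀ y ∈ R, ∀ w ∈ W, y * w = w * y := by
  by_contra hcon
  push Not at hcon
  obtain ⟨y, hy, w, hw, hyw⟩ := hcon
  obtain ⟨W₀, Φ, hΦW, hW₀W, hne, hW₀n, hΦn, hcomm, hpow, hfrat, hirr, hfix⟩ :=
    MC1_minimal A W R q r hq hr hqr hW hR hRA hRn hWn ⟨y, hy, w, hw, hyw⟩
  have hW₀ : IsPGroup q W₀ := hW.to_le hW₀W
  have h1 := REDUCE_count P A hP hA hmax R W₀ Φ q r hq hr hqr hW₀ hR hRA hRn hΦW hne hW₀n hΦn
    hcomm hpow hfrat hirr hfix
  haveI : Fact q.Prime := ⟨hq⟩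
  haveI : Group.IsSolvable ↥A := hA.1
  have h2 := MODULE_core P A hP hA.2 R W₀ Φ q hRA hΦW hne hW₀n hΦn hcomm hpow hirr hfix
    (fun x hx hgen W _ _ _ τ hτ hx1 => by
      haveI := hτ
      exact flavellA (Fact.out : p.Prime) hp x hx hgen τ hx1)
  exact absurd h1 (not_le.mpr h2)

end Cfsg.Agent.S3822P
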