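import Mathlib
import Cfsg.Prelude

set_option autoImplicit false

/-! S3875, piece REDA: in a non-`p`-closed group all of whose proper subgroups and proper
quotients are `p`-closed, every proper nontrivial normal subgroup `N` is a `p'`-group with
`P N = H`. -/

namespace Cfsg.Agent.S3875P

namespace REDA

/-- if the quotient by `M` is `p`-closed then `P M` is normal -/
theorem sup_normal {H : Type*} [Group H] [Finite H] {p : ℕ} [Fact p.Prime]
    (hquo : ∀ (N : Subgroup H) [N.Normal], N ≠ ⊥ → Cfsg.IsPClosed p (H ⧸ N))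
    (P : Sylow p H) (M : Subgroup H) [M.Normal] (hM : M ≠ ⊥) :
    ((P : Subgroup H) ⊔ M).Normal := by
  have hsurj : Function.Surjective (QuotientGroup.mk' M) := QuotientGroup.mk'_surjective M
  have hn : ((Sylow.mapSurjective hsurj P : Sylow p (H ⧸ M)) : Subgroup (H ⧸ M)).Normal :=
    hquo M hM _
  have := Subgroup.Normal.comap hn (QuotientGroup.mk' M)
  rw [Sylow.coe_mapSurjective, Subgroup.comap_map_eq, QuotientGroup.ker_mk'] at this
  exact this

/-- a Sylow subgroup inside a proper normal (`p`-closed) subgroup is normal -/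
theorem normal_of_le_normal {H : Type*} [Group H] [Finite H] {p : ℕ} [Fact p.Prime]
    (hsub : ∀ K : Subgroup H, K ≠ ⊤ → Cfsg.IsPClosed p ↥K)
    (P : Sylow p H) (K : Subgroup H) [K.Normal] (hPK : (P : Subgroup H) ≤ K) (hK : K ≠ ⊤) :
    (P : Subgroup H).Normal := by
  have h1 : ((P.subtype hPK : Sylow p K) : Subgroup K).Normal := hsub K hK _
  have := Sylow.characteristic_of_normal _ h1
  have h2 := ConjAct.normal_of_characteristic_of_normal (H := K)
    (K := ((P.subtype hPK : Sylow p K) : Subgroup K))
  rw [Sylow.coe_subtype, Subgroup.map_subgroupOf_eq_of_le hPK] at h2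
  exact h2

end REDA

/-- REDA: in a non-`p`-closed group all of whose proper subgroups and proper quotients are
`p`-closed, every proper nontrivial normal subgroup `N` is a `p'`-group with `P N = H`. -/
theorem normal_facts {H : Type*} [Group H] [Finite H] {p : ℕ} [Fact p.Prime]
    (hsub : ∀ K : Subgroup H, K ≠ ⊤ → Cfsg.IsPClosed p ↥K)
    (hquo : ∀ (N : Subgroup H) [N.Normal], N ≠ ⊥ → Cfsg.IsPClosed p (H ⧸ N))
    (P : Sylow p H) (hP : ¬ (P : Subgroup H).Normal)
    (N : Subgroup H) [N.Normal] (hN1 : N ≠ ⊥) (hN2 : N ≠ ⊤) :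
    (P : Subgroup H) ⊔ N = ⊤ ∧ ¬ p ∣ Nat.card N := by
  constructor
  · by_contra hne
    have := REDA.sup_normal hquo P N hN1
    exact hP (REDA.normal_of_le_normal hsub P _ le_sup_left hne)
  · intro hdvd
    obtain ⟨Q⟩ : Nonempty (Sylow p N) := inferInstance
    have hQn : (Q : Subgroup N).Normal := hsub N hN2 Q
    have := Sylow.characteristic_of_normal Q hQn
    have hQ'n : (Subgroup.map N.subtype (Q : Subgroup N)).Normal :=
      ConjAct.normal_of_characteristic_of_normal
    have hQ1 : (Q : Subgroup N) ≠ ⊥ := Q.ne_bot_of_dvd_card hdvd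
    have hQ'1 : Subgroup.map N.subtype (Q : Subgroup N) ≠ ⊥ := by
      intro h
      apply hQ1
      exact (Subgroup.map_eq_bot_iff_of_injective _ N.subtype_injective).mp h
    have hQ'p : IsPGroup p (Subgroup.map N.subtype (Q : Subgroup N)) := Q.isPGroup'.map _
    have hle : Subgroup.map N.subtype (Q : Subgroup N) ≤ P := hQ'p.le_sylow_of_normal P
    have hn := REDA.sup_normal hquo P _ hQ'1
    rw [sup_eq_left.mpr hle] at hn
    exact hP hn

end Cfsg.Agent.S3875P
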