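import Mathlib
import Cfsg.Prelude

set_option autoImplicit false

/-! S3875, piece REDB: if `H = P N` with `N` a normal `p'`-subgroup, `P` a non-normal Sylow
`p`-subgroup and all proper subgroups of `H` are `p`-closed, then `N` is a `q`-group. -/

namespace Cfsg.Agent.S3875P

namespace REDB

/-- a `P`-invariant Sylow `q`-subgroup of the normal `p'`-subgroup `N` (coprime action) -/
theorem exists_invariant_sylow {H : Type*} [Group H] [Finite H] {p : ℕ} [Fact p.Prime]
    (P : Sylow p H) (N : Subgroup H) [N.Normal] (hcop : ¬ p ∣ Nat.card N) (q : ℕ)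
    [Fact q.Prime] :
    ∃ T : Sylow q N, ∀ g ∈ (P : Subgroup H), ∀ t ∈ Subgroup.map N.subtype (T : Subgroup N),
      g * t * g⁻¹ ∈ Subgroup.map N.subtype (T : Subgroup N) := by
  let _ : MulDistribMulAction (P : Subgroup H) N :=
    MulDistribMulAction.compHom N ((MulAut.conjNormal (H := N)).comp (P : Subgroup H).subtype)
  have hsmul : ∀ (g : (P : Subgroup H)) (z : N), ((g • z : N) : H) = (g : H) * z * (g : H)⁻¹ := by
    intro g z
    rfl
  have hnd : ¬ p ∣ Nat.card (Sylow q N) := by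
    obtain ⟨T0⟩ : Nonempty (Sylow q N) := inferInstance
    rw [Sylow.card_eq_index_normalizer T0]
    intro h
    exact hcop (h.trans (Subgroup.index_dvd_card _))
  obtain ⟨T, hT⟩ := IsPGroup.nonempty_fixed_point_of_prime_not_dvd_card (p := p) P.isPGroup'
    (Sylow q N) hnd
  refine ⟨T, ?_⟩
  rintro g hg _ ⟨t, ht, rfl⟩
  have h1 : (⟨g, hg⟩ : (P : Subgroup H)) • T = T := hT ⟨g, hg⟩
  have h2 : (⟨g, hg⟩ : (P : Subgroup H)) • t ∈ ((⟨g, hg⟩ : (P : Subgroup H)) • T : Sylow q N) := by
    show _ ∈ (((⟨g, hg⟩ : (P : Subgroup H)) • T : Sylow q N) : Subgroup N)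
    rw [Sylow.pointwise_smul_def]
    exact Subgroup.smul_mem_pointwise_smul _ _ _ ht
  rw [h1] at h2
  refine ⟨_, h2, ?_⟩
  rw [Subgroup.coe_subtype, hsmul]

/-- if `P ⊔ T` is proper (hence `p`-closed) then `T` normalizes `P` -/
theorem le_normalizer_of_ne_top {H : Type*} [Group H] [Finite H] {p : ℕ} [Fact p.Prime]
    (hsub : ∀ K : Subgroup H, K ≠ ⊤ → Cfsg.IsPClosed p ↥K)
    (P : Sylow p H) (T : Subgroup H) (hne : (P : Subgroup H) ⊔ T ≠ ⊤) :
    T ≤ Subgroup.normalizer ((P : Subgroup H) : Set H) := by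
  have hPK : (P : Subgroup H) ≤ (P : Subgroup H) ⊔ T := le_sup_left
  have h1 : ((P.subtype hPK : Sylow p ↥((P : Subgroup H) ⊔ T)) :
      Subgroup ↥((P : Subgroup H) ⊔ T)).Normal := hsub _ hne _
  rw [Sylow.coe_subtype] at h1
  have key : ∀ t ∈ T, ∀ x ∈ (P : Subgroup H), t * x * t⁻¹ ∈ (P : Subgroup H) := by
    intro t ht x hx
    have hx' : (⟨x, hPK hx⟩ : ↥((P : Subgroup H) ⊔ T)) ∈
        (P : Subgroup H).subgroupOf ((P : Subgroup H) ⊔ T) := by
      rw [Subgroup.mem_subgroupOf]; exact hx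
    have := h1.conj_mem _ hx' ⟨t, (le_sup_right : T ≤ (P : Subgroup H) ⊔ T) ht⟩
    rw [Subgroup.mem_subgroupOf] at this
    exact this
  intro t ht
  rw [Subgroup.mem_normalizer_iff]
  intro x
  constructor
  · exact key t ht x
  · intro hx
    have := key t⁻¹ (T.inv_mem ht) _ hx
    have e : t⁻¹ * (t * x * t⁻¹) * t⁻¹⁻¹ = x := by group
    rw [e] at this
    exact this

/-- if `P` normalizes `T ≤ N`, `P T = H` and `N` is a `p'`-group then `N ≤ T` -/
theorem le_of_sup_eq_top {H : Type*} [Group H] [Finite H] {p : ℕ} [Fact p.Prime]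
    (P : Sylow p H) (N : Subgroup H) (hcop : ¬ p ∣ Nat.card N) (T : Subgroup H)
    (hinv : ∀ g ∈ (P : Subgroup H), ∀ t ∈ T, g * t * g⁻¹ ∈ T)
    (htop : (P : Subgroup H) ⊔ T = ⊤) : N ≤ T := by
  have hp := (Fact.out : p.Prime)
  -- `T` is normal
  have hTn : T.Normal := by
    rw [← Subgroup.normalizer_eq_top_iff, eq_top_iff, ← htop, sup_le_iff]
    refine ⟨?_, Subgroup.le_normalizer⟩
    intro g hg
    rw [Subgroup.mem_normalizer_iff]
    intro x
    constructor
    · exact hinv g hg x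
    · intro hx
      have := hinv g⁻¹ ((P : Subgroup H).inv_mem hg) _ hx
      have e : g⁻¹ * (g * x * g⁻¹) * g⁻¹⁻¹ = x := by group
      rw [e] at this
      exact this
  -- `H ⧸ T` is a `p`-group
  have hmap : Subgroup.map (QuotientGroup.mk' T) (P : Subgroup H) = ⊤ := by
    have h1 : Subgroup.map (QuotientGroup.mk' T) ((P : Subgroup H) ⊔ T) = ⊤ := by
      rw [htop, ← MonoidHom.range_eq_map]
      exact MonoidHom.range_eq_top.mpr (QuotientGroup.mk'_surjective T)
    rw [Subgroup.map_sup] at h1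
    have h2 : Subgroup.map (QuotientGroup.mk' T) T = ⊥ := by
      rw [eq_bot_iff]
      rintro _ ⟨t, ht, rfl⟩
      rw [Subgroup.mem_bot]
      exact (QuotientGroup.eq_one_iff t).mpr ht
    rw [h2, sup_bot_eq] at h1
    exact h1
  have hPG : IsPGroup p (H ⧸ T) := by
    intro x
    have hx : x ∈ Subgroup.map (QuotientGroup.mk' T) (P : Subgroup H) := by
      rw [hmap]; exact Subgroup.mem_top x
    obtain ⟨y, hy, rfl⟩ := hx
    obtain ⟨k, hk⟩ := P.isPGroup' ⟨y, hy⟩
    refine ⟨k, ?_⟩
    have h3 : y ^ p ^ k = 1 := by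
      have := congrArg (fun w : (P : Subgroup H) => (w : H)) hk
      simpa using this
    rw [← map_pow, h3, map_one]
  intro n hn
  obtain ⟨k, hk⟩ := hPG (QuotientGroup.mk' T n)
  have hk' : n ^ p ^ k ∈ T := by
    rw [← map_pow] at hk
    exact (QuotientGroup.eq_one_iff _).mp hk
  have hco : (p ^ k).Coprime (orderOf n) := by
    apply Nat.Coprime.pow_left
    rw [Nat.Prime.coprime_iff_not_dvd hp]
    intro hd
    exact hcop (hd.trans (N.orderOf_dvd_natCard hn))
  obtain ⟨m, hm⟩ := exists_pow_eq_self_of_coprime hco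
  rw [← hm]
  exact T.pow_mem hk' m

/-- REDB (helper26's copy; the project uses `Cfsg.Agent.Helper29.S3875REDB`, so this one lives in
the sub-namespace `REDB` under another name to avoid a clash): Frattini argument + coprime action:
if `H = P N` with `N` a normal `p'`-subgroup, `P` a non-normal Sylow `p`-subgroup, and all proper
subgroups of `H` are `p`-closed, then `N` is a `q`-group for some prime `q`. -/
theorem exists_prime_isPGroup_alt {H : Type*} [Group H] [Finite H] {p : ℕ} [Fact p.Prime]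
    (hsub : ∀ K : Subgroup H, K ≠ ⊤ → Cfsg.IsPClosed p ↥K)
    (P : Sylow p H) (hP : ¬ (P : Subgroup H).Normal)
    (N : Subgroup H) [N.Normal] (hsup : (P : Subgroup H) ⊔ N = ⊤) (hcop : ¬ p ∣ Nat.card N) :
    ∃ q : ℕ, q.Prime ∧ IsPGroup q N := by
  by_contra hcon
  push Not at hcon
  -- for every prime `q` the invariant Sylow `q`-subgroup of `N` normalizes `P`
  have hall : ∀ q : ℕ, q.Prime → q ^ (Nat.card N).factorization q ∣
      Nat.card ↥(N ⊓ Subgroup.normalizer ((P : Subgroup H) : Set H)) := by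
    intro q hq
    have : Fact q.Prime := ⟨hq⟩
    obtain ⟨T, hT⟩ := exists_invariant_sylow P N hcop q
    have hTN : Subgroup.map N.subtype (T : Subgroup N) ≤ N := by
      rintro _ ⟨t, _, rfl⟩
      exact t.2
    have hne : (P : Subgroup H) ⊔ Subgroup.map N.subtype (T : Subgroup N) ≠ ⊤ := by
      intro htop
      have hle := le_of_sup_eq_top P N hcop _ hT htop
      apply hcon q hq
      intro n
      obtain ⟨t, ht, hte⟩ := hle n.2
      have htn : t = n := Subtype.ext hte
      obtain ⟨k, hk⟩ := T.isPGroup' ⟨t, ht⟩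
      refine ⟨k, ?_⟩
      have := congrArg (fun w : (T : Subgroup N) => (w : N)) hk
      rw [← htn]
      simpa using this
    have hle := le_normalizer_of_ne_top hsub P _ hne
    have hc := Subgroup.card_dvd_of_le (le_inf hTN hle)
    rw [Subgroup.card_map_of_injective N.subtype_injective, Sylow.card_eq_multiplicity] at hc
    exact hc
  have hdvd : Nat.card N ∣ Nat.card ↥(N ⊓ Subgroup.normalizer ((P : Subgroup H) : Set H)) := by
    rw [← Nat.factorization_prime_le_iff_dvd Nat.card_pos.ne' Nat.card_pos.ne']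
    intro q hq
    exact (hq.pow_dvd_iff_le_factorization Nat.card_pos.ne').mp (hall q hq)
  have heq : N ⊓ Subgroup.normalizer ((P : Subgroup H) : Set H) = N :=
    Subgroup.eq_of_le_of_card_ge inf_le_left (Nat.le_of_dvd Nat.card_pos hdvd)
  have hN : N ≤ Subgroup.normalizer ((P : Subgroup H) : Set H) := by
    rw [← heq]; exact inf_le_right
  apply hP
  rw [← Subgroup.normalizer_eq_top_iff, eq_top_iff, ← hsup]
  exact sup_le Subgroup.le_normalizer hN

end REDB

end Cfsg.Agent.S3875P
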