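import Mathlib
import Cfsg.Prelude

set_option autoImplicit false

/-! S3875, piece REDC: a Sylow `p`-subgroup acting on a normal subgroup `Z` with
`C_Z(P) = 1` gives `|Z| ≡ 1 (mod p)`. -/

namespace Cfsg.Agent.S3875P

/-- REDC: fixed-point-free action: if `H = P Z`, `Z` an abelian normal `p'`-subgroup with
`C_Z(P) = 1`, then `|Z| ≡ 1 (mod p)`. -/
theorem card_mod_of_fixedPointFree {H : Type*} [Group H] [Finite H] {p : ℕ} [Fact p.Prime]
    (P : Sylow p H) (Z : Subgroup H) [Z.Normal]
    (hC : Z ⊓ Subgroup.centralizer ((P : Subgroup H) : Set H) = ⊥) :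
    Nat.card Z % p = 1 := by
  let _ : MulAction (P : Subgroup H) Z :=
    MulAction.compHom Z ((MulAut.conjNormal (H := Z)).comp (P : Subgroup H).subtype)
  have hsmul : ∀ (g : (P : Subgroup H)) (z : Z), ((g • z : Z) : H) = (g : H) * z * (g : H)⁻¹ := by
    intro g z
    rfl
  have hmod := IsPGroup.card_modEq_card_fixedPoints (p := p) P.isPGroup' Z
  have hfix : ∀ z : Z, z ∈ MulAction.fixedPoints (P : Subgroup H) Z → z = 1 := by
    intro z hz
    have hz1 : (z : H) ∈ Z ⊓ Subgroup.centralizer ((P : Subgroup H) : Set H) := by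
      refine Subgroup.mem_inf.mpr ⟨z.2, ?_⟩
      rw [Subgroup.mem_centralizer_iff]
      intro g hg
      have := hz ⟨g, hg⟩
      have h2 := congrArg (fun w : Z => (w : H)) this
      simp only [hsmul] at h2
      -- g * z * g⁻¹ = z
      calc g * (z : H) = (g * z * g⁻¹) * g := by group
        _ = z * g := by rw [h2]
    rw [hC, Subgroup.mem_bot] at hz1
    exact Subtype.ext hz1
  have hcard : Nat.card (MulAction.fixedPoints (P : Subgroup H) Z) = 1 := by
    rw [Nat.card_eq_one_iff_unique]
    refine ⟨⟨?_⟩, ⟨⟨1, ?_⟩⟩⟩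
    · intro a b
      apply Subtype.ext
      rw [hfix a.1 a.2, hfix b.1 b.2]
    · intro g
      apply Subtype.ext
      rw [hsmul]
      simp
  rw [hcard] at hmod
  have hp := (Fact.out : p.Prime)
  have := hmod
  unfold Nat.ModEq at this
  rw [this, Nat.mod_eq_of_lt hp.one_lt]

end Cfsg.Agent.S3875P
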