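import Mathlib
import Cfsg.Agent.Helper26.S4057Defs
import Cfsg.Agent.Helper17.S4057EXP
import Cfsg.Agent.Helper1.PGroup
import Cfsg.Agent.S0065

/-!
# S4057 piece ALP (Alperin's lemma), driver helper26

For `p` odd, `N` a maximal normal elementary abelian subgroup of the `p`-group `P`: the elements of
order `p` of `C_P(N)` lie in `N`.
-/

set_option autoImplicit false
set_option linter.style.haveILetI false

namespace Cfsg.Agent.S4057P

open scoped commutatorElement

/-- a normal subgroup `K` not inside the normal subgroup `N` of a finite `p`-group has an element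
outside `N` that is central modulo `N` -/
theorem ALP_aux_central {G : Type*} [Group G] [Finite G] {p : ℕ} [Fact p.Prime]
    (hG : IsPGroup p G) (N K : Subgroup G) [N.Normal] [K.Normal] (hKN : ¬ K ≤ N) :
    ∃ y ∈ K, y ∉ N ∧ ∀ g : G, ⁅g, y⁆ ∈ N := by
  classical
  haveI : Group.IsNilpotent (G ⧸ N) := (hG.to_quotient N).isNilpotent
  have hsurj : Function.Surjective (QuotientGroup.mk' N) := QuotientGroup.mk'_surjective N
  haveI : (K.map (QuotientGroup.mk' N)).Normal := Subgroup.Normal.map inferInstance _ hsurj
  have hne : K.map (QuotientGroup.mk' N) ≠ ⊥ := by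
    intro h
    apply hKN
    intro k hk
    have : QuotientGroup.mk' N k ∈ K.map (QuotientGroup.mk' N) := Subgroup.mem_map_of_mem _ hk
    rw [h, Subgroup.mem_bot] at this
    exact (QuotientGroup.eq_one_iff k).mp this
  have h2 := Cfsg.Agent.S0065.inf_center_ne_bot (K.map (QuotientGroup.mk' N)) hne
  rcases Subgroup.bot_or_exists_ne_one (K.map (QuotientGroup.mk' N) ⊓ Subgroup.center (G ⧸ N))
    with h | ⟨z, hz, hz1⟩
  · exact absurd h h2
  obtain ⟨hzK, hzc⟩ := Subgroup.mem_inf.mp hz
  obtain ⟨y, hyK, rfl⟩ := Subgroup.mem_map.mp hzK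
  refine ⟨y, hyK, ?_, ?_⟩
  · intro hyN
    exact hz1 ((QuotientGroup.eq_one_iff y).mpr hyN)
  · intro g
    rw [Subgroup.mem_center_iff] at hzc
    have h3 := hzc (QuotientGroup.mk' N g)
    rw [← QuotientGroup.eq_one_iff, commutatorElement_def]
    have h4 : ((g * y * g⁻¹ * y⁻¹ : G) : G ⧸ N)
        = QuotientGroup.mk' N g * QuotientGroup.mk' N y * (QuotientGroup.mk' N g)⁻¹
          * (QuotientGroup.mk' N y)⁻¹ := by
      simp
    rw [h4, h3]
    group

/-- adjoining to an elementary abelian subgroup an element of order `p` centralizing it -/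
theorem ALP_aux_adjoin {G : Type*} [Group G] {p : ℕ} (N : Subgroup G) (hN : ElAb p N) (y : G)
    (hy : y ∈ Subgroup.centralizer (N : Set G)) (hyp : y ^ p = 1) :
    ElAb p (N ⊔ Subgroup.zpowers y) := by
  have hE : N ⊔ Subgroup.zpowers y = Subgroup.closure ((N : Set G) ∪ {y}) := by
    rw [Subgroup.closure_union, Subgroup.closure_eq, Subgroup.zpowers_eq_closure]
  rw [hE]
  have hgen : ∀ s ∈ (N : Set G) ∪ {y}, ∀ t ∈ (N : Set G) ∪ {y}, s * t = t * s := by
    rw [Subgroup.mem_centralizer_iff] at hy
    rintro s (hs | hs) t (ht | ht)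
    · exact hN.1 s hs t ht
    · rw [Set.mem_singleton_iff] at ht
      subst ht
      exact hy s hs
    · rw [Set.mem_singleton_iff] at hs
      subst hs
      exact (hy t ht).symm
    · rw [Set.mem_singleton_iff] at hs ht
      rw [hs, ht]
  have h1 : ∀ s ∈ (N : Set G) ∪ {y}, ∀ b ∈ Subgroup.closure ((N : Set G) ∪ {y}), s * b = b * s := by
    intro s hs b hb
    induction hb using Subgroup.closure_induction with
    | mem t ht => exact hgen s hs t ht
    | one => simp
    | mul a b _ _ iha ihb => rw [← mul_assoc, iha, mul_assoc, ihb, mul_assoc]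
    | inv a _ iha =>
      have : a⁻¹ * (s * a) * a⁻¹ = a⁻¹ * (a * s) * a⁻¹ := by rw [iha]
      simpa [mul_assoc] using this.symm
  have h2 : ∀ a ∈ Subgroup.closure ((N : Set G) ∪ {y}),
      ∀ b ∈ Subgroup.closure ((N : Set G) ∪ {y}), a * b = b * a := by
    intro a ha b hb
    induction ha using Subgroup.closure_induction with
    | mem t ht => exact h1 t ht b hb
    | one => simp
    | mul a c _ _ iha ihc => rw [mul_assoc, ihc, ← mul_assoc, iha, mul_assoc]
    | inv a _ iha =>
      have : a⁻¹ * (a * b) * a⁻¹ = a⁻¹ * (b * a) * a⁻¹ := by rw [iha]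
      simpa [mul_assoc] using this.symm
  refine ⟨h2, ?_⟩
  intro a ha
  induction ha using Subgroup.closure_induction with
  | mem t ht =>
    rcases ht with ht | ht
    · exact hN.2 t ht
    · rw [Set.mem_singleton_iff] at ht
      rw [ht, hyp]
  | one => simp
  | mul a c ha hc iha ihc =>
    have hcomm : Commute a c := h2 a ha c hc
    rw [hcomm.mul_pow, iha, ihc, one_mul]
  | inv a _ iha => rw [inv_pow, iha, inv_one]

/-- the main induction: an elementary abelian normal subgroup `N` of a `p`-group, `p` odd, with an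
element of order `p` of `C_P(N)` outside it is not a maximal elementary abelian normal subgroup -/
theorem ALP_aux_main {p : ℕ} [Fact p.Prime] (hp : p ≠ 2) : ∀ n : ℕ, ∀ (P : Type*) [Group P]
    [Finite P], Nat.card P = n → IsPGroup p P → ∀ N : Subgroup P, N.Normal → ElAb p N →
    ∀ x ∈ Subgroup.centralizer (N : Set P), x ^ p = 1 → x ∉ N →
    ∃ M : Subgroup P, M.Normal ∧ ElAb p M ∧ N < M := by
  intro n
  induction n using Nat.strong_induction_on with
  | _ n ih =>
  intro P _ _ hcard hP N hNn hN x hxC hxp hxN
  classical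
  haveI := hNn
  set C := Subgroup.centralizer (N : Set P) with hC
  have hNC : N ≤ C := by
    intro a ha
    rw [hC, Subgroup.mem_centralizer_iff]
    intro b hb
    exact hN.1 b hb a ha
  set R := Subgroup.normalClosure {x} ⊔ N with hR
  have hRC : R ≤ C := by
    refine sup_le (Subgroup.normalClosure_le_normal ?_) hNC
    intro a ha
    rw [Set.mem_singleton_iff] at ha
    rw [ha]
    exact hxC
  have hxR : x ∈ R := (le_sup_left : Subgroup.normalClosure {x} ≤ R)
    (Subgroup.subset_normalClosure (Set.mem_singleton x))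
  have hNR : N ≤ R := le_sup_right
  by_cases hRtop : R = ⊤
  · -- `P = ⟨x⟩ N`
    have hK : N ⊔ Subgroup.zpowers x = ⊤ := by
      apply frattini_nongenerating
      rw [eq_top_iff, ← hRtop, hR]
      refine sup_le ?_ (le_sup_of_le_left le_sup_left)
      rw [Subgroup.normalClosure, Subgroup.closure_le]
      intro a ha
      rw [Group.mem_conjugatesOfSet_iff] at ha
      obtain ⟨b, hb, hab⟩ := ha
      rw [Set.mem_singleton_iff] at hb
      subst hb
      obtain ⟨g, rfl⟩ := isConj_iff.mp hab
      have h1 : g * b * g⁻¹ = b * ⁅b⁻¹, g⁆ := by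
        rw [commutatorElement_def]; group
      rw [h1]
      refine Subgroup.mul_mem _ ?_ ?_
      · exact (le_sup_of_le_left le_sup_right : Subgroup.zpowers b ≤ _)
          (Subgroup.mem_zpowers b)
      · apply (le_sup_right : frattini P ≤ _)
        exact Cfsg.Agent.Helper1.IsPGroup.commutator_le_frattini hP
          (Subgroup.commutator_mem_commutator (Subgroup.mem_top _) (Subgroup.mem_top _))
    refine ⟨⊤, inferInstance, ?_, ?_⟩
    · rw [← hK]
      exact ALP_aux_adjoin N hN x hxC hxp
    · rw [lt_top_iff_ne_top]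
      intro h
      apply hxN
      rw [h]
      exact Subgroup.mem_top x
  · -- `R < P`: induction inside `R`
    have hRlt : Nat.card R < n := by
      rw [← hcard]
      refine lt_of_le_of_ne (Subgroup.card_le_card_group R) ?_
      intro h
      exact hRtop (Subgroup.eq_top_of_card_eq R h)
    have hRp : IsPGroup p R := hP.to_subgroup R
    have hNRe : ElAb p (N.subgroupOf R) := by
      refine ⟨?_, ?_⟩
      · intro a ha b hb
        rw [Subgroup.mem_subgroupOf] at ha hb
        apply Subtype.ext
        simpa using hN.1 a ha b hb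
      · intro a ha
        rw [Subgroup.mem_subgroupOf] at ha
        apply Subtype.ext
        simpa using hN.2 a ha
    obtain ⟨M, hMn, hMe, hNM⟩ := ih (Nat.card R) hRlt R rfl hRp (N.subgroupOf R)
      inferInstance hNRe ⟨x, hxR⟩
      (by
        rw [Subgroup.mem_centralizer_iff]
        intro a ha
        have ha' : (a : P) ∈ N := Subgroup.mem_subgroupOf.mp ha
        have hxC' := hxC
        rw [hC, Subgroup.mem_centralizer_iff] at hxC'
        apply Subtype.ext
        simpa using hxC' a ha')
      (by apply Subtype.ext; simpa using hxp)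
      (by rw [Subgroup.mem_subgroupOf]; exact hxN)
    haveI := hMn
    obtain ⟨y', hy'M, hy'N, hy'c⟩ := ALP_aux_central hRp (N.subgroupOf R) M (not_le_of_gt hNM)
    -- `x'` : an element of order `p` of `R` outside `N`, central in `R` modulo `N`
    set x' : P := (y' : P) with hx'
    have hx'R : x' ∈ R := y'.2
    have hx'p : x' ^ p = 1 := by
      have := hMe.2 y' hy'M
      simpa using congrArg Subtype.val this
    have hx'N : x' ∉ N := fun h => hy'N (Subgroup.mem_subgroupOf.mpr h)
    have hx'c : ∀ r ∈ R, ⁅r, x'⁆ ∈ N := by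
      intro r hr
      have := hy'c ⟨r, hr⟩
      rw [Subgroup.mem_subgroupOf] at this
      simpa [commutatorElement_def] using this
    -- `R'`
    set T : Set P := Group.conjugatesOfSet {x'} ∪ (N : Set P) with hT
    set R' := Subgroup.normalClosure {x'} ⊔ N with hR'
    have hR'R : R' ≤ R := by
      refine sup_le (Subgroup.normalClosure_le_normal ?_) hNR
      intro a ha
      rw [Set.mem_singleton_iff] at ha
      rw [ha]
      exact hx'R
    have hgen : Subgroup.closure T = R' := by
      rw [hT, Subgroup.closure_union, Subgroup.closure_eq, hR', Subgroup.normalClosure]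
    have hTp : ∀ t ∈ T, t ^ p = 1 := by
      rintro t (ht | ht)
      · rw [Group.mem_conjugatesOfSet_iff] at ht
        obtain ⟨b, hb, hab⟩ := ht
        rw [Set.mem_singleton_iff] at hb
        subst hb
        obtain ⟨g, rfl⟩ := isConj_iff.mp hab
        rw [conj_pow, hx'p]
        group
      · exact hN.2 t ht
    have hTc : ∀ t ∈ T, ∀ r ∈ R, ⁅t, r⁆ ∈ N := by
      rintro t (ht | ht) r hr
      · rw [Group.mem_conjugatesOfSet_iff] at ht
        obtain ⟨b, hb, hab⟩ := ht
        rw [Set.mem_singleton_iff] at hb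
        subst hb
        obtain ⟨g, rfl⟩ := isConj_iff.mp hab
        have hr' : g⁻¹ * r * g ∈ R := by
          have := (inferInstance : R.Normal).conj_mem r hr g⁻¹
          simpa using this
        have h1 := hx'c _ hr'
        have h2 : ⁅g * x' * g⁻¹, r⁆ = g * (⁅g⁻¹ * r * g, x'⁆)⁻¹ * g⁻¹ := by
          rw [commutatorElement_def, commutatorElement_def]; group
        rw [h2]
        exact hNn.conj_mem _ (N.inv_mem h1) g
      · rw [commutatorElement_def]
        have h1 : r * t⁻¹ * r⁻¹ ∈ N := hNn.conj_mem _ (N.inv_mem ht) r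
        have := N.mul_mem ht h1
        simpa [mul_assoc] using this
    have hR'c : ∀ a ∈ R', ∀ r ∈ R, ⁅a, r⁆ ∈ N := by
      intro a ha
      rw [← hgen] at ha
      induction ha using Subgroup.closure_induction with
      | mem t ht => exact hTc t ht
      | one => intro r _; simp
      | mul a b _ _ iha ihb =>
        intro r hr
        have h1 : ⁅a * b, r⁆ = a * ⁅b, r⁆ * a⁻¹ * ⁅a, r⁆ := by
          rw [commutatorElement_def, commutatorElement_def, commutatorElement_def]; group
        rw [h1]
        exact N.mul_mem (hNn.conj_mem _ (ihb r hr) a) (iha r hr)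
      | inv a _ iha =>
        intro r hr
        have h1 : ⁅a⁻¹, r⁆ = a⁻¹ * (⁅a, r⁆)⁻¹ * a⁻¹⁻¹ := by
          rw [commutatorElement_def, commutatorElement_def]; group
        rw [h1]
        exact hNn.conj_mem _ (N.inv_mem (iha r hr)) a⁻¹
    have hexp : ∀ r ∈ R', r ^ p = 1 := by
      refine EXP hp R' ?_ T hTp hgen
      intro a ha b hb c hc
      have h1 : ⁅a, b⁆ ∈ N := hR'c a ha b (hR'R hb)
      have h2 : c ∈ C := hRC (hR'R hc)
      rw [hC, Subgroup.mem_centralizer_iff] at h2
      exact h2 _ h1
    have hx'R' : x' ∈ R' := (le_sup_left : Subgroup.normalClosure {x'} ≤ R')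
      (Subgroup.subset_normalClosure (Set.mem_singleton x'))
    have hR'N : ¬ R' ≤ N := fun h => hx'N (h hx'R')
    obtain ⟨y, hyR', hyN, hyc⟩ := ALP_aux_central hP N R' hR'N
    have hyC : y ∈ C := hRC (hR'R hyR')
    refine ⟨N ⊔ Subgroup.zpowers y, ?_, ALP_aux_adjoin N hN y hyC (hexp y hyR'), ?_⟩
    · constructor
      intro m hm g
      have h1 : (N ⊔ Subgroup.zpowers y).map (MulAut.conj g).toMonoidHom
          ≤ N ⊔ Subgroup.zpowers y := by
        rw [Subgroup.map_sup]
        refine sup_le ?_ ?_
        · refine le_sup_of_le_left ?_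
          rintro _ ⟨a, ha, rfl⟩
          exact hNn.conj_mem a ha g
        · rw [MonoidHom.map_zpowers, Subgroup.zpowers_le]
          have h2 : (MulAut.conj g).toMonoidHom y = ⁅g, y⁆ * y := by
            rw [commutatorElement_def]; simp
          rw [h2]
          exact Subgroup.mul_mem _ ((le_sup_left : N ≤ _) (hyc g))
            ((le_sup_right : Subgroup.zpowers y ≤ _) (Subgroup.mem_zpowers y))
      have h3 : (MulAut.conj g).toMonoidHom m ∈
          (N ⊔ Subgroup.zpowers y).map (MulAut.conj g).toMonoidHom :=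
        Subgroup.mem_map_of_mem _ hm
      simpa using h1 h3
    · refine lt_of_le_of_ne le_sup_left ?_
      intro h
      apply hyN
      rw [h]
      exact (le_sup_right : Subgroup.zpowers y ≤ _) (Subgroup.mem_zpowers y)

/-- ALP (Alperin): for `p` odd the elements of order `p` of `C_P(N)` lie in `N`. -/
theorem ALP {P : Type*} [Group P] [Finite P] {p : ℕ} [Fact p.Prime] (hp : p ≠ 2)
    (hP : IsPGroup p P) (N : Subgroup P) (hN : MaxElAb p N)
    (x : P) (hx : x ∈ Subgroup.centralizer (N : Set P)) (hxp : x ^ p = 1) : x ∈ N := by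
  by_contra hxN
  obtain ⟨M, hMn, hMe, hlt⟩ := ALP_aux_main hp (Nat.card P) P rfl hP N hN.1 hN.2.1 x hx hxp hxN
  exact absurd (hN.2.2 M hMn hMe hlt.le) (ne_of_gt hlt)

end Cfsg.Agent.S4057P
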