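import Mathlib
import Cfsg.Agent.Helper26.S4057Defs
import Cfsg.Agent.Helper26.S4057ALP
import Cfsg.Agent.Helper2.S4057MAXN
import Cfsg.Agent.Helper21.S4057PCGEN
import Cfsg.Agent.Helper17.S4057QUOT

/-!
# S4057 (Laffey): assembly of the pieces (driver helper26)
-/

set_option autoImplicit false

namespace Cfsg.Agent.S4057P

open scoped commutatorElement

/-- ASM: the statement of S4057. -/
theorem ASM {P : Type*} [Group P] [Finite P] {p : ℕ} [Fact p.Prime]
    (hp : p ≠ 2) (hP : IsPGroup p P) (k : ℕ)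
    (hab : ∀ A : Subgroup P, A.Normal → IsMulCommutative A →
      ∃ S : Finset P, S.card ≤ k ∧ Subgroup.closure (S : Set P) = A) :
    ∀ H : Subgroup P, ∃ S : Finset P, S.card ≤ k * (k + 4) / 4 ∧
      Subgroup.closure (S : Set P) = H := by
  classical
  intro H
  obtain ⟨N, r, hN, hcard, hrk⟩ := MAXN hP k hab
  haveI : N.Normal := hN.1
  set C := Subgroup.centralizer (N : Set P) with hC
  -- generators of `H ⊓ C`
  have hNC : N ≤ C := by
    intro x hx
    rw [hC, Subgroup.mem_centralizer_iff]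
    intro y hy
    exact hN.2.1.1 y hy x hx
  obtain ⟨S₁, hS₁c, hS₁⟩ := PCGEN hp hP (H ⊓ C) (H ⊓ N) (inf_le_inf_left H hNC)
    (by
      rintro e ⟨-, heN⟩ v ⟨-, hvC⟩
      have hvC' : v ∈ Subgroup.centralizer (N : Set P) := hvC
      rw [Subgroup.mem_centralizer_iff] at hvC'
      exact hvC' e heN)
    (by
      rintro v ⟨hvH, hvC⟩ hvp
      exact ⟨hvH, ALP hp hP N hN v hvC hvp⟩)
    r
    (by
      rw [← hcard]
      exact Nat.card_le_card_of_injective (Subgroup.inclusion (inf_le_right : H ⊓ N ≤ N))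
        (Subgroup.inclusion_injective _))
  obtain ⟨S₂, hS₂c, hS₂H, hS₂⟩ := QUOT hP N hN.2.1 r hcard H
  refine ⟨S₁ ∪ S₂, ?_, ?_⟩
  · have h1 : (S₁ ∪ S₂).card ≤ r + r ^ 2 / 4 :=
      (Finset.card_union_le _ _).trans (Nat.add_le_add hS₁c hS₂c)
    have h2 : r + r ^ 2 / 4 = r * (r + 4) / 4 := by
      have : r * (r + 4) = r ^ 2 + r * 4 := by ring
      rw [this, Nat.add_mul_div_right _ _ (by norm_num : 0 < 4)]
      omega
    have h3 : r * (r + 4) / 4 ≤ k * (k + 4) / 4 :=
      Nat.div_le_div_right (Nat.mul_le_mul hrk (Nat.add_le_add_right hrk 4))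
    omega
  · rw [Finset.coe_union, Subgroup.closure_union, hS₁, sup_comm]
    exact hS₂

end Cfsg.Agent.S4057P
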