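import Mathlib
import Cfsg.Agent.Helper26.S4394Defs

/-!
# S4394, piece C2d (helper26)

In case (ii) with `|T : Q| = p = |Z|`: `|T| = p³` with `Q` elementary abelian of index `p`,
excluded for `p ≤ 3` by condition (P4) of `GoodZ`.
-/

set_option autoImplicit false

namespace Cfsg.Agent.S4394P

open Cfsg

theorem C2d {G : Type*} [Group G] [Finite G] {p : ℕ} [Fact p.Prime] (hp : p ≤ 3)
    (T : Sylow p G) (Z : Subgroup ↥(T : Subgroup G)) (hZ : GoodZ p ↥(T : Subgroup G) Z)
    (hQT : Cfsg.pCore p G ≤ (T : Subgroup G))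
    (hZQ : Z.map (T : Subgroup G).subtype ≤ Cfsg.pCore p G)
    (hQel : Cfsg.IsElementaryAbelian p (Cfsg.pCore p G))
    (hii : ∀ N₀ : Subgroup G, N₀.Normal → N₀ ≤ Z.map (T : Subgroup G).subtype → N₀ = ⊥)
    (hidx : (Cfsg.pCore p G).relIndex (T : Subgroup G) = p) (hZp : Nat.card Z = p) : False := by
  classical
  have hpp : p.Prime := Fact.out
  obtain ⟨hG1, hG2, hG3, hP2, hP4⟩ := hZ
  set Q := Cfsg.pCore p G with hQ
  set A : Subgroup ↥(T : Subgroup G) := Q.subgroupOf (T : Subgroup G) with hA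
  have hAidx : A.index = p := hidx
  have hZA : Z ≤ A := by
    intro z hz
    rw [hA, Subgroup.mem_subgroupOf]
    exact hZQ ⟨z, hz, rfl⟩
  have hAcomm : ∀ a ∈ A, ∀ b ∈ A, a * b = b * a := by
    intro a ha b hb
    rw [hA, Subgroup.mem_subgroupOf] at ha hb
    have := hQel.1.is_comm.comm ⟨(a : G), ha⟩ ⟨(b : G), hb⟩
    apply Subtype.ext
    have := congrArg Subtype.val this
    simpa using this
  have hApow : ∀ a ∈ A, a ^ p = 1 := by
    intro a ha
    rw [hA, Subgroup.mem_subgroupOf] at ha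
    apply Subtype.ext
    have := hQel.2 (a : G) ha
    simpa using this
  -- `Z ≠ ⊥`
  have hZ1 : ∃ z ∈ Z, z ≠ 1 := by
    by_contra hcon
    push Not at hcon
    have : Z = ⊥ := (Subgroup.eq_bot_iff_forall _).mpr hcon
    rw [this, Subgroup.card_bot] at hZp
    exact hpp.one_lt.ne hZp
  obtain ⟨z₀, hz₀, hz₀1⟩ := hZ1
  -- an element outside `A`
  have hAtop : A ≠ ⊤ := by
    intro h
    rw [h, Subgroup.index_top] at hAidx
    exact hpp.one_lt.ne hAidx
  obtain ⟨t, htA⟩ : ∃ t : ↥(T : Subgroup G), t ∉ A := by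
    by_contra hcon
    push Not at hcon
    exact hAtop ((Subgroup.eq_top_iff' A).mpr hcon)
  -- `A ⊔ ⟨t⟩ = ⊤`
  have hsup : A ⊔ Subgroup.zpowers t = ⊤ := by
    have h1 : (A ⊔ Subgroup.zpowers t).index ∣ A.index := Subgroup.index_dvd_of_le le_sup_left
    rw [hAidx] at h1
    rcases (Nat.dvd_prime hpp).mp h1 with h | h
    · exact Subgroup.index_eq_one.mp h
    · exfalso
      have h2 : A.relIndex (A ⊔ Subgroup.zpowers t) * (A ⊔ Subgroup.zpowers t).index = A.index :=
        Subgroup.relIndex_mul_index le_sup_left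
      rw [h, hAidx] at h2
      have h3 : A.relIndex (A ⊔ Subgroup.zpowers t) = 1 := by
        have := hpp.pos
        nlinarith [Nat.eq_of_mul_eq_mul_right this (by rw [one_mul]; exact h2 :
          A.relIndex (A ⊔ Subgroup.zpowers t) * p = 1 * p)]
      have h4 : A ⊔ Subgroup.zpowers t ≤ A := Subgroup.relIndex_eq_one.mp h3
      exact htA (h4 (Subgroup.mem_sup_right (Subgroup.mem_zpowers t)))
  -- the commutator homomorphism
  have hcen : ∀ (x y : ↥(T : Subgroup G)) (w : ↥(T : Subgroup G)),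
      (x * y * x⁻¹ * y⁻¹) * w = w * (x * y * x⁻¹ * y⁻¹) := by
    intro x y w
    exact (Subgroup.mem_center_iff.mp (hG1 (hG2 x y)) w).symm
  let φ : A →* Z :=
    { toFun := fun v => ⟨(v : ↥(T : Subgroup G)) * t * (v : ↥(T : Subgroup G))⁻¹ * t⁻¹, hG2 _ _⟩
      map_one' := by
        apply Subtype.ext
        simp
      map_mul' := by
        intro v w
        apply Subtype.ext
        simp only [Subgroup.coe_mul]
        have h1 := hcen (w : ↥(T : Subgroup G)) t ((v : ↥(T : Subgroup G))⁻¹)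
        calc (v : ↥(T : Subgroup G)) * w * t * ((v : ↥(T : Subgroup G)) * w)⁻¹ * t⁻¹
            = v * ((w * t * (w : ↥(T : Subgroup G))⁻¹ * t⁻¹) * (v : ↥(T : Subgroup G))⁻¹) * (v * t * (v : ↥(T : Subgroup G))⁻¹ * t⁻¹) * 1 := by
              group
          _ = v * ((v : ↥(T : Subgroup G))⁻¹ * (w * t * (w : ↥(T : Subgroup G))⁻¹ * t⁻¹)) * (v * t * (v : ↥(T : Subgroup G))⁻¹ * t⁻¹) * 1 := by
              rw [h1]
          _ = (w * t * (w : ↥(T : Subgroup G))⁻¹ * t⁻¹) * (v * t * (v : ↥(T : Subgroup G))⁻¹ * t⁻¹) := by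
              group
          _ = (v * t * (v : ↥(T : Subgroup G))⁻¹ * t⁻¹) * (w * t * (w : ↥(T : Subgroup G))⁻¹ * t⁻¹) := by
              rw [hcen] }
  have hker : φ.ker ≤ Z.subgroupOf A := by
    intro v hv
    rw [MonoidHom.mem_ker] at hv
    have hvt : (v : ↥(T : Subgroup G)) * t = t * v := by
      have := congrArg Subtype.val hv
      simp only [φ, MonoidHom.coe_mk, OneHom.coe_mk, Subgroup.coe_one] at this
      have h2 : (v : ↥(T : Subgroup G)) * t * (v : ↥(T : Subgroup G))⁻¹ * t⁻¹ * (t * v) = t * v := by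
        rw [this, one_mul]
      rw [← h2]; group
    rw [Subgroup.mem_subgroupOf]
    by_contra hvZ
    obtain ⟨s, hs⟩ := hP2 (v : ↥(T : Subgroup G)) hvZ z₀ hz₀
    apply hz₀1
    rw [← hs]
    -- `v` commutes with everything
    have hall : ∀ s ∈ (A ⊔ Subgroup.zpowers t), (v : ↥(T : Subgroup G)) * s = s * v := by
      intro s hs
      have : A ⊔ Subgroup.zpowers t ≤ Subgroup.centralizer {(v : ↥(T : Subgroup G))} := by
        rw [sup_le_iff]
        constructor
        · intro a ha
          rw [Subgroup.mem_centralizer_singleton_iff]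
          exact hAcomm a ha v v.2
        · rw [Subgroup.zpowers_le, Subgroup.mem_centralizer_singleton_iff]
          exact hvt.symm
      have := this hs
      rw [Subgroup.mem_centralizer_singleton_iff] at this
      exact this.symm
    have := hall s (by rw [hsup]; exact Subgroup.mem_top s)
    rw [this]; group
  -- `Z.relIndex A ∣ p`
  have hrel : Z.relIndex A ∣ p := by
    have h1 : (Z.subgroupOf A).index ∣ φ.ker.index := Subgroup.index_dvd_of_le hker
    have h2 : φ.ker.index = Nat.card φ.range := Subgroup.index_ker φ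
    have h3 : Nat.card φ.range ∣ Nat.card Z := Subgroup.card_subgroup_dvd_card φ.range
    rw [hZp] at h3
    rw [h2] at h1
    exact h1.trans h3
  have hrelp : Z.relIndex A = p := by
    rcases (Nat.dvd_prime hpp).mp hrel with h | h
    · exfalso
      have hAZ : A ≤ Z := Subgroup.relIndex_eq_one.mp h
      have hQZ : Q ≤ Z.map (T : Subgroup G).subtype := by
        intro x hx
        have : (⟨x, hQT hx⟩ : ↥(T : Subgroup G)) ∈ A := by
          rw [hA, Subgroup.mem_subgroupOf]; exact hx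
        exact ⟨⟨x, hQT hx⟩, hAZ this, rfl⟩
      have hQn : Q.Normal := by
        rw [hQ]; infer_instance
      have hQbot : Q = ⊥ := hii Q hQn hQZ
      have : (z₀ : G) ∈ Q := hZQ ⟨z₀, hz₀, rfl⟩
      rw [hQbot, Subgroup.mem_bot] at this
      apply hz₀1
      apply Subtype.ext
      simpa using this
    · exact h
  have hZidx : Z.index = p ^ 2 := by
    have := Subgroup.relIndex_mul_index hZA
    rw [hrelp, hAidx] at this
    rw [← this]; ring
  have hbot : (⊥ : Subgroup ↥(T : Subgroup G)) ≠ Z := by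
    intro h
    apply hz₀1
    have : z₀ ∈ (⊥ : Subgroup ↥(T : Subgroup G)) := h ▸ hz₀
    exact Subgroup.mem_bot.mp this
  obtain ⟨a, ha, hap⟩ := hP4 hp hZidx A hZA hAidx ⊥ bot_le hbot
  apply hap
  rw [Subgroup.mem_bot]
  exact hApow a ha

end Cfsg.Agent.S4394P
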