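import Mathlib
import Cfsg.Agent.Helper26.S4394Defs
import Cfsg.Agent.Helper27.S4394AB
import Cfsg.Agent.Helper27.S4394RED1
import Cfsg.Agent.Helper29.S4394RED2
import Cfsg.Agent.Helper24.S4394NT
import Cfsg.Agent.Helper11.S4394CASE1
import Cfsg.Agent.Helper13.S4394C2a
import Cfsg.Agent.Helper5.S4394C2b
import Cfsg.Agent.Helper10.S4394C2c
import Cfsg.Agent.Helper26.S4394C2d

/-!
# S4394: the main induction (helper26)

A finite `p`-solvable group whose Sylow `p`-subgroups are `Good` has `p`-length at most one.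
-/

set_option autoImplicit false

namespace Cfsg.Agent.S4394P

open Cfsg

universe u

theorem MAIN {p : ℕ} [Fact p.Prime] : ∀ (n : ℕ) (G : Type u) [Group G] [Finite G], Nat.card G = n →
    Cfsg.IsPSolvable p G → ∀ T : Sylow p G, Good p ↥(T : Subgroup G) → Cfsg.PLengthLE p 1 G := by
  intro n
  induction n using Nat.strong_induction_on with
  | _ n ih =>
    intro G _ _ hn hsol T hgood
    have IH : ∀ (H : Type u) [Group H] [Finite H], Nat.card H < Nat.card G → Cfsg.IsPSolvable p H →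
        ∀ S : Sylow p H, Good p ↥(S : Subgroup H) → Cfsg.PLengthLE p 1 H := by
      intro H _ _ hlt hH S hS
      exact ih (Nat.card H) (hn ▸ hlt) H rfl hH S hS
    by_cases hab : ∀ a b : ↥(T : Subgroup G), a * b = b * a
    · exact AB hsol T hab
    by_cases hO : Cfsg.pPrimeCore p G = ⊥
    swap
    · exact RED1 hsol T hgood hO IH
    obtain ⟨Z, hZ⟩ := hgood
    by_cases hi : ∃ N₀ : Subgroup G, N₀.Normal ∧ N₀ ≠ ⊥ ∧ N₀ ≤ Z.map (T : Subgroup G).subtype
    · obtain ⟨N₀, hN₀n, hN₀1, hN₀Z⟩ := hi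
      have hq := RED2 hsol T Z hZ N₀ hN₀1 hN₀Z IH
      have hN₀T : N₀ ≤ (T : Subgroup G) := hN₀Z.trans (Subgroup.map_subtype_le _)
      have hcent : ∀ t ∈ (T : Subgroup G), ∀ n ∈ N₀, t * n = n * t := by
        intro t ht n hn
        obtain ⟨z, hz, rfl⟩ := hN₀Z hn
        have h1 := Subgroup.mem_center_iff.mp (hZ.1 hz) ⟨t, ht⟩
        have := congrArg Subtype.val h1
        simpa using this
      exact NT T (CASE1 hO T N₀ hN₀T hcent hq)
    · exfalso
      have hii : ∀ N₀ : Subgroup G, N₀.Normal → N₀ ≤ Z.map (T : Subgroup G).subtype → N₀ = ⊥ := by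
        intro N₀ h1 h2
        by_contra h3
        exact hi ⟨N₀, h1, h3, h2⟩
      obtain ⟨hQT, hZQ, hQel, hCQ⟩ := C2a hsol hO T Z hZ hii
      by_cases hp : 3 < p
      · exact C2b hp hsol T hab Z hZ hQT hZQ hQel hCQ
      · obtain ⟨hidx, hZp⟩ := C2c hsol T hab Z hZ hQT hZQ hQel hCQ
        exact C2d (not_lt.mp hp) T Z hZ hQT hZQ hQel hii hidx hZp

end Cfsg.Agent.S4394P
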