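import Mathlib
import Cfsg.Agent.Helper26.S4394Defs
import Cfsg.Agent.Helper12.S4394TH1
import Cfsg.Agent.Helper26.S4394TH2

/-!
# S4394: the Thompson-style lemma TH = TH1 + TH2 (helper26)
-/

set_option autoImplicit false

namespace Cfsg.Agent.S4394P

open Cfsg

/-- `V` a finite abelian `p`-group; `A, R ≤ Aut V`, `A` elementary abelian `≠ 1`, `R` a `p'`-group
normalized by `A` with `C_A(R) = 1`; `Z ≤ V` fixed pointwise by `A`, containing `[V, A]`, with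
`[v, A] = Z` for all `v ∉ Z`.  Then `|A| = p = |Z|`. -/
theorem TH {p : ℕ} [Fact p.Prime] {V : Type*} [Group V] [Finite V] (hVc : ∀ a b : V, a * b = b * a)
    (hVp : IsPGroup p V) (A R : Subgroup (MulAut V))
    (hAc : ∀ a ∈ A, ∀ b ∈ A, a * b = b * a) (hAp : ∀ a ∈ A, a ^ p = 1) (hA1 : A ≠ ⊥)
    (hR : ¬ p ∣ Nat.card R) (hAR : A ≤ Subgroup.normalizer (R : Set (MulAut V)))
    (hCAR : ∀ a ∈ A, (∀ r ∈ R, a * r = r * a) → a = 1)
    (Z : Subgroup V) (hz1 : ∀ a ∈ A, ∀ z ∈ Z, a z = z) (hz2 : ∀ a ∈ A, ∀ v : V, a v * v⁻¹ ∈ Z)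
    (hz3 : ∀ v : V, v ∉ Z → ∀ z ∈ Z, ∃ a ∈ A, a v * v⁻¹ = z) :
    Nat.card A = p ∧ Nat.card Z = p := by
  have : Finite (MulAut V) := Finite.of_injective (fun e : MulAut V => (e : V → V))
    (fun e f h => MulEquiv.ext (congrFun h))
  have hnc : ∃ a ∈ A, ∃ r ∈ R, a * r ≠ r * a := by
    by_contra hcon
    push Not at hcon
    apply hA1
    rw [Subgroup.eq_bot_iff_forall]
    intro a ha
    exact hCAR a ha (fun r hr => hcon a ha r hr)
  obtain ⟨R₁, t, hR₁R, hAR₁, ht, htnc, hcomm, hdec⟩ := TH1 (p := p) A R hAc hAp hR hAR hnc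
  have hR₁ : ¬ p ∣ Nat.card R₁ := fun h => hR (h.trans (Subgroup.card_dvd_of_le hR₁R))
  exact TH2 hVc hVp A R₁ t hAc hAp hR₁ hAR₁ ht htnc hcomm hdec Z hz1 hz2 hz3

end Cfsg.Agent.S4394P
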