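import Mathlib
import Cfsg.Agent.Helper26.S4395Defs
import Cfsg.Agent.Helper9.NPCSub
import Cfsg.Agent.Helper19.S4395NILPN
import Cfsg.Agent.Helper21.S4395MNPIso

/-! Piece EXcrit of the board `s4395pieces` (helper26, hedge): criterion for minimal non-`p`-nilpotency. -/

set_option autoImplicit false

namespace Cfsg.Agent.S4395P

open Cfsg Cfsg.Agent.S4395P

/-- a `p`-subgroup together with an element centralizing it generate a nilpotent group. -/
theorem EXcrit_aux_nilp {p : ℕ} [Fact p.Prime] {X : Type*} [Group X] [Finite X] (M : Subgroup X)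
    (hM : IsPGroup p M) (w : X) (hw : ∀ m ∈ M, w * m = m * w) :
    Group.IsNilpotent ↥(M ⊔ Subgroup.zpowers w) := by
  classical
  have : Group.IsNilpotent ↥M := hM.isNilpotent
  let _ : CommGroup ↥(Subgroup.zpowers w) :=
    { (inferInstance : Group ↥(Subgroup.zpowers w)) with
      mul_comm := fun a b => (Subgroup.zpowers_isMulCommutative w).is_comm.comm a b }
  have comm : ∀ (m : ↥M) (n : ↥(Subgroup.zpowers w)),
      Commute (M.subtype m) ((Subgroup.zpowers w).subtype n) := by
    intro m n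
    obtain ⟨k, hk⟩ := Subgroup.mem_zpowers_iff.1 n.2
    have h1 : Commute w (m : X) := hw m m.2
    have : Commute (w ^ k) (m : X) := h1.zpow_left k
    simp only [Subgroup.coe_subtype]
    rw [← hk]
    exact this.symm
  let f := MonoidHom.noncommCoprod M.subtype (Subgroup.zpowers w).subtype comm
  have hrange : f.range = M ⊔ Subgroup.zpowers w := by
    rw [MonoidHom.noncommCoprod_range, Subgroup.range_subtype, Subgroup.range_subtype]
  have hmem : ∀ x, f x ∈ M ⊔ Subgroup.zpowers w := by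
    intro x
    rw [← hrange]
    exact ⟨x, rfl⟩
  let f' : ↥M × ↥(Subgroup.zpowers w) →* ↥(M ⊔ Subgroup.zpowers w) := f.codRestrict _ hmem
  have hsurj : Function.Surjective f' := by
    rintro ⟨x, hx⟩
    rw [← hrange] at hx
    obtain ⟨a, rfl⟩ := hx
    exact ⟨a, rfl⟩
  exact Group.nilpotent_of_surjective f' hsurj

/-- subgroups of `M ⊔ ⟨w⟩` as above are `p`-nilpotent. -/
theorem EXcrit_aux_npc {p : ℕ} [Fact p.Prime] {X : Type*} [Group X] [Finite X] (M : Subgroup X)
    (hM : IsPGroup p M) (w : X) (hw : ∀ m ∈ M, w * m = m * w) (K : Subgroup X)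
    (hK : K ≤ M ⊔ Subgroup.zpowers w) : Cfsg.HasNormalPComplement p ↥K := by
  have := EXcrit_aux_nilp M hM w hw
  have h1 : Group.IsNilpotent ↥(K.subgroupOf (M ⊔ Subgroup.zpowers w)) := inferInstance
  have h2 := NILPN (p := p) h1
  exact MNPIso_aux_npc (Subgroup.subgroupOfEquivOfLe hK) h2

/-- powers of `u * y^i` modulo the normal subgroup `P`. -/
theorem EXcrit_aux_pow {X : Type*} [Group X] (P : Subgroup X) (hPn : P.Normal) (y u : X) (hu : u ∈ P)
    (i m : ℕ) : ∃ v ∈ P, (u * y ^ i) ^ m = v * y ^ (i * m) := by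
  induction m with
  | zero => exact ⟨1, P.one_mem, by simp⟩
  | succ m ih =>
    obtain ⟨v, hv, hvm⟩ := ih
    refine ⟨v * (y ^ (i * m) * u * (y ^ (i * m))⁻¹), P.mul_mem hv (hPn.conj_mem u hu _), ?_⟩
    rw [pow_succ, hvm, Nat.mul_succ, pow_add]
    group

theorem EXcrit {p q r : ℕ} [Fact p.Prime] [Fact q.Prime] (hpq : p ≠ q) (hr : 1 ≤ r)
    {X : Type*} [Group X] [Finite X] (P : Subgroup X) (hPn : P.Normal) (hP : IsPGroup p P) (y : X)
    (hy : orderOf y = q ^ r) (hcard : Nat.card X = Nat.card P * q ^ r)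
    (hyq : ∀ u ∈ P, y ^ q * u = u * y ^ q) (hnc : ∃ u ∈ P, y * u ≠ u * y)
    (hirr : ∀ M : Subgroup X, M ≤ P → M ≠ P → (∀ m ∈ M, y * m * y⁻¹ ∈ M) → ∀ m ∈ M, y * m = m * y) :
    MNP p X := by
  classical
  have hp := (Fact.out : p.Prime)
  have hq := (Fact.out : q.Prime)
  have hqp : Nat.Coprime q p := (Nat.coprime_primes hq hp).2 (Ne.symm hpq)
  have hcop : Nat.Coprime (q ^ r) p := Nat.Coprime.pow_left r hqp
  obtain ⟨n, hn⟩ := hP.exists_card_eq
  have hZ : Nat.card (Subgroup.zpowers y) = q ^ r := by rw [Nat.card_zpowers, hy]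
  have hcompl : P.IsComplement' (Subgroup.zpowers y) := by
    apply Subgroup.isComplement'_of_coprime
    · rw [hZ, hcard]
    · rw [hZ, hn]
      exact Nat.Coprime.pow _ _ hqp.symm
  have hdisj : ∀ x ∈ P, x ∈ Subgroup.zpowers y → x = 1 := by
    intro x hx hx'
    have := hcompl.disjoint
    rw [Subgroup.disjoint_def] at this
    exact this hx hx'
  have hdec : ∀ x : X, ∃ u ∈ P, ∃ i : ℕ, x = u * y ^ i := by
    intro x
    obtain ⟨⟨a, b⟩, hab⟩ := hcompl.2 x
    have hb : (b : X) ∈ Submonoid.powers y :=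
      (isOfFinOrder_of_finite y).mem_powers_iff_mem_zpowers.2 b.2
    obtain ⟨i, hi⟩ := (Submonoid.mem_powers_iff _ _).1 hb
    exact ⟨a, a.2, i, by rw [hi]; exact hab.symm⟩
  refine ⟨?_, ?_⟩
  · -- not p-nilpotent
    intro h
    obtain ⟨u, hu, hne⟩ := hnc
    apply hne
    haveI := hPn
    exact Cfsg.Agent.Helper9.commute_of_hasNormalPComplement h P hP y (by rw [hy]; exact hcop) u hu
  · intro K hK
    by_cases hdiv : q ^ r ∣ Nat.card K
    · -- a conjugate of `K` contains `y`
      obtain ⟨Q, hQ⟩ := Sylow.exists_subgroup_card_pow_prime q hdiv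
      have hQ' : Nat.card (Q.map K.subtype) = q ^ r := by
        rw [Subgroup.card_map_of_injective K.subtype_injective, hQ]
      have hidx : ∀ H : Subgroup X, Nat.card H = q ^ r → ¬ q ∣ H.index := by
        intro H hH hd
        have h1 := H.card_mul_index
        rw [hH, hcard, hn, mul_comm] at h1
        have h2 : H.index = p ^ n := Nat.eq_of_mul_eq_mul_right (pow_pos hq.pos r) h1
        rw [h2] at hd
        exact hpq ((Nat.prime_dvd_prime_iff_eq hq hp).1 (hq.dvd_of_dvd_pow hd)).symm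
      let S₁ : Sylow q X := (IsPGroup.of_card hZ).toSylow (hidx _ hZ)
      let S₂ : Sylow q X := (IsPGroup.of_card hQ').toSylow (hidx _ hQ')
      obtain ⟨g, hg⟩ := MulAction.exists_smul_eq X S₁ S₂
      have hyS₁ : y ∈ (S₁ : Subgroup X) := Subgroup.mem_zpowers y
      have hw : g * y * g⁻¹ ∈ K := by
        have h1 : g * y * g⁻¹ ∈ ((g • S₁ : Sylow q X) : Subgroup X) := by
          rw [Sylow.coe_subgroup_smul]
          exact ⟨y, hyS₁, rfl⟩
        rw [hg] at h1
        obtain ⟨k, _, hk⟩ := h1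
        rw [← hk]
        exact k.2
      -- the conjugate subgroup
      let K' : Subgroup X := K.map (MulAut.conj g⁻¹).toMonoidHom
      let e : ↥K ≃* ↥K' := (MulAut.conj g⁻¹).subgroupMap K
      have hyK' : y ∈ K' := by
        refine ⟨g * y * g⁻¹, hw, ?_⟩
        simp only [MulEquiv.coe_toMonoidHom, MulAut.conj_apply, inv_inv]
        group
      have hK' : K' ≠ ⊤ := by
        intro htop
        apply hK
        apply (Subgroup.card_eq_iff_eq_top K).1
        rw [Nat.card_congr e.toEquiv, htop, Subgroup.card_top]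
      have hyiK' : ∀ i : ℕ, y ^ i ∈ K' := fun i => K'.pow_mem hyK' i
      let M : Subgroup X := K' ⊓ P
      have hMP : M ≤ P := inf_le_right
      have hMne : M ≠ P := by
        intro hMeq
        apply hK'
        rw [eq_top_iff, ← hcompl.sup_eq_top, sup_le_iff]
        refine ⟨?_, Subgroup.zpowers_le.2 hyK'⟩
        rw [← hMeq]; exact inf_le_left
      have hMinv : ∀ m ∈ M, y * m * y⁻¹ ∈ M := by
        intro m hm
        exact ⟨K'.mul_mem (K'.mul_mem hyK' hm.1) (K'.inv_mem hyK'), hPn.conj_mem m hm.2 y⟩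
      have hcent := hirr M hMP hMne hMinv
      have hK'le : K' ≤ M ⊔ Subgroup.zpowers y := by
        intro x hx
        obtain ⟨u, hu, i, rfl⟩ := hdec x
        have huK' : u ∈ K' := by
          have := K'.mul_mem hx (K'.inv_mem (hyiK' i))
          rwa [mul_inv_cancel_right] at this
        exact Subgroup.mul_mem_sup (⟨huK', hu⟩ : u ∈ M) (Subgroup.npow_mem_zpowers y i)
      have h1 := EXcrit_aux_npc M (hP.to_le hMP) y hcent K' hK'le
      exact MNPIso_aux_npc e.symm h1
    · -- `K ≤ P ⟨y^q⟩`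
      apply EXcrit_aux_npc P hP (y ^ q) hyq K
      intro k hk
      obtain ⟨u, hu, i, rfl⟩ := hdec k
      have hqi : q ∣ i := by
        by_contra hqi
        apply hdiv
        have hci : Nat.Coprime (q ^ r) i := Nat.Coprime.pow_left r ((Nat.Prime.coprime_iff_not_dvd hq).2 hqi)
        obtain ⟨v, hv, hvm⟩ := EXcrit_aux_pow P hPn y u hu i (orderOf (u * y ^ i))
        rw [pow_orderOf_eq_one] at hvm
        have h1 : y ^ (i * orderOf (u * y ^ i)) = v⁻¹ := eq_inv_of_mul_eq_one_right hvm.symm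
        have h2 : y ^ (i * orderOf (u * y ^ i)) = 1 :=
          hdisj _ (by rw [h1]; exact P.inv_mem hv) (Subgroup.npow_mem_zpowers y _)
        have h3 : q ^ r ∣ i * orderOf (u * y ^ i) := by
          rw [← hy]; exact orderOf_dvd_of_pow_eq_one h2
        have h4 : q ^ r ∣ orderOf (u * y ^ i) := hci.dvd_of_dvd_mul_left h3
        have h5 : orderOf (u * y ^ i) ∣ Nat.card K := by
          have := orderOf_dvd_natCard (⟨u * y ^ i, hk⟩ : K)
          rwa [Subgroup.orderOf_mk] at this
        exact h4.trans h5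
      obtain ⟨j, rfl⟩ := hqi
      rw [pow_mul]
      exact Subgroup.mul_mem_sup hu (Subgroup.npow_mem_zpowers _ j)

end Cfsg.Agent.S4395P
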