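import Mathlib
import Cfsg.Agent.Helper26.S4395Defs
import Cfsg.Agent.Helper26.S4395EXcrit

/-! Piece EXsd of the board `s4395pieces` (helper26): the semidirect product example from EXcrit. -/

set_option autoImplicit false

namespace Cfsg.Agent.S4395P

open Cfsg Cfsg.Agent.S4395P

/-- the action of `Z_n` through powers of an automorphism `θ` with `θ^n = 1`. -/
noncomputable def EXsd_aux_phi {N : Type*} [Group N] (n : ℕ) (θ : MulAut N) (h : θ ^ n = 1) :
    Multiplicative (ZMod n) →* MulAut N :=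
  AddMonoidHom.toMultiplicativeLeft
    (ZMod.lift n ⟨zmultiplesHom (Additive (MulAut N)) (Additive.ofMul θ), by
      rw [zmultiplesHom_apply, natCast_zsmul, ← ofMul_pow, h, ofMul_one]⟩)

theorem EXsd_aux_phi_one {N : Type*} [Group N] (n : ℕ) (θ : MulAut N) (h : θ ^ n = 1) :
    EXsd_aux_phi n θ h (Multiplicative.ofAdd 1) = θ := by
  have h1 : ((1 : ℤ) : ZMod n) = 1 := Int.cast_one
  unfold EXsd_aux_phi
  rw [AddMonoidHom.toMultiplicativeLeft_apply_apply, toAdd_ofAdd, ← h1, ZMod.lift_coe]
  simp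

theorem EXsd {p q r : ℕ} [Fact p.Prime] [Fact q.Prime] (hpq : p ≠ q) (hr : 1 ≤ r)
    {N : Type} [Group N] [Finite N] (hN : IsPGroup p N) (θ : MulAut N) (hθq : θ ^ q = 1) (hθ1 : θ ≠ 1)
    (hirr : ∀ M : Subgroup N, M ≠ ⊤ → (∀ m ∈ M, θ m ∈ M) → ∀ m ∈ M, θ m = m) :
    ∃ (G₀ : Type) (_ : Group G₀) (_ : Finite G₀), MNP p G₀ ∧ Nat.card G₀ = Nat.card N * q ^ r := by
  classical
  have hp := (Fact.out : p.Prime)
  have hq := (Fact.out : q.Prime)
  have : NeZero (q ^ r) := ⟨pow_ne_zero _ hq.ne_zero⟩
  have hθn : θ ^ (q ^ r) = 1 := by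
    obtain ⟨k, rfl⟩ : ∃ k, r = k + 1 := ⟨r - 1, by omega⟩
    rw [pow_succ', pow_mul, hθq, one_pow]
  let φ := EXsd_aux_phi (q ^ r) θ hθn
  let c : Multiplicative (ZMod (q ^ r)) := Multiplicative.ofAdd 1
  have hφc : φ c = θ := EXsd_aux_phi_one (q ^ r) θ hθn
  have hcord : orderOf c = q ^ r := by
    rw [orderOf_ofAdd_eq_addOrderOf, ZMod.addOrderOf_one]
  have hCcard : Nat.card (Multiplicative (ZMod (q ^ r))) = q ^ r := by
    rw [Nat.card_congr Multiplicative.toAdd, Nat.card_zmod]
  let G₀ := N ⋊[φ] Multiplicative (ZMod (q ^ r))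
  have hG₀card : Nat.card G₀ = Nat.card N * q ^ r := by
    rw [SemidirectProduct.card, hCcard]
  have : Finite G₀ := Nat.finite_of_card_ne_zero (by
    rw [hG₀card]; exact mul_ne_zero Nat.card_pos.ne' (pow_ne_zero _ hq.ne_zero))
  let inl : N →* G₀ := SemidirectProduct.inl
  let y : G₀ := SemidirectProduct.inr c
  have hconj : ∀ n : N, y * inl n * y⁻¹ = inl (θ n) := by
    intro n
    have := SemidirectProduct.inl_aut (φ := φ) c n
    rw [hφc, map_inv] at this
    exact this.symm
  have hPcard : Nat.card inl.range = Nat.card N :=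
    (Nat.card_congr (MonoidHom.ofInjective SemidirectProduct.inl_injective).toEquiv).symm
  refine ⟨G₀, inferInstance, inferInstance, ?_, hG₀card⟩
  refine EXcrit hpq hr inl.range ?_ ?_ y ?_ ?_ ?_ ?_ ?_
  · -- normal
    rw [SemidirectProduct.range_inl_eq_ker_rightHom]
    infer_instance
  · -- p-group
    exact hN.of_equiv (MonoidHom.ofInjective SemidirectProduct.inl_injective)
  · -- order of y
    exact (orderOf_injective (SemidirectProduct.inr : _ →* G₀)
      SemidirectProduct.inr_injective c).trans hcord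
  · rw [hG₀card, hPcard]
  · -- y^q centralizes P
    rintro _ ⟨n, rfl⟩
    have h1 : (SemidirectProduct.inr (c ^ q) : G₀) * inl n * (SemidirectProduct.inr (c ^ q))⁻¹ =
        inl n := by
      have := SemidirectProduct.inl_aut (φ := φ) (c ^ q) n
      rw [map_pow, hφc, hθq, map_inv] at this
      exact this.symm
    have h2 : y ^ q = SemidirectProduct.inr (c ^ q) := (map_pow _ c q).symm
    rw [h2]
    calc SemidirectProduct.inr (c ^ q) * inl n
        = (SemidirectProduct.inr (c ^ q) * inl n * (SemidirectProduct.inr (c ^ q))⁻¹) *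
            SemidirectProduct.inr (c ^ q) := (inv_mul_cancel_right _ _).symm
      _ = inl n * SemidirectProduct.inr (c ^ q) := by rw [h1]
  · -- y does not centralize P
    have : ∃ n : N, θ n ≠ n := by
      by_contra hcon
      push Not at hcon
      exact hθ1 (MulEquiv.ext hcon)
    obtain ⟨n, hn⟩ := this
    refine ⟨inl n, ⟨n, rfl⟩, ?_⟩
    intro h
    have h3 : y * inl n * y⁻¹ = inl n := by rw [h]; exact mul_inv_cancel_right _ _
    rw [hconj] at h3
    exact hn (SemidirectProduct.inl_injective h3)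
  · -- irreducibility
    intro M hMP hMne hMinv
    have h1 : M.comap inl ≠ ⊤ := by
      intro htop
      apply hMne
      apply le_antisymm hMP
      rintro _ ⟨n, rfl⟩
      have : n ∈ M.comap inl := by rw [htop]; trivial
      exact this
    have h2 : ∀ m ∈ M.comap inl, θ m ∈ M.comap inl := by
      intro m hm
      change inl (θ m) ∈ M
      rw [← hconj]
      exact hMinv _ hm
    have h3 := hirr (M.comap inl) h1 h2
    intro m hm
    obtain ⟨n, rfl⟩ := hMP hm
    have h4 : y * inl n * y⁻¹ = inl n := by rw [hconj, h3 n hm]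
    calc y * inl n = (y * inl n * y⁻¹) * y := (inv_mul_cancel_right _ _).symm
      _ = inl n * y := by rw [h4]

end Cfsg.Agent.S4395P
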