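import Mathlib
import Cfsg.Agent.Helper26.S4395Defs
import Cfsg.Agent.Helper26.S4395HeisDefs
import Cfsg.Agent.Helper26.S4395EXsd
import Cfsg.Agent.Helper21.S4395EXev1
import Cfsg.Agent.Helper6.S4395EXev2
import Cfsg.Agent.Helper6.S4395EXev3
import Cfsg.Agent.Helper15.S4395FGEN
import Cfsg.Agent.Helper19.S4395ZETA

/-! Piece EXeven of the board `s4395pieces` (helper26): the unitary Heisenberg example. -/

set_option autoImplicit false

namespace Cfsg.Agent.S4395P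

open Cfsg Cfsg.Agent.S4395P

/-- the restriction of `heisTheta` to the unitary subgroup. -/
def heisThetaU {F : Type*} [Field F] {σ : F →+* F} (hσ : ∀ x : F, σ (σ x) = x) (ζ : F)
    (hζ : σ ζ * ζ = 1) : MulAut ↥(heisU F σ hσ) where
  toFun g := ⟨heisTheta ζ hζ g.1, by
    have h := g.2
    rw [mem_heisU] at h ⊢
    simp only [heisTheta_x, heisTheta_z, map_mul]
    have : g.1.z + σ g.1.z + ζ * g.1.x * (σ ζ * σ g.1.x) =
      g.1.z + σ g.1.z + (σ ζ * ζ) * (g.1.x * σ g.1.x) := by ring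
    rw [this, hζ, one_mul]; exact h⟩
  invFun g := ⟨(heisTheta ζ hζ).symm g.1, by
    have h := g.2
    rw [mem_heisU] at h ⊢
    have hx : ((heisTheta ζ hζ).symm g.1).x = σ ζ * g.1.x := rfl
    have hz : ((heisTheta ζ hζ).symm g.1).z = g.1.z := rfl
    rw [hx, hz]
    simp only [map_mul, hσ]
    have : g.1.z + σ g.1.z + σ ζ * g.1.x * (ζ * σ g.1.x) =
      g.1.z + σ g.1.z + (σ ζ * ζ) * (g.1.x * σ g.1.x) := by ring
    rw [this, hζ, one_mul]; exact h⟩
  left_inv g := by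
    apply Subtype.ext
    exact (heisTheta ζ hζ).symm_apply_apply g.1
  right_inv g := by
    apply Subtype.ext
    exact (heisTheta ζ hζ).apply_symm_apply g.1
  map_mul' a b := by
    apply Subtype.ext
    exact map_mul (heisTheta ζ hζ) a.1 b.1

@[simp] theorem heisThetaU_x {F : Type*} [Field F] {σ : F →+* F} (hσ : ∀ x : F, σ (σ x) = x) (ζ : F)
    (hζ : σ ζ * ζ = 1) (g : ↥(heisU F σ hσ)) : (heisThetaU hσ ζ hζ g).1.x = ζ * g.1.x := rfl
@[simp] theorem heisThetaU_z {F : Type*} [Field F] {σ : F →+* F} (hσ : ∀ x : F, σ (σ x) = x) (ζ : F)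
    (hζ : σ ζ * ζ = 1) (g : ↥(heisU F σ hσ)) : (heisThetaU hσ ζ hζ g).1.z = g.1.z := rfl

theorem heisThetaU_pow {F : Type*} [Field F] {σ : F →+* F} (hσ : ∀ x : F, σ (σ x) = x) (ζ : F)
    (hζ : σ ζ * ζ = 1) (k : ℕ) (g : ↥(heisU F σ hσ)) :
    ((heisThetaU hσ ζ hζ ^ k) g).1.x = ζ ^ k * g.1.x ∧ ((heisThetaU hσ ζ hζ ^ k) g).1.z = g.1.z := by
  induction k with
  | zero => simp
  | succ k ih =>
    rw [pow_succ', MulAut.mul_apply]
    refine ⟨?_, ?_⟩
    · rw [heisThetaU_x, ih.1]; ring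
    · rw [heisThetaU_z, ih.2]

theorem EXeven_aux (p q r : ℕ) [Fact p.Prime] [Fact q.Prime] (hpq : p ≠ q) (hr : 1 ≤ r) (b : ℕ)
    (hb : orderOf (p : ZMod q) = 2 * b)
    {F : Type} [Field F] [Finite F] [CharP F p] (hFcard : Nat.card F = p ^ orderOf (p : ZMod q))
    (ζ : F) (hζ : orderOf ζ = q) :
    ∃ (G₀ : Type) (_ : Group G₀) (_ : Finite G₀), MNP p G₀ ∧ Nat.card G₀ = p ^ (3 * b) * q ^ r := by
  classical
  have hp := (Fact.out : p.Prime)
  have hq := (Fact.out : q.Prime)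
  have hFcard2 : Nat.card F = p ^ (2 * b) := by rw [hFcard, hb]
  obtain ⟨hσ, hζ1⟩ := EXev1 p q hpq b hb hFcard2 ζ hζ
  obtain ⟨hUcard, hUsurj, hc⟩ := EXev2 p b hFcard2 hσ
  have hN : IsPGroup p ↥(heisU F (iterateFrobenius F p b) hσ) := IsPGroup.of_card hUcard
  have hfin : Finite ↥(heisU F (iterateFrobenius F p b) hσ) :=
    Nat.finite_of_card_ne_zero (by rw [hUcard]; exact pow_ne_zero _ hp.ne_zero)
  have hζq : ζ ^ q = 1 := orderOf_dvd_iff_pow_eq_one.1 (by rw [hζ])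
  have hθq : heisThetaU hσ ζ hζ1 ^ q = 1 := by
    ext g
    · rw [(heisThetaU_pow hσ ζ hζ1 q g).1, hζq, one_mul]; rfl
    · rw [(heisThetaU_pow hσ ζ hζ1 q g).2]; rfl
  have hζne : ζ ≠ 1 := by
    intro h
    rw [h, orderOf_one] at hζ
    exact hq.one_lt.ne hζ
  have hθ1 : heisThetaU hσ ζ hζ1 ≠ 1 := by
    intro h
    obtain ⟨g, hg, hgx⟩ := hUsurj 1
    have h1 : (heisThetaU hσ ζ hζ1 ⟨g, hg⟩).1.x =
        (⟨g, hg⟩ : ↥(heisU F (iterateFrobenius F p b) hσ)).1.x := by rw [h]; rfl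
    rw [heisThetaU_x] at h1
    simp only [hgx, mul_one] at h1
    exact hζne h1
  have hirr : ∀ M : Subgroup ↥(heisU F (iterateFrobenius F p b) hσ), M ≠ ⊤ →
      (∀ m ∈ M, heisThetaU hσ ζ hζ1 m ∈ M) → ∀ m ∈ M, heisThetaU hσ ζ hζ1 m = m := by
    intro M hM hinv
    -- the projection of `M` to `F`
    let W : AddSubgroup F :=
      { carrier := {x | ∃ g ∈ M, g.1.x = x}
        zero_mem' := ⟨1, M.one_mem, rfl⟩
        add_mem' := by
          rintro x y ⟨g, hg, rfl⟩ ⟨h, hh, rfl⟩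
          exact ⟨g * h, M.mul_mem hg hh, rfl⟩
        neg_mem' := by
          rintro x ⟨g, hg, rfl⟩
          exact ⟨g⁻¹, M.inv_mem hg, rfl⟩ }
    have hW : ∀ w ∈ W, ζ * w ∈ W := by
      rintro w ⟨g, hg, rfl⟩
      exact ⟨heisThetaU hσ ζ hζ1 g, hinv g hg, rfl⟩
    rcases FGEN p q hpq hFcard ζ hζ W hW with hbot | htop
    · intro m hm
      have hx : m.1.x = 0 := by
        have : m.1.x ∈ W := ⟨m, hm, rfl⟩
        rw [hbot] at this
        exact (AddSubgroup.mem_bot).1 this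
      apply Subtype.ext
      ext
      · rw [heisThetaU_x, hx, mul_zero]
      · rfl
    · exfalso
      apply hM
      rw [eq_top_iff]
      intro g _
      have hle : heisU F (iterateFrobenius F p b) hσ ≤
          M.map (heisU F (iterateFrobenius F p b) hσ).subtype := by
        apply EXev3 (iterateFrobenius F p b) hσ hc
        · rintro _ ⟨m, _, rfl⟩
          exact m.2
        · intro x
          have : x ∈ W := by rw [htop]; trivial
          obtain ⟨m, hm, hmx⟩ := this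
          exact ⟨m.1, ⟨m, hm, rfl⟩, hmx⟩
      obtain ⟨m, hm, hmg⟩ := hle g.2
      have : m = g := Subtype.ext hmg
      rw [← this]; exact hm
  obtain ⟨G₀, i1, i2, hmnp, hcard⟩ := EXsd hpq hr hN (heisThetaU hσ ζ hζ1) hθq hθ1 hirr
  exact ⟨G₀, i1, i2, hmnp, by rw [hcard, hUcard]⟩

/-- EXeven (assembly via EXsd, EXev1-3, FGEN, ZETA). -/
theorem EXeven (p q r : ℕ) [Fact p.Prime] [Fact q.Prime] (hpq : p ≠ q) (hr : 1 ≤ r) (b : ℕ)
    (hb : orderOf (p : ZMod q) = 2 * b) :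
    ∃ (G₀ : Type) (_ : Group G₀) (_ : Finite G₀), MNP p G₀ ∧ Nat.card G₀ = p ^ (3 * b) * q ^ r := by
  have hp := (Fact.out : p.Prime)
  have hq := (Fact.out : q.Prime)
  have ha0 : orderOf (p : ZMod q) ≠ 0 := by
    have hu : IsUnit (p : ZMod q) := by
      rw [ZMod.isUnit_iff_coprime]
      exact (Nat.coprime_primes hp hq).2 hpq
    obtain ⟨u, hu⟩ := hu
    have : 0 < orderOf u := orderOf_pos u
    rw [← hu, orderOf_units]
    exact this.ne'
  obtain ⟨ζ, hζ⟩ := ZETA p q hpq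
  exact EXeven_aux p q r hpq hr b hb (GaloisField.card p _ ha0) ζ hζ

end Cfsg.Agent.S4395P
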