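import Mathlib
import Cfsg.Agent.Helper26.S4395Defs
import Cfsg.Agent.Helper26.S4395EXsd
import Cfsg.Agent.Helper15.S4395FGEN
import Cfsg.Agent.Helper19.S4395ZETA

/-! Piece EXodd of the board `s4395pieces` (helper26, hedge): the example with abelian Sylow `p`-subgroup. -/

set_option autoImplicit false

namespace Cfsg.Agent.S4395P

open Cfsg Cfsg.Agent.S4395P

/-- multiplication by a nonzero element as an automorphism of `Multiplicative F`. -/
noncomputable def EXodd_aux_theta {F : Type*} [Field F] (ζ : F) (hζ : ζ ≠ 0) : MulAut (Multiplicative F) where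
  toFun x := Multiplicative.ofAdd (ζ * Multiplicative.toAdd x)
  invFun x := Multiplicative.ofAdd (ζ⁻¹ * Multiplicative.toAdd x)
  left_inv x := by
    change Multiplicative.ofAdd (ζ⁻¹ * (ζ * Multiplicative.toAdd x)) = x
    rw [← mul_assoc, inv_mul_cancel₀ hζ, one_mul]; rfl
  right_inv x := by
    change Multiplicative.ofAdd (ζ * (ζ⁻¹ * Multiplicative.toAdd x)) = x
    rw [← mul_assoc, mul_inv_cancel₀ hζ, one_mul]; rfl
  map_mul' x y := by
    change Multiplicative.ofAdd (ζ * (Multiplicative.toAdd x + Multiplicative.toAdd y)) = _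
    rw [mul_add]; rfl

theorem EXodd_aux_theta_pow {F : Type*} [Field F] (ζ : F) (hζ : ζ ≠ 0) (k : ℕ) (x : Multiplicative F) :
    (EXodd_aux_theta ζ hζ ^ k) x = Multiplicative.ofAdd (ζ ^ k * Multiplicative.toAdd x) := by
  induction k with
  | zero => simp
  | succ k ih =>
    rw [pow_succ', MulAut.mul_apply, ih]
    change Multiplicative.ofAdd (ζ * (ζ ^ k * Multiplicative.toAdd x)) = _
    rw [pow_succ', mul_assoc]

theorem EXodd_aux (p q r : ℕ) [Fact p.Prime] [Fact q.Prime] (hpq : p ≠ q) (hr : 1 ≤ r)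
    {F : Type} [Field F] [Finite F] [CharP F p] (hFcard : Nat.card F = p ^ orderOf (p : ZMod q))
    (ζ : F) (hζ : orderOf ζ = q) :
    ∃ (G₀ : Type) (_ : Group G₀) (_ : Finite G₀), MNP p G₀ ∧
      Nat.card G₀ = p ^ orderOf (p : ZMod q) * q ^ r := by
  classical
  have hq := (Fact.out : q.Prime)
  have hζ0 : ζ ≠ 0 := by
    intro h
    rw [h, orderOf_zero] at hζ
    exact hq.ne_zero hζ.symm
  have hζne : ζ ≠ 1 := by
    intro h
    rw [h, orderOf_one] at hζ
    exact hq.one_lt.ne hζ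
  have hζq : ζ ^ q = 1 := orderOf_dvd_iff_pow_eq_one.1 (by rw [hζ])
  have hNcard : Nat.card (Multiplicative F) = p ^ orderOf (p : ZMod q) := by
    rw [← hFcard]; exact Nat.card_congr Multiplicative.toAdd
  have hN : IsPGroup p (Multiplicative F) := IsPGroup.of_card hNcard
  have hθ1x : ∀ x : Multiplicative F,
      EXodd_aux_theta ζ hζ0 x = Multiplicative.ofAdd (ζ * Multiplicative.toAdd x) := fun x => rfl
  have hθq : EXodd_aux_theta ζ hζ0 ^ q = 1 := by
    ext x
    rw [EXodd_aux_theta_pow, hζq, one_mul]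
    rfl
  have hθ1 : EXodd_aux_theta ζ hζ0 ≠ 1 := by
    intro h
    have h1 : EXodd_aux_theta ζ hζ0 (Multiplicative.ofAdd 1) = Multiplicative.ofAdd 1 := by
      rw [h]; rfl
    rw [hθ1x, toAdd_ofAdd, mul_one] at h1
    exact hζne (Multiplicative.ofAdd.injective h1)
  have hirr : ∀ M : Subgroup (Multiplicative F), M ≠ ⊤ →
      (∀ m ∈ M, EXodd_aux_theta ζ hζ0 m ∈ M) → ∀ m ∈ M, EXodd_aux_theta ζ hζ0 m = m := by
    intro M hM hinv
    let W : AddSubgroup F := Subgroup.toAddSubgroup' M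
    have hW : ∀ w ∈ W, ζ * w ∈ W := by
      intro w hw
      exact hinv (Multiplicative.ofAdd w) hw
    rcases FGEN p q hpq hFcard ζ hζ W hW with hbot | htop
    · intro m hm
      have : Multiplicative.toAdd m ∈ W := hm
      rw [hbot, AddSubgroup.mem_bot] at this
      rw [hθ1x, this, mul_zero]
      exact (Multiplicative.toAdd.injective this).symm
    · exfalso
      apply hM
      rw [eq_top_iff]
      intro m _
      have : Multiplicative.toAdd m ∈ W := by rw [htop]; trivial
      exact this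
  obtain ⟨G₀, i1, i2, hmnp, hcard⟩ := EXsd hpq hr hN (EXodd_aux_theta ζ hζ0) hθq hθ1 hirr
  exact ⟨G₀, i1, i2, hmnp, by rw [hcard, hNcard]⟩

/-- EXodd (L): the example with abelian Sylow `p`-subgroup, of order `p^a q^r`. -/
theorem EXodd (p q r : ℕ) [Fact p.Prime] [Fact q.Prime] (hpq : p ≠ q) (hr : 1 ≤ r) :
    ∃ (G₀ : Type) (_ : Group G₀) (_ : Finite G₀), MNP p G₀ ∧
      Nat.card G₀ = p ^ orderOf (p : ZMod q) * q ^ r := by
  have hp := (Fact.out : p.Prime)
  have hq := (Fact.out : q.Prime)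
  have ha0 : orderOf (p : ZMod q) ≠ 0 := by
    have hu : IsUnit (p : ZMod q) := by
      rw [ZMod.isUnit_iff_coprime]
      exact (Nat.coprime_primes hp hq).2 hpq
    exact (orderOf_pos_iff.mpr hu.isOfFinOrder).ne'
  obtain ⟨ζ, hζ⟩ := ZETA p q hpq
  exact EXodd_aux p q r hpq hr (GaloisField.card p _ ha0) ζ hζ

end Cfsg.Agent.S4395P
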