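import Mathlib
import Cfsg.Agent.Helper26.S4395Defs
import Cfsg.Agent.Helper26.S4395EXodd
import Cfsg.Agent.Helper26.S4395EXeven

/-! Assembly EX of the board `s4395pieces` (helper26): an example of order `p^a₀ q^r`. -/

set_option autoImplicit false
universe u

namespace Cfsg.Agent.S4395P

open Cfsg Cfsg.Agent.S4395P Cfsg.Agent.S4394P

theorem EX (p q r : ℕ) [Fact p.Prime] [Fact q.Prime] (hpq : p ≠ q) (hr : 1 ≤ r) (a a₀ : ℕ)
    (ha : a = orderOf (p : ZMod q)) (ha₀ : a₀ = if a % 2 = 1 then a else 3 * a / 2) :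
    ∃ (G₀ : Type) (_ : Group G₀) (_ : Finite G₀), MNP p G₀ ∧ Nat.card G₀ = p ^ a₀ * q ^ r := by
  by_cases hodd : a % 2 = 1
  · rw [if_pos hodd] at ha₀
    subst ha₀
    subst ha
    exact EXodd p q r hpq hr
  · rw [if_neg hodd] at ha₀
    have h2 : a % 2 = 0 := by omega
    obtain ⟨b, hb⟩ : ∃ b, a = 2 * b := ⟨a / 2, by omega⟩
    have ha₀' : a₀ = 3 * b := by rw [ha₀, hb]; omega
    rw [ha₀']
    exact EXeven p q r hpq hr b (by rw [← ha, hb])

end Cfsg.Agent.S4395P
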