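import Mathlib
import Cfsg.Agent.Helper26.S4395Defs
import Cfsg.Agent.Helper8.S4395FIBa
import Cfsg.Agent.Helper8.S4395FIBc
import Cfsg.Agent.Helper17.S4395FIBd

/-! Assembly FIB of the board `s4395pieces` (helper26): the fibre product cover. -/

set_option autoImplicit false
universe u

namespace Cfsg.Agent.S4395P

open Cfsg Cfsg.Agent.S4395P Cfsg.Agent.S4394P

theorem FIB (p q r : ℕ) [Fact p.Prime] [Fact q.Prime] (hpq : p ≠ q)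
    {F : Type*} [Field F] (ζ : F)
    {X₁ X₂ : Type u} [Group X₁] [Finite X₁] [Group X₂] [Finite X₂]
    (P₁ : Subgroup X₁) (y₁ : X₁) (lam₁ : X₁ → F) (h₁ : NFData p q r ζ P₁ y₁ lam₁)
    (P₂ : Subgroup X₂) (y₂ : X₂) (lam₂ : X₂ → F) (h₂ : NFData p q r ζ P₂ y₂ lam₂) :
    ∃ (X₃ : Type u) (_ : Group X₃) (_ : Finite X₃) (ψ₁ : X₃ →* X₁) (ψ₂ : X₃ →* X₂),
      MNP p X₃ ∧ (∃ t : ℕ, Nat.card X₃ = p ^ t * q ^ r) ∧
      Function.Surjective ψ₁ ∧ ψ₁.ker ≤ Subgroup.center X₃ ∧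
      Function.Surjective ψ₂ ∧ ψ₂.ker ≤ Subgroup.center X₃ := by
  obtain ⟨Γ, hΓ⟩ := FIBa p q r ζ P₁ y₁ lam₁ h₁ P₂ y₂ lam₂ h₂
  set X₃ : Subgroup (X₁ × X₂) :=
    ⁅Γ, Subgroup.zpowers ((y₁, y₂) : X₁ × X₂)⁆ ⊔ Subgroup.zpowers ((y₁, y₂) : X₁ × X₂) with hX₃
  obtain ⟨hc, ⟨t, ht⟩, hs₁, hs₂, hk₁, hk₂⟩ := FIBc p q r hpq ζ P₁ y₁ lam₁ h₁ P₂ y₂ lam₂ h₂ Γ hΓ X₃ hX₃
  have hM := FIBd p q r hpq ζ P₁ y₁ lam₁ h₁ P₂ y₂ lam₂ h₂ Γ hΓ X₃ hX₃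
  refine ⟨↥X₃, inferInstance, inferInstance, (MonoidHom.fst X₁ X₂).comp X₃.subtype,
    (MonoidHom.snd X₁ X₂).comp X₃.subtype, hM, ⟨t, by rw [hc, ht]⟩, ?_, ?_, ?_, ?_⟩
  · intro x
    have : x ∈ X₃.map (MonoidHom.fst X₁ X₂) := by rw [hs₁]; trivial
    obtain ⟨g, hg, rfl⟩ := this
    exact ⟨⟨g, hg⟩, rfl⟩
  · intro g hg
    rw [MonoidHom.mem_ker] at hg
    rw [Subgroup.mem_center_iff]
    intro x
    apply Subtype.ext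
    have := hk₁ g.1 g.2 hg x.1
    simpa using this.symm
  · intro x
    have : x ∈ X₃.map (MonoidHom.snd X₁ X₂) := by rw [hs₂]; trivial
    obtain ⟨g, hg, rfl⟩ := this
    exact ⟨⟨g, hg⟩, rfl⟩
  · intro g hg
    rw [MonoidHom.mem_ker] at hg
    rw [Subgroup.mem_center_iff]
    intro x
    apply Subtype.ext
    have := hk₂ g.1 g.2 hg x.1
    simpa using this.symm

end Cfsg.Agent.S4395P
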