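import Mathlib
import Cfsg.Agent.Helper26.S4395Defs
import Cfsg.Agent.Helper3.S4395NF1
import Cfsg.Agent.Helper14.S4395M1
import Cfsg.Agent.Helper20.S4395NF2

/-! Assembly NF of the board `s4395pieces` (helper26): normal form of a minimal non-`p`-nilpotent group. -/

set_option autoImplicit false
universe u

namespace Cfsg.Agent.S4395P

open Cfsg Cfsg.Agent.S4395P Cfsg.Agent.S4394P

theorem NF (p q r : ℕ) [Fact p.Prime] [Fact q.Prime] (hpq : p ≠ q)
    {F : Type*} [Field F] [Finite F] [CharP F p] (hF : Nat.card F = p ^ orderOf (p : ZMod q))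
    (ζ : F) (hζ : orderOf ζ = q)
    {X : Type*} [Group X] [Finite X] (hX : MNP p X) (t : ℕ) (hcard : Nat.card X = p ^ t * q ^ r) :
    ∃ (P : Subgroup X) (y : X) (lam : X → F), NFData p q r ζ P y lam := by
  obtain ⟨P, y, hmnn, hPn, hs, hc, hord, hgen, hyq⟩ := NF1 p q r hpq hX t hcard
  obtain ⟨j, lam, hj, hadd, hsurj, hker, hequiv⟩ := M1 p q hpq hF ζ hζ P y hPn hs hyq
  obtain ⟨k, hk⟩ := NF2 p q r hpq ζ hζ P y hmnn hPn hs hc hord hgen hyq j lam hj hadd hsurj hker hequiv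
  exact ⟨P, y ^ k, lam, hk⟩

end Cfsg.Agent.S4395P
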