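import Mathlib
import Cfsg.Agent.Helper5.S4607Defs

set_option autoImplicit false

/-! # S4607, piece LOCAL: a local corner `A = k e ⊕ N` (`N` nilpotent) with
`dim A = dim [A,A] + 2` has dimension two. -/

namespace Cfsg.Agent.S4607P

open Cfsg

section Ring

universe u v

variable {k : Type u} {B : Type v} [Field k] [Ring B] [Algebra k B]

namespace LOCAL

theorem e_mul_of_mem {e : B} (he : e * e = e) {a : B} (ha : a ∈ corner k e) : e * a = a := by
  have h : e * a * e = a := ha
  calc e * a = e * (e * a * e) := by rw [h]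
    _ = (e * e) * a * e := by simp only [mul_assoc]
    _ = a := by rw [he, h]

theorem mul_e_of_mem {e : B} (he : e * e = e) {a : B} (ha : a ∈ corner k e) : a * e = a := by
  have h : e * a * e = a := ha
  calc a * e = (e * a * e) * e := by rw [h]
    _ = e * a * (e * e) := by simp only [mul_assoc]
    _ = a := by rw [he, h]

/-- commutators of the corner are commutators of `N` -/
theorem comm_eq {e : B} (he : e * e = e) (N : Submodule k B)
    (hsplit : ∀ a ∈ corner k e, ∃ c : k, a - c • e ∈ N) (a b : B) (ha : a ∈ corner k e)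
    (hb : b ∈ corner k e) : ∃ y ∈ N, ∃ y' ∈ N, a * b - b * a = y * y' - y' * y := by
  obtain ⟨c, hc⟩ := hsplit a ha
  obtain ⟨c', hc'⟩ := hsplit b hb
  refine ⟨_, hc, _, hc', ?_⟩
  have ha1 := e_mul_of_mem he ha
  have ha2 := mul_e_of_mem he ha
  have hb1 := e_mul_of_mem he hb
  have hb2 := mul_e_of_mem he hb
  simp only [mul_sub, sub_mul, smul_mul_assoc, mul_smul_comm, ha1, ha2, hb1, hb2, he]
  module

/-- powers of a multiplicatively closed subspace decrease -/
theorem pow_succ_le (N : Submodule k B) (hNN : N * N ≤ N) (j : ℕ) : N ^ (j + 2) ≤ N ^ (j + 1) := by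
  induction j with
  | zero =>
    rw [zero_add, pow_one, pow_two]
    exact hNN
  | succ j ih =>
    rw [Submodule.pow_succ (n := j + 2), Submodule.pow_succ (n := j + 1)]
    exact mul_le_mul' ih le_rfl

/-- nilpotency in terms of powers of submodules -/
theorem pow_eq_bot (N : Submodule k B) (m : ℕ)
    (hm : ∀ L : List B, (∀ x ∈ L, x ∈ N) → L.length = m → L.prod = 0) : N ^ m = ⊥ := by
  rw [eq_bot_iff, Submodule.pow_eq_span_pow_set, Submodule.span_le]
  intro z hz
  rw [Set.mem_pow] at hz
  obtain ⟨f, rfl⟩ := hz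
  rw [SetLike.mem_coe, Submodule.mem_bot]
  apply hm
  · intro x hx
    rw [List.mem_ofFn] at hx
    obtain ⟨i, rfl⟩ := hx
    exact (f i).2
  · rw [List.length_ofFn]

end LOCAL

/-- LOCAL: a local corner `A = k e ⊕ N` (`N` nilpotent) with `dim A = dim [A,A] + 2` has
dimension two -/
theorem finrank_corner_eq_two [FiniteDimensional k B] (e : B) (he : e * e = e)
    (N : Submodule k B) (hN : N ≤ corner k e)
    (hsplit : ∀ a ∈ corner k e, ∃ c : k, a - c • e ∈ N)
    (hmul : ∀ x ∈ N, ∀ y ∈ N, x * y ∈ N)
    (hnil : ∃ m : ℕ, ∀ L : List B, (∀ x ∈ L, x ∈ N) → L.length = m → L.prod = 0)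
    (hcodim : Module.finrank k (corner k e) = Module.finrank k (cornerComm k e) + 2) :
    Module.finrank k (corner k e) = 2 := by
  obtain ⟨m, hm⟩ := hnil
  -- nilpotency with exponent `m + 1`
  have hm1 : ∀ L : List B, (∀ x ∈ L, x ∈ N) → L.length = m + 1 → L.prod = 0 := by
    intro L hL hlen
    cases L with
    | nil => simp at hlen
    | cons a L' =>
      rw [List.prod_cons, hm L' (fun x hx => hL x (List.mem_cons_of_mem _ hx)) (by simpa using hlen),
        mul_zero]
  have hpow : N ^ (m + 1) = ⊥ := LOCAL.pow_eq_bot N (m + 1) hm1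
  have hNN : N * N ≤ N := Submodule.mul_le.mpr hmul
  -- it suffices to show that `N` is commutative
  suffices hcomm : ∀ y ∈ N, ∀ y' ∈ N, y * y' = y' * y by
    have hbot : cornerComm k e = ⊥ := by
      rw [eq_bot_iff, cornerComm, Submodule.span_le]
      rintro x ⟨a, b, ha, hb, rfl⟩
      obtain ⟨y, hy, y', hy', h⟩ := LOCAL.comm_eq he N hsplit a b ha hb
      rw [SetLike.mem_coe, Submodule.mem_bot, h, hcomm y hy y' hy', sub_self]
    rw [hcodim, hbot, finrank_bot]
  -- `e ≠ 0` and `e ∉ N`
  have heA : e ∈ corner k e := by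
    show e * e * e = e
    rw [he, he]
  have he0 : e ≠ 0 := by
    intro h0
    have hA : corner k e = ⊥ := by
      rw [eq_bot_iff]
      intro a ha
      have : e * a * e = a := ha
      rw [h0, zero_mul, zero_mul] at this
      rw [Submodule.mem_bot, ← this]
    rw [hA, finrank_bot] at hcodim
    omega
  have heN : e ∉ N := by
    intro h
    apply he0
    have h1 := hm1 (List.replicate (m + 1) e)
      (fun x hx => by rw [List.eq_of_mem_replicate hx]; exact h) (List.length_replicate ..)
    rw [List.prod_replicate, IsIdempotentElem.pow_succ_eq m he] at h1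
    exact h1
  have hlt : N < corner k e := lt_of_le_of_ne hN (fun h => heN (h ▸ heA))
  have hfin1 : Module.finrank k N < Module.finrank k (corner k e) :=
    Submodule.finrank_lt_finrank_of_lt hlt
  -- `[A, A] ≤ N * N`
  have hcomm_le : cornerComm k e ≤ N * N := by
    rw [cornerComm, Submodule.span_le]
    rintro x ⟨a, b, ha, hb, rfl⟩
    obtain ⟨y, hy, y', hy', h⟩ := LOCAL.comm_eq he N hsplit a b ha hb
    rw [SetLike.mem_coe, h]
    exact Submodule.sub_mem _ (Submodule.mul_mem_mul hy hy') (Submodule.mul_mem_mul hy' hy)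
  have hfin2 : Module.finrank k (cornerComm k e) ≤ Module.finrank k ↥(N * N) :=
    Submodule.finrank_mono hcomm_le
  have hfin3 : Module.finrank k N ≤ Module.finrank k ↥(N * N) + 1 := by omega
  by_cases hcase : N * N = N
  · -- `N = N ^ j` for all `j`, so `N = 0`
    have hle : ∀ j : ℕ, N ≤ N ^ (j + 1) := by
      intro j
      induction j with
      | zero => rw [zero_add, pow_one]
      | succ j ih =>
        rw [Submodule.pow_succ (n := j + 1)]
        calc N = N * N := hcase.symm
          _ ≤ N ^ (j + 1) * N := mul_le_mul' ih le_rfl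
    have hN0 : N = ⊥ := by
      rw [eq_bot_iff, ← hpow]
      exact hle m
    intro y hy y' hy'
    rw [hN0, Submodule.mem_bot] at hy hy'
    rw [hy, hy']
  · -- pick `x ∈ N ∖ N²`
    have hlt2 : N * N < N := lt_of_le_of_ne hNN hcase
    obtain ⟨x, hxN, hxNN⟩ := SetLike.exists_of_lt hlt2
    have hW : (k ∙ x) ⊔ N * N = N := by
      have hWle : (k ∙ x) ⊔ N * N ≤ N :=
        sup_le ((Submodule.span_singleton_le_iff_mem x N).mpr hxN) hNN
      have hWlt : N * N < (k ∙ x) ⊔ N * N := by
        refine lt_of_le_of_ne le_sup_right (fun h => hxNN ?_)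
        rw [h]
        exact Submodule.mem_sup_left (Submodule.mem_span_singleton_self x)
      have h1 := Submodule.finrank_lt_finrank_of_lt hWlt
      exact Submodule.eq_of_le_of_finrank_le hWle (by omega)
    -- `N ^ (j+1) ≤ span {x ^ (j+1)} ⊔ N ^ (j+2)`
    have hP : ∀ j : ℕ, N ^ (j + 1) ≤ (k ∙ (x ^ (j + 1))) ⊔ N ^ (j + 2) := by
      intro j
      induction j with
      | zero =>
        rw [zero_add, pow_one, pow_one, pow_two, hW]
      | succ j ih =>
        have hx1 : (k ∙ (x ^ (j + 1))) ≤ N ^ (j + 1) :=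
          (Submodule.span_singleton_le_iff_mem _ _).mpr (Submodule.pow_mem_pow N hxN (j + 1))
        have hx2 : (k ∙ x) ≤ N := (Submodule.span_singleton_le_iff_mem x N).mpr hxN
        have hN2 : N * N = N ^ 2 := (pow_two N).symm
        calc N ^ (j + 1 + 1) = N ^ (j + 1) * N := Submodule.pow_succ N
          _ ≤ ((k ∙ (x ^ (j + 1))) ⊔ N ^ (j + 2)) * ((k ∙ x) ⊔ N * N) := by
            rw [hW]
            exact mul_le_mul' ih le_rfl
          _ = (k ∙ (x ^ (j + 1))) * (k ∙ x) ⊔ N ^ (j + 2) * (k ∙ x) ⊔
              ((k ∙ (x ^ (j + 1))) * (N * N) ⊔ N ^ (j + 2) * (N * N)) := by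
            rw [Submodule.mul_sup, Submodule.sup_mul, Submodule.sup_mul]
          _ ≤ (k ∙ (x ^ (j + 1 + 1))) ⊔ N ^ (j + 1 + 2) := by
            refine sup_le (sup_le ?_ ?_) (sup_le ?_ ?_)
            · rw [Submodule.span_mul_span, Set.singleton_mul_singleton, ← pow_succ]
              exact le_sup_left
            · refine le_trans ?_ le_sup_right
              calc N ^ (j + 2) * (k ∙ x) ≤ N ^ (j + 2) * N := mul_le_mul' le_rfl hx2
                _ = N ^ (j + 1 + 2) := (Submodule.pow_succ N).symm
            · refine le_trans ?_ le_sup_right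
              calc (k ∙ (x ^ (j + 1))) * (N * N) ≤ N ^ (j + 1) * (N * N) :=
                    mul_le_mul' hx1 le_rfl
                _ = N ^ (j + 1 + 2) := by rw [hN2, ← pow_add]
            · refine le_trans ?_ le_sup_right
              calc N ^ (j + 2) * (N * N) ≤ N ^ (j + 2) * N := mul_le_mul' le_rfl hNN
                _ = N ^ (j + 1 + 2) := (Submodule.pow_succ N).symm
    -- `N ≤ k[x] ⊔ N ^ (j+1)`
    have hxT : ∀ j : ℕ, (k ∙ (x ^ (j + 1))) ≤ Subalgebra.toSubmodule (Algebra.adjoin k {x}) := by
      intro j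
      rw [Submodule.span_singleton_le_iff_mem]
      exact Subalgebra.pow_mem _ (Algebra.self_mem_adjoin_singleton k x) _
    have hQ : ∀ j : ℕ, N ≤ Subalgebra.toSubmodule (Algebra.adjoin k {x}) ⊔ N ^ (j + 1) := by
      intro j
      induction j with
      | zero =>
        rw [zero_add, pow_one]
        exact le_sup_right
      | succ j ih =>
        refine le_trans ih (sup_le le_sup_left ?_)
        refine le_trans (hP j) (sup_le ?_ le_sup_right)
        exact le_trans (hxT j) le_sup_left
    have hNT : N ≤ Subalgebra.toSubmodule (Algebra.adjoin k {x}) := by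
      have := hQ m
      rwa [hpow, sup_bot_eq] at this
    intro y hy y' hy'
    have hy1 : y ∈ Algebra.adjoin k {x} := hNT hy
    have hy2 : y' ∈ Algebra.adjoin k {x} := hNT hy'
    have h1 : Commute x y := Algebra.commute_of_mem_adjoin_self hy1
    exact (Algebra.commute_of_mem_adjoin_singleton_of_commute hy2 h1.symm).eq

end Ring

end Cfsg.Agent.S4607P
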