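import Mathlib
import Cfsg.Agent.Helper5.S4607Defs

set_option autoImplicit false

/-! # S4607, piece PEIRCE: for a unit system `e, u, v` of `B`, `dim B = (n+1)² dim (e 0 B e 0)`. -/

namespace Cfsg.Agent.S4607P

open Cfsg

section Ring

universe u v

variable {k : Type u} {B : Type v} [Field k] [Ring B] [Algebra k B]

namespace PEIRCE

variable {n : ℕ} {e u v : Fin (n + 1) → B}

theorem e_idem (h : IsUnitSystem e u v) (i : Fin (n + 1)) : e i * e i = e i := by
  have := h.orth i i
  rwa [if_pos rfl] at this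

theorem e_mul_u (h : IsUnitSystem e u v) (i : Fin (n + 1)) : e i * u i = u i := by
  calc e i * u i = e i * (e i * u i * e 0) := by rw [h.u_mem]
    _ = (e i * e i) * u i * e 0 := by simp only [mul_assoc]
    _ = u i := by rw [e_idem h, h.u_mem]

theorem u_mul_e (h : IsUnitSystem e u v) (i : Fin (n + 1)) : u i * e 0 = u i := by
  calc u i * e 0 = (e i * u i * e 0) * e 0 := by rw [h.u_mem]
    _ = e i * u i * (e 0 * e 0) := by simp only [mul_assoc]
    _ = u i := by rw [e_idem h, h.u_mem]

theorem e_mul_v (h : IsUnitSystem e u v) (i : Fin (n + 1)) : e 0 * v i = v i := by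
  calc e 0 * v i = e 0 * (e 0 * v i * e i) := by rw [h.v_mem]
    _ = (e 0 * e 0) * v i * e i := by simp only [mul_assoc]
    _ = v i := by rw [e_idem h, h.v_mem]

theorem v_mul_e (h : IsUnitSystem e u v) (i : Fin (n + 1)) : v i * e i = v i := by
  calc v i * e i = (e 0 * v i * e i) * e i := by rw [h.v_mem]
    _ = e 0 * v i * (e i * e i) := by simp only [mul_assoc]
    _ = v i := by rw [e_idem h, h.v_mem]

theorem v_mul_u (h : IsUnitSystem e u v) (i j : Fin (n + 1)) :
    v i * u j = if i = j then e 0 else 0 := by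
  calc v i * u j = (v i * e i) * (e j * u j) := by rw [v_mul_e h, e_mul_u h]
    _ = v i * (e i * e j) * u j := by simp only [mul_assoc]
    _ = if i = j then e 0 else 0 := by
      rw [h.orth]
      split_ifs with hij
      · subst hij
        rw [v_mul_e h, h.vu]
      · rw [mul_zero, zero_mul]

theorem mem_corner_vbu (h : IsUnitSystem e u v) (i j : Fin (n + 1)) (b : B) :
    v i * b * u j ∈ corner k (e 0) := by
  rw [mem_corner]
  calc e 0 * (v i * b * u j) * e 0 = (e 0 * v i) * b * (u j * e 0) := by simp only [mul_assoc]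
    _ = v i * b * u j := by rw [e_mul_v h, u_mul_e h]

variable (k) in
/-- `b ↦ (v i * b * u j)` -/
noncomputable def toCorner (h : IsUnitSystem e u v) :
    B →ₗ[k] (Fin (n + 1) × Fin (n + 1) → corner k (e 0)) :=
  LinearMap.pi fun ij =>
    (LinearMap.mulLeft k (v ij.1) ∘ₗ LinearMap.mulRight k (u ij.2)).codRestrict (corner k (e 0))
      (fun b => by
        have := mem_corner_vbu (k := k) h ij.1 ij.2 b
        simpa [mul_assoc] using this)

variable (k) in
/-- `(a i j) ↦ ∑ u i * a i j * v j` -/
noncomputable def ofCorner (e u v : Fin (n + 1) → B) :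
    (Fin (n + 1) × Fin (n + 1) → corner k (e 0)) →ₗ[k] B :=
  ∑ ij : Fin (n + 1) × Fin (n + 1),
    (LinearMap.mulLeft k (u ij.1) ∘ₗ LinearMap.mulRight k (v ij.2)) ∘ₗ
      (corner k (e 0)).subtype ∘ₗ LinearMap.proj ij

theorem toCorner_apply (h : IsUnitSystem e u v) (b : B) (ij : Fin (n + 1) × Fin (n + 1)) :
    ((toCorner k h b ij : corner k (e 0)) : B) = v ij.1 * b * u ij.2 := by
  simp [toCorner, mul_assoc]

theorem ofCorner_apply (a : Fin (n + 1) × Fin (n + 1) → corner k (e 0)) :
    ofCorner k e u v a = ∑ ij : Fin (n + 1) × Fin (n + 1), u ij.1 * (a ij : B) * v ij.2 := by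
  simp [ofCorner, mul_assoc]

theorem ofCorner_toCorner (h : IsUnitSystem e u v) (b : B) :
    ofCorner k e u v (toCorner k h b) = b := by
  rw [ofCorner_apply]
  simp only [toCorner_apply]
  rw [Fintype.sum_prod_type]
  have h1 : ∀ i j : Fin (n + 1), u i * (v i * b * u j) * v j = e i * b * e j := by
    intro i j
    calc u i * (v i * b * u j) * v j = (u i * v i) * b * (u j * v j) := by
          simp only [mul_assoc]
      _ = e i * b * e j := by rw [h.uv, h.uv]
  simp only [h1]
  simp only [← Finset.mul_sum, ← Finset.sum_mul, h.complete, mul_one, one_mul]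

theorem toCorner_ofCorner (h : IsUnitSystem e u v)
    (a : Fin (n + 1) × Fin (n + 1) → corner k (e 0)) :
    toCorner k h (ofCorner k e u v a) = a := by
  funext kl
  apply Subtype.ext
  rw [toCorner_apply, ofCorner_apply, Finset.mul_sum, Finset.sum_mul]
  rw [Finset.sum_eq_single kl]
  · have ha : e 0 * (a kl : B) * e 0 = (a kl : B) := (a kl).2
    calc v kl.1 * (u kl.1 * (a kl : B) * v kl.2) * u kl.2
        = (v kl.1 * u kl.1) * (a kl : B) * (v kl.2 * u kl.2) := by simp only [mul_assoc]
      _ = (a kl : B) := by rw [h.vu, h.vu, ha]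
  · intro ij _ hne
    have : v kl.1 * (u ij.1 * (a ij : B) * v ij.2) * u kl.2 =
        (v kl.1 * u ij.1) * (a ij : B) * (v ij.2 * u kl.2) := by simp only [mul_assoc]
    rw [this, v_mul_u h, v_mul_u h]
    by_cases h1 : kl.1 = ij.1
    · by_cases h2 : ij.2 = kl.2
      · exact absurd (Prod.ext h1.symm h2) hne
      · rw [if_neg h2, mul_zero]
    · rw [if_neg h1, zero_mul, zero_mul]
  · intro hkl
    exact absurd (Finset.mem_univ kl) hkl

end PEIRCE

variable (k) in
/-- PEIRCE: `dim B = (n+1)² dim (e 0 B e 0)` -/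
theorem finrank_eq_sq_mul_corner [FiniteDimensional k B] {n : ℕ} (e u v : Fin (n + 1) → B)
    (h : IsUnitSystem e u v) :
    Module.finrank k B = (n + 1) ^ 2 * Module.finrank k (corner k (e 0)) := by
  have hequiv : B ≃ₗ[k] (Fin (n + 1) × Fin (n + 1) → corner k (e 0)) :=
    LinearEquiv.ofLinearMap (PEIRCE.toCorner k h) (PEIRCE.ofCorner k e u v)
      (LinearMap.ext fun a => PEIRCE.toCorner_ofCorner h a)
      (LinearMap.ext fun b => PEIRCE.ofCorner_toCorner h b)
  rw [LinearEquiv.finrank_eq hequiv, Module.finrank_pi_fintype, Finset.sum_const, Finset.card_univ,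
    Fintype.card_prod, Fintype.card_fin, smul_eq_mul, sq]

end Ring

end Cfsg.Agent.S4607P
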