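import Mathlib
import Cfsg.Prelude.Def_FusionSystem
import Cfsg.Agent.Helper18.S5113Defs

set_option autoImplicit false

/-! Piece R2 of S5113 (driver helper18): conjugation by an element of `Cen a` between subgroups
of `S` is a map of `F`. -/

namespace Cfsg.Agent.S5113P

open Cfsg Cfsg.FusionSystem Cfsg.Agent.Helper25 Cfsg.Agent.Helper25.Park Cfsg.Agent.Helper26.CB

universe u

variable {Ω : Type u} [Group Ω] {S : Subgroup Ω} {X : Type u}

/-- R2: conjugation by an element of `Cen a` between subgroups of `S` is a map of `F`. -/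
theorem R2 (a : ↥(S.prod S) →* Equiv.Perm X) (x₀ : X) (F : FusionSystem S)
    (hTD : ∀ x, TD F (stab a x)) (hx₀ : ∀ k ∈ graphSub (1 : MulAut ↥S), a k x₀ = x₀)
    (g : ↥(Cen a)) {P : Subgroup Ω} (hP : P ≤ S) (φ : P →* Ω) (hφS : ∀ x, φ x ∈ S)
    (hg : ∀ x : P, iota a ⟨φ x, hφS x⟩ = g * iota a ⟨(x : Ω), hP x.2⟩ * g⁻¹) :
    φ ∈ F.Hom P := by
  set y : X := ((g⁻¹ : ↥(Cen a)) : Equiv.Perm X) x₀ with hy
  have hmem : ∀ x : P, mkH S (⟨(x : Ω), hP x.2⟩, ⟨φ x, hφS x⟩) ∈ stab a y := by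
    intro x
    set u : ↥S := ⟨(x : Ω), hP x.2⟩ with hu
    set v : ↥S := ⟨φ x, hφS x⟩ with hv
    rw [mem_stab, ← lAct_mul_rAct, Equiv.Perm.mul_apply, hy, Cen_comm a g⁻¹ v x₀]
    have h2 : lAct a v = (g : Equiv.Perm X) * lAct a u * ((g⁻¹ : ↥(Cen a)) : Equiv.Perm X) := by
      have := congrArg (Subtype.val) (hg x)
      simpa [coe_iota] using this
    have h3 : lAct a u * ((g⁻¹ : ↥(Cen a)) : Equiv.Perm X) =
        ((g⁻¹ : ↥(Cen a)) : Equiv.Perm X) * lAct a v := by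
      rw [h2]
      simp [mul_assoc]
    have h4 : lAct a v (rAct a v x₀) = x₀ := by
      rw [← Equiv.Perm.mul_apply, lAct_mul_rAct]
      apply hx₀
      rw [mem_graphSub]
      rfl
    calc lAct a u (((g⁻¹ : ↥(Cen a)) : Equiv.Perm X) (rAct a v x₀))
        = (lAct a u * ((g⁻¹ : ↥(Cen a)) : Equiv.Perm X)) (rAct a v x₀) := rfl
      _ = (((g⁻¹ : ↥(Cen a)) : Equiv.Perm X) * lAct a v) (rAct a v x₀) := by rw [h3]
      _ = ((g⁻¹ : ↥(Cen a)) : Equiv.Perm X) (lAct a v (rAct a v x₀)) := rfl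
      _ = ((g⁻¹ : ↥(Cen a)) : Equiv.Perm X) x₀ := by rw [h4]
  obtain ⟨Q, ψ, hψ, hall⟩ := hTD y
  have hPQ : P ≤ Q := by
    intro z hz
    obtain ⟨hq, -⟩ := hall _ (hmem ⟨z, hz⟩)
    exact hq
  have heq : φ = ψ.comp (Subgroup.inclusion hPQ) := by
    ext x
    obtain ⟨hq, he⟩ := hall _ (hmem x)
    exact he.symm
  rw [heq]
  exact restrict_mem F hPQ hψ

end Cfsg.Agent.S5113P

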