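import Mathlib
import Cfsg.Prelude.Def_GeometricClasses
import Cfsg.Agent.Helper29.S5655.Defs
import Cfsg.Agent.Helper29.S5655BGEO1
import Cfsg.Agent.Helper18.S5655BLINE

/-! # S5655, half `k ≥ 2`, piece PAB: `AllA` gives one anisotropic pair -/

set_option autoImplicit false

namespace Cfsg.Agent.S5655P

open Matrix Module
open Cfsg.Agent.S2644 Cfsg.Agent.Helper2.SUGen Cfsg.Agent.Helper28.SimMax Cfsg.Agent.S5658P

variable {K : Type*} [Field K] {q n t k : ℕ}

local notation "h" => Cfsg.hermForm n K q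
local notation "T" => Cfsg.unitaryTransvection n q

/-- an element not fixed by the Frobenius involution -/
theorem PAB.exists_moved (D : Frob K q) : ∃ θ : K, D.σ θ ≠ θ := by
  by_contra hcon
  push Not at hcon
  exact D.ne_id (RingHom.ext hcon)

/-- the norm of `γ • x + ξ • x'` for a hyperbolic pair `x, x'` -/
theorem PAB.norm_comb (D : Frob K q) {x x' : Fin n → K} (hxx : h x x = 0) (hxx' : h x' x' = 0)
    (h1 : h x x' = 1) (h2 : h x' x = 1) (γ ξ : K) :
    h (γ • x + ξ • x') (γ • x + ξ • x') = γ * D.σ ξ + ξ * D.σ γ := by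
  rw [h_add_left, h_add_right D, h_add_right D, h_smul_left, h_smul_left, h_smul_left, h_smul_left,
    h_smul_right D, h_smul_right D, h_smul_right D, h_smul_right D, hxx, hxx', h1, h2]
  ring

/-- the norm of a sum -/
theorem PAB.norm_add (D : Frob K q) (X Y : Fin n → K) :
    h (X + Y) (X + Y) = h X X + h X Y + h Y X + h Y Y := by
  rw [h_add_left, h_add_right D, h_add_right D]
  ring

/-- piece PAB (M): hyperbolic pairs `x, x* ∈ B a`, `y, y* ∈ B b`; `u = x + y`, `u' = x* + θ • y*` with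
`σ θ ≠ θ`; `γ = s / (1 + σ θ)`, `s ≠ 0` skew; `γ • u + u'` (LINE) has block norms `Tr γ ≠ 0`, `-Tr γ`. -/
theorem PAB.oneB_of_allA [Fintype K] (D : Frob K q) (hK : Fintype.card K = q ^ 2)
    {B : Fin t → Submodule K (Fin n → K)} (hB : UD q k B)
    {M : Subgroup (Matrix.GeneralLinearGroup (Fin n) K)} (hM : Over q B M) {a b : Fin t}
    (hab : a ≠ b) (hA : AllA D B M a b) :
    ∃ x ∈ B a, ∃ y ∈ B b, h x x + h y y = 0 ∧ h x x ≠ 0 ∧ x + y ∈ SS D M := by
  have hk2 : ∀ i, 2 ≤ finrank K (B i) := fun i => by rw [hB.finrank_eq]; exact hB.two_le_k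
  obtain ⟨x, hx, hxx, hx0⟩ := GEO1.exists_iso D hK (hB.nd a) (hk2 a)
  obtain ⟨y, hy, hyy, hy0⟩ := GEO1.exists_iso D hK (hB.nd b) (hk2 b)
  obtain ⟨x', hx', hxx', hxx'1, hx'x1⟩ := GEO1.exists_partner D hK (hB.nd a) (hk2 a) hx hxx hx0
  obtain ⟨y', hy', hyy', hyy'1, hy'y1⟩ := GEO1.exists_partner D hK (hB.nd b) (hk2 b) hy hyy hy0
  obtain ⟨s, hs0, hs⟩ := exists_skew D
  obtain ⟨θ, hθ⟩ := PAB.exists_moved D
  have h1θ : 1 + D.σ θ ≠ 0 := by
    intro h0
    have e : D.σ θ = -1 := by linear_combination h0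
    have e' : θ = -1 := by
      have := congrArg D.σ e
      rw [D.invol, map_neg, map_one] at this
      exact this
    exact hθ (by rw [e, e'])
  have h1θ' : 1 + θ ≠ 0 := by
    intro h0
    apply h1θ
    have := congrArg D.σ h0
    rw [map_add, map_one, map_zero] at this
    exact this
  set γ : K := s / (1 + D.σ θ) with hγ
  have hσγ : D.σ γ = -s / (1 + θ) := by
    rw [hγ, map_div₀, hs, map_add, map_one, D.invol]
  have hu : x + y ∈ SS D M := hA x hx y hy hxx hyy
  have hθy' : h (θ • y') (θ • y') = 0 := by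
    rw [h_smul_left, h_smul_right D, hyy', mul_zero, mul_zero]
  have hu' : x' + θ • y' ∈ SS D M := hA x' hx' (θ • y') (Submodule.smul_mem _ _ hy') hxx' hθy'
  have o1 : ∀ u ∈ B a, ∀ v ∈ B b, h u v = 0 := hB.orth a b hab
  have o2 : ∀ u ∈ B b, ∀ v ∈ B a, h u v = 0 := hB.orth b a hab.symm
  have huu' : h (x + y) (x' + θ • y') = 1 + D.σ θ := by
    rw [h_add_left, h_add_right D, h_add_right D, h_smul_right D, h_smul_right D, hxx'1, hyy'1,
      o1 x hx y' hy', o2 y hy x' hx']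
    ring
  have hX : γ • x + (1 : K) • x' ∈ B a :=
    Submodule.add_mem _ (Submodule.smul_mem _ _ hx) (Submodule.smul_mem _ _ hx')
  have hY : γ • y + θ • y' ∈ B b :=
    Submodule.add_mem _ (Submodule.smul_mem _ _ hy) (Submodule.smul_mem _ _ hy')
  have nX : h (γ • x + (1 : K) • x') (γ • x + (1 : K) • x') = γ + D.σ γ := by
    rw [PAB.norm_comb D hxx hxx' hxx'1 hx'x1, map_one]; ring
  have nY : h (γ • y + θ • y') (γ • y + θ • y') = γ * D.σ θ + θ * D.σ γ :=
    PAB.norm_comb D hyy hyy' hyy'1 hy'y1 γ θ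
  have hsum : (γ + D.σ γ) + (γ * D.σ θ + θ * D.σ γ) = 0 := by
    rw [hσγ, hγ]
    field_simp
    ring
  have hne : γ + D.σ γ ≠ 0 := by
    rw [hσγ, hγ]
    have e : s / (1 + D.σ θ) + -s / (1 + θ) = s * (θ - D.σ θ) / ((1 + D.σ θ) * (1 + θ)) := by
      field_simp
      ring
    rw [e]
    exact div_ne_zero (mul_ne_zero hs0 (sub_ne_zero.2 (Ne.symm hθ))) (mul_ne_zero h1θ h1θ')
  have hvec : γ • (x + y) + (1 : K) • (x' + θ • y') =
      (γ • x + (1 : K) • x') + (γ • y + θ • y') := by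
    rw [smul_add, smul_add, one_smul, one_smul]
    abel
  have key : h (γ • (x + y) + (1 : K) • (x' + θ • y')) (γ • (x + y) + (1 : K) • (x' + θ • y')) = 0 := by
    rw [hvec, PAB.norm_add D, nX, nY, o1 _ hX _ hY, o2 _ hY _ hX]
    linear_combination hsum
  have hmem := LINE.mem D hM hu hu' (by rw [huu']; exact h1θ) γ 1 key
  rw [hvec] at hmem
  exact ⟨_, hX, _, hY, by rw [nX, nY]; exact hsum, by rw [nX]; exact hne, hmem⟩

end Cfsg.Agent.S5655P
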