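import Mathlib
import Cfsg.Prelude.Def_GeometricClasses
import Cfsg.Agent.Helper29.S5655.Defs
import Cfsg.Agent.Helper29.S5655BGEO1

/-! # S5655, half `k ≥ 2`, piece PROPER: a special isometry that does not permute the blocks -/

set_option autoImplicit false

namespace Cfsg.Agent.S5655P

open Matrix Module
open Cfsg.Agent.S2644 Cfsg.Agent.Helper2.SUGen Cfsg.Agent.Helper28.SimMax Cfsg.Agent.S5658P

variable {K : Type*} [Field K] {q n t k : ℕ}

local notation "h" => Cfsg.hermForm n K q
local notation "T" => Cfsg.unitaryTransvection n q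

/-- piece PROPER (M): `T (x + y) s`, `x ∈ B 0`, `y ∈ B 1` nonzero isotropic, `s ≠ 0` skew, sends the
partner `x*` to `x* + s • (x + y)`, which is in no block. -/
theorem PROPER.exists [Fintype K] (D : Frob K q) (hK : Fintype.card K = q ^ 2)
    {B : Fin t → Submodule K (Fin n → K)} (hB : UD q k B) :
    ∃ A : Matrix (Fin n) (Fin n) K, Pres (q := q) A ∧ A.det = 1 ∧ ¬ StabM B A := by
  have ht := hB.two_le_t
  obtain ⟨i0, i1, h01⟩ : ∃ i0 i1 : Fin t, i0 ≠ i1 :=
    ⟨⟨0, by omega⟩, ⟨1, by omega⟩, by simp [Fin.ext_iff]⟩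
  have hk2 : ∀ i, 2 ≤ finrank K (B i) := fun i => by rw [hB.finrank_eq]; exact hB.two_le_k
  obtain ⟨x, hx, hxx, hx0⟩ := GEO1.exists_iso D hK (hB.nd i0) (hk2 i0)
  obtain ⟨y, hy, hyy, hy0⟩ := GEO1.exists_iso D hK (hB.nd i1) (hk2 i1)
  obtain ⟨x', hx', hxx', hxx'1, hx'x1⟩ := GEO1.exists_partner D hK (hB.nd i0) (hk2 i0) hx hxx hx0
  obtain ⟨s, hs0, hs⟩ := exists_skew D
  have hxy : h x y = 0 := hB.orth i0 i1 h01 x hx y hy
  have hyx : h y x = 0 := hB.orth i1 i0 h01.symm y hy x hx
  have hvv : h (x + y) (x + y) = 0 := by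
    rw [h_add_left, h_add_right D, h_add_right D, hxx, hxy, hyx, hyy]; ring
  refine ⟨T (x + y) s, pres_T D hvv hs, det_T D hvv s, ?_⟩
  rintro ⟨π, hπ⟩
  have hmem := hπ i0 x' hx'
  rw [T_mulVec] at hmem
  have hx'y : h x' y = 0 := hB.orth i0 i1 h01 x' hx' y hy
  have e1 : h x' (x + y) = 1 := by rw [h_add_right D, hx'x1, hx'y, add_zero]
  rw [e1, mul_one] at hmem
  by_cases hj : π i0 = i1
  · -- the `B i0`-component `x' + s • x` would be orthogonal to `B i0`
    rw [hj] at hmem
    have hz : x' + s • x = 0 := by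
      apply hB.nd i0 _ (Submodule.add_mem _ hx' (Submodule.smul_mem _ _ hx))
      intro w hw
      have e0 := hB.orth i1 i0 h01.symm _ hmem w hw
      have hyw : h y w = 0 := hB.orth i1 i0 h01.symm y hy w hw
      rw [smul_add, h_add_left, h_add_left, h_smul_left, h_smul_left, hyw, mul_zero,
        add_zero] at e0
      rw [h_add_left, h_smul_left]
      exact e0
    have e2 : h (x' + s • x) x = 1 := by
      rw [h_add_left, h_smul_left, hx'x1, hxx, mul_zero, add_zero]
    rw [hz, h_zero_left] at e2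
    exact zero_ne_one e2
  · -- the `B i1`-component `s • y` would be orthogonal to `B i1`
    apply hy0
    apply hB.nd i1 y hy
    intro w hw
    have e0 := hB.orth (π i0) i1 hj _ hmem w hw
    have hx'w : h x' w = 0 := hB.orth i0 i1 h01 x' hx' w hw
    have hxw : h x w = 0 := hB.orth i0 i1 h01 x hx w hw
    rw [smul_add, h_add_left, h_add_left, h_smul_left, h_smul_left, hx'w, hxw, mul_zero,
      zero_add, zero_add] at e0
    exact (mul_eq_zero.1 e0).resolve_left hs0

end Cfsg.Agent.S5655P
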