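import Mathlib
import Cfsg.Prelude.Def_ClassicalGeometry
import Cfsg.Agent.Helper1.S5956Defs
import Cfsg.Agent.Helper18.S5961NDSUB
import Cfsg.Agent.Helper10.S5961ORTHC

/-! S5956 piece INVOL4 (driver helper1): characteristic 2, `X` an involutory isometry of a
nondegenerate alternating space with `B v (X v) = 0` and `2 dim ker (X - 1) = dim V`: every
invariant nondegenerate subspace has dimension divisible by 4. -/

set_option autoImplicit false
open scoped MatrixGroups
universe u
namespace Cfsg.Agent.S5956P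
open Polynomial Cfsg.Agent.Helper2.SympInvol Cfsg.Agent.Helper2.SympUnits Cfsg.Agent.S5961P
  Cfsg.Agent.S5955P Cfsg.Agent.Helper2.InvolComb

namespace INVOL4

variable {F V : Type*} [Field F] [AddCommGroup V] [Module F V]

/-- `(X - 1)^2 = 0` in characteristic 2 -/
lemma sq_zero [CharP F 2] (X : Module.End F V) (hXX : ∀ v, X (X v) = v) (v : V) :
    (X - 1) ((X - 1) v) = 0 := by
  have h2 : (2 : F) = 0 := by
    have := CharP.cast_eq_zero F 2
    simpa using this
  have hvv : ∀ w : V, w + w = 0 := by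
    intro w
    rw [← two_smul F w, h2, zero_smul]
  simp only [LinearMap.sub_apply, Module.End.one_apply, map_sub, hXX]
  have h1 := hvv v
  have h3 := hvv (X v)
  have : v - X v - (X v - v) = (v + v) - (X v + X v) := by abel
  rw [this, h1, h3, sub_zero]

/-- invariant subspaces have dimension at most twice that of their fixed space -/
lemma finrank_le_two_mul [CharP F 2] [FiniteDimensional F V] (X : Module.End F V)
    (hXX : ∀ v, X (X v) = v) (M : Submodule F V) (hM : M.map X ≤ M) :
    Module.finrank F ↥M ≤ 2 * Module.finrank F ↥(M ⊓ LinearMap.ker (X - 1)) := by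
  obtain ⟨f, hf⟩ : ∃ f : ↥M →ₗ[F] V, f = (X - 1).domRestrict M := ⟨_, rfl⟩
  have hrn := LinearMap.finrank_range_add_finrank_ker f
  have hker : Module.finrank F ↥(LinearMap.ker f) =
      Module.finrank F ↥(M ⊓ LinearMap.ker (X - 1)) := by
    have h1 : LinearMap.ker f = (LinearMap.ker (X - 1)).comap M.subtype := by
      ext m
      simp [hf, LinearMap.domRestrict_apply]
    rw [h1, ← Submodule.finrank_map_subtype_eq M ((LinearMap.ker (X - 1)).comap M.subtype),
      Submodule.map_comap_subtype]
  have hrange : Module.finrank F ↥(LinearMap.range f) ≤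
      Module.finrank F ↥(M ⊓ LinearMap.ker (X - 1)) := by
    apply Submodule.finrank_mono
    rintro _ ⟨m, rfl⟩
    refine ⟨?_, ?_⟩
    · have h1 : f m = X (m : V) - (m : V) := by
        rw [hf, LinearMap.domRestrict_apply]; simp
      rw [h1]
      exact M.sub_mem (hM (Submodule.mem_map_of_mem m.2)) m.2
    · show (X - 1) (f m) = 0
      rw [hf, LinearMap.domRestrict_apply]
      exact sq_zero X hXX _
  omega

end INVOL4

set_option linter.unusedVariables false in
/-- INVOL4: an involution (characteristic 2) with `B v (X v) = 0` and fixed space of half the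
dimension: invariant nondegenerate subspaces have dimension divisible by 4 -/
theorem four_dvd_of_invol {F V : Type*} [Field F] [CharP F 2] [AddCommGroup V] [Module F V]
    [FiniteDimensional F V] (B : LinearMap.BilinForm F V) (halt : ∀ v, B v v = 0)
    (hnd : Nondeg B ⊤) (X : Module.End F V) (hX : ∀ u v, B (X u) (X v) = B u v)
    (hXX : ∀ v, X (X v) = v) (hq : ∀ v, B v (X v) = 0)
    (hker : 2 * Module.finrank F (LinearMap.ker (X - 1)) = Module.finrank F V)
    (W : Submodule F V) (hW : W.map X ≤ W) (hWnd : Nondeg B W) :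
    4 ∣ Module.finrank F ↥W := by
  classical
  obtain ⟨K, hK⟩ : ∃ K : Submodule F V, K = LinearMap.ker (X - 1) := ⟨_, rfl⟩
  have hXinj : Function.Injective X := Function.LeftInverse.injective (g := X) hXX
  obtain ⟨hcompl, -, -, -, hinv, -⟩ := orth_compl B halt W hWnd
  have hW'inv : (B.orthogonal W).map X ≤ B.orthogonal W := hinv X hX hXinj hW
  -- (a)
  have ha1 := INVOL4.finrank_le_two_mul X hXX W hW
  have ha2 := INVOL4.finrank_le_two_mul X hXX (B.orthogonal W) hW'inv
  -- (b)
  have hsum : Module.finrank F ↥W + Module.finrank F ↥(B.orthogonal W) = Module.finrank F V :=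
    Submodule.finrank_add_eq_of_isCompl hcompl
  have hdisj : (W ⊓ LinearMap.ker (X - 1)) ⊓ (B.orthogonal W ⊓ LinearMap.ker (X - 1)) = ⊥ := by
    rw [eq_bot_iff]
    rintro v ⟨⟨h1, -⟩, ⟨h2, -⟩⟩
    have : v ∈ W ⊓ B.orthogonal W := ⟨h1, h2⟩
    rw [hcompl.inf_eq_bot] at this
    exact this
  have hsup := Submodule.finrank_sup_add_finrank_inf_eq (W ⊓ LinearMap.ker (X - 1))
    (B.orthogonal W ⊓ LinearMap.ker (X - 1))
  rw [hdisj, finrank_bot, add_zero] at hsup
  have hle : Module.finrank F ↥((W ⊓ LinearMap.ker (X - 1)) ⊔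
      (B.orthogonal W ⊓ LinearMap.ker (X - 1))) ≤ Module.finrank F ↥(LinearMap.ker (X - 1)) :=
    Submodule.finrank_mono (sup_le inf_le_right inf_le_right)
  have hWeq : Module.finrank F ↥W = 2 * Module.finrank F ↥(W ⊓ LinearMap.ker (X - 1)) := by
    omega
  -- (c) the form β(u,v) = B(u, (X-1) v)
  obtain ⟨β, hβ⟩ : ∃ β : LinearMap.BilinForm F V, β = B.compl₂ (X - 1) := ⟨_, rfl⟩
  have hβapp : ∀ u v, β u v = B u ((X - 1) v) := by
    intro u v; rw [hβ]; rfl
  have hβalt : ∀ v, β v v = 0 := by
    intro v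
    rw [hβapp]
    simp only [LinearMap.sub_apply, Module.End.one_apply, map_sub, hq, halt, sub_zero]
  have hadj : ∀ u v, B u ((X - 1) v) = B ((X - 1) u) v := by
    intro u v
    simp only [LinearMap.sub_apply, Module.End.one_apply, map_sub]
    have : B u (X v) = B (X u) v := by
      rw [← hX u (X v), hXX]
    rw [this]
  -- complement of W ⊓ K inside W
  obtain ⟨P, hP⟩ : ∃ P : Submodule F ↥W, P = (LinearMap.ker (X - 1)).comap W.subtype := ⟨_, rfl⟩
  obtain ⟨Q, hPQ⟩ := Submodule.exists_isCompl P
  have hPQsum : Module.finrank F ↥P + Module.finrank F ↥Q = Module.finrank F ↥W :=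
    Submodule.finrank_add_eq_of_isCompl hPQ
  have hPfin : Module.finrank F ↥P = Module.finrank F ↥(W ⊓ LinearMap.ker (X - 1)) := by
    rw [hP, ← Submodule.finrank_map_subtype_eq W ((LinearMap.ker (X - 1)).comap W.subtype),
      Submodule.map_comap_subtype]
  have hQfin : Module.finrank F ↥(Q.map W.subtype) = Module.finrank F ↥Q :=
    Submodule.finrank_map_subtype_eq W Q
  have hQnd : Nondeg β (Q.map W.subtype) := by
    rintro _ ⟨q, hq1, rfl⟩ hq0
    have hq0' : q ≠ 0 := by
      intro h; apply hq0; rw [h]; simp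
    have hNq : (X - 1) (q : V) ≠ 0 := by
      intro h
      have hqP : q ∈ P := by
        rw [hP]; exact h
      have : q ∈ P ⊓ Q := ⟨hqP, hq1⟩
      rw [hPQ.inf_eq_bot] at this
      exact hq0' this
    have hNqW : (X - 1) (q : V) ∈ W := by
      have h1 : (X - 1) (q : V) = X (q : V) - (q : V) := by simp
      rw [h1]
      exact W.sub_mem (hW (Submodule.mem_map_of_mem q.2)) q.2
    obtain ⟨v, hvW, hv⟩ := hWnd _ hNqW hNq
    have hvtop : (⟨v, hvW⟩ : ↥W) ∈ P ⊔ Q := by
      rw [hPQ.sup_eq_top]; exact Submodule.mem_top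
    obtain ⟨p, hp, q', hq', hpq⟩ := Submodule.mem_sup.mp hvtop
    refine ⟨(q' : V), Submodule.mem_map_of_mem hq', ?_⟩
    have hv_eq : v = (p : V) + (q' : V) := by
      have := congrArg (fun w : ↥W => (w : V)) hpq
      simpa using this.symm
    have hpK : (X - 1) (p : V) = 0 := by
      rw [hP] at hp; exact hp
    show β (W.subtype q) (q' : V) ≠ 0
    rw [hβapp]
    have h1 : B ((X - 1) (q : V)) v = B (q : V) ((X - 1) (q' : V)) := by
      rw [← hadj, hv_eq, map_add, hpK, zero_add]
    rw [Submodule.subtype_apply, ← h1]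
    exact hv
  have hev := (exists_nondeg_sub β hβalt _ hQnd).1
  obtain ⟨c, hc⟩ := hev
  exact ⟨c, by omega⟩

end Cfsg.Agent.S5956P
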