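import Mathlib
import Cfsg.Agent.Helper21.S5949CYCMAIN
import Cfsg.Agent.Helper21.S5950SEMI

set_option autoImplicit false

/-! S5958, piece SUBCOMPL: invariant complementary subspaces `U`, `W` with prescribed
`dim U = a' + c b'` and prescribed fixed space of `W`. -/

namespace Cfsg.Agent.S5958P

open Polynomial Cfsg.Agent.S5949P

namespace SUBCOMPL

variable {F V : Type*} [Field F] [AddCommGroup V] [Module F V]

/-- the fixed space of `y` splits along invariant complementary subspaces -/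
theorem finrank_fixed_split [FiniteDimensional F V] (y : Module.End F V) (U W : Submodule F V)
    (hUW : IsCompl U W) (hU : U.map y ≤ U) (hW : W.map y ≤ W) :
    Module.finrank F ↥(U ⊓ LinearMap.ker (y - 1)) + Module.finrank F ↥(W ⊓ LinearMap.ker (y - 1)) =
      Module.finrank F (LinearMap.ker (y - 1)) := by
  have hdisj : (U ⊓ LinearMap.ker (y - 1)) ⊓ (W ⊓ LinearMap.ker (y - 1)) = ⊥ := by
    rw [eq_bot_iff]
    intro v hv
    have h1 : v ∈ U := hv.1.1
    have h2 : v ∈ W := hv.2.1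
    have : v ∈ U ⊓ W := ⟨h1, h2⟩
    rw [hUW.disjoint.eq_bot] at this
    exact this
  have hsup : (U ⊓ LinearMap.ker (y - 1)) ⊔ (W ⊓ LinearMap.ker (y - 1)) = LinearMap.ker (y - 1) := by
    apply le_antisymm
    · exact sup_le inf_le_right inf_le_right
    · intro v hv
      have hv' : y v = v := by
        rw [LinearMap.mem_ker, LinearMap.sub_apply, sub_eq_zero] at hv
        exact hv
      have htop : v ∈ U ⊔ W := by rw [hUW.sup_eq_top]; exact Submodule.mem_top
      obtain ⟨u, hu, w, hw, rfl⟩ := Submodule.mem_sup.mp htop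
      have hyu : y u ∈ U := hU ⟨u, hu, rfl⟩
      have hyw : y w ∈ W := hW ⟨w, hw, rfl⟩
      rw [map_add] at hv'
      -- `y u - u = w - y w ∈ U ⊓ W = ⊥`
      have hd : y u - u = w - y w := by
        have : y u + y w - (u + y w) = u + w - (u + y w) := by rw [hv']
        calc y u - u = y u + y w - (u + y w) := by abel
          _ = u + w - (u + y w) := this
          _ = w - y w := by abel
      have hmem : y u - u ∈ U ⊓ W :=
        ⟨U.sub_mem hyu hu, by rw [hd]; exact W.sub_mem hw hyw⟩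
      rw [hUW.disjoint.eq_bot, Submodule.mem_bot] at hmem
      have hu1 : y u = u := sub_eq_zero.mp hmem
      have hw1 : y w = w := by
        rw [hmem] at hd
        exact (sub_eq_zero.mp hd.symm).symm
      have hu2 : u ∈ LinearMap.ker (y - 1) := by
        rw [LinearMap.mem_ker, LinearMap.sub_apply, hu1]; simp
      have hw2 : w ∈ LinearMap.ker (y - 1) := by
        rw [LinearMap.mem_ker, LinearMap.sub_apply, hw1]; simp
      exact Submodule.add_mem_sup (Submodule.mem_inf.mpr ⟨hu, hu2⟩)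
        (Submodule.mem_inf.mpr ⟨hw, hw2⟩)
  have := Submodule.finrank_sup_add_finrank_inf_eq (U ⊓ LinearMap.ker (y - 1))
    (W ⊓ LinearMap.ker (y - 1))
  rw [hdisj, finrank_bot, add_zero, hsup] at this
  exact this.symm

end SUBCOMPL

/-- SUBCOMPL (uses S5949P.cyc_main internals, chain_invariant, exists_invariant_compl) -/
theorem sub_compl {F V : Type*} [Field F] [Fintype F] [AddCommGroup V] [Module F V]
    [FiniteDimensional F V] {p : ℕ} [Fact p.Prime] [CharP F p] (r : ℕ) [Fact r.Prime] (hrp : r ≠ p)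
    (y : Module.End F V) (hy : y ^ r = 1) (a' b' : ℕ)
    (ha' : a' ≤ Module.finrank F (LinearMap.ker (y - 1)))
    (hb' : Module.finrank F (LinearMap.ker (y - 1)) +
      orderOf ((Fintype.card F : ℕ) : ZMod r) * b' ≤ Module.finrank F V) :
    ∃ U W : Submodule F V, IsCompl U W ∧ U.map y ≤ U ∧ W.map y ≤ W ∧
      Module.finrank F U = a' + orderOf ((Fintype.card F : ℕ) : ZMod r) * b' ∧
      Module.finrank F ↥(W ⊓ LinearMap.ker (y - 1)) + a' =
        Module.finrank F (LinearMap.ker (y - 1)) := by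
  obtain ⟨i, hi⟩ : ∃ i : ℕ, i = orderOf ((Fintype.card F : ℕ) : ZMod r) := ⟨_, rfl⟩
  rw [← hi] at hb' ⊢
  have hadd := CYC.finrank_add r hrp y hy
  have hb'' : b' * i ≤ Module.finrank F (LinearMap.ker (aeval y (cyclotomic r F))) := by
    rw [mul_comm]; omega
  have h0 : aeval (y.restrict (CYC.ker_invariant y (cyclotomic r F))) (cyclotomic r F) = 0 :=
    Basic.aeval_restrict_eq_zero y _ _ _ (fun v hv => LinearMap.mem_ker.1 hv)
  obtain ⟨W2', hW2inv, hW2dim⟩ :=
    (chain_invariant (y.restrict (CYC.ker_invariant y (cyclotomic r F))) (cyclotomic r F) h0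
      i (fun μ hμ hdvd => by
        rw [hi]; exact natDegree_of_dvd_cyclotomic r hrp μ hμ hdvd)).2.2 b' hb''
  obtain ⟨W1, hW1le, hW1dim⟩ := Basic.exists_submodule_le_finrank_eq (LinearMap.ker (y - 1)) a' ha'
  obtain ⟨W2, hW2⟩ : ∃ W2, W2 = W2'.map (LinearMap.ker (aeval y (cyclotomic r F))).subtype :=
    ⟨_, rfl⟩
  have hW2le : W2 ≤ LinearMap.ker (aeval y (cyclotomic r F)) := by
    rw [hW2]
    rintro _ ⟨w, _, rfl⟩
    exact w.2
  have hW2dim' : Module.finrank F W2 = b' * i := by
    rw [hW2, Submodule.finrank_map_subtype_eq, hW2dim]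
  have hCN := (CYC.decomp r hrp y hy).disjoint
  have hdisj : W1 ⊓ W2 = ⊥ := (hCN.mono hW1le hW2le).eq_bot
  have hUinv : (W1 ⊔ W2).map y ≤ W1 ⊔ W2 := by
    rw [Submodule.map_sup]
    apply sup_le_sup
    · rintro _ ⟨v, hv, rfl⟩
      have := hW1le hv
      rw [LinearMap.mem_ker, LinearMap.sub_apply, sub_eq_zero] at this
      rw [this]; exact hv
    · rw [hW2]
      rintro _ ⟨_, ⟨w, hw, rfl⟩, rfl⟩
      exact ⟨_, hW2inv ⟨w, hw, rfl⟩, rfl⟩
  have hUdim : Module.finrank F ↥(W1 ⊔ W2) = a' + i * b' := by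
    have := Submodule.finrank_sup_add_finrank_inf_eq W1 W2
    rw [hdisj, finrank_bot, add_zero, hW1dim, hW2dim'] at this
    rw [this, mul_comm]
  -- the invariant complement
  have hrF : (r : F) ≠ 0 := by
    intro h
    have hdvd : p ∣ r := (CharP.cast_eq_zero_iff F p r).1 h
    exact hrp ((Nat.prime_dvd_prime_iff_eq (Fact.out : p.Prime) (Fact.out : r.Prime)).1 hdvd).symm
  obtain ⟨W, hUW, hWinv⟩ := exists_invariant_compl y r 1 one_ne_zero hrF
    (by rw [hy, one_smul]) (W1 ⊔ W2) hUinv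
  refine ⟨W1 ⊔ W2, W, hUW, hUinv, hWinv, hUdim, ?_⟩
  have hsplit := SUBCOMPL.finrank_fixed_split y (W1 ⊔ W2) W hUW hUinv hWinv
  have hUC : (W1 ⊔ W2) ⊓ LinearMap.ker (y - 1) = W1 := by
    apply le_antisymm
    · intro v hv
      obtain ⟨hv1, hv2⟩ := hv
      obtain ⟨w1, hw1, w2, hw2, rfl⟩ := Submodule.mem_sup.mp hv1
      have hw2C : w2 ∈ LinearMap.ker (y - 1) := by
        have : w2 = (w1 + w2) - w1 := by abel
        rw [this]
        exact Submodule.sub_mem _ hv2 (hW1le hw1)
      have hw20 : w2 ∈ LinearMap.ker (y - 1) ⊓ LinearMap.ker (aeval y (cyclotomic r F)) :=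
        ⟨hw2C, hW2le hw2⟩
      rw [hCN.eq_bot, Submodule.mem_bot] at hw20
      rw [hw20, add_zero]
      exact hw1
    · exact le_inf le_sup_left hW1le
  rw [hUC, hW1dim] at hsplit
  omega

end Cfsg.Agent.S5958P
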