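import Mathlib

set_option autoImplicit false
open scoped MatrixGroups

/-! S5958, piece NTGL: a prime `r ≠ p` dividing `|GL_n(q)|` has `ord_r(q) ≤ n`. -/

namespace Cfsg.Agent.S5958P

/-- NTGL -/
theorem order_le_of_dvd_card_GL {F : Type*} [Field F] [Fintype F] {p : ℕ} [Fact p.Prime]
    [CharP F p] (r : ℕ) [Fact r.Prime] (hrp : r ≠ p) (n : ℕ)
    (h : r ∣ Nat.card (GL (Fin n) F)) : orderOf ((Fintype.card F : ℕ) : ZMod r) ≤ n := by
  have hr : r.Prime := Fact.out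
  have hp : p.Prime := Fact.out
  rw [Matrix.card_GL_field] at h
  obtain ⟨i, _, hi⟩ := (Nat.Prime.prime hr).exists_mem_finset_dvd h
  obtain ⟨q, hq⟩ : ∃ q, q = Fintype.card F := ⟨_, rfl⟩
  rw [← hq] at hi ⊢
  have hrq : ¬ r ∣ q := by
    intro hd
    obtain ⟨k, _, hk⟩ := FiniteField.card F p
    rw [hq, hk] at hd
    have := hr.dvd_of_dvd_pow hd
    exact hrp ((Nat.prime_dvd_prime_iff_eq hr hp).mp this)
  have hq1 : 1 ≤ q := by
    rw [hq]
    exact Fintype.card_pos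
  have hin : (i : ℕ) < n := i.isLt
  have hfac : q ^ n - q ^ (i : ℕ) = q ^ (i : ℕ) * (q ^ (n - (i : ℕ)) - 1) := by
    rw [Nat.mul_sub, mul_one, ← pow_add]
    congr 2
    omega
  rw [hfac] at hi
  have hco : Nat.Coprime r (q ^ (i : ℕ)) :=
    Nat.Coprime.pow_right _ ((Nat.Prime.coprime_iff_not_dvd hr).mpr hrq)
  have hd : r ∣ q ^ (n - (i : ℕ)) - 1 := hco.dvd_of_dvd_mul_left hi
  have hpow : ((q : ℕ) : ZMod r) ^ (n - (i : ℕ)) = 1 := by
    have h0 : ((q ^ (n - (i : ℕ)) - 1 : ℕ) : ZMod r) = 0 := (ZMod.natCast_eq_zero_iff _ _).mpr hd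
    rw [Nat.cast_sub (Nat.one_le_pow _ _ hq1), Nat.cast_pow, Nat.cast_one, sub_eq_zero] at h0
    exact h0
  have hdvd := orderOf_dvd_iff_pow_eq_one.mpr hpow
  have := Nat.le_of_dvd (by omega) hdvd
  omega

end Cfsg.Agent.S5958P
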