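import Mathlib
import Cfsg.Prelude.Def_GeometricClasses
import Cfsg.Prelude.Def_ClassicalGeometry

set_option autoImplicit false
open scoped MatrixGroups Kronecker TensorProduct Matrix
open Polynomial

/-! # S5980, piece SQZ: a scalar square of a symplectic matrix is `± 1`. -/

namespace Cfsg.Agent.S5980P

/-- SQZ: a scalar square of a symplectic matrix is `± 1` -/
theorem sq_scalar_sp {F : Type*} [Field F] (d : ℕ) (hd : 1 ≤ d) (x : GL (Fin d ⊕ Fin d) F)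
    (hx : x ∈ Cfsg.spGL d F) (z : F)
    (hz : ((x ^ 2 : GL (Fin d ⊕ Fin d) F) : Matrix (Fin d ⊕ Fin d) (Fin d ⊕ Fin d) F) =
      z • (1 : Matrix (Fin d ⊕ Fin d) (Fin d ⊕ Fin d) F)) : z = 1 ∨ z = -1 := by
  classical
  have hx2 : x ^ 2 ∈ Cfsg.spGL d F := Subgroup.pow_mem _ hx 2
  have h := hx2 (Pi.single (Sum.inl ⟨0, hd⟩) 1) (Pi.single (Sum.inr ⟨0, hd⟩) 1)
  have hcoe : (Cfsg.glToMat (Fin d ⊕ Fin d) F) (x ^ 2) =
      z • (1 : Matrix (Fin d ⊕ Fin d) (Fin d ⊕ Fin d) F) := hz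
  rw [hcoe] at h
  simp only [Matrix.smul_mulVec, Matrix.one_mulVec] at h
  unfold Cfsg.sympForm at h
  simp only [Matrix.mulVec_smul, dotProduct_smul, smul_dotProduct, smul_eq_mul] at h
  have hJ : (Pi.single (Sum.inl (⟨0, hd⟩ : Fin d)) (1 : F) : Fin d ⊕ Fin d → F) ⬝ᵥ
      (Matrix.J (Fin d) F *ᵥ (Pi.single (Sum.inr (⟨0, hd⟩ : Fin d)) (1 : F))) = -1 := by
    simp [Matrix.J]
  rw [hJ] at h
  have h3 : (z - 1) * (z + 1) = 0 := by linear_combination -h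
  rcases mul_eq_zero.mp h3 with h4 | h4
  · left; exact sub_eq_zero.mp h4
  · right; exact eq_neg_of_add_eq_zero_left h4

end Cfsg.Agent.S5980P
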