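import Mathlib

/-! S5982 piece PAIRINV: a centre of symmetry of the multiplicity function of `e : Fin n → ZMod r`
gives an involution `π` of the indices with `e (π j) = 2c - e j`. -/

set_option autoImplicit false

namespace Cfsg.Agent.S5982P

namespace PAIRINV

/-- a choice of one of `a`, `-a` when they differ. -/
def pos {r : ℕ} (a : ZMod r) : Prop := a.val < (-a).val

instance {r : ℕ} (a : ZMod r) : Decidable (pos a) := Nat.decLt _ _

theorem not_pos_neg {r : ℕ} {a : ZMod r} (h : pos a) : ¬ pos (-a) := by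
  unfold pos at *
  rw [neg_neg]
  omega

theorem exists_involution {ι : Type*} [Finite ι] {r : ℕ} [NeZero r] (e : ι → ZMod r) (c : ZMod r)
    (h : ∀ a : ZMod r, Nat.card {j // e j = c + a} = Nat.card {j // e j = c - a}) :
    ∃ π : ι → ι, (∀ j, π (π j) = j) ∧ ∀ j, e (π j) = (c + c) - e j := by
  classical
  have hσ : ∀ a : ZMod r, Nonempty ({j // e j = c + a} ≃ {j // e j = c - a}) := fun a =>
    Finite.card_eq.mp (h a)
  let σ : ∀ a : ZMod r, {j // e j = c + a} ≃ {j // e j = c - a} := fun a =>
    Classical.choice (hσ a)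
  have h1 : ∀ j, e j = c + (e j - c) := fun j => by ring
  have h2 : ∀ j, e j = c - (-(e j - c)) := fun j => by ring
  let π : ι → ι := fun j =>
    if pos (e j - c) then ((σ (e j - c)) ⟨j, h1 j⟩).1
    else if pos (-(e j - c)) then ((σ (-(e j - c))).symm ⟨j, h2 j⟩).1
    else j
  have π_pos : ∀ j a (ha : e j = c + a), pos a → π j = ((σ a) ⟨j, ha⟩).1 := by
    intro j a ha hp
    have : a = e j - c := by rw [ha]; ring
    subst this
    show (if pos (e j - c) then ((σ (e j - c)) ⟨j, h1 j⟩).1
      else if pos (-(e j - c)) then ((σ (-(e j - c))).symm ⟨j, h2 j⟩).1 else j) = _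
    rw [if_pos hp]
  have π_neg : ∀ j a (ha : e j = c - a), pos a → π j = ((σ a).symm ⟨j, ha⟩).1 := by
    intro j a ha hp
    have : a = -(e j - c) := by rw [ha]; ring
    subst this
    have hnp : ¬ pos (e j - c) := by
      have := not_pos_neg hp
      rwa [neg_neg] at this
    show (if pos (e j - c) then ((σ (e j - c)) ⟨j, h1 j⟩).1
      else if pos (-(e j - c)) then ((σ (-(e j - c))).symm ⟨j, h2 j⟩).1 else j) = _
    rw [if_neg hnp, if_pos hp]
  have π_fix : ∀ j, ¬ pos (e j - c) → ¬ pos (-(e j - c)) → π j = j := by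
    intro j hp1 hp2
    show (if pos (e j - c) then ((σ (e j - c)) ⟨j, h1 j⟩).1
      else if pos (-(e j - c)) then ((σ (-(e j - c))).symm ⟨j, h2 j⟩).1 else j) = _
    rw [if_neg hp1, if_neg hp2]
  refine ⟨π, ?_, ?_⟩
  · intro j
    by_cases hp : pos (e j - c)
    · have e1 := π_pos j (e j - c) (h1 j) hp
      have hj' : e (π j) = c - (e j - c) := by
        rw [e1]; exact ((σ (e j - c)) ⟨j, h1 j⟩).2
      rw [π_neg (π j) (e j - c) hj' hp]
      have : (⟨π j, hj'⟩ : {j' // e j' = c - (e j - c)}) = (σ (e j - c)) ⟨j, h1 j⟩ :=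
        Subtype.ext e1
      rw [this, Equiv.symm_apply_apply]
    · by_cases hp2 : pos (-(e j - c))
      · have e1 := π_neg j (-(e j - c)) (h2 j) hp2
        have hj' : e (π j) = c + (-(e j - c)) := by
          rw [e1]; exact ((σ (-(e j - c))).symm ⟨j, h2 j⟩).2
        rw [π_pos (π j) (-(e j - c)) hj' hp2]
        have : (⟨π j, hj'⟩ : {j' // e j' = c + (-(e j - c))}) =
            (σ (-(e j - c))).symm ⟨j, h2 j⟩ := Subtype.ext e1
        rw [this, Equiv.apply_symm_apply]
      · rw [π_fix j hp hp2, π_fix j hp hp2]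
  · intro j
    by_cases hp : pos (e j - c)
    · rw [π_pos j (e j - c) (h1 j) hp, ((σ (e j - c)) ⟨j, h1 j⟩).2]
      ring
    · by_cases hp2 : pos (-(e j - c))
      · rw [π_neg j (-(e j - c)) (h2 j) hp2, ((σ (-(e j - c))).symm ⟨j, h2 j⟩).2]
        ring
      · rw [π_fix j hp hp2]
        -- e j - c = -(e j - c)
        have hv : (e j - c).val = (-(e j - c)).val := by
          unfold pos at hp hp2
          rw [neg_neg] at hp2
          omega
        have h3 : e j - c = -(e j - c) := ZMod.val_injective r hv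
        calc e j = c + (e j - c) := h1 j
          _ = c + -(e j - c) := by rw [← h3]
          _ = c + c - e j := by ring

end PAIRINV

open PAIRINV in
/-- PAIRINV: a centre of symmetry of the multiplicity function gives a pairing of the indices -/
theorem exists_pairing {r n : ℕ} [Fact r.Prime] (e : Fin n → ZMod r) (c : ZMod r)
    (h : ∀ a : ZMod r, Nat.card {j // e j = c + a} = Nat.card {j // e j = c - a}) :
    ∃ π : Equiv.Perm (Fin n), (∀ j, π (π j) = j) ∧ ∀ j, e (π j) = (c + c) - e j := by
  have : NeZero r := ⟨(Fact.out : r.Prime).ne_zero⟩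
  obtain ⟨π, hπ, hπe⟩ := exists_involution e c h
  exact ⟨Function.Involutive.toPerm π hπ, hπ, hπe⟩

end Cfsg.Agent.S5982P
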