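import Mathlib
import Cfsg.Prelude.Def_GeometricClasses
import Cfsg.Prelude.Def_Classical
import Cfsg.Prelude.Def_LieClassical
import Cfsg.Agent.Helper26.S5965DIAGDER
import Cfsg.Agent.Helper5.S5982PAIR

set_option autoImplicit false
open scoped MatrixGroups Matrix

/-! S5982 piece UDIAGDER: a diagonal element `μ • diag(ξ^e)` of `SL_n(F)`, `|F| = q₀²`,
`r ∣ q₀ - 1`, whose multiplicity function has no centre of symmetry is a similitude of no
unitary form. -/

namespace Cfsg.Agent.S5982P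

open Cfsg.Agent.S5965P.DIAGDER in
/-- UDIAGDER (uses PAIR): a diagonal element whose multiplicity function has no centre of symmetry -/
theorem udiag_derangement {F : Type*} [Field F] [Fintype F] {q₀ : ℕ} (hF : Fintype.card F = q₀ ^ 2)
    (n : ℕ) (hn : 1 ≤ n) (r : ℕ) [Fact r.Prime] (hr2 : r ≠ 2) (hr : r ∣ q₀ - 1) (ξ : F)
    (hξ : orderOf ξ = r) (μ : F) (e : Fin n → ZMod r)
    (hdet : μ ^ n * ξ ^ (∑ j, (e j).val) = 1) (hne : ∃ j j', e j ≠ e j')
    (hstar : ∀ a : ZMod r, ∃ b : ZMod r, Nat.card {j // e j = a + b} ≠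
      Nat.card {j // e j = a + (-1) * b}) :
    ∃ x : GL (Fin n) F, x ∈ Cfsg.Geo.specialLinear (Fin n) F ∧
      (∃ z : F, ((x ^ r : GL (Fin n) F) : Matrix (Fin n) (Fin n) F) =
        z • (1 : Matrix (Fin n) (Fin n) F)) ∧
      (∀ z : F, (x : Matrix (Fin n) (Fin n) F) ≠ z • (1 : Matrix (Fin n) (Fin n) F)) ∧
      ∀ f' : (Fin n → F) → (Fin n → F) → F, Cfsg.Geo.IsUnitaryFormPow q₀ f' →
        x ∉ Cfsg.Geo.similarityGroup f' := by
  classical
  have hrp : r.Prime := Fact.out
  have : NeZero r := ⟨hrp.ne_zero⟩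
  have hξr : ξ ^ r = 1 := by rw [← hξ]; exact pow_orderOf_eq_one ξ
  have hμ0 : μ ≠ 0 := by
    intro h
    rw [h, zero_pow (by omega : n ≠ 0), zero_mul] at hdet
    exact zero_ne_one hdet
  have hξ0 : ξ ≠ 0 := by
    intro h0
    rw [h0, zero_pow hrp.ne_zero] at hξr
    exact zero_ne_one hξr
  have hq0 : q₀ ≠ 0 := by
    intro h
    rw [h, zero_pow two_ne_zero] at hF
    exact Fintype.card_ne_zero hF
  -- ξ ^ q₀ = ξ
  have hξq : ξ ^ q₀ = ξ := by
    obtain ⟨k, hk⟩ := hr
    have : q₀ = 1 + r * k := by omega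
    rw [this, pow_add, pow_one, pow_mul, hξr, one_pow, mul_one]
  -- the exponential map
  obtain ⟨E, hE⟩ : ∃ E : ZMod r → F, E = fun t => ξ ^ t.val := ⟨_, rfl⟩
  have hE0 : ∀ t, E t ≠ 0 := by intro t; rw [hE]; exact pow_ne_zero _ hξ0
  have hE_add : ∀ s t, E (s + t) = E s * E t := by
    intro s t
    rw [hE]
    simp only
    rw [ZMod.val_add, ← pow_add]
    have := pow_mod_orderOf ξ (s.val + t.val)
    rwa [hξ] at this
  have hE_sub : ∀ s t, E (s - t) = E s * (E t)⁻¹ := by
    intro s t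
    have := hE_add (s - t) t
    rw [sub_add_cancel] at this
    rw [this, mul_assoc, mul_inv_cancel₀ (hE0 t), mul_one]
  have hEq : ∀ t, (E t) ^ q₀ = E t := by
    intro t
    rw [hE]
    simp only
    rw [← pow_mul, mul_comm, pow_mul, hξq]
  have hE_inj : ∀ s t, E s = E t → s = t := by
    intro s t hst
    rw [hE] at hst
    simp only at hst
    have hu : orderOf (Units.mk0 ξ hξ0) = r := by
      rw [← orderOf_units, Units.val_mk0, hξ]
    have h1 : (Units.mk0 ξ hξ0) ^ s.val = (Units.mk0 ξ hξ0) ^ t.val := by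
      apply Units.ext
      rw [Units.val_pow_eq_pow_val, Units.val_pow_eq_pow_val, Units.val_mk0]
      exact hst
    rw [pow_eq_pow_iff_modEq, hu, ← ZMod.natCast_eq_natCast_iff, ZMod.natCast_zmod_val,
      ZMod.natCast_zmod_val] at h1
    exact h1
  obtain ⟨d, hd⟩ : ∃ d : Fin n → F, d = fun j => μ * E (e j) := ⟨_, rfl⟩
  have hdetD : (Matrix.diagonal d).det = 1 := by
    rw [Matrix.det_diagonal, hd, hE]
    simp only
    rw [Finset.prod_mul_distrib, Finset.prod_const, Finset.card_univ, Fintype.card_fin,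
      Finset.prod_pow_eq_pow_sum]
    exact hdet
  obtain ⟨x, hx⟩ : ∃ x : GL (Fin n) F, (x : Matrix (Fin n) (Fin n) F) = Matrix.diagonal d :=
    ⟨Matrix.GeneralLinearGroup.mkOfDetNeZero (Matrix.diagonal d) (by rw [hdetD]; exact one_ne_zero),
      rfl⟩
  -- multiplicities
  have hcount : ∀ t : ZMod r, Module.finrank F (LinearMap.ker
      (Matrix.toLin' (x : Matrix (Fin n) (Fin n) F) - (μ * E t) • (1 : Module.End F (Fin n → F)))) =
      Nat.card {j // e j = t} := by
    intro t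
    rw [hx, finrank_ker_diag]
    apply Nat.card_congr
    apply Equiv.subtypeEquivRight
    intro j
    rw [hd]
    simp only
    rw [mul_right_inj' hμ0]
    exact ⟨fun h => hE_inj _ _ h, fun h => by rw [h]⟩
  refine ⟨x, ?_, ⟨μ ^ r, ?_⟩, ?_, ?_⟩
  · show x ∈ (Matrix.GeneralLinearGroup.det : GL (Fin n) F →* Fˣ).ker
    rw [MonoidHom.mem_ker]
    apply Units.ext
    rw [Matrix.GeneralLinearGroup.val_det_apply, hx, hdetD, Units.val_one]
  · rw [Units.val_pow_eq_pow_val, hx, Matrix.diagonal_pow, Matrix.smul_one_eq_diagonal]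
    congr 1
    funext j
    rw [hd, hE]
    simp only [Pi.pow_apply]
    rw [mul_pow, ← pow_mul, mul_comm (e j).val r, pow_mul, hξr, one_pow, mul_one]
  · intro z hz
    obtain ⟨j, j', hjj'⟩ := hne
    rw [hx] at hz
    have h1 : d j = z := by
      have := congrFun (congrFun hz j) j
      simpa using this
    have h2 : d j' = z := by
      have := congrFun (congrFun hz j') j'
      simpa using this
    rw [hd] at h1 h2
    simp only at h1 h2
    exact hjj' (hE_inj _ _ (mul_left_cancel₀ hμ0 (h1.trans h2.symm)))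
  · intro f' hf' hmem
    obtain ⟨c, hc⟩ := hmem
    have pair := fun (α : F) (hα : α ≠ 0) => finrank_ker_pair hF n f' hf' x (c : F) hc α hα
    -- step A
    obtain ⟨j0⟩ : Nonempty (Fin n) := ⟨⟨0, by omega⟩⟩
    have hα0 : μ * E (e j0) ≠ 0 := mul_ne_zero hμ0 (hE0 _)
    have hA := pair _ hα0
    rw [hcount (e j0)] at hA
    have hpos : 0 < Nat.card {j // e j = e j0} := by
      have : Nonempty {j // e j = e j0} := ⟨⟨j0, rfl⟩⟩
      exact Nat.card_pos
    rw [hA, hx, finrank_ker_diag] at hpos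
    obtain ⟨⟨j1, hj1⟩⟩ := (Nat.card_pos_iff.mp hpos).1
    rw [hd] at hj1
    simp only at hj1
    -- c = μ^(q₀+1) * E s
    obtain ⟨s, hs⟩ : ∃ s, s = e j0 + e j1 := ⟨_, rfl⟩
    have hpow0 : (μ * E (e j0)) ^ q₀ ≠ 0 := pow_ne_zero _ hα0
    have hceq : (c : F) = μ ^ (q₀ + 1) * E s := by
      have h1 : (c : F) = μ * E (e j1) * (μ * E (e j0)) ^ q₀ := by
        rw [hj1, mul_assoc, inv_mul_cancel₀ hpow0, mul_one]
      rw [h1, mul_pow, hEq, hs, hE_add, pow_succ]
      ring
    -- step B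
    have hB : ∀ t : ZMod r, Nat.card {j // e j = t} = Nat.card {j // e j = s - t} := by
      intro t
      have hαt : μ * E t ≠ 0 := mul_ne_zero hμ0 (hE0 _)
      have h1 := pair _ hαt
      rw [hcount t] at h1
      have h2 : (c : F) * ((μ * E t) ^ q₀)⁻¹ = μ * E (s - t) := by
        rw [hceq, mul_pow, hEq, hE_sub, pow_succ]
        have hμq : μ ^ q₀ ≠ 0 := pow_ne_zero _ hμ0
        field_simp
      rw [h2, hcount (s - t)] at h1
      exact h1
    -- step C
    have h2ne : (2 : ZMod r) ≠ 0 := by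
      intro h2
      have : ((2 : ℕ) : ZMod r) = 0 := by exact_mod_cast h2
      rw [ZMod.natCast_eq_zero_iff] at this
      have hle := Nat.le_of_dvd (by norm_num) this
      have := hrp.two_le
      omega
    obtain ⟨a, ha⟩ : ∃ a : ZMod r, a + a = s := ⟨s * 2⁻¹, by
      rw [← two_mul, mul_comm s, ← mul_assoc, mul_inv_cancel₀ h2ne, one_mul]⟩
    obtain ⟨b, hb⟩ := hstar a
    apply hb
    rw [hB (a + b)]
    congr 2
    funext j
    rw [← ha]
    ring_nf

end Cfsg.Agent.S5982P
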