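import Mathlib
import Cfsg.Prelude.Def_GeometricClasses
import Cfsg.Prelude.Def_ClassicalGeometry
import Cfsg.Agent.Helper4.S6002Defs
import Cfsg.Agent.Helper19.SympTypeE

/-! S6002 piece STRUCT1 (driver helper4): the abstract hypotheses on `R` (symplectic type,
exponent 4, order 32, centre of order 2, absolutely irreducible inside `Sp_4`) give the
element-level description `HypR0 R`. -/

set_option autoImplicit false
open scoped MatrixGroups Matrix

namespace Cfsg.Agent.S6002P

open Cfsg.Agent.Helper19.SympType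
open scoped commutatorElement

/-- STRUCT1 -/
theorem hypR0_of_hyps {F : Type*} [Field F] [Fintype F] {p : ℕ} [Fact p.Prime] [CharP F p]
    (hodd : Odd p) (R : Subgroup (GL I4 F)) (hRs : Cfsg.Geo.IsSymplecticTypeGroup 2 R)
    (hRi : Cfsg.Geo.ActsAbsolutelyIrreducibly (Cfsg.Geo.matrixSet R))
    (hRf : R ≤ Cfsg.spGL 2 F) (hR5 : Nat.card R = 2 ^ 5)
    (hRZ : Nat.card (Subgroup.center R) = 2) : HypR0 R := by
  classical
  have h2 : (2 : F) ≠ 0 := by
    intro h
    have h' : ((2 : ℕ) : F) = 0 := by exact_mod_cast h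
    rw [CharP.cast_eq_zero_iff F p] at h'
    have hp := (Fact.out : p.Prime)
    have hp2 : p = 2 := (Nat.prime_dvd_prime_iff_eq hp Nat.prime_two).mp h'
    rw [hp2] at hodd
    exact absurd hodd (by decide)
  have : Finite ↥R := Nat.finite_of_card_ne_zero (by rw [hR5]; norm_num)
  have : Nontrivial ↥R := Finite.one_lt_card_iff_nontrivial.mp (by rw [hR5]; norm_num)
  have h4 : ∀ t : ↥R, t ^ 4 = 1 := by
    intro t
    have h := Monoid.pow_exponent_eq_one t
    rw [hRs.exponent_eq] at h
    exact h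
  obtain ⟨hL, hcard⟩ :=
    symL_eq_top_of_pow_four hRs.pGroup hRs.cyclic_of_characteristic h4
  have hcen : omegaCenter 2 ↥R = Subgroup.center ↥R :=
    Subgroup.eq_of_le_of_card_ge (omegaCenter_le_center 2) (by rw [hRZ, hcard])
  obtain ⟨z, hz1, hzuniq⟩ := (Nat.card_eq_two_iff' (1 : ↥(Subgroup.center ↥R))).mp hRZ
  -- the element `zg` of `GL`
  obtain ⟨zg, hzg⟩ : ∃ zg : GL I4 F, zg = ((z : ↥R) : GL I4 F) := ⟨_, rfl⟩
  have hzgR : zg ∈ R := by rw [hzg]; exact (z : ↥R).2
  have hzcomm : ∀ a ∈ R, zg * a = a * zg := by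
    intro a ha
    have h := Subgroup.mem_center_iff.mp z.2 ⟨a, ha⟩
    have h' := congrArg (fun t : ↥R => (t : GL I4 F)) h
    simp only [Subgroup.coe_mul] at h'
    rw [hzg]
    exact h'.symm
  have hzsq : zg * zg = 1 := by
    have hz' : (z : ↥R) ∈ omegaCenter 2 ↥R := by rw [hcen]; exact z.2
    have h := hz'.2
    have h' := congrArg (fun t : ↥R => (t : GL I4 F)) h
    simp only [pow_two, Subgroup.coe_mul, Subgroup.coe_one] at h'
    rw [hzg]
    exact h'
  have hzne : zg ≠ 1 := by
    intro h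
    apply hz1
    apply Subtype.ext
    apply Subtype.ext
    rw [← hzg, h]
    rfl
  -- `zg` is scalar
  obtain ⟨c, hc⟩ := hRi.2 (zg : M4 F) (by
    rintro s ⟨a, ha, rfl⟩
    show (zg : M4 F) * (a : M4 F) = (a : M4 F) * (zg : M4 F)
    rw [← Units.val_mul, ← Units.val_mul, hzcomm a ha])
  have hcc : c * c = 1 := by
    have h := congrArg (fun t : GL I4 F => (t : M4 F)) hzsq
    simp only [Units.val_mul, Units.val_one] at h
    rw [hc, Matrix.smul_mul, Matrix.mul_smul, Matrix.one_mul, smul_smul] at h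
    have h' := congrFun (congrFun h (Sum.inl 0)) (Sum.inl 0)
    simpa using h'
  have hzneg : zg = -1 := by
    have h3 : (c - 1) * (c + 1) = 0 := by linear_combination hcc
    rcases mul_eq_zero.mp h3 with h | h
    · exfalso
      apply hzne
      apply Units.ext
      rw [hc, sub_eq_zero.mp h, one_smul]
      rfl
    · apply Units.ext
      rw [hc, eq_neg_of_add_eq_zero_left h, coe_neg_one]
      simp
  -- central elements of `R`
  have hcases : ∀ w : ↥R, w ∈ Subgroup.center ↥R → (w : GL I4 F) = 1 ∨ (w : GL I4 F) = -1 := by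
    intro w hw
    by_cases hw1 : (⟨w, hw⟩ : ↥(Subgroup.center ↥R)) = 1
    · left
      have h := congrArg (fun t : ↥(Subgroup.center ↥R) => ((t : ↥R) : GL I4 F)) hw1
      exact h
    · right
      have h := hzuniq _ hw1
      have h' := congrArg (fun t : ↥(Subgroup.center ↥R) => ((t : ↥R) : GL I4 F)) h
      simp only at h'
      rw [h', ← hzg, hzneg]
  have hsymL : ∀ t : ↥R, t ∈ symL 2 ↥R := by
    intro t; rw [hL]; exact Subgroup.mem_top t
  refine ⟨h2, by rw [hR5]; norm_num, ?_, ?_, ?_, ?_, hRf, hRi⟩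
  · rw [← hzneg]; exact hzgR
  · intro a ha
    have h := (mem_symL.mp (hsymL ⟨a, ha⟩)).1
    rw [hcen] at h
    have h' := hcases _ h
    simpa [pow_two] using h'
  · intro a ha b hb
    have h := (mem_symL.mp (hsymL ⟨b, hb⟩)).2 ⟨a, ha⟩
    rw [hcen] at h
    have h' := hcases _ h
    rw [commutatorElement_def] at h'
    simp only [Subgroup.coe_mul, Subgroup.coe_inv] at h'
    rcases h' with h' | h'
    · left
      have : a * b = (a * b * a⁻¹ * b⁻¹) * (b * a) := by group
      rw [this, h', one_mul]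
    · right
      have : a * b = (a * b * a⁻¹ * b⁻¹) * (b * a) := by group
      rw [this, h', neg_one_mul]
  · intro a ha hcomm
    have h : (⟨a, ha⟩ : ↥R) ∈ Subgroup.center ↥R := by
      rw [Subgroup.mem_center_iff]
      intro g
      apply Subtype.ext
      simp only [Subgroup.coe_mul]
      exact (hcomm g g.2).symm
    exact hcases _ h

end Cfsg.Agent.S6002P
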