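import Mathlib
import Cfsg.Agent.Helper26.TH2

set_option autoImplicit false

/-! Sparse fusion systems are constrained (for odd `p`, or in the `S₄`-free case). -/

namespace Cfsg.Agent.Helper26.SP

open Cfsg Cfsg.FusionSystem Cfsg.Agent.Helper25 Cfsg.Agent.Helper26.MasterRed
  Cfsg.Agent.Lead.TNC Cfsg.Agent.Helper26.TH

universe u

variable {p : ℕ} [Fact p.Prime]

/-- A system all of whose maps lie in the normalizer system of `U` has `U` as a normal
subgroup. -/
theorem isNormal_of_forall_mem {Ω : Type*} [Group Ω] {S : Subgroup Ω} (F : FusionSystem S)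
    {U : Subgroup Ω} (hU : U ≤ S)
    (h : ∀ (P : Subgroup Ω) (φ : P →* Ω), φ ∈ F.Hom P → φ ∈ F.normalizerHom U P) :
    F.IsNormal U := by
  refine ⟨hU, fun P φ hφ => ?_⟩
  obtain ⟨-, -, -, ψ, hψ, hext, hmap⟩ := h P φ hφ
  exact ⟨ψ, hψ, hext, hmap⟩

theorem castSystem_sat {Ω : Type*} [Group Ω] {S T : Subgroup Ω} (h : T = S)
    (E : FusionSystem T) (hE : E.IsSaturated p) : (castSystem h E).IsSaturated p := by
  subst h
  exact hE

set_option maxHeartbeats 1600000 in
/-- A sparse system with the freeness property is constrained; induction on the index of a normal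
subgroup. -/
theorem constrained_of_sparse_normal :
    ∀ (k : ℕ) (Ω : Type u) [Group Ω] (S : Subgroup Ω) [Finite S], IsPGroup p S →
      ∀ F : FusionSystem S, F.IsSaturated p → ThFr p Ω S F →
      (∀ E : FusionSystem S, E.IsSaturated p → E.IsSubsystemOf F →
        (∀ P : Subgroup Ω, E.Hom P = F.Hom P) ∨ Inner E) →
      ∀ Q : Subgroup Ω, F.IsNormal Q → Nat.card Q + k = Nat.card S → F.IsConstrained p := by
  intro k
  induction k using Nat.strong_induction_on with
  | _ k ihk =>
  intro Ω _ S _ hS F hF hFr hsp Q hQ hk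
  have hQS : Q ≤ S := hQ.1
  have hSN : S ≤ Subgroup.normalizer (Q : Set Ω) := le_normalizer_of_isNormal F hQ
  have hsc := stronglyClosed_of_isNormal F hQ
  have hQn : (Q.subgroupOf S).Normal := Subgroup.normal_subgroupOf_of_le_normalizer hSN
  have hQfin : Finite Q := finite_of_le hQS
  have hker : ∀ s : S, QuotientGroup.mk' (Q.subgroupOf S) s = 1 ↔ (s : Ω) ∈ Q := by
    intro s
    rw [QuotientGroup.mk'_apply, QuotientGroup.eq_one_iff]
    rfl
  have hrange : (QuotientGroup.mk' (Q.subgroupOf S)).range = ⊤ :=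
    MonoidHom.range_eq_top.mpr (QuotientGroup.mk'_surjective _)
  have hfs := factorSystem_isFactorSystem F hsc (QuotientGroup.mk' (Q.subgroupOf S)) hker hrange
  obtain ⟨F', hF'e⟩ : ∃ F' : FusionSystem (⊤ : Subgroup (↥S ⧸ Q.subgroupOf S)),
      F' = factorSystem F hsc (QuotientGroup.mk' (Q.subgroupOf S)) hker hrange := ⟨_, rfl⟩
  rw [← hF'e] at hfs
  have hiff := hfs.2.2.2
  have hS' : IsPGroup p ↥(⊤ : Subgroup (↥S ⧸ Q.subgroupOf S)) :=
    (hS.to_quotient (Q.subgroupOf S)).to_subgroup ⊤
  have hF'sat : F'.IsSaturated p :=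
    factor_isSaturated F hsc (QuotientGroup.mk' (Q.subgroupOf S)) hker hrange F' hiff p hS hF
  have hFr' : ThFr p _ _ F' := (redHyp_th.{u} p).fr_factor Ω S hS F hF Q hQ _ _ _ F' hfs hFr
  by_cases hin : Inner F'
  · have hmod : InnerMod F Q :=
      innerMod_of_factor_inner F hsc (QuotientGroup.mk' (Q.subgroupOf S)) hker hrange F' hiff hin
    exact isConstrained_of_innerMod p hS F hF hQ hmod
  · have h1 : Nat.card ↥(⊤ : Subgroup (↥S ⧸ Q.subgroupOf S)) ≠ 1 :=
      fun h1 => hin (inner_of_card_eq_one F' h1)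
    have htop : (⊤ : Subgroup (↥S ⧸ Q.subgroupOf S)) ≠ ⊥ := by
      intro h
      apply h1
      rw [h]
      exact Subgroup.card_bot
    -- a characteristic subgroup of the quotient with non-inner normalizer system
    obtain ⟨U', hU'n, hU'1, hU'ni⟩ : ∃ U' : Subgroup (↥S ⧸ Q.subgroupOf S),
        (⊤ : Subgroup (↥S ⧸ Q.subgroupOf S)) ≤ Subgroup.normalizer (U' : Set _) ∧ U' ≠ ⊥ ∧
          ¬ NInner F' U' := by
      by_cases hJ : NInner F' (Cfsg.thompsonSubgroupAOf (⊤ : Subgroup (↥S ⧸ Q.subgroupOf S)))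
      · refine ⟨(zFunctor.{u} p).W (⊤ : Subgroup (↥S ⧸ Q.subgroupOf S)),
          fc_le_normalizer (zFunctor.{u} p) _, fc_ne_bot (zFunctor.{u} p) _ hS' htop, ?_⟩
        intro hZ
        apply hin
        exact inner_of_thompson hS' F' hF'sat hFr'
          (cinner_of_ninner F' (le_centralizer_center _) hZ) hJ
      · exact ⟨_, fc_le_normalizer (jAFunctor.{u} p) _, fc_ne_bot (jAFunctor.{u} p) _ hS' htop, hJ⟩
    -- the preimage
    have hUS : preimageAlong (QuotientGroup.mk' (Q.subgroupOf S)) U' ≤ S :=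
      preimageAlong_le _ _
    have hSNU : S ≤ Subgroup.normalizer
        ((preimageAlong (QuotientGroup.mk' (Q.subgroupOf S)) U' : Subgroup Ω) : Set Ω) := by
      intro g hg
      apply mem_normalizer_preimageAlong (QuotientGroup.mk' (Q.subgroupOf S)) U' ⟨g, hg⟩
      exact hU'n (Subgroup.mem_top _)
    have hQU : Q ≤ preimageAlong (QuotientGroup.mk' (Q.subgroupOf S)) U' :=
      ker_le_preimageAlong _ hQS hker U'
    have hUfin : Finite (preimageAlong (QuotientGroup.mk' (Q.subgroupOf S)) U') :=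
      finite_of_le hUS
    have hQU' : Q ≠ preimageAlong (QuotientGroup.mk' (Q.subgroupOf S)) U' := by
      intro h
      apply hU'1
      rw [eq_bot_iff]
      intro y hy
      obtain ⟨x, hx⟩ := QuotientGroup.mk'_surjective (Q.subgroupOf S) y
      have hxU : (x : Ω) ∈ preimageAlong (QuotientGroup.mk' (Q.subgroupOf S)) U' := by
        rw [mem_preimageAlong]
        exact ⟨x.2, by rw [Subtype.coe_eta, hx]; exact hy⟩
      rw [← h] at hxU
      rw [Subgroup.mem_bot, ← hx]
      exact (hker x).mpr hxU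
    have hcardU := card_lt_of_lt hQU hQU'
    have hcardU' : Nat.card (preimageAlong (QuotientGroup.mk' (Q.subgroupOf S)) U') ≤
        Nat.card S := card_le_of_le hUS
    have hUni : ¬ NInner F (preimageAlong (QuotientGroup.mk' (Q.subgroupOf S)) U') :=
      fun h => hU'ni (ninner_factor F (QuotientGroup.mk' (Q.subgroupOf S)) hrange F' hiff hU'n h)
    have hUfn := isFullyNormalized_of_normal F hUS hSNU
    have hE := normalizerSystem_isNormalizerSystem F _ hUS
    have hNS : normalizerIn S (preimageAlong (QuotientGroup.mk' (Q.subgroupOf S)) U') = S :=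
      le_antisymm inf_le_left (fun x hx => ⟨hx, hSNU hx⟩)
    have hEsat := normalizerSystem_isSaturated p hS F hF _ hUfn _ hE
    have hE'sat := castSystem_sat hNS _ hEsat
    have hE'hom : ∀ P : Subgroup Ω, (castSystem hNS (normalizerSystem F
        (preimageAlong (QuotientGroup.mk' (Q.subgroupOf S)) U') hUS)).Hom P =
        F.normalizerHom (preimageAlong (QuotientGroup.mk' (Q.subgroupOf S)) U') P := by
      intro P
      rw [castSystem_Hom, hE P]
    have hE'sub : (castSystem hNS (normalizerSystem F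
        (preimageAlong (QuotientGroup.mk' (Q.subgroupOf S)) U') hUS)).IsSubsystemOf F := by
      intro P φ hφ
      rw [hE'hom P] at hφ
      exact hφ.1
    rcases hsp _ hE'sat hE'sub with h2 | h2
    · -- the preimage is normal in `F`
      have hUn : F.IsNormal (preimageAlong (QuotientGroup.mk' (Q.subgroupOf S)) U') := by
        apply isNormal_of_forall_mem F hUS
        intro P φ hφ
        rw [← h2 P, hE'hom P] at hφ
        exact hφ
      exact ihk (Nat.card S - Nat.card (preimageAlong (QuotientGroup.mk' (Q.subgroupOf S)) U'))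
        (by omega) Ω S hS F hF hFr hsp _ hUn (by omega)
    · exfalso
      apply hUni
      intro P φ hφ
      rw [← hE'hom P] at hφ
      obtain ⟨g, hg, hx⟩ := h2 P φ hφ
      exact ⟨g, ⟨hg, hSNU hg⟩, hx⟩

/-- **Sparse systems are constrained**, for odd `p` or in the `S₄`-free case. -/
theorem constrained_of_sparse {Ω : Type u} [Group Ω] {S : Subgroup Ω} [Finite S]
    (hS : IsPGroup p S) (F : FusionSystem S) (hF : F.IsSaturated p)
    (hp : p ≠ 2 ∨ F.IsSectionFree p (Equiv.Perm (Fin 4)))
    (hsp : ∀ E : FusionSystem S, E.IsSaturated p → E.IsSubsystemOf F →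
      (∀ P : Subgroup Ω, E.Hom P = F.Hom P) ∨ Inner E) : F.IsConstrained p := by
  refine constrained_of_sparse_normal (Nat.card S - 1) Ω S hS F hF hp hsp ⊥ (bot_isNormal F) ?_
  rw [Subgroup.card_bot]
  have : 0 < Nat.card S := Nat.card_pos
  omega

end Cfsg.Agent.Helper26.SP
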