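import Cfsg.Agent.Helper12.SzTDefs
import Cfsg.Agent.Helper18.SZTDUALIND
import Cfsg.Agent.Helper18.SZTDUALORB2
import Cfsg.Agent.Helper18.SZTCARDORB
import Cfsg.Agent.Helper24.SZTORBIND

/-! SZT (driver helper12): generic dual sums used by the structure-constant pieces SC4/SC0/SC1/SC2.

For a self-centralising `A` (`SC A`) whose elements are real, `e' * |A| = |N(A)|`, `a, b ∈ A \ 1`:
* `SCgen_sum_const` : `∑_{θ ≠ 1} c = (|A| - 1) c`
* `SCgen_sum_conj` : `∑_{θ ≠ 1} conj (indA θ b) = -e'`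
* `SCgen_sum_sq` : `∑_{θ ≠ 1} (indA θ a)^2 = e' |A| - e'^2`
* `SCgen_sum_sq_conj` : `∑_{θ ≠ 1} (indA θ a)^2 conj (indA θ b) = |A| M - e'^3`, `M + e' ≤ e'^2`.
-/

set_option autoImplicit false

namespace Cfsg.Agent.SZT

open Cfsg Cfsg.Agent.Helper11.SCTI Cfsg.Agent.Helper24
open scoped Classical ComplexConjugate

universe u

variable {G : Type u} [Group G] [Fintype G]

/-- removing the trivial character from a sum -/
theorem SCgen_sum_ne_one (A : Subgroup G) (f : (A →* ℂˣ) → ℂ) :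
    ∑ θ : A →* ℂˣ, (if θ = 1 then 0 else f θ) = ∑ θ : A →* ℂˣ, f θ - f 1 := by
  have h : ∀ θ : A →* ℂˣ, (if θ = 1 then 0 else f θ) = f θ - (if θ = 1 then f 1 else 0) := by
    intro θ
    split_ifs with h
    · rw [h, sub_self]
    · rw [sub_zero]
  rw [Finset.sum_congr rfl (fun θ _ => h θ), Finset.sum_sub_distrib,
    Finset.sum_ite_eq' Finset.univ (1 : A →* ℂˣ) (fun _ => f 1)]
  simp

theorem SCgen_card_pos (A : Subgroup G) : 0 < Nat.card A := Nat.card_pos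

theorem SCgen_sum_const {A : Subgroup G} (hA : SC A) (c : ℂ) :
    ∑ θ : A →* ℂˣ, (if θ = 1 then 0 else c) = ((Nat.card A : ℂ) - 1) * c := by
  have h1 := card_dual_ne_one hA
  have h2 : ∑ θ : A →* ℂˣ, (if θ = 1 then 0 else c) =
      ∑ θ ∈ Finset.univ.filter (fun θ : A →* ℂˣ => θ ≠ 1), c := by
    rw [Finset.sum_filter]
    apply Finset.sum_congr rfl
    intro θ _
    by_cases h : θ = 1 <;> simp [h]
  rw [h2, Finset.sum_const, nsmul_eq_mul]
  congr 1
  have h3 : (Finset.univ.filter (fun θ : A →* ℂˣ => θ ≠ 1)).card =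
      Nat.card {θ : A →* ℂˣ // θ ≠ 1} := by
    rw [Nat.card_eq_fintype_card, Fintype.card_subtype]
  rw [h3, h1]
  have := SCgen_card_pos A
  rw [Nat.cast_sub this, Nat.cast_one]

/-- the quotient `|N| / |A|` as a complex number -/
theorem SCgen_quot (A : Subgroup G) (e' : ℕ)
    (he : e' * Nat.card A = Nat.card (Subgroup.normalizer (A : Set G))) :
    (Nat.card (Subgroup.normalizer (A : Set G)) : ℂ) / (Nat.card A : ℂ) = (e' : ℂ) := by
  have h0 : (Nat.card A : ℂ) ≠ 0 := by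
    exact_mod_cast (SCgen_card_pos A).ne'
  rw [← he, Nat.cast_mul, mul_div_assoc, div_self h0, mul_one]

theorem SCgen_sum_conj {A : Subgroup G} (hA : SC A) (e' : ℕ)
    (he : e' * Nat.card A = Nat.card (Subgroup.normalizer (A : Set G))) (b : A) (hb : b ≠ 1) :
    ∑ θ : A →* ℂˣ, (if θ = 1 then 0 else conj (indA A θ b)) = -(e' : ℂ) := by
  rw [SCgen_sum_ne_one A (fun θ => conj (indA A θ b)), ← map_sum, sum_dual_indA hA b hb,
    indA_one_char, SCgen_quot A e' he, map_zero, Complex.conj_natCast, zero_sub]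

omit [Fintype G] in
/-- the pairs of conjugates of `a` with product `1` -/
theorem SCgen_card_inv_pairs {A : Subgroup G} (hreal : ∀ x ∈ A, IsConj x x⁻¹) (a : A) :
    Nat.card {p : A × A // ((p.1 : G) ≠ 1 ∧ IsConj (p.1 : G) (a : G)) ∧
      ((p.2 : G) ≠ 1 ∧ IsConj (p.2 : G) (a : G)) ∧ p.1 * p.2 = 1} =
    Nat.card {c : A // (c : G) ≠ 1 ∧ IsConj (c : G) (a : G)} := by
  apply Nat.card_congr
  refine ⟨fun p => ⟨p.1.1, p.2.1⟩, fun c => ⟨(c.1, c.1⁻¹), c.2, ⟨?_, ?_⟩, mul_inv_cancel _⟩, ?_, ?_⟩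
  · intro h
    apply c.2.1
    have : ((c.1⁻¹ : A) : G) = (c.1 : G)⁻¹ := rfl
    rw [this, inv_eq_one] at h
    exact h
  · have h1 : ((c.1⁻¹ : A) : G) = (c.1 : G)⁻¹ := rfl
    rw [h1]
    -- c⁻¹ ~ a⁻¹ ~ a
    have h2 : IsConj ((c.1 : G)⁻¹) ((a : G)⁻¹) := by
      obtain ⟨g, hg⟩ := isConj_iff.mp c.2.2
      refine isConj_iff.mpr ⟨g, ?_⟩
      have h3 : ((a : G))⁻¹ = (g * (c.1 : G) * g⁻¹)⁻¹ := by rw [hg]
      rw [h3]
      group
    exact h2.trans (hreal a a.2).symm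
  · rintro ⟨⟨p1, p2⟩, hp1, hp2, hp⟩
    have : p2 = p1⁻¹ := (eq_inv_of_mul_eq_one_right hp)
    subst this
    rfl
  · rintro ⟨c, hc⟩
    rfl

theorem SCgen_sum_sq_all {A : Subgroup G} (hA : SC A) (hreal : ∀ x ∈ A, IsConj x x⁻¹)
    (a : A) (ha : a ≠ 1) :
    ∑ θ : A →* ℂˣ, indA A θ a * indA A θ a =
      (Nat.card (Subgroup.normalizer (A : Set G)) : ℂ) := by
  have hc : ∀ x y : A, x * y = y * x := fun x y =>
    Subtype.ext (hA.comm x x.2 y y.2)
  have h1 := sum_dual_orbSum_mul A hc (a : G) (a : G)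
  rw [SCgen_card_inv_pairs hreal a] at h1
  have h2 := card_orbit hA a ha
  have h3 : ∀ θ : A →* ℂˣ, orbSum A θ (a : G) = indA A θ a := fun θ => orbSum_eq_indA hA θ a ha
  simp only [h3] at h1
  rw [h1, ← h2]
  push_cast
  ring

theorem SCgen_sum_sq {A : Subgroup G} (hA : SC A) (hreal : ∀ x ∈ A, IsConj x x⁻¹) (e' : ℕ)
    (he : e' * Nat.card A = Nat.card (Subgroup.normalizer (A : Set G))) (a : A) (ha : a ≠ 1) :
    ∑ θ : A →* ℂˣ, (if θ = 1 then 0 else indA A θ a * indA A θ a) =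
      (e' : ℂ) * (Nat.card A : ℂ) - (e' : ℂ) ^ 2 := by
  rw [SCgen_sum_ne_one A (fun θ => indA A θ a * indA A θ a), SCgen_sum_sq_all hA hreal a ha,
    indA_one_char, SCgen_quot A e' he, ← he]
  push_cast
  ring

theorem SCgen_sum_sq_conj {A : Subgroup G} (hA : SC A) (hreal : ∀ x ∈ A, IsConj x x⁻¹) (e' : ℕ)
    (he : e' * Nat.card A = Nat.card (Subgroup.normalizer (A : Set G))) (a b : A) (ha : a ≠ 1)
    (hb : b ≠ 1) :
    ∃ M : ℕ, M + e' ≤ e' * e' ∧
      ∑ θ : A →* ℂˣ, (if θ = 1 then 0 else indA A θ a * indA A θ a * conj (indA A θ b)) =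
        (Nat.card A : ℂ) * (M : ℂ) - (e' : ℂ) ^ 3 := by
  have hc : ∀ x y : A, x * y = y * x := fun x y =>
    Subtype.ext (hA.comm x x.2 y y.2)
  have h1 := sum_dual_orbSum_mul_mul_conj A hc (a : G) (a : G) (b : G)
  have h3 : ∀ θ : A →* ℂˣ, orbSum A θ (a : G) = indA A θ a := fun θ => orbSum_eq_indA hA θ a ha
  have h4 : ∀ θ : A →* ℂˣ, orbSum A θ (b : G) = indA A θ b := fun θ => orbSum_eq_indA hA θ b hb
  simp only [h3, h4] at h1
  have h2 := card_orbit hA a ha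
  have he' : Nat.card {c : A // (c : G) ≠ 1 ∧ IsConj (c : G) (a : G)} = e' := by
    have : Nat.card {c : A // (c : G) ≠ 1 ∧ IsConj (c : G) (a : G)} * Nat.card A =
        e' * Nat.card A := by rw [h2, he]
    exact Nat.eq_of_mul_eq_mul_right (SCgen_card_pos A) this
  refine ⟨Nat.card {p : A × A // ((p.1 : G) ≠ 1 ∧ IsConj (p.1 : G) (a : G)) ∧
          ((p.2 : G) ≠ 1 ∧ IsConj (p.2 : G) (a : G)) ∧
          (((p.1 * p.2 : A) : G) ≠ 1 ∧ IsConj ((p.1 * p.2 : A) : G) (b : G))}, ?_, ?_⟩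
  · -- counting
    have hcnt1 := SCgen_card_inv_pairs hreal a
    rw [he'] at hcnt1
    have hcnt0 : Nat.card {p : A × A // ((p.1 : G) ≠ 1 ∧ IsConj (p.1 : G) (a : G)) ∧
          ((p.2 : G) ≠ 1 ∧ IsConj (p.2 : G) (a : G))} = e' * e' := by
      rw [Nat.card_congr (Equiv.subtypeProdEquivProd
        (p := fun c : A => (c : G) ≠ 1 ∧ IsConj (c : G) (a : G))
        (q := fun c : A => (c : G) ≠ 1 ∧ IsConj (c : G) (a : G))), Nat.card_prod, he']
    rw [← hcnt0, ← hcnt1, ← Nat.card_sum]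
    apply Nat.card_le_card_of_injective
      (Sum.elim (fun p => ⟨p.1, p.2.1, p.2.2.1⟩) (fun p => ⟨p.1, p.2.1, p.2.2.1⟩))
    rintro (⟨p, hp⟩ | ⟨p, hp⟩) (⟨p', hp'⟩ | ⟨p', hp'⟩) h
    · simp only [Sum.elim_inl, Subtype.mk.injEq] at h
      subst h
      rfl
    · simp only [Sum.elim_inl, Sum.elim_inr, Subtype.mk.injEq] at h
      subst h
      exfalso
      apply hp.2.2.1
      have := hp'.2.2
      rw [this]
      rfl
    · simp only [Sum.elim_inl, Sum.elim_inr, Subtype.mk.injEq] at h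
      subst h
      exfalso
      apply hp'.2.2.1
      have := hp.2.2
      rw [this]
      rfl
    · simp only [Sum.elim_inr, Subtype.mk.injEq] at h
      subst h
      rfl
  · rw [SCgen_sum_ne_one A (fun θ => indA A θ a * indA A θ a * conj (indA A θ b)), h1,
      indA_one_char, indA_one_char, SCgen_quot A e' he, Complex.conj_natCast]
    ring

/-! ## family sums -/

theorem SCgen_fam_cc {A : Subgroup G} (hA : SC A) (f : (A →* ℂˣ) → G → ℂ) (x g : G)
    (c c' d : ℂ) (hx : ∀ θ, f θ x = c) (hg : ∀ θ, f θ g = c') :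
    ∑ θ : A →* ℂˣ, (if θ = 1 then 0 else f θ x * f θ x * conj (f θ g) / d) =
      ((Nat.card A : ℂ) - 1) * (c * c * conj c' / d) := by
  simp only [hx, hg]
  exact SCgen_sum_const hA _

theorem SCgen_fam_cv {A : Subgroup G} (hA : SC A) (e' : ℕ)
    (he : e' * Nat.card A = Nat.card (Subgroup.normalizer (A : Set G)))
    (f : (A →* ℂˣ) → G → ℂ) (x g : G) (b : A) (hb : b ≠ 1)
    (c ε d : ℂ) (hx : ∀ θ, f θ x = c) (hg : ∀ θ, f θ g = ε * indA A θ b) :
    ∑ θ : A →* ℂˣ, (if θ = 1 then 0 else f θ x * f θ x * conj (f θ g) / d) =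
      c * c * conj ε * (-(e' : ℂ)) / d := by
  simp only [hx, hg]
  have h : ∀ θ : A →* ℂˣ, (if θ = 1 then (0 : ℂ) else c * c * conj (ε * indA A θ b) / d) =
      c * c * conj ε / d * (if θ = 1 then 0 else conj (indA A θ b)) := by
    intro θ
    split_ifs
    · rw [mul_zero]
    · rw [map_mul]; ring
  rw [Finset.sum_congr rfl (fun θ _ => h θ), ← Finset.mul_sum, SCgen_sum_conj hA e' he b hb]
  ring

theorem SCgen_fam_vc {A : Subgroup G} (hA : SC A) (hreal : ∀ x ∈ A, IsConj x x⁻¹) (e' : ℕ)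
    (he : e' * Nat.card A = Nat.card (Subgroup.normalizer (A : Set G)))
    (f : (A →* ℂˣ) → G → ℂ) (x g : G) (a : A) (ha : a ≠ 1)
    (c' ε d : ℂ) (hx : ∀ θ, f θ x = ε * indA A θ a) (hg : ∀ θ, f θ g = c') :
    ∑ θ : A →* ℂˣ, (if θ = 1 then 0 else f θ x * f θ x * conj (f θ g) / d) =
      ε * ε * ((e' : ℂ) * (Nat.card A : ℂ) - (e' : ℂ) ^ 2) * conj c' / d := by
  simp only [hx, hg]
  have h : ∀ θ : A →* ℂˣ,
      (if θ = 1 then (0 : ℂ) else ε * indA A θ a * (ε * indA A θ a) * conj c' / d) =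
      ε * ε * conj c' / d * (if θ = 1 then 0 else indA A θ a * indA A θ a) := by
    intro θ
    split_ifs
    · rw [mul_zero]
    · ring
  rw [Finset.sum_congr rfl (fun θ _ => h θ), ← Finset.mul_sum, SCgen_sum_sq hA hreal e' he a ha]
  ring

theorem SCgen_fam_vv {A : Subgroup G} (hA : SC A) (hreal : ∀ x ∈ A, IsConj x x⁻¹) (e' : ℕ)
    (he : e' * Nat.card A = Nat.card (Subgroup.normalizer (A : Set G)))
    (f : (A →* ℂˣ) → G → ℂ) (x g : G) (a b : A) (ha : a ≠ 1) (hb : b ≠ 1)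
    (ε d : ℂ) (hx : ∀ θ, f θ x = ε * indA A θ a) (hg : ∀ θ, f θ g = ε * indA A θ b) :
    ∃ M : ℕ, M + e' ≤ e' * e' ∧
    ∑ θ : A →* ℂˣ, (if θ = 1 then 0 else f θ x * f θ x * conj (f θ g) / d) =
      ε * ε * conj ε * ((Nat.card A : ℂ) * (M : ℂ) - (e' : ℂ) ^ 3) / d := by
  obtain ⟨M, hM, hsum⟩ := SCgen_sum_sq_conj hA hreal e' he a b ha hb
  refine ⟨M, hM, ?_⟩
  simp only [hx, hg]
  have h : ∀ θ : A →* ℂˣ,
      (if θ = 1 then (0 : ℂ) else
        ε * indA A θ a * (ε * indA A θ a) * conj (ε * indA A θ b) / d) =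
      ε * ε * conj ε / d *
        (if θ = 1 then 0 else indA A θ a * indA A θ a * conj (indA A θ b)) := by
    intro θ
    split_ifs
    · rw [mul_zero]
    · rw [map_mul]; ring
  rw [Finset.sum_congr rfl (fun θ _ => h θ), ← Finset.mul_sum, hsum]
  ring

theorem SCgen_fam_z (A : Subgroup G) (f : (A →* ℂˣ) → G → ℂ) (x g : G) (d : ℂ)
    (hx : ∀ θ, f θ x = 0) :
    ∑ θ : A →* ℂˣ, (if θ = 1 then 0 else f θ x * f θ x * conj (f θ g) / d) = 0 := by
  simp [hx]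

/-- a complex number equal to a positive real is non-zero -/
theorem SCgen_ne_zero_of_real {z : ℂ} (E : ℝ) (h : z = (E : ℂ)) (hE : 0 < E) : z ≠ 0 := by
  rw [h]
  exact_mod_cast hE.ne'

end Cfsg.Agent.SZT
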