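import Mathlib

set_option autoImplicit false
set_option linter.unusedSectionVars false
set_option linter.unnecessarySimpa false

/-!
Burnside–Schur theorem, abstract part I.

A group `K` acts on the underlying set of a commutative group `H` through `σ : K →* Equiv.Perm H`
fixing `1` and satisfying property (F):
`∀ u x, ∃ u', ∀ y, (σ u x)⁻¹ * σ u y = σ u' (x⁻¹ * y)`.
(This is what the point stabilizer of a permutation group with a regular subgroup `H` does.)
We develop invariant sets, closure, stabilizers and the invariant subring of the group algebra.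
-/

namespace Cfsg.Agent.Helper26.Schur

open scoped Pointwise

variable {H : Type*} [CommGroup H] {K : Type*} [Group K] (σ : K →* Equiv.Perm H)

/-- The basic hypothesis: `K` fixes `1` and satisfies property (F). -/
structure Good : Prop where
  one : ∀ u, σ u 1 = 1
  F : ∀ u x, ∃ u', ∀ y, (σ u x)⁻¹ * σ u y = σ u' (x⁻¹ * y)

/-- A set is invariant under the action. -/
def Inv (T : Set H) : Prop := ∀ u, ∀ x ∈ T, σ u x ∈ T

variable {σ}

theorem symm_apply_apply' (u : K) (x : H) : σ u⁻¹ (σ u x) = x := by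
  have : σ u⁻¹ * σ u = 1 := by rw [← map_mul, inv_mul_cancel, map_one]
  have h := congrArg (fun f => f x) this
  simpa using h

theorem apply_symm_apply' (u : K) (x : H) : σ u (σ u⁻¹ x) = x := by
  have h := symm_apply_apply' (σ := σ) u⁻¹ x
  rwa [inv_inv] at h

theorem Inv.mem_iff {T : Set H} (hT : Inv σ T) (u : K) (x : H) : σ u x ∈ T ↔ x ∈ T := by
  constructor
  · intro h
    have := hT u⁻¹ _ h
    rwa [symm_apply_apply'] at this
  · exact hT u x

theorem Inv.compl {T : Set H} (hT : Inv σ T) : Inv σ Tᶜ := by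
  intro u x hx h
  exact hx ((hT.mem_iff u x).1 h)

theorem Inv.inter {S T : Set H} (hS : Inv σ S) (hT : Inv σ T) : Inv σ (S ∩ T) :=
  fun u x hx => ⟨hS u x hx.1, hT u x hx.2⟩

/-- The orbit of a point. -/
def orb (σ : K →* Equiv.Perm H) (x : H) : Set H := Set.range fun u => σ u x

theorem mem_orb_self (x : H) : x ∈ orb σ x := ⟨1, by simp⟩

theorem inv_orb (x : H) : Inv σ (orb σ x) := by
  rintro u _ ⟨v, rfl⟩
  exact ⟨u * v, by simp [map_mul]⟩

theorem orb_subset {T : Set H} (hT : Inv σ T) {x : H} (hx : x ∈ T) : orb σ x ⊆ T := by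
  rintro _ ⟨u, rfl⟩
  exact hT u x hx

theorem Good.eq_one_of_apply_eq_one (hG : Good σ) {u : K} {x : H} (h : σ u x = 1) : x = 1 := by
  have := congrArg (σ u⁻¹) h
  rwa [symm_apply_apply', hG.one] at this

theorem Good.one_notMem_orb (hG : Good σ) {x : H} (hx : x ≠ 1) : (1 : H) ∉ orb σ x := by
  rintro ⟨u, hu⟩
  exact hx (hG.eq_one_of_apply_eq_one hu)

/-- Product rule: `σ u (a * b) = σ u a * σ u' b`. -/
theorem Good.apply_mul (hG : Good σ) (u : K) (a : H) : ∃ u', ∀ b, σ u (a * b) = σ u a * σ u' b := by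
  obtain ⟨u', hu'⟩ := hG.F u a
  refine ⟨u', fun b => ?_⟩
  have := hu' (a * b)
  rw [inv_mul_cancel_left] at this
  rw [← this, mul_inv_cancel_left]

theorem Good.inv_set (hG : Good σ) {T : Set H} (hT : Inv σ T) : Inv σ T⁻¹ := by
  intro u x hx
  rw [Set.mem_inv] at hx ⊢
  obtain ⟨u', hu'⟩ := hG.F u x
  have := hu' 1
  rw [hG.one, mul_one, mul_one] at this
  rw [this]
  exact hT u' _ hx

/-- The subgroup generated by an invariant set is invariant. -/
theorem Good.inv_closure (hG : Good σ) {U : Set H} (hU : Inv σ U) :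
    Inv σ (Subgroup.closure U : Set H) := by
  intro u x hx
  simp only [SetLike.mem_coe] at hx ⊢
  induction hx using Subgroup.closure_induction generalizing u with
  | mem x hx => exact Subgroup.subset_closure (hU u x hx)
  | one => rw [hG.one]; exact one_mem _
  | mul a b _ _ iha ihb =>
    obtain ⟨u', hu'⟩ := hG.apply_mul u a
    rw [hu' b]
    exact mul_mem (iha u) (ihb u')
  | inv a _ iha =>
    obtain ⟨u', hu'⟩ := hG.F u a⁻¹
    have := hu' 1
    rw [hG.one, mul_one, inv_inv, mul_one] at this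
    have h2 : σ u a⁻¹ = (σ u' a)⁻¹ := by rw [← this, inv_inv]
    rw [h2]
    exact inv_mem (iha u')

/-- The (setwise) stabilizer of an invariant finite set is invariant. -/
theorem Good.inv_stabilizer (hG : Good σ) [Finite H] {T : Set H} (hT : Inv σ T) :
    Inv σ (MulAction.stabilizer H T : Set H) := by
  intro u h hh
  simp only [SetLike.mem_coe] at hh ⊢
  have hfin : T.Finite := Set.toFinite T
  rw [MulAction.mem_stabilizer_set_iff_smul_set_subset hfin]
  rintro _ ⟨t, ht, rfl⟩
  -- want (σ u h) * t ∈ T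
  simp only [smul_eq_mul]
  obtain ⟨u', hu'⟩ := hG.F u⁻¹ (σ u h)
  have h1 := hu' (σ u h * t)
  rw [symm_apply_apply', inv_mul_cancel_left] at h1
  -- h⁻¹ * σ u⁻¹ (σ u h * t) = σ u' t
  have h2 : σ u⁻¹ (σ u h * t) = h * σ u' t := by rw [← h1, mul_inv_cancel_left]
  have h3 : h * σ u' t ∈ T := by
    have : h • T = T := hh
    rw [← this]
    exact ⟨σ u' t, hT u' t ht, rfl⟩
  rw [← h2] at h3
  exact (hT.mem_iff u⁻¹ _).1 h3

end Cfsg.Agent.Helper26.Schur
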