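import Cfsg.Agent.Helper26.SchurA

set_option autoImplicit false
set_option linter.unusedSectionVars false
set_option linter.unnecessarySimpa false

/-!
Burnside–Schur theorem, abstract part II: the invariant elements of the group algebra form a
subsemiring; the Frobenius map gives invariance of the counting function
`y ↦ #{t ∈ T | t ^ q = y} mod q`.
-/

namespace Cfsg.Agent.Helper26.Schur

open scoped Pointwise

variable {H : Type*} [CommGroup H] {K : Type*} [Group K] {σ : K →* Equiv.Perm H}

section Algebra

variable {R : Type*} [Semiring R]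

/-- An element of the group algebra is invariant. -/
def InvF (σ : K →* Equiv.Perm H) (f : MonoidAlgebra R H) : Prop := ∀ u x, f.coeff (σ u x) = f.coeff x

theorem Good.invF_mul (hG : Good σ) [Fintype H] {f g : MonoidAlgebra R H} (hf : InvF σ f) (hg : InvF σ g) :
    InvF σ (f * g) := by
  intro u z
  rw [MonoidAlgebra.coeff_mul_apply_left, MonoidAlgebra.coeff_mul_apply_left]
  rw [Finsupp.sum_fintype _ _ (fun i => zero_mul _), Finsupp.sum_fintype _ _ (fun i => zero_mul _)]
  symm
  apply Fintype.sum_equiv (σ u)
  intro x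
  obtain ⟨u', hu'⟩ := hG.F u x
  rw [hf u x, hu' z, hg u']

theorem Good.invF_one (hG : Good σ) : InvF σ (1 : MonoidAlgebra R H) := by
  classical
  intro u x
  rw [MonoidAlgebra.one_def, MonoidAlgebra.coeff_single, Finsupp.single_apply, Finsupp.single_apply]
  by_cases hx : x = 1
  · subst hx; rw [hG.one]
  · have : σ u x ≠ 1 := fun h => hx (hG.eq_one_of_apply_eq_one h)
    rw [if_neg (Ne.symm this), if_neg (Ne.symm hx)]

theorem Good.invF_pow (hG : Good σ) [Fintype H] {f : MonoidAlgebra R H} (hf : InvF σ f) (n : ℕ) :
    InvF σ (f ^ n) := by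
  induction n with
  | zero => rw [pow_zero]; exact hG.invF_one
  | succ n ih => rw [pow_succ]; exact hG.invF_mul ih hf

/-- The indicator element of a finite set. -/
noncomputable def chi (R : Type*) [Semiring R] (T : Finset H) : MonoidAlgebra R H :=
  ∑ t ∈ T, MonoidAlgebra.single t 1

theorem chi_coeff [DecidableEq H] (T : Finset H) (x : H) :
    (chi R T).coeff x = if x ∈ T then 1 else 0 := by
  unfold chi
  rw [MonoidAlgebra.coeff_sum, Finsupp.finsetSum_apply]
  simp only [MonoidAlgebra.coeff_single, Finsupp.single_apply]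
  rw [Finset.sum_ite_eq' T x]

theorem invF_chi {T : Finset H} (hT : Inv σ (T : Set H)) : InvF σ (chi R T) := by
  classical
  intro u x
  rw [chi_coeff, chi_coeff]
  have := hT.mem_iff u x
  simp only [Finset.mem_coe] at this
  simp only [this]

end Algebra

section Frobenius

variable [Fintype H] [DecidableEq H]

instance charP_monoidAlgebra (q : ℕ) [Fact q.Prime] : CharP (MonoidAlgebra (ZMod q) H) q :=
  charP_of_injective_ringHom (f := (MonoidAlgebra.singleOneRingHom : ZMod q →+* MonoidAlgebra (ZMod q) H))
    (fun a b h => MonoidAlgebra.single_right_injective h) q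

theorem chi_pow (q : ℕ) [Fact q.Prime] (T : Finset H) :
    (chi (ZMod q) T) ^ q = ∑ t ∈ T, MonoidAlgebra.single (t ^ q) (1 : ZMod q) := by
  unfold chi
  rw [sum_pow_char]
  refine Finset.sum_congr rfl fun t _ => ?_
  rw [MonoidAlgebra.single_pow, one_pow]

theorem chi_pow_coeff (q : ℕ) [Fact q.Prime] (T : Finset H) (y : H) :
    ((chi (ZMod q) T) ^ q).coeff y = ((T.filter fun t => t ^ q = y).card : ZMod q) := by
  rw [chi_pow, MonoidAlgebra.coeff_sum, Finsupp.finsetSum_apply]
  simp only [MonoidAlgebra.coeff_single, Finsupp.single_apply]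
  rw [Finset.card_filter, Nat.cast_sum]
  refine Finset.sum_congr rfl fun t _ => ?_
  split_ifs <;> simp

/-- Key lemma: for an invariant set `T` and a prime `q`, the function
`y ↦ #{t ∈ T | t ^ q = y} mod q` is invariant. -/
theorem Good.count_pow_invariant (hG : Good σ) (q : ℕ) [Fact q.Prime] {T : Finset H}
    (hT : Inv σ (T : Set H)) (u : K) (y : H) :
    ((T.filter fun t => t ^ q = σ u y).card : ZMod q) = ((T.filter fun t => t ^ q = y).card : ZMod q) := by
  rw [← chi_pow_coeff, ← chi_pow_coeff]
  exact hG.invF_pow (invF_chi hT) q u y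

end Frobenius

end Cfsg.Agent.Helper26.Schur
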