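import Cfsg.Agent.Helper26.SchurB

set_option autoImplicit false
set_option linter.unusedSectionVars false
set_option linter.unnecessarySimpa false

/-!
Burnside–Schur theorem, abstract part III: power maps and the `p`-th power dichotomy.
-/

namespace Cfsg.Agent.Helper26.Schur

open scoped Pointwise

variable {H : Type*} [CommGroup H] {K : Type*} [Group K] {σ : K →* Equiv.Perm H}
variable [Fintype H] [DecidableEq H]

theorem pow_injective_of_coprime {m : ℕ} (hm : (Nat.card H).Coprime m) :
    Function.Injective fun x : H => x ^ m :=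
  (Nat.Coprime.pow_left_bijective hm).1

/-- For a prime `q` not dividing `|H|`, the image of an invariant set under `x ↦ x ^ q` is invariant. -/
theorem Good.inv_image_pow_prime (hG : Good σ) {q : ℕ} (hq : q.Prime) (hqn : (Nat.card H).Coprime q)
    {T : Finset H} (hT : Inv σ (T : Set H)) : Inv σ ((T.image fun t => t ^ q : Finset H) : Set H) := by
  have : Fact q.Prime := ⟨hq⟩
  intro u y hy
  simp only [Finset.coe_image, Set.mem_image, Finset.mem_coe] at hy ⊢
  obtain ⟨t, ht, rfl⟩ := hy
  have h1 : (T.filter fun t' => t' ^ q = t ^ q) = {t} := by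
    ext t'
    simp only [Finset.mem_filter, Finset.mem_singleton]
    constructor
    · rintro ⟨_, h⟩
      exact pow_injective_of_coprime hqn h
    · rintro rfl
      exact ⟨ht, rfl⟩
  have h2 := hG.count_pow_invariant q hT u (t ^ q)
  rw [h1, Finset.card_singleton, Nat.cast_one] at h2
  have h3 : (T.filter fun t' => t' ^ q = σ u (t ^ q)).card ≠ 0 := by
    intro h0
    rw [h0, Nat.cast_zero] at h2
    exact zero_ne_one h2
  obtain ⟨t', ht'⟩ := Finset.card_pos.1 (Nat.pos_of_ne_zero h3)
  rw [Finset.mem_filter] at ht'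
  exact ⟨t', ht'.1, ht'.2⟩

/-- For `m` coprime to `|H|`, the image of an invariant set under `x ↦ x ^ m` is invariant. -/
theorem Good.inv_image_pow (hG : Good σ) (m : ℕ) :
    (Nat.card H).Coprime m → ∀ T : Finset H, Inv σ (T : Set H) →
      Inv σ ((T.image fun t => t ^ m : Finset H) : Set H) := by
  induction m using Nat.recOnMul with
  | zero =>
    intro _ T _ u y hy
    simp only [Finset.coe_image, Set.mem_image, Finset.mem_coe, pow_zero] at hy ⊢
    obtain ⟨t, ht, rfl⟩ := hy
    exact ⟨t, ht, (hG.one u).symm⟩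
  | one =>
    intro _ T hT
    simpa using hT
  | prime q hq =>
    intro hc T hT
    exact hG.inv_image_pow_prime hq hc hT
  | mul a b iha ihb =>
    intro hc T hT
    have ha : (Nat.card H).Coprime a := Nat.Coprime.coprime_mul_right_right hc
    have hb : (Nat.card H).Coprime b := Nat.Coprime.coprime_mul_left_right hc
    have h1 := ihb hb _ (iha ha T hT)
    have h2 : ((T.image fun t => t ^ a).image fun t => t ^ b) = T.image fun t => t ^ (a * b) := by
      rw [Finset.image_image]
      refine Finset.image_congr fun t _ => ?_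
      simp [pow_mul]
    rwa [h2] at h1


/-- The hypotheses of the abstract Burnside–Schur theorem. -/
structure Prim (σ : K →* Equiv.Perm H) (p : ℕ) : Prop where
  good : Good σ
  prime : p.Prime
  prim : ∀ L : Subgroup H, Inv σ (L : Set H) → L = ⊥ ∨ L = ⊤
  cardP0 : (Finset.univ.filter fun z : H => z ^ p = 1).card = p
  ne : Nat.card H ≠ p

variable {p : ℕ}

theorem Prim.exists_P0_ne_one (h : Prim σ p) : ∃ z : H, z ^ p = 1 ∧ z ≠ 1 := by
  have h1 : 1 < (Finset.univ.filter fun z : H => z ^ p = 1).card := by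
    rw [h.cardP0]; exact h.prime.one_lt
  obtain ⟨z, hz, hz1⟩ := Finset.exists_mem_ne h1 1
  exact ⟨z, (Finset.mem_filter.1 hz).2, hz1⟩

theorem Prim.pow_dichotomy (h : Prim σ p) {T : Finset H} (hT : Inv σ (T : Set H)) (t : H) :
    p ∣ (T.filter fun t' => t' ^ p = t ^ p).card ∨ t ^ p = 1 := by
  have : Fact p.Prime := ⟨h.prime⟩
  obtain ⟨U, hUdef⟩ : ∃ U : Set H, U = {y | ((T.filter fun t' => t' ^ p = y).card : ZMod p) ≠ 0} :=
    ⟨_, rfl⟩
  have hU : Inv σ U := by
    intro u y hy
    rw [hUdef] at hy ⊢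
    simp only [Set.mem_ofPred_eq] at hy ⊢
    rwa [h.good.count_pow_invariant p hT u y]
  have hcl := h.good.inv_closure hU
  have hle : Subgroup.closure U ≤ (powMonoidHom p : H →* H).range := by
    rw [Subgroup.closure_le]
    intro y hy
    rw [hUdef] at hy
    simp only [Set.mem_ofPred_eq] at hy
    have h3 : (T.filter fun t' => t' ^ p = y).card ≠ 0 := by
      intro h0
      rw [h0, Nat.cast_zero] at hy
      exact hy rfl
    obtain ⟨t', ht'⟩ := Finset.card_pos.1 (Nat.pos_of_ne_zero h3)
    rw [Finset.mem_filter] at ht'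
    exact ⟨t', ht'.2⟩
  rcases h.prim _ hcl with hbot | htop
  · by_cases h0 : ((T.filter fun t' => t' ^ p = t ^ p).card : ZMod p) = 0
    · left
      exact (ZMod.natCast_eq_zero_iff _ _).1 h0
    · right
      have hmem : t ^ p ∈ Subgroup.closure U := by
        apply Subgroup.subset_closure
        rw [hUdef]
        exact h0
      rw [hbot] at hmem
      exact Subgroup.mem_bot.1 hmem
  · exfalso
    rw [htop, top_le_iff] at hle
    have hsurj : Function.Surjective (powMonoidHom p : H →* H) := MonoidHom.range_eq_top.1 hle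
    have hinj : Function.Injective (powMonoidHom p : H →* H) := Finite.injective_iff_surjective.2 hsurj
    obtain ⟨z, hz, hz1⟩ := h.exists_P0_ne_one
    apply hz1
    apply hinj
    simp only [powMonoidHom_apply, hz, one_pow]

theorem Prim.coset_or_mem (h : Prim σ p) {T : Finset H} (hT : Inv σ (T : Set H)) {t : H} (ht : t ∈ T) :
    (∀ z : H, z ^ p = 1 → t * z ∈ T) ∨ t ^ p = 1 := by
  rcases h.pow_dichotomy hT t with hd | h1
  · left
    obtain ⟨F, hF⟩ : ∃ F, F = T.filter fun t' => t' ^ p = t ^ p := ⟨_, rfl⟩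
    obtain ⟨C, hC⟩ : ∃ C, C = (Finset.univ.filter fun z : H => z ^ p = 1).image fun z => t * z :=
      ⟨_, rfl⟩
    rw [← hF] at hd
    have hFC : F ⊆ C := by
      intro t' ht'
      rw [hF, Finset.mem_filter] at ht'
      rw [hC, Finset.mem_image]
      refine ⟨t⁻¹ * t', ?_, by rw [mul_inv_cancel_left]⟩
      rw [Finset.mem_filter]
      refine ⟨Finset.mem_univ _, ?_⟩
      rw [mul_pow, inv_pow, ht'.2, inv_mul_cancel]
    have hCcard : C.card = p := by
      rw [hC, Finset.card_image_of_injective _ (mul_right_injective t), h.cardP0]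
    have htF : t ∈ F := by rw [hF, Finset.mem_filter]; exact ⟨ht, rfl⟩
    have hFpos : 0 < F.card := Finset.card_pos.2 ⟨t, htF⟩
    have hle : C.card ≤ F.card := by rw [hCcard]; exact Nat.le_of_dvd hFpos hd
    have hEq : F = C := Finset.eq_of_subset_of_card_le hFC hle
    intro z hz
    have : t * z ∈ C := by
      rw [hC, Finset.mem_image]
      exact ⟨z, Finset.mem_filter.2 ⟨Finset.mem_univ _, hz⟩, rfl⟩
    rw [← hEq, hF, Finset.mem_filter] at this
    exact this.1
  · right; exact h1

theorem Prim.exists_mem_P0 (h : Prim σ p) {T : Finset H} (hT : Inv σ (T : Set H)) (hne : T.Nonempty)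
    (h1 : (1 : H) ∉ T) : ∃ t ∈ T, t ^ p = 1 := by
  by_contra hcon
  push Not at hcon
  have key : ∀ z : H, z ^ p = 1 → z ∈ MulAction.stabilizer H (T : Set H) := by
    intro z hz
    rw [MulAction.mem_stabilizer_set_iff_smul_set_subset (Set.toFinite _)]
    rintro _ ⟨t, ht, rfl⟩
    simp only [smul_eq_mul, Finset.mem_coe] at ht ⊢
    rw [mul_comm]
    rcases h.coset_or_mem hT ht with hc | hc
    · exact hc z hz
    · exact absurd hc (hcon t ht)
  obtain ⟨z, hz, hz1⟩ := h.exists_P0_ne_one
  rcases h.prim _ (h.good.inv_stabilizer hT) with hbot | htop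
  · have := key z hz
    rw [hbot] at this
    exact hz1 (Subgroup.mem_bot.1 this)
  · obtain ⟨t₀, ht₀⟩ := hne
    have hmem : t₀⁻¹ ∈ MulAction.stabilizer H (T : Set H) := by rw [htop]; exact Subgroup.mem_top _
    rw [MulAction.mem_stabilizer_iff] at hmem
    have h2 : t₀⁻¹ • t₀ ∈ t₀⁻¹ • (T : Set H) := Set.smul_mem_smul_set ht₀
    rw [hmem, smul_eq_mul, inv_mul_cancel] at h2
    exact h1 h2

end Cfsg.Agent.Helper26.Schur
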