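import Cfsg.Agent.Helper26.SchurC

set_option autoImplicit false
set_option linter.unusedSectionVars false
set_option linter.unnecessarySimpa false

/-!
Burnside–Schur theorem, abstract part IV: orbits have equal sizes; the counting argument.
-/

namespace Cfsg.Agent.Helper26.Schur

open scoped Pointwise

variable {H : Type*} [CommGroup H] {K : Type*} [Group K] {σ : K →* Equiv.Perm H}
variable [Fintype H] [DecidableEq H] {p : ℕ}

theorem orb_eq_of_mem {x z : H} (hz : z ∈ orb σ x) : orb σ z = orb σ x := by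
  apply Set.Subset.antisymm (orb_subset (inv_orb x) hz)
  obtain ⟨u, rfl⟩ := hz
  apply orb_subset (inv_orb _)
  exact ⟨u⁻¹, symm_apply_apply' u x⟩

/-- The orbit as a finset. -/
noncomputable def orbF (σ : K →* Equiv.Perm H) (x : H) : Finset H := (Set.toFinite (orb σ x)).toFinset

theorem coe_orbF (x : H) : ((orbF σ x : Finset H) : Set H) = orb σ x := by
  simp [orbF]

theorem mem_orbF {x y : H} : y ∈ orbF σ x ↔ y ∈ orb σ x := by
  simp [orbF]

theorem inv_orbF (x : H) : Inv σ ((orbF σ x : Finset H) : Set H) := by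
  rw [coe_orbF]; exact inv_orb x

theorem self_mem_orbF (x : H) : x ∈ orbF σ x := mem_orbF.2 (mem_orb_self x)

theorem orbF_eq_of_mem {x z : H} (hz : z ∈ orbF σ x) : orbF σ z = orbF σ x := by
  ext y
  rw [mem_orbF, mem_orbF, orb_eq_of_mem (mem_orbF.1 hz)]

theorem Good.one_notMem_orbF (hG : Good σ) {x : H} (hx : x ≠ 1) : (1 : H) ∉ orbF σ x := fun h =>
  hG.one_notMem_orb hx (mem_orbF.1 h)

/-- Every non-identity orbit meets `P₀ = {z | z ^ p = 1}` in a non-identity element. -/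
theorem Prim.exists_orb_P0 (h : Prim σ p) {x : H} (hx : x ≠ 1) :
    ∃ z ∈ orbF σ x, z ^ p = 1 ∧ z ≠ 1 := by
  obtain ⟨z, hz, hzp⟩ := h.exists_mem_P0 (inv_orbF x) ⟨x, self_mem_orbF x⟩ (h.good.one_notMem_orbF hx)
  refine ⟨z, hz, hzp, ?_⟩
  rintro rfl
  exact h.good.one_notMem_orbF hx hz

/-- Existence of a suitable exponent. -/
theorem exists_coprime_modEq {n p j : ℕ} (hp : p.Prime) (hn : n ≠ 0) (hj : ¬ p ∣ j) :
    ∃ m, m ≡ j [MOD p] ∧ n.Coprime m := by
  have hcop : p.Coprime (n / p ^ n.factorization p) := Nat.coprime_ordCompl hp hn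
  obtain ⟨m, hm1, hm2⟩ := Nat.chineseRemainder hcop j 1
  refine ⟨m, hm1, ?_⟩
  rw [← Nat.ordProj_mul_ordCompl_eq_self n p]
  apply Nat.Coprime.mul_left
  · apply Nat.Coprime.pow_left
    rw [Nat.Prime.coprime_iff_not_dvd hp]
    intro hd
    apply hj
    exact (Nat.modEq_zero_iff_dvd.1 (hm1.symm.trans (Nat.modEq_zero_iff_dvd.2 hd)))
  · have : Nat.gcd (n / p ^ n.factorization p) m = Nat.gcd (n / p ^ n.factorization p) 1 := by
      rw [Nat.gcd_comm, Nat.gcd_comm _ 1]
      exact Nat.ModEq.gcd_eq hm2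
    rw [Nat.Coprime, this, Nat.gcd_one_right]

theorem Prim.orbF_subset_image (h : Prim σ p) {x x' : H} (hx : x ≠ 1) (hx' : x' ≠ 1) :
    ∃ m, (Nat.card H).Coprime m ∧ orbF σ x' ⊆ (orbF σ x).image fun t => t ^ m := by
  have : Fact p.Prime := ⟨h.prime⟩
  obtain ⟨z, hz, hzp, hz1⟩ := h.exists_orb_P0 hx
  obtain ⟨z', hz', hzp', hz1'⟩ := h.exists_orb_P0 hx'
  -- z' is a power of z
  obtain ⟨P0, hP0⟩ : ∃ P0 : Subgroup H, P0 = (powMonoidHom p : H →* H).ker := ⟨_, rfl⟩
  have hmemP0 : ∀ y : H, y ∈ P0 ↔ y ^ p = 1 := by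
    intro y; rw [hP0, MonoidHom.mem_ker, powMonoidHom_apply]
  have hcard : Nat.card P0 = p := by
    classical
    rw [← h.cardP0, Nat.card_eq_fintype_card, Fintype.card_subtype]
    congr 1
    ext y
    simp [hmemP0]
  have hzP : z ∈ P0 := (hmemP0 z).2 hzp
  have hzP' : z' ∈ P0 := (hmemP0 z').2 hzp'
  have hne : (⟨z, hzP⟩ : P0) ≠ 1 := by
    intro hh
    apply hz1
    exact congrArg Subtype.val hh
  have hpow : (⟨z', hzP'⟩ : P0) ∈ Subgroup.zpowers (⟨z, hzP⟩ : P0) := mem_zpowers_of_prime_card hcard hne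
  rw [← mem_powers_iff_mem_zpowers] at hpow
  obtain ⟨j, hj⟩ := hpow
  have hj' : z ^ j = z' := by
    have := congrArg Subtype.val hj
    simpa using this
  have hjp : ¬ p ∣ j := by
    rintro ⟨c, rfl⟩
    rw [pow_mul, hzp, one_pow] at hj'
    exact hz1' hj'.symm
  have hn0 : Nat.card H ≠ 0 := Nat.card_pos.ne'
  obtain ⟨m, hm1, hm2⟩ := exists_coprime_modEq h.prime hn0 hjp
  refine ⟨m, hm2, ?_⟩
  have hord : orderOf z = p := orderOf_eq_prime hzp hz1
  have hzm : z ^ m = z' := by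
    rw [← hj']
    rw [pow_eq_pow_iff_modEq, hord]
    exact hm1
  have hinv := h.good.inv_image_pow m hm2 _ (inv_orbF (σ := σ) x)
  have hmem : z' ∈ ((orbF σ x).image fun t => t ^ m) := by
    rw [Finset.mem_image]
    exact ⟨z, hz, hzm⟩
  rw [← orbF_eq_of_mem hz']
  intro y hy
  have := orb_subset hinv (Finset.mem_coe.2 hmem) (mem_orbF.1 hy)
  exact Finset.mem_coe.1 this

theorem Prim.card_orbF_le (h : Prim σ p) {x x' : H} (hx : x ≠ 1) (hx' : x' ≠ 1) :
    (orbF σ x').card ≤ (orbF σ x).card ∧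
    ((orbF σ x').filter fun t => t ^ p = 1).card ≤ ((orbF σ x).filter fun t => t ^ p = 1).card := by
  obtain ⟨m, hm, hsub⟩ := h.orbF_subset_image hx hx'
  constructor
  · exact (Finset.card_le_card hsub).trans Finset.card_image_le
  · have h2 : ((orbF σ x').filter fun t => t ^ p = 1) ⊆
        ((orbF σ x).filter fun t => t ^ p = 1).image fun t => t ^ m := by
      intro y hy
      rw [Finset.mem_filter] at hy
      have := hsub hy.1
      rw [Finset.mem_image] at this ⊢
      obtain ⟨t, ht, rfl⟩ := this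
      refine ⟨t, ?_, rfl⟩
      rw [Finset.mem_filter]
      refine ⟨ht, ?_⟩
      apply pow_injective_of_coprime hm
      simp only [one_pow]
      rw [← pow_mul, mul_comm, pow_mul]
      exact hy.2
    exact (Finset.card_le_card h2).trans Finset.card_image_le

theorem Prim.card_orbF_eq (h : Prim σ p) {x x' : H} (hx : x ≠ 1) (hx' : x' ≠ 1) :
    (orbF σ x').card = (orbF σ x).card ∧
    ((orbF σ x').filter fun t => t ^ p = 1).card = ((orbF σ x).filter fun t => t ^ p = 1).card :=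
  ⟨le_antisymm (h.card_orbF_le hx hx').1 (h.card_orbF_le hx' hx).1,
   le_antisymm (h.card_orbF_le hx hx').2 (h.card_orbF_le hx' hx).2⟩

end Cfsg.Agent.Helper26.Schur
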