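import Cfsg.Agent.Helper26.SchurD

set_option autoImplicit false
set_option linter.unusedSectionVars false
set_option linter.unnecessarySimpa false

/-!
Burnside–Schur theorem, abstract part V: structure constants and the final counting argument.
Main result: `Prim.transitive` and `schur_abstract`.
-/

namespace Cfsg.Agent.Helper26.Schur

open scoped Pointwise

variable {H : Type*} [CommGroup H] {K : Type*} [Group K] {σ : K →* Equiv.Perm H}
variable [Fintype H] [DecidableEq H] {p : ℕ}

/-- The structure constant function `x ↦ #{y ∈ T | x⁻¹ * y ∈ T}`. -/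
def fT (T : Finset H) (x : H) : ℕ := (T.filter fun y => x⁻¹ * y ∈ T).card

theorem Good.fT_invariant (hG : Good σ) {T : Finset H} (hT : Inv σ (T : Set H)) (u : K) (x : H) :
    fT T (σ u x) = fT T x := by
  unfold fT
  symm
  apply Finset.card_equiv (σ u)
  intro y
  simp only [Finset.mem_filter]
  obtain ⟨u', hu'⟩ := hG.F u x
  rw [hu' y]
  have h1 := hT.mem_iff u y
  have h2 := hT.mem_iff u' (x⁻¹ * y)
  simp only [Finset.mem_coe] at h1 h2
  rw [h1, h2]

theorem fT_one (T : Finset H) : fT T 1 = T.card := by
  unfold fT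
  congr 1
  ext y
  simp

theorem sum_fT (T : Finset H) : ∑ x, fT T x = T.card * T.card := by
  unfold fT
  simp_rw [Finset.card_filter]
  rw [Finset.sum_comm]
  have : ∀ y ∈ T, (∑ x : H, if x⁻¹ * y ∈ T then 1 else 0) = T.card := by
    intro y _
    rw [← Finset.card_filter]
    apply Finset.card_equiv ((Equiv.inv H).trans (Equiv.mulRight y))
    intro x
    simp
  rw [Finset.sum_congr rfl this, Finset.sum_const, smul_eq_mul]

theorem Prim.le_fT (h : Prim σ p) {x₀ x : H} (hx : x ≠ 1) :
    ((orbF σ x₀).filter fun t => ¬ t ^ p = 1).card ≤ fT (orbF σ x₀) x := by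
  obtain ⟨z, hz, hzp, _⟩ := h.exists_orb_P0 hx
  obtain ⟨u, hu⟩ := mem_orbF.1 hz
  simp only at hu
  rw [← h.good.fT_invariant (inv_orbF x₀) u x, hu]
  unfold fT
  apply Finset.card_le_card_of_injOn (fun t => z * t)
  · intro t ht
    simp only [Finset.coe_filter, Set.mem_ofPred_eq] at ht ⊢
    have hmem : z * t ∈ orbF σ x₀ := by
      rw [mul_comm]
      rcases h.coset_or_mem (inv_orbF x₀) ht.1 with hc | hc
      · exact hc z hzp
      · exact absurd hc ht.2
    refine ⟨hmem, ?_⟩
    rw [inv_mul_cancel_left]
    exact ht.1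
  · intro a _ b _ hab
    exact mul_left_cancel hab

/-- The abstract Burnside–Schur theorem: the action is transitive on the non-identity elements. -/
theorem Prim.transitive (h : Prim σ p) {x₀ x₁ : H} (hx₀ : x₀ ≠ 1) (hx₁ : x₁ ≠ 1) : x₁ ∈ orb σ x₀ := by
  by_contra hcon
  obtain ⟨T, hT⟩ : ∃ T, T = orbF σ x₀ := ⟨_, rfl⟩
  obtain ⟨T', hT'⟩ : ∃ T', T' = orbF σ x₁ := ⟨_, rfl⟩
  obtain ⟨hk', ha'⟩ := h.card_orbF_eq hx₀ hx₁
  rw [← hT, ← hT'] at hk' ha'
  have hdisj : Disjoint T T' := by
    rw [Finset.disjoint_left]
    intro w hw hw'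
    rw [hT] at hw
    rw [hT'] at hw'
    have e1 := orbF_eq_of_mem hw
    have e2 := orbF_eq_of_mem hw'
    apply hcon
    rw [← mem_orbF, ← e1, e2]
    exact self_mem_orbF x₁
  have h1T : (1 : H) ∉ T := by rw [hT]; exact h.good.one_notMem_orbF hx₀
  have h1T' : (1 : H) ∉ T' := by rw [hT']; exact h.good.one_notMem_orbF hx₁
  -- (i)
  have hi : T.card + T.card + 1 ≤ Fintype.card H := by
    have h1 : (1 : H) ∉ T ∪ T' := by
      rw [Finset.mem_union]; rintro (h | h)
      · exact h1T h
      · exact h1T' h
    have := Finset.card_le_univ (insert 1 (T ∪ T'))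
    rw [Finset.card_insert_of_notMem h1, Finset.card_union_of_disjoint hdisj, hk'] at this
    exact this
  -- (ii)
  obtain ⟨A, hA⟩ : ∃ A, A = T.filter fun t => t ^ p = 1 := ⟨_, rfl⟩
  obtain ⟨A', hA'⟩ : ∃ A', A' = T'.filter fun t => t ^ p = 1 := ⟨_, rfl⟩
  rw [← hA, ← hA'] at ha'
  have hii : A.card + A.card + 1 ≤ p := by
    have hd : Disjoint A A' := by
      rw [hA, hA']
      exact Finset.disjoint_filter_filter hdisj
    have h1 : (1 : H) ∉ A ∪ A' := by
      rw [Finset.mem_union, hA, hA']; rintro (h | h)
      · exact h1T (Finset.mem_filter.1 h).1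
      · exact h1T' (Finset.mem_filter.1 h).1
    have hsub : insert 1 (A ∪ A') ⊆ Finset.univ.filter fun z : H => z ^ p = 1 := by
      intro y hy
      rw [Finset.mem_insert, Finset.mem_union] at hy
      rw [Finset.mem_filter]
      refine ⟨Finset.mem_univ _, ?_⟩
      rcases hy with rfl | hy | hy
      · exact one_pow _
      · rw [hA] at hy; exact (Finset.mem_filter.1 hy).2
      · rw [hA'] at hy; exact (Finset.mem_filter.1 hy).2
    have := Finset.card_le_card hsub
    rw [Finset.card_insert_of_notMem h1, Finset.card_union_of_disjoint hd, ha', h.cardP0] at this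
    exact this
  -- (iii)
  obtain ⟨B, hB⟩ : ∃ B, B = T.filter fun t => ¬ t ^ p = 1 := ⟨_, rfl⟩
  have hab : A.card + B.card = T.card := by
    rw [hA, hB]
    exact Finset.card_filter_add_card_filter_not _
  have hiii : T.card + (Fintype.card H - 1) * B.card ≤ T.card * T.card := by
    rw [← sum_fT T, ← Finset.add_sum_erase Finset.univ _ (Finset.mem_univ (1 : H)), fT_one]
    apply Nat.add_le_add_left
    have hc : (Finset.univ.erase (1 : H)).card = Fintype.card H - 1 := by
      rw [Finset.card_erase_of_mem (Finset.mem_univ _), Finset.card_univ]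
    rw [← hc, ← smul_eq_mul]
    apply Finset.card_nsmul_le_sum
    intro x hx
    rw [hB, hT]
    exact h.le_fT (Finset.ne_of_mem_erase hx)
  have hTpos : 0 < T.card := Finset.card_pos.2 ⟨x₀, by rw [hT]; exact self_mem_orbF x₀⟩
  rcases Nat.eq_zero_or_pos B.card with hb0 | hbpos
  · -- all orbits inside P0
    have hall : ∀ x : H, x ^ p = 1 := by
      intro x
      by_cases hx : x = 1
      · rw [hx, one_pow]
      · obtain ⟨e1, e2⟩ := h.card_orbF_eq hx₀ hx
        rw [← hT] at e1 e2
        rw [← hA] at e2
        have hAT : A.card = T.card := by omega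
        have hsub : ((orbF σ x).filter fun t => t ^ p = 1) ⊆ orbF σ x := Finset.filter_subset _ _
        have heq := Finset.eq_of_subset_of_card_le hsub (by rw [e1, e2, hAT])
        have hxm := self_mem_orbF (σ := σ) x
        rw [← heq, Finset.mem_filter] at hxm
        exact hxm.2
    have hu : (Finset.univ.filter fun z : H => z ^ p = 1) = Finset.univ := by
      ext z; simp [hall z]
    have := h.cardP0
    rw [hu, Finset.card_univ] at this
    exact h.ne (by rw [Nat.card_eq_fintype_card]; exact this)
  · -- B nonempty gives p ≤ |B|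
    obtain ⟨t, ht⟩ := Finset.card_pos.1 hbpos
    have hpB : p ≤ B.card := by
      rw [← h.cardP0]
      apply Finset.card_le_card_of_injOn (fun z => t * z)
      · intro z hz
        simp only [Finset.coe_filter, Finset.mem_univ, true_and, Set.mem_ofPred_eq] at hz
        rw [hB] at ht ⊢
        rw [Finset.mem_filter] at ht
        simp only [Finset.coe_filter, Set.mem_ofPred_eq]
        constructor
        · rcases h.coset_or_mem (T := T) (by rw [hT]; exact inv_orbF x₀) ht.1 with hc | hc
          · exact hc z hz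
          · exact absurd hc ht.2
        · rw [mul_pow, hz, mul_one]
          exact ht.2
      · intro a _ b _ hab
        exact mul_left_cancel hab
    have h2k : 2 * T.card ≤ Fintype.card H - 1 := by omega
    have h3 : T.card + 2 * T.card * B.card ≤ T.card * T.card :=
      le_trans (Nat.add_le_add_left (Nat.mul_le_mul_right _ h2k) _) hiii
    have h4 : T.card * (1 + 2 * B.card) ≤ T.card * T.card := by
      calc T.card * (1 + 2 * B.card) = T.card + 2 * T.card * B.card := by ring
        _ ≤ T.card * T.card := h3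
    have h5 : 1 + 2 * B.card ≤ T.card := Nat.le_of_mul_le_mul_left h4 hTpos
    omega


omit [Fintype H] [DecidableEq H] in
/-- The abstract Burnside–Schur theorem for cyclic `H` of composite order. -/
theorem schur_abstract [Finite H] [IsCyclic H] (σ : K →* Equiv.Perm H) (hG : Good σ) (p : ℕ)
    (hp : p.Prime) (hpn : p ∣ Nat.card H) (hne : Nat.card H ≠ p)
    (hprim : ∀ L : Subgroup H, Inv σ (L : Set H) → L = ⊥ ∨ L = ⊤) :
    ∀ x y : H, x ≠ 1 → y ≠ 1 → ∃ u, σ u x = y := by
  classical
  have : Fintype H := Fintype.ofFinite H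
  have : Fact p.Prime := ⟨hp⟩
  have hcardP0 : (Finset.univ.filter fun z : H => z ^ p = 1).card = p := by
    apply le_antisymm (IsCyclic.card_pow_eq_one_le hp.pos)
    obtain ⟨x, hx⟩ := exists_prime_orderOf_dvd_card' p hpn
    rw [← hx]
    have hsub : (Finset.range (orderOf x)).image (fun i => x ^ i) ⊆
        Finset.univ.filter fun z : H => z ^ orderOf x = 1 := by
      intro y hy
      rw [Finset.mem_image] at hy
      obtain ⟨i, _, rfl⟩ := hy
      rw [Finset.mem_filter]
      refine ⟨Finset.mem_univ _, ?_⟩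
      rw [← pow_mul, mul_comm, pow_mul, pow_orderOf_eq_one, one_pow]
    have hcard : ((Finset.range (orderOf x)).image (fun i => x ^ i)).card = orderOf x := by
      rw [Finset.card_image_of_injOn, Finset.card_range]
      intro i hi j hj hij
      simp only [Finset.coe_range, Set.mem_Iio] at hi hj
      exact pow_injOn_Iio_orderOf hi hj hij
    calc orderOf x = _ := hcard.symm
      _ ≤ _ := Finset.card_le_card hsub
  have hP : Prim σ p := ⟨hG, hp, hprim, hcardP0, hne⟩
  intro x y hx hy
  obtain ⟨u, hu⟩ := hP.transitive hx hy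
  exact ⟨u, hu⟩

end Cfsg.Agent.Helper26.Schur
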