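import Cfsg.Agent.Helper26.SchurF

set_option autoImplicit false
set_option linter.unusedSectionVars false
set_option linter.unnecessarySimpa false
set_option linter.style.haveILetI false

/-!
Burnside's theorem for degree `p ^ m`: a transitive group of degree `p ^ m` (`m ≥ 2`) containing an
element `g` of order `p ^ m` which is not doubly transitive is imprimitive, and the normal closure
of `g ^ (p ^ (m - 1))` is intransitive.
-/

namespace Cfsg.Agent.Helper26.Schur

open scoped Pointwise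
open MulAction

/-- Every nontrivial subgroup of a cyclic `p`-group `⟨g⟩` contains `g ^ (p ^ (m - 1))`. -/
theorem pow_mem_of_ne_bot {X : Type*} [Group X] {g : X} {p m : ℕ} (hp : p.Prime)
    (hg : orderOf g = p ^ m) (L : Subgroup X) (hL : L ≤ Subgroup.zpowers g) (hne : L ≠ ⊥) :
    g ^ (p ^ (m - 1)) ∈ L := by
  obtain ⟨⟨h, hhL⟩, hh1⟩ := Subgroup.ne_bot_iff_exists_ne_one.1 hne
  have hh1' : h ≠ 1 := fun e => hh1 (Subtype.ext e)
  have hfin : IsOfFinOrder g := by
    rw [← orderOf_pos_iff, hg]; exact pow_pos hp.pos m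
  obtain ⟨j, hj⟩ := (hfin.mem_powers_iff_mem_zpowers).2 (hL hhL)
  simp only at hj
  have hgN : g ^ (p ^ m) = 1 := by rw [← hg]; exact pow_orderOf_eq_one g
  obtain ⟨a, ham, ha⟩ := (Nat.dvd_prime_pow hp).1 (Nat.gcd_dvd_right j (p ^ m))
  have ham' : a ≠ m := by
    rintro rfl
    apply hh1'
    rw [← hj]
    have : p ^ a ∣ j := by rw [← ha]; exact Nat.gcd_dvd_left _ _
    obtain ⟨c, rfl⟩ := this
    rw [pow_mul, hgN, one_pow]
  have hmemd : g ^ (p ^ a) ∈ L := by
    have h1 : g ^ ((Nat.gcd j (p ^ m) : ℕ) : ℤ) = (g ^ j) ^ (Nat.gcdA j (p ^ m)) := by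
      rw [Nat.gcd_eq_gcd_ab, zpow_add, zpow_mul, zpow_mul, zpow_natCast, zpow_natCast, hgN,
        one_zpow, mul_one]
    rw [zpow_natCast, ha] at h1
    rw [h1, hj]
    exact L.zpow_mem hhL _
  have : g ^ (p ^ (m - 1)) = (g ^ (p ^ a)) ^ (p ^ (m - 1 - a)) := by
    rw [← pow_mul, ← pow_add]
    congr 2
    omega
  rw [this]
  exact L.pow_mem hmemd _

variable {X Ω : Type*} [Group X] [MulAction X Ω]

/-- An element of order `p ^ m = |Ω|` acting faithfully generates a regular subgroup. -/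
theorem exists_regular_point [FaithfulSMul X Ω] [Finite Ω] {p m : ℕ} (hp : p.Prime) (hm : 1 ≤ m)
    (hΩ : Nat.card Ω = p ^ m) {g : X} (hg : orderOf g = p ^ m) :
    ∃ ω₀ : Ω, Function.Bijective fun h : Subgroup.zpowers g => (Subgroup.zpowers g).subtype h • ω₀ := by
  obtain ⟨z, hz⟩ : ∃ z, z = g ^ (p ^ (m - 1)) := ⟨_, rfl⟩
  have hz1 : z ≠ 1 := by
    intro h
    rw [hz] at h
    have := orderOf_dvd_of_pow_eq_one h
    rw [hg] at this
    have h2 := Nat.le_of_dvd (pow_pos hp.pos _) this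
    have h3 : p ^ (m - 1) < p ^ m := Nat.pow_lt_pow_right hp.one_lt (by omega)
    omega
  have hex : ∃ ω₀ : Ω, stabilizer X ω₀ ⊓ Subgroup.zpowers g = ⊥ := by
    by_contra hcon
    push Not at hcon
    apply hz1
    apply FaithfulSMul.eq_of_smul_eq_smul (α := Ω)
    intro ω
    rw [one_smul]
    have := pow_mem_of_ne_bot hp hg _ inf_le_right (hcon ω)
    rw [← hz] at this
    exact (Subgroup.mem_inf.1 this).1
  obtain ⟨ω₀, hω₀⟩ := hex
  refine ⟨ω₀, ?_⟩
  apply Function.Injective.bijective_of_nat_card_le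
  · intro a b hab
    simp only [Subgroup.coe_subtype] at hab
    have hmem : (b : X)⁻¹ * (a : X) ∈ stabilizer X ω₀ ⊓ Subgroup.zpowers g := by
      refine Subgroup.mem_inf.2 ⟨?_, ?_⟩
      · rw [mem_stabilizer_iff, mul_smul, inv_smul_eq_iff]; exact hab
      · exact (Subgroup.zpowers g).mul_mem ((Subgroup.zpowers g).inv_mem b.2) a.2
    rw [hω₀, Subgroup.mem_bot, inv_mul_eq_one] at hmem
    exact Subtype.ext hmem.symm
  · rw [Nat.card_zpowers, hg, hΩ]

/-- A block with at least two points is fixed by `g ^ (p ^ (m - 1))`. -/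
theorem smul_block_eq {p m : ℕ} (hp : p.Prime) {g : X} (hg : orderOf g = p ^ m) {ω₀ : Ω}
    (hbij : Function.Bijective fun h : Subgroup.zpowers g => (Subgroup.zpowers g).subtype h • ω₀)
    {B : Set Ω} (hB : IsBlock X B) (hnt : B.Nontrivial) : g ^ (p ^ (m - 1)) • B = B := by
  obtain ⟨a, ha, b, hb, hab⟩ := hnt
  obtain ⟨c₁, hc₁⟩ := hbij.2 a
  obtain ⟨c₂, hc₂⟩ := hbij.2 b
  simp only [Subgroup.coe_subtype] at hc₁ hc₂
  have hmem : (c₂ : X) * (c₁ : X)⁻¹ ∈ stabilizer X B ⊓ Subgroup.zpowers g := by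
    refine Subgroup.mem_inf.2 ⟨?_, ?_⟩
    · rw [mem_stabilizer_iff]
      apply hB.smul_eq_of_mem ha
      rw [← hc₁, mul_smul, inv_smul_smul, hc₂]
      exact hb
    · exact (Subgroup.zpowers g).mul_mem c₂.2 ((Subgroup.zpowers g).inv_mem c₁.2)
  have hne : stabilizer X B ⊓ Subgroup.zpowers g ≠ ⊥ := by
    intro h
    rw [h, Subgroup.mem_bot, mul_inv_eq_one] at hmem
    apply hab
    rw [← hc₁, ← hc₂, hmem]
  have := pow_mem_of_ne_bot hp hg _ inf_le_right hne
  exact mem_stabilizer_iff.1 (Subgroup.mem_inf.1 this).1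

/-- The kernel of the action on the translates of a set. -/
def blockKernel (X : Type*) [Group X] {Ω : Type*} [MulAction X Ω] (B : Set Ω) : Subgroup X :=
  ⨅ x : X, stabilizer X (x • B)

theorem mem_blockKernel {B : Set Ω} {n : X} : n ∈ blockKernel X B ↔ ∀ x : X, n • x • B = x • B := by
  simp [blockKernel, Subgroup.mem_iInf, mem_stabilizer_iff]

instance blockKernel_normal (B : Set Ω) : (blockKernel X B).Normal where
  conj_mem n hn y := by
    rw [mem_blockKernel] at hn ⊢
    intro x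
    have := hn (y⁻¹ * x)
    calc (y * n * y⁻¹) • x • B = y • (n • ((y⁻¹ * x) • B)) := by simp only [mul_smul]
      _ = y • ((y⁻¹ * x) • B) := by rw [this]
      _ = x • B := by rw [mul_smul, smul_inv_smul]

/-- Burnside: degree `p ^ m`, `m ≥ 2`, containing an element of order `p ^ m`. -/
theorem burnside_prime_power [FaithfulSMul X Ω] [Finite Ω] {p m : ℕ} (hp : p.Prime) (hm : 2 ≤ m)
    (hΩ : Nat.card Ω = p ^ m) (htr : IsPretransitive X Ω) (h2 : ¬ IsMultiplyPretransitive X Ω 2)
    (g : X) (hg : orderOf g = p ^ m) :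
    ¬ IsPreprimitive X Ω ∧
      ¬ IsPretransitive (Subgroup.normalClosure ({g ^ (p ^ (m - 1))} : Set X)) Ω := by
  obtain ⟨ω₀, hbij⟩ := exists_regular_point hp (by omega) hΩ hg
  have hcard : Nat.card (Subgroup.zpowers g) = p ^ m := by rw [Nat.card_zpowers, hg]
  have hnotprim : ¬ IsPreprimitive X Ω := by
    intro hprim
    apply h2
    haveI : Finite (Subgroup.zpowers g) :=
      Nat.finite_of_card_ne_zero (by rw [hcard]; exact (pow_pos hp.pos m).ne')
    letI : CommGroup (Subgroup.zpowers g) := IsCyclic.commGroup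
    refine two_transitive_of_regular_cyclic (Subgroup.zpowers g).subtype ω₀ hbij p hp ?_ ?_
    · rw [hcard]; exact dvd_pow_self p (by omega)
    · rw [hcard]
      intro h
      have h3 : p ^ 1 < p ^ m := Nat.pow_lt_pow_right hp.one_lt (by omega)
      rw [pow_one] at h3
      omega
  refine ⟨hnotprim, ?_⟩
  -- a nontrivial block
  have hex : ∃ B : Set Ω, IsBlock X B ∧ ¬ IsTrivialBlock B := by
    by_contra hall
    push Not at hall
    exact hnotprim (IsPreprimitive.mk fun {B} hB => hall B hB)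
  obtain ⟨B, hB, hBnt⟩ := hex
  unfold IsTrivialBlock at hBnt
  push Not at hBnt
  obtain ⟨hB1, hB2⟩ := hBnt
  have hB1' : B.Nontrivial := hB1
  obtain ⟨b, hb⟩ := (Set.ne_univ_iff_exists_notMem B).1 hB2
  obtain ⟨a, ha⟩ := hB1'.nonempty
  have hzM : g ^ (p ^ (m - 1)) ∈ blockKernel X B := by
    rw [mem_blockKernel]
    intro x
    have hBx : IsBlock X (x • B) := hB.translate x
    have hBxnt : (x • B).Nontrivial := by
      obtain ⟨a₁, ha₁, a₂, ha₂, h12⟩ := hB1'
      exact ⟨x • a₁, Set.smul_mem_smul_set ha₁, x • a₂, Set.smul_mem_smul_set ha₂,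
        fun h => h12 (smul_left_cancel x h)⟩
    exact smul_block_eq hp hg hbij hBx hBxnt
  have hle : Subgroup.normalClosure ({g ^ (p ^ (m - 1))} : Set X) ≤ blockKernel X B :=
    Subgroup.normalClosure_le_normal (by
      intro y hy
      rw [Set.mem_singleton_iff] at hy
      rw [hy]
      exact hzM)
  intro htrN
  obtain ⟨n, hn⟩ := htrN.exists_smul_eq a b
  have hnM := hle n.2
  rw [mem_blockKernel] at hnM
  have h1 := hnM 1
  rw [one_smul] at h1
  apply hb
  rw [← hn, ← h1]
  exact Set.smul_mem_smul_set ha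

end Cfsg.Agent.Helper26.Schur
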