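import Mathlib
import Cfsg.Agent.Helper26.StableNormal
import Cfsg.Agent.Helper26.QuadStable2
import Cfsg.Agent.Lead.TNC11

set_option autoImplicit false
set_option linter.style.haveILetI false
set_option linter.unusedSectionVars false
set_option linter.unusedVariables false

/-! # Action-`p`-stability from abelian `2`-subgroups, and Thompson's normal `p`-complement
theorem in the form with `W(S)` -/

namespace Cfsg.Agent.Helper26

open Subgroup
open scoped commutatorElement

universe u

section actionStable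

/-- `p`-stability on a normal elementary abelian subgroup, from abelian `2`-subgroups -/
theorem isPStableOn_of_ab2' {X : Type*} [Group X] [Finite X] {p : ℕ} [Fact p.Prime] (hp : p ≠ 2)
    (h2 : Ab2 X) (V : Subgroup X) [V.Normal]
    (hV : Cfsg.IsElementaryAbelian p V) : Cfsg.IsPStableOn p V := by
  intro a hq
  have hVp : IsPGroup p V := by
    rintro ⟨x, hx⟩
    refine ⟨1, ?_⟩
    apply Subtype.ext
    simp only [pow_one, SubgroupClass.coe_pow, OneMemClass.coe_one]
    exact hV.2 x hx
  have hq' : ∀ x ∈ V, ⁅⁅x, a⁆, a⁆ ∈ (frattini ↥V).map V.subtype := by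
    intro x hx
    have h1 : ⁅⁅x, a⁆, a⁆ ∈ ⁅⁅V, zpowers a⁆, zpowers a⁆ :=
      commutator_mem_commutator (commutator_mem_commutator hx (mem_zpowers a)) (mem_zpowers a)
    rw [hq, mem_bot] at h1
    rw [h1]
    exact one_mem _
  obtain ⟨D, hDn, hD1, hD2, hD3⟩ := exists_normal_of_quad_frat' hp V hVp h2 a hq'
  set π := QuotientGroup.mk' (centralizer (V : Set X)) with hπ
  have hDmn : (D.map π).Normal := hDn.map π (QuotientGroup.mk'_surjective _)
  have hDmp : IsPGroup p (D.map π) := by
    rintro ⟨y, hy⟩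
    obtain ⟨d, hd, rfl⟩ := Subgroup.mem_map.mp hy
    obtain ⟨k, hk⟩ := hD2 d hd
    refine ⟨k, ?_⟩
    apply Subtype.ext
    simp only [SubgroupClass.coe_pow, OneMemClass.coe_one]
    rw [← map_pow]
    exact (QuotientGroup.eq_one_iff _).mpr hk
  exact Cfsg.Agent.Helper14.le_pCore p hDmn hDmp (Subgroup.mem_map_of_mem π hD3)

/-- for odd `p`, groups whose `2`-subgroups are abelian are `p`-stable in the action sense -/
theorem isActionPStable_of_ab2 {G : Type*} [Group G] [Finite G] {p : ℕ} [Fact p.Prime]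
    (hp : p ≠ 2) (h2 : Ab2 G) : Cfsg.IsActionPStable p G := by
  classical
  refine ⟨?_, ?_, ?_⟩
  · intro V _ hV
    exact isPStableOn_of_ab2' hp h2 V hV
  · intro a ha
    rw [sectionKernel_frattini_eq']
    have hPp : IsPGroup p (Cfsg.pCore p G) := Cfsg.Agent.Helper14.pCore_isPGroup p
    have hq : ∀ x ∈ Cfsg.pCore p G, ⁅⁅x, a⁆, a⁆ ∈
        (frattini ↥(Cfsg.pCore p G)).map (Cfsg.pCore p G).subtype := by
      intro x hx
      apply ha
      exact Subgroup.commutator_mem_commutator
        (Subgroup.commutator_mem_commutator hx (Subgroup.mem_zpowers a)) (Subgroup.mem_zpowers a)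
    obtain ⟨D, hDn, hD1, hD2, hD3⟩ := exists_normal_of_quad_frat hp (Cfsg.pCore p G) hPp h2 a hq
    refine ⟨D, hDn, hD1, ?_, hD3⟩
    have hquot : IsPGroup p (↥D ⧸ (Cfsg.Agent.Helper14.fratStab (Cfsg.pCore p G)).subgroupOf D) := by
      intro q
      obtain ⟨x, rfl⟩ := QuotientGroup.mk_surjective q
      obtain ⟨k, hk⟩ := hD2 x.1 x.2
      refine ⟨k, ?_⟩
      rw [← QuotientGroup.mk_pow, QuotientGroup.eq_one_iff, Subgroup.mem_subgroupOf]
      simpa using hk
    obtain ⟨n, hn⟩ := IsPGroup.iff_card.mp hquot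
    refine ⟨n, ?_⟩
    rw [← hn]
    exact (Subgroup.index_eq_card _)
  · intro S V _ hV
    have h2N : Ab2 ↥(Subgroup.normalizer (Cfsg.thompsonSubgroupOf p (S : Subgroup G) : Set G)) :=
      h2.subgroup _
    apply isPStableOn_of_ab2' hp h2N V
    rw [omegaCenterThompson_map_eq] at hV
    obtain ⟨A₀, hA₀⟩ := famEl_nonempty p (S : Subgroup G)
    have hmem : ∀ x ∈ V, (x : G) ∈ A₀ := by
      intro x hx
      exact sInf_le hA₀ (hV (Subgroup.mem_map_of_mem _ hx))
    refine ⟨⟨⟨?_⟩⟩, ?_⟩
    · rintro ⟨x, hx⟩ ⟨y, hy⟩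
      apply Subtype.ext
      apply Subtype.ext
      exact hA₀.2.1.1 _ (hmem x hx) _ (hmem y hy)
    · intro x hx
      apply Subtype.ext
      simp only [SubgroupClass.coe_pow, OneMemClass.coe_one]
      exact hA₀.2.1.2 _ (hmem x hx)

end actionStable

section npc

open Cfsg.Agent.Lead.TNC

variable {p : ℕ} [Fact p.Prime]

theorem stableW_map_of_injOn {G H : Type u} [Group G] [Group H] (f : G →* H)
    (P : Subgroup G) (hinj : Set.InjOn f (P : Set G)) :
    (Cfsg.stableNormalClosure p ↥(P.map f)).map (P.map f).subtype =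
      ((Cfsg.stableNormalClosure p ↥P).map P.subtype).map f := by
  have hg : Function.Bijective (f.subgroupMap P) := by
    refine ⟨?_, f.subgroupMap_surjective P⟩
    intro x y hxy
    have h1 : f x = f y := congrArg (fun z : P.map f => (z : H)) hxy
    exact Subtype.ext (hinj x.2 y.2 h1)
  have h1 := stableNormalClosure_map_equiv p (MulEquiv.ofBijective _ hg)
  rw [← h1, Subgroup.map_map, Subgroup.map_map]
  rfl

/-- the functor `P ↦ W(P)` -/
def stableWFunctor (p : ℕ) [Fact p.Prime] : CharFunctor.{u} p where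
  W P := (Cfsg.stableNormalClosure p ↥P).map P.subtype
  le P := Subgroup.map_subtype_le _
  map := by
    intro G H _ _ f P hinj
    exact stableW_map_of_injOn f P hinj
  ne_bot := by
    intro G _ _ P hP hne
    haveI : Nontrivial P := (Subgroup.nontrivial_iff_ne_bot P).mpr hne
    have h1 : Cfsg.omegaOne p (center ↥P) ≠ ⊥ := omegaOne_center_ne_bot (p := p) hP
    have h2 := omegaOne_center_le_stableNormalClosure (S := ↥P) p
    intro h0
    rw [Subgroup.map_eq_bot_iff_of_injective _ P.subtype_injective] at h0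
    rw [h0, le_bot_iff] at h2
    exact h1 h2

/-- the minimal structure has abelian `2`-subgroups when `p` is odd -/
theorem ab2_of_minStructure (hp2 : p ≠ 2) {G : Type u} [Group G] [Finite G] {P : Sylow p G}
    (hS : MinStructure p G P) : Ab2 G := by
  obtain ⟨L, hLn, hUL, hLP, hLcop, hLL⟩ := hS.exL
  haveI := hLn
  intro T hT x hx y hy
  -- `T ≤ L` since `G/L` is a `p`-group
  have hGL : IsPGroup p (G ⧸ L) := by
    intro q
    obtain ⟨g, rfl⟩ := QuotientGroup.mk_surjective q
    have hg : g ∈ L ⊔ (P : Subgroup G) := by rw [hLP]; exact mem_top g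
    rw [← SetLike.mem_coe, normal_mul] at hg
    obtain ⟨l, hl, s, hs, rfl⟩ := hg
    obtain ⟨k, hk⟩ := P.isPGroup' ⟨s, hs⟩
    refine ⟨k, ?_⟩
    have h1 : (QuotientGroup.mk (l * s) : G ⧸ L) = QuotientGroup.mk s := by
      rw [QuotientGroup.mk_mul, (QuotientGroup.eq_one_iff l).mpr hl, one_mul]
    rw [h1, ← QuotientGroup.mk_pow]
    have h2 := congrArg Subtype.val hk
    simp only [SubmonoidClass.coe_pow, OneMemClass.coe_one] at h2
    rw [h2]
    rfl
  have hTL : ∀ z ∈ T, z ∈ L := by
    intro z hz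
    obtain ⟨k, hk⟩ := hGL (QuotientGroup.mk z)
    obtain ⟨j, hj⟩ := hT ⟨z, hz⟩
    have hj' : z ^ 2 ^ j = 1 := by
      have := congrArg Subtype.val hj
      simpa using this
    have h1 : (QuotientGroup.mk z : G ⧸ L) ^ 2 ^ j = 1 := by
      rw [← QuotientGroup.mk_pow, hj']; rfl
    have hcop : Nat.Coprime (p ^ k) (2 ^ j) := by
      apply Nat.Coprime.pow
      rw [Nat.coprime_primes Fact.out Nat.prime_two]
      exact hp2
    have h2 : (QuotientGroup.mk z : G ⧸ L) ^ 1 = 1 := by
      have hd1 : orderOf (QuotientGroup.mk z : G ⧸ L) ∣ p ^ k := orderOf_dvd_of_pow_eq_one hk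
      have hd2 : orderOf (QuotientGroup.mk z : G ⧸ L) ∣ 2 ^ j := orderOf_dvd_of_pow_eq_one h1
      have := Nat.dvd_gcd hd1 hd2
      rw [hcop] at this
      exact orderOf_dvd_iff_pow_eq_one.mp this
    rw [pow_one] at h2
    exact (QuotientGroup.eq_one_iff z).mp h2
  -- the commutator lies in `O_p(G) ∩ T = 1`
  have hc : ⁅x, y⁆ ∈ Cfsg.pCore p G := hLL (commutator_mem_commutator (hTL x hx) (hTL y hy))
  have hcT : ⁅x, y⁆ ∈ T := by
    rw [commutatorElement_def]
    exact T.mul_mem (T.mul_mem (T.mul_mem hx hy) (T.inv_mem hx)) (T.inv_mem hy)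
  obtain ⟨k, hk⟩ := (Cfsg.Agent.Helper14.pCore_isPGroup (G := G) p) ⟨_, hc⟩
  obtain ⟨j, hj⟩ := hT ⟨_, hcT⟩
  have hk' : ⁅x, y⁆ ^ p ^ k = 1 := by
    have := congrArg Subtype.val hk
    simpa using this
  have hj' : ⁅x, y⁆ ^ 2 ^ j = 1 := by
    have := congrArg Subtype.val hj
    simpa using this
  have hcop : Nat.Coprime (p ^ k) (2 ^ j) := by
    apply Nat.Coprime.pow
    rw [Nat.coprime_primes Fact.out Nat.prime_two]
    exact hp2
  have h1 : ⁅x, y⁆ = 1 := by
    have hd1 : orderOf ⁅x, y⁆ ∣ p ^ k := orderOf_dvd_of_pow_eq_one hk'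
    have hd2 : orderOf ⁅x, y⁆ ∣ 2 ^ j := orderOf_dvd_of_pow_eq_one hj'
    have := Nat.dvd_gcd hd1 hd2
    rw [hcop, Nat.dvd_one] at this
    exact orderOf_eq_one_iff.mp this
  exact commutatorElement_eq_one_iff_commute.mp h1

theorem stableW_endgame (hp2 : p ≠ 2) (G : Type u) [Group G] [Finite G] (P : Sylow p G)
    (hH : (ControlHyp.ofNormalizer (stableWFunctor p)).Hyp G P) (hS : MinStructure p G P) :
    False := by
  have hst := isActionPStable_of_ab2 hp2 (ab2_of_minStructure hp2 hS)
  have hn := stableW_normal hst hS.centralizer_le P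
  have htop : normalizer (((Cfsg.stableNormalClosure p ↥(P : Subgroup G)).map
      (P : Subgroup G).subtype : Subgroup G) : Set G) = ⊤ :=
    Subgroup.normalizer_eq_top_iff.mpr hn
  exact hS.not_npc (npc_of_top (npc_of_eq htop hH))

/-- **Thompson's normal `p`-complement theorem in the form with `W(S)`**. -/
theorem stableW_npc (hp2 : p ≠ 2) (G : Type u) [Group G] [Finite G] (P : Sylow p G)
    (hN : Cfsg.HasNormalPComplement p
      (normalizer (((Cfsg.stableNormalClosure p ↥(P : Subgroup G)).map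
        (P : Subgroup G).subtype : Subgroup G) : Set G))) :
    Cfsg.HasNormalPComplement p G :=
  (ControlHyp.ofNormalizer (stableWFunctor p)).npc (stableW_endgame hp2) G P hN

end npc

end Cfsg.Agent.Helper26
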