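import Mathlib
import Cfsg.Agent.Helper26.FusionCyclicNormal

set_option autoImplicit false
set_option linter.unusedSectionVars false
set_option linter.unusedVariables false

/-! # Cyclic steps in finite `p`-groups: refinement and induced actions -/

namespace Cfsg.Agent.Helper26.SuperSol

open Subgroup
open scoped commutatorElement

variable {X : Type*} [Group X]

theorem map_mk_sup_zpowers (B : Subgroup X) [B.Normal] (x : X) :
    (B ⊔ zpowers x).map (QuotientGroup.mk' B) = zpowers (QuotientGroup.mk' B x) := by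
  rw [Subgroup.map_sup, MonoidHom.map_zpowers, QuotientGroup.map_mk'_self, bot_sup_eq]

theorem mem_sup_zpowers_iff (B : Subgroup X) [B.Normal] (x y : X) :
    y ∈ B ⊔ zpowers x ↔ QuotientGroup.mk' B y ∈ zpowers (QuotientGroup.mk' B x) := by
  constructor
  · intro hy
    rw [← map_mk_sup_zpowers]
    exact mem_map_of_mem _ hy
  · rintro ⟨k, hk⟩
    have h1 : (QuotientGroup.mk' B) (x ^ k) = QuotientGroup.mk' B y := by
      rw [map_zpow]; exact hk
    have h2 : (x ^ k)⁻¹ * y ∈ B := QuotientGroup.eq.mp h1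
    have h3 : y = x ^ k * ((x ^ k)⁻¹ * y) := by group
    rw [h3]
    exact mul_mem (mem_sup_right (zpow_mem (mem_zpowers x) k)) (mem_sup_left h2)

/-- In a finite group, members of `zpowers g` are natural powers. -/
theorem exists_pow_of_mem_zpowers [Finite X] {g h : X} (hh : h ∈ zpowers g) : ∃ i : ℕ, g ^ i = h := by
  rw [← mem_powers_iff_mem_zpowers] at hh
  exact (Submonoid.mem_powers_iff h g).mp hh

/-- characterization of the maximal subgroup of a cyclic step -/
theorem exists_pow_char {p : ℕ} [hp : Fact p.Prime] [Finite X] (hX : IsPGroup p X)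
    (B : Subgroup X) [B.Normal] (x : X) :
    ∃ t : ℕ, ∀ y ∈ B ⊔ zpowers x, (y ∈ B ⊔ zpowers (x ^ p) ↔ y ^ t ∈ B) := by
  obtain ⟨g, hg⟩ : ∃ g, g = QuotientGroup.mk' B x := ⟨_, rfl⟩
  by_cases hg1 : g = 1
  · refine ⟨1, fun y hy => ?_⟩
    have hxB : x ∈ B := by
      rw [hg] at hg1
      exact (QuotientGroup.eq_one_iff x).mp hg1
    have h2 : B ⊔ zpowers (x ^ p) = B := sup_eq_left.mpr (zpowers_le.mpr (pow_mem hxB p))
    have h1 : B ⊔ zpowers x = B := sup_eq_left.mpr (zpowers_le.mpr hxB)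
    rw [h2, pow_one]
  · obtain ⟨k, hk⟩ := (IsPGroup.iff_orderOf.mp (hX.to_quotient B)) g
    have hk0 : k ≠ 0 := by
      rintro rfl
      rw [pow_zero, orderOf_eq_one_iff] at hk
      exact hg1 hk
    obtain ⟨k', rfl⟩ := Nat.exists_eq_succ_of_ne_zero hk0
    refine ⟨p ^ k', fun y hy => ?_⟩
    have hyg : QuotientGroup.mk' B y ∈ zpowers g := by
      rw [hg]; exact (mem_sup_zpowers_iff B x y).mp hy
    have e1 : y ^ (p ^ k') ∈ B ↔ (QuotientGroup.mk' B y) ^ (p ^ k') = 1 := by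
      rw [← map_pow, QuotientGroup.mk'_apply, QuotientGroup.eq_one_iff]
    rw [e1, mem_sup_zpowers_iff B (x ^ p) y, map_pow, ← hg]
    obtain ⟨i, hi⟩ := exists_pow_of_mem_zpowers hyg
    constructor
    · intro h
      obtain ⟨j, hj⟩ := exists_pow_of_mem_zpowers h
      rw [← hj, ← pow_mul, ← pow_mul, ← mul_assoc]
      have : p * j * p ^ k' = p ^ (k' + 1) * j := by ring
      rw [this, pow_mul, ← Nat.succ_eq_add_one, ← hk, pow_orderOf_eq_one, one_pow]
    · intro h
      rw [← hi, ← pow_mul] at h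
      have h1 := orderOf_dvd_of_pow_eq_one h
      rw [hk, pow_succ, mul_comm (p ^ k') p] at h1
      have h2 : p ∣ i := Nat.dvd_of_mul_dvd_mul_right (pow_pos hp.out.pos k') h1
      obtain ⟨j, rfl⟩ := h2
      rw [← hi, pow_mul]
      exact pow_mem (mem_zpowers _) j

/-- a step of index at most `p` between normal subgroups is central -/
theorem commutator_mem_of_pow_mem {p : ℕ} [hp : Fact p.Prime] [Finite X] (hX : IsPGroup p X)
    (D : Subgroup X) [D.Normal] (x : X) (hxp : x ^ p ∈ D) (hC : (D ⊔ zpowers x).Normal) :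
    ∀ c ∈ D ⊔ zpowers x, ∀ s : X, ⁅c, s⁆ ∈ D := by
  obtain ⟨g, hg⟩ : ∃ g, g = QuotientGroup.mk' D x := ⟨_, rfl⟩
  have hgp : g ^ p = 1 := by
    rw [hg, ← map_pow]
    exact (QuotientGroup.eq_one_iff _).mpr hxp
  have hnorm : ∀ s : X ⧸ D, s * g * s⁻¹ ∈ zpowers g := by
    intro s
    obtain ⟨s0, rfl⟩ := QuotientGroup.mk'_surjective D s
    rw [hg, ← map_inv, ← map_mul, ← map_mul, ← mem_sup_zpowers_iff]
    exact hC.conj_mem x (mem_sup_right (mem_zpowers x)) s0
  have hQ : IsPGroup p (⊤ : Subgroup (X ⧸ D)) := (hX.to_quotient D).to_subgroup _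
  have hcent : ∀ s : X ⧸ D, s * g * s⁻¹ = g := fun s =>
    Cfsg.Agent.Helper26.conj_eq_of_pow_prime hQ hgp (fun s _ => hnorm s) s (mem_top s)
  intro c hc s
  have hcg : QuotientGroup.mk' D c ∈ zpowers g := by
    rw [hg]; exact (mem_sup_zpowers_iff D x c).mp hc
  obtain ⟨k, hk⟩ := hcg
  rw [← QuotientGroup.eq_one_iff, ← QuotientGroup.mk'_apply, map_commutatorElement]
  have hk' : g ^ k = QuotientGroup.mk' D c := hk
  rw [← hk']
  have hcomm : Commute g (QuotientGroup.mk' D s) := by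
    have := hcent (QuotientGroup.mk' D s)
    show g * _ = _ * g
    conv_lhs => rw [← this]
    group
  exact commutatorElement_eq_one_iff_commute.mpr (hcomm.zpow_left k)

/-! ### induced action on a cyclic step -/

/-- An automorphism preserving `N` and the cyclic step `N ⊔ ⟨x⟩` acts on the step modulo `N` by a power map. -/
theorem exists_exponent [Finite X] (N : Subgroup X) [N.Normal] (x : X) (α : MulAut X)
    (hαN : ∀ y, y ∈ N → α y ∈ N) (hαx : α x ∈ N ⊔ zpowers x) :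
    ∃ a : ℕ, ∀ y ∈ N ⊔ zpowers x,
      QuotientGroup.mk' N (α y) = (QuotientGroup.mk' N y) ^ a := by
  obtain ⟨a, ha⟩ := exists_pow_of_mem_zpowers ((mem_sup_zpowers_iff N x (α x)).mp hαx)
  refine ⟨a, fun y hy => ?_⟩
  obtain ⟨i, hi⟩ := exists_pow_of_mem_zpowers ((mem_sup_zpowers_iff N x y).mp hy)
  have h1 : (QuotientGroup.mk' N) (x ^ i) = QuotientGroup.mk' N y := by rw [map_pow]; exact hi
  have h2 : (x ^ i)⁻¹ * y ∈ N := QuotientGroup.eq.mp h1
  have h3 : y = x ^ i * ((x ^ i)⁻¹ * y) := by group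
  have h4 : QuotientGroup.mk' N (α ((x ^ i)⁻¹ * y)) = 1 :=
    (QuotientGroup.eq_one_iff _).mpr (hαN _ h2)
  rw [← hi]
  conv_lhs => rw [h3]
  rw [map_mul, map_mul, h4, mul_one, map_pow, map_pow, ← ha, ← pow_mul, ← pow_mul, mul_comm]

theorem apply_mem_step (N : Subgroup X) [N.Normal] (x : X) (α : MulAut X)
    (hαN : ∀ y, y ∈ N → α y ∈ N) (hαx : α x ∈ N ⊔ zpowers x) :
    ∀ y ∈ N ⊔ zpowers x, α y ∈ N ⊔ zpowers x := by
  intro y hy
  have hle : (N ⊔ zpowers x) ≤ (N ⊔ zpowers x).comap α.toMonoidHom := by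
    rw [sup_le_iff]
    constructor
    · intro n hn
      exact mem_sup_left (hαN n hn)
    · rw [zpowers_le]
      exact hαx
  exact hle hy

/-- two such automorphisms commute modulo `N` on the step -/
theorem comm_mod [Finite X] (N : Subgroup X) [N.Normal] (x : X) (α β : MulAut X)
    (hαN : ∀ y, y ∈ N → α y ∈ N) (hαx : α x ∈ N ⊔ zpowers x)
    (hβN : ∀ y, y ∈ N → β y ∈ N) (hβx : β x ∈ N ⊔ zpowers x) :
    ∀ y ∈ N ⊔ zpowers x, α (β y) * (β (α y))⁻¹ ∈ N := by
  obtain ⟨a, ha⟩ := exists_exponent N x α hαN hαx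
  obtain ⟨b, hb⟩ := exists_exponent N x β hβN hβx
  intro y hy
  have h1 := ha (β y) (apply_mem_step N x β hβN hβx y hy)
  have h2 := hb (α y) (apply_mem_step N x α hαN hαx y hy)
  rw [hb y hy, ← pow_mul] at h1
  rw [ha y hy, ← pow_mul, mul_comm] at h2
  have h3 : QuotientGroup.mk' N (α (β y)) = QuotientGroup.mk' N (β (α y)) := h1.trans h2.symm
  have h4 := QuotientGroup.eq.mp h3.symm
  have hn : (β (α y)) * ((β (α y))⁻¹ * α (β y)) * (β (α y))⁻¹ ∈ N :=
    (inferInstance : N.Normal).conj_mem _ h4 _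
  have h6 : (β (α y)) * ((β (α y))⁻¹ * α (β y)) * (β (α y))⁻¹ = α (β y) * (β (α y))⁻¹ := by group
  rwa [h6] at hn

/-- a suitable power acts trivially modulo `N` on the step -/
theorem pow_mod {p : ℕ} [hp : Fact p.Prime] [Finite X] (hX : IsPGroup p X)
    (N : Subgroup X) [N.Normal] (x : X) (α : MulAut X)
    (hαN : ∀ y, y ∈ N ↔ α y ∈ N) (hαx : α x ∈ N ⊔ zpowers x) :
    ∀ y ∈ N ⊔ zpowers x, (α ^ (Nat.card X * (p - 1))) y * y⁻¹ ∈ N := by
  obtain ⟨a, ha⟩ := exists_exponent N x α (fun y => (hαN y).mp) hαx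
  obtain ⟨g, hg⟩ : ∃ g, g = QuotientGroup.mk' N x := ⟨_, rfl⟩
  -- iterates
  have hiter : ∀ j : ℕ, ∀ y ∈ N ⊔ zpowers x, (α ^ j) y ∈ N ⊔ zpowers x ∧
      QuotientGroup.mk' N ((α ^ j) y) = (QuotientGroup.mk' N y) ^ (a ^ j) := by
    intro j
    induction j with
    | zero =>
      intro y hy
      refine ⟨by simpa using hy, by simp⟩
    | succ j ih =>
      intro y hy
      obtain ⟨h1, h2⟩ := ih y hy
      have e : (α ^ (j + 1)) y = α ((α ^ j) y) := by
        rw [pow_succ', MulAut.mul_apply]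
      rw [e]
      refine ⟨apply_mem_step N x α (fun y => (hαN y).mp) hαx _ h1, ?_⟩
      rw [ha _ h1, h2, ← pow_mul, pow_succ]
  -- order of g and coprimality
  have hord : orderOf (g ^ a) = orderOf g := by
    apply orderOf_eq_orderOf_iff.mpr
    intro n
    have h1 : (g ^ a) ^ n = QuotientGroup.mk' N (α (x ^ n)) := by
      rw [map_pow, map_pow, ha x (mem_sup_right (mem_zpowers x)), ← hg]
    have h2 : g ^ n = QuotientGroup.mk' N (x ^ n) := by rw [map_pow, ← hg]
    rw [h1, h2, QuotientGroup.mk'_apply, QuotientGroup.mk'_apply, QuotientGroup.eq_one_iff,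
      QuotientGroup.eq_one_iff]
    exact (hαN _).symm
  have hpos : 0 < orderOf g := orderOf_pos g
  have hcop : Nat.Coprime a (orderOf g) := by
    rw [orderOf_pow] at hord
    have h1 := (Nat.div_eq_self.mp hord)
    rcases h1 with h1 | h1
    · omega
    · rw [Nat.coprime_comm]; exact h1
  obtain ⟨k, hk⟩ := (IsPGroup.iff_orderOf.mp (hX.to_quotient N)) g
  have htot : Nat.totient (orderOf g) ∣ Nat.card X * (p - 1) := by
    have hdvdX : orderOf g ∣ Nat.card X := by
      have h1 : orderOf g ∣ Nat.card (X ⧸ N) := orderOf_dvd_natCard g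
      have h2 : Nat.card (X ⧸ N) ∣ Nat.card X := by
        rw [← Subgroup.index_eq_card]
        exact Subgroup.index_dvd_card N
      exact h1.trans h2
    rcases Nat.eq_zero_or_pos k with h0 | h0
    · rw [hk, h0, pow_zero, Nat.totient_one]
      exact one_dvd _
    · rw [hk, Nat.totient_prime_pow hp.out h0]
      have h3 : p ^ (k - 1) ∣ Nat.card X := by
        refine dvd_trans ?_ (hk ▸ hdvdX)
        exact pow_dvd_pow p (Nat.sub_le k 1)
      exact Nat.mul_dvd_mul h3 dvd_rfl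
  obtain ⟨t, ht⟩ := htot
  have hmod : a ^ (Nat.card X * (p - 1)) ≡ 1 [MOD orderOf g] := by
    rw [ht, pow_mul]
    have := (Nat.ModEq.pow_totient hcop).pow t
    rwa [one_pow] at this
  intro y hy
  obtain ⟨-, h2⟩ := hiter (Nat.card X * (p - 1)) y hy
  have hyg : QuotientGroup.mk' N y ∈ zpowers g := by
    rw [hg]; exact (mem_sup_zpowers_iff N x y).mp hy
  have hdvd : orderOf (QuotientGroup.mk' N y) ∣ orderOf g := orderOf_dvd_of_mem_zpowers hyg
  have hmod' : a ^ (Nat.card X * (p - 1)) ≡ 1 [MOD orderOf (QuotientGroup.mk' N y)] :=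
    hmod.of_dvd hdvd
  have h3 : (QuotientGroup.mk' N y) ^ (a ^ (Nat.card X * (p - 1))) = (QuotientGroup.mk' N y) ^ 1 :=
    pow_eq_pow_iff_modEq.mpr hmod'
  rw [pow_one] at h3
  rw [h3] at h2
  have h4 := QuotientGroup.eq.mp h2.symm
  have hn : y * (y⁻¹ * (α ^ (Nat.card X * (p - 1))) y) * y⁻¹ ∈ N :=
    (inferInstance : N.Normal).conj_mem _ h4 _
  have h6 : y * (y⁻¹ * (α ^ (Nat.card X * (p - 1))) y) * y⁻¹ =
      (α ^ (Nat.card X * (p - 1))) y * y⁻¹ := by group
  rwa [h6] at hn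

end Cfsg.Agent.Helper26.SuperSol
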