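import Mathlib
import Cfsg.Agent.Helper26.SuperSol1
import Cfsg.Agent.Helper25.FusionChain
import Cfsg.Agent.Helper25.FusionSemi
import Cfsg.Agent.Helper25.StabChain

set_option autoImplicit false
set_option linter.unusedSectionVars false
set_option linter.unusedVariables false
set_option linter.style.haveILetI false

/-! # Supersoluble fusion systems: resistance and `p'`-automorphisms -/

namespace Cfsg.Agent.Helper26.SuperSol

open Subgroup Cfsg Cfsg.FusionSystem Cfsg.Agent.Helper25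
open scoped commutatorElement

variable {Ω : Type*} [Group Ω] {S : Subgroup Ω}

/-- from the `Fin`-indexed chain to an `ℕ`-indexed one -/
theorem exists_nat_chain (F : FusionSystem S) {m : ℕ} (c : Fin (m + 1) → Subgroup Ω)
    (h0 : c 0 = ⊥) (hlast : c (Fin.last m) = S) (hsc : ∀ i, F.StronglyClosed (c i))
    (hstep : ∀ i : Fin m, c i.castSucc ≤ c i.succ ∧
      ∃ x ∈ S, c i.succ = c i.castSucc ⊔ zpowers x) :
    ∃ c' : ℕ → Subgroup Ω, c' 0 = ⊥ ∧ c' m = S ∧ (∀ j, F.StronglyClosed (c' j)) ∧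
      ∀ j, ∃ x ∈ S, c' (j + 1) = c' j ⊔ zpowers x := by
  refine ⟨fun j => c ⟨min j m, by omega⟩, ?_, ?_, fun j => hsc _, ?_⟩
  · show c ⟨min 0 m, _⟩ = ⊥
    rw [← h0]
    exact congrArg c (Fin.ext (by simp))
  · show c ⟨min m m, _⟩ = S
    rw [← hlast]
    exact congrArg c (Fin.ext (by simp))
  · intro j
    show ∃ x ∈ S, c ⟨min (j + 1) m, _⟩ = c ⟨min j m, _⟩ ⊔ zpowers x
    by_cases hj : j < m
    · obtain ⟨-, x, hx, hxe⟩ := hstep ⟨j, hj⟩
      refine ⟨x, hx, ?_⟩
      have e1 : (⟨min (j + 1) m, by omega⟩ : Fin (m + 1)) = (⟨j, hj⟩ : Fin m).succ :=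
        Fin.ext (by simp; omega)
      have e2 : (⟨min j m, by omega⟩ : Fin (m + 1)) = (⟨j, hj⟩ : Fin m).castSucc :=
        Fin.ext (by simp; omega)
      rw [e1, e2]
      exact hxe
    · refine ⟨1, S.one_mem, ?_⟩
      have e1 : (⟨min (j + 1) m, by omega⟩ : Fin (m + 1)) = ⟨min j m, by omega⟩ :=
        Fin.ext (by simp; omega)
      rw [e1, zpowers_one_eq_bot, sup_bot_eq]

/-- conversion between the ambient and the subtype form of a cyclic step -/
theorem subgroupOf_sup_zpowers {B : Subgroup Ω} (hB : B ≤ S) {x : Ω} (hx : x ∈ S) :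
    (B ⊔ zpowers x).subgroupOf S = B.subgroupOf S ⊔ zpowers (⟨x, hx⟩ : S) := by
  rw [subgroupOf_sup hB (zpowers_le.mpr hx)]
  congr 1
  have h1 : (zpowers (⟨x, hx⟩ : S)).map S.subtype = zpowers x := by
    rw [MonoidHom.map_zpowers]
    rfl
  rw [← h1]
  exact comap_map_eq_self_of_injective (subtype_injective S) _

/-- central chains of strongly closed subgroups -/
inductive CChain (F : FusionSystem S) : Subgroup Ω → Subgroup Ω → Prop
  | refl (A : Subgroup Ω) : F.StronglyClosed A → CChain F A A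
  | snoc {A B C : Subgroup Ω} : CChain F A B → F.StronglyClosed C → B ≤ C →
      ⁅S, C⁆ ≤ B → CChain F A C

theorem CChain.trans {F : FusionSystem S} {A B C : Subgroup Ω} (h1 : CChain F A B)
    (h2 : CChain F B C) : CChain F A C := by
  induction h2 with
  | refl _ => exact h1
  | snoc _ hC hle hx ih => exact CChain.snoc ih hC hle hx

theorem CChain.toNat {F : FusionSystem S} {A B : Subgroup Ω} (h : CChain F A B) :
    ∃ (n : ℕ) (Qn : ℕ → Subgroup Ω), Qn 0 = A ∧ Qn n = B ∧ (∀ i < n, Qn i ≤ Qn (i + 1)) ∧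
      ∀ i < n, F.StronglyClosed (Qn (i + 1)) ∧ ⁅S, Qn (i + 1)⁆ ≤ Qn i := by
  induction h with
  | refl hA => exact ⟨0, fun _ => _, rfl, rfl, fun i hi => absurd hi (Nat.not_lt_zero i),
      fun i hi => absurd hi (Nat.not_lt_zero i)⟩
  | @snoc B C _ hC hle hcomm ih =>
    obtain ⟨n, Qn, h0, hn, hmono, hsc⟩ := ih
    refine ⟨n + 1, fun i => if i ≤ n then Qn i else C, ?_, ?_, ?_, ?_⟩
    · show (if 0 ≤ n then Qn 0 else C) = _
      rw [if_pos (Nat.zero_le n)]
      exact h0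
    · show (if n + 1 ≤ n then Qn (n + 1) else C) = C
      rw [if_neg (by omega)]
    · intro i hi
      show (if i ≤ n then Qn i else C) ≤ (if i + 1 ≤ n then Qn (i + 1) else C)
      rw [if_pos (by omega)]
      by_cases h : i + 1 ≤ n
      · rw [if_pos h]; exact hmono i (by omega)
      · rw [if_neg h]
        have : i = n := by omega
        rw [this, hn]
        exact hle
    · intro i hi
      show F.StronglyClosed (if i + 1 ≤ n then Qn (i + 1) else C) ∧
        ⁅S, (if i + 1 ≤ n then Qn (i + 1) else C)⁆ ≤ (if i ≤ n then Qn i else C)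
      rw [if_pos (by omega : i ≤ n)]
      by_cases h : i + 1 ≤ n
      · rw [if_pos h]; exact hsc i (by omega)
      · rw [if_neg h]
        have : i = n := by omega
        rw [this, hn]
        exact ⟨hC, hcomm⟩

/-- the refinement step -/
theorem step_refine [Finite S] (p : ℕ) [hp : Fact p.Prime] (hS : IsPGroup p S)
    (F : FusionSystem S) {B C : Subgroup Ω} (hB : F.StronglyClosed B) (hC : F.StronglyClosed C)
    {x : Ω} (hx : x ∈ S) (hCx : C = B ⊔ zpowers x) :
    F.StronglyClosed (B ⊔ zpowers (x ^ p)) ∧ ⁅S, C⁆ ≤ B ⊔ zpowers (x ^ p) := by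
  have hBS : B ≤ S := hB.1
  have hCS : C ≤ S := hC.1
  have hxp : x ^ p ∈ S := pow_mem hx p
  have hDC : B ⊔ zpowers (x ^ p) ≤ C := by
    rw [hCx]
    exact sup_le_sup_left (zpowers_le.mpr (pow_mem (mem_zpowers x) p)) B
  have hDS : B ⊔ zpowers (x ^ p) ≤ S := hDC.trans hCS
  haveI hBn : (B.subgroupOf S).Normal :=
    (normal_subgroupOf_iff_le_normalizer hBS).mpr (le_normalizer_of_stronglyClosed F hB)
  obtain ⟨t, ht⟩ := exists_pow_char hS (B.subgroupOf S) (⟨x, hx⟩ : S)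
  have hsc : F.StronglyClosed (B ⊔ zpowers (x ^ p)) := by
    refine ⟨hDS, ?_⟩
    intro R hR φ hφ r
    have hrD : (r : Ω) ∈ B ⊔ zpowers (x ^ p) := hR r.2
    have hrS : (r : Ω) ∈ S := hDS hrD
    have hφC : φ r ∈ C := hC.2 R (hR.trans hDC) φ hφ r
    have hφS : φ r ∈ S := hCS hφC
    -- the power criterion for r
    have h1 : (⟨(r : Ω), hrS⟩ : S) ∈ B.subgroupOf S ⊔ zpowers (⟨x, hx⟩ : S) := by
      rw [← subgroupOf_sup_zpowers hBS hx, mem_subgroupOf, ← hCx]
      exact hDC hrD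
    have h2 : (⟨(r : Ω), hrS⟩ : S) ∈ B.subgroupOf S ⊔ zpowers ((⟨x, hx⟩ : S) ^ p) := by
      have e : ((⟨x, hx⟩ : S) ^ p) = ⟨x ^ p, hxp⟩ := Subtype.ext (by simp)
      rw [e, ← subgroupOf_sup_zpowers hBS hxp, mem_subgroupOf]
      exact hrD
    have h3 : (⟨(r : Ω), hrS⟩ : S) ^ t ∈ B.subgroupOf S := (ht _ h1).mp h2
    have h3' : (r : Ω) ^ t ∈ B := by
      rw [mem_subgroupOf] at h3
      simpa using h3
    -- transport through φ
    have h4 : (φ r) ^ t ∈ B := by
      have hm := hB.2 (R ⊓ B) inf_le_right _ (restrict_mem F (inf_le_left : R ⊓ B ≤ R) hφ)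
        ⟨(r : Ω) ^ t, pow_mem r.2 t, h3'⟩
      have e : (φ.comp (Subgroup.inclusion (inf_le_left : R ⊓ B ≤ R)))
          ⟨(r : Ω) ^ t, pow_mem r.2 t, h3'⟩ = (φ r) ^ t := by
        rw [MonoidHom.comp_apply, ← map_pow]
        congr 1
      rwa [e] at hm
    have h5 : (⟨φ r, hφS⟩ : S) ∈ B.subgroupOf S ⊔ zpowers (⟨x, hx⟩ : S) := by
      rw [← subgroupOf_sup_zpowers hBS hx, mem_subgroupOf, ← hCx]
      exact hφC
    have h6 : (⟨φ r, hφS⟩ : S) ^ t ∈ B.subgroupOf S := by
      rw [mem_subgroupOf]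
      simpa using h4
    have h7 := (ht _ h5).mpr h6
    have e : ((⟨x, hx⟩ : S) ^ p) = ⟨x ^ p, hxp⟩ := Subtype.ext (by simp)
    rw [e, ← subgroupOf_sup_zpowers hBS hxp, mem_subgroupOf] at h7
    exact h7
  refine ⟨hsc, ?_⟩
  -- centrality
  have hS' : IsPGroup p (↥S) := hS
  haveI hDn : ((B ⊔ zpowers (x ^ p)).subgroupOf S).Normal :=
    (normal_subgroupOf_iff_le_normalizer hDS).mpr (le_normalizer_of_stronglyClosed F hsc)
  have hCD : C = (B ⊔ zpowers (x ^ p)) ⊔ zpowers x := by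
    apply le_antisymm
    · rw [hCx]
      exact sup_le (le_sup_left.trans le_sup_left) le_sup_right
    · exact sup_le hDC (by rw [hCx]; exact le_sup_right)
  have hCn : (((B ⊔ zpowers (x ^ p)).subgroupOf S) ⊔ zpowers (⟨x, hx⟩ : S)).Normal := by
    rw [← subgroupOf_sup_zpowers hDS hx, ← hCD]
    exact (normal_subgroupOf_iff_le_normalizer hCS).mpr (le_normalizer_of_stronglyClosed F hC)
  have hxpD : (⟨x, hx⟩ : S) ^ p ∈ (B ⊔ zpowers (x ^ p)).subgroupOf S := by
    rw [mem_subgroupOf]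
    have : (((⟨x, hx⟩ : S) ^ p : S) : Ω) = x ^ p := by simp
    rw [this]
    exact mem_sup_right (mem_zpowers _)
  have key := commutator_mem_of_pow_mem hS' ((B ⊔ zpowers (x ^ p)).subgroupOf S) (⟨x, hx⟩ : S)
    hxpD hCn
  rw [Subgroup.commutator_le]
  intro s hs c hc
  have hcS : c ∈ S := hCS hc
  have hc' : (⟨c, hcS⟩ : S) ∈ ((B ⊔ zpowers (x ^ p)).subgroupOf S) ⊔ zpowers (⟨x, hx⟩ : S) := by
    rw [← subgroupOf_sup_zpowers hDS hx, ← hCD, mem_subgroupOf]
    exact hc
  have h1 := key _ hc' ⟨s, hs⟩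
  rw [mem_subgroupOf] at h1
  have h2 : ⁅s, c⁆ = (⁅c, s⁆)⁻¹ := (commutatorElement_inv c s).symm
  rw [h2]
  apply Subgroup.inv_mem
  simpa [commutatorElement_def] using h1

theorem refine_chain [Finite S] (p : ℕ) [hp : Fact p.Prime] (hS : IsPGroup p S)
    (F : FusionSystem S) {B : Subgroup Ω} (hB : F.StronglyClosed B) :
    ∀ e : ℕ, ∀ x ∈ S, x ^ (p ^ e) ∈ B → ∀ C : Subgroup Ω, C = B ⊔ zpowers x →
      F.StronglyClosed C → CChain F B C := by
  intro e
  induction e with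
  | zero =>
    intro x hx hxe C hC hCsc
    rw [pow_zero, pow_one] at hxe
    have : C = B := by
      rw [hC]; exact sup_eq_left.mpr (zpowers_le.mpr hxe)
    rw [this]
    exact CChain.refl B hB
  | succ e ih =>
    intro x hx hxe C hC hCsc
    obtain ⟨hD, hcomm⟩ := step_refine p hS F hB hCsc hx hC
    have h1 : (x ^ p) ^ (p ^ e) ∈ B := by
      rw [← pow_mul, ← pow_succ']
      exact hxe
    have h2 := ih (x ^ p) (pow_mem hx p) h1 _ rfl hD
    refine CChain.snoc h2 hCsc ?_ hcomm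
    rw [hC]
    exact sup_le_sup_left (zpowers_le.mpr (pow_mem (mem_zpowers x) p)) B

/-- A saturated system with a chain of strongly closed subgroups with cyclic steps has `S` normal. -/
theorem isNormal_of_cyclic_chain [Finite S] (p : ℕ) [hp : Fact p.Prime] (hS : IsPGroup p S)
    (F : FusionSystem S) (hF : F.IsSaturated p) (c' : ℕ → Subgroup Ω) (m : ℕ) (h0 : c' 0 = ⊥)
    (hm : c' m = S) (hsc : ∀ j, F.StronglyClosed (c' j))
    (hstep : ∀ j, ∃ x ∈ S, c' (j + 1) = c' j ⊔ zpowers x) : F.IsNormal S := by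
  obtain ⟨N, hN⟩ := IsPGroup.iff_card.mp hS
  have hchain : ∀ j, CChain F ⊥ (c' j) := by
    intro j
    induction j with
    | zero => rw [h0]; exact CChain.refl _ (h0 ▸ hsc 0)
    | succ j ih =>
      obtain ⟨x, hx, hxe⟩ := hstep j
      have hx1 : x ^ (p ^ N) ∈ c' j := by
        have : (⟨x, hx⟩ : S) ^ (p ^ N) = 1 := by rw [← hN]; exact pow_card_eq_one'
        have h2 : x ^ (p ^ N) = 1 := by
          have := congrArg (fun s : S => (s : Ω)) this
          simpa using this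
        rw [h2]; exact one_mem _
      exact ih.trans (refine_chain p hS F (hsc j) N x hx hx1 _ hxe (hsc (j + 1)))
  obtain ⟨n, Qn, hQ0, hQn, hmono, hQsc⟩ := (hm ▸ hchain m).toNat
  exact isNormal_of_chain p hS F hF S Qn n hQ0 hQn hmono hQsc

end Cfsg.Agent.Helper26.SuperSol
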