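import Mathlib
import Cfsg.Agent.Helper26.SuperSol2

set_option autoImplicit false
set_option linter.unusedSectionVars false
set_option linter.unusedVariables false
set_option linter.style.haveILetI false

/-! # Supersoluble fusion systems: `p'`-groups of automorphisms preserving a cyclic chain -/

namespace Cfsg.Agent.Helper26.SuperSol

open Subgroup Cfsg Cfsg.FusionSystem Cfsg.Agent.Helper25
open scoped commutatorElement

variable {Ω : Type*} [Group Ω] {S : Subgroup Ω}

/-- Group form: a `p'`-group of automorphisms of a finite `p`-group preserving a chain of normal subgroups with cyclic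
steps is abelian of exponent dividing `p - 1`. -/
theorem abelian_of_cyclic_chain {X : Type*} [Group X] [Finite X] (p : ℕ) [hp : Fact p.Prime]
    (hX : IsPGroup p X) (H : Subgroup (MulAut X)) (hH : (Nat.card H).Coprime p)
    (N : ℕ → Subgroup X) (m : ℕ) (hN0 : N 0 = ⊥) (hNm : N m = ⊤) (hNn : ∀ j, (N j).Normal)
    (hstep : ∀ j, ∃ x : X, N (j + 1) = N j ⊔ zpowers x)
    (hinv : ∀ h ∈ H, ∀ j, ∀ y : X, y ∈ N j → h y ∈ N j) :
    (∀ a ∈ H, ∀ b ∈ H, a * b = b * a) ∧ ∀ h ∈ H, h ^ (p - 1) = 1 := by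
  have hNmono : Monotone N := by
    apply monotone_nat_of_le_succ
    intro j
    obtain ⟨x, hx⟩ := hstep j
    rw [hx]
    exact le_sup_left
  have hiff : ∀ h ∈ H, ∀ j, ∀ y : X, y ∈ N j ↔ h y ∈ N j := by
    intro h hh j y
    refine ⟨hinv h hh j y, fun hy => ?_⟩
    have := hinv h⁻¹ (H.inv_mem hh) j _ hy
    simpa using this
  -- trivial elements
  have htriv : ∀ γ ∈ H, StabilizesChain N γ → γ = 1 := by
    intro γ hγH hγ
    obtain ⟨k, hk⟩ := StabilizesChain.pow_eq_one hX hN0 hNmono hNm hγ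
    have h1 : orderOf γ ∣ p ^ k := orderOf_dvd_of_pow_eq_one hk
    have h2 : orderOf γ ∣ Nat.card H := Subgroup.orderOf_dvd_natCard H hγH
    have hc : Nat.Coprime (orderOf γ) (p ^ k) := (hH.pow_right k).coprime_dvd_left h2
    have h3 := Nat.Coprime.eq_one_of_dvd hc h1
    exact orderOf_eq_one_iff.mp h3
  constructor
  · intro a ha b hb
    have hst : StabilizesChain N ⁅a, b⁆ := by
      intro j y hy
      obtain ⟨x, hx⟩ := hstep j
      haveI := hNn j
      have hxmem : x ∈ N (j + 1) := by rw [hx]; exact mem_sup_right (mem_zpowers x)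
      have hax : a x ∈ N j ⊔ zpowers x := by rw [← hx]; exact hinv a ha _ _ hxmem
      have hbx : b x ∈ N j ⊔ zpowers x := by rw [← hx]; exact hinv b hb _ _ hxmem
      have key := comm_mod (N j) x a b (hinv a ha j) hax (hinv b hb j) hbx
      set z : X := a⁻¹ (b⁻¹ y) with hz
      have hzmem : z ∈ N j ⊔ zpowers x := by
        rw [← hx]
        exact hinv a⁻¹ (H.inv_mem ha) _ _ (hinv b⁻¹ (H.inv_mem hb) _ _ hy)
      have h1 := key z hzmem
      have e1 : ⁅a, b⁆ y = a (b z) := by
        rw [commutatorElement_def]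
        simp [MulAut.mul_apply, hz]
      have e2 : y = b (a z) := by simp [hz]
      rw [e1]
      have e3 : a (b z) * y⁻¹ = a (b z) * (b (a z))⁻¹ := by rw [← e2]
      rw [e3]
      exact h1
    have h1 := htriv _ (H.commutator_mem_commutator ha hb |> fun _ => ?_) hst
    · exact commutatorElement_eq_one_iff_mul_comm.mp h1
    · exact H.mul_mem (H.mul_mem (H.mul_mem ha hb) (H.inv_mem ha)) (H.inv_mem hb)
  · intro h hh
    have hst : StabilizesChain N (h ^ (Nat.card X * (p - 1))) := by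
      intro j y hy
      obtain ⟨x, hx⟩ := hstep j
      haveI := hNn j
      have hxmem : x ∈ N (j + 1) := by rw [hx]; exact mem_sup_right (mem_zpowers x)
      have hax : h x ∈ N j ⊔ zpowers x := by rw [← hx]; exact hinv h hh _ _ hxmem
      exact pow_mod hX (N j) x h (hiff h hh j) hax y (by rw [← hx]; exact hy)
    have h1 := htriv _ (H.pow_mem hh _) hst
    have h2 : orderOf h ∣ Nat.card X * (p - 1) := orderOf_dvd_of_pow_eq_one h1
    have h3 : orderOf h ∣ Nat.card H := Subgroup.orderOf_dvd_natCard H hh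
    obtain ⟨n, hn⟩ := IsPGroup.iff_card.mp hX
    have hc : Nat.Coprime (orderOf h) (Nat.card X) := by
      rw [hn]
      exact (hH.pow_right n).coprime_dvd_left h3
    have h4 : orderOf h ∣ p - 1 := by
      rw [mul_comm] at h2
      exact Nat.Coprime.dvd_of_dvd_mul_right hc h2
    exact orderOf_dvd_iff_pow_eq_one.mp h4

/-- Fusion form. -/
theorem abelian_of_semiSystem_chain [Finite S] (p : ℕ) [hp : Fact p.Prime] (hS : IsPGroup p S)
    (H : Subgroup (MulAut S)) (hH : (Nat.card H).Coprime p)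
    (c' : ℕ → Subgroup Ω) (m : ℕ) (h0 : c' 0 = ⊥) (hm : c' m = S)
    (hsc : ∀ j, (semiSystem S H).StronglyClosed (c' j))
    (hstep : ∀ j, ∃ x ∈ S, c' (j + 1) = c' j ⊔ zpowers x) :
    (∀ a ∈ H, ∀ b ∈ H, a * b = b * a) ∧ ∀ h ∈ H, h ^ (p - 1) = 1 := by
  have hinv : ∀ h ∈ H, ∀ j, ∀ y : S, (y : Ω) ∈ c' j → ((h y : S) : Ω) ∈ c' j := by
    intro h hh j y hy
    have hcS : c' j ≤ S := (hsc j).1
    let φ : (c' j) →* Ω := S.subtype.comp (h.toMonoidHom.comp (Subgroup.inclusion hcS))
    have hφ : φ ∈ (semiSystem S H).Hom (c' j) := by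
      rw [mem_semiSystem_iff]
      refine ⟨hcS, 1, h, hh, fun x => ?_⟩
      simp [φ]
      rfl
    have := (hsc j).2 (c' j) le_rfl φ hφ ⟨y, hy⟩
    have e : φ ⟨y, hy⟩ = ((h y : S) : Ω) := rfl
    rwa [e] at this
  apply abelian_of_cyclic_chain p hS H hH (fun j => (c' j).subgroupOf S) m
  · show (c' 0).subgroupOf S = ⊥
    rw [h0, bot_subgroupOf]
  · show (c' m).subgroupOf S = ⊤
    rw [hm, subgroupOf_self]
  · intro j
    exact (normal_subgroupOf_iff_le_normalizer (hsc j).1).mpr
      (le_normalizer_of_stronglyClosed _ (hsc j))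
  · intro j
    obtain ⟨x, hx, hxe⟩ := hstep j
    refine ⟨⟨x, hx⟩, ?_⟩
    show (c' (j + 1)).subgroupOf S = (c' j).subgroupOf S ⊔ zpowers (⟨x, hx⟩ : S)
    rw [hxe, subgroupOf_sup_zpowers (hsc j).1 hx]
  · intro h hh j y hy
    rw [mem_subgroupOf] at hy ⊢
    exact hinv h hh j y hy

end Cfsg.Agent.Helper26.SuperSol
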