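import Mathlib

set_option autoImplicit false
set_option linter.unusedSectionVars false
set_option linter.unusedVariables false
set_option linter.style.haveILetI false

/-! # An eigenvector lemma for endomorphisms of exponent `p - 1` of elementary abelian `p`-groups -/

namespace Cfsg.Agent.Helper26.SuperSol

open Polynomial

theorem exists_eigen_module {M : Type*} [AddCommGroup M] (p : ℕ) [hp : Fact p.Prime]
    [Module (ZMod p) M] [Finite M] [Nontrivial M] (f' : Module.End (ZMod p) M)
    (hpow : f' ^ (p - 1) = 1) : ∃ m : M, m ≠ 0 ∧ ∃ μ : ZMod p, f' m = μ • m := by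
  have hpow' : f' ^ p = f' := by
    have h1 : f' ^ p = f' ^ (p - 1) * f' := by
      rw [← pow_succ]
      congr 1
      exact (Nat.sub_add_cancel hp.out.one_le).symm
    rw [h1, hpow, one_mul]
  have haeval : aeval f' (X ^ p - X : (ZMod p)[X]) = 0 := by
    rw [map_sub, map_pow, aeval_X, hpow', sub_self]
  have hdvd : minpoly (ZMod p) f' ∣ (X ^ p - X : (ZMod p)[X]) := minpoly.dvd _ _ haeval
  have hne : (X ^ p - X : (ZMod p)[X]) ≠ 0 := FiniteField.X_pow_card_sub_X_ne_zero _ hp.out.one_lt
  have hsplit : Splits (minpoly (ZMod p) f') :=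
    (GaloisField.splits_zmod_X_pow_sub_X p).of_dvd hne hdvd
  haveI : Module.Finite (ZMod p) M := Module.Finite.of_finite
  have hdeg : (minpoly (ZMod p) f').degree ≠ 0 := by
    have h1 := minpoly.degree_pos (Algebra.IsIntegral.isIntegral (R := ZMod p) f')
    exact h1.ne'
  obtain ⟨μ, hμ⟩ := hsplit.exists_eval_eq_zero hdeg
  have hev : f'.HasEigenvalue μ := Module.End.hasEigenvalue_of_isRoot hμ
  obtain ⟨m, hm⟩ := hev.exists_hasEigenvector
  exact ⟨m, hm.2, μ, hm.apply_eq_smul⟩

theorem exists_eigen_add {M : Type*} [AddCommGroup M] (p : ℕ) [hp : Fact p.Prime]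
    [Module (ZMod p) M] [Finite M] [Nontrivial M] (f : M →+ M)
    (hf : ∀ m, f^[p - 1] m = m) : ∃ m : M, m ≠ 0 ∧ ∃ k : ℕ, f m = k • m := by
  have hiter : ∀ n : ℕ, ∀ m : M, ((f.toZModLinearMap p) ^ n) m = f^[n] m := by
    intro n
    induction n with
    | zero => intro m; rfl
    | succ n ih =>
      intro m
      rw [pow_succ', Module.End.mul_apply, ih, Function.iterate_succ_apply']
      rfl
  have hpow : (f.toZModLinearMap p) ^ (p - 1) = 1 := by
    ext m
    rw [hiter, hf]
    rfl
  obtain ⟨m, hm0, μ, hm⟩ := exists_eigen_module p (f.toZModLinearMap p) hpow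
  refine ⟨m, hm0, μ.val, ?_⟩
  have h2 : μ • m = (μ.val) • m := by
    conv_lhs => rw [← ZMod.natCast_zmod_val μ]
    rw [Nat.cast_smul_eq_nsmul]
  rw [← h2, ← hm]
  rfl

/-- An endomorphism `f` of a nontrivial finite elementary abelian `p`-group with `f ^ (p - 1) = id` has an eigenvector. -/
theorem exists_eigen {V : Type*} [CommGroup V] [Finite V] [Nontrivial V] (p : ℕ) [hp : Fact p.Prime]
    (hV : ∀ v : V, v ^ p = 1) (f : V →* V) (hf : ∀ v, f^[p - 1] v = v) :
    ∃ v : V, v ≠ 1 ∧ ∃ k : ℕ, f v = v ^ k := by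
  have hA : ∀ x : Additive V, p • x = 0 := fun x => by
    have : x = Additive.ofMul (Additive.toMul x) := rfl
    rw [this, ← ofMul_pow, hV]; rfl
  haveI : Nontrivial (Additive V) := inferInstanceAs (Nontrivial V)
  haveI : Finite (Additive V) := inferInstanceAs (Finite V)
  have hiter : ∀ n : ℕ, ∀ m : Additive V,
      (MonoidHom.toAdditive f)^[n] m = Additive.ofMul (f^[n] (Additive.toMul m)) := by
    intro n
    induction n with
    | zero => intro m; rfl
    | succ n ih =>
      intro m
      rw [Function.iterate_succ_apply', ih, Function.iterate_succ_apply']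
      rfl
  obtain ⟨m, hm0, k, hm⟩ := @exists_eigen_add (Additive V) _ p hp (AddCommGroup.zmodModule hA) _ _
    (MonoidHom.toAdditive f) (fun m => by rw [hiter, hf]; rfl)
  refine ⟨Additive.toMul m, ?_, k, ?_⟩
  · intro h
    apply hm0
    exact h
  · have := congrArg Additive.toMul hm
    simpa using this

end Cfsg.Agent.Helper26.SuperSol
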