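import Mathlib
import Cfsg.Agent.Helper26.SuperSol4

set_option autoImplicit false
set_option linter.unusedSectionVars false
set_option linter.unusedVariables false
set_option linter.style.haveILetI false

/-! # Invariant cyclic steps for automorphism groups with abelian `p'`-part of exponent `p - 1` -/

namespace Cfsg.Agent.Helper26.SuperSol

open Subgroup

variable {X : Type*} [Group X]

/-- central elements of order dividing `p` -/
def omegaCenter (Q : Type*) [Group Q] (p : ℕ) : Subgroup Q where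
  carrier := {q | q ∈ center Q ∧ q ^ p = 1}
  one_mem' := ⟨one_mem _, one_pow p⟩
  mul_mem' := by
    rintro a b ⟨ha, hap⟩ ⟨hb, hbp⟩
    refine ⟨mul_mem ha hb, ?_⟩
    have hc : Commute a b := (Subgroup.mem_center_iff.mp hb a)
    rw [hc.mul_pow, hap, hbp, one_mul]
  inv_mem' := by
    rintro a ⟨ha, hap⟩
    exact ⟨inv_mem ha, by rw [inv_pow, hap, inv_one]⟩

theorem mem_omegaCenter {Q : Type*} [Group Q] {p : ℕ} {q : Q} :
    q ∈ omegaCenter Q p ↔ q ∈ center Q ∧ q ^ p = 1 := Iff.rfl

/-- the eigen-subgroup of an endomorphism on the central elements of order `p` -/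
def eigenSub {Q : Type*} [Group Q] (p : ℕ) (f : Q →* Q) (k : ℕ) : Subgroup Q where
  carrier := {q | q ∈ omegaCenter Q p ∧ f q = q ^ k}
  one_mem' := ⟨one_mem _, by rw [map_one, one_pow]⟩
  mul_mem' := by
    rintro a b ⟨ha, hak⟩ ⟨hb, hbk⟩
    refine ⟨mul_mem ha hb, ?_⟩
    have hc : Commute a b := (Subgroup.mem_center_iff.mp hb.1 a)
    rw [map_mul, hak, hbk, hc.mul_pow]
  inv_mem' := by
    rintro a ⟨ha, hak⟩
    exact ⟨inv_mem ha, by rw [map_inv, hak, inv_pow]⟩

theorem exists_invariant_step [Finite X] (p : ℕ) [hp : Fact p.Prime]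
    (hX : IsPGroup p X) (A : Subgroup (MulAut X)) (hconj : ∀ g : X, MulAut.conj g ∈ A)
    (H : Subgroup (MulAut X)) (hHA : H ≤ A)
    (hdec : ∀ α ∈ A, ∃ g : X, ∃ h ∈ H, α = MulAut.conj g * h)
    (hHab : ∀ a ∈ H, ∀ b ∈ H, a * b = b * a) (hHexp : ∀ h ∈ H, h ^ (p - 1) = 1)
    (B : Subgroup X) (hBinv : ∀ α ∈ A, ∀ y ∈ B, α y ∈ B) (hB : B ≠ ⊤) :
    ∃ C : Subgroup X, (∀ α ∈ A, ∀ y ∈ C, α y ∈ C) ∧ B ≤ C ∧ B ≠ C ∧
      ∃ x : X, C = B ⊔ zpowers x := by
  classical
  haveI hBn : B.Normal := ⟨fun n hn g => by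
    have := hBinv _ (hconj g) n hn
    simpa using this⟩
  obtain ⟨π, hπ⟩ : ∃ π : X →* X ⧸ B, π = QuotientGroup.mk' B := ⟨_, rfl⟩
  have hπsurj : Function.Surjective π := by rw [hπ]; exact QuotientGroup.mk'_surjective B
  have hπ1 : ∀ y, π y = 1 ↔ y ∈ B := by
    intro y; rw [hπ]; exact QuotientGroup.eq_one_iff y
  have hπeq : ∀ a b, π a = π b ↔ a⁻¹ * b ∈ B := by
    intro a b; rw [hπ]; exact QuotientGroup.eq
  have hQ : IsPGroup p (X ⧸ B) := hX.to_quotient B
  -- compatibility of `A` with `π`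
  have hπα : ∀ α ∈ A, ∀ a b, π a = π b → π (α a) = π (α b) := by
    intro α hα a b hab
    rw [hπeq] at hab ⊢
    have := hBinv α hα _ hab
    simpa using this
  -- induced maps
  have hle : ∀ α ∈ A, B ≤ B.comap α.toMonoidHom := fun α hα y hy => hBinv α hα y hy
  -- V
  set T : Subgroup (X ⧸ B) := omegaCenter (X ⧸ B) p with hT
  set V : Subgroup X := T.comap π with hV
  have hBV : B ≤ V := by
    intro b hb
    show π b ∈ T
    rw [(hπ1 b).mpr hb]
    exact one_mem _
  have hVinv : ∀ α ∈ A, ∀ y ∈ V, α y ∈ V := by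
    intro α hα y hy
    have hy' : π y ∈ center (X ⧸ B) ∧ (π y) ^ p = 1 := hy
    show π (α y) ∈ center (X ⧸ B) ∧ (π (α y)) ^ p = 1
    constructor
    · rw [Subgroup.mem_center_iff]
      intro q
      obtain ⟨s, rfl⟩ := hπsurj q
      have hs : s = α (α⁻¹ s) := by simp
      rw [hs, ← map_mul, ← map_mul, ← map_mul, ← map_mul]
      apply hπα α hα
      rw [map_mul, map_mul]
      exact Subgroup.mem_center_iff.mp hy'.1 _
    · rw [← map_pow, ← map_pow]
      have h1 : π (y ^ p) = π 1 := by rw [map_pow, hy'.2, map_one]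
      have h2 := hπα α hα _ _ h1
      rw [h2, map_one, map_one]
  have hBneV : B ≠ V := by
    intro hBV'
    -- a central element of order p in the quotient
    haveI : Nontrivial (X ⧸ B) := by
      obtain ⟨x, hx⟩ : ∃ x, x ∉ B := by
        by_contra hcon
        push Not at hcon
        exact hB (eq_top_iff.mpr fun x _ => hcon x)
      exact ⟨⟨π x, 1, fun h => hx ((hπ1 x).mp h)⟩⟩
    haveI : Nontrivial (center (X ⧸ B)) := hQ.center_nontrivial
    have hZp : IsPGroup p (center (X ⧸ B)) := hQ.to_subgroup _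
    obtain ⟨n, hn⟩ := IsPGroup.iff_card.mp hZp
    have hn0 : n ≠ 0 := by
      rintro rfl
      rw [pow_zero] at hn
      have := (Nat.card_eq_one_iff_unique.mp hn).1
      exact not_subsingleton _ this
    have hdvd : p ∣ Nat.card (center (X ⧸ B)) := by
      rw [hn]; exact dvd_pow_self p hn0
    obtain ⟨z, hz⟩ := exists_prime_orderOf_dvd_card' p hdvd
    obtain ⟨y, hy⟩ := hπsurj (z : X ⧸ B)
    have hyV : y ∈ V := by
      show π y ∈ center (X ⧸ B) ∧ (π y) ^ p = 1
      rw [hy]
      refine ⟨z.2, ?_⟩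
      have : z ^ p = 1 := by rw [← hz]; exact pow_orderOf_eq_one z
      have := congrArg (fun t : center (X ⧸ B) => (t : X ⧸ B)) this
      simpa using this
    rw [← hBV'] at hyV
    have h1 : (z : X ⧸ B) = 1 := by rw [← hy]; exact (hπ1 y).mpr hyV
    have h2 : z = 1 := Subtype.ext h1
    rw [h2, orderOf_one] at hz
    exact hp.out.one_lt.ne hz
  -- minimal invariant subgroup
  let 𝒮 : Set (Subgroup X) := {C | (∀ α ∈ A, ∀ y ∈ C, α y ∈ C) ∧ B ≤ C ∧ B ≠ C ∧ C ≤ V}
  have hfin : 𝒮.Finite := Set.toFinite _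
  have hne : 𝒮.Nonempty := ⟨V, hVinv, hBV, hBneV, le_rfl⟩
  obtain ⟨C, hCmin⟩ := hfin.exists_minimal hne
  obtain ⟨⟨hCinv, hBC, hBneC, hCV⟩, hmin⟩ := hCmin
  -- every element of H acts as a power map on C mod B
  have hscal : ∀ h ∈ H, ∃ k : ℕ, ∀ y ∈ C, π (h y) = (π y) ^ k := by
    intro h hh
    have hhA : h ∈ A := hHA hh
    obtain ⟨hbar, hhbar⟩ : ∃ hbar : X ⧸ B →* X ⧸ B,
        hbar = QuotientGroup.map B B h.toMonoidHom (hle h hhA) := ⟨_, rfl⟩
    have hbar_mk : ∀ y, hbar (π y) = π (h y) := by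
      intro y; rw [hhbar, hπ]; rfl
    set W : Subgroup (X ⧸ B) := C.map π with hW
    have hWT : W ≤ T := by
      rintro _ ⟨c, hc, rfl⟩
      exact hCV hc
    letI : CommGroup W :=
      { (inferInstance : Group W) with
        mul_comm := fun a b => Subtype.ext
          (Subgroup.mem_center_iff.mp (hWT b.2).1 a.1) }
    have hmapW : ∀ w : W, hbar w.1 ∈ W := by
      rintro ⟨_, c, hc, rfl⟩
      rw [hbar_mk]
      exact ⟨h c, hCinv h hhA c hc, rfl⟩
    let f : W →* W := (hbar.comp W.subtype).codRestrict W hmapW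
    have hf1 : ∀ w : W, (f w : X ⧸ B) = hbar w.1 := fun w => rfl
    haveI : Nontrivial W := by
      obtain ⟨c, hc, hcB⟩ : ∃ c ∈ C, c ∉ B := by
        by_contra hcon
        push Not at hcon
        exact hBneC (le_antisymm hBC hcon)
      refine ⟨⟨⟨π c, c, hc, rfl⟩, 1, fun h => hcB ((hπ1 c).mp ?_)⟩⟩
      exact congrArg Subtype.val h
    have hWp : ∀ w : W, w ^ p = 1 := by
      intro w
      apply Subtype.ext
      rw [Subgroup.coe_pow]
      exact (hWT w.2).2
    have hiter : ∀ n : ℕ, ∀ c (hc : c ∈ C),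
        (f^[n] ⟨π c, c, hc, rfl⟩ : W) = ⟨π ((h ^ n) c), (h ^ n) c,
          hCinv _ (A.pow_mem hhA n) c hc, rfl⟩ := by
      intro n
      induction n with
      | zero => intro c hc; rfl
      | succ n ih =>
        intro c hc
        rw [Function.iterate_succ_apply', ih c hc]
        apply Subtype.ext
        rw [hf1]
        show hbar (π ((h ^ n) c)) = π ((h ^ (n + 1)) c)
        rw [hbar_mk, pow_succ', MulAut.mul_apply]
    have hfit : ∀ w : W, f^[p - 1] w = w := by
      rintro ⟨_, c, hc, rfl⟩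
      rw [hiter (p - 1) c hc]
      apply Subtype.ext
      show π ((h ^ (p - 1)) c) = π c
      rw [hHexp h hh]
      rfl
    obtain ⟨w, hw1, k, hwk⟩ := exists_eigen p hWp f hfit
    refine ⟨k, ?_⟩
    -- the eigen-subgroup
    set E : Subgroup X := C ⊓ (eigenSub p hbar k).comap π with hE
    have hEC : E ≤ C := inf_le_left
    have hBE : B ≤ E := by
      intro b hb
      refine ⟨hBC hb, ?_⟩
      show π b ∈ eigenSub p hbar k
      rw [(hπ1 b).mpr hb]
      exact one_mem _
    have hBneE : B ≠ E := by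
      intro hBE'
      obtain ⟨wq, c, hc, hcw⟩ := w
      apply hw1
      apply Subtype.ext
      show wq = 1
      rw [← hcw]
      apply (hπ1 c).mpr
      rw [hBE']
      refine ⟨hc, ?_⟩
      show π c ∈ eigenSub p hbar k
      refine ⟨hCV hc, ?_⟩
      have h1 := congrArg Subtype.val hwk
      rw [hf1, Subgroup.coe_pow] at h1
      simp only [] at h1
      rw [← hcw] at h1
      exact h1
    have hEinv : ∀ α ∈ A, ∀ y ∈ E, α y ∈ E := by
      intro α hα y hy
      refine ⟨hCinv α hα y hy.1, ?_⟩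
      obtain ⟨g, h', hh', rfl⟩ := hdec α hα
      have hyT : π y ∈ T := hCV hy.1
      have hyk : hbar (π y) = (π y) ^ k := hy.2.2
      have hh'A : h' ∈ A := hHA hh'
      have hh'y : π (h' y) ∈ T := hVinv h' hh'A y (hCV hy.1)
      have e1 : π ((MulAut.conj g * h') y) = π (h' y) := by
        rw [MulAut.mul_apply, MulAut.conj_apply, map_mul, map_mul, map_inv]
        have := Subgroup.mem_center_iff.mp hh'y.1 (π g)
        rw [this, mul_inv_cancel_right]
      show π ((MulAut.conj g * h') y) ∈ eigenSub p hbar k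
      rw [e1]
      refine ⟨hh'y, ?_⟩
      rw [hbar_mk]
      have e2 : h (h' y) = h' (h y) := by
        have := hHab h hh h' hh'
        have h3 := congrArg (fun t : MulAut X => t y) this
        simpa [MulAut.mul_apply] using h3
      rw [e2]
      have e3 : π (h y) = π (y ^ k) := by rw [← hbar_mk, hyk, map_pow]
      rw [hπα h' hh'A _ _ e3, map_pow, map_pow]
    have hES : E ∈ 𝒮 := ⟨hEinv, hBE, hBneE, hEC.trans hCV⟩
    have hCE : C ≤ E := hmin hES hEC
    intro y hy
    have := (hCE hy).2.2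
    rw [hbar_mk] at this
    exact this
  -- the cyclic step
  obtain ⟨x, hxC, hxB⟩ : ∃ c ∈ C, c ∉ B := by
    by_contra hcon
    push Not at hcon
    exact hBneC (le_antisymm hBC hcon)
  set C' : Subgroup X := B ⊔ zpowers x with hC'
  have hC'C : C' ≤ C := sup_le hBC (zpowers_le.mpr hxC)
  have hC'inv : ∀ α ∈ A, ∀ y ∈ C', α y ∈ C' := by
    intro α hα
    have hle' : C' ≤ C'.comap α.toMonoidHom := by
      rw [hC', sup_le_iff]
      constructor
      · intro b hb
        exact mem_sup_left (hBinv α hα b hb)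
      · rw [zpowers_le]
        show α x ∈ B ⊔ zpowers x
        obtain ⟨g, h, hh, rfl⟩ := hdec α hα
        obtain ⟨k, hk⟩ := hscal h hh
        have hhA : h ∈ A := hHA hh
        have hhx : π (h x) ∈ T := hVinv h hhA x (hCV hxC)
        have e1 : π ((MulAut.conj g * h) x) = π (x ^ k) := by
          rw [MulAut.mul_apply, MulAut.conj_apply, map_mul, map_mul, map_inv]
          have := Subgroup.mem_center_iff.mp hhx.1 (π g)
          rw [this, mul_inv_cancel_right, hk x hxC, map_pow]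
        have h2 : (x ^ k)⁻¹ * (MulAut.conj g * h) x ∈ B := (hπeq _ _).mp e1.symm
        have h3 : (MulAut.conj g * h) x = x ^ k * ((x ^ k)⁻¹ * (MulAut.conj g * h) x) := by group
        rw [h3]
        exact mul_mem (mem_sup_right (pow_mem (mem_zpowers x) k)) (mem_sup_left h2)
    exact fun y hy => hle' hy
  have hBneC' : B ≠ C' := by
    intro h
    apply hxB
    rw [h]
    exact mem_sup_right (mem_zpowers x)
  have hC'S : C' ∈ 𝒮 := ⟨hC'inv, le_sup_left, hBneC', hC'C.trans hCV⟩
  have hCC' : C ≤ C' := hmin hC'S hC'C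
  exact ⟨C, hCinv, hBC, hBneC, x, le_antisymm hCC' hC'C⟩

end Cfsg.Agent.Helper26.SuperSol
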