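import Mathlib
import Cfsg.Agent.Helper26.SuperSol3
import Cfsg.Agent.Helper26.SuperSol5
import Cfsg.Agent.Helper26.AbChainFusion
import Cfsg.Agent.Helper26.FusionChainLocal
import Cfsg.Agent.Helper26.FusionInner
import Cfsg.Agent.Helper25.FusionBGH1
import Cfsg.Agent.S5077

set_option autoImplicit false
set_option linter.unusedSectionVars false
set_option linter.unusedVariables false
set_option linter.style.haveILetI false

/-! # Supersoluble type: the converse direction -/

namespace Cfsg.Agent.Helper26.SuperSol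

open Subgroup Cfsg Cfsg.FusionSystem Cfsg.Agent.Helper25 Cfsg.Agent.Helper26.AbChain

variable {Ω : Type*} [Group Ω] {S : Subgroup Ω}

/-- If `S` is normal in `F`, every map of `F` is the restriction of an `F`-automorphism of `S`. -/
theorem exists_aut_of_isNormal_top [Finite S] (F : FusionSystem S) (hN : F.IsNormal S)
    {R : Subgroup Ω} {φ : R →* Ω} (hφ : φ ∈ F.Hom R) :
    ∃ α ∈ F.autGroup S, ∀ x : R, ((α ⟨x, (F.le_of_mem hφ).1 x.2⟩ : S) : Ω) = φ x := by
  have hRS : R ≤ S := (F.le_of_mem hφ).1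
  obtain ⟨ψ, hψ, hext, -⟩ := hN.2 R φ hφ
  have e : S = R ⊔ S := (sup_eq_right.mpr hRS).symm
  have hψ' : ψ.comp (Subgroup.inclusion e.le) ∈ F.Hom S := cast_mem F e hψ
  have hsc : F.StronglyClosed S := ⟨le_rfl, fun R hR φ hφ x => (F.le_of_mem hφ).2 x⟩
  have hr : (ψ.comp (Subgroup.inclusion e.le)).range = S :=
    (Cfsg.Agent.Helper26.weaklyClosed_of_stronglyClosed F hsc).2 _ hψ'
  refine ⟨isoOfHom _ (F.injective_of_mem hψ') hr, ?_, fun x => ?_⟩
  · rw [mem_autGroup_iff F le_rfl]
    have : autHom (isoOfHom _ (F.injective_of_mem hψ') hr) = ψ.comp (Subgroup.inclusion e.le) := by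
      ext x; rfl
    rw [this]
    exact hψ'
  · rw [isoOfHom_coe, ← hext x]
    rfl

theorem stronglyClosed_of_invariant [Finite S] (F : FusionSystem S) (hN : F.IsNormal S)
    (C : Subgroup S) (hC : ∀ α ∈ F.autGroup S, ∀ y ∈ C, α y ∈ C) :
    F.StronglyClosed (C.map S.subtype) := by
  refine ⟨map_subtype_le C, fun R hR φ hφ r => ?_⟩
  obtain ⟨α, hα, hαr⟩ := exists_aut_of_isNormal_top F hN hφ
  rw [← hαr r]
  obtain ⟨y, hy, hyr⟩ := hR r.2
  have : (⟨(r : Ω), (F.le_of_mem hφ).1 r.2⟩ : S) = y := Subtype.ext hyr.symm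
  rw [this]
  exact ⟨α y, hC α hα y hy, rfl⟩

/-- Schur–Zassenhaus decomposition of `Aut_F(S)`. -/
theorem exists_pPrime_complement [Finite S] (p : ℕ) [hp : Fact p.Prime] (hS : IsPGroup p S)
    (F : FusionSystem S) (hF : F.IsSaturated p) :
    ∃ H : Subgroup (MulAut S), H ≤ F.autGroup S ∧ (Nat.card H).Coprime p ∧
      ∀ α ∈ F.autGroup S, ∃ g : S, ∃ h ∈ H, α = MulAut.conj g * h := by
  have hfinA : Finite (MulAut S) :=
    Finite.of_injective (fun e : MulAut S => (e : S → S)) (fun a b h => DFunLike.coe_injective h)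
  obtain ⟨A, hA⟩ : ∃ A : Subgroup (MulAut S), A = F.autGroup S := ⟨_, rfl⟩
  have hsyl := (Cfsg.Agent.S5077.sylow_axiom p hS F hF S
    (Cfsg.Agent.Helper26.top_isFullyNormalized F)).2
  rw [IsFullyAutomized, ← hA] at hsyl
  obtain ⟨-, R, hR⟩ := hsyl
  rw [← hA]
  obtain ⟨N, hNdef⟩ : ∃ N : Subgroup A, N = (autInducedBy S S).subgroupOf A := ⟨_, rfl⟩
  -- `N` consists of inner automorphisms
  have hNinn : ∀ n : A, n ∈ N → ∃ g : S, (n : MulAut S) = MulAut.conj g := by
    intro n hn
    rw [hNdef, mem_subgroupOf, mem_autInducedBy_iff] at hn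
    obtain ⟨g, hg, hgx⟩ := hn
    refine ⟨⟨g, hg⟩, ?_⟩
    ext x
    rw [hgx x]
    simp
  haveI hNn : N.Normal := by
    refine ⟨fun n hn a => ?_⟩
    obtain ⟨g, hg⟩ := hNinn n hn
    rw [hNdef, mem_subgroupOf]
    have h1 : ((a * n * a⁻¹ : A) : MulAut S) = MulAut.conj ((a : MulAut S) g) := by
      ext x
      simp [hg, MulAut.mul_apply]
    rw [h1, mem_autInducedBy_iff]
    refine ⟨(((a : MulAut S) g : S) : Ω), ((a : MulAut S) g).2, fun x => ?_⟩
    simp
  have hNR : N = (R : Subgroup A) := by rw [hNdef, hR]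
  have hNp : IsPGroup p N := by rw [hNR]; exact R.2
  have hidx : ¬ p ∣ N.index := by rw [hNR]; exact R.not_dvd_index
  have hcop : Nat.Coprime (Nat.card N) N.index := by
    obtain ⟨k, hk⟩ := IsPGroup.iff_card.mp hNp
    rw [hk]
    exact Nat.Coprime.pow_left k ((Nat.Prime.coprime_iff_not_dvd hp.out).mpr hidx)
  obtain ⟨H', hH'⟩ := Subgroup.exists_right_complement'_of_coprime hcop
  refine ⟨H'.map A.subtype, map_subtype_le H', ?_, ?_⟩
  · have h1 : Nat.card (H'.map A.subtype) = Nat.card H' :=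
      Subgroup.card_map_of_injective (subtype_injective A)
    have h2 : Nat.card H' = N.index := hH'.card_right
    rw [h1, h2, Nat.coprime_comm]
    exact (Nat.Prime.coprime_iff_not_dvd hp.out).mpr hidx
  · intro α hα
    obtain ⟨⟨n, h⟩, hnh, -⟩ := (isComplement'_def.mp hH').existsUnique (⟨α, hα⟩ : A)
    obtain ⟨g, hg⟩ := hNinn n.1 n.2
    refine ⟨g, (h.1 : MulAut S), ⟨h.1, h.2, rfl⟩, ?_⟩
    have := congrArg (fun t : A => (t : MulAut S)) hnh
    simp only [Subgroup.coe_mul] at this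
    rw [← this, hg]

theorem exists_chain_of_resistant [Finite S] (p : ℕ) [hp : Fact p.Prime] (hS : IsPGroup p S)
    (F : FusionSystem S) (hF : F.IsSaturated p) (hN : F.IsNormal S)
    (hab : ∀ H : Subgroup (MulAut ↥S), (Nat.card ↥H).Coprime p →
      IsMulCommutative ↥H ∧ ∀ h ∈ H, h ^ (p - 1) = 1) :
    ∃ (m : ℕ) (c : Fin (m + 1) → Subgroup Ω), c 0 = ⊥ ∧ c (Fin.last m) = S ∧
      (∀ i : Fin (m + 1), F.StronglyClosed (c i)) ∧
      ∀ i : Fin m, c i.castSucc ≤ c i.succ ∧ ∃ x ∈ S, c i.succ = c i.castSucc ⊔ zpowers x := by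
  obtain ⟨H, hHA, hHcop, hdec⟩ := exists_pPrime_complement p hS F hF
  obtain ⟨hHc, hHexp⟩ := hab H hHcop
  have hHab : ∀ a ∈ H, ∀ b ∈ H, a * b = b * a := by
    intro a ha b hb
    have := hHc.is_comm.comm (⟨a, ha⟩ : H) ⟨b, hb⟩
    exact congrArg Subtype.val this
  have hconj : ∀ g : S, MulAut.conj g ∈ F.autGroup S := fun g =>
    inn_le_autGroup F le_rfl ⟨g, rfl⟩
  have hS' : IsPGroup p (↥S) := hS
  have key : ∀ k : ℕ, ∀ B : Subgroup S, (∀ α ∈ F.autGroup S, ∀ y ∈ B, α y ∈ B) →
      Nat.card S - Nat.card B ≤ k → SChain F ⊥ (B.map S.subtype) → SChain F ⊥ S := by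
    intro k
    induction k with
    | zero =>
      intro B hB hk hch
      have hle : Nat.card B ≤ Nat.card S := Subgroup.card_le_card_group B
      have hBtop : B = ⊤ := Subgroup.eq_top_of_card_eq B (by omega)
      rw [hBtop, ← MonoidHom.range_eq_map, Subgroup.range_subtype] at hch
      exact hch
    | succ k ih =>
      intro B hB hk hch
      by_cases hBtop : B = ⊤
      · rw [hBtop, ← MonoidHom.range_eq_map, Subgroup.range_subtype] at hch
        exact hch
      · obtain ⟨C, hCinv, hBC, hBneC, x, hx⟩ :=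
          exists_invariant_step p hS' (F.autGroup S) hconj H hHA hdec hHab hHexp B hB hBtop
        have hlt : Nat.card B < Nat.card C := by
          have hle := Subgroup.card_le_of_le hBC
          rcases hle.lt_or_eq with h | h
          · exact h
          · exact absurd (Subgroup.eq_of_le_of_card_ge hBC h.ge) hBneC
        have hCle : Nat.card C ≤ Nat.card S := Subgroup.card_le_card_group C
        apply ih C hCinv (by omega)
        refine SChain.snoc hch (stronglyClosed_of_invariant F hN C hCinv) (map_mono hBC) ?_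
        refine ⟨x, x.2, ?_⟩
        rw [hx, Subgroup.map_sup, MonoidHom.map_zpowers]
        rfl
  have hbot : SChain F ⊥ ((⊥ : Subgroup S).map S.subtype) := by
    rw [Subgroup.map_bot]
    refine SChain.refl _ ⟨bot_le, ?_⟩
    intro R hR φ hφ x
    have hx : (x : Ω) = 1 := by
      have := hR x.2
      rwa [mem_bot] at this
    have hx' : x = 1 := Subtype.ext hx
    rw [hx', map_one]
    exact one_mem _
  have hfin := key (Nat.card S) ⊥ (fun α hα y hy => by
    rw [mem_bot] at hy ⊢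
    rw [hy, map_one]) (Nat.sub_le _ _) hbot
  exact hfin.toFin

end Cfsg.Agent.Helper26.SuperSol
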