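import Mathlib
import Cfsg.Agent.Helper26.AutSystemNoChain

set_option autoImplicit false
set_option linter.unusedSectionVars false
set_option linter.unusedVariables false
set_option linter.style.haveILetI false

/-! # Saturated fusion systems over abelian groups with a repeated invariant and no
supersoluble chain -/

namespace Cfsg.Agent.Helper26

open Cfsg Cfsg.FusionSystem Subgroup

section transport

variable {Ω : Type*} [Group Ω] {S : Subgroup Ω} [Finite S]

theorem exists_bad_system (p : ℕ) [hp : Fact p.Prime] (hab : ∀ x ∈ S, ∀ y ∈ S, x * y = y * x)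
    {E H : Type*} [CommGroup E] [Group H] (e : S ≃* E × H) (β : MulAut E) (N : ℕ) (hN0 : 0 < N)
    (hN : N.Coprime p) (hβN : β ^ N = 1) (hne : ∃ w : E, w ^ p = 1 ∧ w ≠ 1)
    (hirr : ∀ w : E, w ^ p = 1 → w ≠ 1 → β w ∉ zpowers w) :
    ∃ F : FusionSystem S, F.IsSaturated p ∧
      ¬ ∃ (m : ℕ) (c : Fin (m + 1) → Subgroup Ω), c 0 = ⊥ ∧ c (Fin.last m) = S ∧
        (∀ i : Fin (m + 1), F.StronglyClosed (c i)) ∧
        ∀ i : Fin m, c i.castSucc ≤ c i.succ ∧ ∃ x ∈ S, c i.succ = c i.castSucc ⊔ zpowers x := by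
  obtain ⟨α₀, hα₀⟩ : ∃ α₀ : MulAut S,
      α₀ = e.trans ((MulEquiv.prodCongr β (MulEquiv.refl H)).trans e.symm) := ⟨_, rfl⟩
  have happ : ∀ s : S, e (α₀ s) = (β (e s).1, (e s).2) := by
    intro s
    rw [hα₀]
    simp only [MulEquiv.trans_apply, MulEquiv.apply_symm_apply]
    rfl
  have hpow : ∀ k : ℕ, ∀ s : S, e ((α₀ ^ k) s) = ((β ^ k) (e s).1, (e s).2) := by
    intro k
    induction k with
    | zero => intro s; simp
    | succ k ih =>
      intro s
      rw [pow_succ, pow_succ, MulAut.mul_apply, MulAut.mul_apply, ih, happ]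
  have hα₀N : α₀ ^ N = 1 := by
    ext s
    apply congrArg Subtype.val
    apply e.injective
    rw [hpow, hβN]
    simp
  have hcard : (Nat.card (zpowers α₀)).Coprime p := by
    rw [Nat.card_zpowers]
    exact Nat.Coprime.coprime_dvd_left (orderOf_dvd_of_pow_eq_one hα₀N) hN
  refine ⟨autSystem S hab (zpowers α₀), autSystem_isSaturated p hab _ hcard, ?_⟩
  obtain ⟨W, hW⟩ : ∃ W : Subgroup S,
      W = ((powMonoidHom p : E →* E).ker.prod ⊥).comap e.toMonoidHom := ⟨_, rfl⟩
  have hmemW : ∀ s : S, s ∈ W ↔ (e s).1 ^ p = 1 ∧ (e s).2 = 1 := by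
    intro s
    rw [hW, mem_comap, mem_prod, MonoidHom.mem_ker, powMonoidHom_apply, mem_bot]
    rfl
  apply no_chain_of_irreducible p hab α₀ W
  · obtain ⟨w, hwp, hw1⟩ := hne
    intro hbot
    have hmem : e.symm (w, 1) ∈ W := by
      rw [hmemW, e.apply_symm_apply]
      exact ⟨hwp, rfl⟩
    rw [hbot, mem_bot] at hmem
    have := congrArg e hmem
    rw [e.apply_symm_apply, map_one] at this
    exact hw1 (congrArg Prod.fst this)
  · intro w hw
    rw [hmemW] at hw
    apply e.injective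
    rw [map_pow, map_one]
    ext
    · simpa using hw.1
    · simp [hw.2]
  · intro w hw
    rw [hmemW] at hw ⊢
    rw [happ]
    refine ⟨?_, hw.2⟩
    show (β (e w).1) ^ p = 1
    rw [← map_pow, hw.1, map_one]
  · intro w hw hw1 hmem
    rw [hmemW] at hw
    obtain ⟨k, hk⟩ := hmem
    have h1 := congrArg e hk
    simp only [] at h1
    rw [map_zpow, happ] at h1
    have h2 : (e w).1 ^ k = β (e w).1 := congrArg Prod.fst h1
    apply hirr (e w).1 hw.1
    · intro h
      apply hw1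
      apply e.injective
      rw [map_one]
      ext
      · exact h
      · exact hw.2
    · exact ⟨k, h2⟩

end transport

section explicit

/-- the automorphism `(x, y) ↦ (y⁻¹, x y⁻¹)` of order `3` -/
def betaTwo (M : Type*) [CommGroup M] : MulAut (M × M) where
  toFun w := (w.2⁻¹, w.1 * w.2⁻¹)
  invFun w := (w.1⁻¹ * w.2, w.1⁻¹)
  left_inv w := by
    ext
    · simp
    · simp
  right_inv w := by
    ext
    · simp
    · simp
  map_mul' a b := by
    ext
    · simp [mul_comm]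
    · simp only [Prod.snd_mul, Prod.fst_mul, mul_inv_rev]
      ac_rfl

theorem betaTwo_apply (M : Type*) [CommGroup M] (w : M × M) :
    betaTwo M w = (w.2⁻¹, w.1 * w.2⁻¹) := rfl

theorem betaTwo_pow_three (M : Type*) [CommGroup M] : betaTwo M ^ 3 = 1 := by
  ext w
  · simp [pow_succ, MulAut.mul_apply, betaTwo_apply]
  · simp [pow_succ, MulAut.mul_apply, betaTwo_apply]

theorem betaTwo_irr (M : Type*) [CommGroup M] (w : M × M) (hw2 : w ^ 2 = 1) (hw1 : w ≠ 1) :
    betaTwo M w ∉ zpowers w := by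
  rintro ⟨k, hk⟩
  replace hk : w ^ k = betaTwo M w := hk
  have hx : w.1 * w.1 = 1 := by
    have := congrArg Prod.fst hw2
    simpa [pow_two] using this
  have hy : w.2 * w.2 = 1 := by
    have := congrArg Prod.snd hw2
    simpa [pow_two] using this
  have hyinv : w.2⁻¹ = w.2 := inv_eq_of_mul_eq_one_left hy
  have hcases : w ^ k = 1 ∨ w ^ k = w := by
    rcases Int.even_or_odd k with ⟨j, rfl⟩ | ⟨j, rfl⟩
    · left
      rw [← two_mul, zpow_mul, zpow_ofNat, hw2, one_zpow]
    · right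
      rw [zpow_add, zpow_mul, zpow_ofNat, hw2, one_zpow, one_mul, zpow_one]
  rcases hcases with h | h
  · rw [h] at hk
    exact hw1 ((betaTwo M).injective (hk.symm.trans (map_one _).symm))
  · rw [h, betaTwo_apply, hyinv] at hk
    have h1 : w.1 = w.2 := congrArg Prod.fst hk
    have h2 : w.2 = w.1 * w.2 := congrArg Prod.snd hk
    have hx1 : w.1 = 1 := by
      have : 1 * w.2 = w.1 * w.2 := by rw [one_mul]; exact h2
      exact (mul_right_cancel this).symm
    apply hw1
    ext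
    · exact hx1
    · rw [← h1, hx1]; rfl

/-- the automorphism `(x, y) ↦ (μ y, x)` -/
def betaOdd (M : Type*) [CommGroup M] (μ : MulAut M) : MulAut (M × M) where
  toFun w := (μ w.2, w.1)
  invFun w := (w.2, μ⁻¹ w.1)
  left_inv w := by
    ext
    · simp
    · simp
  right_inv w := by
    ext
    · simp
    · simp
  map_mul' a b := by
    ext
    · simp
    · simp

theorem betaOdd_apply (M : Type*) [CommGroup M] (μ : MulAut M) (w : M × M) :
    betaOdd M μ w = (μ w.2, w.1) := rfl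

theorem betaOdd_pow (M : Type*) [CommGroup M] (μ : MulAut M) (k : ℕ) (w : M × M) :
    (betaOdd M μ ^ (2 * k)) w = ((μ ^ k) w.1, (μ ^ k) w.2) := by
  induction k generalizing w with
  | zero => simp
  | succ k ih =>
    rw [Nat.mul_succ, pow_add, MulAut.mul_apply, pow_two, MulAut.mul_apply, betaOdd_apply,
      betaOdd_apply, ih, pow_succ, MulAut.mul_apply, MulAut.mul_apply]

theorem betaOdd_irr (M : Type*) [CommGroup M] (μ : MulAut M) (p : ℕ)
    (hμ : ∀ y : M, y ^ p = 1 → y ≠ 1 → ∀ k : ℤ, μ y ≠ y ^ (k * k))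
    (w : M × M) (hwp : w ^ p = 1) (hw1 : w ≠ 1) : betaOdd M μ w ∉ zpowers w := by
  rintro ⟨k, hk⟩
  replace hk : w ^ k = betaOdd M μ w := hk
  rw [betaOdd_apply] at hk
  have h1 : w.1 ^ k = μ w.2 := congrArg Prod.fst hk
  have h2 : w.2 ^ k = w.1 := congrArg Prod.snd hk
  have hy : w.2 ^ p = 1 := congrArg Prod.snd hwp
  by_cases hy1 : w.2 = 1
  · apply hw1
    ext
    · rw [← h2, hy1, one_zpow]; rfl
    · exact hy1
  · apply hμ w.2 hy hy1 k
    rw [← h1, ← h2, ← zpow_mul]

theorem exists_order_p (p n : ℕ) [hp : Fact p.Prime] (hn : 0 < n) :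
    ∃ w : Multiplicative (ZMod (p ^ n)) × Multiplicative (ZMod (p ^ n)), w ^ p = 1 ∧ w ≠ 1 := by
  refine ⟨(Multiplicative.ofAdd ((p ^ (n - 1) : ℕ) : ZMod (p ^ n)), 1), ?_, ?_⟩
  · ext
    · show Multiplicative.ofAdd ((p ^ (n - 1) : ℕ) : ZMod (p ^ n)) ^ p = 1
      rw [← ofAdd_nsmul, nsmul_eq_mul, ← Nat.cast_mul, ← pow_succ', Nat.sub_add_cancel hn,
        ZMod.natCast_self]
      rfl
    · simp
  · intro h
    have h1 : ((p ^ (n - 1) : ℕ) : ZMod (p ^ n)) = 0 := congrArg Prod.fst h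
    rw [ZMod.natCast_eq_zero_iff] at h1
    have h2 := Nat.le_of_dvd (pow_pos hp.out.pos _) h1
    have h3 : p ^ (n - 1) < p ^ n := Nat.pow_lt_pow_right hp.out.one_lt (by omega)
    omega

/-- an automorphism of `ℤ/pⁿ` of order dividing `p - 1` which is multiplication by a non-square
modulo `p` -/
theorem exists_mu (p n : ℕ) [hp : Fact p.Prime] (hp2 : p ≠ 2) (hn : 0 < n) :
    ∃ μ : MulAut (Multiplicative (ZMod (p ^ n))), μ ^ (p - 1) = 1 ∧
      ∀ y : Multiplicative (ZMod (p ^ n)), y ^ p = 1 → y ≠ 1 → ∀ k : ℤ, μ y ≠ y ^ (k * k) := by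
  have hchar : ringChar (ZMod p) ≠ 2 := by
    rw [ZMod.ringChar_zmod_n]; exact hp2
  obtain ⟨ν, hν⟩ := FiniteField.exists_nonsquare (F := ZMod p) hchar
  have hν0 : ν ≠ 0 := by
    rintro rfl
    exact hν ⟨0, by simp⟩
  have hcop : (ν.val).Coprime (p ^ n) := by
    apply Nat.Coprime.pow_right
    rw [Nat.coprime_comm, Nat.Prime.coprime_iff_not_dvd hp.out]
    intro hdvd
    apply hν0
    rw [← ZMod.natCast_zmod_val ν, ZMod.natCast_eq_zero_iff]
    exact hdvd
  obtain ⟨u, hu⟩ : ∃ u : (ZMod (p ^ n))ˣ, u = ZMod.unitOfCoprime ν.val hcop := ⟨_, rfl⟩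
  obtain ⟨c, hc⟩ : ∃ c : (ZMod (p ^ n))ˣ, c = u ^ (p ^ (n - 1)) := ⟨_, rfl⟩
  have hcpow : c ^ (p - 1) = 1 := by
    rw [hc, ← pow_mul]
    have := ZMod.pow_totient u
    rwa [Nat.totient_prime_pow hp.out hn] at this
  let μhom : (ZMod (p ^ n))ˣ →* MulAut (Multiplicative (ZMod (p ^ n))) :=
    (MulAutMultiplicative (ZMod (p ^ n))).symm.toMonoidHom.comp AddAut.mulLeft
  have hμapp : ∀ (v : (ZMod (p ^ n))ˣ) (y : Multiplicative (ZMod (p ^ n))),
      μhom v y = Multiplicative.ofAdd ((v : ZMod (p ^ n)) * Multiplicative.toAdd y) :=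
    fun v y => rfl
  refine ⟨μhom c, ?_, ?_⟩
  · rw [← map_pow, hcpow, map_one]
  · intro y hyp hy1 k hk
    rw [hμapp] at hk
    obtain ⟨a, ha⟩ : ∃ a : ZMod (p ^ n), a = Multiplicative.toAdd y := ⟨_, rfl⟩
    have hya : y = Multiplicative.ofAdd a := by rw [ha]; rfl
    rw [← ha, hya, ← ofAdd_zsmul, zsmul_eq_mul] at hk
    have hk' : (c : ZMod (p ^ n)) * a = ((k * k : ℤ) : ZMod (p ^ n)) * a :=
      Multiplicative.ofAdd.injective hk
    have ha0 : a ≠ 0 := by
      intro h0
      apply hy1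
      rw [hya, h0]
      rfl
    obtain ⟨z, hz⟩ : ∃ z : ZMod (p ^ n), z = (c : ZMod (p ^ n)) - ((k * k : ℤ) : ZMod (p ^ n)) :=
      ⟨_, rfl⟩
    have hza : z * a = 0 := by rw [hz, sub_mul, hk', sub_self]
    have hnu : ¬ IsUnit z := by
      intro hu'
      exact ha0 ((hu'.mul_right_eq_zero).mp hza)
    haveI : NeZero (p ^ n) := ⟨(pow_pos hp.out.pos n).ne'⟩
    let π := ZMod.castHom (dvd_pow_self p hn.ne') (ZMod p)
    have hπz : π z = 0 := by
      have h1 : z = ((z.val : ℕ) : ZMod (p ^ n)) := (ZMod.natCast_zmod_val z).symm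
      have h2 : ¬ (z.val).Coprime (p ^ n) := by
        intro hco
        apply hnu
        rw [h1]
        exact (ZMod.isUnit_iff_coprime _ _).mpr hco
      have h3 : p ∣ z.val := by
        by_contra hnd
        apply h2
        apply Nat.Coprime.pow_right
        rw [Nat.coprime_comm, Nat.Prime.coprime_iff_not_dvd hp.out]
        exact hnd
      rw [h1, map_natCast, ZMod.natCast_eq_zero_iff]
      exact h3
    have hπc : π (c : ZMod (p ^ n)) = ν := by
      rw [hc, Units.val_pow_eq_pow_val, map_pow, hu, ZMod.coe_unitOfCoprime, map_natCast,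
        ZMod.natCast_zmod_val, ZMod.pow_card_pow]
    apply hν
    rw [hz, map_sub, hπc, map_intCast, sub_eq_zero] at hπz
    refine ⟨((k : ℤ) : ZMod p), ?_⟩
    rw [hπz]
    push_cast
    ring

end explicit

section final

variable {Ω : Type*} [Group Ω] {S : Subgroup Ω} [Finite S]

theorem exists_bad_system_of_square (p : ℕ) [hp : Fact p.Prime]
    (hab : ∀ x ∈ S, ∀ y ∈ S, x * y = y * x) (n : ℕ) (hn : 0 < n) (H : Type) [CommGroup H]
    (e : S ≃* (Multiplicative (ZMod (p ^ n)) × Multiplicative (ZMod (p ^ n))) × H) :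
    ∃ F : FusionSystem S, F.IsSaturated p ∧
      ¬ ∃ (m : ℕ) (c : Fin (m + 1) → Subgroup Ω), c 0 = ⊥ ∧ c (Fin.last m) = S ∧
        (∀ i : Fin (m + 1), F.StronglyClosed (c i)) ∧
        ∀ i : Fin m, c i.castSucc ≤ c i.succ ∧ ∃ x ∈ S, c i.succ = c i.castSucc ⊔ zpowers x := by
  by_cases hp2 : p = 2
  · subst hp2
    exact exists_bad_system 2 hab e (betaTwo _) 3 (by norm_num) (by norm_num)
      (betaTwo_pow_three _) (exists_order_p 2 n hn) (fun w hw hw1 => betaTwo_irr _ w hw hw1)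
  · obtain ⟨μ, hμ1, hμ2⟩ := exists_mu p n hp2 hn
    have hodd : Odd p := hp.out.odd_of_ne_two hp2
    have hN : (2 * (p - 1)).Coprime p := by
      apply Nat.Coprime.mul_left
      · rw [Nat.coprime_comm, Nat.Prime.coprime_iff_not_dvd hp.out]
        intro h
        exact hp2 ((Nat.prime_dvd_prime_iff_eq hp.out Nat.prime_two).mp h)
      · rw [Nat.coprime_comm, Nat.Prime.coprime_iff_not_dvd hp.out]
        intro h
        have := Nat.le_of_dvd (by have := hp.out.two_le; omega) h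
        have := hp.out.two_le
        omega
    refine exists_bad_system p hab e (betaOdd _ μ) (2 * (p - 1))
      (by have := hp.out.two_le; omega) hN ?_ (exists_order_p p n hn)
      (fun w hw hw1 => betaOdd_irr _ μ p hμ2 w hw hw1)
    ext w
    · rw [betaOdd_pow, hμ1]; rfl
    · rw [betaOdd_pow, hμ1]; rfl

end final

end Cfsg.Agent.Helper26
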