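import Mathlib
import Cfsg.Agent.Helper29.SylMaxDefs
set_option autoImplicit false
set_option linter.unusedSectionVars false

/-!
# S2245, piece J4C: in a 2-transitive group of degree `n ≥ 9` (or `n = 5`) some translate of a
4-set `Γ` meets `Γ` in 1 or 3 points (double counting).
-/

namespace Cfsg.Agent.Helper26.SylMax
open MulAction Equiv Cfsg.Agent.Helper29.SylMax
open scoped Pointwise
universe u v
variable {𝔾 : Type u} [Group 𝔾] {α : Type v} [Fintype α] [DecidableEq α] [MulAction 𝔾 α]

/-- in a transitive action the number of `g` with `g • a = b` times the degree is `|G|`. -/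
lemma j4c_card_smul_eq {G : Type*} [Group G] [Fintype G] {X : Type*} [Fintype X]
    [DecidableEq X] [MulAction G X] [IsPretransitive G X] (a b : X) :
    (Finset.univ.filter (fun g : G => g • a = b)).card * Fintype.card X = Fintype.card G := by
  classical
  obtain ⟨g₀, rfl⟩ := exists_smul_eq G a b
  have h1 : (Finset.univ.filter (fun g : G => g • a = g₀ • a)).card
      = Nat.card (stabilizer G a) := by
    rw [← Fintype.card_subtype, ← Nat.card_eq_fintype_card]
    apply Nat.card_congr
    exact
      { toFun := fun g => ⟨g₀⁻¹ * g.1, by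
          rw [mem_stabilizer_iff, mul_smul, g.2, inv_smul_smul]⟩
        invFun := fun h => ⟨g₀ * h.1, by rw [mul_smul, h.2]⟩
        left_inv := fun g => by simp
        right_inv := fun h => by simp }
  rw [h1, ← Nat.card_eq_fintype_card, ← Nat.card_eq_fintype_card,
    ← index_stabilizer_of_transitive G a, Subgroup.card_mul_index]


/-- the same for pairs of distinct points in a 2-transitive action. -/
lemma j4c_card_pair_eq {G : Type*} [Group G] [Fintype G] [MulAction G α]
    (h2 : IsMultiplyPretransitive G α 2) (x x' y y' : α) (hx : x ≠ x') (hy : y ≠ y') :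
    (Finset.univ.filter (fun g : G => g • x = y ∧ g • x' = y')).card
      * (Fintype.card α * (Fintype.card α - 1)) = Fintype.card G := by
  classical
  let e : Fin 2 ↪ α := ⟨![x, x'], by
    intro i j h; fin_cases i <;> fin_cases j <;> simp_all⟩
  let e' : Fin 2 ↪ α := ⟨![y, y'], by
    intro i j h; fin_cases i <;> fin_cases j <;> simp_all⟩
  have : IsPretransitive G (Fin 2 ↪ α) := h2
  have key := j4c_card_smul_eq (G := G) e e'
  rw [Fintype.card_embedding_eq, Fintype.card_fin] at key
  have hd : (Fintype.card α).descFactorial 2 = Fintype.card α * (Fintype.card α - 1) := by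
    simp [Nat.descFactorial, mul_comm]
  rw [hd] at key
  rw [← key]
  congr 2
  ext g
  simp only [Finset.mem_filter, Finset.mem_univ, true_and]
  rw [Function.Embedding.ext_iff, Fin.forall_fin_two]
  simp only [Function.Embedding.smul_apply]
  exact Iff.rfl

/-- number of points of `Γ` mapped into `Γ`. -/
def j4cI {G : Type*} [Group G] [MulAction G α] (Γ : Finset α) (g : G) : ℕ :=
  (Γ.filter (fun x => g • x ∈ Γ)).card

lemma j4c_inter_card {G : Type*} [Group G] [MulAction G α] (Γ : Finset α) (g : G) :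
    (Γ ∩ Γ.image (fun x => g • x)).card = j4cI Γ g := by
  unfold j4cI
  rw [← Finset.card_image_of_injective (Γ.filter (fun x => g • x ∈ Γ)) (MulAction.injective g)]
  congr 1
  ext y
  simp only [Finset.mem_inter, Finset.mem_image, Finset.mem_filter]
  constructor
  · rintro ⟨hy, x, hx, rfl⟩
    exact ⟨x, ⟨hx, hy⟩, rfl⟩
  · rintro ⟨x, ⟨hx, hy⟩, rfl⟩
    exact ⟨hy, x, hx, rfl⟩

lemma j4c_sum1 {G : Type*} [Group G] [Fintype G] [MulAction G α] [IsPretransitive G α]
    (Γ : Finset α) :
    (∑ g : G, j4cI Γ g) * Fintype.card α = Γ.card * Γ.card * Fintype.card G := by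
  have h : ∀ g : G, j4cI Γ g = ∑ x ∈ Γ, ∑ y ∈ Γ, if g • x = y then 1 else 0 := by
    intro g
    unfold j4cI
    rw [Finset.card_filter]
    apply Finset.sum_congr rfl
    intro x _
    rw [Finset.sum_ite_eq]
  simp_rw [h]
  rw [Finset.sum_comm, Finset.sum_mul]
  have h' : ∀ x ∈ Γ, (∑ g : G, ∑ y ∈ Γ, if g • x = y then 1 else 0) * Fintype.card α
      = Γ.card * Fintype.card G := by
    intro x _
    rw [Finset.sum_comm, Finset.sum_mul]
    have h'' : ∀ y ∈ Γ, (∑ g : G, if g • x = y then 1 else 0) * Fintype.card α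
        = Fintype.card G := by
      intro y _
      rw [← Finset.card_filter]
      exact j4c_card_smul_eq x y
    rw [Finset.sum_congr rfl h'', Finset.sum_const, smul_eq_mul]
  rw [Finset.sum_congr rfl h', Finset.sum_const, smul_eq_mul, mul_assoc]

lemma j4c_sum2 {G : Type*} [Group G] [Fintype G] [MulAction G α]
    (h2 : IsMultiplyPretransitive G α 2) (Γ : Finset α) :
    (∑ g : G, j4cI Γ g * (j4cI Γ g - 1)) * (Fintype.card α * (Fintype.card α - 1))
      = Γ.offDiag.card * Γ.offDiag.card * Fintype.card G := by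
  have h : ∀ g : G, j4cI Γ g * (j4cI Γ g - 1)
      = ∑ q ∈ Γ.offDiag, ∑ q' ∈ Γ.offDiag,
          if (g • q.1 = q'.1 ∧ g • q.2 = q'.2) then 1 else 0 := by
    intro g
    unfold j4cI
    rw [Nat.mul_sub_one, ← Finset.offDiag_card]
    have e1 : (Γ.filter (fun x => g • x ∈ Γ)).offDiag
        = Γ.offDiag.filter (fun q => g • q.1 ∈ Γ ∧ g • q.2 ∈ Γ) := by
      ext q
      simp only [Finset.mem_offDiag, Finset.mem_filter]
      tauto
    rw [e1, Finset.card_filter]
    apply Finset.sum_congr rfl
    intro q hq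
    rw [Finset.mem_offDiag] at hq
    have e2 : ∀ q' : α × α, (g • q.1 = q'.1 ∧ g • q.2 = q'.2) ↔ (g • q.1, g • q.2) = q' := by
      intro q'
      rw [Prod.ext_iff]
    simp_rw [e2]
    rw [Finset.sum_ite_eq]
    congr 1
    simp only [Finset.mem_offDiag, ne_eq, eq_iff_iff]
    constructor
    · rintro ⟨a, b⟩
      exact ⟨a, b, fun h => hq.2.2 (MulAction.injective g h)⟩
    · rintro ⟨a, b, _⟩
      exact ⟨a, b⟩
  simp_rw [h]
  rw [Finset.sum_comm, Finset.sum_mul]
  have h' : ∀ q ∈ Γ.offDiag, (∑ g : G, ∑ q' ∈ Γ.offDiag,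
      if (g • q.1 = q'.1 ∧ g • q.2 = q'.2) then 1 else 0)
        * (Fintype.card α * (Fintype.card α - 1)) = Γ.offDiag.card * Fintype.card G := by
    intro q hq
    rw [Finset.mem_offDiag] at hq
    rw [Finset.sum_comm, Finset.sum_mul]
    have h'' : ∀ q' ∈ Γ.offDiag, (∑ g : G, if (g • q.1 = q'.1 ∧ g • q.2 = q'.2) then 1 else 0)
        * (Fintype.card α * (Fintype.card α - 1)) = Fintype.card G := by
      intro q' hq'
      rw [Finset.mem_offDiag] at hq'
      rw [← Finset.card_filter]
      exact j4c_card_pair_eq h2 q.1 q.2 q'.1 q'.2 hq.2.2 hq'.2.2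
    rw [Finset.sum_congr rfl h'', Finset.sum_const, smul_eq_mul]
  rw [Finset.sum_congr rfl h', Finset.sum_const, smul_eq_mul, mul_assoc]


theorem exists_inter_card {G : Type*} [Group G] [Finite G] [MulAction G α]
    (h2 : IsMultiplyPretransitive G α 2) (hα : 9 ≤ Nat.card α ∨ Nat.card α = 5)
    (Γ : Finset α) (hΓ : Γ.card = 4) :
    ∃ g : G, (Γ ∩ Γ.image (fun x => g • x)).card = 1 ∨
      (Γ ∩ Γ.image (fun x => g • x)).card = 3 := by
  classical
  have := Fintype.ofFinite G
  have htr : IsPretransitive G α := isPretransitive_of_is_two_pretransitive (h2 := h2)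
  rw [Nat.card_eq_fintype_card] at hα
  by_contra hcon
  push Not at hcon
  have hle : ∀ g : G, j4cI Γ g ≤ 4 := by
    intro g
    rw [← hΓ]
    exact Finset.card_filter_le _ _
  have hI : ∀ g : G, j4cI Γ g = 0 ∨ j4cI Γ g = 2 ∨ j4cI Γ g = 4 := by
    intro g
    have h1 := hcon g
    rw [j4c_inter_card] at h1
    have h3 := hle g
    omega
  obtain ⟨γ, hγ⟩ : Γ.Nonempty := by
    rw [← Finset.card_pos, hΓ]; norm_num
  have himg : ∀ g : G, (Γ.image (fun x => g • x)).card = 4 := by
    intro g
    rw [Finset.card_image_of_injective _ (MulAction.injective g), hΓ]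
  rcases hα with h9 | h5
  · -- the main case `n ≥ 9`
    have S1 := j4c_sum1 (G := G) Γ
    have S2 := j4c_sum2 (G := G) h2 Γ
    rw [hΓ] at S1
    rw [Finset.offDiag_card, hΓ] at S2
    obtain ⟨N0, hN0⟩ : ∃ N0, N0 = (Finset.univ.filter (fun g : G => j4cI Γ g = 0)).card :=
      ⟨_, rfl⟩
    obtain ⟨N2, hN2⟩ : ∃ N2, N2 = (Finset.univ.filter (fun g : G => j4cI Γ g = 2)).card :=
      ⟨_, rfl⟩
    obtain ⟨N4, hN4⟩ : ∃ N4, N4 = (Finset.univ.filter (fun g : G => j4cI Γ g = 4)).card :=
      ⟨_, rfl⟩
    have key : ∀ (a b c : ℕ) (F : G → ℕ),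
        (∀ g, F g = a * (if j4cI Γ g = 0 then 1 else 0) + b * (if j4cI Γ g = 2 then 1 else 0)
          + c * (if j4cI Γ g = 4 then 1 else 0)) →
        ∑ g : G, F g = a * N0 + b * N2 + c * N4 := by
      intro a b c F hF
      rw [Finset.sum_congr rfl (fun g _ => hF g), Finset.sum_add_distrib,
        Finset.sum_add_distrib, ← Finset.mul_sum, ← Finset.mul_sum, ← Finset.mul_sum,
        ← Finset.card_filter, ← Finset.card_filter, ← Finset.card_filter, hN0, hN2, hN4]
    have hG : Fintype.card G = N0 + N2 + N4 := by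
      have := key 1 1 1 (fun _ => 1) (by
        intro g
        rcases hI g with h | h | h <;> simp [h])
      simpa using this
    have hS1 : ∑ g : G, j4cI Γ g = 2 * N2 + 4 * N4 := by
      have := key 0 2 4 (fun g => j4cI Γ g) (by
        intro g
        rcases hI g with h | h | h <;> simp [h])
      simpa using this
    have hS2 : ∑ g : G, j4cI Γ g * (j4cI Γ g - 1) = 2 * N2 + 12 * N4 := by
      have := key 0 2 12 (fun g => j4cI Γ g * (j4cI Γ g - 1)) (by
        intro g
        rcases hI g with h | h | h <;> simp [h])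
      simpa using this
    have hN4pos : 1 ≤ N4 := by
      rw [hN4, Nat.succ_le_iff, Finset.card_pos]
      refine ⟨1, ?_⟩
      rw [Finset.mem_filter]
      refine ⟨Finset.mem_univ _, ?_⟩
      unfold j4cI
      rw [Finset.filter_true_of_mem (fun x hx => by rwa [one_smul]), hΓ]
    rw [hS1, hG] at S1
    rw [hS2, hG] at S2
    obtain ⟨m, hm⟩ : ∃ m, Fintype.card α = m + 1 := ⟨Fintype.card α - 1, by omega⟩
    rw [hm] at S1 S2
    rw [Nat.add_sub_cancel] at S2
    have e : 9 * (2 * N2 + 4 * N4) = (2 * N2 + 12 * N4) * m := by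
      apply Nat.eq_of_mul_eq_mul_right (Nat.succ_pos m)
      calc 9 * (2 * N2 + 4 * N4) * (m + 1) = 9 * ((2 * N2 + 4 * N4) * (m + 1)) := by ring
        _ = 9 * (4 * 4 * (N0 + N2 + N4)) := by rw [S1]
        _ = (4 * 4 - 4) * (4 * 4 - 4) * (N0 + N2 + N4) := by norm_num; ring
        _ = (2 * N2 + 12 * N4) * ((m + 1) * m) := S2.symm
        _ = (2 * N2 + 12 * N4) * m * (m + 1) := by ring
    have hm8 : m = 8 := by
      by_contra hne
      have hm9 : 9 ≤ m := by omega
      have := Nat.mul_le_mul_left (2 * N2 + 12 * N4) hm9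
      rw [← e] at this
      omega
    subst hm8
    have hN0pos : 1 ≤ N0 := by omega
    -- a translate disjoint from Γ
    obtain ⟨g₀, hg₀⟩ : ∃ g₀ : G, j4cI Γ g₀ = 0 := by
      rw [hN0, Nat.succ_le_iff, Finset.card_pos] at hN0pos
      obtain ⟨g₀, hg₀⟩ := hN0pos
      exact ⟨g₀, by simpa using hg₀⟩
    obtain ⟨B, hBdef⟩ : ∃ B, B = Γ.image (fun x => g₀ • x) := ⟨_, rfl⟩
    have hAB : Disjoint Γ B := by
      rw [Finset.disjoint_iff_inter_eq_empty, ← Finset.card_eq_zero, hBdef, j4c_inter_card, hg₀]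
    have hB : B.card = 4 := by rw [hBdef]; exact himg g₀
    have hU : (Γ ∪ B).card = 8 := by rw [Finset.card_union_of_disjoint hAB, hΓ, hB]
    have hcompl : (Γ ∪ B)ᶜ.card = 1 := by rw [Finset.card_compl, hU, hm]
    obtain ⟨w, hw⟩ := Finset.card_eq_one.mp hcompl
    have hwU : w ∉ Γ ∪ B := by
      rw [← Finset.mem_compl, hw]; exact Finset.mem_singleton_self w
    obtain ⟨h, hh⟩ := exists_smul_eq G γ w
    obtain ⟨C, hCdef⟩ : ∃ C, C = Γ.image (fun x => h • x) := ⟨_, rfl⟩
    have hC : C.card = 4 := by rw [hCdef]; exact himg h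
    have hwC : w ∈ C := by
      rw [hCdef, Finset.mem_image]; exact ⟨γ, hγ, hh⟩
    have hsd : C \ (Γ ∪ B) = {w} := by
      ext z
      simp only [Finset.mem_sdiff, Finset.mem_singleton]
      constructor
      · rintro ⟨_, hz⟩
        rw [← Finset.mem_compl, hw, Finset.mem_singleton] at hz
        exact hz
      · rintro rfl
        exact ⟨hwC, hwU⟩
    have hsplit := Finset.card_inter_add_card_sdiff C (Γ ∪ B)
    rw [hsd, Finset.card_singleton, hC, Finset.inter_union_distrib_left,
      Finset.card_union_of_disjoint (Finset.disjoint_of_subset_left Finset.inter_subset_right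
        (Finset.disjoint_of_subset_right Finset.inter_subset_right hAB))] at hsplit
    have h1 : (C ∩ Γ).card = j4cI Γ h := by
      rw [Finset.inter_comm, hCdef, j4c_inter_card]
    have hBC : C ∩ B
        = (Γ ∩ Γ.image (fun x => (g₀⁻¹ * h) • x)).image (fun x => g₀ • x) := by
      rw [Finset.image_inter _ _ (MulAction.injective g₀), Finset.image_image, ← hBdef,
        Finset.inter_comm, hCdef]
      congr 1
      apply Finset.image_congr
      intro x _
      simp [mul_smul]
    have h3 : (C ∩ B).card = j4cI Γ (g₀⁻¹ * h) := by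
      rw [hBC, Finset.card_image_of_injective _ (MulAction.injective g₀), j4c_inter_card]
    rw [h1, h3] at hsplit
    rcases hI h with a | a | a <;> rcases hI (g₀⁻¹ * h) with b | b | b <;> omega
  · -- `n = 5`
    obtain ⟨w, hw⟩ : ∃ w, w ∉ Γ := by
      by_contra hall
      push Not at hall
      have : Γ = Finset.univ := Finset.eq_univ_iff_forall.mpr hall
      rw [this, Finset.card_univ, h5] at hΓ
      omega
    obtain ⟨h, hh⟩ := exists_smul_eq G γ w
    have h1 := hcon h
    have hwC : w ∈ Γ.image (fun x => h • x) := by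
      rw [Finset.mem_image]; exact ⟨γ, hγ, hh⟩
    have hu := Finset.card_union_add_card_inter Γ (Γ.image (fun x => h • x))
    rw [hΓ, himg h] at hu
    have hu5 : (Γ ∪ Γ.image (fun x => h • x)).card ≤ 5 := by
      rw [← h5]; exact Finset.card_le_univ _
    have hne4 : (Γ ∩ Γ.image (fun x => h • x)).card ≠ 4 := by
      intro h4
      have : Γ ∩ Γ.image (fun x => h • x) = Γ.image (fun x => h • x) :=
        Finset.eq_of_subset_of_card_le Finset.inter_subset_right (by rw [h4, himg h])
      rw [← this] at hwC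
      exact hw (Finset.mem_inter.mp hwC).1
    have hle4 : (Γ ∩ Γ.image (fun x => h • x)).card ≤ 4 := by
      rw [← hΓ]; exact Finset.card_le_card Finset.inter_subset_left
    omega

end Cfsg.Agent.Helper26.SylMax
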