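import Mathlib
import Cfsg.Agent.Helper26.StableNormal
import Cfsg.Agent.Helper26.StableNPC
import Cfsg.Agent.Helper18.QuadPS5
import Cfsg.Agent.Helper23.HallHigman
import Cfsg.Agent.Helper10.SolvPSolv

set_option autoImplicit false
set_option linter.style.haveILetI false
set_option linter.unusedSectionVars false
set_option linter.unusedVariables false

/-! # Thompson factorization `G = N_G(J(S)) C_G(V)` for a `p`-stable action on
`V = ⟨Z^G⟩`, `Z` central in `S` -/

namespace Cfsg.Agent.Helper26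

open Subgroup
open scoped commutatorElement

universe u

section main

variable {G : Type u} [Group G] [Finite G] {p : ℕ} [hp : Fact p.Prime]

/-- Thompson factorization: `Z` a set of elements central in the Sylow `p`-subgroup `S`,
`B = ⟨Z^G⟩` elementary abelian inside `S` with `G` acting `p`-stably on it. Then
`G = N_G(J(S)) C_G(B)`. -/
theorem thompson_factorization_aux (S : Sylow p G) (Z : Set G)
    (hZS : ∀ z ∈ Z, ∀ y ∈ (S : Subgroup G), z * y = y * z)
    (B : Subgroup G) [hBn : B.Normal] (hB : B = normalClosure Z)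
    (hBel : Cfsg.IsElementaryAbelian p B) (hBS : B ≤ S) (hstB : Cfsg.IsPStableOn p B) :
    normalizer (Cfsg.thompsonSubgroupOf p (S : Subgroup G) : Set G) ⊔
      centralizer (B : Set G) = ⊤ := by
  -- quadratic elements centralize `B`
  have hquadC : ∀ a : G, (∀ v ∈ B, ⁅⁅v, a⁆, a⁆ = 1) → a ∈ centralizer (B : Set G) := by
    intro a hqa
    obtain ⟨C, hC⟩ : ∃ C : Subgroup G, C = centralizer (B : Set G) := ⟨_, rfl⟩
    have hCn : C.Normal := by rw [hC]; infer_instance
    obtain ⟨D, hD⟩ : ∃ D : Subgroup G,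
        D = (Cfsg.pCore p (G ⧸ centralizer (B : Set G))).comap
          (QuotientGroup.mk' (centralizer (B : Set G))) := ⟨_, rfl⟩
    have hDn : D.Normal := by rw [hD]; infer_instance
    have hCD : C ≤ D := by
      intro c hc'
      rw [hD, mem_comap]
      have : QuotientGroup.mk' (centralizer (B : Set G)) c = 1 :=
        (QuotientGroup.eq_one_iff c).mpr (hC ▸ hc')
      rw [this]
      exact one_mem _
    have hDpow : ∀ d ∈ D, ∃ k : ℕ, d ^ (p ^ k) ∈ C := by
      intro d hd
      rw [hD, mem_comap] at hd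
      obtain ⟨k, hk⟩ := (Cfsg.Agent.Helper14.pCore_isPGroup
        (G := G ⧸ centralizer (B : Set G)) p) ⟨_, hd⟩
      refine ⟨k, ?_⟩
      have h2 := congrArg Subtype.val hk
      simp only [SubmonoidClass.coe_pow, OneMemClass.coe_one] at h2
      rw [← map_pow] at h2
      rw [hC]
      exact (QuotientGroup.eq_one_iff _).mp h2
    have haD : a ∈ D := by
      rw [hD, mem_comap]
      exact hstB a (quad_of_elementwise B a hqa)
    suffices h : ∀ g : G, ∀ w ∈ Z, a * (g * w * g⁻¹) = (g * w * g⁻¹) * a by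
      have hle : normalClosure Z ≤ centralizer ({a} : Set G) := by
        unfold normalClosure
        rw [closure_le]
        intro y hy
        rw [Group.mem_conjugatesOfSet_iff] at hy
        obtain ⟨w, hw, hwy⟩ := hy
        rw [isConj_iff] at hwy
        obtain ⟨g, rfl⟩ := hwy
        rw [SetLike.mem_coe, mem_centralizer_iff]
        intro z hz
        rw [Set.mem_singleton_iff] at hz
        rw [hz]
        exact h g w hw
      rw [mem_centralizer_iff]
      intro y hy
      rw [hB] at hy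
      exact ((mem_centralizer_iff.mp (hle hy)) a rfl).symm
    intro g w hw
    have hyD : g⁻¹ * a * g ∈ D := by
      have := hDn.conj_mem _ haD g⁻¹
      simpa using this
    have hmem := le_sup_sylow_inf S D C hCD hDpow hyD
    rw [← SetLike.mem_coe, normal_mul] at hmem
    obtain ⟨c, hc', t, ht, hy⟩ := hmem
    have hy' : c * t = g⁻¹ * a * g := hy
    have hc'' : c ∈ centralizer (B : Set G) := hC ▸ hc'
    have htw : t * w = w * t := (hZS w hw t ht.1).symm
    have hwB : w ∈ B := hB ▸ subset_normalClosure hw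
    have hcw : c * w = w * c := (mem_centralizer_iff.mp hc'' w hwB).symm
    calc a * (g * w * g⁻¹) = g * ((g⁻¹ * a * g) * w) * g⁻¹ := by group
      _ = g * (c * t * w) * g⁻¹ := by rw [← hy']
      _ = g * (w * (c * t)) * g⁻¹ := by
          have : c * t * w = w * (c * t) := by
            rw [mul_assoc c, htw, ← mul_assoc c, hcw, mul_assoc]
          rw [this]
      _ = g * (w * (g⁻¹ * a * g)) * g⁻¹ := by rw [hy']
      _ = g * w * g⁻¹ * a := by group
  -- the elementary abelian subgroups of largest order centralize `B`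
  have hAC : ∀ A ∈ famEl p (S : Subgroup G), A ≤ centralizer (B : Set G) := by
    intro A hA
    rw [← image_maxElementaryAbelian_eq] at hA
    obtain ⟨A₁, hA₁, rfl⟩ := hA
    have hVn : (B.subgroupOf (S : Subgroup G)).Normal := inferInstance
    have hVel : Cfsg.IsElementaryAbelian p (B.subgroupOf (S : Subgroup G)) :=
      isElementaryAbelian_subgroupOf _ hBel
    obtain ⟨h1, h2, h3⟩ := Cfsg.Agent.S0607.result (B.subgroupOf (S : Subgroup G)) hVel A₁ hA₁
    have hA₀C : ∀ a₀ ∈ ⁅B.subgroupOf (S : Subgroup G), A₁⁆ ⊔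
        (A₁ ⊓ centralizer ((⁅B.subgroupOf (S : Subgroup G), A₁⁆ : Subgroup ↥(S : Subgroup G)) :
          Set ↥(S : Subgroup G))),
        (a₀ : G) ∈ centralizer (B : Set G) := by
      intro a₀ ha₀
      apply hquadC
      intro v hv
      have h4 : ⁅⁅(⟨v, hBS hv⟩ : ↥(S : Subgroup G)), a₀⁆, a₀⁆ ∈
          ⁅⁅B.subgroupOf (S : Subgroup G), _⁆, _⁆ :=
        commutator_mem_commutator (commutator_mem_commutator (mem_subgroupOf.mpr hv) ha₀) ha₀
      rw [h2, mem_bot] at h4
      have h5 := congrArg (S : Subgroup G).subtype h4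
      rw [map_commutatorElement, map_commutatorElement, map_one] at h5
      exact h5
    have hVA₀ : ⁅B.subgroupOf (S : Subgroup G), ⁅B.subgroupOf (S : Subgroup G), A₁⁆ ⊔
        (A₁ ⊓ centralizer ((⁅B.subgroupOf (S : Subgroup G), A₁⁆ : Subgroup ↥(S : Subgroup G)) :
          Set ↥(S : Subgroup G)))⁆ = ⊥ := by
      rw [eq_bot_iff, commutator_le]
      intro v hv a₀ ha₀
      rw [mem_bot, commutatorElement_eq_one_iff_mul_comm]
      apply Subtype.ext
      exact mem_centralizer_iff.mp (hA₀C a₀ ha₀) v (mem_subgroupOf.mp hv)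
    have hVA : ⁅B.subgroupOf (S : Subgroup G), A₁⁆ = ⊥ := by
      by_contra hne
      exact h3 hne hVA₀
    rintro _ ⟨a, ha, rfl⟩
    rw [mem_centralizer_iff]
    intro v hv
    have h4 : ⁅(⟨v, hBS hv⟩ : ↥(S : Subgroup G)), a⁆ ∈ ⁅B.subgroupOf (S : Subgroup G), A₁⁆ :=
      commutator_mem_commutator (mem_subgroupOf.mpr hv) ha
    rw [hVA, mem_bot, commutatorElement_eq_one_iff_mul_comm] at h4
    exact congrArg Subtype.val h4
  -- `G = N_G(J(S)) C_G(B)`
  have hJe := Cfsg.Agent.Lead.TNC.thompsonSubgroupOf_eq_sSup p (S : Subgroup G)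
  have hJC : Cfsg.thompsonSubgroupOf p (S : Subgroup G) ≤ centralizer (B : Set G) := by
    rw [hJe]; exact sSup_le hAC
  have hCn : (centralizer (B : Set G)).Normal := inferInstance
  have hfr := normalizer_sylow_inf_sup_eq_top S (centralizer (B : Set G)) (centralizer (B : Set G))
    le_rfl (fun x hx => ⟨0, by simpa using hx⟩)
  have hJeq : Cfsg.thompsonSubgroupOf p ((S : Subgroup G) ⊓ centralizer (B : Set G)) =
      Cfsg.thompsonSubgroupOf p (S : Subgroup G) := by
    rw [Cfsg.Agent.Lead.TNC.thompsonSubgroupOf_eq_sSup, Cfsg.Agent.Lead.TNC.thompsonSubgroupOf_eq_sSup]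
    congr 1
    obtain ⟨A₀, hA₀⟩ := famEl_nonempty p (S : Subgroup G)
    apply Set.Subset.antisymm
    · exact (famEl_restrict hA₀ (le_inf hA₀.1 (hAC A₀ hA₀)) inf_le_left).2
    · intro A hA
      exact (famEl_restrict hA (le_inf hA.1 (hAC A hA)) inf_le_left).1
  rw [eq_top_iff, ← hfr]
  apply sup_le_sup_right
  rw [← hJeq]
  exact (Cfsg.Agent.Lead.TNC.jFunctor p).normalizer_le _

/-- **Thompson factorization** for solvable groups (`p` odd, abelian Sylow `2`-subgroups if
`p = 3`, `O_{p'}(G) = 1`), in the form `G = N_G(J(P)) C_G(⟨Ω₁(Z(P))^G⟩)`. -/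
theorem thompson_factorization_solvable (hp2 : p ≠ 2) (hs : Group.IsSolvable G)
    (h3 : p = 3 → ∀ T : Sylow 2 G, IsMulCommutative T)
    (hO : Cfsg.pPrimeCore p G = ⊥) (P : Sylow p G) (g : G) :
    ∃ a ∈ normalizer (Cfsg.thompsonSubgroupOf p (P : Subgroup G) : Set G),
      ∃ c ∈ centralizer {x : G | x ∈ (P : Subgroup G) ∧
        (∀ y ∈ (P : Subgroup G), x * y = y * x) ∧ x ^ p = 1}, g = a * c := by
  classical
  have hpsolv : Cfsg.IsPSolvable p G := Cfsg.Agent.Helper10.isPSolvable_of_isSolvable p hs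
  have hc := Cfsg.Agent.Helper23.centralizer_pCore_le_of_isPSolvable hpsolv hO
  have hQS : Cfsg.pCore p G ≤ P := Cfsg.Agent.Helper14.pCore_le_sylow p P
  have hQn : (Cfsg.pCore p G).Normal := inferInstance
  obtain ⟨Z, hZ⟩ : ∃ Z : Set G, Z = {x : G | x ∈ (P : Subgroup G) ∧
      (∀ y ∈ (P : Subgroup G), x * y = y * x) ∧ x ^ p = 1} := ⟨_, rfl⟩
  have hZ' : ∀ z ∈ Z, z ∈ (P : Subgroup G) ∧
      (∀ y ∈ (P : Subgroup G), z * y = y * z) ∧ z ^ p = 1 := by
    intro z hz
    rw [hZ] at hz
    exact hz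
  have hZQ : Z ⊆ (Cfsg.pCore p G : Set G) := by
    intro z hz
    apply hc
    rw [mem_centralizer_iff]
    intro q hq
    exact ((hZ' z hz).2.1 q (hQS hq)).symm
  have hgen_comm : ∀ a ∈ Group.conjugatesOfSet Z, ∀ b ∈ Group.conjugatesOfSet Z,
      a * b = b * a := by
    intro a ha b hb
    rw [Group.mem_conjugatesOfSet_iff] at ha hb
    obtain ⟨x, hx, hxa⟩ := ha
    obtain ⟨w, hw, hwb⟩ := hb
    rw [isConj_iff] at hxa hwb
    obtain ⟨g, rfl⟩ := hxa
    obtain ⟨h, rfl⟩ := hwb
    have h1 : (g⁻¹ * h) * w * (g⁻¹ * h)⁻¹ ∈ (P : Subgroup G) :=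
      hQS (hQn.conj_mem w (hZQ hw) _)
    have h2 := (hZ' x hx).2.1 _ h1
    calc g * x * g⁻¹ * (h * w * h⁻¹)
        = g * (x * ((g⁻¹ * h) * w * (g⁻¹ * h)⁻¹)) * g⁻¹ := by group
      _ = g * (((g⁻¹ * h) * w * (g⁻¹ * h)⁻¹) * x) * g⁻¹ := by rw [h2]
      _ = h * w * h⁻¹ * (g * x * g⁻¹) := by group
  have hgen_pow : ∀ a ∈ Group.conjugatesOfSet Z, a ^ p = 1 := by
    intro a ha
    rw [Group.mem_conjugatesOfSet_iff] at ha
    obtain ⟨x, hx, hxa⟩ := ha
    rw [isConj_iff] at hxa
    obtain ⟨g, rfl⟩ := hxa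
    rw [conj_pow, (hZ' x hx).2.2, mul_one, mul_inv_cancel]
  obtain ⟨B, hB⟩ : ∃ B : Subgroup G, B = normalClosure Z := ⟨_, rfl⟩
  have hBel : Cfsg.IsElementaryAbelian p B := by
    rw [hB]
    exact isElementaryAbelian_closure hgen_comm hgen_pow
  haveI hBn : B.Normal := by rw [hB]; exact normalClosure_normal
  have hBQ : B ≤ Cfsg.pCore p G := by rw [hB]; exact normalClosure_le_normal hZQ
  have hstB : Cfsg.IsPStableOn p B := by
    by_cases h3' : p = 3
    · have h2 : Ab2 G := by
        obtain T : Sylow 2 G := default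
        apply ab2_of_sylow T
        intro x hx y hy
        have := (h3 h3' T).is_comm.comm (⟨x, hx⟩ : T) ⟨y, hy⟩
        exact congrArg Subtype.val this
      exact isPStableOn_of_ab2' hp2 h2 B hBel
    · exact Cfsg.Agent.Helper18.QuadPS.isPStableOn_of_psolv hp2 h3' hpsolv B hBel
  have hfact := thompson_factorization_aux P Z (fun z hz => (hZ' z hz).2.1) B hB hBel
    (hBQ.trans hQS) hstB
  have hg : g ∈ normalizer (Cfsg.thompsonSubgroupOf p (P : Subgroup G) : Set G) ⊔
      centralizer (B : Set G) := by rw [hfact]; exact mem_top g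
  rw [← SetLike.mem_coe, mul_normal] at hg
  obtain ⟨a, ha, c, hc', rfl⟩ := hg
  refine ⟨a, ha, c, ?_, rfl⟩
  rw [mem_centralizer_iff]
  intro x hx
  have hxZ : x ∈ Z := by rw [hZ]; exact hx
  exact mem_centralizer_iff.mp hc' x (hB ▸ subset_normalClosure hxZ)

end main

end Cfsg.Agent.Helper26
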