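import Mathlib
import Cfsg.Agent.Helper26.NormAct
import Cfsg.Agent.Helper26.GJ2
import Cfsg.Agent.Helper7.PPrimeCore
import Cfsg.Agent.Helper7.PConstrained
import Cfsg.Agent.Helper7.FStar
import Cfsg.Agent.Helper7.SL23
import Cfsg.Agent.Helper14.PCore
import Cfsg.Agent.Helper10.SylowSub

set_option autoImplicit false
set_option linter.unusedSectionVars false
set_option linter.unusedVariables false

/-! # Weakly closed elements of a Sylow subgroup form a direct factor of its centre -/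

namespace Cfsg.Agent.Helper26.WCG

open Cfsg Subgroup Cfsg.Agent.Helper26.NormAct
open scoped IsMulCommutative

universe u

variable {G : Type u} [Group G] [Finite G] {p : ℕ} [Fact p.Prime]

/-- If `J ≤ S` is normalized by the Sylow subgroup `S` and contains `Z(S)`, then
`S ∩ C(N(J))` is a direct factor of `Z(S)`. -/
theorem direct_factor_general (S : Sylow p G) (J : Subgroup G) (hJS : J ≤ (S : Subgroup G))
    (hSNJ : (S : Subgroup G) ≤ normalizer (J : Set G))
    (hZJ : (S : Subgroup G) ⊓ centralizer ((S : Subgroup G) : Set G) ≤ J) :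
    ∃ K : Subgroup G, K ≤ (S : Subgroup G) ⊓ centralizer ((S : Subgroup G) : Set G) ∧
      ((S : Subgroup G) ⊓ centralizer ((normalizer (J : Set G) : Subgroup G) : Set G)) ⊓ K = ⊥ ∧
      ((S : Subgroup G) ⊓ centralizer ((normalizer (J : Set G) : Subgroup G) : Set G)) ⊔ K =
        (S : Subgroup G) ⊓ centralizer ((S : Subgroup G) : Set G) := by
  classical
  have hpp : p.Prime := Fact.out
  set N := normalizer (J : Set G) with hN
  let ρ : ↥N →* MulAut ↥(center ↥J) :=
    (MulAut.characteristic (center ↥J)).comp J.normalizerMonoidHom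
  have hρ : ∀ (a : ↥N) (y : ↥(center ↥J)),
      (((ρ a y : ↥(center ↥J)) : ↥J) : G) = (a : G) * ((y : ↥J) : G) * (a : G)⁻¹ :=
    fun a y => rfl
  set M : Subgroup ↥N := (S : Subgroup G).subgroupOf N with hM
  let _ : Fintype (↥N ⧸ M) := Fintype.ofFinite _
  have hMcop : (Fintype.card (↥N ⧸ M)).Coprime p := by
    have h1 : Fintype.card (↥N ⧸ M) = M.index := by
      rw [Subgroup.index_eq_card, Nat.card_eq_fintype_card]
    rw [h1]
    have h2 : M.index = (S : Subgroup G).relIndex N := rfl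
    have h3 : (S : Subgroup G).relIndex N * N.index = (S : Subgroup G).index :=
      Subgroup.relIndex_mul_index hSNJ
    rw [h2]
    apply ((Nat.Prime.coprime_iff_not_dvd hpp).mpr ?_).symm
    intro hd
    apply S.not_dvd_index
    rw [← h3]
    exact Dvd.dvd.mul_right hd _
  have hY : IsPGroup p ↥(center ↥J) := by
    apply S.2.of_injective ((Subgroup.inclusion hJS).comp (center ↥J).subtype)
    exact (Subgroup.inclusion_injective hJS).comp (center ↥J).subtype_injective
  have hY' : @IsPGroup p ↥(center ↥J) CommGroup.toGroup := hY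
  obtain ⟨K, hKM, hinf, hsup⟩ := exists_complement_fixed ρ M hY' hMcop
  let ι : ↥(center ↥J) →* G := J.subtype.comp (center ↥J).subtype
  have hι : Function.Injective ι := J.subtype_injective.comp (center ↥J).subtype_injective
  have hcenJ : ∀ x : G, x ∈ (S : Subgroup G) ⊓ centralizer ((S : Subgroup G) : Set G) →
      ∃ hxJ : x ∈ J, (⟨x, hxJ⟩ : ↥J) ∈ center ↥J := by
    intro x hx
    refine ⟨hZJ hx, ?_⟩
    apply mem_center_iff.mpr
    intro g
    apply Subtype.ext
    exact mem_centralizer_iff.mp hx.2 g (hJS g.2)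
  -- Claim A
  have hA : (fixSub ρ M).map ι = (S : Subgroup G) ⊓ centralizer ((S : Subgroup G) : Set G) := by
    ext x
    constructor
    · rintro ⟨y, hy, rfl⟩
      refine ⟨hJS (y : ↥J).2, ?_⟩
      apply mem_centralizer_iff.mpr
      intro s hs
      have hsN : s ∈ N := hSNJ hs
      have hm : (⟨s, hsN⟩ : ↥N) ∈ M := Subgroup.mem_subgroupOf.mpr hs
      have h1 := hy ⟨s, hsN⟩ hm
      have h2 := congrArg (fun t : ↥(center ↥J) => ((t : ↥J) : G)) h1
      have h3 : s * ι y * s⁻¹ = ι y := h2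
      calc s * ι y = (s * ι y * s⁻¹) * s := by group
        _ = ι y * s := by rw [h3]
    · intro hx
      obtain ⟨hxJ, hxc⟩ := hcenJ x hx
      refine ⟨⟨⟨x, hxJ⟩, hxc⟩, ?_, rfl⟩
      intro a ha
      have ha' : (a : G) ∈ (S : Subgroup G) := Subgroup.mem_subgroupOf.mp ha
      apply Subtype.ext
      apply Subtype.ext
      rw [hρ]
      show (a : G) * x * (a : G)⁻¹ = x
      have := mem_centralizer_iff.mp hx.2 (a : G) ha'
      rw [this]; group
  -- Claim B
  have hB : (fixSub ρ ⊤).map ι =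
      (S : Subgroup G) ⊓ centralizer ((N : Subgroup G) : Set G) := by
    ext x
    constructor
    · rintro ⟨y, hy, rfl⟩
      refine ⟨hJS (y : ↥J).2, ?_⟩
      apply mem_centralizer_iff.mpr
      intro s hs
      have h1 := hy ⟨s, hs⟩ (mem_top _)
      have h2 := congrArg (fun t : ↥(center ↥J) => ((t : ↥J) : G)) h1
      have h3 : s * ι y * s⁻¹ = ι y := h2
      calc s * ι y = (s * ι y * s⁻¹) * s := by group
        _ = ι y * s := by rw [h3]
    · intro hx
      have hxZ : x ∈ (S : Subgroup G) ⊓ centralizer ((S : Subgroup G) : Set G) := by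
        refine ⟨hx.1, ?_⟩
        apply mem_centralizer_iff.mpr
        intro s hs
        exact mem_centralizer_iff.mp hx.2 s (hSNJ hs)
      obtain ⟨hxJ, hxc⟩ := hcenJ x hxZ
      refine ⟨⟨⟨x, hxJ⟩, hxc⟩, ?_, rfl⟩
      intro a _
      apply Subtype.ext
      apply Subtype.ext
      rw [hρ]
      show (a : G) * x * (a : G)⁻¹ = x
      have := mem_centralizer_iff.mp hx.2 (a : G) a.2
      rw [this]; group
  refine ⟨K.map ι, ?_, ?_, ?_⟩
  · rw [← hA]
    exact Subgroup.map_mono hKM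
  · rw [← hB, ← Subgroup.map_inf _ _ ι hι, hinf, Subgroup.map_bot]
  · rw [← hB, ← Subgroup.map_sup, hsup, hA]

/-- the odd case -/
theorem odd_case (hp : p ≠ 2) (S : Sylow p G) :
    ∃ W K : Subgroup G, (∀ x : G, x ∈ W ↔ (x ∈ (S : Subgroup G) ∧
        ∀ g : G, g * x * g⁻¹ ∈ (S : Subgroup G) → g * x * g⁻¹ = x)) ∧
      K ≤ ((S : Subgroup G) ⊓ Subgroup.centralizer ((S : Subgroup G) : Set G)) ∧ W ⊓ K = ⊥ ∧
      W ⊔ K = ((S : Subgroup G) ⊓ Subgroup.centralizer ((S : Subgroup G) : Set G)) := by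
  set J := Cfsg.thompsonSubgroupAOf (S : Subgroup G) with hJ
  have hJS : J ≤ (S : Subgroup G) := by
    rintro _ ⟨y, -, rfl⟩
    exact y.2
  have hSNJ : (S : Subgroup G) ≤ normalizer (J : Set G) :=
    le_normalizer.trans (Cfsg.Agent.Helper26.GJ.thompsonSubgroupAOf_le_normalizer (S : Subgroup G))
  have hZJ : (S : Subgroup G) ⊓ centralizer ((S : Subgroup G) : Set G) ≤ J :=
    Cfsg.Agent.Helper26.CF.center_le_thompsonSubgroupAOf (S : Subgroup G)
  obtain ⟨K, hK, hinf, hsup⟩ := direct_factor_general S J hJS hSNJ hZJ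
  refine ⟨_, K, ?_, hK, hinf, hsup⟩
  intro x
  constructor
  · rintro ⟨hxS, hxc⟩
    refine ⟨hxS, ?_⟩
    intro g hgx
    have hTi : ¬ p ∣ (S : Subgroup G).relIndex ⊤ := by
      rw [Subgroup.relIndex_top_right]
      exact S.not_dvd_index
    refine Cfsg.Agent.Helper26.GJ.weakly_closed_of_odd hp ⊤ (S : Subgroup G) le_top S.2 hTi x
      ⟨hxS, ?_⟩ g (mem_top g) hgx
    rw [top_inf_eq]
    exact hxc
  · rintro ⟨hxS, hwc⟩
    refine ⟨hxS, ?_⟩
    have hxZ : x ∈ (S : Subgroup G) ⊓ centralizer ((S : Subgroup G) : Set G) := by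
      refine ⟨hxS, ?_⟩
      apply mem_centralizer_iff.mpr
      intro s hs
      have h1 := hwc s ((S : Subgroup G).mul_mem ((S : Subgroup G).mul_mem hs hxS)
        ((S : Subgroup G).inv_mem hs))
      calc s * x = (s * x * s⁻¹) * s := by group
        _ = x * s := by rw [h1]
    have hxJ : x ∈ J := hZJ hxZ
    apply mem_centralizer_iff.mpr
    intro n hn
    have h2 : n * x * n⁻¹ ∈ J := ((mem_normalizer_iff (H := J)).mp hn x).mp hxJ
    have h1 := hwc n (hJS h2)
    calc n * x = (n * x * n⁻¹) * n := by group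
      _ = x * n := by rw [h1]

open Cfsg.Agent.Helper19 (pPrimeCore_coprime) in
open scoped Pointwise in
/-- the solvable case -/
theorem solvable_case (hsol : Group.IsSolvable G) (S : Sylow p G) :
    ∃ W K : Subgroup G, (∀ x : G, x ∈ W ↔ (x ∈ (S : Subgroup G) ∧
        ∀ g : G, g * x * g⁻¹ ∈ (S : Subgroup G) → g * x * g⁻¹ = x)) ∧
      K ≤ ((S : Subgroup G) ⊓ Subgroup.centralizer ((S : Subgroup G) : Set G)) ∧ W ⊓ K = ⊥ ∧
      W ⊔ K = ((S : Subgroup G) ⊓ Subgroup.centralizer ((S : Subgroup G) : Set G)) := by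
  classical
  set O := Cfsg.pPrimeCore p G with hOdef
  let π : G →* G ⧸ O := QuotientGroup.mk' O
  have hπs : Function.Surjective π := QuotientGroup.mk'_surjective O
  have hker : ∀ x, π x = 1 ↔ x ∈ O := fun x => QuotientGroup.eq_one_iff x
  set Sb : Sylow p (G ⧸ O) := S.mapSurjective hπs with hSb
  have hSbm : (Sb : Subgroup (G ⧸ O)) = (S : Subgroup G).map π := rfl
  have hO1 : Cfsg.pPrimeCore p (G ⧸ O) = ⊥ := Cfsg.Agent.Helper7.pPrimeCore_quotient_eq_bot p
  have hcon : centralizer (Cfsg.pCore p (G ⧸ O) : Set (G ⧸ O)) ≤ Cfsg.pCore p (G ⧸ O) := by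
    have h1 : Cfsg.fittingSubgroup (G ⧸ O) = Cfsg.pCore p (G ⧸ O) :=
      Cfsg.Agent.Helper7.fittingSubgroup_eq_pCore_of_pPrimeCore_eq_bot hO1
    have h2 := (Cfsg.Agent.Helper7.centralizer_fitting_le_iff_layer_eq_bot (G := G ⧸ O)).mpr
      Cfsg.Agent.Helper7.layer_eq_bot_of_isSolvable
    rw [h1] at h2; exact h2
  set U := Cfsg.pCore p (G ⧸ O) with hU
  have hUS : U ≤ (Sb : Subgroup (G ⧸ O)) := Cfsg.Agent.Helper14.pCore_le_sylow p Sb
  have hUn : U.Normal := Cfsg.pCore_normal p (G ⧸ O)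
  have hNtop : normalizer (U : Set (G ⧸ O)) = ⊤ := normalizer_eq_top_iff.mpr hUn
  -- injectivity on S
  have hSO : (S : Subgroup G) ⊓ O = ⊥ := by
    apply disjoint_iff.mp
    apply Subgroup.disjoint_of_coprime_natCard
    obtain ⟨k, hk⟩ := IsPGroup.iff_card.mp S.2
    rw [hk]
    exact Nat.Coprime.pow_left _ (pPrimeCore_coprime p).symm
  have hinj : ∀ a ∈ (S : Subgroup G), ∀ b ∈ (S : Subgroup G), π a = π b → a = b := by
    intro a ha b hb hab
    have h1 : a⁻¹ * b ∈ O := by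
      rw [← hker, map_mul, map_inv, hab, inv_mul_cancel]
    have h2 : a⁻¹ * b ∈ (S : Subgroup G) ⊓ O := ⟨(S : Subgroup G).mul_mem ((S : Subgroup G).inv_mem ha) hb, h1⟩
    rw [hSO, mem_bot] at h2
    exact inv_mul_eq_one.mp h2
  have hlift : ∀ y ∈ (S : Subgroup G),
      π y ∈ centralizer ((Sb : Subgroup (G ⧸ O)) : Set (G ⧸ O)) →
      y ∈ centralizer ((S : Subgroup G) : Set G) := by
    intro y hy hc
    apply mem_centralizer_iff.mpr
    intro s hs
    apply hinj _ (mul_mem hs hy) _ (mul_mem hy hs)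
    rw [map_mul, map_mul]
    exact mem_centralizer_iff.mp hc (π s) ⟨s, hs, rfl⟩
  have hZmap : ∀ y ∈ (S : Subgroup G) ⊓ centralizer ((S : Subgroup G) : Set G),
      π y ∈ (Sb : Subgroup (G ⧸ O)) ⊓ centralizer ((Sb : Subgroup (G ⧸ O)) : Set (G ⧸ O)) := by
    intro y hy
    refine ⟨⟨y, hy.1, rfl⟩, ?_⟩
    apply mem_centralizer_iff.mpr
    rintro _ ⟨s, hs, rfl⟩
    rw [← map_mul, ← map_mul, mem_centralizer_iff.mp hy.2 s hs]
  have hZU : (Sb : Subgroup (G ⧸ O)) ⊓ centralizer ((Sb : Subgroup (G ⧸ O)) : Set (G ⧸ O)) ≤ U := by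
    intro y hy
    apply hcon
    exact centralizer_le hUS hy.2
  obtain ⟨Kb, hKb, hinf, hsup⟩ :=
    direct_factor_general Sb U hUS (by rw [hNtop]; exact le_top) hZU
  rw [hNtop] at hinf hsup
  have hcen : ∀ y : G ⧸ O,
      y ∈ centralizer (((⊤ : Subgroup (G ⧸ O)) : Subgroup (G ⧸ O)) : Set (G ⧸ O)) ↔
        ∀ g, g * y = y * g := by
    intro y
    constructor
    · intro h g; exact mem_centralizer_iff.mp h g (mem_top g)
    · intro h; apply mem_centralizer_iff.mpr; intro g _; exact h g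
  set Wb := (Sb : Subgroup (G ⧸ O)) ⊓
    centralizer (((⊤ : Subgroup (G ⧸ O)) : Subgroup (G ⧸ O)) : Set (G ⧸ O)) with hWb
  have hWbn : Wb.Normal := ⟨fun n hn g => by
    have := (hcen n).mp hn.2 g
    have h' : g * n * g⁻¹ = n := by rw [this]; group
    rw [h']; exact hn⟩
  have hWbZ : ∀ y ∈ Wb, y ∈ centralizer ((Sb : Subgroup (G ⧸ O)) : Set (G ⧸ O)) := by
    intro y hy
    apply mem_centralizer_iff.mpr
    intro g _
    exact (hcen y).mp hy.2 g
  refine ⟨(S : Subgroup G) ⊓ Wb.comap π, (S : Subgroup G) ⊓ Kb.comap π, ?_, ?_, ?_, ?_⟩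
  · intro x
    constructor
    · rintro ⟨hxS, hxW⟩
      refine ⟨hxS, ?_⟩
      intro g hgx
      apply hinj _ hgx _ hxS
      have hxW' : π x ∈ Wb := hxW
      have hc := (hcen (π x)).mp hxW'.2 (π g)
      rw [map_mul, map_mul, map_inv, hc]; group
    · rintro ⟨hxS, hwc⟩
      have hxZ : x ∈ (S : Subgroup G) ⊓ centralizer ((S : Subgroup G) : Set G) := by
        refine ⟨hxS, ?_⟩
        apply mem_centralizer_iff.mpr
        intro s hs
        have h1 := hwc s ((S : Subgroup G).mul_mem ((S : Subgroup G).mul_mem hs hxS)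
          ((S : Subgroup G).inv_mem hs))
        calc s * x = (s * x * s⁻¹) * s := by group
          _ = x * s := by rw [h1]
      have hxU : π x ∈ U := hZU (hZmap x hxZ)
      refine ⟨hxS, ?_⟩
      show π x ∈ Wb
      refine ⟨⟨x, hxS, rfl⟩, ?_⟩
      apply (hcen (π x)).mpr
      intro gb
      obtain ⟨g, rfl⟩ := hπs gb
      have hyU : π (g * x * g⁻¹) ∈ U := by
        rw [map_mul, map_mul, map_inv]; exact hUn.conj_mem _ hxU _
      set C := (Sb : Subgroup (G ⧸ O)).comap π with hC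
      have hSC : (S : Subgroup G) ≤ C := fun s hs => ⟨s, hs, rfl⟩
      have hyC : g * x * g⁻¹ ∈ C := hUS hyU
      have hRp : IsPGroup p ↥(zpowers (g * x * g⁻¹)) := by
        have h0 := (S.2.to_le (zpowers_le.mpr hxS)).map (MulAut.conj g).toMonoidHom
        rw [MonoidHom.map_zpowers] at h0
        exact h0
      obtain ⟨c, hcC, hc⟩ := Cfsg.Agent.Helper10.exists_conj_le_sylow_of_le S C
        (zpowers (g * x * g⁻¹)) hSC hRp (zpowers_le.mpr hyC)
      have h1 := hc _ (mem_zpowers _)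
      have h2 : (c * g) * x * (c * g)⁻¹ = x := by
        apply hwc
        have : (c * g) * x * (c * g)⁻¹ = c * (g * x * g⁻¹) * c⁻¹ := by group
        rw [this]; exact h1
      have h3 : π c * π x = π x * π c := mem_centralizer_iff.mp (hZmap x hxZ).2 (π c) hcC
      have h4 : π c * π g * π x * (π g)⁻¹ * (π c)⁻¹ = π x := by
        calc π c * π g * π x * (π g)⁻¹ * (π c)⁻¹ = π (c * g * x * (c * g)⁻¹) := by
              simp only [map_mul, map_inv, mul_inv_rev]; group
          _ = π x := by rw [h2]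
      have h5 : π g * π x * (π g)⁻¹ = (π c)⁻¹ * π x * π c := by
        have : π g * π x * (π g)⁻¹ =
            (π c)⁻¹ * (π c * π g * π x * (π g)⁻¹ * (π c)⁻¹) * π c := by group
        rw [this, h4]
      have h6 : (π c)⁻¹ * π x * π c = π x := by
        rw [mul_assoc, ← h3]; group
      calc π g * π x = (π g * π x * (π g)⁻¹) * π g := by group
        _ = π x * π g := by rw [h5, h6]
  · rintro y ⟨hyS, hyK⟩
    exact ⟨hyS, hlift y hyS (hKb hyK).2⟩
  · rw [eq_bot_iff]
    rintro y ⟨⟨hyS, hyW⟩, ⟨-, hyK⟩⟩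
    have h1 : π y ∈ Wb ⊓ Kb := ⟨hyW, hyK⟩
    rw [hinf, mem_bot] at h1
    rw [mem_bot]
    exact hinj y hyS 1 (one_mem _) (by rw [h1, map_one])
  · apply le_antisymm
    · apply sup_le
      · rintro y ⟨hyS, hyW⟩
        exact ⟨hyS, hlift y hyS (hWbZ _ hyW)⟩
      · rintro y ⟨hyS, hyK⟩
        exact ⟨hyS, hlift y hyS (hKb hyK).2⟩
    · intro y hy
      have h1 : π y ∈ Wb ⊔ Kb := by rw [hsup]; exact hZmap y hy
      have h1' : π y ∈ (Wb : Set (G ⧸ O)) * (Kb : Set (G ⧸ O)) := by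
        rw [← Subgroup.normal_mul]; exact h1
      obtain ⟨wb, hwb, kb, hkb, hwk⟩ := Set.mem_mul.mp h1'
      obtain ⟨w, hwS, rfl⟩ := hwb.1
      obtain ⟨k, hkS, rfl⟩ := (hKb hkb).1
      have : y = w * k := hinj y hy.1 (w * k) ((S : Subgroup G).mul_mem hwS hkS) (by rw [map_mul]; exact hwk.symm)
      rw [this]
      exact mul_mem_sup ⟨hwS, hwb⟩ ⟨hkS, hkb⟩

end Cfsg.Agent.Helper26.WCG
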