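import Mathlib
import Cfsg.Agent.Helper26.WEDefs

set_option autoImplicit false

namespace Cfsg.Agent.S5271P

open Cfsg Cfsg.FusionSystem Cfsg.Agent.Helper25 Cfsg.Agent.Helper26.MasterRed

/-- EXT -/
theorem ext {Ω : Type*} [Group Ω] {S : Subgroup Ω} [Finite S] (p : ℕ) [Fact p.Prime]
    (F : FusionSystem S) (hR1 : R1Concl p F) {E : Subgroup Ω} (hErec : F.IsReceptive E)
    (hbig : IsPGroup p (F.autGroup (E ⊔ centralizerIn S E))) : IsPGroup p (F.autGroup E) := by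
  open scoped Pointwise in
  have hES : E ≤ S := hErec.1
  have hCN : centralizerIn S E ≤ normalizerIn S E :=
    fun x hx => ⟨hx.1, Subgroup.centralizer_le_normalizer (E : Set Ω) hx.2⟩
  have hEN : E ≤ normalizerIn S E := fun y hy => ⟨hES hy, Subgroup.le_normalizer hy⟩
  have hVN : E ⊔ centralizerIn S E ≤ normalizerIn S E := sup_le hEN hCN
  -- `E` normalizes `C_S(E)`
  have hconj : ∀ e ∈ E, ∀ c ∈ centralizerIn S E, e * c * e⁻¹ ∈ centralizerIn S E := by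
    intro e he c hc
    refine Subgroup.mem_inf.mpr ⟨S.mul_mem (S.mul_mem (hES he) hc.1) (S.inv_mem (hES he)), ?_⟩
    rw [Subgroup.mem_centralizer_iff]
    intro y hy
    have h1 : e⁻¹ * y * e ∈ E := E.mul_mem (E.mul_mem (E.inv_mem he) hy) he
    have h2 := (Subgroup.mem_centralizer_iff.mp hc.2) _ h1
    calc y * (e * c * e⁻¹) = e * ((e⁻¹ * y * e) * c) * e⁻¹ := by group
      _ = e * (c * (e⁻¹ * y * e)) * e⁻¹ := by rw [h2]
      _ = e * c * e⁻¹ * y := by group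
  have hEnC : E ≤ Subgroup.normalizer ((centralizerIn S E : Subgroup Ω) : Set Ω) := by
    intro e he
    rw [Subgroup.mem_normalizer_iff]
    intro c
    constructor
    · exact hconj e he c
    · intro hc
      have := hconj e⁻¹ (E.inv_mem he) _ hc
      have e1 : e⁻¹ * (e * c * e⁻¹) * e⁻¹⁻¹ = c := by group
      rwa [e1] at this
  rintro ⟨α, hα⟩
  have hnorm : ∀ v ∈ E ⊔ centralizerIn S E, ∃ w ∈ E ⊔ centralizerIn S E,
      ∀ (x : E) (hx : v * (x : Ω) * v⁻¹ ∈ E),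
        ((α ⟨v * (x : Ω) * v⁻¹, hx⟩ : E) : Ω) = w * ((α x : E) : Ω) * w⁻¹ := by
    intro v hv
    have hv1 : v ∈ ((E ⊔ centralizerIn S E : Subgroup Ω) : Set Ω) := hv
    rw [Subgroup.coe_mul_of_left_le_normalizer_right E (centralizerIn S E) hEnC] at hv1
    obtain ⟨e, he, c, hc, rfl⟩ := hv1
    refine ⟨((α ⟨e, he⟩ : E) : Ω), Subgroup.mem_sup_left (α ⟨e, he⟩).2, fun x hx => ?_⟩
    have h1 : e * c * (x : Ω) * (e * c)⁻¹ = e * (x : Ω) * e⁻¹ := by
      have h2 := (Subgroup.mem_centralizer_iff.mp hc.2) (x : Ω) x.2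
      calc e * c * (x : Ω) * (e * c)⁻¹ = e * (c * (x : Ω)) * c⁻¹ * e⁻¹ := by group
        _ = e * ((x : Ω) * c) * c⁻¹ * e⁻¹ := by rw [h2]
        _ = e * (x : Ω) * e⁻¹ := by group
    have e2 : (⟨e * c * (x : Ω) * (e * c)⁻¹, hx⟩ : E) = ⟨e, he⟩ * x * ⟨e, he⟩⁻¹ :=
      Subtype.ext h1
    rw [e2, map_mul, map_mul, map_inv]
    rfl
  obtain ⟨k, hk⟩ := hR1 E (E ⊔ centralizerIn S E) hErec le_sup_left le_sup_right hVN hbig α hα hnorm
  exact ⟨k, Subtype.ext hk⟩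

end Cfsg.Agent.S5271P
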