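import Mathlib
import Cfsg.Agent.Helper26.WEDefs
import Cfsg.Agent.Helper26.QdFactorB
import Cfsg.Agent.Helper25.FusionIso2

set_option autoImplicit false
set_option linter.unusedSectionVars false

/-! Pieces FACTWE and FACTNI of S5271: the hypotheses pass to factor systems. -/

namespace Cfsg.Agent.S5271P

open Cfsg Cfsg.FusionSystem Cfsg.Agent.Helper25 Cfsg.Agent.Helper26.MasterRed

namespace FACT

section

variable {Ω Ω' : Type*} [Group Ω] [Group Ω'] {S : Subgroup Ω}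

/-- The order of a full preimage. -/
theorem card_preimageAlong [Finite S] (θ : S →* Ω') {T : Subgroup Ω} (hTS : T ≤ S)
    (hker : ∀ s : S, θ s = 1 ↔ (s : Ω) ∈ T) {S' : Subgroup Ω'} (hrange : θ.range = S')
    {Q' : Subgroup Ω'} (hQ' : Q' ≤ S') :
    Nat.card ↥(preimageAlong θ Q') = Nat.card T * Nat.card Q' := by
  obtain ⟨θQ, hθQ⟩ : ∃ θQ : ↥(preimageAlong θ Q') →* Ω',
      θQ = θ.comp (Subgroup.inclusion (preimageAlong_le θ Q')) := ⟨_, rfl⟩
  have happ : ∀ x : ↥(preimageAlong θ Q'), θQ x = θ ⟨x, preimageAlong_le θ Q' x.2⟩ := by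
    intro x
    rw [hθQ]
    rfl
  have hr : θQ.range = Q' := by
    apply le_antisymm
    · rintro _ ⟨x, rfl⟩
      rw [happ]
      exact preimageAlong_map_mem θ Q' x
    · intro y hy
      obtain ⟨x, hx⟩ := exists_preimageAlong θ hrange hQ' ⟨y, hy⟩
      exact ⟨x, by rw [happ]; exact hx⟩
  have h1 := Subgroup.card_mul_index θQ.ker
  rw [Subgroup.index_ker, hr] at h1
  rw [← h1]
  congr 1
  rw [← Subgroup.card_map_of_injective (Subgroup.subtype_injective (preimageAlong θ Q'))]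
  congr 2
  ext x
  constructor
  · rintro ⟨s, hs, rfl⟩
    have h2 : θQ s = 1 := hs
    rw [happ] at h2
    exact (hker _).mp h2
  · intro hx
    refine ⟨⟨x, ker_le_preimageAlong θ hTS hker Q' hx⟩, ?_, rfl⟩
    show θQ _ = 1
    rw [happ]
    exact (hker _).mpr hx

end

section Factor

variable {Ω Ω' : Type*} [Group Ω] [Group Ω'] {S : Subgroup Ω} [Finite S] (F : FusionSystem S)
  {T : Subgroup Ω} (hT : F.StronglyClosed T)
  (θ : S →* Ω') (hker : ∀ s : S, θ s = 1 ↔ (s : Ω) ∈ T) {S' : Subgroup Ω'}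
  (hrange : θ.range = S') (E : FusionSystem S')
  (hiff : ∀ (P' : Subgroup Ω') (φ' : P' →* Ω'),
    φ' ∈ E.Hom P' ↔ P' ≤ S' ∧ ∃ φ ∈ F.Hom (preimageAlong θ P'), InducedAlong θ φ φ')

include hrange hiff in
/-- The image of a strongly closed subgroup is strongly closed in the factor system. -/
theorem sc_image {X : Subgroup Ω} (hX : F.StronglyClosed X) :
    E.StronglyClosed (imageAlong θ X) := by
  refine ⟨imageAlong_le_of_range θ hrange X, ?_⟩
  intro R' hR' φ' hφ' y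
  obtain ⟨hR'S, φ, hφ, hind⟩ := (hiff R' φ').mp hφ'
  obtain ⟨x₁, hx₁X, hx₁y⟩ := (mem_imageAlong_iff θ X _).mp (hR' y.2)
  have hx₁R : (x₁ : Ω) ∈ preimageAlong θ R' := by
    rw [mem_preimageAlong]
    exact ⟨x₁.2, by rw [Subtype.coe_eta, hx₁y]; exact y.2⟩
  have hφS : ∀ x, φ x ∈ S := (F.le_of_mem hφ).2
  have h1 := inducedAlong_apply θ hind ⟨x₁, hx₁R⟩ x₁.2
    (preimageAlong_map_mem θ R' ⟨x₁, hx₁R⟩) (hφS _)
  have e1 : (⟨θ ⟨(x₁ : Ω), x₁.2⟩, preimageAlong_map_mem θ R' ⟨x₁, hx₁R⟩⟩ : R') = y := by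
    apply Subtype.ext
    show θ ⟨(x₁ : Ω), x₁.2⟩ = y
    rw [Subtype.coe_eta, hx₁y]
  rw [e1] at h1
  rw [h1, mem_imageAlong_iff]
  refine ⟨⟨φ ⟨x₁, hx₁R⟩, hφS _⟩, ?_, rfl⟩
  -- `φ x₁ ∈ X`
  have h2 := restrict_mem F (inf_le_left : preimageAlong θ R' ⊓ X ≤ preimageAlong θ R') hφ
  exact hX.2 (preimageAlong θ R' ⊓ X) inf_le_right _ h2 ⟨x₁, hx₁R, hx₁X⟩

end Factor

end FACT

/-- FACTWE -/
theorem factWE {Ω Ω' : Type*} [Group Ω] [Group Ω'] {S : Subgroup Ω} [Finite S]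
    (F : FusionSystem S) {T : Subgroup Ω} (hT : F.StronglyClosed T) (θ : S →* Ω')
    (hker : ∀ s : S, θ s = 1 ↔ (s : Ω) ∈ T) {S' : Subgroup Ω'} (hrange : θ.range = S')
    (E : FusionSystem S')
    (hiff : ∀ (P' : Subgroup Ω') (φ' : P' →* Ω'),
      φ' ∈ E.Hom P' ↔ P' ≤ S' ∧ ∃ φ ∈ F.Hom (preimageAlong θ P'), InducedAlong θ φ φ')
    {m m' : ℕ} (hm : m = Nat.card T * m') (hWE : WE F m) : WE E m' := by
  intro Q' hQ' hQ'c
  have hQS : preimageAlong θ Q' ≤ S := preimageAlong_le θ Q'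
  have hQc : Nat.card ↥(preimageAlong θ Q') = m := by
    rw [FACT.card_preimageAlong θ hT.1 hker hrange hQ', hQ'c, hm]
  obtain ⟨P, hP, hQP, hQiP⟩ := hWE _ hQS hQc
  have himQ : imageAlong θ (preimageAlong θ Q') = Q' := imageAlong_preimageAlong θ hrange hQ'
  refine ⟨imageAlong θ P, FACT.sc_image F θ hrange E hiff hP, ?_, ?_⟩
  · have h1 := FACT.sc_image F θ hrange E hiff hQP
    rw [imageAlong_sup θ hQS hP.1, himQ] at h1
    exact h1
  · have h1 := FACT.sc_image F θ hrange E hiff hQiP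
    have e : imageAlong θ (preimageAlong θ Q' ⊓ P) = Q' ⊓ imageAlong θ P := by
      ext y
      constructor
      · intro hy
        obtain ⟨x, hx, rfl⟩ := (mem_imageAlong_iff θ _ _).mp hy
        refine ⟨?_, (mem_imageAlong_iff θ _ _).mpr ⟨x, hx.2, rfl⟩⟩
        obtain ⟨_, h⟩ := (mem_preimageAlong θ Q' _).mp hx.1
        exact h
      · rintro ⟨hyQ, hyP⟩
        obtain ⟨x, hx, rfl⟩ := (mem_imageAlong_iff θ _ _).mp hyP
        refine (mem_imageAlong_iff θ _ _).mpr ⟨x, Subgroup.mem_inf.mpr ⟨?_, hx⟩, rfl⟩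
        rw [mem_preimageAlong]
        exact ⟨x.2, hyQ⟩
    rw [e] at h1
    exact h1

namespace FACT

/-- A factor system of an inner system is inner. -/
theorem inner_factor {Ω Ω' : Type*} [Group Ω] [Group Ω'] {S : Subgroup Ω} (N : FusionSystem S)
    {T : Subgroup Ω} (θ : S →* Ω') {S' : Subgroup Ω'} (N' : FusionSystem S')
    (h : N.IsFactorSystem T θ N') (hin : Inner N) : Inner N' := by
  obtain ⟨-, -, hrange, hiff⟩ := h
  intro P' φ' hφ'
  obtain ⟨hP', φ, hφ, hind⟩ := (hiff P' φ').mp hφ'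
  obtain ⟨g, hg, hgx⟩ := hin _ φ hφ
  have hφS : ∀ x, φ x ∈ S := (N.le_of_mem hφ).2
  have hg'S : θ ⟨g, hg⟩ ∈ S' := by
    rw [← hrange]
    exact ⟨_, rfl⟩
  refine ⟨θ ⟨g, hg⟩, hg'S, fun y => ?_⟩
  obtain ⟨x, hx⟩ := exists_preimageAlong θ hrange hP' y
  have hxS : (x : Ω) ∈ S := preimageAlong_le θ P' x.2
  have h1 := inducedAlong_apply θ hind x hxS (preimageAlong_map_mem θ _ x) (hφS x)
  have e1 : (⟨θ ⟨x, hxS⟩, preimageAlong_map_mem θ _ x⟩ : P') = y := Subtype.ext hx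
  rw [e1] at h1
  rw [h1]
  have e2 : (⟨φ x, hφS x⟩ : S) = ⟨g, hg⟩ * ⟨x, hxS⟩ * ⟨g, hg⟩⁻¹ := by
    apply Subtype.ext
    exact hgx x
  rw [e2, map_mul, map_mul, map_inv, hx]

end FACT

/-- FACTNI -/
theorem factNI {Ω Ω' : Type*} [Group Ω] [Group Ω'] {S : Subgroup Ω} [Finite S]
    (p : ℕ) [Fact p.Prime] (hS : IsPGroup p S)
    (F : FusionSystem S) {T : Subgroup Ω} (hT : F.StronglyClosed T) (θ : S →* Ω')
    (hker : ∀ s : S, θ s = 1 ↔ (s : Ω) ∈ T) {S' : Subgroup Ω'} (hrange : θ.range = S')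
    (E : FusionSystem S')
    (hiff : ∀ (P' : Subgroup Ω') (φ' : P' →* Ω'),
      φ' ∈ E.Hom P' ↔ P' ≤ S' ∧ ∃ φ ∈ F.Hom (preimageAlong θ P'), InducedAlong θ φ φ')
    {m m' : ℕ} (hm : m = Nat.card T * m') (hNI : NI F m) : NI E m' := by
  intro H' hH' hH'c
  have hH'S : H' ≤ S' := hH'.1
  have hHfn : F.IsFullyNormalized (preimageAlong θ H') :=
    Cfsg.Agent.Helper26.QdFactor.isFullyNormalized_preimageAlong F hT θ hker hrange E hiff hH'
  have hHc : Nat.card ↥(preimageAlong θ H') = m := by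
    rw [FACT.card_preimageAlong θ hT.1 hker hrange hH'S, hH'c, hm]
  have hni : NInner F (preimageAlong θ H') := hNI _ hHfn hHc
  have hN := normalizerSystem_isNormalizerSystem F (preimageAlong θ H') hHfn.1
  have hN' := normalizerSystem_isNormalizerSystem E H' hH'S
  have hfac := Cfsg.Agent.Helper26.QdFactor.normalizer_isFactorSystem F hT θ hker hrange E hiff
    hH'S _ hN _ hN'
  have hinN : Inner (normalizerSystem F (preimageAlong θ H') hHfn.1) :=
    (ninner_iff F _ _ hN).mpr hni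
  exact (ninner_iff E H' _ hN').mp (FACT.inner_factor _ _ _ hfac hinN)

end Cfsg.Agent.S5271P
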