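import Mathlib
import Cfsg.Agent.Helper26.WEDefs

set_option autoImplicit false

namespace Cfsg.Agent.S5271P

open Cfsg Cfsg.FusionSystem Cfsg.Agent.Helper25 Cfsg.Agent.Helper26.MasterRed

namespace FWD

/-- In an inner system every normalizer system is inner. -/
theorem ninner_of_inner {Ω : Type*} [Group Ω] {S : Subgroup Ω} (F : FusionSystem S)
    (hin : Inner F) (H : Subgroup Ω) : NInner F H := by
  intro P φ hφN
  obtain ⟨hφ, hPN, hval, ψ, hψ, hext, hmap⟩ := hφN
  obtain ⟨g, hg, hgx⟩ := hin _ ψ hψ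
  have hHsup : H ≤ P ⊔ H := le_sup_right
  have hfwd : ∀ y ∈ H, g * y * g⁻¹ ∈ H := by
    intro y hy
    have h0 : ψ ⟨y, hHsup hy⟩ ∈ (H.subgroupOf (P ⊔ H)).map ψ := ⟨⟨y, hHsup hy⟩, hy, rfl⟩
    have h1 : ψ ⟨y, hHsup hy⟩ ∈ H :=
      (show ∀ Y : Subgroup Ω, (H.subgroupOf (P ⊔ H)).map ψ = Y → ψ ⟨y, hHsup hy⟩ ∈ Y from
        fun Y hY => hY ▸ h0) H hmap
    rw [hgx] at h1
    exact h1
  have hgN : g ∈ Subgroup.normalizer (H : Set Ω) := by
    rw [Subgroup.mem_normalizer_iff]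
    intro y
    constructor
    · exact hfwd y
    · intro hy
      have h0 : g * y * g⁻¹ ∈ (H.subgroupOf (P ⊔ H)).map ψ :=
        (show ∀ Y : Subgroup Ω, Y = H → g * y * g⁻¹ ∈ Y from fun Y hY => hY ▸ hy) _ hmap
      obtain ⟨z, hz, hze⟩ := h0
      rw [hgx] at hze
      have h2 : (z : Ω) = y := mul_left_cancel (mul_right_cancel hze)
      rw [← h2]
      exact hz
  refine ⟨g, ⟨hg, hgN⟩, fun x => ?_⟩
  rw [← hext x, hgx]
  rfl

end FWD

/-- FWD -/
theorem fwd {Ω : Type*} [Group Ω] {S : Subgroup Ω} [Finite S] (p : ℕ) [Fact p.Prime]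
    (hS : IsPGroup p S) (F : FusionSystem S) (hcard : p ^ 2 ≤ Nat.card S) (hin : Inner F) :
    ∃ D : Subgroup Ω, ⊥ < D ∧ D < S ∧ WE F (Nat.card D) ∧ NI F (Nat.card D) := by
  have hpp : p.Prime := Fact.out
  obtain ⟨n, hn⟩ := IsPGroup.iff_card.mp hS
  have hn2 : 2 ≤ n := by
    rw [hn] at hcard
    exact (Nat.pow_le_pow_iff_right hpp.one_lt).mp hcard
  have hdvd : p ^ (n - 1) ∣ Nat.card S := by
    rw [hn]
    exact pow_dvd_pow p (Nat.sub_le n 1)
  obtain ⟨K, hK⟩ := Sylow.exists_subgroup_card_pow_prime p hdvd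
  obtain ⟨D, hDe⟩ : ∃ D : Subgroup Ω, D = K.map S.subtype := ⟨_, rfl⟩
  have hDS : D ≤ S := by
    rw [hDe]
    exact Subgroup.map_subtype_le K
  have hDc : Nat.card D = p ^ (n - 1) := by
    rw [hDe, ← hK]
    exact Nat.card_congr (K.equivMapOfInjective S.subtype S.subtype_injective).symm.toEquiv
  have hDfin : Finite D := finite_of_le hDS
  have hlt : p ^ (n - 1) < p ^ n := Nat.pow_lt_pow_right hpp.one_lt (by omega)
  have hgt : 1 < p ^ (n - 1) := Nat.one_lt_pow (by omega) hpp.one_lt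
  refine ⟨D, ?_, ?_, ?_, ?_⟩
  · rw [bot_lt_iff_ne_bot]
    intro h
    rw [h, Subgroup.card_bot] at hDc
    omega
  · refine lt_of_le_of_ne hDS ?_
    intro h
    rw [h, hn] at hDc
    omega
  · intro Q hQ hQc
    rw [hDc] at hQc
    have hQfin : Finite Q := finite_of_le hQ
    -- `Q` has index `p` in `S`, hence is normal
    have hsub : Nat.card (Q.subgroupOf S) = p ^ (n - 1) := by
      rw [← hQc]
      exact Nat.card_congr (Subgroup.subgroupOfEquivOfLe hQ).toEquiv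
    have hidx : (Q.subgroupOf S).index = p := by
      have h1 := Subgroup.card_mul_index (Q.subgroupOf S)
      rw [hsub, hn] at h1
      have e : p ^ n = p ^ (n - 1) * p := by
        rw [← pow_succ]
        congr 1
        omega
      rw [e] at h1
      exact Nat.eq_of_mul_eq_mul_left (by omega) h1
    have hnorm : (Q.subgroupOf S).Normal := by
      apply Subgroup.normal_of_index_eq_minFac_card
      rw [hidx, hn, Nat.Prime.pow_minFac hpp (by omega)]
    have hQsc : F.StronglyClosed Q := by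
      refine ⟨hQ, fun R hR φ hφ x => ?_⟩
      obtain ⟨g, hg, hgx⟩ := hin R φ hφ
      rw [hgx]
      have h1 := hnorm.conj_mem ⟨x, hQ (hR x.2)⟩ (hR x.2) ⟨g, hg⟩
      exact h1
    refine ⟨Q, hQsc, ?_, ?_⟩
    · rw [sup_idem]
      exact hQsc
    · rw [inf_idem]
      exact hQsc
  · intro H _ _
    exact FWD.ninner_of_inner F hin H

end Cfsg.Agent.S5271P
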