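import Mathlib
import Cfsg.Agent.Helper26.WEDefs

set_option autoImplicit false
set_option linter.unusedSectionVars false

/-! Piece LEMA of S5271. -/

namespace Cfsg.Agent.S5271P

open Cfsg Cfsg.FusionSystem Cfsg.Agent.Helper25 Cfsg.Agent.Helper26.MasterRed

namespace LEMA

theorem pow_fix {X : Type*} (f : Equiv.Perm X) (x : X) (h : f x = x) (n : ℕ) : (f ^ n) x = x := by
  induction n with
  | zero => rfl
  | succ n ih => rw [pow_succ, Equiv.Perm.mul_apply, h, ih]

theorem mulAut_pow_fix {G : Type*} [Group G] (f : MulAut G) (x : G) (h : f x = x) (n : ℕ) :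
    (f ^ n) x = x := by
  induction n with
  | zero => rfl
  | succ n ih => rw [pow_succ, MulAut.mul_apply, h, ih]

end LEMA

/-- LEMA -/
theorem lemA {Ω : Type*} [Group Ω] {S : Subgroup Ω} [Finite S] (p : ℕ) [Fact p.Prime]
    (hS : IsPGroup p S) (F : FusionSystem S) (hF : F.IsSaturated p) {m : ℕ} (hNI : NI F m)
    {R H : Subgroup Ω} (hRS : R ≤ S) (hHR : H ≤ R) (hHm : Nat.card H = m) (α : MulAut R)
    (hα : α ∈ F.autGroup R) (hcop : (orderOf α).Coprime p) (hαH : Inv α H) (x : R)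
    (hx : (x : Ω) ∈ Subgroup.normalizer (H : Set Ω)) : α x = x := by
  have hpp : p.Prime := Fact.out
  have hRfin : Finite R := finite_of_le hRS
  have hHS : H ≤ S := hHR.trans hRS
  have hHfin : Finite H := finite_of_le hHS
  -- `α` maps `H` onto `H`
  have hαsurj : ∀ u ∈ H, ∃ y : R, (y : Ω) ∈ H ∧ ((α y : R) : Ω) = u := by
    intro u hu
    let f : H → H := fun h => ⟨((α ⟨h, hHR h.2⟩ : R) : Ω), hαH _ h.2⟩
    have hf : Function.Injective f := by
      intro a b hab
      have h1 : ((α ⟨a, hHR a.2⟩ : R) : Ω) = ((α ⟨b, hHR b.2⟩ : R) : Ω) :=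
        congrArg (fun z : H => (z : Ω)) hab
      have h2 := α.injective (Subtype.ext h1)
      exact Subtype.ext (congrArg (fun z : R => (z : Ω)) h2)
    obtain ⟨a, ha⟩ := (Finite.injective_iff_surjective.mp hf) ⟨u, hu⟩
    exact ⟨⟨a, hHR a.2⟩, a.2, congrArg (fun z : H => (z : Ω)) ha⟩
  obtain ⟨X, hXe⟩ : ∃ X : Subgroup Ω, X = R ⊓ Subgroup.normalizer (H : Set Ω) := ⟨_, rfl⟩
  have hXR : X ≤ R := by rw [hXe]; exact inf_le_left
  have hXN : X ≤ Subgroup.normalizer (H : Set Ω) := by rw [hXe]; exact inf_le_right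
  have hHX : H ≤ X := by rw [hXe]; exact le_inf hHR Subgroup.le_normalizer
  have hXNS : X ≤ normalizerIn S H := fun y hy => ⟨hRS (hXR hy), hXN hy⟩
  have hXS : X ≤ S := hXR.trans hRS
  have hXfin : Finite X := finite_of_le hXS
  -- `α` maps `X` into `X`
  have hαX : ∀ y : R, (y : Ω) ∈ X → ((α y : R) : Ω) ∈ X := by
    intro y hy
    have hyN := hXN hy
    rw [hXe]
    refine Subgroup.mem_inf.mpr ⟨(α y).2, ?_⟩
    rw [Subgroup.mem_normalizer_iff]
    have hconj : ∀ u : R, (u : Ω) ∈ H → ((α y : R) : Ω) * ((α u : R) : Ω) * ((α y : R) : Ω)⁻¹ ∈ H := by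
      intro u hu
      have h1 : (y : Ω) * u * (y : Ω)⁻¹ ∈ H := (Subgroup.mem_normalizer_iff.mp hyN u).mp hu
      have h2 := hαH (y * u * y⁻¹) h1
      have e : ((α (y * u * y⁻¹) : R) : Ω) =
          ((α y : R) : Ω) * ((α u : R) : Ω) * ((α y : R) : Ω)⁻¹ := by
        rw [map_mul, map_mul, map_inv]
        rfl
      rwa [e] at h2
    have hconj' : ∀ u : R, (u : Ω) ∈ H →
        ((α y : R) : Ω)⁻¹ * ((α u : R) : Ω) * ((α y : R) : Ω) ∈ H := by
      intro u hu
      have h1 : (y : Ω)⁻¹ * u * (y : Ω) ∈ H := by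
        have := (Subgroup.mem_normalizer_iff.mp (Subgroup.inv_mem _ hyN) u).mp hu
        simpa using this
      have h2 := hαH (y⁻¹ * u * y) h1
      have e : ((α (y⁻¹ * u * y) : R) : Ω) =
          ((α y : R) : Ω)⁻¹ * ((α u : R) : Ω) * ((α y : R) : Ω) := by
        rw [map_mul, map_mul, map_inv]
        rfl
      rwa [e] at h2
    intro h
    constructor
    · intro hh
      obtain ⟨u, hu, rfl⟩ := hαsurj h hh
      exact hconj u hu
    · intro hh
      obtain ⟨u, hu, hue⟩ := hαsurj _ hh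
      have h3 := hconj' u hu
      rw [hue] at h3
      have e : ((α y : R) : Ω)⁻¹ * (((α y : R) : Ω) * h * ((α y : R) : Ω)⁻¹) * ((α y : R) : Ω)
          = h := by group
      rwa [e] at h3
  -- the restriction `β` of `α` to `X`
  have hφR : autHom α ∈ F.Hom R := (mem_autGroup_iff F hRS α).mp hα
  obtain ⟨χ, hχe⟩ : ∃ χ : X →* Ω, χ = (autHom α).comp (Subgroup.inclusion hXR) := ⟨_, rfl⟩
  have hχ : χ ∈ F.Hom X := by
    rw [hχe]
    exact restrict_mem F hXR hφR
  have hχapp : ∀ y : X, χ y = ((α ⟨y, hXR y.2⟩ : R) : Ω) := fun y => by rw [hχe]; rfl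
  have hinj : Function.Injective χ := F.injective_of_mem hχ
  have hr : χ.range = X := by
    have hle : χ.range ≤ X := by
      rintro _ ⟨y, rfl⟩
      rw [hχapp]
      exact hαX _ y.2
    apply Subgroup.eq_of_le_of_card_ge hle
    exact (Nat.card_congr (MonoidHom.ofInjective hinj).toEquiv).le
  obtain ⟨β, hβe⟩ : ∃ β : MulAut X, β = isoOfHom χ hinj hr := ⟨_, rfl⟩
  have hβχ : autHom β = χ := by
    ext y
    rw [hβe]
    rfl
  have hβapp : ∀ y : X, ((β y : X) : Ω) = ((α ⟨y, hXR y.2⟩ : R) : Ω) := by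
    intro y
    rw [← hχapp, ← hβχ]
    rfl
  have hβ : β ∈ F.autGroup X := by
    rw [mem_autGroup_iff F hXS, hβχ]
    exact hχ
  have hβU : (H.subgroupOf X).map (autHom β) = H := by
    ext u
    constructor
    · rintro ⟨y, hy, rfl⟩
      show ((β y : X) : Ω) ∈ H
      rw [hβapp]
      exact hαH _ hy
    · intro hu
      obtain ⟨y, hy, hyu⟩ := hαsurj u hu
      refine ⟨⟨y, hHX hy⟩, hy, ?_⟩
      show ((β ⟨y, hHX hy⟩ : X) : Ω) = u
      rw [hβapp]
      exact hyu
  -- a fully normalized conjugate of `H`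
  obtain ⟨H', hconj, hFA, hRec⟩ := hF H hHS
  obtain ⟨φ, hφ, hφN, hφU⟩ := Cfsg.Agent.S5079.result p hS F H' H hFA hRec hconj
  have hH'fn : F.IsFullyNormalized H' :=
    isFullyNormalized_of_automized_receptive F p hS hFA (Cfsg.Agent.S5078.result F H' hRec)
  have hH'm : Nat.card H' = m := by
    rw [← card_eq_of_isConj F hconj]
    exact hHm
  have hH'ni : NInner F H' := hNI H' hH'fn hH'm
  obtain ⟨k, hk⟩ := exists_pow_eq_one_of_ninner_conj hS F hHX hXNS hφ hφU hφN hH'ni β hβ hβU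
  -- `α ^ (p ^ k)` fixes `X` pointwise
  have key : ∀ (n : ℕ) (y : X), (((β ^ n) y : X) : Ω) = (((α ^ n) ⟨y, hXR y.2⟩ : R) : Ω) := by
    intro n
    induction n with
    | zero => intro y; rfl
    | succ n ih =>
      intro y
      rw [pow_succ, pow_succ, MulAut.mul_apply, MulAut.mul_apply, ih (β y)]
      congr 2
      apply Subtype.ext
      exact hβapp y
  have hxX : (x : Ω) ∈ X := by
    rw [hXe]
    exact ⟨x.2, hx⟩
  have hfix : (α ^ (p ^ k)) x = x := by
    have h1 := key (p ^ k) ⟨x, hxX⟩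
    rw [hk] at h1
    apply Subtype.ext
    exact h1.symm
  have hcop' : (p ^ k).Coprime (orderOf α) := (Nat.Coprime.pow_right k hcop).symm
  obtain ⟨j, hj⟩ := exists_pow_eq_self_of_coprime hcop'
  have h2 := LEMA.mulAut_pow_fix (α ^ (p ^ k)) x hfix j
  rw [hj] at h2
  exact h2

end Cfsg.Agent.S5271P
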