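import Mathlib
import Cfsg.Agent.Helper26.WEDefs

set_option autoImplicit false
set_option linter.unusedSectionVars false

/-! Piece LEMB of S5271: the lattice argument. -/

namespace Cfsg.Agent.S5271P

open Cfsg Cfsg.FusionSystem Cfsg.Agent.Helper25 Cfsg.Agent.Helper26.MasterRed

namespace LEMB

variable {Ω : Type*} [Group Ω]

/-- `M` is a subgroup of `R`, stable under conjugation by `R` and under `α`. -/
def Mem (R : Subgroup Ω) (α : MulAut R) (M : Subgroup Ω) : Prop :=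
  M ≤ R ∧ (∀ g ∈ R, ∀ y ∈ M, g * y * g⁻¹ ∈ M) ∧ Inv α M

theorem le_normalizer_of_conj {R M : Subgroup Ω} (h : ∀ g ∈ R, ∀ y ∈ M, g * y * g⁻¹ ∈ M) :
    R ≤ Subgroup.normalizer (M : Set Ω) := by
  intro g hg
  rw [Subgroup.mem_normalizer_iff]
  intro y
  constructor
  · exact h g hg y
  · intro hy
    have := h g⁻¹ (R.inv_mem hg) _ hy
    have e : g⁻¹ * (g * y * g⁻¹) * g⁻¹⁻¹ = y := by group
    rwa [e] at this

theorem mem_bot (R : Subgroup Ω) (α : MulAut R) : Mem R α ⊥ := by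
  refine ⟨bot_le, ?_, ?_⟩
  · intro _ _ y hy
    rw [Subgroup.mem_bot] at hy ⊢
    rw [hy]
    group
  · intro x hx
    rw [Subgroup.mem_bot] at hx ⊢
    have : x = 1 := Subtype.ext hx
    rw [this, map_one]
    rfl

theorem mem_self (R : Subgroup Ω) (α : MulAut R) : Mem R α R :=
  ⟨le_rfl, fun g hg y hy => R.mul_mem (R.mul_mem hg hy) (R.inv_mem hg), fun x _ => (α x).2⟩

theorem exists_mul_of_mem_sup {R : Subgroup Ω} {α : MulAut R} {A B : Subgroup Ω} (hA : Mem R α A)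
    (hB : Mem R α B) {y : Ω} (hy : y ∈ A ⊔ B) : ∃ a ∈ A, ∃ b ∈ B, a * b = y := by
  open scoped Pointwise in
  have h1 : y ∈ ((A ⊔ B : Subgroup Ω) : Set Ω) := hy
  rw [Subgroup.coe_mul_of_left_le_normalizer_right A B
    (hA.1.trans (le_normalizer_of_conj hB.2.1))] at h1
  obtain ⟨a, ha, b, hb, rfl⟩ := h1
  exact ⟨a, ha, b, hb, rfl⟩

theorem mem_sup {R : Subgroup Ω} {α : MulAut R} {A B : Subgroup Ω} (hA : Mem R α A)
    (hB : Mem R α B) : Mem R α (A ⊔ B) := by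
  refine ⟨sup_le hA.1 hB.1, ?_, ?_⟩
  · intro g hg y hy
    obtain ⟨a, ha, b, hb, rfl⟩ := exists_mul_of_mem_sup hA hB hy
    have e : g * (a * b) * g⁻¹ = (g * a * g⁻¹) * (g * b * g⁻¹) := by group
    rw [e]
    exact Subgroup.mul_mem _ (Subgroup.mem_sup_left (hA.2.1 g hg a ha))
      (Subgroup.mem_sup_right (hB.2.1 g hg b hb))
  · intro x hx
    obtain ⟨a, ha, b, hb, hab⟩ := exists_mul_of_mem_sup hA hB hx
    have e : x = ⟨a, hA.1 ha⟩ * ⟨b, hB.1 hb⟩ := Subtype.ext hab.symm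
    rw [e, map_mul]
    exact Subgroup.mul_mem _ (Subgroup.mem_sup_left (hA.2.2 ⟨a, hA.1 ha⟩ ha))
      (Subgroup.mem_sup_right (hB.2.2 ⟨b, hB.1 hb⟩ hb))

theorem mem_inf_sc {S : Subgroup Ω} (F : FusionSystem S) {R : Subgroup Ω} (hRS : R ≤ S)
    {α : MulAut R} (hα : α ∈ F.autGroup R) {X N : Subgroup Ω} (hX : F.StronglyClosed X)
    (hN : Mem R α N) : Mem R α (X ⊓ N) := by
  have hSNX := le_normalizer_of_stronglyClosed F hX
  refine ⟨inf_le_right.trans hN.1, ?_, ?_⟩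
  · intro g hg y hy
    exact ⟨(Subgroup.mem_normalizer_iff.mp (hSNX (hRS hg)) y).mp hy.1, hN.2.1 g hg y hy.2⟩
  · intro x hx
    exact ⟨autGroup_apply_mem_of_stronglyClosed F hX hRS α hα x hx.1, hN.2.2 x hx.2⟩

end LEMB

/-- LEMB -/
theorem lemB {Ω : Type*} [Group Ω] {S : Subgroup Ω} [Finite S] (p : ℕ) [Fact p.Prime]
    (hS : IsPGroup p S) (F : FusionSystem S) {d : ℕ} (hWE : WE F (p ^ d)) {R : Subgroup Ω}
    (hRS : R ≤ S) (hRm : p ^ d < Nat.card R) (α : MulAut R) (hα : α ∈ F.autGroup R)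
    (hA2 : ∀ H : Subgroup Ω, H ≤ R → Nat.card H = p ^ d → Inv α H → False) : False := by
  open scoped Pointwise in
  classical
  have hpp : p.Prime := Fact.out
  have hRfin : Finite R := finite_of_le hRS
  rcases Nat.eq_zero_or_pos d with hd0 | hdpos
  · subst hd0
    exact hA2 ⊥ bot_le (by rw [Subgroup.card_bot, pow_zero]) (LEMB.mem_bot R α).2.2
  have hmfin : ∀ M, LEMB.Mem R α M → Finite M := fun M hM => finite_of_le (hM.1.trans hRS)
  -- choice of `M`
  let T₁ : Set ℕ := {k | ∃ M, LEMB.Mem R α M ∧ Nat.card M < p ^ d ∧ Nat.card M = k}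
  have hT₁ne : T₁.Nonempty := by
    refine ⟨1, ⊥, LEMB.mem_bot R α, ?_, Subgroup.card_bot⟩
    rw [Subgroup.card_bot]
    exact Nat.one_lt_pow hdpos.ne' hpp.one_lt
  have hT₁bdd : BddAbove T₁ := by
    refine ⟨p ^ d, ?_⟩
    rintro k ⟨M, -, hlt, rfl⟩
    exact hlt.le
  obtain ⟨M, hM, hMlt, hMc⟩ := Nat.sSup_mem hT₁ne hT₁bdd
  have hMmax : ∀ K, LEMB.Mem R α K → Nat.card K < p ^ d → Nat.card K ≤ Nat.card M := by
    intro K hK hKlt
    rw [hMc]
    exact le_csSup hT₁bdd ⟨K, hK, hKlt, rfl⟩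
  have hMfin := hmfin M hM
  -- choice of `N`
  let T₂ : Set ℕ := {k | ∃ N, LEMB.Mem R α N ∧ M < N ∧ Nat.card N = k}
  have hMR : M < R := by
    refine lt_of_le_of_ne hM.1 ?_
    intro h
    rw [h] at hMlt
    omega
  have hT₂ne : T₂.Nonempty := ⟨_, R, LEMB.mem_self R α, hMR, rfl⟩
  obtain ⟨N, hN, hMN, hNc⟩ := Nat.sInf_mem hT₂ne
  have hNmin : ∀ K, LEMB.Mem R α K → M < K → Nat.card N ≤ Nat.card K := by
    intro K hK hMK
    rw [hNc]
    exact Nat.sInf_le ⟨K, hK, hMK, rfl⟩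
  have hNfin := hmfin N hN
  have hMNcard : Nat.card M < Nat.card N := card_lt_of_lt hMN.le hMN.ne
  have hNgt : p ^ d < Nat.card N := by
    by_contra hc
    rcases (not_lt.mp hc).eq_or_lt with h | h
    · exact hA2 N hN.1 h hN.2.2
    · have := hMmax N hN h
      omega
  have hbetween : ∀ K, LEMB.Mem R α K → M ≤ K → K ≤ N → K = M ∨ K = N := by
    intro K hK hMK hKN
    by_cases h : K = M
    · exact Or.inl h
    · right
      have hKfin := hmfin K hK
      exact Subgroup.eq_of_le_of_card_ge hKN (hNmin K hK (lt_of_le_of_ne hMK (Ne.symm h)))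
  -- the subgroup `Q`
  obtain ⟨i, hi⟩ := IsPGroup.iff_card.mp (isPGroup_of_le hS (hM.1.trans hRS))
  obtain ⟨j, hj⟩ := IsPGroup.iff_card.mp (isPGroup_of_le hS (hN.1.trans hRS))
  have hid : i ≤ d := by
    rw [hi] at hMlt
    exact ((Nat.pow_lt_pow_iff_right hpp.one_lt).mp hMlt).le
  have hdj : d ≤ j := by
    rw [hj] at hNgt
    exact ((Nat.pow_lt_pow_iff_right hpp.one_lt).mp hNgt).le
  have hdvd : p ^ d ∣ Nat.card N := by
    rw [hj]
    exact pow_dvd_pow p hdj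
  have hMsub : Nat.card (M.subgroupOf N) = p ^ i := by
    rw [← hi]
    exact Nat.card_congr (Subgroup.subgroupOfEquivOfLe hMN.le).toEquiv
  obtain ⟨K, hKc, hMK⟩ := Sylow.exists_subgroup_card_pow_prime_le p hdvd (M.subgroupOf N) hMsub hid
  obtain ⟨Q, hQe⟩ : ∃ Q : Subgroup Ω, Q = K.map N.subtype := ⟨_, rfl⟩
  have hQN : Q ≤ N := by
    rw [hQe]
    exact Subgroup.map_subtype_le K
  have hMQ : M ≤ Q := by
    intro y hy
    rw [hQe]
    exact ⟨⟨y, hMN.le hy⟩, hMK hy, rfl⟩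
  have hQc : Nat.card Q = p ^ d := by
    rw [hQe, ← hKc]
    exact Nat.card_congr (K.equivMapOfInjective N.subtype N.subtype_injective).symm.toEquiv
  have hQS : Q ≤ S := hQN.trans (hN.1.trans hRS)
  have hQfin : Finite Q := finite_of_le hQS
  have hQneM : ¬ Q ≤ M := by
    intro h
    have := card_le_of_le h
    omega
  have hNnleQ : ¬ N ≤ Q := by
    intro h
    have := card_le_of_le h
    omega
  obtain ⟨P, hP, hQP, hQiP⟩ := hWE Q hQS hQc
  have hK : ∀ X, F.StronglyClosed X → LEMB.Mem R α ((X ⊓ N) ⊔ M) :=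
    fun X hX => LEMB.mem_sup (LEMB.mem_inf_sc F hRS hα hX hN) hM
  have hKle : ∀ X : Subgroup Ω, (X ⊓ N) ⊔ M ≤ N := fun X => sup_le inf_le_right hMN.le
  -- `Q ⊓ P ≤ M`
  have hA : Q ⊓ P ≤ M := by
    rcases hbetween _ (hK _ hQiP) le_sup_right (hKle _) with h | h
    · intro y hy
      rw [← h]
      exact Subgroup.mem_sup_left ⟨hy, hQN hy.1⟩
    · exfalso
      apply hNnleQ
      rw [← h]
      exact sup_le (inf_le_left.trans inf_le_left) hMQ
  have hB : ((Q ⊔ P) ⊓ N) ⊔ M = N := by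
    rcases hbetween _ (hK _ hQP) le_sup_right (hKle _) with h | h
    · exfalso
      apply hQneM
      rw [← h]
      exact le_sup_of_le_left (le_inf le_sup_left hQN)
    · exact h
  rcases hbetween _ (hK _ hP) le_sup_right (hKle _) with h | h
  · have hPN : P ⊓ N ≤ M := by
      rw [← h]
      exact le_sup_left
    apply hNnleQ
    intro n hn
    rw [← hB] at hn
    obtain ⟨y, hy, m, hm, rfl⟩ :=
      LEMB.exists_mul_of_mem_sup (LEMB.mem_inf_sc F hRS hα hQP hN) hM hn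
    have hy1 : y ∈ ((Q ⊔ P : Subgroup Ω) : Set Ω) := hy.1
    rw [Subgroup.coe_mul_of_left_le_normalizer_right Q P
      (hQS.trans (le_normalizer_of_stronglyClosed F hP))] at hy1
    obtain ⟨q, hq, t, ht, rfl⟩ := hy1
    have htN : t ∈ N := by
      have := N.mul_mem (N.inv_mem (hQN hq)) hy.2
      rwa [inv_mul_cancel_left] at this
    exact Q.mul_mem (Q.mul_mem hq (hMQ (hPN ⟨ht, htN⟩))) (hMQ hm)
  · apply hQneM
    intro q hq
    have hqN : q ∈ (P ⊓ N) ⊔ M := by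
      rw [h]
      exact hQN hq
    obtain ⟨y, hy, m, hm, rfl⟩ :=
      LEMB.exists_mul_of_mem_sup (LEMB.mem_inf_sc F hRS hα hP hN) hM hqN
    have hyQ : y ∈ Q := by
      have := Q.mul_mem hq (Q.inv_mem (hMQ hm))
      rwa [mul_inv_cancel_right] at this
    exact M.mul_mem (hA ⟨hyQ, hy.1⟩) hm

end Cfsg.Agent.S5271P
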