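import Mathlib
import Cfsg.Agent.Helper26.WEDefs

set_option autoImplicit false
set_option linter.unusedSectionVars false

/-! Piece R1 of S5271: the extension lemma. -/

namespace Cfsg.Agent.S5271P

open Cfsg Cfsg.FusionSystem Cfsg.Agent.Helper25 Cfsg.Agent.Helper26.MasterRed

/-- R1 -/
theorem r1 {Ω : Type*} [Group Ω] {S : Subgroup Ω} [Finite S] (p : ℕ) [Fact p.Prime]
    (F : FusionSystem S) : R1Concl p F := by
  intro E V hErec hEV hCV hVN hVp α hα hnorm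
  have hES : E ≤ S := hErec.1
  have hVS : V ≤ S := hVN.trans inf_le_left
  have hVfin : Finite V := finite_of_le hVS
  have hφ : autHom α ∈ F.Hom E := (mem_autGroup_iff F hES α).mp hα
  obtain ⟨ψ, hψ, hext⟩ := hErec.2 E (autHom α) hφ (autHom_range α)
  have hVext : V ≤ extender S E (autHom α) := by
    intro v hv
    apply Subgroup.subset_closure
    obtain ⟨w, hw, hwx⟩ := hnorm v hv
    exact ⟨hVS hv, (hVN hv).2, w, hVS hw, fun x hx => hwx x hx⟩
  obtain ⟨χ, hχe⟩ : ∃ χ : V →* Ω, χ = ψ.comp (Subgroup.inclusion hVext) := ⟨_, rfl⟩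
  have hχ : χ ∈ F.Hom V := by
    rw [hχe]
    exact restrict_mem F hVext hψ
  have hχE : ∀ x : E, χ ⟨x, hEV x.2⟩ = ((α x : E) : Ω) := by
    intro x
    rw [hχe]
    exact hext x x.2 (hVext (hEV x.2))
  have hχV : ∀ v : V, χ v ∈ V := by
    intro v
    obtain ⟨w, hw, hwx⟩ := hnorm v v.2
    have hχS : χ v ∈ S := (F.le_of_mem hχ).2 v
    have hc : w⁻¹ * χ v ∈ centralizerIn S E := by
      refine Subgroup.mem_inf.mpr ⟨S.mul_mem (S.inv_mem (hVS hw)) hχS, ?_⟩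
      rw [Subgroup.mem_centralizer_iff]
      intro y hy
      obtain ⟨x, rfl⟩ : ∃ x : E, ((α x : E) : Ω) = y := ⟨α.symm ⟨y, hy⟩, by simp⟩
      have hx : (v : Ω) * x * (v : Ω)⁻¹ ∈ E :=
        (Subgroup.mem_normalizer_iff.mp (hVN v.2).2 x).mp x.2
      have h1 := hwx x hx
      have h2 : χ ⟨(v : Ω) * x * (v : Ω)⁻¹, hEV hx⟩ = χ v * χ ⟨x, hEV x.2⟩ * (χ v)⁻¹ := by
        have e : (⟨(v : Ω) * x * (v : Ω)⁻¹, hEV hx⟩ : V) = v * ⟨x, hEV x.2⟩ * v⁻¹ :=
          Subtype.ext rfl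
        rw [e, map_mul, map_mul, map_inv]
      rw [hχE ⟨_, hx⟩, h1, hχE] at h2
      -- `w * a * w⁻¹ = c * a * c⁻¹` gives `a * (w⁻¹ * c) = (w⁻¹ * c) * a`
      have h3 : ((α x : E) : Ω) * (w⁻¹ * χ v) = w⁻¹ * (w * ((α x : E) : Ω) * w⁻¹) * χ v := by
        group
      rw [h3, h2]
      group
    have e : χ v = w * (w⁻¹ * χ v) := by group
    rw [e]
    exact V.mul_mem hw (hCV hc)
  have hinj : Function.Injective χ := F.injective_of_mem hχ
  have hr : χ.range = V := by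
    have hle : χ.range ≤ V := by
      rintro _ ⟨v, rfl⟩
      exact hχV v
    apply Subgroup.eq_of_le_of_card_ge hle
    exact (Nat.card_congr (MonoidHom.ofInjective hinj).toEquiv).le
  obtain ⟨γ, hγe⟩ : ∃ γ : MulAut V, γ = isoOfHom χ hinj hr := ⟨_, rfl⟩
  have hγχ : autHom γ = χ := by
    ext x
    rw [hγe]
    rfl
  have hγ : γ ∈ F.autGroup V := by
    rw [mem_autGroup_iff F hVS, hγχ]
    exact hχ
  obtain ⟨k, hk⟩ := hVp ⟨γ, hγ⟩
  have hk' : γ ^ (p ^ k) = 1 := by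
    have := congrArg (fun z : F.autGroup V => (z : MulAut V)) hk
    simpa using this
  refine ⟨k, pow_eq_one_of_extends hEV α γ ?_ hk'⟩
  intro x
  apply Subtype.ext
  have h1 : ((γ (Subgroup.inclusion hEV x) : V) : Ω) = χ (Subgroup.inclusion hEV x) := by
    rw [← hγχ]
    rfl
  rw [h1]
  exact hχE x

end Cfsg.Agent.S5271P
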