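import Mathlib
import Cfsg.Agent.Helper26.WEDefs
import Cfsg.Agent.Helper13.WEFRAT

set_option autoImplicit false
set_option linter.unusedSectionVars false

/-! Piece R3 of S5271: the main local argument. -/

namespace Cfsg.Agent.S5271P

open Cfsg Cfsg.FusionSystem Cfsg.Agent.Helper25 Cfsg.Agent.Helper26.MasterRed

namespace R3

variable {Ω : Type*} [Group Ω]

/-- `a` agrees with conjugation by `e` modulo `T`. -/
def Rel (T : Subgroup Ω) {E : Subgroup Ω} (a : MulAut E) (e : E) : Prop :=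
  ∀ x : E, ((a x : E) : Ω) * ((e : Ω) * (x : Ω) * (e : Ω)⁻¹)⁻¹ ∈ T

theorem rel_one (T : Subgroup Ω) {E : Subgroup Ω} : Rel T (1 : MulAut E) 1 := by
  intro x
  simp

theorem rel_mul {T E : Subgroup Ω} {a b : MulAut E} {e f : E}
    (haT : ∀ x : E, (x : Ω) ∈ T → ((a x : E) : Ω) ∈ T)
    (ha : Rel T a e) (hb : Rel T b f) : Rel T (a * b) (e * f) := by
  intro x
  have h1 := hb x
  have h2 := ha (f * x * f⁻¹)
  -- `u = b x * (f x f⁻¹)⁻¹` as an element of `E`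
  have h3 := haT (b x * (f * x * f⁻¹)⁻¹) (by simpa using h1)
  have e1 : (((a * b) x : E) : Ω) * (((e * f : E) : Ω) * (x : Ω) * ((e * f : E) : Ω)⁻¹)⁻¹ =
      ((a (b x * (f * x * f⁻¹)⁻¹) : E) : Ω) *
        (((a (f * x * f⁻¹) : E) : Ω) * ((e : Ω) * ((f * x * f⁻¹ : E) : Ω) * (e : Ω)⁻¹)⁻¹) := by
    rw [MulAut.mul_apply, map_mul a (b x)]
    simp only [Subgroup.coe_mul, Subgroup.coe_inv, map_inv, map_mul]
    group
  rw [e1]
  exact T.mul_mem h3 h2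

theorem rel_inv {T E : Subgroup Ω} {a : MulAut E} {e : E}
    (hET : ∀ y : E, ∀ t ∈ T, (y : Ω) * t * (y : Ω)⁻¹ ∈ T)
    (ha : Rel T a e) : Rel T a⁻¹ e⁻¹ := by
  intro x
  have h1 := ha (a⁻¹ x)
  rw [MulAut.apply_inv_self] at h1
  have h2 := hET e⁻¹ _ (T.inv_mem h1)
  have e1 : ((a⁻¹ x : E) : Ω) * (((e⁻¹ : E) : Ω) * (x : Ω) * ((e⁻¹ : E) : Ω)⁻¹)⁻¹ =
      ((e⁻¹ : E) : Ω) * ((x : Ω) * ((e : Ω) * ((a⁻¹ x : E) : Ω) * (e : Ω)⁻¹)⁻¹)⁻¹ *
        ((e⁻¹ : E) : Ω)⁻¹ := by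
    simp only [Subgroup.coe_inv]
    group
  rw [e1]
  exact h2

theorem rel_conj {T E : Subgroup Ω} {a g : MulAut E} {e : E}
    (hgT : ∀ x : E, (x : Ω) ∈ T → ((g x : E) : Ω) ∈ T)
    (ha : Rel T a e) : Rel T (g * a * g⁻¹) (g e) := by
  intro x
  have h1 := ha (g⁻¹ x)
  have h2 := hgT (a (g⁻¹ x) * (e * g⁻¹ x * e⁻¹)⁻¹) (by simpa using h1)
  have e1 : (((g * a * g⁻¹) x : E) : Ω) * (((g e : E) : Ω) * (x : Ω) * ((g e : E) : Ω)⁻¹)⁻¹ =
      ((g (a (g⁻¹ x) * (e * g⁻¹ x * e⁻¹)⁻¹) : E) : Ω) := by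
    rw [MulAut.mul_apply, MulAut.mul_apply]
    simp only [map_mul, map_inv, MulAut.apply_inv_self, Subgroup.coe_mul, Subgroup.coe_inv]
  rw [e1]
  exact h2

theorem rel_pow {T E : Subgroup Ω} {a : MulAut E} {e : E}
    (haT : ∀ x : E, (x : Ω) ∈ T → ((a x : E) : Ω) ∈ T)
    (ha : Rel T a e) (n : ℕ) : Rel T (a ^ n) (e ^ n) := by
  induction n with
  | zero => simpa using rel_one T
  | succ n ih =>
    rw [pow_succ', pow_succ']
    exact rel_mul haT ha ih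

end R3

/-- R3 -/
theorem r3 {Ω : Type*} [Group Ω] {S : Subgroup Ω} [Finite S] (p : ℕ) [Fact p.Prime]
    (hS : IsPGroup p S) (F : FusionSystem S) (hF : F.IsSaturated p) (hR1 : R1Concl p F)
    {E T : Subgroup Ω} (hEfa : F.IsFullyAutomized p E) (hErec : F.IsReceptive E)
    (hCE : centralizerIn S E ≤ E)
    (hbig : ∀ V : Subgroup Ω, V ≤ S → E < V → IsPGroup p (F.autGroup V))
    (hT : F.StronglyClosed T) (hTE : ¬ T ≤ E) (β : MulAut E) (hβ : β ∈ F.autGroup E)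
    (hcop : (orderOf β).Coprime p) (x : E) : (x : Ω)⁻¹ * ((β x : E) : Ω) ∈ T := by
  open scoped Pointwise in
  have hpp : p.Prime := Fact.out
  have hES : E ≤ S := hErec.1
  have hTS : T ≤ S := hT.1
  have hEfin : Finite E := finite_of_le hES
  have hEp : IsPGroup p E := isPGroup_of_le hS hES
  have hSNT : S ≤ Subgroup.normalizer (T : Set Ω) := le_normalizer_of_stronglyClosed F hT
  have hconjT : ∀ s ∈ S, ∀ t ∈ T, s * t * s⁻¹ ∈ T := fun s hs t ht =>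
    (Subgroup.mem_normalizer_iff.mp (hSNT hs) t).mp ht
  have hET : ∀ y : E, ∀ t ∈ T, (y : Ω) * t * (y : Ω)⁻¹ ∈ T := fun y t ht => hconjT _ (hES y.2) t ht
  have hAT : ∀ a : MulAut E, a ∈ F.autGroup E → ∀ x : E, (x : Ω) ∈ T → ((a x : E) : Ω) ∈ T :=
    fun a ha x hx => autGroup_apply_mem_of_stronglyClosed F hT hES a ha x hx
  -- the normal subgroup `L` of `A = Aut_F(E)`
  obtain ⟨L, hLe⟩ : ∃ L : Subgroup ↥(F.autGroup E), L =
      { carrier := {a | ∃ e : E, R3.Rel T (a : MulAut E) e}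
        one_mem' := ⟨1, R3.rel_one T⟩
        mul_mem' := by
          rintro a b ⟨e, he⟩ ⟨f, hf⟩
          exact ⟨e * f, R3.rel_mul (hAT _ a.2) he hf⟩
        inv_mem' := by
          rintro a ⟨e, he⟩
          exact ⟨e⁻¹, R3.rel_inv hET he⟩ } := ⟨_, rfl⟩
  have hLmem : ∀ a : ↥(F.autGroup E), a ∈ L ↔ ∃ e : E, R3.Rel T (a : MulAut E) e := by
    intro a
    rw [hLe]
    rfl
  have hLn : L.Normal := by
    refine ⟨fun a ha g => ?_⟩
    rw [hLmem] at ha ⊢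
    obtain ⟨e, he⟩ := ha
    exact ⟨(g : MulAut E) e, R3.rel_conj (hAT _ g.2) he⟩
  obtain ⟨P, hP⟩ := hEfa.2
  -- conjugation homomorphism `N_S(E) → A`
  have hcmem : ∀ s : ↥(normalizerIn S E),
      ((E.normalizerMonoidHom).comp (Subgroup.inclusion (inf_le_right :
        normalizerIn S E ≤ Subgroup.normalizer (E : Set Ω)))) s ∈ F.autGroup E := by
    intro s
    apply autInducedBy_le_autGroup F hES
    rw [mem_autInducedBy_iff]
    exact ⟨s, s.2.1, fun x => rfl⟩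
  obtain ⟨c, hce⟩ : ∃ c : ↥(normalizerIn S E) →* ↥(F.autGroup E), c =
      ((E.normalizerMonoidHom).comp (Subgroup.inclusion (inf_le_right :
        normalizerIn S E ≤ Subgroup.normalizer (E : Set Ω)))).codRestrict (F.autGroup E) hcmem :=
    ⟨_, rfl⟩
  have hcapp : ∀ (s : ↥(normalizerIn S E)) (y : E),
      ((((c s : ↥(F.autGroup E)) : MulAut E) y : E) : Ω) = (s : Ω) * y * (s : Ω)⁻¹ := by
    intro s y
    rw [hce]
    rfl
  have hcP : ∀ s : ↥(normalizerIn S E), c s ∈ (P : Subgroup ↥(F.autGroup E)) := by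
    intro s
    rw [hP]
    show ((c s : ↥(F.autGroup E)) : MulAut E) ∈ autInducedBy S E
    rw [mem_autInducedBy_iff]
    exact ⟨s, s.2.1, fun y => hcapp s y⟩
  -- the subgroup `V`
  obtain ⟨V, hVe⟩ : ∃ V : Subgroup Ω, V = (L.comap c).map (normalizerIn S E).subtype := ⟨_, rfl⟩
  have hVmem : ∀ v : Ω, v ∈ V ↔ ∃ hv : v ∈ normalizerIn S E, c ⟨v, hv⟩ ∈ L := by
    intro v
    rw [hVe]
    constructor
    · rintro ⟨s, hs, rfl⟩
      exact ⟨s.2, hs⟩
    · rintro ⟨hv, hs⟩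
      exact ⟨⟨v, hv⟩, hs, rfl⟩
  have hVN : V ≤ normalizerIn S E := fun v hv => ((hVmem v).mp hv).1
  have hVS : V ≤ S := hVN.trans inf_le_left
  have hEN : E ≤ normalizerIn S E := fun y hy => ⟨hES hy, Subgroup.le_normalizer hy⟩
  have hEV : E ≤ V := by
    intro y hy
    rw [hVmem]
    refine ⟨hEN hy, ?_⟩
    rw [hLmem]
    refine ⟨⟨y, hy⟩, fun z => ?_⟩
    rw [hcapp]
    simp
  -- `E < V`
  have hEltV : E < V := by
    refine lt_of_le_of_ne hEV ?_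
    intro hEVeq
    have hETS : E ⊔ T ≤ S := sup_le hES hTS
    have hfinET : Finite ↥(E ⊔ T) := finite_of_le hETS
    have hETp : IsPGroup p ↥(E ⊔ T) := isPGroup_of_le hS hETS
    have hne : E ≠ E ⊔ T := by
      intro h
      exact hTE (le_sup_right.trans h.ge)
    obtain ⟨g, hgN, hgE⟩ :=
      exists_mem_normalizerIn_not_mem (S := E ⊔ T) p hETp le_sup_left hne
    have hg1 : g ∈ ((E ⊔ T : Subgroup Ω) : Set Ω) := hgN.1
    rw [Subgroup.coe_mul_of_left_le_normalizer_right E T (hES.trans hSNT)] at hg1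
    obtain ⟨e, he, t, ht, rfl⟩ := hg1
    have hetN : e * t ∈ Subgroup.normalizer (E : Set Ω) := hgN.2
    have htN : t ∈ Subgroup.normalizer (E : Set Ω) := by
      have h1 := Subgroup.mul_mem _ (Subgroup.inv_mem _ (Subgroup.le_normalizer he)) hetN
      rwa [inv_mul_cancel_left] at h1
    have htE : t ∉ E := fun h => hgE (E.mul_mem he h)
    have htNS : t ∈ normalizerIn S E := ⟨hTS ht, htN⟩
    apply htE
    rw [hEVeq, hVmem]
    refine ⟨htNS, ?_⟩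
    rw [hLmem]
    refine ⟨1, fun y => ?_⟩
    rw [hcapp]
    have h1 : (y : Ω) * t⁻¹ * (y : Ω)⁻¹ ∈ T := hET y _ (T.inv_mem ht)
    have e1 : t * (y : Ω) * t⁻¹ * (((1 : E) : Ω) * (y : Ω) * ((1 : E) : Ω)⁻¹)⁻¹ =
        t * ((y : Ω) * t⁻¹ * (y : Ω)⁻¹) := by
      simp only [Subgroup.coe_one]
      group
    rw [e1]
    exact T.mul_mem ht h1
  have hVp : IsPGroup p (F.autGroup V) := hbig V hVS hEltV
  -- the normalizer of `L ⊓ P` is a `p`-group
  have hNp : IsPGroup p (Subgroup.normalizer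
      ((L ⊓ (P : Subgroup ↥(F.autGroup E)) : Subgroup ↥(F.autGroup E)) : Set ↥(F.autGroup E))) := by
    rintro ⟨⟨α, hα⟩, hg⟩
    have hnorm : ∀ v ∈ V, ∃ w ∈ V, ∀ (y : E) (hy : v * (y : Ω) * v⁻¹ ∈ E),
        ((α ⟨v * (y : Ω) * v⁻¹, hy⟩ : E) : Ω) = w * ((α y : E) : Ω) * w⁻¹ := by
      intro v hv
      obtain ⟨hvN, hvL⟩ := (hVmem v).mp hv
      have h1 : c ⟨v, hvN⟩ ∈ L ⊓ (P : Subgroup ↥(F.autGroup E)) := ⟨hvL, hcP _⟩
      have h2 : (⟨α, hα⟩ : ↥(F.autGroup E)) * c ⟨v, hvN⟩ * (⟨α, hα⟩ : ↥(F.autGroup E))⁻¹ ∈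
          L ⊓ (P : Subgroup ↥(F.autGroup E)) := (Subgroup.mem_normalizer_iff.mp hg _).mp h1
      obtain ⟨h2L, h2P⟩ := h2
      rw [SetLike.mem_coe, hP] at h2P
      obtain ⟨δ, hδe⟩ : ∃ δ : MulAut E, δ = α * ((c ⟨v, hvN⟩ : ↥(F.autGroup E)) : MulAut E) * α⁻¹ :=
        ⟨_, rfl⟩
      have h3 : δ ∈ autInducedBy S E := by
        rw [hδe]
        exact h2P
      rw [mem_autInducedBy_iff] at h3
      obtain ⟨w, hwS, hw⟩ := h3
      have hwN : w ∈ Subgroup.normalizer (E : Set Ω) := by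
        rw [Subgroup.mem_normalizer_iff]
        intro h
        constructor
        · intro hh
          rw [← hw ⟨h, hh⟩]
          exact (δ ⟨h, hh⟩).2
        · intro hh
          have h4 := hw (δ.symm ⟨w * h * w⁻¹, hh⟩)
          rw [MulEquiv.apply_symm_apply] at h4
          have h5 : h = ((δ.symm ⟨w * h * w⁻¹, hh⟩ : E) : Ω) :=
            mul_left_cancel (mul_right_cancel h4)
          rw [h5]
          exact (δ.symm ⟨w * h * w⁻¹, hh⟩).2
      have hwNS : w ∈ normalizerIn S E := ⟨hwS, hwN⟩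
      have hcw : c ⟨w, hwNS⟩ =
          (⟨α, hα⟩ : ↥(F.autGroup E)) * c ⟨v, hvN⟩ * (⟨α, hα⟩ : ↥(F.autGroup E))⁻¹ := by
        apply Subtype.ext
        apply MulEquiv.ext
        intro y
        apply Subtype.ext
        rw [hcapp]
        have h7 := hw y
        rw [hδe] at h7
        exact h7.symm
      refine ⟨w, (hVmem w).mpr ⟨hwNS, ?_⟩, ?_⟩
      · rw [hcw]
        exact h2L
      · intro y hy
        have h6 := hw (α y)
        rw [hδe, MulAut.mul_apply, MulAut.mul_apply, MulAut.inv_apply_self] at h6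
        rw [← h6]
        congr 2
        apply Subtype.ext
        rw [hcapp]
    obtain ⟨k, hk⟩ := hR1 E V hErec hEV (hCE.trans hEV) hVN hVp α hα hnorm
    refine ⟨k, ?_⟩
    apply Subtype.ext
    apply Subtype.ext
    simpa using hk
  have hβL : (⟨β, hβ⟩ : ↥(F.autGroup E)) ∈ L := by
    have := hLn
    apply frat p P L hNp
    rw [Subgroup.orderOf_mk]
    exact hcop
  rw [hLmem] at hβL
  obtain ⟨e, he⟩ := hβL
  obtain ⟨k, hk⟩ := hEp e
  have h1 := R3.rel_pow (hAT β hβ) he (p ^ k)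
  rw [hk] at h1
  have hcop' : (p ^ k).Coprime (orderOf β) := (Nat.Coprime.pow_right k hcop).symm
  obtain ⟨j, hj⟩ := exists_pow_eq_self_of_coprime hcop'
  have hγT : ∀ x : E, (x : Ω) ∈ T → (((β ^ (p ^ k)) x : E) : Ω) ∈ T :=
    hAT _ (Subgroup.pow_mem _ hβ _)
  have h2 := R3.rel_pow hγT h1 j
  rw [hj, one_pow] at h2
  have h3 := h2 x
  have h4 := hET x⁻¹ _ h3
  have e1 : ((x⁻¹ : E) : Ω) * (((β x : E) : Ω) * (((1 : E) : Ω) * (x : Ω) * ((1 : E) : Ω)⁻¹)⁻¹) *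
      ((x⁻¹ : E) : Ω)⁻¹ = (x : Ω)⁻¹ * ((β x : E) : Ω) := by
    simp only [Subgroup.coe_one, Subgroup.coe_inv]
    group
  rw [e1] at h4
  exact h4

end Cfsg.Agent.S5271P
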