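import Mathlib
import Cfsg.Agent.Helper26.WEDefs

set_option autoImplicit false

namespace Cfsg.Agent.S5271P

open Cfsg Cfsg.FusionSystem Cfsg.Agent.Helper25 Cfsg.Agent.Helper26.MasterRed

/-- XM -/
theorem xm {Ω : Type*} [Group Ω] {S : Subgroup Ω} [Finite S] (F : FusionSystem S)
    {X : Subgroup Ω} (hX : F.StronglyClosed X) (h : NInner F X) : InnerMod F X := by
  intro P hXP φ hφ
  have hPS : P ≤ S := (F.le_of_mem hφ).1
  have hSN := le_normalizer_of_stronglyClosed F hX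
  have hXfin : Finite X := finite_of_le hX.1
  have hφS : ∀ x, φ x ∈ S := (F.le_of_mem hφ).2
  have hmap : (X.subgroupOf P).map φ = X := by
    apply map_eq_of_map_le (F.injective_of_mem hφ) _ hXP
    rintro _ ⟨x, hx, rfl⟩
    have h1 := restrict_mem F hXP hφ
    exact hX.2 X le_rfl _ h1 ⟨x, hx⟩
  have hN : φ ∈ F.normalizerHom X P :=
    mem_normalizerHom_of_le F hXP hφ (fun x hx => ⟨hPS hx, hSN (hPS hx)⟩)
      (fun x => ⟨hφS x, hSN (hφS x)⟩) hmap
  obtain ⟨g, hg, hgx⟩ := h P φ hN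
  refine ⟨g, hg.1, fun x => ?_⟩
  rw [hgx x, mul_inv_cancel]
  exact X.one_mem

end Cfsg.Agent.S5271P
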