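import Mathlib
import Cfsg.Agent.Helper26.WEDefs
import Cfsg.Agent.Helper26.WELEMA
import Cfsg.Agent.Helper26.WELEMB
import Cfsg.Agent.Helper26.WER1
import Cfsg.Agent.Helper26.WER3
import Cfsg.Agent.Helper26.WEFACT
import Cfsg.Agent.Helper13.WELEMA2
import Cfsg.Agent.Helper13.WEC4
import Cfsg.Agent.Helper13.WETRI
import Cfsg.Agent.Helper13.WEXP
import Cfsg.Agent.Helper5.WEFIN
import Cfsg.Agent.Helper5.WEIMOD
import Cfsg.Agent.Helper5.WEHYPLE
import Cfsg.Agent.Helper26.WEXM
import Cfsg.Agent.Helper26.WEEXT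
import Cfsg.Agent.Helper26.WEFWD

set_option autoImplicit false
set_option linter.unusedSectionVars false

/-! Assembly for S5271: a saturated fusion system in which every subgroup of one fixed order
`p ^ d` (`1 ≤ d`, `p ^ d < |S|`) is weakly embedded and has inner normalizer system (when fully
normalized) is inner. -/

namespace Cfsg.Agent.S5271P

open Cfsg Cfsg.FusionSystem Cfsg.Agent.Helper25 Cfsg.Agent.Helper26.MasterRed

universe u

section

variable {Ω : Type*} [Group Ω] {S : Subgroup Ω}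

/-- `Aut_F(R)` is a `p`-group for `|R| ≥ p ^ d`. -/
theorem autP [Finite S] (p : ℕ) [Fact p.Prime] (hS : IsPGroup p S) (F : FusionSystem S)
    (hF : F.IsSaturated p) {d : ℕ} (hWE : WE F (p ^ d)) (hNI : NI F (p ^ d)) {R : Subgroup Ω}
    (hRS : R ≤ S) (hR : p ^ d ≤ Nat.card R) : IsPGroup p (F.autGroup R) := by
  have hRfin : Finite R := finite_of_le hRS
  apply Cfsg.Agent.Helper26.TT.isPGroup_of_coprime_trivial p
  rintro ⟨α, hα⟩ hcop
  apply Subtype.ext
  show α = 1
  have hcop' : (orderOf α).Coprime p := by rwa [Subgroup.orderOf_mk] at hcop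
  have hA : ∀ H : Subgroup Ω, H ≤ R → Nat.card H = p ^ d → Inv α H →
      ∀ x : R, (x : Ω) ∈ Subgroup.normalizer (H : Set Ω) → α x = x :=
    fun H hHR hHm hinv x hx => lemA p hS F hF hNI hRS hHR hHm α hα hcop' hinv x hx
  have hA2 : ∀ H : Subgroup Ω, H ≤ R → Nat.card H = p ^ d → Inv α H → α = 1 :=
    fun H hHR hHm hinv => lemA2 p (isPGroup_of_le hS hRS) α hA hHR hHm hinv
  by_contra hne
  rcases hR.eq_or_lt with h | h
  · exact hne (hA2 R le_rfl h.symm (fun x _ => (α x).2))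
  · exact lemB p hS F hWE hRS h α hα (fun H hHR hHm hinv => hne (hA2 H hHR hHm hinv))

/-- A fully normalized subgroup of largest order whose automizer is not a `p`-group. -/
theorem exists_maxE [Finite S] (p : ℕ) [Fact p.Prime] (F : FusionSystem S)
    (h : ¬ ∀ R : Subgroup Ω, R ≤ S → IsPGroup p (F.autGroup R)) :
    ∃ E : Subgroup Ω, F.IsFullyNormalized E ∧ ¬ IsPGroup p (F.autGroup E) ∧
      ∀ V : Subgroup Ω, V ≤ S → Nat.card E < Nat.card V → IsPGroup p (F.autGroup V) := by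
  classical
  let T : Set ℕ := {k | ∃ R : Subgroup Ω, R ≤ S ∧ ¬ IsPGroup p (F.autGroup R) ∧ Nat.card R = k}
  have hTne : T.Nonempty := by
    by_contra hc
    apply h
    intro R hR
    by_contra h3
    exact hc ⟨_, R, hR, h3, rfl⟩
  have hbdd : BddAbove T := by
    refine ⟨Nat.card S, ?_⟩
    rintro k ⟨R, hR, -, rfl⟩
    exact card_le_of_le hR
  obtain ⟨R, hRS, hRn, hRc⟩ := Nat.sSup_mem hTne hbdd
  obtain ⟨E, hconj, hfn⟩ := exists_isConj_fullyNormalized F hRS
  have hRfin : Finite R := finite_of_le hRS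
  have hEfin : Finite E := finite_of_le hfn.1
  refine ⟨E, hfn, ?_, ?_⟩
  · intro hE
    apply hRn
    have h2 := card_autGroup_eq_of_isConj F hconj
    rw [IsPGroup.iff_card] at hE ⊢
    obtain ⟨m, hm⟩ := hE
    exact ⟨m, h2.trans hm⟩
  · intro V hV hlt
    by_contra h4
    have h5 : Nat.card V ≤ sSup T := le_csSup hbdd ⟨V, hV, h4, rfl⟩
    have h6 := card_eq_of_isConj F hconj
    omega

end

/-- The factor system modulo a strongly closed subgroup, packaged. -/
theorem exists_factor {Ω : Type u} [Group Ω] {S : Subgroup Ω} [Finite S] (p : ℕ) [Fact p.Prime]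
    (hS : IsPGroup p S) (F : FusionSystem S) (hF : F.IsSaturated p) {T : Subgroup Ω}
    (hT : F.StronglyClosed T) :
    ∃ (Ω' : Type u) (_ : Group Ω') (S' : Subgroup Ω') (_ : Finite S') (θ : S →* Ω')
      (E : FusionSystem S'),
      (∀ s : S, θ s = 1 ↔ (s : Ω) ∈ T) ∧ θ.range = S' ∧
      (∀ (P' : Subgroup Ω') (φ' : P' →* Ω'),
        φ' ∈ E.Hom P' ↔ P' ≤ S' ∧ ∃ φ ∈ F.Hom (preimageAlong θ P'), InducedAlong θ φ φ') ∧
      IsPGroup p S' ∧ E.IsSaturated p ∧ Nat.card S' * Nat.card T = Nat.card S := by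
  have hTS : T ≤ S := hT.1
  have hSN : S ≤ Subgroup.normalizer (T : Set Ω) := le_normalizer_of_stronglyClosed F hT
  have hTn : (T.subgroupOf S).Normal := Subgroup.normal_subgroupOf_of_le_normalizer hSN
  have hker : ∀ s : S, QuotientGroup.mk' (T.subgroupOf S) s = 1 ↔ (s : Ω) ∈ T := by
    intro s
    rw [QuotientGroup.mk'_apply, QuotientGroup.eq_one_iff]
    rfl
  have hrange : (QuotientGroup.mk' (T.subgroupOf S)).range = ⊤ :=
    MonoidHom.range_eq_top.mpr (QuotientGroup.mk'_surjective _)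
  have hfs := factorSystem_isFactorSystem F hT (QuotientGroup.mk' (T.subgroupOf S)) hker hrange
  obtain ⟨F', hF'e⟩ : ∃ F' : FusionSystem (⊤ : Subgroup (↥S ⧸ T.subgroupOf S)),
      F' = factorSystem F hT (QuotientGroup.mk' (T.subgroupOf S)) hker hrange := ⟨_, rfl⟩
  rw [← hF'e] at hfs
  have hiff := hfs.2.2.2
  have hS' : IsPGroup p ↥(⊤ : Subgroup (↥S ⧸ T.subgroupOf S)) :=
    (hS.to_quotient (T.subgroupOf S)).to_subgroup ⊤
  have hF'sat : F'.IsSaturated p :=
    factor_isSaturated F hT (QuotientGroup.mk' (T.subgroupOf S)) hker hrange F' hiff p hS hF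
  have hcard' : Nat.card ↥(⊤ : Subgroup (↥S ⧸ T.subgroupOf S)) * Nat.card T = Nat.card S := by
    rw [Nat.card_congr (Subgroup.topEquiv (G := ↥S ⧸ T.subgroupOf S)).toEquiv,
      Subgroup.card_eq_card_quotient_mul_card_subgroup (T.subgroupOf S),
      Nat.card_congr (Subgroup.subgroupOfEquivOfLe hTS).toEquiv]
  exact ⟨_, _, _, inferInstance, _, F', hker, hrange, hiff, hS', hF'sat, hcard'⟩

/-- Induction step: the hyperfocal subgroup lies in every nontrivial strongly closed subgroup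
of order less than `p ^ d`. -/
theorem c3 (p : ℕ) [Fact p.Prime] (n : ℕ)
    (IH : ∀ k < n, ∀ (Ω : Type u) [Group Ω] (S : Subgroup Ω) [Finite S], Nat.card S = k →
      IsPGroup p S → ∀ F : FusionSystem S, F.IsSaturated p → ∀ d : ℕ, 1 ≤ d → p ^ d < k →
      WE F (p ^ d) → NI F (p ^ d) → Inner F)
    (Ω : Type u) [Group Ω] (S : Subgroup Ω) [Finite S] (hcard : Nat.card S = n)
    (hS : IsPGroup p S) (F : FusionSystem S) (hF : F.IsSaturated p) (d : ℕ)
    (hdS : p ^ d < n) (hWE : WE F (p ^ d)) (hNI : NI F (p ^ d)) {T : Subgroup Ω}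
    (hT : F.StronglyClosed T) (hT1 : T ≠ ⊥) (hTd : Nat.card T < p ^ d) :
    F.hyperfocalSubgroup p ≤ T := by
  have hpp : p.Prime := Fact.out
  have hTS : T ≤ S := hT.1
  have hTfin : Finite T := finite_of_le hTS
  have hTp : IsPGroup p T := isPGroup_of_le hS hTS
  obtain ⟨t, ht⟩ := IsPGroup.iff_card.mp hTp
  have htd : t < d := by
    rw [ht] at hTd
    exact (Nat.pow_lt_pow_iff_right hpp.one_lt).mp hTd
  obtain ⟨Ω', _, S', _, θ, F', hker, hrange, hiff, hS', hF'sat, hcard'⟩ :=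
    exists_factor p hS F hF hT
  have hm : p ^ d = Nat.card T * p ^ (d - t) := by
    rw [ht, ← pow_add]
    congr 1
    omega
  have hWE' : WE F' (p ^ (d - t)) := factWE F hT θ hker hrange F' hiff hm hWE
  have hNI' : NI F' (p ^ (d - t)) := factNI p hS F hT θ hker hrange F' hiff hm hNI
  have hT1' : 1 < Nat.card T := one_lt_card_of_ne_bot hT1
  have hnpos : 0 < n := by rw [← hcard]; exact Nat.card_pos
  have hlt' : Nat.card S' < n := by
    have hpos : 0 < Nat.card S' := Nat.card_pos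
    rw [hcard] at hcard'
    nlinarith
  have hd' : p ^ (d - t) < Nat.card S' := by
    have h1 : p ^ (d - t) * p ^ t < Nat.card S' * p ^ t := by
      rw [← pow_add, Nat.sub_add_cancel htd.le, ← ht, hcard', hcard]
      exact hdS
    exact Nat.lt_of_mul_lt_mul_right h1
  have hinner' : Inner F' :=
    IH _ hlt' Ω' S' rfl hS' F' hF'sat (d - t) (by omega) hd' hWE' hNI'
  exact hyple p hS F hF hT θ hker hrange F' hiff hinner'

/-- **Main theorem** (the hard direction of S5271). -/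
theorem main (p : ℕ) [Fact p.Prime] :
    ∀ (n : ℕ) (Ω : Type u) [Group Ω] (S : Subgroup Ω) [Finite S], Nat.card S = n →
      IsPGroup p S → ∀ F : FusionSystem S, F.IsSaturated p → ∀ d : ℕ, 1 ≤ d → p ^ d < n →
      WE F (p ^ d) → NI F (p ^ d) → Inner F := by
  intro n
  induction n using Nat.strong_induction_on with
  | _ n IH =>
  intro Ω _ S _ hcard hS F hF d hd hdS hWE hNI
  have hpp : p.Prime := Fact.out
  by_cases hall : ∀ R : Subgroup Ω, R ≤ S → IsPGroup p (F.autGroup R)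
  · exact inner_of_eq F (Cfsg.Agent.S5083.result p hS F hF hall)
  obtain ⟨E, hEfn, hEnp, hEmax⟩ := exists_maxE p F hall
  have hES : E ≤ S := hEfn.1
  have hEfin : Finite E := finite_of_le hES
  have hR1 : R1Concl p F := r1 p F
  obtain ⟨hEfc, hEfa⟩ := Cfsg.Agent.S5077.sylow_axiom p hS F hF E hEfn
  have hErec : F.IsReceptive E := Cfsg.Agent.S5077.extension_axiom p hS F hF E hEfc
  have hbig : ∀ V : Subgroup Ω, V ≤ S → E < V → IsPGroup p (F.autGroup V) := by
    intro V hV hEV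
    have : Finite V := finite_of_le hV
    exact hEmax V hV (card_lt_of_lt hEV.le hEV.ne)
  -- `|E| < p ^ d`
  have hEd : Nat.card E < p ^ d := by
    by_contra hc
    exact hEnp (autP p hS F hF hWE hNI hES (not_lt.mp hc))
  -- `C_S(E) ≤ E`
  have hCE : centralizerIn S E ≤ E := by
    by_contra hc
    apply hEnp
    apply ext p F hR1 hErec
    apply hbig _ (sup_le hES inf_le_left)
    refine lt_of_le_of_ne le_sup_left ?_
    intro h
    exact hc (le_sup_right.trans h.ge)
  -- the strongly closed subgroups containing all `[E, β]`, `β` a `p'`-element of `Aut_F(E)`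
  obtain ⟨𝒯, h𝒯⟩ : ∃ 𝒯 : Set (Subgroup Ω), 𝒯 = {T | F.StronglyClosed T ∧
      ∀ β : MulAut E, β ∈ F.autGroup E → (orderOf β).Coprime p →
        ∀ x : E, (x : Ω)⁻¹ * ((β x : E) : Ω) ∈ T} := ⟨_, rfl⟩
  have hmem𝒯 : ∀ T : Subgroup Ω, T ∈ 𝒯 ↔ (F.StronglyClosed T ∧
      ∀ β : MulAut E, β ∈ F.autGroup E → (orderOf β).Coprime p →
        ∀ x : E, (x : Ω)⁻¹ * ((β x : E) : Ω) ∈ T) := by
    intro T
    rw [h𝒯]
    rfl
  have hS𝒯 : S ∈ 𝒯 := by
    rw [hmem𝒯]
    exact ⟨⟨le_rfl, fun R _ φ hφ x => (F.le_of_mem hφ).2 x⟩,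
      fun β _ _ x => S.mul_mem (S.inv_mem (hES x.2)) (hES (β x).2)⟩
  obtain ⟨X, hXe⟩ : ∃ X : Subgroup Ω, X = sInf 𝒯 := ⟨_, rfl⟩
  have hX𝒯 : X ∈ 𝒯 := by
    rw [hmem𝒯]
    refine ⟨⟨?_, ?_⟩, ?_⟩
    · rw [hXe]
      exact sInf_le hS𝒯
    · intro R hR φ hφ x
      rw [hXe, Subgroup.mem_sInf]
      intro T hT
      have hTsc := ((hmem𝒯 T).mp hT).1
      refine hTsc.2 R (hR.trans ?_) φ hφ x
      rw [hXe]
      exact sInf_le hT
    · intro β hβ hcop x
      rw [hXe, Subgroup.mem_sInf]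
      intro T hT
      exact ((hmem𝒯 T).mp hT).2 β hβ hcop x
  have hXsc : F.StronglyClosed X := ((hmem𝒯 X).mp hX𝒯).1
  have hXβ := ((hmem𝒯 X).mp hX𝒯).2
  have hXS : X ≤ S := hXsc.1
  have hXfin : Finite X := finite_of_le hXS
  have hX1 : X ≠ ⊥ := by
    intro hX0
    apply hEnp
    apply Cfsg.Agent.Helper26.TT.isPGroup_of_coprime_trivial p
    rintro ⟨β, hβ⟩ hcop
    apply Subtype.ext
    show β = 1
    have hcop' : (orderOf β).Coprime p := by rwa [Subgroup.orderOf_mk] at hcop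
    ext x
    have h1 := hXβ β hβ hcop' x
    rw [hX0, Subgroup.mem_bot, inv_mul_eq_one] at h1
    exact h1.symm
  -- `X` lies in every nontrivial strongly closed subgroup
  have hmin : ∀ T : Subgroup Ω, F.StronglyClosed T → T ≠ ⊥ → X ≤ T := by
    intro T hT hT1
    rw [hXe]
    apply sInf_le
    rw [hmem𝒯]
    refine ⟨hT, ?_⟩
    by_cases hTE : T ≤ E
    · have hTfin : Finite T := finite_of_le hT.1
      have hTd : Nat.card T < p ^ d := lt_of_le_of_lt (card_le_of_le hTE) hEd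
      have hhyp := c3 p n IH Ω S hcard hS F hF d hdS hWE hNI hT hT1 hTd
      intro β hβ hcop x
      apply hhyp
      apply Subgroup.subset_closure
      refine ⟨E, ⟨β, hβ⟩, x, hES, ?_, rfl⟩
      apply Subgroup.subset_closure
      show (orderOf (⟨β, hβ⟩ : F.autGroup E)).Coprime p
      rw [Subgroup.orderOf_mk]
      exact hcop
    · intro β hβ hcop x
      exact r3 p hS F hF hR1 hEfa hErec hCE hbig hT hTE β hβ hcop x
  have hXd : Nat.card X ≤ p ^ d := c4 p hS F hd hWE hXsc hmin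
  -- `hyp(F) ≤ X`
  have hhypX : F.hyperfocalSubgroup p ≤ X := by
    rcases hXd.eq_or_lt with h | h
    · have hSNX := le_normalizer_of_stronglyClosed F hXsc
      have hXfn : F.IsFullyNormalized X := isFullyNormalized_of_normal F hXS hSNX
      have hXni : NInner F X := hNI X hXfn h
      have hmod : InnerMod F X := xm F hXsc hXni
      obtain ⟨Ω', _, S', _, θ, F', hker, hrange, hiff, hS', hF'sat, hcard'⟩ :=
        exists_factor p hS F hF hXsc
      have hinner' : Inner F' := imod F hXsc θ hker hrange F' hiff hmod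
      exact hyple p hS F hF hXsc θ hker hrange F' hiff hinner'
    · exact c3 p n IH Ω S hcard hS F hF d hdS hWE hNI hXsc hX1 h
  -- `|X| ≠ p`
  have hAutS : IsPGroup p (F.autGroup S) :=
    autP p hS F hF hWE hNI le_rfl (by rw [hcard]; exact hdS.le)
  have hXp : Nat.card X ≠ p := by
    intro hXp
    apply hEnp
    apply Cfsg.Agent.Helper26.TT.isPGroup_of_coprime_trivial p
    rintro ⟨β, hβ⟩ hcop
    apply Subtype.ext
    show β = 1
    have hcop' : (orderOf β).Coprime p := by rwa [Subgroup.orderOf_mk] at hcop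
    exact xp p hS F hF hR1 hES hXsc hXp hAutS β hβ hcop' (hXβ β hβ hcop')
  have hXp2 : p ^ 2 ≤ Nat.card X := by
    obtain ⟨e, he⟩ := IsPGroup.iff_card.mp (isPGroup_of_le hS hXS)
    have he0 : e ≠ 0 := by
      rintro rfl
      rw [pow_zero] at he
      exact hX1 (Subgroup.card_eq_one.mp he)
    have he1 : e ≠ 1 := by
      rintro rfl
      rw [pow_one] at he
      exact hXp he
    rw [he]
    exact Nat.pow_le_pow_right hpp.pos (by omega)
  have hXfr := tri p hS F hd (by rw [hcard]; exact hdS) hWE hXsc hXp2 hmin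
  exact fin p hS F hF hhypX hXfr

end Cfsg.Agent.S5271P
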