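import Mathlib
import Cfsg.Agent.Helper26.WCW
import Cfsg.Agent.Helper25.SylowIn
import Cfsg.Agent.Helper25.FusionGroup
import Cfsg.Agent.Helper14.PCore

set_option autoImplicit false
set_option linter.style.haveILetI false
set_option linter.unusedSectionVars false
set_option linter.unusedVariables false

/-! Functors with a quadratic element outside `O_p(G)`: `p`-th powers of central elements of a
Sylow subgroup that are central in the normalizer of the functor subgroup are central. -/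

namespace Cfsg.Agent.Helper26.WQ

open Cfsg Cfsg.Agent.Helper26.WC Cfsg.Agent.Helper14 Cfsg.Agent.Helper25
open scoped commutatorElement

universe u

/-- the hypotheses on the functor -/
structure QHyp (p : ℕ) (W : ∀ (Q : Type u) [Group Q], Subgroup Q) : Prop where
  hW1 : ∀ (Q : Type u) [Group Q] [Finite Q], IsPGroup p Q → Nontrivial Q → W Q ≠ ⊥
  hW2 : ∀ (Q R : Type u) [Group Q] [Group R] [Finite Q], IsPGroup p Q → ∀ φ : Q ≃* R,
    (W Q).map φ.toMonoidHom = W R
  hWZ : ∀ (Q : Type u) [Group Q] [Finite Q], IsPGroup p Q → Subgroup.center Q ≤ W Q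
  hq : ∀ (G : Type u) [Group G] [Finite G] (P : Sylow p G),
    ¬ (Wup W (P : Subgroup G)).Normal → ∃ g : G, g ∈ (P : Subgroup G) ∧ g ∉ Cfsg.pCore p G ∧
      ⁅⁅(Subgroup.center ↥(Cfsg.pCore p G)).map (Cfsg.pCore p G).subtype,
        Subgroup.zpowers g⁆, Subgroup.zpowers g⁆ = ⊥

variable {p : ℕ} {W : ∀ (Q : Type u) [Group Q], Subgroup Q}

section Basic

variable {Ω : Type u} [Group Ω]

theorem qwup_char (hH : QHyp p W) {A : Subgroup Ω} [Finite A] (hA : IsPGroup p A) :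
    ((Wup W A).subgroupOf A).Characteristic := by
  rw [wup_subgroupOf]
  rw [Subgroup.characteristic_iff_map_eq]
  intro φ
  exact hH.hW2 ↥A ↥A hA φ

theorem qwup_ne_bot (hH : QHyp p W) {A : Subgroup Ω} [Finite A] (hA : IsPGroup p A)
    (hA1 : A ≠ ⊥) : Wup W A ≠ ⊥ := by
  intro h
  have h1 : W ↥A ≠ ⊥ := hH.hW1 ↥A hA ((Subgroup.nontrivial_iff_ne_bot A).mpr hA1)
  apply h1
  have h2 := wup_subgroupOf (W := W) A
  rw [h] at h2
  rw [← h2]
  exact Subgroup.bot_subgroupOf A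

theorem mem_qwup_of_central (hH : QHyp p W) {A : Subgroup Ω} [Finite A] (hA : IsPGroup p A)
    {x : Ω} (hxA : x ∈ A) (hx : ∀ s ∈ A, s * x * s⁻¹ = x) : x ∈ Wup W A := by
  have h1 : (⟨x, hxA⟩ : A) ∈ Subgroup.center ↥A := by
    rw [Subgroup.mem_center_iff]
    intro s
    apply Subtype.ext
    show (s : Ω) * x = x * (s : Ω)
    have := hx s s.2
    calc (s : Ω) * x = ((s : Ω) * x * (s : Ω)⁻¹) * (s : Ω) := by group
      _ = x * (s : Ω) := by rw [this]
  exact ⟨⟨x, hxA⟩, hH.hWZ ↥A hA h1, rfl⟩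

theorem qwup_range (hH : QHyp p W) {A : Subgroup Ω} [Finite A] (hA : IsPGroup p A)
    {G : Type u} [Group G] (ι : A →* G) (hinj : Function.Injective ι) :
    Wup W ι.range = ((Wup W A).subgroupOf A).map ι := by
  rw [wup_subgroupOf]
  have h1 := hH.hW2 ↥A ↥ι.range hA (MonoidHom.ofInjective hinj)
  unfold Wup
  rw [← h1, Subgroup.map_map]
  congr 1

/-- the functor subgroup of `A`, computed inside a subgroup `H ≥ A` -/
theorem qwup_subtype (hH : QHyp p W) {H A : Subgroup Ω} [Finite A] (hA : IsPGroup p A)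
    (hAH : A ≤ H) : Wup W A = (Wup W (A.subgroupOf H)).map H.subtype := by
  haveI : Finite ↥(A.subgroupOf H) :=
    Finite.of_equiv _ (Subgroup.subgroupOfEquivOfLe hAH).symm.toEquiv
  have hA' : IsPGroup p ↥(A.subgroupOf H) := hA.comap_subtype
  have h1 := hH.hW2 ↥(A.subgroupOf H) ↥A hA' (Subgroup.subgroupOfEquivOfLe hAH)
  unfold Wup
  rw [← h1, Subgroup.map_map, Subgroup.map_map]
  congr 1

end Basic

section Quad

variable {G : Type*} [Group G]

/-- an element acting quadratically on an abelian normal subgroup `V`, with `p`-th power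
centralizing `V`, centralizes the `p`-th powers of `V` -/
theorem comm_pow_of_quad (V : Subgroup G) [hVn : V.Normal]
    (hVab : ∀ a ∈ V, ∀ b ∈ V, a * b = b * a) (u : G)
    (hquad : ⁅⁅V, Subgroup.zpowers u⁆, Subgroup.zpowers u⁆ = ⊥)
    (hup : ∀ v ∈ V, u ^ p * v = v * u ^ p) (v : G) (hv : v ∈ V) : u * v ^ p = v ^ p * u := by
  obtain ⟨c, hce⟩ : ∃ c : G, c = ⁅v, u⁆ := ⟨_, rfl⟩
  have hcV : c ∈ V := by
    rw [hce, commutatorElement_def]
    have h1 : u * v⁻¹ * u⁻¹ ∈ V := hVn.conj_mem _ (V.inv_mem hv) u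
    have e : v * u * v⁻¹ * u⁻¹ = v * (u * v⁻¹ * u⁻¹) := by group
    rw [e]
    exact V.mul_mem hv h1
  have hcu : c * u = u * c := by
    have h1 : c ∈ ⁅V, Subgroup.zpowers u⁆ := by
      rw [hce]
      exact Subgroup.commutator_mem_commutator hv (Subgroup.mem_zpowers u)
    have h2 : ⁅c, u⁆ ∈ ⁅⁅V, Subgroup.zpowers u⁆, Subgroup.zpowers u⁆ :=
      Subgroup.commutator_mem_commutator h1 (Subgroup.mem_zpowers u)
    rw [hquad, Subgroup.mem_bot] at h2
    exact commutatorElement_eq_one_iff_mul_comm.mp h2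
  have hciu : c⁻¹ * u = u * c⁻¹ := by
    calc c⁻¹ * u = c⁻¹ * (u * c) * c⁻¹ := by group
      _ = c⁻¹ * (c * u) * c⁻¹ := by rw [hcu]
      _ = u * c⁻¹ := by group
  have huv : u * v * u⁻¹ = c⁻¹ * v := by
    rw [hce, commutatorElement_def]
    group
  have hcnu : ∀ n : ℕ, u * c⁻¹ ^ n = c⁻¹ ^ n * u := by
    intro n
    exact ((Commute.pow_left (show Commute c⁻¹ u from hciu) n).eq).symm
  have hpow : ∀ n : ℕ, u ^ n * v * (u ^ n)⁻¹ = c⁻¹ ^ n * v := by
    intro n
    induction n with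
    | zero => simp
    | succ n ih =>
      calc u ^ (n + 1) * v * (u ^ (n + 1))⁻¹ = u * (u ^ n * v * (u ^ n)⁻¹) * u⁻¹ := by
            rw [pow_succ']
            group
        _ = u * (c⁻¹ ^ n * v) * u⁻¹ := by rw [ih]
        _ = (u * c⁻¹ ^ n) * v * u⁻¹ := by group
        _ = (c⁻¹ ^ n * u) * v * u⁻¹ := by rw [hcnu n]
        _ = c⁻¹ ^ n * (u * v * u⁻¹) := by group
        _ = c⁻¹ ^ n * (c⁻¹ * v) := by rw [huv]
        _ = c⁻¹ ^ (n + 1) * v := by rw [pow_succ]; group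
  have hcp : c⁻¹ ^ p = 1 := by
    have h1 := hpow p
    have h2 : u ^ p * v * (u ^ p)⁻¹ = v := by
      rw [hup v hv, mul_inv_cancel_right]
    rw [h2] at h1
    exact (mul_eq_right (a := c⁻¹ ^ p) (b := v)).mp h1.symm
  have hcv : Commute c⁻¹ v := hVab _ (V.inv_mem hcV) _ hv
  have h3 : u * v ^ p * u⁻¹ = v ^ p := by
    rw [← conj_pow, huv, hcv.mul_pow, hcp, one_mul]
  calc u * v ^ p = (u * v ^ p * u⁻¹) * u := by group
    _ = v ^ p * u := by rw [h3]

end Quad

end Cfsg.Agent.Helper26.WQ
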