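import Mathlib
import Cfsg.Agent.Helper26.WQGroup
import Cfsg.Agent.Helper26.QdLocB

set_option autoImplicit false
set_option linter.style.haveILetI false
set_option linter.unusedSectionVars false
set_option linter.unusedVariables false

/-! The group-theoretic core: by induction on the group order. -/

namespace Cfsg.Agent.Helper26.WQ

open Cfsg Cfsg.Agent.Helper26.WC Cfsg.Agent.Helper14 Cfsg.Agent.Helper25
open scoped commutatorElement

universe u

variable {p : ℕ} [hp : Fact p.Prime] {W : ∀ (Q : Type u) [Group Q], Subgroup Q}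

set_option maxHeartbeats 3200000 in
/-- **`p`-th powers of central elements of a Sylow subgroup** that are central in the normalizer
of the functor subgroup are central, in a group with a self-centralizing normal `p`-subgroup. -/
theorem central_pow_of_qhyp (hH : QHyp p W) :
    ∀ (n : ℕ) (G : Type u) [Group G] [Finite G], Nat.card G = n →
    ∀ (P : Sylow p G) (Q : Subgroup G), Q.Normal → IsPGroup p Q →
    Subgroup.centralizer (Q : Set G) ≤ Q →
    ∀ z ∈ (P : Subgroup G), (∀ s ∈ (P : Subgroup G), s * z = z * s) →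
    (∀ m ∈ Subgroup.normalizer ((Wup W (P : Subgroup G) : Subgroup G) : Set G),
      m * z ^ p = z ^ p * m) →
    ∀ g : G, g * z ^ p = z ^ p * g := by
  intro n
  induction n using Nat.strong_induction_on with
  | _ n IH =>
  intro G _ _ hcard P Q hQn hQp hCQ z hzP hzc hN
  classical
  obtain ⟨O, hOe⟩ : ∃ O : Subgroup G, O = pCore p G := ⟨_, rfl⟩
  have hQO : Q ≤ O := hOe ▸ le_pCore p hQn hQp
  have hOP : O ≤ (P : Subgroup G) := hOe ▸ pCore_le_sylow p P
  haveI hOn : O.Normal := hOe ▸ (inferInstance : (pCore p G).Normal)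
  have hzQ : z ∈ Q := by
    apply hCQ
    rw [Subgroup.mem_centralizer_iff]
    intro q hq
    exact hzc q (hOP (hQO hq))
  have hzO : z ∈ O := hQO hzQ
  obtain ⟨V, hVe⟩ : ∃ V : Subgroup G, V = (Subgroup.center ↥O).map O.subtype := ⟨_, rfl⟩
  have hzV : z ∈ V := by
    rw [hVe]
    refine ⟨⟨z, hzO⟩, ?_, rfl⟩
    rw [SetLike.mem_coe, Subgroup.mem_center_iff]
    intro o
    apply Subtype.ext
    exact hzc o (hOP o.2)
  haveI hVn : V.Normal := by
    rw [hVe]
    infer_instance
  have hVab : ∀ a ∈ V, ∀ b ∈ V, a * b = b * a := by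
    rw [hVe]
    rintro _ ⟨a, ha, rfl⟩ _ ⟨b, hb, rfl⟩
    have := (Subgroup.mem_center_iff.mp hb) a
    show ((a * b : O) : G) = ((b * a : O) : G)
    exact congrArg Subtype.val this
  have hOV : ∀ o ∈ O, ∀ v ∈ V, o * v = v * o := by
    rw [hVe]
    rintro o ho _ ⟨b, hb, rfl⟩
    have := (Subgroup.mem_center_iff.mp hb) ⟨o, ho⟩
    exact congrArg Subtype.val this
  by_cases hWn : (Wup W (P : Subgroup G)).Normal
  · intro g
    apply hN
    rw [Subgroup.normalizer_eq_top]
    exact Subgroup.mem_top g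
  · obtain ⟨g₀, hg₀P, hg₀O, hg₀q⟩ := hH.hq G P hWn
    rw [← hOe, ← hVe] at hg₀q
    rw [← hOe] at hg₀O
    -- a quadratic element of least order
    have hex : ∃ k : ℕ, ∃ g : G, g ∈ (P : Subgroup G) ∧ g ∉ O ∧
        ⁅⁅V, Subgroup.zpowers g⁆, Subgroup.zpowers g⁆ = ⊥ ∧ orderOf g = k :=
      ⟨_, g₀, hg₀P, hg₀O, hg₀q, rfl⟩
    obtain ⟨g, hgP, hgO, hgq, hgn⟩ := Nat.find_spec hex
    have hgpO : g ^ p ∈ O := by
      by_contra h
      have hq' : ⁅⁅V, Subgroup.zpowers (g ^ p)⁆, Subgroup.zpowers (g ^ p)⁆ = ⊥ := by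
        rw [eq_bot_iff, ← hgq]
        have hz : Subgroup.zpowers (g ^ p) ≤ Subgroup.zpowers g :=
          Subgroup.zpowers_le.mpr (Subgroup.pow_mem _ (Subgroup.mem_zpowers g) p)
        exact Subgroup.commutator_mono (Subgroup.commutator_mono le_rfl hz) hz
      have h1 : Nat.find hex ≤ orderOf (g ^ p) :=
        Nat.find_min' hex ⟨g ^ p, Subgroup.pow_mem _ hgP p, h, hq', rfl⟩
      rw [← hgn] at h1
      obtain ⟨k, hk⟩ := (IsPGroup.iff_orderOf.mp P.2) ⟨g, hgP⟩
      rw [Subgroup.orderOf_mk] at hk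
      have hk0 : k ≠ 0 := by
        intro h0
        rw [h0, pow_zero, orderOf_eq_one_iff] at hk
        apply hgO
        rw [hk]
        exact O.one_mem
      have hdvd : p ∣ orderOf g := by
        rw [hk]
        exact dvd_pow_self p hk0
      rw [orderOf_pow_of_dvd hp.out.ne_zero hdvd] at h1
      have hpos : 0 < orderOf g := by
        rw [hk]
        exact pow_pos hp.out.pos k
      have := Nat.div_lt_self hpos hp.out.one_lt
      omega
    have hcomm : ∀ v ∈ V, g * v ^ p = v ^ p * g :=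
      comm_pow_of_quad V hVab g hgq (fun v hv => hOV _ hgpO v hv)
    have hconj : ∀ h : G, (h * g * h⁻¹) * z ^ p = z ^ p * (h * g * h⁻¹) := by
      intro h
      have h1 : h⁻¹ * z * h⁻¹⁻¹ ∈ V := hVn.conj_mem z hzV h⁻¹
      have h2 := hcomm _ h1
      rw [conj_pow, inv_inv] at h2
      calc h * g * h⁻¹ * z ^ p = h * (g * (h⁻¹ * z ^ p * h)) * h⁻¹ := by group
        _ = h * (h⁻¹ * z ^ p * h * g) * h⁻¹ := by rw [h2]
        _ = z ^ p * (h * g * h⁻¹) := by group
    obtain ⟨Cx, hCxe⟩ : ∃ Cx : Subgroup G, Cx = Subgroup.centralizer ({z ^ p} : Set G) :=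
      ⟨_, rfl⟩
    have hCx : ∀ m : G, m ∈ Cx ↔ m * z ^ p = z ^ p * m := by
      intro m
      rw [hCxe, Subgroup.mem_centralizer_iff]
      constructor
      · intro h
        exact (h _ rfl).symm
      · intro h y hy
        rw [Set.mem_singleton_iff] at hy
        rw [hy, h]
    obtain ⟨K, hKe⟩ : ∃ K : Subgroup G, K = Subgroup.normalClosure ({g} : Set G) := ⟨_, rfl⟩
    haveI hKn : K.Normal := hKe ▸ Subgroup.normalClosure_normal
    have hKC : K ≤ Cx := by
      rw [hKe]
      unfold Subgroup.normalClosure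
      rw [Subgroup.closure_le]
      intro y hy
      rw [Group.mem_conjugatesOfSet_iff] at hy
      obtain ⟨a, ha, hay⟩ := hy
      rw [Set.mem_singleton_iff] at ha
      rw [isConj_iff] at hay
      obtain ⟨c, hc⟩ := hay
      rw [SetLike.mem_coe, hCx, ← hc, ha]
      exact hconj c
    have hgK : g ∈ K := by
      rw [hKe]
      exact Subgroup.subset_normalClosure (Set.mem_singleton g)
    -- Frattini's argument
    have hPKp : IsPGroup p ↥(((P : Subgroup G) ⊓ K).subgroupOf K) :=
      (isPGroup_of_le P.2 inf_le_left).comap_subtype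
    obtain ⟨R, hR⟩ := hPKp.exists_le_sylow
    have hR'p : IsPGroup p ↥((R : Subgroup K).map K.subtype) := R.2.map _
    have hR'K : (R : Subgroup K).map K.subtype ≤ K := Subgroup.map_subtype_le _
    have hle : (P : Subgroup G) ⊓ K ≤ (R : Subgroup K).map K.subtype := by
      intro y hy
      exact ⟨⟨y, hy.2⟩, hR (Subgroup.mem_subgroupOf.mpr hy), rfl⟩
    have hReq : (P : Subgroup G) ⊓ K = (R : Subgroup K).map K.subtype := by
      obtain ⟨a, ha⟩ := exists_conj_le_sylow p P hR'p
      have h1 : cj ((R : Subgroup K).map K.subtype) a ≤ (P : Subgroup G) ⊓ K := by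
        refine le_inf ha ?_
        rintro _ ⟨y, hy, rfl⟩
        exact hKn.conj_mem y (hR'K hy) a
      have h2 : Nat.card ↥((R : Subgroup K).map K.subtype) ≤
          Nat.card ↥((P : Subgroup G) ⊓ K) := by
        rw [← card_cj _ a]
        exact Subgroup.card_le_of_le h1
      exact Subgroup.eq_of_le_of_card_ge hle h2
    have hfr := Sylow.normalizer_sup_eq_top R
    rw [← hReq] at hfr
    obtain ⟨H₁, hH₁e⟩ : ∃ H₁ : Subgroup G,
        H₁ = Subgroup.normalizer ((((P : Subgroup G) ⊓ K : Subgroup G)) : Set G) := ⟨_, rfl⟩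
    rw [← hH₁e] at hfr
    have hPH₁ : (P : Subgroup G) ≤ H₁ := by
      intro s hs
      rw [hH₁e]
      apply Cfsg.Agent.Helper26.QdLoc.mem_normalizer_inf (Subgroup.le_normalizer hs)
      rw [Subgroup.normalizer_eq_top]
      exact Subgroup.mem_top s
    have hH₁ne : H₁ ≠ ⊤ := by
      intro h
      rw [hH₁e, Subgroup.normalizer_eq_top_iff] at h
      have h1 : (P : Subgroup G) ⊓ K ≤ O :=
        hOe ▸ le_pCore p h (isPGroup_of_le P.2 inf_le_left)
      exact hgO (h1 ⟨hgP, hgK⟩)
    have hH₁card : Nat.card H₁ < n := by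
      rw [← hcard]
      apply lt_of_le_of_ne (Subgroup.card_le_card_group H₁)
      intro h
      exact hH₁ne (Subgroup.eq_top_of_card_eq H₁ h)
    -- the induction hypothesis on `H₁`
    have hH₁C : H₁ ≤ Cx := by
      haveI : (Q.subgroupOf H₁).Normal := hQn.subgroupOf H₁
      have hQ₁p : IsPGroup p ↥(Q.subgroupOf H₁) := hQp.comap_subtype
      have hQH₁ : Q ≤ H₁ := (hQO.trans hOP).trans hPH₁
      have hCQ₁ : Subgroup.centralizer ((Q.subgroupOf H₁ : Subgroup H₁) : Set H₁) ≤
          Q.subgroupOf H₁ := by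
        intro h hh
        rw [Subgroup.mem_subgroupOf]
        apply hCQ
        rw [Subgroup.mem_centralizer_iff]
        intro q hq
        have := (Subgroup.mem_centralizer_iff.mp hh) ⟨q, hQH₁ hq⟩
          (Subgroup.mem_subgroupOf.mpr hq)
        exact congrArg Subtype.val this
      have hz₁ : (⟨z, hPH₁ hzP⟩ : H₁) ∈ ((P.subtype hPH₁ : Sylow p H₁) : Subgroup H₁) := by
        rw [Sylow.coe_subtype, Subgroup.mem_subgroupOf]
        exact hzP
      have hzc₁ : ∀ s ∈ ((P.subtype hPH₁ : Sylow p H₁) : Subgroup H₁),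
          s * (⟨z, hPH₁ hzP⟩ : H₁) = ⟨z, hPH₁ hzP⟩ * s := by
        intro s hs
        rw [Sylow.coe_subtype, Subgroup.mem_subgroupOf] at hs
        exact Subtype.ext (hzc s hs)
      have hN₁ : ∀ m ∈ Subgroup.normalizer
          ((Wup W ((P.subtype hPH₁ : Sylow p H₁) : Subgroup H₁) : Subgroup H₁) : Set H₁),
          m * (⟨z, hPH₁ hzP⟩ : H₁) ^ p = (⟨z, hPH₁ hzP⟩ : H₁) ^ p * m := by
        intro m hm
        apply Subtype.ext
        rw [Subgroup.coe_mul, Subgroup.coe_mul, Subgroup.coe_pow]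
        apply hN
        rw [qwup_subtype hH P.2 hPH₁]
        rw [Sylow.coe_subtype] at hm
        exact Subgroup.le_normalizer_map H₁.subtype ⟨m, hm, rfl⟩
      have h1 := IH _ hH₁card ↥H₁ rfl (P.subtype hPH₁) (Q.subgroupOf H₁) inferInstance hQ₁p hCQ₁
        ⟨z, hPH₁ hzP⟩ hz₁ hzc₁ hN₁
      intro h hh
      rw [hCx]
      have := h1 ⟨h, hh⟩
      have h2 := congrArg Subtype.val this
      rw [Subgroup.coe_mul, Subgroup.coe_mul, Subgroup.coe_pow] at h2
      exact h2
    intro g'
    rw [← hCx]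
    have : g' ∈ H₁ ⊔ K := by
      rw [hfr]
      exact Subgroup.mem_top g'
    exact (sup_le hH₁C hKC) this

end Cfsg.Agent.Helper26.WQ
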