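import Mathlib
import Cfsg.Agent.Helper26.WQGroup2
import Cfsg.Agent.Helper26.WCModel

set_option autoImplicit false
set_option linter.style.haveILetI false
set_option linter.unusedSectionVars false
set_option linter.unusedVariables false

/-! The constrained case: in a model, a `p`-th power of a central element of `S` fixed by the
normalizer system of `W(S)` is fixed by the whole system. -/

namespace Cfsg.Agent.Helper26.WQ

open Cfsg Cfsg.FusionSystem Cfsg.Agent.Helper25 Cfsg.Agent.Helper26.MasterRed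
  Cfsg.Agent.Helper26.WC

universe u

variable {p : ℕ} [Fact p.Prime] {W : ∀ (Q : Type u) [Group Q], Subgroup Q}
  {Ω : Type u} [Group Ω] {S : Subgroup Ω}

set_option maxHeartbeats 1600000 in
theorem fixes_of_model_q [Finite S] (hH : QHyp p W) (hS : IsPGroup p S) (F : FusionSystem S)
    {G : Type u} [Group G] (ι : S →* G) (hM : F.IsModel p G ι)
    {z : Ω} (hzS : z ∈ S) (hzc : ∀ s ∈ S, s * z = z * s)
    (h : NFix F (Wup W S) (z ^ p)) : Fixes F (z ^ p) := by
  obtain ⟨hfin, hreal, ⟨T, hT⟩, hcent⟩ := hM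
  have hinj := hreal.1
  obtain ⟨x, hxe⟩ : ∃ x : Ω, x = z ^ p := ⟨_, rfl⟩
  rw [← hxe] at h ⊢
  have hxS : x ∈ S := hxe ▸ S.pow_mem hzS p
  have hxc : ∀ s ∈ S, s * x * s⁻¹ = x := by
    intro s hs
    rw [hxe, ← conj_pow, hzc s hs, mul_inv_cancel_right]
  -- the functor subgroup of the Sylow subgroup
  have hWT : Wup W (T : Subgroup G) = ((Wup W S).subgroupOf S).map ι := by
    rw [hT]
    exact qwup_range hH hS ι hinj
  have hWS : Wup W S ≤ S := wup_le S
  have hWfin : Finite (Wup W S) := finite_of_le hWS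
  have hxW : x ∈ Wup W S := mem_qwup_of_central hH hS hxS hxc
  -- `ι x` is central in the normalizer of the functor subgroup
  have hxcen : ∀ g ∈ Subgroup.normalizer ((Wup W (T : Subgroup G) : Subgroup G) : Set G),
      g * ι ⟨x, hxS⟩ * g⁻¹ = ι ⟨x, hxS⟩ := by
    intro g hg
    have hgW : ∀ y ∈ ((Wup W S).subgroupOf S).map ι, g * y * g⁻¹ ∈
        ((Wup W S).subgroupOf S).map ι := by
      intro y hy
      rw [← hWT] at hy ⊢
      exact ((Subgroup.mem_normalizer_iff.mp hg) y).mp hy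
    have hconj : ∀ y : ↥(Wup W S), g * ι ⟨y, hWS y.2⟩ * g⁻¹ ∈ ι.range := by
      intro y
      obtain ⟨z', -, hz'⟩ := hgW _ ⟨⟨y, hWS y.2⟩, y.2, rfl⟩
      exact ⟨z', hz'⟩
    obtain ⟨φ, hφ, hφS, hφι⟩ := exists_hom_of_conj F ι hreal hWS g hconj
    have hφW : ∀ y : ↥(Wup W S), φ y ∈ Wup W S := by
      intro y
      obtain ⟨z', hz', hze⟩ := hgW _ ⟨⟨y, hWS y.2⟩, y.2, rfl⟩
      rw [← hφι y] at hze
      have h2 := hinj hze
      have h3 : (z' : Ω) = φ y := congrArg Subtype.val h2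
      rw [← h3]
      exact hz'
    have hWN : Wup W S ≤ normalizerIn S (Wup W S) :=
      fun y hy => ⟨hWS hy, Subgroup.le_normalizer hy⟩
    have hφN : φ ∈ F.normalizerHom (Wup W S) (Wup W S) := by
      refine mem_normalizerHom_of_le F le_rfl hφ hWN (fun y => hWN (hφW y)) ?_
      apply map_eq_of_map_le (F.injective_of_mem hφ) _ le_rfl
      rintro _ ⟨y, -, rfl⟩
      exact hφW y
    have h1 := h _ φ hφN hxW
    have h2 := hφι ⟨x, hxW⟩
    rw [← h2]
    congr 1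
    exact Subtype.ext h1
  -- apply the group-theoretic core
  have hιx : ι ⟨x, hxS⟩ = (ι ⟨z, hzS⟩) ^ p := by
    rw [← map_pow]
    congr 1
    exact Subtype.ext hxe
  have hzT : ι ⟨z, hzS⟩ ∈ (T : Subgroup G) := by
    rw [hT]
    exact ⟨_, rfl⟩
  have hzcT : ∀ s ∈ (T : Subgroup G), s * ι ⟨z, hzS⟩ = ι ⟨z, hzS⟩ * s := by
    intro s hs
    rw [hT] at hs
    obtain ⟨s', rfl⟩ := hs
    rw [← map_mul, ← map_mul]
    congr 1
    exact Subtype.ext (hzc s' s'.2)
  have hNT : ∀ m ∈ Subgroup.normalizer ((Wup W (T : Subgroup G) : Subgroup G) : Set G),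
      m * (ι ⟨z, hzS⟩) ^ p = (ι ⟨z, hzS⟩) ^ p * m := by
    intro m hm
    rw [← hιx]
    have := hxcen m hm
    calc m * ι ⟨x, hxS⟩ = (m * ι ⟨x, hxS⟩ * m⁻¹) * m := by group
      _ = ι ⟨x, hxS⟩ * m := by rw [this]
  have hcenG := central_pow_of_qhyp hH _ G rfl T (pCore p G) inferInstance
    (Cfsg.Agent.Helper14.pCore_isPGroup p) hcent (ι ⟨z, hzS⟩) hzT hzcT hNT
  -- conclusion
  intro P φ hφ hxP
  have hPS : P ≤ S := (F.le_of_mem hφ).1
  have hφS : ∀ y : P, φ y ∈ S := (F.le_of_mem hφ).2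
  obtain ⟨g, hg⟩ := (hreal.2 P hPS φ hφS).mp hφ
  have h1 := hg ⟨x, hxP⟩
  have h2 : g * ι ⟨x, hxS⟩ * g⁻¹ = ι ⟨x, hxS⟩ := by
    rw [hιx, hcenG g, mul_inv_cancel_right]
  have h3 : ι ⟨φ ⟨x, hxP⟩, hφS _⟩ = ι ⟨x, hxS⟩ := by
    rw [h1]
    exact h2
  exact congrArg Subtype.val (hinj h3)

end Cfsg.Agent.Helper26.WQ
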