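import Mathlib
import Cfsg.Prelude.Def_CaseTheorems

set_option autoImplicit false

/-! Wreathed 2-groups `Z_{2^n} ≀ Z_2`: normal form and automorphisms. -/

namespace Cfsg.Agent.Helper26.Wreathed

section

variable {H : Type*} [Group H] {n : ℕ} {x y z : H}

/-- the abelian subgroup `⟨x⟩ × ⟨y⟩` -/
def baseM (x y : H) (hxy : x * y = y * x) : Subgroup H where
  carrier := {h | ∃ i j : ℤ, h = x ^ i * y ^ j}
  one_mem' := ⟨0, 0, by simp⟩
  mul_mem' := by
    rintro _ _ ⟨i, j, rfl⟩ ⟨i', j', rfl⟩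
    refine ⟨i + i', j + j', ?_⟩
    have hc : Commute x y := hxy
    have h1 : y ^ j * x ^ i' = x ^ i' * y ^ j := ((hc.zpow_zpow i' j).eq).symm
    calc x ^ i * y ^ j * (x ^ i' * y ^ j') = x ^ i * (y ^ j * x ^ i') * y ^ j' := by group
      _ = x ^ i * (x ^ i' * y ^ j) * y ^ j' := by rw [h1]
      _ = x ^ (i + i') * y ^ (j + j') := by rw [zpow_add, zpow_add]; group
  inv_mem' := by
    rintro _ ⟨i, j, rfl⟩
    refine ⟨-i, -j, ?_⟩
    have hc : Commute x y := hxy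
    have h1 : y ^ (-j) * x ^ (-i) = x ^ (-i) * y ^ (-j) := ((hc.zpow_zpow (-i) (-j)).eq).symm
    rw [mul_inv_rev, ← zpow_neg, ← zpow_neg, h1]

theorem mem_baseM (hxy : x * y = y * x) (h : H) :
    h ∈ baseM x y hxy ↔ ∃ i j : ℤ, h = x ^ i * y ^ j := Iff.rfl

theorem baseM_comm (hxy : x * y = y * x) {a b : H} (ha : a ∈ baseM x y hxy)
    (hb : b ∈ baseM x y hxy) : a * b = b * a := by
  obtain ⟨i, j, rfl⟩ := ha
  obtain ⟨i', j', rfl⟩ := hb
  have hc : Commute x y := hxy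
  have h1 : Commute (x ^ i * y ^ j) (x ^ i' * y ^ j') := by
    apply Commute.mul_left
    · apply Commute.mul_right
      · exact (Commute.refl x).zpow_zpow i i'
      · exact hc.zpow_zpow i j'
    · apply Commute.mul_right
      · exact (hc.zpow_zpow i' j).symm
      · exact (Commute.refl y).zpow_zpow j j'
  exact h1.eq


/-- the data of a wreathed group -/
structure WrData (H : Type*) [Group H] (n : ℕ) (x y z : H) : Prop where
  hn : 2 ≤ n
  hcard : Nat.card H = 2 ^ (2 * n + 1)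
  hx : orderOf x = 2 ^ n
  hxy : x * y = y * x
  hdisj : Subgroup.zpowers x ⊓ Subgroup.zpowers y = ⊥
  hz : orderOf z = 2
  hzx : z * x * z⁻¹ = y

namespace WrData

variable (d : WrData H n x y z)
include d

theorem z_mul_z : z * z = 1 := by
  have := pow_orderOf_eq_one z
  rwa [d.hz, sq] at this

theorem z_inv : z⁻¹ = z := inv_eq_of_mul_eq_one_right d.z_mul_z

theorem hzy : z * y * z⁻¹ = x := by
  rw [← d.hzx]
  have := d.z_mul_z
  calc z * (z * x * z⁻¹) * z⁻¹ = (z * z) * x * (z * z)⁻¹ := by group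
    _ = x := by rw [this]; simp

theorem hy : orderOf y = 2 ^ n := by
  have h1 : orderOf ((MulAut.conj z) x) = orderOf x := MulEquiv.orderOf_eq (MulAut.conj z) x
  rw [MulAut.conj_apply, d.hzx, d.hx] at h1
  exact h1

theorem conj_pow (i j : ℤ) : z * (x ^ i * y ^ j) * z⁻¹ = y ^ i * x ^ j := by
  have h1 : z * x ^ i * z⁻¹ = y ^ i := by rw [← conj_zpow, d.hzx]
  have h2 : z * y ^ j * z⁻¹ = x ^ j := by rw [← conj_zpow, d.hzy]
  calc z * (x ^ i * y ^ j) * z⁻¹ = (z * x ^ i * z⁻¹) * (z * y ^ j * z⁻¹) := by group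
    _ = y ^ i * x ^ j := by rw [h1, h2]

theorem eq_one_of_mul_eq_one {i j : ℤ} (h : x ^ i * y ^ j = 1) : x ^ i = 1 ∧ y ^ j = 1 := by
  have h1 : x ^ i = (y ^ j)⁻¹ := eq_inv_of_mul_eq_one_left h
  have h2 : x ^ i ∈ Subgroup.zpowers x ⊓ Subgroup.zpowers y := by
    refine ⟨⟨i, rfl⟩, ?_⟩
    rw [h1, ← zpow_neg]
    exact ⟨-j, rfl⟩
  rw [d.hdisj, Subgroup.mem_bot] at h2
  refine ⟨h2, ?_⟩
  rw [h2, one_mul] at h
  exact h

theorem x_ne_one : x ≠ 1 := by
  intro h
  have := d.hx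
  rw [h, orderOf_one] at this
  have h2 : 2 ^ 2 ≤ 2 ^ n := Nat.pow_le_pow_right (by norm_num) d.hn
  omega

theorem x_ne_y : x ≠ y := by
  intro h
  have h2 : x ∈ Subgroup.zpowers x ⊓ Subgroup.zpowers y :=
    ⟨Subgroup.mem_zpowers x, h ▸ Subgroup.mem_zpowers x⟩
  rw [d.hdisj, Subgroup.mem_bot] at h2
  exact d.x_ne_one h2

theorem z_not_mem : z ∉ baseM x y d.hxy := by
  intro hz
  have hxM : x ∈ baseM x y d.hxy := ⟨1, 0, by simp⟩
  have h1 := baseM_comm d.hxy hz hxM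
  have h2 : z * x * z⁻¹ = x := by rw [h1]; group
  rw [d.hzx] at h2
  exact d.x_ne_y h2.symm

theorem conj_mem {a : H} (ha : a ∈ baseM x y d.hxy) : z * a * z⁻¹ ∈ baseM x y d.hxy := by
  obtain ⟨i, j, rfl⟩ := ha
  rw [d.conj_pow]
  have hc : Commute x y := d.hxy
  exact ⟨j, i, (hc.zpow_zpow j i).eq.symm⟩


theorem finite : Finite H := by
  apply Nat.finite_of_card_ne_zero
  rw [d.hcard]
  positivity

theorem pow_mul_pow_inj {i j i' j' : ℕ} (hi : i < 2 ^ n) (hj : j < 2 ^ n) (hi' : i' < 2 ^ n)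
    (hj' : j' < 2 ^ n) (h : x ^ i * y ^ j = x ^ i' * y ^ j') : i = i' ∧ j = j' := by
  have h1 : (x ^ i')⁻¹ * x ^ i = y ^ j' * (y ^ j)⁻¹ := by
    calc (x ^ i')⁻¹ * x ^ i = (x ^ i')⁻¹ * (x ^ i * y ^ j) * (y ^ j)⁻¹ := by group
      _ = (x ^ i')⁻¹ * (x ^ i' * y ^ j') * (y ^ j)⁻¹ := by rw [h]
      _ = y ^ j' * (y ^ j)⁻¹ := by group
  have h2 : (x ^ i')⁻¹ * x ^ i ∈ Subgroup.zpowers x ⊓ Subgroup.zpowers y := by
    have hx1 : ∀ k : ℕ, x ^ k ∈ Subgroup.zpowers x := fun k => pow_mem (Subgroup.mem_zpowers x) k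
    have hy1 : ∀ k : ℕ, y ^ k ∈ Subgroup.zpowers y := fun k => pow_mem (Subgroup.mem_zpowers y) k
    refine Subgroup.mem_inf.mpr ⟨mul_mem (inv_mem (hx1 i')) (hx1 i), ?_⟩
    rw [h1]
    exact mul_mem (hy1 j') (inv_mem (hy1 j))
  rw [d.hdisj, Subgroup.mem_bot] at h2
  have h3 : x ^ i = x ^ i' := by
    have := inv_mul_eq_one.mp h2
    exact this.symm
  have h4 : y ^ j = y ^ j' := by
    rw [h2] at h1
    have := mul_inv_eq_one.mp h1.symm
    exact this.symm
  constructor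
  · exact pow_injOn_Iio_orderOf (x := x) (by rw [Set.mem_Iio, d.hx]; exact hi)
      (by rw [Set.mem_Iio, d.hx]; exact hi') h3
  · exact pow_injOn_Iio_orderOf (x := y) (by rw [Set.mem_Iio, d.hy]; exact hj)
      (by rw [Set.mem_Iio, d.hy]; exact hj') h4

/-- normal form: every element lies in `M` or in `M z` -/
theorem normal_form (h : H) : h ∈ baseM x y d.hxy ∨ h * z ∈ baseM x y d.hxy := by
  have hfin := d.finite
  let φ : Fin (2 ^ n) × Fin (2 ^ n) × Fin 2 → H := fun t => x ^ t.1.val * y ^ t.2.1.val * z ^ t.2.2.val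
  have hmem : ∀ i j : ℕ, x ^ i * y ^ j ∈ baseM x y d.hxy := fun i j =>
    ⟨i, j, by simp⟩
  have key : ∀ w a b : H, a ∈ baseM x y d.hxy → b ∈ baseM x y d.hxy → w = a⁻¹ * b →
      w ∈ baseM x y d.hxy := by
    rintro w a b ha hb rfl
    exact mul_mem (inv_mem ha) hb
  have hinj : Function.Injective φ := by
    rintro ⟨i, j, e⟩ ⟨i', j', e'⟩ heq
    simp only [φ] at heq
    have he : e = e' := by
      by_contra hne
      apply d.z_not_mem
      have h01 : (e.val = 0 ∧ e'.val = 1) ∨ (e.val = 1 ∧ e'.val = 0) := by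
        have h1 := e.2
        have h2 := e'.2
        have h3 : e.val ≠ e'.val := fun h => hne (Fin.ext h)
        omega
      rcases h01 with ⟨h0, h1⟩ | ⟨h1, h0⟩
      · rw [h0, h1, pow_zero, pow_one, mul_one] at heq
        have : z = (x ^ i'.val * y ^ j'.val)⁻¹ * (x ^ i.val * y ^ j.val) := by
          rw [heq]; group
        exact key z _ _ (hmem _ _) (hmem _ _) this
      · rw [h0, h1, pow_zero, pow_one, mul_one] at heq
        have : z = (x ^ i.val * y ^ j.val)⁻¹ * (x ^ i'.val * y ^ j'.val) := by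
          rw [← heq]; group
        exact key z _ _ (hmem _ _) (hmem _ _) this
    subst he
    have heq' : x ^ i.val * y ^ j.val = x ^ i'.val * y ^ j'.val := mul_right_cancel heq
    obtain ⟨h1, h2⟩ := d.pow_mul_pow_inj i.2 j.2 i'.2 j'.2 heq'
    rw [Fin.ext h1, Fin.ext h2]
  have hcard : Nat.card H ≤ Nat.card (Fin (2 ^ n) × Fin (2 ^ n) × Fin 2) := by
    rw [d.hcard, Nat.card_prod, Nat.card_prod, Nat.card_fin, Nat.card_fin]
    apply le_of_eq
    ring
  obtain ⟨⟨i, j, e⟩, rfl⟩ := (hinj.bijective_of_nat_card_le hcard).2 h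
  simp only [φ]
  have h01 : e.val = 0 ∨ e.val = 1 := by have := e.2; omega
  rcases h01 with h0 | h1
  · left
    rw [h0, pow_zero, mul_one]
    exact hmem _ _
  · right
    rw [h1, pow_one, mul_assoc, d.z_mul_z, mul_one]
    exact hmem _ _

end WrData

end

end Cfsg.Agent.Helper26.Wreathed
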