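import Mathlib
import Cfsg.Agent.Helper26.Wreathed

set_option autoImplicit false

/-! Wreathed 2-groups: the automorphism group is a 2-group. -/

namespace Cfsg.Agent.Helper26.Wreathed

section

variable {H : Type*} [Group H]

/-- elements of order at most two in a cyclic group of order `2^n` -/
theorem zpow_sq_eq_one {g : H} {n : ℕ} (hg : orderOf g = 2 ^ n) (hn : 1 ≤ n) (i : ℤ)
    (h : g ^ i * g ^ i = 1) : g ^ i = 1 ∨ g ^ i = g ^ (2 ^ (n - 1)) := by
  have h1 : g ^ (2 * i) = 1 := by rw [two_mul, zpow_add]; exact h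
  have h2 : ((orderOf g : ℕ) : ℤ) ∣ 2 * i := orderOf_dvd_iff_zpow_eq_one.mpr h1
  have hpow : (2 : ℤ) ^ n = 2 * 2 ^ (n - 1) := by
    rw [← pow_succ']; congr 1; omega
  rw [hg] at h2
  push_cast at h2
  rw [hpow] at h2
  have h3 : (2 : ℤ) ^ (n - 1) ∣ i := Int.dvd_of_mul_dvd_mul_left (by norm_num) h2
  obtain ⟨m, rfl⟩ := h3
  have hg' : (g ^ (2 ^ (n - 1))) ^ 2 = 1 := by
    rw [← pow_mul, ← pow_succ]
    have : n - 1 + 1 = n := by omega
    rw [this, ← hg]
    exact pow_orderOf_eq_one g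
  have e : g ^ ((2 : ℤ) ^ (n - 1) * m) = (g ^ (2 ^ (n - 1))) ^ m := by
    rw [zpow_mul]
    congr 1
    have : ((2 : ℤ) ^ (n - 1)) = ((2 ^ (n - 1) : ℕ) : ℤ) := by push_cast; rfl
    rw [this, zpow_natCast]
  rw [e]
  rcases Int.even_or_odd m with ⟨k, rfl⟩ | ⟨k, rfl⟩
  · left
    rw [← two_mul, zpow_mul, zpow_two, ← sq, hg', one_zpow]
  · right
    rw [zpow_add, zpow_one, zpow_mul, zpow_two, ← sq, hg', one_zpow, one_mul]

variable {n : ℕ} {x y z : H}

namespace WrData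

variable (d : WrData H n x y z)
include d

theorem sq_mem (g : H) : g * g ∈ baseM x y d.hxy := by
  rcases d.normal_form g with hg | hg
  · exact mul_mem hg hg
  · have e : g * g = (g * z) * (z * (g * z) * z⁻¹) := by
      rw [d.z_inv]
      have := d.z_mul_z
      calc g * g = g * (z * z) * g * (z * z) := by rw [this]; group
        _ = (g * z) * (z * (g * z) * z) := by group
    rw [e]
    exact mul_mem hg (d.conj_mem hg)

theorem x_sq_ne_y_sq : x * x ≠ y * y := by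
  intro h
  have h2 : x * x ∈ Subgroup.zpowers x ⊓ Subgroup.zpowers y := by
    refine Subgroup.mem_inf.mpr ⟨mul_mem (Subgroup.mem_zpowers x) (Subgroup.mem_zpowers x), ?_⟩
    rw [h]
    exact mul_mem (Subgroup.mem_zpowers y) (Subgroup.mem_zpowers y)
  rw [d.hdisj, Subgroup.mem_bot] at h2
  have h3 : x ^ 2 = 1 := by rw [sq]; exact h2
  have h4 := orderOf_dvd_of_pow_eq_one h3
  rw [d.hx] at h4
  have h5 := Nat.le_of_dvd (by norm_num) h4
  have h6 : 2 ^ 2 ≤ 2 ^ n := Nat.pow_le_pow_right (by norm_num) d.hn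
  omega

theorem mem_iff (h : H) : h ∈ baseM x y d.hxy ↔ ∀ g : H, h * (g * g) = (g * g) * h := by
  constructor
  · intro hh g
    exact baseM_comm d.hxy hh (d.sq_mem g)
  · intro hcomm
    rcases d.normal_form h with hh | hh
    · exact hh
    · exfalso
      have hxM : x * x ∈ baseM x y d.hxy := d.sq_mem x
      have h1 := hcomm x
      have h2 := baseM_comm d.hxy hh hxM
      -- `h = (h z) z`
      have e : z * (x * x) * z⁻¹ = x * x := by
        have hz := d.z_mul_z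
        have hzi := d.z_inv
        have e1 : h = (h * z) * z := by rw [mul_assoc, hz, mul_one]
        have h3 : (h * z) * (z * (x * x)) = (h * z) * ((x * x) * z) := by
          calc (h * z) * (z * (x * x)) = ((h * z) * z) * (x * x) := by group
            _ = h * (x * x) := by rw [← e1]
            _ = (x * x) * h := h1
            _ = (x * x) * ((h * z) * z) := by rw [← e1]
            _ = ((x * x) * (h * z)) * z := by group
            _ = ((h * z) * (x * x)) * z := by rw [h2]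
            _ = (h * z) * ((x * x) * z) := by group
        have h4 := mul_left_cancel h3
        rw [h4, mul_assoc, mul_inv_cancel, mul_one]
      have e2 : z * (x * x) * z⁻¹ = y * y := by
        calc z * (x * x) * z⁻¹ = (z * x * z⁻¹) * (z * x * z⁻¹) := by group
          _ = y * y := by rw [d.hzx]
      rw [e2] at e
      exact d.x_sq_ne_y_sq e.symm

theorem aut_mem (α : MulAut H) {a : H} (ha : a ∈ baseM x y d.hxy) : α a ∈ baseM x y d.hxy := by
  rw [d.mem_iff]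
  intro g
  obtain ⟨g', rfl⟩ := α.surjective g
  rw [← map_mul, ← map_mul, ← map_mul, (d.mem_iff a).mp ha g']

theorem aut_mem_iff (α : MulAut H) (a : H) : α a ∈ baseM x y d.hxy ↔ a ∈ baseM x y d.hxy := by
  constructor
  · intro h
    have := d.aut_mem α⁻¹ h
    rwa [MulAut.inv_apply, MulEquiv.symm_apply_apply] at this
  · exact d.aut_mem α


theorem one_le_n : 1 ≤ n := le_trans (by norm_num) d.hn

theorem xp_sq : x ^ (2 ^ (n - 1)) * x ^ (2 ^ (n - 1)) = 1 := by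
  rw [← pow_add, ← two_mul, ← pow_succ']
  have : n - 1 + 1 = n := by have := d.one_le_n; omega
  rw [this, ← d.hx]
  exact pow_orderOf_eq_one x

theorem yp_sq : y ^ (2 ^ (n - 1)) * y ^ (2 ^ (n - 1)) = 1 := by
  rw [← pow_add, ← two_mul, ← pow_succ']
  have : n - 1 + 1 = n := by have := d.one_le_n; omega
  rw [this, ← d.hy]
  exact pow_orderOf_eq_one y

theorem xp_ne_one : x ^ (2 ^ (n - 1)) ≠ 1 := by
  apply pow_ne_one_of_lt_orderOf (by positivity)
  rw [d.hx]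
  exact Nat.pow_lt_pow_right (by norm_num) (by have := d.one_le_n; omega)

theorem yp_ne_one : y ^ (2 ^ (n - 1)) ≠ 1 := by
  apply pow_ne_one_of_lt_orderOf (by positivity)
  rw [d.hy]
  exact Nat.pow_lt_pow_right (by norm_num) (by have := d.one_le_n; omega)

theorem xp_ne_yp : x ^ (2 ^ (n - 1)) ≠ y ^ (2 ^ (n - 1)) := by
  intro h
  have h2 : x ^ (2 ^ (n - 1)) ∈ Subgroup.zpowers x ⊓ Subgroup.zpowers y := by
    refine Subgroup.mem_inf.mpr ⟨pow_mem (Subgroup.mem_zpowers x) _, ?_⟩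
    rw [h]
    exact pow_mem (Subgroup.mem_zpowers y) _
  rw [d.hdisj, Subgroup.mem_bot] at h2
  exact d.xp_ne_one h2

theorem conj_xp : z * x ^ (2 ^ (n - 1)) * z⁻¹ = y ^ (2 ^ (n - 1)) := by
  rw [← _root_.conj_pow, d.hzx]

theorem conj_yp : z * y ^ (2 ^ (n - 1)) * z⁻¹ = x ^ (2 ^ (n - 1)) := by
  rw [← _root_.conj_pow, d.hzy]

theorem xp_mem : x ^ (2 ^ (n - 1)) ∈ baseM x y d.hxy :=
  ⟨((2 ^ (n - 1) : ℕ) : ℤ), 0, by rw [zpow_natCast, zpow_zero, mul_one]⟩

theorem yp_mem : y ^ (2 ^ (n - 1)) ∈ baseM x y d.hxy :=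
  ⟨0, ((2 ^ (n - 1) : ℕ) : ℤ), by rw [zpow_natCast, zpow_zero, one_mul]⟩

/-- the involutions of `M` -/
theorem invol_cases {a : H} (ha : a ∈ baseM x y d.hxy) (h2 : a * a = 1) :
    a = 1 ∨ a = x ^ (2 ^ (n - 1)) ∨ a = y ^ (2 ^ (n - 1)) ∨
      a = x ^ (2 ^ (n - 1)) * y ^ (2 ^ (n - 1)) := by
  obtain ⟨i, j, rfl⟩ := ha
  have hc : Commute x y := d.hxy
  have e : x ^ i * y ^ j * (x ^ i * y ^ j) = x ^ (i + i) * y ^ (j + j) := by
    have h1 : y ^ j * x ^ i = x ^ i * y ^ j := ((hc.zpow_zpow i j).eq).symm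
    calc x ^ i * y ^ j * (x ^ i * y ^ j) = x ^ i * (y ^ j * x ^ i) * y ^ j := by group
      _ = x ^ i * (x ^ i * y ^ j) * y ^ j := by rw [h1]
      _ = x ^ (i + i) * y ^ (j + j) := by rw [zpow_add, zpow_add]; group
  rw [e] at h2
  obtain ⟨hx2, hy2⟩ := d.eq_one_of_mul_eq_one h2
  rw [zpow_add] at hx2 hy2
  rcases zpow_sq_eq_one d.hx d.one_le_n i hx2 with h | h <;>
  rcases zpow_sq_eq_one d.hy d.one_le_n j hy2 with h' | h'
  · left; rw [h, h', one_mul]
  · right; right; left; rw [h, h', one_mul]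
  · right; left; rw [h, h', mul_one]
  · right; right; right; rw [h, h']

theorem c0_central (h : H) :
    (x ^ (2 ^ (n - 1)) * y ^ (2 ^ (n - 1))) * h = h * (x ^ (2 ^ (n - 1)) * y ^ (2 ^ (n - 1))) := by
  have hcM : x ^ (2 ^ (n - 1)) * y ^ (2 ^ (n - 1)) ∈ baseM x y d.hxy := mul_mem d.xp_mem d.yp_mem
  have hcz : (x ^ (2 ^ (n - 1)) * y ^ (2 ^ (n - 1))) * z = z * (x ^ (2 ^ (n - 1)) * y ^ (2 ^ (n - 1))) := by
    have h1 : z * (x ^ (2 ^ (n - 1)) * y ^ (2 ^ (n - 1))) * z⁻¹ =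
        x ^ (2 ^ (n - 1)) * y ^ (2 ^ (n - 1)) := by
      calc z * (x ^ (2 ^ (n - 1)) * y ^ (2 ^ (n - 1))) * z⁻¹
          = (z * x ^ (2 ^ (n - 1)) * z⁻¹) * (z * y ^ (2 ^ (n - 1)) * z⁻¹) := by group
        _ = y ^ (2 ^ (n - 1)) * x ^ (2 ^ (n - 1)) := by rw [d.conj_xp, d.conj_yp]
        _ = x ^ (2 ^ (n - 1)) * y ^ (2 ^ (n - 1)) := baseM_comm d.hxy d.yp_mem d.xp_mem
    calc (x ^ (2 ^ (n - 1)) * y ^ (2 ^ (n - 1))) * z
        = (z * (x ^ (2 ^ (n - 1)) * y ^ (2 ^ (n - 1))) * z⁻¹) * z := by rw [h1]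
      _ = z * (x ^ (2 ^ (n - 1)) * y ^ (2 ^ (n - 1))) := by group
  rcases d.normal_form h with hh | hh
  · exact baseM_comm d.hxy hcM hh
  · have e1 : h = (h * z) * z := by rw [mul_assoc, d.z_mul_z, mul_one]
    have h3 := baseM_comm d.hxy hcM hh
    generalize h * z = a at e1 h3
    subst e1
    calc (x ^ (2 ^ (n - 1)) * y ^ (2 ^ (n - 1))) * (a * z)
        = ((x ^ (2 ^ (n - 1)) * y ^ (2 ^ (n - 1))) * a) * z := by group
      _ = (a * (x ^ (2 ^ (n - 1)) * y ^ (2 ^ (n - 1)))) * z := by rw [h3]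
      _ = a * ((x ^ (2 ^ (n - 1)) * y ^ (2 ^ (n - 1))) * z) := by group
      _ = a * (z * (x ^ (2 ^ (n - 1)) * y ^ (2 ^ (n - 1)))) := by rw [hcz]
      _ = (a * z) * (x ^ (2 ^ (n - 1)) * y ^ (2 ^ (n - 1))) := by group

theorem xp_not_central : ¬ (x ^ (2 ^ (n - 1)) * z = z * x ^ (2 ^ (n - 1))) := by
  intro h
  have h1 : z * x ^ (2 ^ (n - 1)) * z⁻¹ = x ^ (2 ^ (n - 1)) := by rw [← h]; group
  rw [d.conj_xp] at h1
  exact d.xp_ne_yp h1.symm

theorem yp_not_central : ¬ (y ^ (2 ^ (n - 1)) * z = z * y ^ (2 ^ (n - 1))) := by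
  intro h
  have h1 : z * y ^ (2 ^ (n - 1)) * z⁻¹ = y ^ (2 ^ (n - 1)) := by rw [← h]; group
  rw [d.conj_yp] at h1
  exact d.xp_ne_yp h1

end WrData

end

end Cfsg.Agent.Helper26.Wreathed
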