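import Mathlib
import Cfsg.Agent.Helper26.Wreathed2

set_option autoImplicit false

/-! Wreathed 2-groups: automorphisms of odd order are trivial. -/

namespace Cfsg.Agent.Helper26.Wreathed

section

variable {H : Type*} [Group H] {n : ℕ} {x y z : H}

namespace WrData

variable (d : WrData H n x y z) (α : MulAut H)
include d

theorem c0_ne_one : x ^ (2 ^ (n - 1)) * y ^ (2 ^ (n - 1)) ≠ 1 := by
  intro h
  have h1 : x ^ (2 ^ (n - 1)) = (y ^ (2 ^ (n - 1)))⁻¹ := eq_inv_of_mul_eq_one_left h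
  have h2 : (y ^ (2 ^ (n - 1)))⁻¹ = y ^ (2 ^ (n - 1)) := inv_eq_of_mul_eq_one_right d.yp_sq
  rw [h2] at h1
  exact d.xp_ne_yp h1

theorem c0_sq : (x ^ (2 ^ (n - 1)) * y ^ (2 ^ (n - 1))) * (x ^ (2 ^ (n - 1)) * y ^ (2 ^ (n - 1))) = 1 := by
  have hc := baseM_comm d.hxy d.yp_mem d.xp_mem
  calc (x ^ (2 ^ (n - 1)) * y ^ (2 ^ (n - 1))) * (x ^ (2 ^ (n - 1)) * y ^ (2 ^ (n - 1)))
      = x ^ (2 ^ (n - 1)) * (y ^ (2 ^ (n - 1)) * x ^ (2 ^ (n - 1))) * y ^ (2 ^ (n - 1)) := by group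
    _ = x ^ (2 ^ (n - 1)) * (x ^ (2 ^ (n - 1)) * y ^ (2 ^ (n - 1))) * y ^ (2 ^ (n - 1)) := by rw [hc]
    _ = (x ^ (2 ^ (n - 1)) * x ^ (2 ^ (n - 1))) * (y ^ (2 ^ (n - 1)) * y ^ (2 ^ (n - 1))) := by group
    _ = 1 := by rw [d.xp_sq, d.yp_sq, one_mul]

theorem aut_c0 : α (x ^ (2 ^ (n - 1)) * y ^ (2 ^ (n - 1))) = x ^ (2 ^ (n - 1)) * y ^ (2 ^ (n - 1)) := by
  have hM := d.aut_mem α (mul_mem d.xp_mem d.yp_mem)
  have hsq : α (x ^ (2 ^ (n - 1)) * y ^ (2 ^ (n - 1))) * α (x ^ (2 ^ (n - 1)) * y ^ (2 ^ (n - 1))) = 1 := by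
    rw [← map_mul, d.c0_sq, map_one]
  have hne : α (x ^ (2 ^ (n - 1)) * y ^ (2 ^ (n - 1))) ≠ 1 := by
    intro h
    exact d.c0_ne_one ((map_eq_one_iff α α.injective).mp h)
  have hcent : ∀ h : H, α (x ^ (2 ^ (n - 1)) * y ^ (2 ^ (n - 1))) * h =
      h * α (x ^ (2 ^ (n - 1)) * y ^ (2 ^ (n - 1))) := by
    intro h
    obtain ⟨h', rfl⟩ := α.surjective h
    rw [← map_mul, ← map_mul, d.c0_central h']
  rcases d.invol_cases hM hsq with h | h | h | h
  · exact absurd h hne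
  · exfalso
    have := hcent z
    rw [h] at this
    exact d.xp_not_central this
  · exfalso
    have := hcent z
    rw [h] at this
    exact d.yp_not_central this
  · exact h

theorem aut_xp_cases : α (x ^ (2 ^ (n - 1))) = x ^ (2 ^ (n - 1)) ∨
    α (x ^ (2 ^ (n - 1))) = y ^ (2 ^ (n - 1)) := by
  have hM := d.aut_mem α d.xp_mem
  have hsq : α (x ^ (2 ^ (n - 1))) * α (x ^ (2 ^ (n - 1))) = 1 := by
    rw [← map_mul, d.xp_sq, map_one]
  rcases d.invol_cases hM hsq with h | h | h | h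
  · exact absurd ((map_eq_one_iff α α.injective).mp h) d.xp_ne_one
  · exact Or.inl h
  · exact Or.inr h
  · exfalso
    rw [← d.aut_c0 α] at h
    have h1 := α.injective h
    have h2 : y ^ (2 ^ (n - 1)) = 1 := by
      have : x ^ (2 ^ (n - 1)) * 1 = x ^ (2 ^ (n - 1)) * y ^ (2 ^ (n - 1)) := by rw [mul_one]; exact h1
      exact (mul_left_cancel this).symm
    exact d.yp_ne_one h2

theorem aut_yp_cases : α (y ^ (2 ^ (n - 1))) = x ^ (2 ^ (n - 1)) ∨
    α (y ^ (2 ^ (n - 1))) = y ^ (2 ^ (n - 1)) := by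
  have hM := d.aut_mem α d.yp_mem
  have hsq : α (y ^ (2 ^ (n - 1))) * α (y ^ (2 ^ (n - 1))) = 1 := by
    rw [← map_mul, d.yp_sq, map_one]
  rcases d.invol_cases hM hsq with h | h | h | h
  · exact absurd ((map_eq_one_iff α α.injective).mp h) d.yp_ne_one
  · exact Or.inl h
  · exact Or.inr h
  · exfalso
    rw [← d.aut_c0 α] at h
    have h1 := α.injective h
    have h2 : x ^ (2 ^ (n - 1)) = 1 := by
      have : 1 * y ^ (2 ^ (n - 1)) = x ^ (2 ^ (n - 1)) * y ^ (2 ^ (n - 1)) := by rw [one_mul]; exact h1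
      exact (mul_right_cancel this).symm
    exact d.xp_ne_one h2

variable {r : ℕ} (hr : Odd r) (hαr : α ^ r = 1)
include hr hαr

theorem aut_xp : α (x ^ (2 ^ (n - 1))) = x ^ (2 ^ (n - 1)) := by
  rcases d.aut_xp_cases α with h | h
  · exact h
  exfalso
  have hy : α (y ^ (2 ^ (n - 1))) = x ^ (2 ^ (n - 1)) := by
    rcases d.aut_yp_cases α with h' | h'
    · exact h'
    · exfalso
      rw [← h'] at h
      exact d.xp_ne_yp (α.injective h)
  have key : ∀ k : ℕ, (α ^ (2 * k)) (x ^ (2 ^ (n - 1))) = x ^ (2 ^ (n - 1)) ∧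
      (α ^ (2 * k + 1)) (x ^ (2 ^ (n - 1))) = y ^ (2 ^ (n - 1)) := by
    intro k
    induction k with
    | zero => exact ⟨by simp, by simpa using h⟩
    | succ k ih =>
      have h1 : (α ^ (2 * (k + 1))) (x ^ (2 ^ (n - 1))) = x ^ (2 ^ (n - 1)) := by
        have : 2 * (k + 1) = (2 * k + 1) + 1 := by ring
        rw [this, pow_succ', MulAut.mul_apply, ih.2, hy]
      refine ⟨h1, ?_⟩
      rw [pow_succ', MulAut.mul_apply, h1, h]
  obtain ⟨k, rfl⟩ := hr
  have := (key k).2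
  rw [hαr, MulAut.one_apply] at this
  exact d.xp_ne_yp this

theorem aut_yp : α (y ^ (2 ^ (n - 1))) = y ^ (2 ^ (n - 1)) := by
  rcases d.aut_yp_cases α with h | h
  · exfalso
    rw [← d.aut_xp α hr hαr] at h
    exact d.xp_ne_yp (α.injective h).symm
  · exact h

theorem aut_fix_invol {a : H} (ha : a ∈ baseM x y d.hxy) (h2 : a * a = 1) : α a = a := by
  rcases d.invol_cases ha h2 with h | h | h | h
  · rw [h, map_one]
  · rw [h, d.aut_xp α hr hαr]
  · rw [h, d.aut_yp α hr hαr]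
  · rw [h, d.aut_c0 α]

theorem aut_fix_pow (k : ℕ) : ∀ a ∈ baseM x y d.hxy, a ^ (2 ^ k) = 1 → α a = a := by
  induction k with
  | zero =>
    intro a _ h
    rw [pow_zero, pow_one] at h
    rw [h, map_one]
  | succ k ih =>
    intro a ha h
    have hb : (a * a) ^ (2 ^ k) = 1 := by
      rw [← sq, ← pow_mul, ← pow_succ']; exact h
    have hαb := ih (a * a) (mul_mem ha ha) hb
    have hαa := d.aut_mem α ha
    have hw : a⁻¹ * α a ∈ baseM x y d.hxy := mul_mem (inv_mem ha) hαa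
    have hw2 : (a⁻¹ * α a) * (a⁻¹ * α a) = 1 := by
      have hc := baseM_comm d.hxy hαa (inv_mem ha)
      calc (a⁻¹ * α a) * (a⁻¹ * α a) = a⁻¹ * (α a * a⁻¹) * α a := by group
        _ = a⁻¹ * (a⁻¹ * α a) * α a := by rw [hc]
        _ = (a * a)⁻¹ * (α a * α a) := by group
        _ = (a * a)⁻¹ * α (a * a) := by rw [map_mul]
        _ = 1 := by rw [hαb, inv_mul_cancel]
    have hαw := d.aut_fix_invol α hr hαr hw hw2
    have hαa' : α a = a * (a⁻¹ * α a) := by group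
    have key : ∀ m : ℕ, (α ^ m) a = a * (a⁻¹ * α a) ^ m := by
      intro m
      induction m with
      | zero => simp
      | succ m ihm =>
        rw [pow_succ', MulAut.mul_apply, ihm, map_mul, map_pow, hαw, pow_succ', ← mul_assoc, ← hαa']
    have h1 := key r
    rw [hαr, MulAut.one_apply] at h1
    have h2 : (a⁻¹ * α a) ^ r = 1 := by
      have : a * 1 = a * (a⁻¹ * α a) ^ r := by rw [mul_one]; exact h1
      exact (mul_left_cancel this).symm
    obtain ⟨j, rfl⟩ := hr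
    rw [pow_succ, pow_mul, sq, hw2, one_pow, one_mul] at h2
    rw [hαa', h2, mul_one]

omit hr hαr in
theorem M_pow {a : H} (ha : a ∈ baseM x y d.hxy) : a ^ (2 ^ n) = 1 := by
  obtain ⟨i, j, rfl⟩ := ha
  have hc : Commute (x ^ i) (y ^ j) := (show Commute x y from d.hxy).zpow_zpow i j
  rw [hc.mul_pow, ← zpow_natCast, ← zpow_natCast, ← zpow_mul, ← zpow_mul, mul_comm i, mul_comm j,
    zpow_mul, zpow_mul, zpow_natCast, zpow_natCast]
  have h1 : x ^ (2 ^ n) = 1 := by rw [← d.hx]; exact pow_orderOf_eq_one x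
  have h2 : y ^ (2 ^ n) = 1 := by rw [← d.hy]; exact pow_orderOf_eq_one y
  rw [h1, h2, one_zpow, one_zpow, one_mul]

theorem aut_fix_M {a : H} (ha : a ∈ baseM x y d.hxy) : α a = a :=
  d.aut_fix_pow α hr hαr n a ha (d.M_pow ha)

theorem aut_fix_z : α z = z := by
  have h1 : α z ∉ baseM x y d.hxy := by
    rw [d.aut_mem_iff]; exact d.z_not_mem
  have ha0 : α z * z ∈ baseM x y d.hxy := by
    rcases d.normal_form (α z) with h | h
    · exact absurd h h1
    · exact h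
  have hαz : α z = (α z * z) * z := by rw [mul_assoc, d.z_mul_z, mul_one]
  have hfix := d.aut_fix_M α hr hαr ha0
  have key : ∀ m : ℕ, (α ^ m) z = (α z * z) ^ m * z := by
    intro m
    induction m with
    | zero => simp
    | succ m ihm =>
      rw [pow_succ', MulAut.mul_apply, ihm, map_mul, map_pow, hfix, pow_succ]
      rw [mul_assoc, ← hαz]
  have h2 := key r
  rw [hαr, MulAut.one_apply] at h2
  have h3 : (α z * z) ^ r = 1 := by
    have : 1 * z = (α z * z) ^ r * z := by rw [one_mul]; exact h2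
    exact (mul_right_cancel this).symm
  have h4 : (α z * z) ^ (2 ^ n) = 1 := d.M_pow ha0
  have h5 : orderOf (α z * z) ∣ Nat.gcd r (2 ^ n) :=
    Nat.dvd_gcd (orderOf_dvd_of_pow_eq_one h3) (orderOf_dvd_of_pow_eq_one h4)
  have h6 : Nat.gcd r (2 ^ n) = 1 := Nat.Coprime.pow_right n hr.coprime_two_right
  rw [h6, Nat.dvd_one, orderOf_eq_one_iff] at h5
  rw [hαz, h5, one_mul]

theorem aut_eq_one : α = 1 := by
  ext h
  rw [MulAut.one_apply]
  rcases d.normal_form h with hh | hh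
  · exact d.aut_fix_M α hr hαr hh
  · have e1 : h = (h * z) * z := by rw [mul_assoc, d.z_mul_z, mul_one]
    have h1 := d.aut_fix_M α hr hαr hh
    have h2 := d.aut_fix_z α hr hαr
    have h3 : α h = α (h * z) * α z := by rw [← map_mul, ← e1]
    rw [h3, h1, h2, ← e1]

end WrData

theorem isPGroup_mulAut_of_wrData (d : WrData H n x y z) : IsPGroup 2 (MulAut H) := by
  have hfin := d.finite
  intro α
  have hN : orderOf α ≠ 0 := (orderOf_pos α).ne'
  obtain ⟨k, m, hm, hkm⟩ := Nat.exists_eq_two_pow_mul_odd hN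
  refine ⟨k, ?_⟩
  apply d.aut_eq_one (α ^ (2 ^ k)) hm
  rw [← pow_mul, ← hkm, pow_orderOf_eq_one]

theorem isPGroup_mulAut_of_wreathed (h : Cfsg.IsWreathed H) : IsPGroup 2 (MulAut H) := by
  obtain ⟨n, hn, hcard, x, y, z, hx, hxy, hdisj, hz, hzx⟩ := h
  exact isPGroup_mulAut_of_wrData ⟨hn, hcard, hx, hxy, hdisj, hz, hzx⟩

end

end Cfsg.Agent.Helper26.Wreathed
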