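import Mathlib
import Cfsg.Agent.Helper26.QDWr
import Cfsg.Agent.Helper26.Wreathed3

set_option autoImplicit false

/-! Wreathed 2-groups are generated by involutions and one more element. -/

namespace Cfsg.Agent.Helper26.QDWr

open Cfsg.Agent.Helper26.Wreathed

theorem genInvolOne_of_wreathed {H : Type*} [Group H] (h : Cfsg.IsWreathed H) : GenInvolOne H := by
  obtain ⟨n, hn, hcard, x, y, z, hx, hxy, hdisj, hz, hzx⟩ := h
  have d : WrData H n x y z := ⟨hn, hcard, hx, hxy, hdisj, hz, hzx⟩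
  refine ⟨x, fun h => ?_⟩
  have hxc : x ∈ Subgroup.closure ({x : H | orderOf x = 2} ∪ {x}) :=
    Subgroup.subset_closure (Or.inr rfl)
  have hzc : z ∈ Subgroup.closure ({x : H | orderOf x = 2} ∪ {x}) :=
    Subgroup.subset_closure (Or.inl hz)
  have hyc : y ∈ Subgroup.closure ({x : H | orderOf x = 2} ∪ {x}) := by
    rw [← hzx]
    exact mul_mem (mul_mem hzc hxc) (inv_mem hzc)
  have hM : baseM x y d.hxy ≤ Subgroup.closure ({x : H | orderOf x = 2} ∪ {x}) := by
    rintro _ ⟨i, j, rfl⟩
    exact mul_mem (zpow_mem hxc i) (zpow_mem hyc j)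
  rcases d.normal_form h with hh | hh
  · exact hM hh
  · have e1 : h = (h * z) * z := by rw [mul_assoc, d.z_mul_z, mul_one]
    rw [e1]
    exact mul_mem (hM hh) hzc

end Cfsg.Agent.Helper26.QDWr
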