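import Mathlib
import Cfsg.Prelude.Def_FusionSystem
import Cfsg.Agent.Helper26.CB11

set_option autoImplicit false

/-!
Evaluation of the homomorphism `phi` on conjugates of elements of `S` inside the group of
permutations of a characteristic biset commuting with the right action, in terms of maps of the
fusion system; the transfer of a homomorphism invariant under the system.
-/

namespace Cfsg.Agent.Helper26.YF

open Cfsg Cfsg.FusionSystem Cfsg.Agent.Helper25 Cfsg.Agent.Helper25.Park Cfsg.Agent.Helper26.CB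

universe u

variable {Ω : Type u} [Group Ω] {S : Subgroup Ω} {X : Type u}

section transfer

variable (a : ↥(S.prod S) →* Equiv.Perm X) (x₀ : X) (F : FusionSystem S)
  (hTD : ∀ x, TD F (stab a x))

/-- The value of `phi` on a conjugate of an element of `S` is given by a map of the system
depending only on the conjugating element. -/
theorem phi_conj_eq (g₀ : ↥(Cen a)) :
    ∃ (Q : Subgroup Ω) (ψ : Q →* Ω), ψ ∈ F.Hom Q ∧
      ∀ (u : ↥S) (hmem : g₀⁻¹ * iota a u * g₀ ∈ H0 a x₀),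
        ∃ (hq : (u : Ω) ∈ Q) (s : ↥S), ψ ⟨(u : Ω), hq⟩ = (s : Ω) ∧
          phi a x₀ F hTD ⟨_, hmem⟩ = Abelianization.of s := by
  obtain ⟨Q, ψ, hψ, hall⟩ := hTD ((g₀ : Equiv.Perm X) x₀)
  refine ⟨Q, ψ, hψ, ?_⟩
  intro u hmem
  set s : ↥S := sOf a x₀ ⟨_, hmem⟩ with hs
  have h1 := sOf_spec a x₀ ⟨_, hmem⟩
  rw [← hs] at h1
  have h2 : ((g₀⁻¹ * iota a u * g₀ : ↥(Cen a)) : Equiv.Perm X) x₀ = rAct a s x₀ := h1
  rw [Subgroup.coe_mul, Subgroup.coe_mul, Subgroup.coe_inv, Equiv.Perm.mul_apply,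
    Equiv.Perm.mul_apply, Equiv.Perm.inv_eq_iff_eq, ← Cen_comm, coe_iota] at h2
  have h3 : mkH S (u, s⁻¹) ∈ stab a ((g₀ : Equiv.Perm X) x₀) := by
    rw [mem_stab, ← rAct_mul_lAct, Equiv.Perm.mul_apply, h2, ← Equiv.Perm.mul_apply, ← map_mul,
      inv_mul_cancel, map_one]
    rfl
  obtain ⟨hq, he⟩ := hall _ h3
  exact ⟨hq, s⁻¹, he, by rw [phi_apply, map_inv]⟩

/-- A homomorphism out of the abelianization that takes the same value on the two ends of
every map of the system. -/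
def Inv (F : FusionSystem S) {A : Type*} [CommGroup A] (ρ : Abelianization ↥S →* A) : Prop :=
  ∀ (P : Subgroup Ω) (ψ : P →* Ω), ψ ∈ F.Hom P → ∀ (x : P) (u s : ↥S), (x : Ω) = (u : Ω) →
    ψ x = (s : Ω) → ρ (Abelianization.of s) = ρ (Abelianization.of u)

theorem phi_conj_inv {A : Type*} [CommGroup A] (ρ : Abelianization ↥S →* A) (hρ : Inv F ρ)
    (z : ↥S) (g₀ : ↥(Cen a)) (n : ℕ) (hmem : g₀⁻¹ * iota a z ^ n * g₀ ∈ H0 a x₀) :
    ρ (phi a x₀ F hTD ⟨_, hmem⟩) = ρ (Abelianization.of z) ^ n := by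
  have e : iota a z ^ n = iota a (z ^ n) := (map_pow _ _ _).symm
  have hmem' : g₀⁻¹ * iota a (z ^ n) * g₀ ∈ H0 a x₀ := by rw [← e]; exact hmem
  have e2 : (⟨_, hmem⟩ : ↥(H0 a x₀)) = ⟨_, hmem'⟩ :=
    Subtype.ext (show g₀⁻¹ * iota a z ^ n * g₀ = g₀⁻¹ * iota a (z ^ n) * g₀ by rw [e])
  obtain ⟨Q, ψ, hψ, hall⟩ := phi_conj_eq a x₀ F hTD g₀
  obtain ⟨hq, s, hs, hphi⟩ := hall (z ^ n) hmem'
  rw [e2, hphi, hρ Q ψ hψ ⟨_, hq⟩ (z ^ n) s rfl hs, map_pow, map_pow]

theorem trf_iota_inv [Finite X] {A : Type*} [CommGroup A] (ρ : Abelianization ↥S →* A)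
    (hρ : Inv F ρ) (z : ↥S) :
    ρ (trf a x₀ F hTD (iota a z)) = ρ (Abelianization.of z) ^ (H0 a x₀).index := by
  classical
  let _ : Fintype (Quotient (MulAction.orbitRel (Subgroup.zpowers (iota a z))
    (↥(Cen a) ⧸ H0 a x₀))) := Fintype.ofFinite _
  unfold trf
  rw [MonoidHom.transfer_eq_prod_quotient_orbitRel_zpowers_quot, map_prod]
  rw [Finset.prod_congr rfl (fun q _ => phi_conj_inv a x₀ F hTD ρ hρ z q.out.out _ _)]
  rw [Finset.prod_pow_eq_pow_sum, ← Subgroup.index_eq_sum_minimalPeriod]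

variable (hx₀ : ∀ k ∈ graphSub (1 : MulAut ↥S), a k x₀ = x₀)

include hTD hx₀ in
theorem iota_injective : Function.Injective (iota a) := by
  intro u v huv
  have h1 : lAct a u x₀ = lAct a v x₀ := by
    rw [← coe_iota, ← coe_iota, huv]
  rw [lAct_base a x₀ hx₀, lAct_base a x₀ hx₀] at h1
  have := rAct_injective a F hTD x₀ h1
  exact inv_injective this

end transfer

end Cfsg.Agent.Helper26.YF
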