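import Mathlib
import Cfsg.Prelude.Def_FusionSystem
import Cfsg.Agent.Helper1.PGroup
import Cfsg.Agent.Helper14.Frattini
import Cfsg.Agent.Helper26.YF1

set_option autoImplicit false
set_option linter.style.haveILetI false

/-!
Tate's lemma on the focal subgroup of a saturated fusion system, in its elementary form: a normal
subgroup `D` of `S` between the derived subgroup and the focal subgroup which covers the focal
subgroup modulo the Frattini subgroup is the focal subgroup.
-/

namespace Cfsg.Agent.Helper26.YF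

open Cfsg Cfsg.FusionSystem Cfsg.Agent.Helper25 Cfsg.Agent.Helper25.Park Cfsg.Agent.Helper26.CB
open scoped commutatorElement

universe u

variable {Ω : Type u} [Group Ω] {S : Subgroup Ω}

theorem focal_le_of_le_sup_frattini [Finite S] (p : ℕ) [Fact p.Prime] (hS : IsPGroup p S)
    (F : FusionSystem S) (hF : F.IsSaturated p) (D : Subgroup ↥S) [hDn : D.Normal]
    (hD1 : commutator ↥S ≤ D) (hD2 : D.map S.subtype ≤ F.focalSubgroup)
    (hD3 : F.focalSubgroup ≤ (D ⊔ frattini ↥S).map S.subtype) :
    F.focalSubgroup ≤ D.map S.subtype := by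
  classical
  have hpp : p.Prime := Fact.out
  obtain ⟨X, hX, a, hTD, hst, ⟨x₀, hx₀⟩, ⟨k, hk, hcard⟩⟩ := exists_charBiset p hS F hF
  have := hX
  have hidx : (H0 a x₀).index = k := by
    have h1 := card_eq_mul_index a x₀ F hTD hx₀
    rw [hcard, mul_comm] at h1
    exact (Nat.eq_of_mul_eq_mul_left Nat.card_pos h1).symm
  have hcomm : ∀ a b : ↥S ⧸ D, a * b = b * a := by
    intro a b
    obtain ⟨a, rfl⟩ := QuotientGroup.mk_surjective a
    obtain ⟨b, rfl⟩ := QuotientGroup.mk_surjective b
    rw [← QuotientGroup.mk_mul, ← QuotientGroup.mk_mul, QuotientGroup.eq]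
    apply hD1
    have h1 : (a * b)⁻¹ * (b * a) = ⁅b⁻¹, a⁻¹⁆ := by rw [commutatorElement_def]; group
    rw [h1, _root_.commutator_def]
    exact Subgroup.commutator_mem_commutator (Subgroup.mem_top _) (Subgroup.mem_top _)
  letI : CommGroup (↥S ⧸ D) :=
    { (inferInstance : Group (↥S ⧸ D)) with mul_comm := hcomm }
  let π : ↥S →* ↥S ⧸ D := QuotientGroup.mk' D
  let πb : Abelianization ↥S →* ↥S ⧸ D := Abelianization.lift π
  have hπb : ∀ s : ↥S, πb (Abelianization.of s) = π s := fun s => Abelianization.lift_apply_of π s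
  let V : ↥S →* Abelianization ↥S := (trf a x₀ F hTD).comp (iota a)
  let τS : ↥S →* ↥S ⧸ D := πb.comp V
  have hfocV : F.focalSubgroup ≤ V.ker.map S.subtype := trf_iota_focal a x₀ F hTD hst
  have hker : F.focalSubgroup ≤ τS.ker.map S.subtype := by
    intro y hy
    obtain ⟨z, hz, rfl⟩ := hfocV hy
    refine ⟨z, ?_, rfl⟩
    have hz' : V z = 1 := hz
    show πb (V z) = 1
    rw [hz', map_one]
  have hsurj : τS.range = ⊤ := by
    by_contra hne
    obtain h | ⟨M, hMco, hle⟩ := eq_top_or_exists_le_coatom τS.range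
    · exact hne h
    have hA : IsPGroup p (↥S ⧸ D) := hS.to_quotient D
    haveI hMn : M.Normal := inferInstance
    have hidxM : M.index = p := Cfsg.Agent.Helper1.IsPGroup.coatom_index hA hMco
    let f : (↥S ⧸ D) →* (↥S ⧸ D) ⧸ M := QuotientGroup.mk' M
    have hcardM : Nat.card ((↥S ⧸ D) ⧸ M) = p := by
      rw [← Subgroup.index_eq_card]; exact hidxM
    have hfexp : ∀ a : (↥S ⧸ D) ⧸ M, a ^ p = 1 := by
      intro a
      have h0 : a ^ Nat.card ((↥S ⧸ D) ⧸ M) = 1 := pow_card_eq_one'
      rwa [hcardM] at h0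
    let ρ : Abelianization ↥S →* (↥S ⧸ D) ⧸ M := f.comp πb
    have hρof : ∀ s : ↥S, ρ (Abelianization.of s) = f (π s) := by
      intro s
      show f (πb (Abelianization.of s)) = f (π s)
      rw [hπb]
    have hkill : ∀ s : ↥S, (s : Ω) ∈ F.focalSubgroup → ρ (Abelianization.of s) = 1 := by
      intro s hs
      obtain ⟨s', hs', hss'⟩ := hD3 hs
      have e : s' = s := Subtype.ext hss'
      rw [e] at hs'
      have h2 : D ⊔ frattini ↥S ≤ (f.comp π).ker := by
        apply sup_le
        · intro d hd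
          rw [MonoidHom.mem_ker, MonoidHom.comp_apply]
          have h3 : π d = 1 := (QuotientGroup.eq_one_iff d).2 hd
          rw [h3, map_one]
        · apply Cfsg.Agent.Helper14.frattini_le_of_elemAb p
          · intro a b
            rw [MonoidHom.mem_ker, map_commutatorElement]
            exact commutatorElement_eq_one_iff_commute.2 (Commute.all _ _)
          · intro a
            rw [MonoidHom.mem_ker, map_pow]
            exact hfexp _
      rw [hρof]
      exact MonoidHom.mem_ker.1 (h2 hs')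
    have hρ : Inv F ρ := by
      intro P ψ hψ x u s hxu hs
      have h1 : ((u⁻¹ * s : ↥S) : Ω) ∈ F.focalSubgroup := by
        apply Subgroup.subset_closure
        refine ⟨P, ψ, x, hψ, ?_⟩
        rw [Subgroup.coe_mul, Subgroup.coe_inv, ← hxu, ← hs]
      have h2 := hkill _ h1
      rw [map_mul, map_mul, map_inv, map_inv] at h2
      exact (inv_mul_eq_one.1 h2).symm
    have hall : ∀ s : ↥S, ρ (Abelianization.of s) = 1 := by
      intro s
      have h1 := trf_iota_inv a x₀ F hTD ρ hρ s
      rw [hidx] at h1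
      have h2 : τS s ∈ M := hle ⟨s, rfl⟩
      have h3 : ρ (trf a x₀ F hTD (iota a s)) = 1 := by
        show f (τS s) = 1
        exact (QuotientGroup.eq_one_iff _).2 h2
      rw [h3] at h1
      have h4 : orderOf (ρ (Abelianization.of s)) ∣ Nat.gcd k p :=
        Nat.dvd_gcd (orderOf_dvd_of_pow_eq_one h1.symm) (orderOf_dvd_of_pow_eq_one (hfexp _))
      have hcop : Nat.Coprime k p := by
        rw [Nat.coprime_comm, hpp.coprime_iff_not_dvd]; exact hk
      rw [hcop.gcd_eq_one, Nat.dvd_one] at h4
      exact orderOf_eq_one_iff.1 h4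
    apply hMco.1
    rw [eq_top_iff]
    intro b _
    obtain ⟨s, rfl⟩ := QuotientGroup.mk_surjective b
    have h5 := hall s
    rw [hρof] at h5
    exact (QuotientGroup.eq_one_iff _).1 h5
  have hi1 : D.index = Nat.card (↥S ⧸ D) := Subgroup.index_eq_card D
  have hi2 : τS.ker.index = Nat.card (↥S ⧸ D) := by
    rw [Subgroup.index_ker, hsurj]; exact Nat.card_congr (Subgroup.topEquiv).toEquiv
  have hDk : D ≤ τS.ker := by
    intro d hd
    have h1 : (d : Ω) ∈ D.map S.subtype := ⟨d, hd, rfl⟩
    obtain ⟨z, hz, hzd⟩ := hker (hD2 h1)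
    have e : z = d := Subtype.ext hzd
    rw [← e]
    exact hz
  have h1 := Subgroup.relIndex_mul_index hDk
  rw [hi1, hi2] at h1
  have hpos : 0 < Nat.card (↥S ⧸ D) := Nat.card_pos
  have h2 : D.relIndex τS.ker = 1 := Nat.eq_of_mul_eq_mul_right hpos (by rw [h1, one_mul])
  have h3 : τS.ker ≤ D := Subgroup.relIndex_eq_one.1 h2
  intro y hy
  obtain ⟨z, hz, rfl⟩ := hker hy
  exact ⟨z, h3 hz, rfl⟩

end Cfsg.Agent.Helper26.YF
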