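import Mathlib
import Cfsg.Prelude.Def_FusionSystem
import Cfsg.Agent.Helper10.YoshidaMain
import Cfsg.Agent.Helper10.YoshidaTate
import Cfsg.Agent.Helper10.YoshidaWreath
import Cfsg.Agent.Helper10.YoshidaFinal
import Cfsg.Agent.Helper26.YF1

set_option autoImplicit false
set_option linter.style.haveILetI false
set_option linter.unusedVariables false

/-!
The Yoshida transfer argument for a saturated fusion system, run inside the group of
permutations of a characteristic biset commuting with the right action: if `S` has no quotient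
isomorphic to a Sylow `p`-subgroup of the symmetric group of degree `p²`, then every
homomorphism from `S` to an elementary abelian `p`-group which is invariant under the
automorphisms of `S` in the system kills the focal subgroup.
-/

namespace Cfsg.Agent.Helper26.YF

open Cfsg Cfsg.FusionSystem Cfsg.Agent.Helper25 Cfsg.Agent.Helper25.Park Cfsg.Agent.Helper26.CB
open Cfsg.Agent.Helper10 Cfsg.Agent.Helper21
open Subgroup MulAction MonoidHom

universe u

variable {Ω : Type u} [Group Ω] {S : Subgroup Ω}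

theorem kills_focal [Finite S] (p : ℕ) [hp : Fact p.Prime] (hS : IsPGroup p S)
    (F : FusionSystem S) (hF : F.IsSaturated p) {A : Type*} [CommGroup A]
    (hexp : ∀ a : A, a ^ p = 1) (ρ : Abelianization ↥S →* A)
    (hρ : ∀ (ψ : ↥S →* Ω), ψ ∈ F.Hom S → ∀ (u s : ↥S), ψ u = (s : Ω) →
      ρ (Abelianization.of s) = ρ (Abelianization.of u))
    (hnw : ¬ ∃ (Q : Sylow p (Equiv.Perm (Fin (p ^ 2))))
      (f : ↥S →* ↥(Q : Subgroup (Equiv.Perm (Fin (p ^ 2))))), Function.Surjective f) :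
    ∀ z : ↥S, (z : Ω) ∈ F.focalSubgroup → ρ (Abelianization.of z) = 1 := by
  classical
  have hpp : p.Prime := hp.out
  obtain ⟨X, hX, a, hTD, hst, ⟨x₀, hx₀⟩, ⟨k, hk, hcard⟩⟩ := exists_charBiset p hS F hF
  have := hX
  have hidx : (H0 a x₀).index = k := by
    have h1 := card_eq_mul_index a x₀ F hTD hx₀
    rw [hcard, mul_comm] at h1
    exact (Nat.eq_of_mul_eq_mul_left Nat.card_pos h1).symm
  obtain ⟨L, hL⟩ : ∃ L : Subgroup ↥(Cen a), L = (iota a).range := ⟨_, rfl⟩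
  obtain ⟨lam, hlam⟩ : ∃ lam : ↥(H0 a x₀) →* A, lam = ρ.comp (phi a x₀ F hTD) := ⟨_, rfl⟩
  have hlam' : ∀ y, lam y = ρ (phi a x₀ F hTD y) := fun y => by rw [hlam]; rfl
  have hinj := iota_injective a x₀ F hTD hx₀
  have hLp : IsPGroup p ↥L := by
    rw [hL]
    exact hS.of_surjective (iota a).rangeRestrict (iota a).rangeRestrict_surjective
  have hιL : ∀ u : ↥S, iota a u ∈ L := fun u => by rw [hL]; exact ⟨u, rfl⟩
  -- the commutator condition in `L`
  have HW : ∀ (x w : ↥L), w ∈ (⊤ : Subgroup ↥L) → ∀ W₀ : Subgroup ↥L, W₀ ≤ ⊤ →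
      W₀.relIndex ⊤ = p → (cw w)^[p - 1] x ∈ W₀ →
      (cw w)^[p - 1] x ∈ (frattini ↥W₀).map W₀.subtype := by
    intro x w _ W₀ _ hrel _
    by_contra hcK
    rw [Subgroup.relIndex_top_right] at hrel
    have hco : IsCoatom W₀ := isCoatom_of_index_prime hpp hrel
    obtain ⟨Q, f, hf⟩ := wreath_quotient_of_commutator hLp W₀ hco x w hcK
    have hsur : Function.Surjective (fun u : ↥S => (⟨iota a u, hιL u⟩ : ↥L)) := by
      rintro ⟨y, hy⟩
      rw [hL] at hy
      obtain ⟨u, rfl⟩ := hy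
      exact ⟨u, rfl⟩
    let e : ↥S →* ↥L := (iota a).codRestrict L hιL
    exact hnw ⟨Q, f.comp e, hf.comp hsur⟩
  suffices H : ∀ (n : ℕ) (z₀ : ↥S), orderOf z₀ = n → (z₀ : Ω) ∈ F.focalSubgroup →
      ρ (Abelianization.of z₀) = 1 from fun z hz => H _ z rfl hz
  intro n
  induction n using Nat.strong_induction_on with
  | _ n ih =>
  intro z₀ hzn hzf
  obtain ⟨z, hz⟩ : ∃ z : ↥(Cen a), z = iota a z₀ := ⟨_, rfl⟩
  have hoz : orderOf z = orderOf z₀ := by rw [hz]; exact orderOf_injective (iota a) hinj z₀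
  have hzL : z ∈ L := by rw [hz]; exact hιL z₀
  have kill : ∀ (k' : ↥(Cen a)) (r : ℕ), r ≠ 1 → r ∣ orderOf z →
      ∀ h : k'⁻¹ * z ^ r * k' ∈ H0 a x₀, lam ⟨k'⁻¹ * z ^ r * k', h⟩ = 1 := by
    intro k' r hr1 hrd h
    obtain ⟨j, hj⟩ : ∃ j, orderOf z₀ = p ^ j := by
      obtain ⟨j, hj⟩ := hS z₀
      obtain ⟨i, _, hi⟩ := (Nat.dvd_prime_pow hpp).1 (orderOf_dvd_of_pow_eq_one hj)
      exact ⟨i, hi⟩
    rw [hoz] at hrd
    have hpr : p ∣ r := by
      rw [hj] at hrd
      obtain ⟨i, _, hi⟩ := (Nat.dvd_prime_pow hpp).1 hrd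
      rcases i with _ | i
      · exact absurd (by simpa using hi) hr1
      · rw [hi, pow_succ]; exact dvd_mul_left _ _
    have hpz : p ∣ orderOf z₀ := dvd_trans hpr hrd
    have hlt : orderOf (z₀ ^ r) < orderOf z₀ := orderOf_pow_lt_of_prime_dvd hpp z₀ hpz r hpr
    have e : z ^ r = iota a (z₀ ^ r) := by rw [hz, map_pow]
    have h' : k'⁻¹ * iota a (z₀ ^ r) * k' ∈ H0 a x₀ := by rw [← e]; exact h
    have e2 : (⟨_, h⟩ : ↥(H0 a x₀)) = ⟨_, h'⟩ :=
      Subtype.ext (show k'⁻¹ * z ^ r * k' = k'⁻¹ * iota a (z₀ ^ r) * k' by rw [e])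
    obtain ⟨Q, ψ, hψ, hall⟩ := phi_conj_eq a x₀ F hTD k'
    obtain ⟨hq, s, hs, hphi⟩ := hall (z₀ ^ r) h'
    have hsf : (s : Ω) ∈ F.focalSubgroup := by
      have h1 : ((z₀ ^ r : ↥S) : Ω)⁻¹ * ψ ⟨_, hq⟩ ∈ F.focalSubgroup :=
        Subgroup.subset_closure ⟨Q, ψ, ⟨_, hq⟩, hψ, rfl⟩
      have h2 : ((z₀ ^ r : ↥S) : Ω) ∈ F.focalSubgroup := by
        rw [Subgroup.coe_pow]; exact Subgroup.pow_mem _ hzf r
      have := Subgroup.mul_mem _ h2 h1
      rwa [mul_inv_cancel_left, hs] at this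
    have hso : orderOf s = orderOf (z₀ ^ r) := by
      have h1 : orderOf (ψ ⟨_, hq⟩) = orderOf (⟨_, hq⟩ : ↥Q) :=
        orderOf_injective ψ (F.injective_of_mem hψ) _
      have h2 : orderOf (⟨_, hq⟩ : ↥Q) = orderOf ((z₀ ^ r : ↥S) : Ω) := Subgroup.orderOf_mk _ hq
      have h3 : orderOf ((z₀ ^ r : ↥S) : Ω) = orderOf (z₀ ^ r) := Subgroup.orderOf_coe _
      have h4 : orderOf (s : Ω) = orderOf s := Subgroup.orderOf_coe s
      rw [← h4, ← hs, h1, h2, h3]
    rw [e2, hlam', hphi]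
    exact ih (orderOf s) (by rw [hso, ← hzn]; exact hlt) s rfl hsf
  haveI : Fintype (↥(Cen a) ⧸ H0 a x₀) := Fintype.ofFinite _
  have htr : transfer lam z = 1 := by
    have h1 : transfer lam = ρ.comp (transfer (phi a x₀ F hTD)) := by
      rw [hlam]; exact transfer_comp_hom (phi a x₀ F hTD) ρ
    rw [h1, MonoidHom.comp_apply]
    have h2 := trf_iota_focal a x₀ F hTD hst hzf
    obtain ⟨z', hz', hzz'⟩ := h2
    have e : z' = z₀ := Subtype.ext hzz'
    rw [e] at hz'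
    have h3 : trf a x₀ F hTD (iota a z₀) = 1 := hz'
    have h4 : transfer (phi a x₀ F hTD) z = trf a x₀ F hTD (iota a z₀) := by rw [hz]; rfl
    rw [h4, h3, map_one]
  rw [transfer_eq_prod_fixed (H0 a x₀) lam z kill] at htr
  -- the cosets fixed by `L`
  obtain ⟨FL, hFL⟩ : ∃ FL : Finset (↥(Cen a) ⧸ H0 a x₀),
      FL = Finset.univ.filter (fun c => c ∈ MulAction.fixedPoints ↥L (↥(Cen a) ⧸ H0 a x₀)) :=
    ⟨_, rfl⟩
  have hmemFL : ∀ c, c ∈ FL ↔ ∀ l : ↥L, l • c = c := by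
    intro c
    rw [hFL]
    simp only [Finset.mem_filter, Finset.mem_univ, true_and]
    exact MulAction.mem_fixedPoints
  have hsub : FL ⊆ Finset.univ.filter (fun c : ↥(Cen a) ⧸ H0 a x₀ => z • c = c) := by
    intro c hc
    simp only [Finset.mem_filter, Finset.mem_univ, true_and]
    exact (hmemFL c).1 hc ⟨z, hzL⟩
  rw [← Finset.prod_sdiff hsub] at htr
  -- the part over the cosets fixed by `L`
  have hA : ∀ c ∈ FL, trF (H0 a x₀) lam z c = ρ (Abelianization.of z₀) := by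
    intro c hc
    obtain ⟨g, rfl⟩ := QuotientGroup.mk_surjective c
    have hfix : ∀ u : ↥S, g⁻¹ * iota a u * g ∈ H0 a x₀ := by
      intro u
      have := (hmemFL _).1 hc ⟨iota a u, hιL u⟩
      exact (smul_mk_eq_iff (H0 a x₀) (iota a u) g).1 this
    obtain ⟨Q, ψ, hψ, hall⟩ := phi_conj_eq a x₀ F hTD g
    have hSQ : S = Q := by
      apply le_antisymm
      · intro y hy
        obtain ⟨hq, -⟩ := hall ⟨y, hy⟩ (hfix ⟨y, hy⟩)
        exact hq
      · exact (F.le_of_mem hψ).1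
    subst hSQ
    have hzfix : g⁻¹ * z * g ∈ H0 a x₀ := by rw [hz]; exact hfix z₀
    obtain ⟨hq, s, hs, hphi⟩ := hall z₀ (hfix z₀)
    rw [trF_mk _ lam z g hzfix, hlam']
    have e3 : (⟨g⁻¹ * z * g, hzfix⟩ : ↥(H0 a x₀)) = ⟨g⁻¹ * iota a z₀ * g, hfix z₀⟩ :=
      Subtype.ext (show g⁻¹ * z * g = g⁻¹ * iota a z₀ * g by rw [hz])
    rw [e3, hphi]
    exact hρ ψ hψ z₀ s hs
  rw [Finset.prod_congr rfl hA, Finset.prod_const] at htr
  -- the other part
  have hB : ∏ c ∈ Finset.univ.filter (fun c : ↥(Cen a) ⧸ H0 a x₀ => z • c = c) \ FL,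
      trF (H0 a x₀) lam z c = 1 := by
    apply prod_eq_one_of_blocks (fun c => trF (H0 a x₀) lam z c)
      (fun c => Finset.univ.filter
        (fun c' : ↥(Cen a) ⧸ H0 a x₀ => c' ∈ MulAction.orbit ↥L c ∧ z • c' = c'))
    · intro c hc
      simp only [Finset.mem_sdiff, Finset.mem_filter, Finset.mem_univ, true_and] at hc ⊢
      exact ⟨MulAction.mem_orbit_self c, hc.1⟩
    · intro c hc c' hc'
      simp only [Finset.mem_sdiff, Finset.mem_filter, Finset.mem_univ, true_and] at hc hc' ⊢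
      refine ⟨hc'.2, ?_⟩
      intro hfix'
      apply hc.2
      rw [hmemFL] at hfix' ⊢
      obtain ⟨l, hl⟩ := hc'.1
      have h1 : c = c' := by
        have h2 : c = l⁻¹ • c' := by rw [← hl, inv_smul_smul]
        rw [h2]
        exact hfix' l⁻¹
      rw [h1]
      exact hfix'
    · intro c hc c' hc'
      simp only [Finset.mem_filter, Finset.mem_univ, true_and] at hc'
      have h1 : MulAction.orbit ↥L c' = MulAction.orbit ↥L c := MulAction.orbit_eq_iff.2 hc'.1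
      simp only [h1]
    · intro c hc
      simp only [Finset.mem_sdiff, Finset.mem_filter, Finset.mem_univ, true_and] at hc
      obtain ⟨g, rfl⟩ := QuotientGroup.mk_surjective c
      obtain ⟨hgfix, hgL⟩ := hc
      rw [hmemFL] at hgL
      have hzR : g⁻¹ * z * g ∈ H0 a x₀ := (smul_mk_eq_iff (H0 a x₀) z g).1 hgfix
      haveI : Fintype (↥L ⧸ stabL (H0 a x₀) L g) := Fintype.ofFinite _
      rw [prod_orbit_fixed_eq (H0 a x₀) L g lam z hzL]
      haveI hWn : (⊤ : Subgroup ↥L).Normal := inferInstance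
      apply yoshida_local hLp ⊤ (stabL (H0 a x₀) L g) ?_ ?_ (muL (H0 a x₀) L g lam) hexp
        ⟨z, hzL⟩ ?_ ?_ HW
      · exact sup_top_eq _
      · intro hle
        apply hgL
        intro l
        have h1 := hle (Subgroup.mem_top l)
        rw [mem_stabL] at h1
        exact (smul_mk_eq_iff (H0 a x₀) (l : ↥(Cen a)) g).2 h1
      · exact mem_stabL.2 hzR
      · intro k' r hr1 hrd h
        rw [muL_apply]
        have hord : orderOf (⟨z, hzL⟩ : ↥L) = orderOf z := Subgroup.orderOf_mk z hzL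
        rw [hord] at hrd
        have e : g⁻¹ * (((k'⁻¹ * (⟨z, hzL⟩ : ↥L) ^ r * k' : ↥L) : ↥L) : ↥(Cen a)) * g =
            ((k' : ↥(Cen a)) * g)⁻¹ * z ^ r * ((k' : ↥(Cen a)) * g) := by
          simp only [Subgroup.coe_mul, Subgroup.coe_inv, Subgroup.coe_pow]; group
        have h' : ((k' : ↥(Cen a)) * g)⁻¹ * z ^ r * ((k' : ↥(Cen a)) * g) ∈ H0 a x₀ := by
          rw [← e]; exact mem_stabL.1 h
        rw [← kill ((k' : ↥(Cen a)) * g) r hr1 hrd h']
        exact congrArg lam (Subtype.ext e)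
  rw [hB, one_mul] at htr
  -- counting the fixed cosets
  have hcardFL : Nat.card (MulAction.fixedPoints ↥L (↥(Cen a) ⧸ H0 a x₀)) = FL.card := by
    apply Nat.subtype_card FL
    intro c
    rw [hFL]
    simp only [Finset.mem_filter, Finset.mem_univ, true_and]
  have hmod := hLp.card_modEq_card_fixedPoints (↥(Cen a) ⧸ H0 a x₀)
  rw [hcardFL, ← Subgroup.index_eq_card, hidx] at hmod
  have hndvd : ¬ p ∣ FL.card := by
    intro hdvd
    apply hk
    have h1 : FL.card ≡ 0 [MOD p] := (Nat.modEq_zero_iff_dvd).2 hdvd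
    exact (Nat.modEq_zero_iff_dvd).1 (hmod.trans h1)
  have h4 : orderOf (ρ (Abelianization.of z₀)) ∣ Nat.gcd FL.card p :=
    Nat.dvd_gcd (orderOf_dvd_of_pow_eq_one htr) (orderOf_dvd_of_pow_eq_one (hexp _))
  have hcop : Nat.Coprime FL.card p := by
    rw [Nat.coprime_comm, hpp.coprime_iff_not_dvd]; exact hndvd
  rw [hcop.gcd_eq_one, Nat.dvd_one] at h4
  exact orderOf_eq_one_iff.1 h4

end Cfsg.Agent.Helper26.YF
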