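import Mathlib
import Cfsg.Agent.Helper26.ZI7
import Cfsg.Agent.Helper26.ZI4

set_option autoImplicit false
set_option linter.style.haveILetI false
set_option linter.unusedSectionVars false
set_option linter.unusedVariables false

/-! Consequences of the decomposition, the invariant core of the fixed points, and the
normality criterion in the setting of a centre of index `p²`. -/

namespace Cfsg.Agent.Helper26.ZI

open Cfsg Cfsg.FusionSystem Cfsg.Agent.Helper25 Cfsg.Agent.Helper25.Oliver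

section Abstract

variable {A : Type*} [Group A] {p : ℕ} [hp : Fact p.Prime]

/-- the largest `G`-invariant subgroup of `H` -/
def coreFix (G : Subgroup (MulAut A)) (H : Subgroup A) : Subgroup A where
  carrier := {x | ∀ g ∈ G, g x ∈ H}
  one_mem' := by
    intro g _
    rw [map_one]
    exact H.one_mem
  mul_mem' := by
    intro a b ha hb g hg
    rw [map_mul]
    exact H.mul_mem (ha g hg) (hb g hg)
  inv_mem' := by
    intro a ha g hg
    rw [map_inv]
    exact H.inv_mem (ha g hg)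

theorem mem_coreFix {G : Subgroup (MulAut A)} {H : Subgroup A} {x : A} :
    x ∈ coreFix G H ↔ ∀ g ∈ G, g x ∈ H := Iff.rfl

theorem coreFix_le (G : Subgroup (MulAut A)) (H : Subgroup A) : coreFix G H ≤ H := by
  intro x hx
  have := hx 1 G.one_mem
  exact this

theorem coreFix_invariant {G : Subgroup (MulAut A)} {H : Subgroup A} {g : MulAut A}
    (hg : g ∈ G) {x : A} (hx : x ∈ coreFix G H) : g x ∈ coreFix G H := by
  intro h hh
  have := hx (h * g) (G.mul_mem hh hg)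
  exact this

theorem le_coreFix {G : Subgroup (MulAut A)} {H K : Subgroup A} (hK : K ≤ H)
    (hinv : ∀ g ∈ G, ∀ x ∈ K, g x ∈ K) : K ≤ coreFix G H := by
  intro x hx g hg
  exact hK (hinv g hg x hx)

theorem coreFix_fix_le {G : Subgroup (MulAut A)} (u : MulAut A) {g : MulAut A} (hg : g ∈ G) :
    coreFix G (fixSub u) ≤ fixSub (g * u * g⁻¹) := by
  intro x hx
  have h1 : u (g⁻¹ x) = g⁻¹ x := hx g⁻¹ (G.inv_mem hg)
  rw [mem_fixSub]
  show g (u (g⁻¹ x)) = x
  rw [h1]
  simp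

variable [Finite A]

theorem exists_decomp (hA : ∀ a b : A, a * b = b * a) (hP : IsPGroup p A) (u u' : MulAut A)
    (hcu : Nat.card (commSub hA u) = p) (hcu' : Nat.card (commSub hA u') = p)
    (hfu : commSub hA u ≤ fixSub u) (hfu' : commSub hA u' ≤ fixSub u')
    (hL : ¬ IsPGroup p (Subgroup.closure ({u, u'} : Set (MulAut A)))) (x : A) :
    ∃ c ∈ commSub hA u, ∃ c' ∈ commSub hA u', ∃ f ∈ fixSub u ⊓ fixSub u', x = c * c' * f := by
  obtain ⟨-, -, -, -, htop⟩ := decomp hA hP u u' hcu hcu' hfu hfu' hL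
  have hx : x ∈ (commSub hA u ⊔ commSub hA u') ⊔ (fixSub u ⊓ fixSub u') := by
    rw [htop]; exact Subgroup.mem_top x
  obtain ⟨d, hd, f, hf, rfl⟩ := exists_mul_of_mem_sup hA hx
  obtain ⟨c, hc, c', hc', rfl⟩ := exists_mul_of_mem_sup hA hd
  exact ⟨c, hc, c', hc', f, hf, rfl⟩

theorem exists_decomp_fix (hA : ∀ a b : A, a * b = b * a) (hP : IsPGroup p A) (u u' : MulAut A)
    (hcu : Nat.card (commSub hA u) = p) (hcu' : Nat.card (commSub hA u') = p)
    (hfu : commSub hA u ≤ fixSub u) (hfu' : commSub hA u' ≤ fixSub u')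
    (hL : ¬ IsPGroup p (Subgroup.closure ({u, u'} : Set (MulAut A)))) {z : A}
    (hz : z ∈ fixSub u) :
    ∃ c ∈ commSub hA u, ∃ f ∈ fixSub u ⊓ fixSub u', z = c * f := by
  obtain ⟨h1, -, -, -, -⟩ := decomp hA hP u u' hcu hcu' hfu hfu' hL
  obtain ⟨c, hc, c', hc', f, hf, rfl⟩ := exists_decomp hA hP u u' hcu hcu' hfu hfu' hL z
  have hc'F : c' ∈ fixSub u := by
    have e : c' = c⁻¹ * (c * c' * f) * f⁻¹ := by group
    rw [e]
    exact (fixSub u).mul_mem ((fixSub u).mul_mem ((fixSub u).inv_mem (hfu hc)) hz)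
      ((fixSub u).inv_mem hf.1)
  have hc'1 : c' = 1 := by
    have : c' ∈ commSub hA u' ⊓ fixSub u := ⟨hc', hc'F⟩
    rw [h1] at this
    exact this
  refine ⟨c, hc, f, hf, ?_⟩
  rw [hc'1, mul_one]

theorem pow_eq_of_decomp (hA : ∀ a b : A, a * b = b * a) (hP : IsPGroup p A) (u u' : MulAut A)
    (hcu : Nat.card (commSub hA u) = p) (hcu' : Nat.card (commSub hA u') = p)
    (hfu : commSub hA u ≤ fixSub u) (hfu' : commSub hA u' ≤ fixSub u')
    (hL : ¬ IsPGroup p (Subgroup.closure ({u, u'} : Set (MulAut A)))) (x : A) :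
    ∃ f ∈ fixSub u ⊓ fixSub u', x ^ p = f ^ p := by
  obtain ⟨c, hc, c', hc', f, hf, rfl⟩ := exists_decomp hA hP u u' hcu hcu' hfu hfu' hL x
  refine ⟨f, hf, ?_⟩
  have h1 : c ^ p = 1 := pow_prime_eq_one_of_card_prime hcu hc
  have h2 : c' ^ p = 1 := pow_prime_eq_one_of_card_prime hcu' hc'
  have hc1 : Commute (c * c') f := hA _ _
  have hc2 : Commute c c' := hA _ _
  rw [hc1.mul_pow, hc2.mul_pow, h1, h2, one_mul, one_mul]

theorem card_fix_of_inf_eq_bot (hA : ∀ a b : A, a * b = b * a) (hP : IsPGroup p A)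
    (u u' : MulAut A)
    (hcu : Nat.card (commSub hA u) = p) (hcu' : Nat.card (commSub hA u') = p)
    (hfu : commSub hA u ≤ fixSub u) (hfu' : commSub hA u' ≤ fixSub u')
    (hL : ¬ IsPGroup p (Subgroup.closure ({u, u'} : Set (MulAut A))))
    (h : fixSub u ⊓ fixSub u' = ⊥) : Nat.card (fixSub u) = p := by
  have hle : fixSub u ≤ commSub hA u := by
    intro z hz
    obtain ⟨c, hc, f, hf, rfl⟩ := exists_decomp_fix hA hP u u' hcu hcu' hfu hfu' hL hz
    rw [h, Subgroup.mem_bot] at hf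
    rw [hf, mul_one]
    exact hc
  rw [le_antisymm hle hfu]
  exact hcu

end Abstract

variable {Ω : Type*} [Group Ω] {p : ℕ} [hp : Fact p.Prime] {S : Subgroup Ω} [Finite S]

/-- the data attached to an active subgroup: a generator of `S` over `P` and an automorphism
moving `Aut_S(P)` -/
structure Act (p : ℕ) (S : Subgroup Ω) (F : FusionSystem S) (P : Subgroup Ω) where
  hmid : Mid p S P
  s : Ω
  hsS : s ∈ S
  hsP : s ∉ P
  hsN : s ∈ Subgroup.normalizer (P : Set Ω)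
  g : MulAut ↥P
  hg : g ∈ F.autGroup P
  hact : ¬ IsPGroup p (Subgroup.closure
    ({conjAut P s hsN, g * conjAut P s hsN * g⁻¹} : Set (MulAut ↥P)))

namespace Act

variable {F : FusionSystem S} {P : Subgroup Ω}

/-- the generator of `Aut_S(P)` -/
noncomputable def u (D : Act p S F P) : MulAut ↥P := conjAut P D.s D.hsN

/-- a conjugate of the generator outside `Aut_S(P)` -/
noncomputable def u' (D : Act p S F P) : MulAut ↥P := D.g * D.u * D.g⁻¹

theorem hPc (D : Act p S F P) (hH : Hyp p S) : ∀ a b : ↥P, a * b = b * a := fun a b =>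
  Subtype.ext (mid_comm hH.hS D.hmid a a.2 b b.2)

theorem hL (D : Act p S F P) : ¬ IsPGroup p (Subgroup.closure ({D.u, D.u'} : Set (MulAut ↥P))) := D.hact

theorem hu_mem (D : Act p S F P) (hH : Hyp p S) : D.u ∈ F.autGroup P := conjAut_mem_autGroup hH F D.hmid D.hsS

theorem hu'_mem (D : Act p S F P) (hH : Hyp p S) : D.u' ∈ F.autGroup P :=
  (F.autGroup P).mul_mem ((F.autGroup P).mul_mem D.hg (D.hu_mem hH)) ((F.autGroup P).inv_mem D.hg)

theorem fix_u (D : Act p S F P) (hH : Hyp p S) : fixSub D.u = (ZS S).subgroupOf P :=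
  fixSub_conjAut hH D.hmid D.hsS D.hsP

theorem transv_u (D : Act p S F P) (hH : Hyp p S) : Transv p (D.hPc hH) D.u :=
  ⟨card_commSub_conjAut hH D.hmid D.hsS D.hsP (D.hPc hH),
    commSub_le_fixSub_conjAut hH D.hmid D.hsS D.hsP (D.hPc hH)⟩

theorem transv_u' (D : Act p S F P) (hH : Hyp p S) : Transv p (D.hPc hH) D.u' :=
  transv_conj (D.hPc hH) (D.transv_u hH) D.g

theorem isPGroup (D : Act p S F P) (hH : Hyp p S) : IsPGroup p ↥P := hH.hS.to_le D.hmid.2.1

theorem finite (D : Act p S F P) : Finite ↥P := finite_of_le' D.hmid.2.1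

end Act

theorem exists_act (hH : Hyp p S) (F : FusionSystem S) (hF : F.IsSaturated p) {P : Subgroup Ω}
    (hP : F.IsEssential p P) : Nonempty (Act p S F P) := by
  have hmid := mid_of_isEssential hH F hF hP
  obtain ⟨s, hsS, hsP⟩ := mid_ne_top hH hmid
  obtain ⟨g, hg, hgu⟩ := exists_active hH F hF hP hsS hsP
  have hgG : g * conjAut P s (le_normalizer_mid hH hmid hsS) * g⁻¹ ∈ F.autGroup P :=
    (F.autGroup P).mul_mem ((F.autGroup P).mul_mem hg (conjAut_mem_autGroup hH F hmid hsS))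
      ((F.autGroup P).inv_mem hg)
  exact ⟨⟨hmid, s, hsS, hsP, le_normalizer_mid hH hmid hsS, g, hg,
    not_isPGroup_closure hH F hF hmid hsS hsP hgG hgu⟩⟩

/-- the criterion for normality, for subgroups of the centre -/
theorem isNormal_of_invariant (hH : Hyp p S) (F : FusionSystem S) (hF : F.IsSaturated p)
    {Q : Subgroup Ω} (hQ : Q ≤ ZS S)
    (hS : ∀ β ∈ F.autGroup S, ∀ (z : Ω) (hz : z ∈ Q),
      ((β ⟨z, (mem_ZS.mp (hQ hz)).1⟩ : ↥S) : Ω) ∈ Q)
    (hE : ∀ P : Subgroup Ω, ∀ hP : F.IsEssential p P, ∀ g ∈ F.autGroup P, ∀ (z : Ω) (hz : z ∈ Q),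
      ((g ⟨z, (mid_of_isEssential hH F hF hP).1 (hQ hz)⟩ : ↥P) : Ω) ∈ Q) :
    F.IsNormal Q := by
  apply isNormal_of_alperin p hH.hS F hF Q
  have key : ∀ (P : Subgroup Ω) (G : Subgroup (MulAut ↥P)),
      (∀ g ∈ G, ∀ x ∈ Q.subgroupOf P, g x ∈ Q.subgroupOf P) →
      ∀ α ∈ G, (Q.subgroupOf P).map α.toMonoidHom = Q.subgroupOf P := by
    intro P G h α hα
    apply le_antisymm
    · rintro _ ⟨x, hx, rfl⟩
      exact h α hα x hx
    · intro x hx
      refine ⟨α⁻¹ x, h α⁻¹ (G.inv_mem hα) x hx, ?_⟩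
      simp
  rintro P (rfl | hP)
  · refine ⟨hQ.trans (ZS_le P), key P (F.autGroup P) ?_⟩
    intro g hg x hx
    rw [Subgroup.mem_subgroupOf] at hx ⊢
    exact hS g hg x hx
  · refine ⟨hQ.trans (mid_of_isEssential hH F hF hP).1, key P (F.autGroup P) ?_⟩
    intro g hg x hx
    rw [Subgroup.mem_subgroupOf] at hx ⊢
    exact hE P hP g hg x hx

theorem eq_bot_of_invariant (hH : Hyp p S) (F : FusionSystem S) (hF : F.IsSaturated p)
    (hcore : F.core = ⊥) {Q : Subgroup Ω} (hQ : Q ≤ ZS S)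
    (hS : ∀ β ∈ F.autGroup S, ∀ (z : Ω) (hz : z ∈ Q),
      ((β ⟨z, (mem_ZS.mp (hQ hz)).1⟩ : ↥S) : Ω) ∈ Q)
    (hE : ∀ P : Subgroup Ω, ∀ hP : F.IsEssential p P, ∀ g ∈ F.autGroup P, ∀ (z : Ω) (hz : z ∈ Q),
      ((g ⟨z, (mid_of_isEssential hH F hF hP).1 (hQ hz)⟩ : ↥P) : Ω) ∈ Q) :
    Q = ⊥ := by
  have h1 := isNormal_of_invariant hH F hF hQ hS hE
  have h2 : Q ≤ F.core := le_sSup h1
  rw [hcore] at h2
  exact le_bot_iff.mp h2

/-- there is an essential subgroup -/
theorem exists_isEssential (hH : Hyp p S) (F : FusionSystem S) (hF : F.IsSaturated p)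
    (hcore : F.core = ⊥) : ∃ P, F.IsEssential p P := by
  by_contra hcon
  push Not at hcon
  have h1 : F.IsNormal S := by
    apply isNormal_of_alperin p hH.hS F hF S
    rintro P (rfl | hP)
    · refine ⟨le_rfl, fun α _ => ?_⟩
      have : P.subgroupOf P = ⊤ := Subgroup.subgroupOf_self P
      rw [this]
      exact Subgroup.map_top_of_surjective _ α.surjective
    · exact absurd hP (hcon P)
  have h2 : S ≤ F.core := le_sSup h1
  rw [hcore] at h2
  apply hH.hna
  intro a ha b hb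
  have ha1 : a = 1 := (Subgroup.mem_bot).mp (h2 ha)
  rw [ha1, one_mul, mul_one]

/-- the subgroup of `p`-th powers of central elements -/
def Zp (p : ℕ) (S : Subgroup Ω) : Subgroup Ω := Subgroup.closure {y | ∃ z ∈ ZS S, y = z ^ p}

theorem mem_Zp {y : Ω} : y ∈ Zp p S ↔ ∃ z ∈ ZS S, y = z ^ p := by
  constructor
  · intro hy
    unfold Zp at hy
    induction hy using Subgroup.closure_induction with
    | mem x hx => exact hx
    | one => exact ⟨1, Subgroup.one_mem _, (one_pow p).symm⟩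
    | mul a b _ _ ha hb =>
      obtain ⟨z, hz, rfl⟩ := ha
      obtain ⟨w, hw, rfl⟩ := hb
      refine ⟨z * w, Subgroup.mul_mem _ hz hw, ?_⟩
      have hc : Commute z w := ((mem_ZS.mp hw).2 z (mem_ZS.mp hz).1)
      exact (hc.mul_pow p).symm
    | inv a _ ha =>
      obtain ⟨z, hz, rfl⟩ := ha
      exact ⟨z⁻¹, Subgroup.inv_mem _ hz, (inv_pow z p).symm⟩
  · intro h
    exact Subgroup.subset_closure h

theorem Zp_le : Zp p S ≤ ZS S := by
  intro y hy
  obtain ⟨z, hz, rfl⟩ := mem_Zp.mp hy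
  exact Subgroup.pow_mem _ hz p

/-- the centre is elementary abelian -/
theorem pow_eq_one_of_mem_ZS (hH : Hyp p S) (F : FusionSystem S) (hF : F.IsSaturated p)
    (hcore : F.core = ⊥) {z : Ω} (hz : z ∈ ZS S) : z ^ p = 1 := by
  have h1 : Zp p S = ⊥ := by
    apply eq_bot_of_invariant hH F hF hcore Zp_le
    · intro β hβ y hy
      obtain ⟨z, hz, rfl⟩ := mem_Zp.mp hy
      rw [mem_Zp]
      refine ⟨_, aut_ZS β hz, ?_⟩
      have h2 : (⟨z ^ p, (mem_ZS.mp (Zp_le hy)).1⟩ : ↥S) = ⟨z, (mem_ZS.mp hz).1⟩ ^ p :=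
        Subtype.ext rfl
      rw [h2, map_pow]
      rfl
    · intro P hP g hg y hy
      obtain ⟨D⟩ := exists_act hH F hF hP
      haveI := D.finite
      obtain ⟨z, hz, rfl⟩ := mem_Zp.mp hy
      rw [mem_Zp]
      have h2 : (⟨z ^ p, (mid_of_isEssential hH F hF hP).1 (Zp_le hy)⟩ : ↥P) =
          ⟨z, D.hmid.1 hz⟩ ^ p := Subtype.ext rfl
      rw [h2, map_pow]
      obtain ⟨f, hf, hfe⟩ := pow_eq_of_decomp (D.hPc hH) (D.isPGroup hH) D.u D.u'
        (D.transv_u hH).1 (D.transv_u' hH).1 (D.transv_u hH).2 (D.transv_u' hH).2 D.hL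
        (g ⟨z, D.hmid.1 hz⟩)
      rw [hfe]
      have hfZ : (f : Ω) ∈ ZS S := by
        have := hf.1
        rw [D.fix_u hH] at this
        exact this
      exact ⟨f, hfZ, rfl⟩
  have h2 : z ^ p ∈ Zp p S := mem_Zp.mpr ⟨z, hz, rfl⟩
  rw [h1] at h2
  exact h2

/-- essential subgroups are elementary abelian -/
theorem pow_eq_one_of_mem_essential (hH : Hyp p S) (F : FusionSystem S) (hF : F.IsSaturated p)
    (hcore : F.core = ⊥) {P : Subgroup Ω} (hP : F.IsEssential p P) {x : Ω} (hx : x ∈ P) :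
    x ^ p = 1 := by
  obtain ⟨D⟩ := exists_act hH F hF hP
  haveI := D.finite
  obtain ⟨f, hf, hfe⟩ := pow_eq_of_decomp (D.hPc hH) (D.isPGroup hH) D.u D.u'
    (D.transv_u hH).1 (D.transv_u' hH).1 (D.transv_u hH).2 (D.transv_u' hH).2 D.hL ⟨x, hx⟩
  have hfZ : (f : Ω) ∈ ZS S := by
    have := hf.1
    rw [D.fix_u hH] at this
    exact this
  have h1 : ((⟨x, hx⟩ : ↥P) ^ p : ↥P) = f ^ p := hfe
  have h2 := congrArg (Subtype.val) h1
  have h3 : x ^ p = (f : Ω) ^ p := h2
  rw [h3]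
  exact pow_eq_one_of_mem_ZS hH F hF hcore hfZ

/-- if the invariant part is trivial then the centre has order `p` -/
theorem card_ZS_of_inf_eq_bot (hH : Hyp p S) {F : FusionSystem S} {P : Subgroup Ω}
    (D : Act p S F P) (h : fixSub D.u ⊓ fixSub D.u' = ⊥) : Nat.card (ZS S) = p := by
  haveI := D.finite
  have h1 := card_fix_of_inf_eq_bot (D.hPc hH) (D.isPGroup hH) D.u D.u'
    (D.transv_u hH).1 (D.transv_u' hH).1 (D.transv_u hH).2 (D.transv_u' hH).2 D.hL h
  rw [D.fix_u hH, Nat.card_congr (Subgroup.subgroupOfEquivOfLe D.hmid.1).toEquiv] at h1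
  exact h1

end Cfsg.Agent.Helper26.ZI
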