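import Mathlib
import Cfsg.Agent.Helper26.ZI8
import Cfsg.Agent.Helper26.ZI3

set_option autoImplicit false
set_option linter.style.haveILetI false
set_option linter.unusedSectionVars false
set_option linter.unusedVariables false

/-! The case of an odd prime: the torus argument. -/

namespace Cfsg.Agent.Helper26.ZI

open Cfsg Cfsg.FusionSystem Cfsg.Agent.Helper25 Cfsg.Agent.Helper25.Oliver
open scoped commutatorElement

variable {Ω : Type*} [Group Ω] {p : ℕ} [hp : Fact p.Prime] {S : Subgroup Ω} [Finite S]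

/-- the commutator subgroup of `S` inside the ambient group -/
def Dsub (S : Subgroup Ω) : Subgroup Ω := (commutator ↥S).map S.subtype

theorem Dsub_eq (hH : Hyp p S) {F : FusionSystem S} {P : Subgroup Ω} (D : Act p S F P) :
    Dsub S = (commSub (D.hPc hH) D.u).map P.subtype := by
  apply le_antisymm
  · unfold Dsub
    rw [Subgroup.map_le_iff_le_comap, commutator_def, Subgroup.commutator_le]
    intro g₁ _ g₂ _
    rw [Subgroup.mem_comap]
    have h1 := comm_mem_of_mid hH D.hmid D.hsS D.hsP (D.hPc hH) (g₁⁻¹ : ↥S) (g₁⁻¹ : ↥S).2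
      (g₂ : Ω) g₂.2
    have e : (S.subtype ⁅g₁, g₂⁆ : Ω) =
        ((g₁⁻¹ : ↥S) : Ω)⁻¹ * ((g₂ : Ω) * ((g₁⁻¹ : ↥S) : Ω) * (g₂ : Ω)⁻¹) := by
      rw [commutatorElement_def]
      simp only [Subgroup.coe_subtype, Subgroup.coe_mul, Subgroup.coe_inv, inv_inv]
      group
    rw [e]
    exact h1
  · rintro _ ⟨c, ⟨a, rfl⟩, rfl⟩
    have haS : (a : Ω) ∈ S := D.hmid.2.1 a.2
    refine ⟨⁅(⟨a, haS⟩ : ↥S)⁻¹, ⟨D.s, D.hsS⟩⁆,
      Subgroup.commutator_mem_commutator (Subgroup.mem_top _) (Subgroup.mem_top _), ?_⟩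
    rw [commutatorElement_def]
    show ((a : Ω))⁻¹ * D.s * ((a : Ω)⁻¹)⁻¹ * D.s⁻¹ = (a : Ω)⁻¹ * (D.s * a * D.s⁻¹)
    group

theorem Dsub_le_ZS (hH : Hyp p S) : Dsub S ≤ ZS S := by
  unfold Dsub
  rw [Subgroup.map_le_iff_le_comap, commutator_def, Subgroup.commutator_le]
  intro g₁ _ g₂ _
  rw [Subgroup.mem_comap]
  have h1 := hH.hcomm (g₁⁻¹ : ↥S) (g₁⁻¹ : ↥S).2 (g₂ : Ω) g₂.2
  have e : (S.subtype ⁅g₁, g₂⁆ : Ω) =
      ((g₁⁻¹ : ↥S) : Ω)⁻¹ * ((g₂ : Ω) * ((g₁⁻¹ : ↥S) : Ω) * (g₂ : Ω)⁻¹) := by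
    rw [commutatorElement_def]
    simp only [Subgroup.coe_subtype, Subgroup.coe_mul, Subgroup.coe_inv, inv_inv]
    group
  rw [e]
  exact h1

theorem aut_commutator (α : MulAut ↥S) {d : ↥S} (hd : d ∈ commutator ↥S) :
    α d ∈ commutator ↥S := by
  have h1 : (commutator ↥S).comap α.toMonoidHom = commutator ↥S :=
    (inferInstance : (commutator ↥S).Characteristic).fixed α
  have h2 : d ∈ (commutator ↥S).comap α.toMonoidHom := by rw [h1]; exact hd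
  exact h2

/-- membership in the commutator subgroup from the commutator subgroup of the automorphism -/
theorem mem_commutator_of_mem_commSub (hH : Hyp p S) {F : FusionSystem S} {P : Subgroup Ω}
    (D : Act p S F P) {c : ↥P} (hc : c ∈ commSub (D.hPc hH) D.u) :
    (⟨(c : Ω), D.hmid.2.1 c.2⟩ : ↥S) ∈ commutator ↥S := by
  have h1 : (c : Ω) ∈ Dsub S := by
    rw [Dsub_eq hH D]
    exact ⟨c, hc, rfl⟩
  obtain ⟨d, hd, hdc⟩ := h1
  have : d = ⟨(c : Ω), D.hmid.2.1 c.2⟩ := Subtype.ext hdc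
  rw [← this]
  exact hd

theorem exists_commSub_of_mem_commutator (hH : Hyp p S) {F : FusionSystem S} {P : Subgroup Ω}
    (D : Act p S F P) {d : ↥S} (hd : d ∈ commutator ↥S) :
    ∃ c ∈ commSub (D.hPc hH) D.u, (c : Ω) = d := by
  have h1 : (d : Ω) ∈ Dsub S := ⟨d, hd, rfl⟩
  rw [Dsub_eq hH D] at h1
  obtain ⟨c, hc, hcd⟩ := h1
  exact ⟨c, hc, hcd⟩

namespace Act

variable {F : FusionSystem S} {P : Subgroup Ω}

/-- the invariant part of the centre attached to the data -/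
noncomputable def Z2 (D : Act p S F P) : Subgroup Ω :=
  (fixSub D.u ⊓ fixSub D.u').map P.subtype

theorem Z2_le (D : Act p S F P) (hH : Hyp p S) : D.Z2 ≤ ZS S := by
  rintro _ ⟨x, hx, rfl⟩
  have := hx.1
  rw [D.fix_u hH] at this
  exact this

end Act

/-- the torus: an automorphism of `S` in `F` inverting the commutator subgroup and centralizing
the invariant part -/
theorem exists_torus (hH : Hyp p S) (F : FusionSystem S) (hF : F.IsSaturated p)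
    {P : Subgroup Ω} (D : Act p S F P) :
    ∃ γ ∈ F.autGroup S, (∀ d ∈ commutator ↥S, γ d = d⁻¹) ∧
      (∀ x : ↥P, x ∈ fixSub D.u ⊓ fixSub D.u' →
        γ ⟨x, D.hmid.2.1 x.2⟩ = ⟨x, D.hmid.2.1 x.2⟩) := by
  haveI := D.finite
  obtain ⟨t, ht, hinv, hfix, hcomm⟩ := exists_inverting (D.hPc hH) (D.isPGroup hH) D.u D.u'
    (D.transv_u hH).1 (D.transv_u' hH).1 (D.transv_u hH).2 (D.transv_u' hH).2 D.hL
  have htG : t ∈ F.autGroup P := by
    have hle : Subgroup.closure ({D.u, D.u'} : Set (MulAut ↥P)) ≤ F.autGroup P := by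
      rw [Subgroup.closure_le]
      rintro x (rfl | rfl)
      · exact D.hu_mem hH
      · exact D.hu'_mem hH
    exact hle ht
  have htu : t * D.u * t⁻¹ = D.u := by rw [hcomm, mul_inv_cancel_right]
  have hnorm : ∀ k ∈ autInducedBy S P, t * k * t⁻¹ ∈ autInducedBy S P := by
    intro k hk
    obtain ⟨n, rfl⟩ := exists_pow_of_mem_autInducedBy hH D.hmid D.hsS D.hsP hk
    rw [← conj_pow]
    apply Subgroup.pow_mem
    have h1 : t * conjAut P D.s (le_normalizer_mid hH D.hmid D.hsS) * t⁻¹ = D.u := htu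
    rw [h1]
    exact conjAut_mem_autInducedBy hH D.hmid D.hsS
  obtain ⟨γ, hγ, hext⟩ := exists_extension hH F hF D.hmid htG hnorm
  refine ⟨γ, hγ, ?_, ?_⟩
  · intro d hd
    obtain ⟨c, hc, hcd⟩ := exists_commSub_of_mem_commutator hH D hd
    have hd' : d = ⟨(c : Ω), D.hmid.2.1 c.2⟩ := Subtype.ext hcd.symm
    rw [hd']
    apply Subtype.ext
    rw [hext c, hinv c (Subgroup.mem_sup_left hc)]
    rfl
  · intro x hx
    apply Subtype.ext
    rw [hext x, hfix x hx]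

set_option maxHeartbeats 1600000 in
/-- the key lemma: an automorphism inverting the commutator subgroup fixes in the centre only
elements of the invariant part -/
theorem lemmaT (hH : Hyp p S) (F : FusionSystem S) (hF : F.IsSaturated p) (hp2 : p ≠ 2)
    {P : Subgroup Ω} (D : Act p S F P) {γ β : MulAut ↥S} (hγ : γ ∈ F.autGroup S)
    (hβ : β ∈ F.autGroup S)
    (hγa : ∀ d ∈ commutator ↥S, γ d = d⁻¹)
    (hγb : ∀ x : ↥P, x ∈ fixSub D.u ⊓ fixSub D.u' →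
      γ ⟨x, D.hmid.2.1 x.2⟩ = ⟨x, D.hmid.2.1 x.2⟩)
    (hβa : ∀ d ∈ commutator ↥S, β d = d⁻¹)
    {y : ↥S} (hyZ : (y : Ω) ∈ ZS S) (hβy : β y = y) : (y : Ω) ∈ D.Z2 := by
  haveI := D.finite
  have hyP : (y : Ω) ∈ P := D.hmid.1 hyZ
  have hyF : (⟨y, hyP⟩ : ↥P) ∈ fixSub D.u := by
    rw [D.fix_u hH]
    exact hyZ
  obtain ⟨c, hc, f, hf, hcf⟩ := exists_decomp_fix (D.hPc hH) (D.isPGroup hH) D.u D.u'
    (D.transv_u hH).1 (D.transv_u' hH).1 (D.transv_u hH).2 (D.transv_u' hH).2 D.hL hyF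
  obtain ⟨cS, hcS⟩ : ∃ cS : ↥S, cS = ⟨(c : Ω), D.hmid.2.1 c.2⟩ := ⟨_, rfl⟩
  obtain ⟨fS, hfS⟩ : ∃ fS : ↥S, fS = ⟨(f : Ω), D.hmid.2.1 f.2⟩ := ⟨_, rfl⟩
  have hcD : cS ∈ commutator ↥S := hcS ▸ mem_commutator_of_mem_commSub hH D hc
  have hy_eq : y = cS * fS := by
    apply Subtype.ext
    rw [hcS, hfS]
    have h0 : ((⟨y, hyP⟩ : ↥P) : Ω) = ((c * f : ↥P) : Ω) := congrArg Subtype.val hcf
    exact h0
  have hcZ : (cS : Ω) ∈ ZS S := by
    have := (D.transv_u hH).2 hc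
    rw [D.fix_u hH] at this
    rw [hcS]
    exact this
  have hcentral : ∀ x : ↥S, x * cS = cS * x := fun x =>
    Subtype.ext ((mem_ZS.mp hcZ).2 x x.2)
  have hδc : (γ * β) cS = cS := by
    show γ (β cS) = cS
    rw [hβa cS hcD, map_inv, hγa cS hcD, inv_inv]
  have hγf : γ fS = fS := by rw [hfS]; exact hγb f hf
  have hδy : (γ * β) y = y * (cS⁻¹) ^ 2 := by
    show γ (β y) = _
    rw [hβy, hy_eq, map_mul, hγa cS hcD, hγf, pow_two]
    have h1 := hcentral fS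
    calc cS⁻¹ * fS = cS⁻¹ * (fS * cS) * cS⁻¹ := by group
      _ = cS⁻¹ * (cS * fS) * cS⁻¹ := by rw [h1]
      _ = fS * cS⁻¹ := by group
      _ = (fS * cS) * (cS⁻¹ * cS⁻¹) := by group
      _ = cS * fS * (cS⁻¹ * cS⁻¹) := by rw [h1]
  have hpow : ∀ n : ℕ, ((γ * β) ^ n) y = y * (cS⁻¹) ^ (2 * n) := by
    intro n
    induction n with
    | zero => simp
    | succ n ih =>
      rw [pow_succ', MulAut.mul_apply, ih, map_mul, map_pow, map_inv, hδc, hδy, mul_assoc,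
        ← pow_add]
      congr 2
      ring
  obtain ⟨a, m, hm, hn⟩ := Nat.exists_eq_pow_mul_and_not_dvd (orderOf_pos (γ * β)).ne' p
    hp.out.ne_one
  have hε : ((γ * β) ^ m) ^ (p ^ a) = 1 := by
    rw [← pow_mul, mul_comm, ← hn, pow_orderOf_eq_one]
  have hfix := pElement_fix_ZS F hF
    (Subgroup.pow_mem _ ((F.autGroup S).mul_mem hγ hβ) m) hε hyZ
  have h1 : ((γ * β) ^ m) y = y := Subtype.ext hfix
  rw [hpow m] at h1
  have h2 : (cS⁻¹) ^ (2 * m) = 1 := by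
    have := mul_left_cancel (a := y) (b := (cS⁻¹) ^ (2 * m)) (c := 1) (by rw [h1, mul_one])
    exact this
  have h3 : (cS⁻¹) ^ p = 1 := by
    have h4 : c ^ p = 1 := pow_prime_eq_one_of_card_prime (D.transv_u hH).1 hc
    have h5 : cS ^ p = 1 := by
      apply Subtype.ext
      rw [hcS]
      have h0 : ((c ^ p : ↥P) : Ω) = ((1 : ↥P) : Ω) := congrArg Subtype.val h4
      exact h0
    rw [inv_pow, h5, inv_one]
  have hcop : Nat.Coprime (2 * m) p := by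
    apply Nat.Coprime.mul_left
    · exact (Nat.coprime_primes Nat.prime_two hp.out).mpr (Ne.symm hp2)
    · exact ((Nat.Prime.coprime_iff_not_dvd hp.out).mpr hm).symm
  have h4 : cS⁻¹ = 1 := by
    have := (pow_gcd_eq_one (a := cS⁻¹) (m := 2 * m) (n := p)).mpr ⟨h2, h3⟩
    rw [Nat.Coprime.gcd_eq_one hcop, pow_one] at this
    exact this
  have h5 : cS = 1 := inv_eq_one.mp h4
  have h6 : y = fS := by rw [hy_eq, h5, one_mul]
  rw [h6, hfS]
  exact ⟨f, hf, rfl⟩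

/-- the invariant parts of all data coincide -/
theorem Z2_le_Z2 (hH : Hyp p S) (F : FusionSystem S) (hF : F.IsSaturated p) (hp2 : p ≠ 2)
    {P P' : Subgroup Ω} (D : Act p S F P) (D' : Act p S F P') : D'.Z2 ≤ D.Z2 := by
  rintro _ ⟨x, hx, rfl⟩
  obtain ⟨γ, hγ, hγa, hγb⟩ := exists_torus hH F hF D
  obtain ⟨β, hβ, hβa, hβb⟩ := exists_torus hH F hF D'
  have hxZ : ((x : ↥P') : Ω) ∈ ZS S := D'.Z2_le hH ⟨x, hx, rfl⟩
  exact lemmaT hH F hF hp2 D hγ hβ hγa hγb hβa (y := ⟨x, D'.hmid.2.1 x.2⟩) hxZ (hβb x hx)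

theorem Z2_aut (hH : Hyp p S) (F : FusionSystem S) (hF : F.IsSaturated p) (hp2 : p ≠ 2)
    {P : Subgroup Ω} (D : Act p S F P) {β : MulAut ↥S} (hβ : β ∈ F.autGroup S) {y : Ω}
    (hy : y ∈ D.Z2) : ((β ⟨y, (mem_ZS.mp (D.Z2_le hH hy)).1⟩ : ↥S) : Ω) ∈ D.Z2 := by
  obtain ⟨γ, hγ, hγa, hγb⟩ := exists_torus hH F hF D
  have hyS : y ∈ S := (mem_ZS.mp (D.Z2_le hH hy)).1
  have hβ' : β * γ * β⁻¹ ∈ F.autGroup S :=
    (F.autGroup S).mul_mem ((F.autGroup S).mul_mem hβ hγ) ((F.autGroup S).inv_mem hβ)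
  have hβ'a : ∀ d ∈ commutator ↥S, (β * γ * β⁻¹) d = d⁻¹ := by
    intro d hd
    show β (γ (β⁻¹ d)) = d⁻¹
    rw [hγa _ (aut_commutator β⁻¹ hd), map_inv]
    simp
  have hγy : γ ⟨y, hyS⟩ = ⟨y, hyS⟩ := by
    obtain ⟨x, hx, rfl⟩ := hy
    exact hγb x hx
  have hfix : (β * γ * β⁻¹) (β ⟨y, hyS⟩) = β ⟨y, hyS⟩ := by
    show β (γ (β⁻¹ (β ⟨y, hyS⟩))) = β ⟨y, hyS⟩
    rw [MulAut.inv_apply_self, hγy]
  exact lemmaT hH F hF hp2 D hγ hβ' hγa hγb hβ'a (aut_ZS β (D.Z2_le hH hy)) hfix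

theorem zpow_fix {A : Type*} [Group A] {u : MulAut A} {x : A} (hx : u x = x)
    {v : MulAut A} (hv : v ∈ Subgroup.zpowers u) : v x = x := by
  have hle : Subgroup.zpowers u ≤ MulAction.stabilizer (MulAut A) x :=
    Subgroup.zpowers_le.mpr (MulAction.mem_stabilizer_iff.mpr hx)
  exact MulAction.mem_stabilizer_iff.mp (hle hv)

theorem Z2_essential (hH : Hyp p S) (F : FusionSystem S) (hF : F.IsSaturated p) (hp2 : p ≠ 2)
    {P : Subgroup Ω} (D : Act p S F P) {h : MulAut ↥P} (hh : h ∈ F.autGroup P) {y : Ω}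
    (hy : y ∈ D.Z2) : ((h ⟨y, D.hmid.1 (D.Z2_le hH hy)⟩ : ↥P) : Ω) ∈ D.Z2 := by
  have hle : fixSub D.u ⊓ fixSub D.u' ≤ coreFix (F.autGroup P) (fixSub D.u) := by
    intro x hx k hk
    rw [mem_fixSub]
    by_cases hv : k⁻¹ * D.u * k⁻¹⁻¹ ∈ Subgroup.zpowers D.u
    · have h1 := zpow_fix (mem_fixSub.mp hx.1) hv
      have h2 : k⁻¹ (D.u (k x)) = x := by
        have : (k⁻¹ * D.u * k⁻¹⁻¹) x = k⁻¹ (D.u (k x)) := by
          rw [inv_inv]; rfl
        rw [← this]; exact h1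
      calc D.u (k x) = k (k⁻¹ (D.u (k x))) := by simp
        _ = k x := by rw [h2]
    · have hvG : k⁻¹ * D.u * k⁻¹⁻¹ ∈ F.autGroup P :=
        (F.autGroup P).mul_mem ((F.autGroup P).mul_mem ((F.autGroup P).inv_mem hk) (D.hu_mem hH))
          ((F.autGroup P).inv_mem ((F.autGroup P).inv_mem hk))
      let D'' : Act p S F P :=
        { hmid := D.hmid, s := D.s, hsS := D.hsS, hsP := D.hsP, hsN := D.hsN, g := k⁻¹,
          hg := (F.autGroup P).inv_mem hk,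
          hact := not_isPGroup_closure hH F hF D.hmid D.hsS D.hsP hvG hv }
      have h1 : ((x : ↥P) : Ω) ∈ D''.Z2 := Z2_le_Z2 hH F hF hp2 D'' D ⟨x, hx, rfl⟩
      obtain ⟨x', hx', hxx⟩ := h1
      have hx'' : x' = x := Subtype.ext hxx
      rw [hx''] at hx'
      have h2 : (k⁻¹ * D.u * k⁻¹⁻¹) x = x := mem_fixSub.mp hx'.2
      have h3 : k⁻¹ (D.u (k x)) = x := by
        have : (k⁻¹ * D.u * k⁻¹⁻¹) x = k⁻¹ (D.u (k x)) := by
          rw [inv_inv]; rfl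
        rw [← this]; exact h2
      calc D.u (k x) = k (k⁻¹ (D.u (k x))) := by simp
        _ = k x := by rw [h3]
  obtain ⟨x, hx, rfl⟩ := hy
  have h1 : h x ∈ coreFix (F.autGroup P) (fixSub D.u) := coreFix_invariant hh (hle hx)
  have h2 : h x ∈ fixSub D.u := coreFix_le _ _ h1
  have h3 : h x ∈ fixSub D.u' := coreFix_fix_le D.u D.hg h1
  exact ⟨h x, ⟨h2, h3⟩, rfl⟩

/-- for odd `p` the centre has order `p` -/
theorem card_ZS_of_odd (hH : Hyp p S) (F : FusionSystem S) (hF : F.IsSaturated p)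
    (hcore : F.core = ⊥) (hp2 : p ≠ 2) : Nat.card (ZS S) = p := by
  obtain ⟨P₀, hP₀⟩ := exists_isEssential hH F hF hcore
  obtain ⟨D₀⟩ := exists_act hH F hF hP₀
  have h1 : D₀.Z2 = ⊥ := by
    apply eq_bot_of_invariant hH F hF hcore (D₀.Z2_le hH)
    · intro β hβ z hz
      exact Z2_aut hH F hF hp2 D₀ hβ hz
    · intro P hP g hg z hz
      obtain ⟨D⟩ := exists_act hH F hF hP
      have hz' : z ∈ D.Z2 := Z2_le_Z2 hH F hF hp2 D D₀ hz
      exact Z2_le_Z2 hH F hF hp2 D₀ D (Z2_essential hH F hF hp2 D hg hz')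
  have h2 : fixSub D₀.u ⊓ fixSub D₀.u' = ⊥ := by
    unfold Act.Z2 at h1
    exact (Subgroup.map_eq_bot_iff_of_injective _ (Subgroup.subtype_injective _)).mp h1
  exact card_ZS_of_inf_eq_bot hH D₀ h2

end Cfsg.Agent.Helper26.ZI
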