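import Mathlib
import Cfsg.Agent.Helper26.ZI9

set_option autoImplicit false
set_option linter.style.haveILetI false
set_option linter.unusedSectionVars false
set_option linter.unusedVariables false

/-! The case `p = 2`: the invariant part of the centre, invariance of essential subgroups under
`Aut_F(S)`, and the normal subgroup `T2`. -/

namespace Cfsg.Agent.Helper26.ZI

open Cfsg Cfsg.FusionSystem Cfsg.Agent.Helper25 Cfsg.Agent.Helper25.Oliver

section Abstract2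

variable {A : Type*} [Group A] [Finite A]

theorem mem_pair_of_card_two {D : Subgroup A} (hD : Nat.card D = 2) {c x : A} (hc : c ∈ D)
    (hc1 : c ≠ 1) (hx : x ∈ D) : x = 1 ∨ x = c := by
  haveI : Fact (Nat.Prime 2) := ⟨Nat.prime_two⟩
  obtain ⟨n, hn⟩ := exists_pow_eq_of_card_prime hD hc hc1 hx
  have hc2 : c ^ 2 = 1 := pow_prime_eq_one_of_card_prime hD hc
  rw [pow_eq_pow_mod n hc2] at hn
  rcases Nat.mod_two_eq_zero_or_one n with h | h
  · left; rw [← hn, h, pow_zero]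
  · right; rw [← hn, h, pow_one]

/-- the Frattini argument for `p = 2` -/
theorem exists_normalizing_two (hA : ∀ a b : A, a * b = b * a) (hP : IsPGroup 2 A)
    (G : Subgroup (MulAut A))
    (hG : ∀ v ∈ G, ∀ w ∈ G, v * v = 1 → w * w = 1 → v ≠ 1 → w ≠ 1 → v ≠ w →
      ¬ IsPGroup 2 (Subgroup.closure ({v, w} : Set (MulAut A))))
    (u u' : MulAut A) (hu : u ∈ G) (hu' : u' ∈ G) (hiu : u * u = 1) (hiu' : u' * u' = 1)
    (htu : Transv 2 hA u) (htu' : Transv 2 hA u') (hne : u ≠ u') {g : MulAut A} (hg : g ∈ G) :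
    ∃ l ∈ G, (∀ x ∈ fixSub u ⊓ fixSub u', l x = x) ∧ (l * g) * u * (l * g)⁻¹ = u := by
  haveI : Fact (Nat.Prime 2) := ⟨Nat.prime_two⟩
  have hn1 := transv_ne_one hA htu
  have hn2 := transv_ne_one hA htu'
  have hL := hG u hu u' hu' hiu hiu' hn1 hn2 hne
  have hkey : ∀ l : MulAut A, (l * g) * u * (l * g)⁻¹ = l * (g * u * g⁻¹) * l⁻¹ := by
    intro l; group
  have huinv : u⁻¹ = u := inv_eq_of_mul_eq_one_right hiu
  have hu'inv : u'⁻¹ = u' := inv_eq_of_mul_eq_one_right hiu'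
  have hgu : g * u * g⁻¹ ∈ G := G.mul_mem (G.mul_mem hg hu) (G.inv_mem hg)
  have hgi : g * u * g⁻¹ * (g * u * g⁻¹) = 1 := by
    calc g * u * g⁻¹ * (g * u * g⁻¹) = g * (u * u) * g⁻¹ := by group
      _ = 1 := by rw [hiu]; group
  by_cases h1 : g * u * g⁻¹ = u
  · refine ⟨1, G.one_mem, fun x _ => rfl, ?_⟩
    rw [hkey, h1]; group
  by_cases h2 : g * u * g⁻¹ = u'
  · -- the braid relation
    have hv3G : u * u' * u⁻¹ ∈ G := G.mul_mem (G.mul_mem hu hu') (G.inv_mem hu)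
    have hv3i : u * u' * u⁻¹ * (u * u' * u⁻¹) = 1 := by
      calc u * u' * u⁻¹ * (u * u' * u⁻¹) = u * (u' * u') * u⁻¹ := by group
        _ = 1 := by rw [hiu']; group
    have hv3t : Transv 2 hA (u * u' * u⁻¹) := transv_conj hA htu' u
    have hv3u : u * u' * u⁻¹ ≠ u := by
      intro h
      apply hne
      have : u' = u⁻¹ * (u * u' * u⁻¹) * u := by group
      rw [this, h]; group
    have hv3u' : u * u' * u⁻¹ ≠ u' := by
      intro h
      obtain ⟨c, hc, hc1⟩ := exists_ne_one_of_card_prime htu.1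
      obtain ⟨c', hc', hc'1⟩ := exists_ne_one_of_card_prime htu'.1
      have h3 := apply_gen_eq hA hP u u' htu htu' hL hc hc1 hc' hc'1
      have h4 : u c' ∈ commSub hA u' := by
        have : u c' ∈ commSub hA (u * u' * u⁻¹) := by
          rw [commSub_conj]
          exact ⟨c', hc', rfl⟩
        rw [h] at this
        exact this
      rw [h3] at h4
      have h5 : c ∈ commSub hA u' := by
        have := (commSub hA u').mul_mem ((commSub hA u').inv_mem hc') h4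
        rwa [inv_mul_cancel_left] at this
      obtain ⟨-, -, h6, -, -⟩ := decomp hA hP u u' htu.1 htu'.1 htu.2 htu'.2 hL
      have h7 : c ∈ commSub hA u ⊓ commSub hA u' := ⟨hc, h5⟩
      rw [h6] at h7
      exact hc1 h7
    have hbraid := third_involution hA hP G hG u u' (u * u' * u⁻¹) hu hu' hv3G hiu hiu' hv3i
      htu htu' hv3t hne hv3u hv3u'
    refine ⟨u' * u, G.mul_mem hu' hu, ?_, ?_⟩
    · intro x hx
      show u' (u x) = x
      rw [mem_fixSub.mp hx.1, mem_fixSub.mp hx.2]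
    · rw [hkey, h2]
      calc u' * u * u' * (u' * u)⁻¹ = u' * (u * u' * u⁻¹) * u'⁻¹ := by group
        _ = u' * (u' * u * u'⁻¹) * u'⁻¹ := by rw [hbraid]
        _ = (u' * u') * u * (u' * u')⁻¹ := by group
        _ = u := by rw [hiu']; group
  · have h3 := third_involution hA hP G hG u u' (g * u * g⁻¹) hu hu' hgu hiu hiu' hgi
      htu htu' (transv_conj hA htu g) hne h1 h2
    refine ⟨u'⁻¹, G.inv_mem hu', ?_, ?_⟩
    · intro x hx
      rw [hu'inv]
      exact mem_fixSub.mp hx.2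
    · rw [hkey, h3]; group

theorem invariant_two (hA : ∀ a b : A, a * b = b * a) (hP : IsPGroup 2 A)
    (G : Subgroup (MulAut A))
    (hG : ∀ v ∈ G, ∀ w ∈ G, v * v = 1 → w * w = 1 → v ≠ 1 → w ≠ 1 → v ≠ w →
      ¬ IsPGroup 2 (Subgroup.closure ({v, w} : Set (MulAut A))))
    (u u' : MulAut A) (hu : u ∈ G) (hu' : u' ∈ G) (hiu : u * u = 1) (hiu' : u' * u' = 1)
    (htu : Transv 2 hA u) (htu' : Transv 2 hA u') (hne : u ≠ u') {k : MulAut A} (hk : k ∈ G) :
    (∀ x ∈ commSub hA u ⊔ commSub hA u', k x ∈ commSub hA u ⊔ commSub hA u') ∧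
      (∀ x ∈ fixSub u ⊓ fixSub u', k x ∈ fixSub u ⊓ fixSub u') := by
  obtain ⟨h1, h2⟩ := map_eq_of_two hA hP G hG u u' hu hu' hiu hiu' htu htu' hne k hk
  constructor
  · intro x hx
    rw [← h1]
    exact ⟨x, hx, rfl⟩
  · intro x hx
    rw [← h2]
    exact ⟨x, hx, rfl⟩

theorem coreFix_eq_two (hA : ∀ a b : A, a * b = b * a) (hP : IsPGroup 2 A)
    (G : Subgroup (MulAut A))
    (hG : ∀ v ∈ G, ∀ w ∈ G, v * v = 1 → w * w = 1 → v ≠ 1 → w ≠ 1 → v ≠ w →
      ¬ IsPGroup 2 (Subgroup.closure ({v, w} : Set (MulAut A))))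
    (u : MulAut A) {g : MulAut A} (hg : g ∈ G) (hu : u ∈ G) (hiu : u * u = 1)
    (htu : Transv 2 hA u) (hne : u ≠ g * u * g⁻¹) :
    coreFix G (fixSub u) = fixSub u ⊓ fixSub (g * u * g⁻¹) := by
  have hu' : g * u * g⁻¹ ∈ G := G.mul_mem (G.mul_mem hg hu) (G.inv_mem hg)
  have hiu' : g * u * g⁻¹ * (g * u * g⁻¹) = 1 := by
    calc g * u * g⁻¹ * (g * u * g⁻¹) = g * (u * u) * g⁻¹ := by group
      _ = 1 := by rw [hiu]; group
  apply le_antisymm
  · exact le_inf (coreFix_le _ _) (coreFix_fix_le u hg)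
  · apply le_coreFix inf_le_left
    intro k hk x hx
    exact (invariant_two hA hP G hG u (g * u * g⁻¹) hu hu' hiu hiu' htu (transv_conj hA htu g)
      hne hk).2 x hx

end Abstract2

variable {Ω : Type*} [Group Ω] {S : Subgroup Ω} [Finite S]

theorem hG_two (hH : Hyp 2 S) (F : FusionSystem S) (hF : F.IsSaturated 2) {P : Subgroup Ω}
    (hP : Mid 2 S P) :
    ∀ v ∈ F.autGroup P, ∀ w ∈ F.autGroup P, v * v = 1 → w * w = 1 → v ≠ 1 → w ≠ 1 → v ≠ w →
      ¬ IsPGroup 2 (Subgroup.closure ({v, w} : Set (MulAut ↥P))) := by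
  intro v hv w hw hiv hiw hv1 hw1 hvw hK
  haveI := finite_of_le' hP.2.1
  have hKG : Subgroup.closure ({v, w} : Set (MulAut ↥P)) ≤ F.autGroup P := by
    rw [Subgroup.closure_le]
    rintro x (rfl | rfl)
    · exact hv
    · exact hw
  have hc := card_le_of_isPGroup hH F hF hP hKG hK
  have hord : orderOf v = 2 := orderOf_eq_prime (by rw [pow_two]; exact hiv) hv1
  have hzK : Subgroup.zpowers v ≤ Subgroup.closure ({v, w} : Set (MulAut ↥P)) :=
    Subgroup.zpowers_le.mpr (Subgroup.subset_closure (by simp))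
  have hcz : Nat.card (Subgroup.zpowers v) = 2 := by rw [Nat.card_zpowers, hord]
  have heq : Subgroup.zpowers v = Subgroup.closure ({v, w} : Set (MulAut ↥P)) :=
    Subgroup.eq_of_le_of_card_ge hzK (by rw [hcz]; exact hc)
  have hwz : w ∈ Subgroup.zpowers v := by
    rw [heq]; exact Subgroup.subset_closure (by simp)
  obtain ⟨k, hk⟩ := Subgroup.mem_zpowers_iff.mp hwz
  rw [← zpow_mod_orderOf, hord] at hk
  simp only [Nat.cast_ofNat] at hk
  rcases Int.emod_two_eq_zero_or_one k with h | h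
  · rw [h, zpow_zero] at hk
    exact hw1 hk.symm
  · rw [h] at hk
    simp at hk
    exact hvw hk

namespace Act

variable {F : FusionSystem S} {P : Subgroup Ω}

theorem hiu (D : Act 2 S F P) (hH : Hyp 2 S) : D.u * D.u = 1 := by
  have := conjAut_pow_prime hH D.hmid D.hsS
  rw [pow_two] at this
  exact this

theorem hiu' (D : Act 2 S F P) (hH : Hyp 2 S) : D.u' * D.u' = 1 := by
  show D.g * D.u * D.g⁻¹ * (D.g * D.u * D.g⁻¹) = 1
  calc D.g * D.u * D.g⁻¹ * (D.g * D.u * D.g⁻¹) = D.g * (D.u * D.u) * D.g⁻¹ := by group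
    _ = 1 := by rw [D.hiu hH]; group

theorem hne (D : Act 2 S F P) (hH : Hyp 2 S) : D.u ≠ D.u' := by
  intro h
  apply D.hL
  rw [← h]
  have h1 : ({D.u, D.u} : Set (MulAut ↥P)) = {D.u} := by simp
  rw [h1, ← Subgroup.zpowers_eq_closure]
  apply IsPGroup.of_card (n := 1)
  rw [Nat.card_zpowers, pow_one]
  exact orderOf_conjAut hH D.hmid D.hsS D.hsP

/-- the part moved by the automizer -/
noncomputable def P1 (D : Act 2 S F P) (hH : Hyp 2 S) : Subgroup Ω :=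
  (commSub (D.hPc hH) D.u ⊔ commSub (D.hPc hH) D.u').map P.subtype

end Act

/-- the canonical invariant part of the centre -/
def K2 (F : FusionSystem S) (P : Subgroup Ω) : Subgroup Ω :=
  (coreFix (F.autGroup P) ((ZS S).subgroupOf P)).map P.subtype

theorem K2_le_ZS (F : FusionSystem S) (P : Subgroup Ω) : K2 F P ≤ ZS S := by
  rintro _ ⟨x, hx, rfl⟩
  have h1 : x ∈ (ZS S).subgroupOf P := coreFix_le _ _ hx
  exact h1

theorem Z2_eq_K2 (hH : Hyp 2 S) (F : FusionSystem S) (hF : F.IsSaturated 2) {P : Subgroup Ω}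
    (D : Act 2 S F P) : D.Z2 = K2 F P := by
  haveI := D.finite
  unfold Act.Z2 K2
  rw [← D.fix_u hH]
  congr 1
  exact (coreFix_eq_two (D.hPc hH) (D.isPGroup hH) (F.autGroup P) (hG_two hH F hF D.hmid)
    D.u D.hg (D.hu_mem hH) (D.hiu hH) (D.transv_u hH) (D.hne hH)).symm

theorem K2_invariant (F : FusionSystem S) {P : Subgroup Ω} {g : MulAut ↥P}
    (hg : g ∈ F.autGroup P) {z : Ω} (hz : z ∈ K2 F P) (hzP : z ∈ P) :
    ((g ⟨z, hzP⟩ : ↥P) : Ω) ∈ K2 F P := by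
  obtain ⟨x, hx, hxz⟩ := hz
  have : x = ⟨z, hzP⟩ := Subtype.ext hxz
  rw [← this]
  exact ⟨g x, coreFix_invariant hg hx, rfl⟩

/-- two elements outside a subgroup of index two differ by an element of the subgroup -/
theorem mid_mul_mem (hH : Hyp 2 S) {P : Subgroup Ω} (hP : Mid 2 S P) {y w : Ω} (hy : y ∈ S)
    (hyP : y ∉ P) (hw : w ∈ S) (hwP : w ∉ P) : w * y⁻¹ ∈ P := by
  haveI := finite_of_le' hP.2.1
  haveI := finite_of_le' (ZS_le S)
  have hidx : (P.subgroupOf S).index = 2 := by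
    have h1 := Subgroup.card_mul_index (P.subgroupOf S)
    rw [Nat.card_congr (Subgroup.subgroupOfEquivOfLe hP.2.1).toEquiv, hP.2.2, hH.hcard] at h1
    have h3 : 0 < Nat.card (ZS S) := Nat.card_pos
    have h4 : 2 * Nat.card (ZS S) * (P.subgroupOf S).index = 2 * Nat.card (ZS S) * 2 := by
      rw [h1]; ring
    exact Nat.eq_of_mul_eq_mul_left (by omega) h4
  have h2 := Subgroup.mul_mem_iff_of_index_two hidx (a := (⟨w, hw⟩ : ↥S))
    (b := (⟨y, hy⟩ : ↥S)⁻¹)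
  have h3 : (⟨w, hw⟩ : ↥S) * (⟨y, hy⟩ : ↥S)⁻¹ ∈ P.subgroupOf S := by
    rw [h2]
    constructor
    · intro h; exact absurd h hwP
    · intro h
      rw [Subgroup.inv_mem_iff] at h
      exact absurd h hyP
  exact h3

theorem mid_mul_mem_ZS (hH : Hyp 2 S) {P : Subgroup Ω} (hP : Mid 2 S P) {x x' : Ω} (hx : x ∈ P)
    (hxZ : x ∉ ZS S) (hx' : x' ∈ P) (hx'Z : x' ∉ ZS S) : x' * x⁻¹ ∈ ZS S := by
  haveI := finite_of_le' hP.2.1
  haveI := finite_of_le' (ZS_le S)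
  have hidx : ((ZS S).subgroupOf P).index = 2 := by
    have h1 := Subgroup.card_mul_index ((ZS S).subgroupOf P)
    rw [Nat.card_congr (Subgroup.subgroupOfEquivOfLe hP.1).toEquiv, hP.2.2] at h1
    have h3 : 0 < Nat.card (ZS S) := Nat.card_pos
    have h4 : Nat.card (ZS S) * ((ZS S).subgroupOf P).index = Nat.card (ZS S) * 2 := by
      rw [h1]; ring
    exact Nat.eq_of_mul_eq_mul_left h3 h4
  have h2 := Subgroup.mul_mem_iff_of_index_two hidx (a := (⟨x', hx'⟩ : ↥P))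
    (b := (⟨x, hx⟩ : ↥P)⁻¹)
  have h3 : (⟨x', hx'⟩ : ↥P) * (⟨x, hx⟩ : ↥P)⁻¹ ∈ (ZS S).subgroupOf P := by
    rw [h2]
    constructor
    · intro h; exact absurd h hx'Z
    · intro h
      rw [Subgroup.inv_mem_iff] at h
      exact absurd h hxZ
  exact h3

/-- two involutions outside an elementary abelian subgroup of index two differ by a central
element -/
theorem mul_inv_mem_ZS_of_involutions (hH : Hyp 2 S) {P : Subgroup Ω} (hP : Mid 2 S P)
    (hexp : ∀ x ∈ P, x ^ 2 = 1) {y w : Ω} (hy : y ∈ S) (hyP : y ∉ P) (hy2 : y ^ 2 = 1)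
    (hw : w ∈ S) (hwP : w ∉ P) (hw2 : w ^ 2 = 1) : w * y⁻¹ ∈ ZS S := by
  have ha := mid_mul_mem hH hP hy hyP hw hwP
  have ha2 := hexp _ ha
  apply mem_Z_of_comm hH hP hy hyP ha
  have hyinv : y⁻¹ = y := by
    rw [inv_eq_iff_mul_eq_one, ← pow_two]; exact hy2
  have hwinv : w⁻¹ = w := by
    rw [inv_eq_iff_mul_eq_one, ← pow_two]; exact hw2
  have hainv : (w * y⁻¹)⁻¹ = w * y⁻¹ := by
    rw [inv_eq_iff_mul_eq_one, ← pow_two]; exact ha2
  rw [hyinv] at hainv ⊢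
  -- `(w y)⁻¹ = w y` gives `y w = w y`
  have h1 : y * w = w * y := by
    have : (w * y)⁻¹ = y * w := by rw [mul_inv_rev, hyinv, hwinv]
    rw [← this, hainv]
  calc y * (w * y) = (y * w) * y := by group
    _ = w * y * y := by rw [h1]

/-- for `p = 2`, every essential subgroup is invariant under `Aut_F(S)` -/
theorem aut_preserves_essential (hH : Hyp 2 S) (F : FusionSystem S) (hF : F.IsSaturated 2)
    (hcore : F.core = ⊥) {P : Subgroup Ω} (hP : F.IsEssential 2 P) {β : MulAut ↥S}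
    (hβ : β ∈ F.autGroup S) : ∀ x : ↥S, (x : Ω) ∈ P → ((β x : ↥S) : Ω) ∈ P := by
  have hmid := mid_of_isEssential hH F hF hP
  have hexp : ∀ x ∈ P, x ^ 2 = 1 := fun x hx => pow_eq_one_of_mem_essential hH F hF hcore hP hx
  have hZ : ∀ (γ : MulAut ↥S) (x : ↥S), (x : Ω) ∈ ZS S → ((γ x : ↥S) : Ω) ∈ ZS S :=
    fun γ x hx => aut_ZS γ hx
  have hZ' : ∀ (γ : MulAut ↥S) (x : ↥S), ((γ x : ↥S) : Ω) ∈ ZS S → (x : Ω) ∈ ZS S := by
    intro γ x hx
    have := hZ γ⁻¹ (γ x) hx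
    simpa using this
  by_contra hcon
  push Not at hcon
  obtain ⟨x, hxP, hyP⟩ := hcon
  have hxZ : (x : Ω) ∉ ZS S := fun h => hyP (hmid.1 (hZ β x h))
  have hx2 : x ^ 2 = 1 := Subtype.ext (hexp _ hxP)
  have hy2 : ((β x : ↥S) : Ω) ^ 2 = 1 := by
    have : (β x) ^ 2 = 1 := by rw [← map_pow, hx2, map_one]
    exact congrArg Subtype.val this
  -- (1) `β (β x) ∈ P`
  have h1 : ((β (β x) : ↥S) : Ω) ∈ P := by
    by_contra h
    have hw2 : ((β (β x) : ↥S) : Ω) ^ 2 = 1 := by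
      have : (β (β x)) ^ 2 = 1 := by rw [← map_pow, ← map_pow, hx2, map_one, map_one]
      exact congrArg Subtype.val this
    have h2 := mul_inv_mem_ZS_of_involutions hH hmid hexp (β x).2 hyP hy2 (β (β x)).2 h hw2
    have h3 : ((β (β x * x⁻¹) : ↥S) : Ω) ∈ ZS S := by
      rw [map_mul, map_inv]; exact h2
    have h4 := hZ' β _ h3
    have h5 : ((β x : ↥S) : Ω) = ((β x * x⁻¹ : ↥S) : Ω) * (x : Ω) := by
      simp
    apply hyP
    rw [h5]
    exact P.mul_mem (hmid.1 h4) hxP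
  -- (2) `β²` preserves `P`
  have h2 : ∀ x' : ↥S, (x' : Ω) ∈ P → ((β (β x') : ↥S) : Ω) ∈ P := by
    intro x' hx'
    by_cases hx'Z : (x' : Ω) ∈ ZS S
    · exact hmid.1 (hZ β _ (hZ β _ hx'Z))
    · have hz : ((x' * x⁻¹ : ↥S) : Ω) ∈ ZS S := mid_mul_mem_ZS hH hmid hxP hxZ hx' hx'Z
      have e : x' = (x' * x⁻¹) * x := by group
      rw [e, map_mul, map_mul]
      exact P.mul_mem (hmid.1 (hZ β _ (hZ β _ hz))) h1
  have h3 : ∀ k : ℕ, ∀ x' : ↥S, (x' : Ω) ∈ P → (((β ^ (2 * k)) x' : ↥S) : Ω) ∈ P := by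
    intro k
    induction k with
    | zero => intro x' hx'; simpa using hx'
    | succ k ih =>
      intro x' hx'
      have e : β ^ (2 * (k + 1)) = β ^ (2 * k) * (β * β) := by
        rw [mul_add, pow_add, mul_one, pow_two]
      rw [e]
      exact ih _ (h2 x' hx')
  -- (3) an odd power of `β` is inner
  obtain ⟨a, m, hm, hn⟩ := Nat.exists_eq_pow_mul_and_not_dvd (orderOf_pos β).ne' 2 (by norm_num)
  have hε : (β ^ m) ^ (2 ^ a) = 1 := by
    rw [← pow_mul, mul_comm, ← hn, pow_orderOf_eq_one]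
  have hinn := pElement_mem_autInducedBy F hF (Subgroup.pow_mem _ hβ m) hε
  obtain ⟨g, hgS, hg⟩ := (mem_autInducedBy_iff S S _).mp hinn
  have hmP : (((β ^ m) x : ↥S) : Ω) ∈ P := by
    rw [hg x]
    exact (Subgroup.mem_normalizer_iff.mp (le_normalizer_mid hH hmid hgS) _).mp hxP
  have hodd : m % 2 = 1 := by
    rcases Nat.mod_two_eq_zero_or_one m with h | h
    · exact absurd (Nat.dvd_of_mod_eq_zero h) hm
    · exact h
  obtain ⟨k, hk⟩ : ∃ k, m = 2 * k + 1 := ⟨m / 2, by omega⟩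
  have e : β ^ m = β * β ^ (2 * k) := by rw [hk, pow_succ']
  rw [e] at hmP
  have hx'' := h3 k x hxP
  have hx''Z : (((β ^ (2 * k)) x : ↥S) : Ω) ∉ ZS S := fun h => hxZ (hZ' _ _ h)
  have hz : (((β ^ (2 * k)) x * x⁻¹ : ↥S) : Ω) ∈ ZS S :=
    mid_mul_mem_ZS hH hmid hxP hxZ hx'' hx''Z
  have e2 : (β ^ (2 * k)) x = ((β ^ (2 * k)) x * x⁻¹) * x := by group
  have h4 : (((β * β ^ (2 * k)) x : ↥S) : Ω) =
      ((β ((β ^ (2 * k)) x * x⁻¹) : ↥S) : Ω) * ((β x : ↥S) : Ω) := by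
    show ((β ((β ^ (2 * k)) x) : ↥S) : Ω) = _
    conv_lhs => rw [e2]
    rw [map_mul]
    rfl
  rw [h4] at hmP
  apply hyP
  have h5 := hmid.1 (hZ β _ hz)
  have := P.mul_mem (P.inv_mem h5) hmP
  rwa [inv_mul_cancel_left] at this

/-- restriction of an automorphism of `S` preserving `P` -/
theorem exists_restrict (F : FusionSystem S) {P : Subgroup Ω} (hPS : P ≤ S) {β : MulAut ↥S}
    (hβ : β ∈ F.autGroup S) (hβP : ∀ x : ↥S, (x : Ω) ∈ P → ((β x : ↥S) : Ω) ∈ P) :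
    ∃ b ∈ F.autGroup P, ∀ x : ↥P, ((b x : ↥P) : Ω) = ((β ⟨x, hPS x.2⟩ : ↥S) : Ω) := by
  haveI := finite_of_le' hPS
  obtain ⟨φ, hφdef⟩ : ∃ φ : ↥P →* Ω, φ = (autHom β).comp (Subgroup.inclusion hPS) := ⟨_, rfl⟩
  have hφx : ∀ x : ↥P, φ x = ((β ⟨x, hPS x.2⟩ : ↥S) : Ω) := by
    intro x; rw [hφdef]; rfl
  have hφ : φ ∈ F.Hom P := by
    rw [hφdef]
    exact restrict_mem F hPS ((mem_autGroup_iff F le_rfl β).mp hβ)
  have hle : φ.range ≤ P := by
    rintro _ ⟨x, rfl⟩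
    rw [hφx]
    exact hβP _ x.2
  have hinj := F.injective_of_mem hφ
  haveI := finite_of_le' (hle.trans hPS)
  have hr : φ.range = P := by
    apply Subgroup.eq_of_le_of_card_ge hle
    apply Nat.card_le_card_of_injective (fun x => (⟨φ x, x, rfl⟩ : φ.range))
    intro x y hxy
    have h0 : φ x = φ y := congrArg Subtype.val hxy
    exact hinj h0
  refine ⟨isoOfHom φ hinj hr, ?_, fun x => ?_⟩
  · rw [mem_autGroup_iff F hPS]
    have e : autHom (isoOfHom φ hinj hr) = φ := by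
      ext x; rfl
    rw [e]
    exact hφ
  · rw [isoOfHom_coe, hφx]

theorem K2_aut (hH : Hyp 2 S) (F : FusionSystem S) (hF : F.IsSaturated 2)
    (hcore : F.core = ⊥) {P : Subgroup Ω} (hP : F.IsEssential 2 P) {β : MulAut ↥S}
    (hβ : β ∈ F.autGroup S) {z : Ω} (hz : z ∈ K2 F P) (hzS : z ∈ S) :
    ((β ⟨z, hzS⟩ : ↥S) : Ω) ∈ K2 F P := by
  have hmid := mid_of_isEssential hH F hF hP
  obtain ⟨b, hb, hbβ⟩ := exists_restrict F hmid.2.1 hβ
    (aut_preserves_essential hH F hF hcore hP hβ)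
  have hzP : z ∈ P := hmid.1 (K2_le_ZS F P hz)
  have := K2_invariant F hb hz hzP
  rw [hbβ] at this
  exact this

/-- the intersection of the invariant parts over all essential subgroups -/
def T2 (F : FusionSystem S) : Subgroup Ω :=
  ZS S ⊓ ⨅ P : Subgroup Ω, ⨅ (_ : F.IsEssential 2 P), K2 F P

theorem mem_T2 {F : FusionSystem S} {z : Ω} :
    z ∈ T2 F ↔ z ∈ ZS S ∧ ∀ P : Subgroup Ω, F.IsEssential 2 P → z ∈ K2 F P := by
  unfold T2
  rw [Subgroup.mem_inf, Subgroup.mem_iInf]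
  constructor
  · rintro ⟨h1, h2⟩
    refine ⟨h1, fun P hP => ?_⟩
    have := h2 P
    rw [Subgroup.mem_iInf] at this
    exact this hP
  · rintro ⟨h1, h2⟩
    refine ⟨h1, fun P => ?_⟩
    rw [Subgroup.mem_iInf]
    exact h2 P

theorem T2_aut (hH : Hyp 2 S) (F : FusionSystem S) (hF : F.IsSaturated 2)
    (hcore : F.core = ⊥) {β : MulAut ↥S} (hβ : β ∈ F.autGroup S) {z : Ω} (hz : z ∈ T2 F) :
    ((β ⟨z, (mem_ZS.mp (mem_T2.mp hz).1).1⟩ : ↥S) : Ω) ∈ T2 F := by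
  rw [mem_T2]
  refine ⟨aut_ZS β (mem_T2.mp hz).1, fun P hP => ?_⟩
  exact K2_aut hH F hF hcore hP hβ ((mem_T2.mp hz).2 P hP) _

set_option maxHeartbeats 1600000 in
theorem T2_eq_bot (hH : Hyp 2 S) (F : FusionSystem S) (hF : F.IsSaturated 2)
    (hcore : F.core = ⊥) : T2 F = ⊥ := by
  apply eq_bot_of_invariant hH F hF hcore (Q := T2 F) (fun z hz => (mem_T2.mp hz).1)
  · intro β hβ z hz
    exact T2_aut hH F hF hcore hβ hz
  · intro P hP g hg z hz
    obtain ⟨D⟩ := exists_act hH F hF hP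
    haveI := D.finite
    have hzZ := (mem_T2.mp hz).1
    have hzP : z ∈ P := D.hmid.1 hzZ
    obtain ⟨l, hl, hlfix, hln⟩ := exists_normalizing_two (D.hPc hH) (D.isPGroup hH)
      (F.autGroup P) (hG_two hH F hF D.hmid) D.u D.u' (D.hu_mem hH) (D.hu'_mem hH) (D.hiu hH)
      (D.hiu' hH) (D.transv_u hH) (D.transv_u' hH) (D.hne hH) hg
    have hnG : l * g ∈ F.autGroup P := (F.autGroup P).mul_mem hl hg
    have hnorm : ∀ k ∈ autInducedBy S P, (l * g) * k * (l * g)⁻¹ ∈ autInducedBy S P := by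
      intro k hk
      obtain ⟨n, rfl⟩ := exists_pow_of_mem_autInducedBy hH D.hmid D.hsS D.hsP hk
      rw [← conj_pow]
      apply Subgroup.pow_mem
      have h1 : (l * g) * conjAut P D.s (le_normalizer_mid hH D.hmid D.hsS) * (l * g)⁻¹ = D.u :=
        hln
      rw [h1]
      exact conjAut_mem_autInducedBy hH D.hmid D.hsS
    obtain ⟨β, hβ, hext⟩ := exists_extension hH F hF D.hmid hnG hnorm
    have h1 := T2_aut hH F hF hcore hβ hz
    have h2 : ((β ⟨z, (mem_ZS.mp hzZ).1⟩ : ↥S) : Ω) = (((l * g) ⟨z, hzP⟩ : ↥P) : Ω) :=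
      hext ⟨z, hzP⟩
    rw [h2] at h1
    -- the image lies in the part fixed by `l`
    have h3 : (((l * g) ⟨z, hzP⟩ : ↥P) : Ω) ∈ D.Z2 := by
      rw [Z2_eq_K2 hH F hF D]
      exact (mem_T2.mp h1).2 P hP
    obtain ⟨w, hw, hwe⟩ := h3
    have hw' : w = (l * g) ⟨z, hzP⟩ := Subtype.ext hwe
    have h4 : l w = w := hlfix w hw
    have h5 : g ⟨z, hzP⟩ = w := by
      have h6 : l (g ⟨z, hzP⟩) = l w := by
        rw [h4, hw']; rfl
      exact l.injective h6
    have h7 : ((g ⟨z, hzP⟩ : ↥P) : Ω) = (((l * g) ⟨z, hzP⟩ : ↥P) : Ω) := by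
      rw [h5, hw']
    rw [h7]
    exact h1

end Cfsg.Agent.Helper26.ZI
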