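import Mathlib
import Cfsg.Agent.Helper26.ZI10

set_option autoImplicit false
set_option linter.style.haveILetI false
set_option linter.unusedSectionVars false
set_option linter.unusedVariables false

/-! The case `p = 2`: the focal argument excluding a centre of order `4`. -/

namespace Cfsg.Agent.Helper26.ZI

open Cfsg Cfsg.FusionSystem Cfsg.Agent.Helper25 Cfsg.Agent.Helper25.Oliver
open scoped commutatorElement

variable {Ω : Type*} [Group Ω] {S : Subgroup Ω}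

/-- the subsystem of maps moving every element by an element of `N` -/
def focalSystem (F : FusionSystem S) (N : Subgroup Ω)
    (hN : ∀ a ∈ S, ∀ g ∈ S, a⁻¹ * (g * a * g⁻¹) ∈ N) : FusionSystem S where
  Hom P := {φ | φ ∈ F.Hom P ∧ ∀ x : P, (x : Ω)⁻¹ * φ x ∈ N}
  le_of_mem := fun h => F.le_of_mem h.1
  injective_of_mem := fun h => F.injective_of_mem h.1
  conj_mem := by
    intro P g hP hg
    refine ⟨F.conj_mem hP hg, fun x => ?_⟩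
    exact hN x (hP x.2) g hg
  comp_mem := by
    rintro P Q φ ψ ⟨hφ, hφN⟩ ⟨hψ, hψN⟩ h
    refine ⟨F.comp_mem hφ hψ h, fun x => ?_⟩
    have h1 := hφN x
    have h2 := hψN ⟨φ x, h x⟩
    have e : (x : Ω)⁻¹ * (ψ.comp (φ.codRestrict Q h)) x =
        ((x : Ω)⁻¹ * φ x) * ((φ x)⁻¹ * ψ ⟨φ x, h x⟩) := by
      rw [mul_assoc, mul_inv_cancel_left]
      rfl
    rw [e]
    exact N.mul_mem h1 h2
  inv_mem := by
    rintro P φ ⟨hφ, hφN⟩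
    obtain ⟨ψ, hψ, hinv⟩ := F.inv_mem hφ
    refine ⟨ψ, ⟨hψ, ?_⟩, hinv⟩
    rintro ⟨_, x, rfl⟩
    rw [hinv x]
    have := N.inv_mem (hφN x)
    rwa [mul_inv_rev, inv_inv] at this

theorem hyperfocal_le_of_focal [Finite S] (p : ℕ) [Fact p.Prime] (hS : IsPGroup p S)
    (F : FusionSystem S) (hF : F.IsSaturated p) (N : Subgroup Ω)
    (hN : ∀ a ∈ S, ∀ g ∈ S, a⁻¹ * (g * a * g⁻¹) ∈ N)
    (hE : ∀ P : Subgroup Ω, (P = S ∨ F.IsEssential p P) → ∀ α ∈ F.autGroup P, ∀ x : ↥P,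
      (x : Ω)⁻¹ * ((α x : ↥P) : Ω) ∈ N) :
    F.hyperfocalSubgroup p ≤ N := by
  have hle : F ≤ focalSystem F N hN := by
    apply alperin_le p hS F hF
    intro P hP α hα
    have hPS : P ≤ S := by
      rcases hP with rfl | hP
      · exact le_rfl
      · exact hP.1.1
    apply Subgroup.subset_closure
    exact ⟨(mem_autGroup_iff F hPS α).mp hα, hE P hP α hα⟩
  unfold hyperfocalSubgroup
  rw [Subgroup.closure_le]
  rintro _ ⟨P, α, x, hPS, -, rfl⟩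
  have h1 : autHom (α : MulAut ↥P) ∈ F.Hom P := (mem_autGroup_iff F hPS _).mp α.2
  exact (hle P h1).2 x

variable [Finite S]

theorem exists_not_mem_of_mid_ne {p : ℕ} [Fact p.Prime] {P₀ P₁ : Subgroup Ω} (hP₀ : Mid p S P₀)
    (hP₁ : Mid p S P₁) (hne : P₁ ≠ P₀) : ∃ y ∈ P₁, y ∉ P₀ := by
  by_contra hcon
  push Not at hcon
  haveI := finite_of_le' hP₀.2.1
  apply hne
  apply Subgroup.eq_of_le_of_card_ge hcon
  rw [hP₀.2.2, hP₁.2.2]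

theorem inter_mids {p : ℕ} [Fact p.Prime] (hH : Hyp p S) {P₀ P₁ : Subgroup Ω}
    (hP₀ : Mid p S P₀) (hP₁ : Mid p S P₁) (hne : P₀ ≠ P₁) {a : Ω} (ha₀ : a ∈ P₀)
    (ha₁ : a ∈ P₁) : a ∈ ZS S := by
  by_contra haZ
  apply hne
  rw [mid_eq_sup hH.hS hP₀ ha₀ haZ, mid_eq_sup hH.hS hP₁ ha₁ haZ]

/-- at most two subgroups of index two over the centre are elementary abelian -/
theorem only_two (hH : Hyp 2 S) {P₀ P₁ P : Subgroup Ω} (hP₀ : Mid 2 S P₀) (hP₁ : Mid 2 S P₁)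
    (hP : Mid 2 S P) (hexp₀ : ∀ x ∈ P₀, x ^ 2 = 1) (hexp₁ : ∀ x ∈ P₁, x ^ 2 = 1)
    (hexp : ∀ x ∈ P, x ^ 2 = 1) (h1 : P₁ ≠ P₀) (h2 : P ≠ P₀) : P = P₁ := by
  obtain ⟨y, hy, hy0⟩ := exists_not_mem_of_mid_ne hP₀ hP₁ h1
  obtain ⟨w, hw, hw0⟩ := exists_not_mem_of_mid_ne hP₀ hP h2
  have hz := mul_inv_mem_ZS_of_involutions hH hP₀ hexp₀ (hP₁.2.1 hy) hy0 (hexp₁ y hy)
    (hP.2.1 hw) hw0 (hexp w hw)
  have hw1 : w ∈ P₁ := by
    have := P₁.mul_mem (hP₁.1 hz) hy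
    rwa [inv_mul_cancel_right] at this
  have hwZ : w ∉ ZS S := fun h => hw0 (hP₀.1 h)
  rw [mid_eq_sup hH.hS hP hw hwZ, mid_eq_sup hH.hS hP₁ hw1 hwZ]

theorem comm_mem_Dsub {a g : Ω} (ha : a ∈ S) (hg : g ∈ S) : a⁻¹ * (g * a * g⁻¹) ∈ Dsub S := by
  refine ⟨⁅(⟨a, ha⟩ : ↥S)⁻¹, ⟨g, hg⟩⁆,
    Subgroup.commutator_mem_commutator (Subgroup.mem_top _) (Subgroup.mem_top _), ?_⟩
  rw [commutatorElement_def]
  show a⁻¹ * g * (a⁻¹)⁻¹ * g⁻¹ = a⁻¹ * (g * a * g⁻¹)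
  group

section Two

variable {F : FusionSystem S} {P P' : Subgroup Ω}

theorem Dsub_le_P1 (hH : Hyp 2 S) (D : Act 2 S F P) : Dsub S ≤ D.P1 hH := by
  rw [Dsub_eq hH D]
  exact Subgroup.map_mono le_sup_left

theorem P1_le (hH : Hyp 2 S) (D : Act 2 S F P) : D.P1 hH ≤ P := by
  rintro _ ⟨x, -, rfl⟩
  exact x.2

theorem mem_Dsub_of_P1_ZS (hH : Hyp 2 S) (D : Act 2 S F P) {a : Ω} (ha : a ∈ D.P1 hH)
    (haZ : a ∈ ZS S) : a ∈ Dsub S := by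
  haveI := D.finite
  obtain ⟨x, hx, rfl⟩ := ha
  obtain ⟨c, hc, c', hc', rfl⟩ := exists_mul_of_mem_sup (D.hPc hH) hx
  obtain ⟨h1, -, -, -, -⟩ := decomp (D.hPc hH) (D.isPGroup hH) D.u D.u'
    (D.transv_u hH).1 (D.transv_u' hH).1 (D.transv_u hH).2 (D.transv_u' hH).2 D.hL
  have hxF : c * c' ∈ fixSub D.u := by
    rw [D.fix_u hH]
    exact haZ
  have hcF : c ∈ fixSub D.u := (D.transv_u hH).2 hc
  have hc'F : c' ∈ fixSub D.u := by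
    have := (fixSub D.u).mul_mem ((fixSub D.u).inv_mem hcF) hxF
    rwa [inv_mul_cancel_left] at this
  have hc'1 : c' = 1 := by
    have : c' ∈ commSub (D.hPc hH) D.u' ⊓ fixSub D.u := ⟨hc', hc'F⟩
    rw [h1] at this
    exact this
  rw [hc'1, mul_one, Dsub_eq hH D]
  exact ⟨c, hc, rfl⟩

theorem eq_one_of_Dsub_Z2 (hH : Hyp 2 S) (D : Act 2 S F P) {z : Ω} (hz : z ∈ Dsub S)
    (hz2 : z ∈ D.Z2) : z = 1 := by
  haveI := D.finite
  rw [Dsub_eq hH D] at hz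
  obtain ⟨c, hc, rfl⟩ := hz
  obtain ⟨f, hf, hfc⟩ := hz2
  have hfc' : f = c := Subtype.ext hfc
  rw [hfc'] at hf
  obtain ⟨-, -, -, h4, -⟩ := decomp (D.hPc hH) (D.isPGroup hH) D.u D.u'
    (D.transv_u hH).1 (D.transv_u' hH).1 (D.transv_u hH).2 (D.transv_u' hH).2 D.hL
  have : c ∈ (commSub (D.hPc hH) D.u ⊔ commSub (D.hPc hH) D.u') ⊓ (fixSub D.u ⊓ fixSub D.u') :=
    ⟨Subgroup.mem_sup_left hc, hf⟩
  rw [h4, Subgroup.mem_bot] at this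
  rw [this]
  rfl

/-- if the invariant parts of two data meet trivially, each has at most one nontrivial element -/
theorem Z2_unique (hH : Hyp 2 S) (D : Act 2 S F P) (D' : Act 2 S F P')
    (hinf : ∀ z, z ∈ D.Z2 → z ∈ D'.Z2 → z = 1) {f f' : Ω} (hf : f ∈ D.Z2) (hf1 : f ≠ 1)
    (hf' : f' ∈ D.Z2) (hf'1 : f' ≠ 1) : f = f' := by
  haveI := D'.finite
  have hfZ := D.Z2_le hH hf
  have hf'Z := D.Z2_le hH hf'
  have hfF : (⟨f, D'.hmid.1 hfZ⟩ : ↥P') ∈ fixSub D'.u := by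
    rw [D'.fix_u hH]; exact hfZ
  have hf'F : (⟨f', D'.hmid.1 hf'Z⟩ : ↥P') ∈ fixSub D'.u := by
    rw [D'.fix_u hH]; exact hf'Z
  obtain ⟨c, hc, f₁, hf₁, he⟩ := exists_decomp_fix (D'.hPc hH) (D'.isPGroup hH) D'.u D'.u'
    (D'.transv_u hH).1 (D'.transv_u' hH).1 (D'.transv_u hH).2 (D'.transv_u' hH).2 D'.hL hfF
  obtain ⟨c', hc', f₁', hf₁', he'⟩ := exists_decomp_fix (D'.hPc hH) (D'.isPGroup hH) D'.u D'.u'
    (D'.transv_u hH).1 (D'.transv_u' hH).1 (D'.transv_u hH).2 (D'.transv_u' hH).2 D'.hL hf'F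
  have hc1 : c ≠ 1 := by
    intro h
    rw [h, one_mul] at he
    apply hf1
    apply hinf f hf
    exact ⟨f₁, hf₁, by rw [← he]; rfl⟩
  have hc'1 : c' ≠ 1 := by
    intro h
    rw [h, one_mul] at he'
    apply hf'1
    apply hinf f' hf'
    exact ⟨f₁', hf₁', by rw [← he']; rfl⟩
  have hcc : c' = c := by
    rcases mem_pair_of_card_two (D'.transv_u hH).1 hc hc1 hc' with h | h
    · exact absurd h hc'1
    · exact h
  have hq : (⟨f, D'.hmid.1 hfZ⟩ : ↥P') * (⟨f', D'.hmid.1 hf'Z⟩ : ↥P')⁻¹ = f₁ * f₁'⁻¹ := by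
    rw [he, he', hcc]
    have := D'.hPc hH c f₁
    calc c * f₁ * (c * f₁')⁻¹ = (c * f₁) * f₁'⁻¹ * c⁻¹ := by group
      _ = (f₁ * c) * f₁'⁻¹ * c⁻¹ := by rw [this]
      _ = f₁ * (c * f₁'⁻¹) * c⁻¹ := by group
      _ = f₁ * (f₁'⁻¹ * c) * c⁻¹ := by rw [D'.hPc hH c f₁'⁻¹]
      _ = f₁ * f₁'⁻¹ := by group
  have hq2 : f * f'⁻¹ ∈ D'.Z2 := by
    refine ⟨f₁ * f₁'⁻¹, Subgroup.mul_mem _ hf₁ (Subgroup.inv_mem _ hf₁'), ?_⟩
    rw [← hq]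
    rfl
  have hq3 : f * f'⁻¹ = 1 :=
    hinf _ (D.Z2.mul_mem hf (D.Z2.inv_mem hf')) hq2
  exact mul_inv_eq_one.mp hq3

theorem Z2_fixed (hH : Hyp 2 S) (hF : F.IsSaturated 2) (D : Act 2 S F P) (D' : Act 2 S F P')
    (hinf : ∀ z, z ∈ D.Z2 → z ∈ D'.Z2 → z = 1) {h : MulAut ↥P} (hh : h ∈ F.autGroup P)
    {x : ↥P} (hx : x ∈ fixSub D.u ⊓ fixSub D.u') : h x = x := by
  haveI := D.finite
  by_cases hx1 : x = 1
  · rw [hx1, map_one]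
  have hinv := (invariant_two (D.hPc hH) (D.isPGroup hH) (F.autGroup P)
    (hG_two hH F hF D.hmid) D.u D.u' (D.hu_mem hH) (D.hu'_mem hH) (D.hiu hH) (D.hiu' hH)
    (D.transv_u hH) (D.transv_u' hH) (D.hne hH) hh).2 x hx
  have h1 : ((h x : ↥P) : Ω) ∈ D.Z2 := ⟨h x, hinv, rfl⟩
  have h2 : ((x : ↥P) : Ω) ∈ D.Z2 := ⟨x, hx, rfl⟩
  have h3 : ((h x : ↥P) : Ω) ≠ 1 := by
    intro h0
    apply hx1
    have : h x = 1 := Subtype.ext h0
    have h4 : h x = h 1 := by rw [this, map_one]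
    exact h.injective h4
  have h4 : ((x : ↥P) : Ω) ≠ 1 := fun h0 => hx1 (Subtype.ext h0)
  exact Subtype.ext (Z2_unique hH D D' hinf h1 h3 h2 h4)

theorem comm_mem_P1 (hH : Hyp 2 S) (hF : F.IsSaturated 2) (D : Act 2 S F P)
    (D' : Act 2 S F P') (hinf : ∀ z, z ∈ D.Z2 → z ∈ D'.Z2 → z = 1) {h : MulAut ↥P}
    (hh : h ∈ F.autGroup P) (x : ↥P) : (x : Ω)⁻¹ * ((h x : ↥P) : Ω) ∈ D.P1 hH := by
  haveI := D.finite
  obtain ⟨a, ha, a', ha', f, hf, rfl⟩ := exists_decomp (D.hPc hH) (D.isPGroup hH) D.u D.u'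
    (D.transv_u hH).1 (D.transv_u' hH).1 (D.transv_u hH).2 (D.transv_u' hH).2 D.hL x
  have hd : a * a' ∈ commSub (D.hPc hH) D.u ⊔ commSub (D.hPc hH) D.u' :=
    Subgroup.mul_mem _ (Subgroup.mem_sup_left ha) (Subgroup.mem_sup_right ha')
  have hinv := (invariant_two (D.hPc hH) (D.isPGroup hH) (F.autGroup P)
    (hG_two hH F hF D.hmid) D.u D.u' (D.hu_mem hH) (D.hu'_mem hH) (D.hiu hH) (D.hiu' hH)
    (D.transv_u hH) (D.transv_u' hH) (D.hne hH) hh).1 (a * a') hd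
  have hfix := Z2_fixed hH hF D D' hinf hh hf
  have e : (a * a' * f)⁻¹ * h (a * a' * f) = (a * a')⁻¹ * h (a * a') := by
    rw [map_mul h (a * a') f, hfix]
    have := D.hPc hH (h (a * a')) f
    calc (a * a' * f)⁻¹ * (h (a * a') * f) = f⁻¹ * (a * a')⁻¹ * (h (a * a') * f) := by group
      _ = f⁻¹ * (a * a')⁻¹ * (f * h (a * a')) := by rw [this]
      _ = f⁻¹ * ((a * a')⁻¹ * f) * h (a * a') := by group
      _ = f⁻¹ * (f * (a * a')⁻¹) * h (a * a') := by rw [D.hPc hH (a * a')⁻¹ f]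
      _ = (a * a')⁻¹ * h (a * a') := by group
  refine ⟨(a * a')⁻¹ * h (a * a'), Subgroup.mul_mem _ (Subgroup.inv_mem _ hd) hinv, ?_⟩
  rw [← e]
  rfl

end Two

set_option maxHeartbeats 1600000 in
/-- two distinct essential subgroups and a centre of order at least `4` are impossible when the
hyperfocal subgroup is `S` -/
theorem false_of_two (hH : Hyp 2 S) (F : FusionSystem S) (hF : F.IsSaturated 2)
    (hcore : F.core = ⊥) (hhyp : F.hyperfocalSubgroup 2 = S) {P₀ P₁ : Subgroup Ω}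
    (hP₀ : F.IsEssential 2 P₀) (hP₁ : F.IsEssential 2 P₁) (hne : P₁ ≠ P₀)
    (D₀ : Act 2 S F P₀) (D₁ : Act 2 S F P₁) {z₀ : Ω} (hz₀ : z₀ ∈ D₀.Z2) (hz₀1 : z₀ ≠ 1) :
    False := by
  have hexp : ∀ P : Subgroup Ω, F.IsEssential 2 P → ∀ x ∈ P, x ^ 2 = 1 :=
    fun P hP x hx => pow_eq_one_of_mem_essential hH F hF hcore hP hx
  have honly : ∀ P : Subgroup Ω, F.IsEssential 2 P → P = P₀ ∨ P = P₁ := by
    intro P hP
    by_cases h : P = P₀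
    · exact Or.inl h
    · exact Or.inr (only_two hH D₀.hmid D₁.hmid (mid_of_isEssential hH F hF hP)
        (hexp P₀ hP₀) (hexp P₁ hP₁) (hexp P hP) hne h)
  -- the invariant parts meet trivially
  have hinf : ∀ z, z ∈ D₀.Z2 → z ∈ D₁.Z2 → z = 1 := by
    intro z h0 h1
    have hT : z ∈ T2 F := by
      rw [mem_T2]
      refine ⟨D₀.Z2_le hH h0, fun P hP => ?_⟩
      rcases honly P hP with rfl | rfl
      · rw [← Z2_eq_K2 hH F hF D₀]; exact h0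
      · rw [← Z2_eq_K2 hH F hF D₁]; exact h1
    rw [T2_eq_bot hH F hF hcore] at hT
    exact hT
  have hinf' : ∀ z, z ∈ D₁.Z2 → z ∈ D₀.Z2 → z = 1 := fun z h1 h0 => hinf z h0 h1
  -- the subgroup `N`
  obtain ⟨N, hNdef⟩ : ∃ N : Subgroup Ω, N = D₀.P1 hH ⊔ D₁.P1 hH := ⟨_, rfl⟩
  have hN0 : D₀.P1 hH ≤ N := hNdef ▸ le_sup_left
  have hN1 : D₁.P1 hH ≤ N := hNdef ▸ le_sup_right
  have hNS : N ≤ S := by
    rw [hNdef]
    exact sup_le ((P1_le hH D₀).trans D₀.hmid.2.1) ((P1_le hH D₁).trans D₁.hmid.2.1)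
  have hNcomm : ∀ a ∈ S, ∀ g ∈ S, a⁻¹ * (g * a * g⁻¹) ∈ N := fun a ha g hg =>
    hN0 (Dsub_le_P1 hH D₀ (comm_mem_Dsub ha hg))
  -- automorphisms of `S`
  have hautS : ∀ β ∈ F.autGroup S, ∀ x : ↥S, (x : Ω)⁻¹ * ((β x : ↥S) : Ω) ∈ N := by
    intro β hβ x
    obtain ⟨b₀, hb₀, hb₀β⟩ := exists_restrict F D₀.hmid.2.1 hβ
      (aut_preserves_essential hH F hF hcore hP₀ hβ)
    obtain ⟨b₁, hb₁, hb₁β⟩ := exists_restrict F D₁.hmid.2.1 hβ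
      (aut_preserves_essential hH F hF hcore hP₁ hβ)
    have h0 : ∀ a : ↥S, (a : Ω) ∈ P₀ → (a : Ω)⁻¹ * ((β a : ↥S) : Ω) ∈ N := by
      intro a ha
      have := comm_mem_P1 hH hF D₀ D₁ hinf hb₀ ⟨a, ha⟩
      rw [hb₀β] at this
      exact hN0 this
    have h1 : ∀ a : ↥S, (a : Ω) ∈ P₁ → (a : Ω)⁻¹ * ((β a : ↥S) : Ω) ∈ N := by
      intro a ha
      have := comm_mem_P1 hH hF D₁ D₀ hinf' hb₁ ⟨a, ha⟩
      rw [hb₁β] at this
      exact hN1 this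
    by_cases hx : (x : Ω) ∈ P₀
    · exact h0 x hx
    · obtain ⟨y, hy, hy0⟩ := exists_not_mem_of_mid_ne D₀.hmid D₁.hmid hne
      have hyS : y ∈ S := D₁.hmid.2.1 hy
      have ha : ((x * (⟨y, hyS⟩ : ↥S)⁻¹ : ↥S) : Ω) ∈ P₀ :=
        mid_mul_mem hH D₀.hmid hyS hy0 x.2 hx
      have hn := h0 _ ha
      have hm := h1 ⟨y, hyS⟩ hy
      obtain ⟨a, hae⟩ : ∃ a : ↥S, a = x * (⟨y, hyS⟩ : ↥S)⁻¹ := ⟨_, rfl⟩
      rw [← hae] at hn
      have hxe : x = a * ⟨y, hyS⟩ := by rw [hae]; group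
      obtain ⟨n, hne'⟩ : ∃ n : Ω, n = (a : Ω)⁻¹ * ((β a : ↥S) : Ω) := ⟨_, rfl⟩
      rw [← hne'] at hn
      have hnS : n ∈ S := hNS hn
      have hconj : y⁻¹ * n * y ∈ N := by
        have h2 := hNcomm n hnS y⁻¹ (S.inv_mem hyS)
        have h3 := N.mul_mem hn h2
        have e : n * (n⁻¹ * (y⁻¹ * n * y⁻¹⁻¹)) = y⁻¹ * n * y := by group
        rwa [e] at h3
      have e : (x : Ω)⁻¹ * ((β x : ↥S) : Ω) =
          (y⁻¹ * n * y) * (y⁻¹ * ((β ⟨y, hyS⟩ : ↥S) : Ω)) := by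
        rw [hxe, map_mul, hne']
        simp only [Subgroup.coe_mul]
        group
      rw [e]
      exact N.mul_mem hconj hm
  -- the hyperfocal subgroup lies in `N`
  have hle : F.hyperfocalSubgroup 2 ≤ N := by
    apply hyperfocal_le_of_focal 2 hH.hS F hF N hNcomm
    rintro P (rfl | hP) α hα x
    · exact hautS α hα x
    · rcases honly P hP with rfl | rfl
      · exact hN0 (comm_mem_P1 hH hF D₀ D₁ hinf hα x)
      · exact hN1 (comm_mem_P1 hH hF D₁ D₀ hinf' hα x)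
  rw [hhyp] at hle
  -- but `z₀ ∉ N`
  have hz₀Z := D₀.Z2_le hH hz₀
  have hz₀N : z₀ ∈ N := hle (mem_ZS.mp hz₀Z).1
  have hnorm : D₀.P1 hH ≤ Subgroup.normalizer ((D₁.P1 hH : Subgroup Ω) : Set Ω) := by
    intro g hg
    have hgS : g ∈ S := D₀.hmid.2.1 (P1_le hH D₀ hg)
    haveI : Finite ↥(D₁.P1 hH) := finite_of_le' ((P1_le hH D₁).trans D₁.hmid.2.1)
    apply mem_normalizer_of_conj_mem
    intro n hn
    have hnS : n ∈ S := D₁.hmid.2.1 (P1_le hH D₁ hn)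
    have h2 := Dsub_le_P1 hH D₁ (comm_mem_Dsub hnS hgS)
    have h3 := (D₁.P1 hH).mul_mem hn h2
    rwa [mul_inv_cancel_left] at h3
  have hz₀' : z₀ ∈ ((D₀.P1 hH ⊔ D₁.P1 hH : Subgroup Ω) : Set Ω) := hNdef ▸ hz₀N
  rw [Subgroup.coe_mul_of_left_le_normalizer_right _ _ hnorm] at hz₀'
  obtain ⟨a, ha, b, hb, hab⟩ := hz₀'
  have ha0 : a ∈ P₀ := P1_le hH D₀ ha
  have hb1 : b ∈ P₁ := P1_le hH D₁ hb
  have ha1 : a ∈ P₁ := by
    have e : a = z₀ * b⁻¹ := by rw [← hab]; group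
    rw [e]
    exact P₁.mul_mem (D₁.hmid.1 hz₀Z) (P₁.inv_mem hb1)
  have hb0 : b ∈ P₀ := by
    have e : b = a⁻¹ * z₀ := by rw [← hab]; group
    rw [e]
    exact P₀.mul_mem (P₀.inv_mem ha0) (D₀.hmid.1 hz₀Z)
  have haZ := inter_mids hH D₀.hmid D₁.hmid (Ne.symm hne) ha0 ha1
  have hbZ := inter_mids hH D₀.hmid D₁.hmid (Ne.symm hne) hb0 hb1
  have haD := mem_Dsub_of_P1_ZS hH D₀ ha haZ
  have hbD := mem_Dsub_of_P1_ZS hH D₁ hb hbZ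
  have hzD : z₀ ∈ Dsub S := by
    have : z₀ = a * b := hab.symm
    rw [this]
    exact (Dsub S).mul_mem haD hbD
  exact hz₀1 (eq_one_of_Dsub_Z2 hH D₀ hzD hz₀)

/-- for `p = 2` the centre has order `2` -/
theorem card_ZS_of_two (hH : Hyp 2 S) (F : FusionSystem S) (hF : F.IsSaturated 2)
    (hcore : F.core = ⊥) (hhyp : F.hyperfocalSubgroup 2 = S) : Nat.card (ZS S) = 2 := by
  obtain ⟨P₀, hP₀⟩ := exists_isEssential hH F hF hcore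
  obtain ⟨D₀⟩ := exists_act hH F hF hP₀
  by_cases h0 : fixSub D₀.u ⊓ fixSub D₀.u' = ⊥
  · exact card_ZS_of_inf_eq_bot hH D₀ h0
  · exfalso
    obtain ⟨x, hx1⟩ := (Subgroup.ne_bot_iff_exists_ne_one).mp h0
    have hx' : (x : ↥P₀) ∈ fixSub D₀.u ⊓ fixSub D₀.u' := x.2
    have hz₀ : (((x : ↥(fixSub D₀.u ⊓ fixSub D₀.u')) : ↥P₀) : Ω) ∈ D₀.Z2 := ⟨_, hx', rfl⟩
    have hz₀1 : (((x : ↥(fixSub D₀.u ⊓ fixSub D₀.u')) : ↥P₀) : Ω) ≠ 1 := by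
      intro h
      apply hx1
      apply Subtype.ext
      apply Subtype.ext
      exact h
    have hT : (((x : ↥(fixSub D₀.u ⊓ fixSub D₀.u')) : ↥P₀) : Ω) ∉ T2 F := by
      rw [T2_eq_bot hH F hF hcore, Subgroup.mem_bot]
      exact hz₀1
    rw [mem_T2] at hT
    push Not at hT
    obtain ⟨P₁, hP₁, hzP₁⟩ := hT (D₀.Z2_le hH hz₀)
    obtain ⟨D₁⟩ := exists_act hH F hF hP₁
    have hne : P₁ ≠ P₀ := by
      rintro rfl
      apply hzP₁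
      rw [← Z2_eq_K2 hH F hF D₀]
      exact hz₀
    exact false_of_two hH F hF hcore hhyp hP₀ hP₁ hne D₀ D₁ hz₀ hz₀1

end Cfsg.Agent.Helper26.ZI
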