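import Mathlib
import Cfsg.Agent.Helper26.ZI11
import Cfsg.Agent.Helper9.Class2
import Cfsg.Agent.Helper1.PGroup
import Cfsg.Agent.Helper14.Frattini
import Cfsg.Agent.Helper11.DihedralLift

set_option autoImplicit false
set_option linter.style.haveILetI false
set_option linter.unusedSectionVars false
set_option linter.unusedVariables false

/-! Final assembly: from the order of the centre to the structure of `S`. -/

namespace Cfsg.Agent.Helper26.ZI

open Cfsg Cfsg.FusionSystem Cfsg.Agent.Helper25 Cfsg.Agent.Helper25.Oliver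
open scoped commutatorElement

variable {Ω : Type*} [Group Ω] {p : ℕ} [hp : Fact p.Prime] {S : Subgroup Ω} [Finite S]

theorem ZS_eq_map_center (S : Subgroup Ω) : ZS S = (Subgroup.center ↥S).map S.subtype := by
  ext z
  constructor
  · intro hz
    exact ⟨⟨z, (mem_ZS.mp hz).1⟩, (mem_ZS_iff_center _).mp hz, rfl⟩
  · rintro ⟨s, hs, rfl⟩
    exact (mem_ZS_iff_center s).mpr hs

theorem card_ZS_eq (S : Subgroup Ω) : Nat.card (ZS S) = Nat.card (Subgroup.center ↥S) := by
  rw [ZS_eq_map_center, Subgroup.card_map_of_injective (Subgroup.subtype_injective _)]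

/-- the hypotheses of the statement give the working hypotheses -/
theorem hyp_of (hS : IsPGroup p S) (F : FusionSystem S) (hF : F.IsSaturated p) (hS1 : S ≠ ⊥)
    (hcore : F.core = ⊥) (hZ : (Subgroup.center ↥S).index ≤ p ^ 2) : Hyp p S := by
  have hna : ¬ ∀ a ∈ S, ∀ b ∈ S, a * b = b * a := by
    intro hab
    have h1 : F.IsNormal S := by
      apply isNormal_of_alperin p hS F hF S
      rintro P (rfl | hP)
      · refine ⟨le_rfl, fun α _ => ?_⟩
        have : P.subgroupOf P = ⊤ := Subgroup.subgroupOf_self P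
        rw [this]
        exact Subgroup.map_top_of_surjective _ α.surjective
      · exfalso
        have hPS : P ≤ S := hP.1.1
        have hcen : centralizerIn S P ≤ P := hP.1.2 P (isConj_refl F hPS)
        have hSP : S ≤ P := by
          intro g hg
          apply hcen
          exact Subgroup.mem_inf.mpr ⟨hg, Subgroup.mem_centralizer_iff.mpr
            (fun z hz => hab z (hPS hz) g hg)⟩
        exact ne_of_isEssential p hS F hF hP (le_antisymm hPS hSP)
    have h2 : S ≤ F.core := le_sSup h1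
    rw [hcore] at h2
    exact hS1 (le_bot_iff.mp h2)
  -- the quotient by the centre has order `p²`
  obtain ⟨k, hk⟩ := IsPGroup.iff_card.mp (hS.to_quotient (Subgroup.center ↥S))
  have hidx : (Subgroup.center ↥S).index = p ^ k := by
    rw [Subgroup.index_eq_card]; exact hk
  have hk2 : k ≤ 2 := by
    rw [hidx] at hZ
    exact (Nat.pow_le_pow_iff_right hp.out.one_lt).mp hZ
  have hk2' : k = 2 := by
    by_contra hne
    have hk1 : k ≤ 1 := by omega
    have hdvd : Nat.card (↥S ⧸ Subgroup.center ↥S) ∣ p := by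
      rw [hk]
      interval_cases k
      · simp
      · simp
    haveI : IsCyclic (↥S ⧸ Subgroup.center ↥S) := isCyclic_of_card_dvd_prime (p := p) hdvd
    apply hna
    intro a ha b hb
    have := (MonoidHom.isMulCommutative_of_isCyclic_of_ker_le_center
      (QuotientGroup.mk' (Subgroup.center ↥S))
      (by rw [QuotientGroup.ker_mk'])).is_comm.comm (⟨a, ha⟩ : ↥S) ⟨b, hb⟩
    exact congrArg Subtype.val this
  rw [hk2'] at hk hidx
  have hcommQ : ∀ a b : ↥S ⧸ Subgroup.center ↥S, a * b = b * a :=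
    (IsPGroup.isMulCommutative_of_card_eq_prime_sq hk).is_comm.comm
  have hle : commutator ↥S ≤ Subgroup.center ↥S := by
    letI : CommGroup (↥S ⧸ Subgroup.center ↥S) :=
      { (inferInstance : Group (↥S ⧸ Subgroup.center ↥S)) with mul_comm := hcommQ }
    have := Abelianization.commutator_subset_ker (QuotientGroup.mk' (Subgroup.center ↥S))
    rwa [QuotientGroup.ker_mk'] at this
  refine ⟨hS, hna, ?_, ?_⟩
  · intro a ha g hg
    have h1 : ⁅(⟨a, ha⟩ : ↥S)⁻¹, ⟨g, hg⟩⁆ ∈ commutator ↥S :=
      Subgroup.commutator_mem_commutator (Subgroup.mem_top _) (Subgroup.mem_top _)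
    have h2 := (mem_ZS_iff_center _).mpr (hle h1)
    have e : ((⁅(⟨a, ha⟩ : ↥S)⁻¹, ⟨g, hg⟩⁆ : ↥S) : Ω) = a⁻¹ * (g * a * g⁻¹) := by
      rw [commutatorElement_def]
      show a⁻¹ * g * (a⁻¹)⁻¹ * g⁻¹ = a⁻¹ * (g * a * g⁻¹)
      group
    rw [e] at h2
    exact h2
  · rw [card_ZS_eq, ← Subgroup.card_mul_index (Subgroup.center ↥S), hidx, mul_comm]

theorem commutator_le_center (hH : Hyp p S) : commutator ↥S ≤ Subgroup.center ↥S := by
  intro d hd
  have h1 : (d : Ω) ∈ Dsub S := ⟨d, hd, rfl⟩
  exact (mem_ZS_iff_center d).mp (Dsub_le_ZS hH h1)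

theorem pow_mem_center (hH : Hyp p S) (hcardZ : Nat.card (ZS S) = p) (a : ↥S) :
    a ^ p ∈ Subgroup.center ↥S := by
  have hG := commutator_le_center hH
  have hcc : Nat.card (Subgroup.center ↥S) = p := by rw [← card_ZS_eq]; exact hcardZ
  rw [Subgroup.mem_center_iff]
  intro g
  have h1 := Cfsg.Agent.Helper9.commutatorElement_pow_left hG a g p
  have h2 : ⁅a, g⁆ ∈ Subgroup.center ↥S :=
    hG (Subgroup.commutator_mem_commutator (Subgroup.mem_top _) (Subgroup.mem_top _))
  have h3 : ⁅a, g⁆ ^ p = 1 := pow_prime_eq_one_of_card_prime hcc h2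
  rw [h3] at h1
  have h4 : Commute (a ^ p) g := commutatorElement_eq_one_iff_commute.mp h1
  exact h4.symm

theorem extraspecial_of (hH : Hyp p S) (hcardZ : Nat.card (ZS S) = p) :
    IsExtraspecial p ↥S := by
  have hG := commutator_le_center hH
  have hcc : Nat.card (Subgroup.center ↥S) = p := by rw [← card_ZS_eq]; exact hcardZ
  have hcomm : commutator ↥S = Subgroup.center ↥S := by
    rcases inf_eq_bot_or_le_of_card_prime (D := Subgroup.center ↥S) (H := commutator ↥S) hcc
      with h | h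
    · exfalso
      have h1 : commutator ↥S = ⊥ := by
        rw [← inf_eq_right.mpr hG]; exact h
      apply hH.hna
      intro a ha b hb
      have h2 : ⁅(⟨a, ha⟩ : ↥S), ⟨b, hb⟩⁆ ∈ commutator ↥S :=
        Subgroup.commutator_mem_commutator (Subgroup.mem_top _) (Subgroup.mem_top _)
      rw [h1, Subgroup.mem_bot] at h2
      have h3 : Commute (⟨a, ha⟩ : ↥S) ⟨b, hb⟩ := commutatorElement_eq_one_iff_commute.mp h2
      exact congrArg Subtype.val h3
    · exact le_antisymm hG h
  have hfrat : frattini ↥S = Subgroup.center ↥S := by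
    apply le_antisymm
    · apply Cfsg.Agent.Helper14.frattini_le_of_elemAb p
      · intro a b
        exact hG (Subgroup.commutator_mem_commutator (Subgroup.mem_top _) (Subgroup.mem_top _))
      · intro a
        exact pow_mem_center hH hcardZ a
    · rw [← hcomm]
      exact Cfsg.Agent.Helper1.IsPGroup.commutator_le_frattini hH.hS
  exact ⟨⟨hH.hS, hfrat, hcomm⟩, hcc⟩

set_option maxHeartbeats 1600000 in
/-- for odd `p` the group has exponent `p` -/
theorem pow_eq_one_of_odd (hH : Hyp p S) (F : FusionSystem S) (hF : F.IsSaturated p)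
    (hcore : F.core = ⊥) (hcardZ : Nat.card (ZS S) = p) (hp2 : p ≠ 2) :
    ∀ x : ↥S, x ^ p = 1 := by
  have hG := commutator_le_center hH
  by_contra hcon
  push Not at hcon
  obtain ⟨x₀, hx₀⟩ := hcon
  let Epow : Subgroup ↥S :=
    { carrier := {x | x ^ p = 1}
      one_mem' := one_pow p
      mul_mem' := fun {a b} ha hb =>
        Cfsg.Agent.Helper9.mul_pow_prime_eq_one_of_class_two hp.out hp2 hG a b ha hb
      inv_mem' := fun {a} ha => by
        show a⁻¹ ^ p = 1
        rw [inv_pow, ha, inv_one] }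
  have hEmem : ∀ x : ↥S, x ∈ Epow ↔ x ^ p = 1 := fun x => Iff.rfl
  obtain ⟨E, hEdef⟩ : ∃ E : Subgroup Ω, E = Epow.map S.subtype := ⟨_, rfl⟩
  have hES : E ≤ S := by
    rw [hEdef]
    rintro _ ⟨y, -, rfl⟩
    exact y.2
  have hEne : E ≠ S := by
    intro h
    have h1 : (x₀ : Ω) ∈ E := h ▸ x₀.2
    rw [hEdef] at h1
    obtain ⟨y, hy, hyx⟩ := h1
    have : y = x₀ := Subtype.ext hyx
    rw [this] at hy
    exact hx₀ hy
  haveI := finite_of_le' (ZS_le S)
  have hZpos : 0 < Nat.card (ZS S) := Nat.card_pos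
  have hPE : ∀ P : Subgroup Ω, F.IsEssential p P → P = E := by
    intro P hP
    have hmid := mid_of_isEssential hH F hF hP
    have hle : P ≤ E := by
      intro x hx
      rw [hEdef]
      refine ⟨⟨x, hmid.2.1 hx⟩, ?_, rfl⟩
      exact Subtype.ext (pow_eq_one_of_mem_essential hH F hF hcore hP hx)
    by_contra hne
    have h1 := mul_card_le_of_lt hH.hS hle hES hne
    have h2 := mul_card_le_of_lt hH.hS hES le_rfl hEne
    rw [hmid.2.2] at h1
    rw [hH.hcard] at h2
    have hp1 : 1 < p := hp.out.one_lt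
    have h3 : p * (p * (p * Nat.card (ZS S))) ≤ p * (p * Nat.card (ZS S)) := by
      calc p * (p * (p * Nat.card (ZS S))) ≤ p * Nat.card E := Nat.mul_le_mul_left p h1
        _ ≤ p ^ 2 * Nat.card (ZS S) := h2
        _ = p * (p * Nat.card (ZS S)) := by ring
    have h4 : 0 < p * (p * Nat.card (ZS S)) := by positivity
    have h5 : p * (p * (p * Nat.card (ZS S))) = (p * (p * Nat.card (ZS S))) * p := by ring
    rw [h5] at h3
    have h6 : p ≤ 1 :=
      Nat.le_of_mul_le_mul_left (by rw [mul_one]; exact h3) h4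
    omega
  obtain ⟨P, hP⟩ := exists_isEssential hH F hF hcore
  have hN : F.IsNormal E := by
    apply isNormal_of_alperin p hH.hS F hF E
    rintro Q (rfl | hQ)
    · refine ⟨hES, fun α _ => ?_⟩
      have h1 : E.subgroupOf Q = Epow := by
        rw [hEdef]
        exact Subgroup.comap_map_eq_self_of_injective (Subgroup.subtype_injective _) Epow
      rw [h1]
      ext x
      constructor
      · rintro ⟨y, hy, rfl⟩
        rw [hEmem]
        show (α y) ^ p = 1
        rw [← map_pow, (hEmem y).mp hy, map_one]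
      · intro hx
        refine ⟨α⁻¹ x, ?_, by simp⟩
        rw [SetLike.mem_coe, hEmem, ← map_pow, (hEmem x).mp hx, map_one]
    · have hQE := hPE Q hQ
      refine ⟨hQE.ge, fun α _ => ?_⟩
      have h1 : E.subgroupOf Q = ⊤ := Subgroup.subgroupOf_eq_top.mpr hQE.le
      rw [h1]
      exact Subgroup.map_top_of_surjective _ α.surjective
  have h2 : E ≤ F.core := le_sSup hN
  rw [hcore] at h2
  have h3 : ZS S ≤ ⊥ := by
    refine le_trans ?_ h2
    rw [← hPE P hP]
    exact (mid_of_isEssential hH F hF hP).1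
  have h4 : ZS S = ⊥ := le_bot_iff.mp h3
  rw [h4, Subgroup.card_bot] at hcardZ
  exact hp.out.one_lt.ne hcardZ

theorem exponent_of_odd (hH : Hyp p S) (F : FusionSystem S) (hF : F.IsSaturated p)
    (hcore : F.core = ⊥) (hcardZ : Nat.card (ZS S) = p) (hp2 : p ≠ 2) :
    Monoid.exponent ↥S = p := by
  have h1 := pow_eq_one_of_odd hH F hF hcore hcardZ hp2
  have h2 : Monoid.exponent ↥S ∣ p := Monoid.exponent_dvd_of_forall_pow_eq_one h1
  rcases (Nat.dvd_prime hp.out).mp h2 with h | h
  · exfalso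
    rw [Monoid.exp_eq_one_iff] at h
    apply hH.hna
    intro a ha b hb
    have ha1 : (⟨a, ha⟩ : ↥S) = 1 := Subsingleton.elim _ _
    have : a = 1 := congrArg Subtype.val ha1
    rw [this, one_mul, mul_one]
  · exact h

theorem pair_of_card_two' {A : Type*} [Group A] {D : Subgroup A} (hD : Nat.card D = 2) {c x : A}
    (hc : c ∈ D) (hc1 : c ≠ 1) (hx : x ∈ D) : x = 1 ∨ x = c := by
  haveI : Fact (Nat.Prime 2) := ⟨Nat.prime_two⟩
  obtain ⟨n, hn⟩ := exists_pow_eq_of_card_prime hD hc hc1 hx
  have hc2 : c ^ 2 = 1 := pow_prime_eq_one_of_card_prime hD hc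
  rw [pow_eq_pow_mod n hc2] at hn
  rcases Nat.mod_two_eq_zero_or_one n with h | h
  · left; rw [← hn, h, pow_zero]
  · right; rw [← hn, h, pow_one]

set_option maxHeartbeats 1600000 in
/-- for `p = 2` the group is dihedral of order `8` -/
theorem dihedral_of_two {S : Subgroup Ω} [Finite S] (hH : Hyp 2 S) (F : FusionSystem S)
    (hF : F.IsSaturated 2) (hcore : F.core = ⊥) (hcardZ : Nat.card (ZS S) = 2) :
    Nonempty (↥S ≃* DihedralGroup 4) := by
  obtain ⟨P, hP⟩ := exists_isEssential hH F hF hcore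
  have hmid := mid_of_isEssential hH F hF hP
  have hexp : ∀ x ∈ P, x ^ 2 = 1 := fun x hx => pow_eq_one_of_mem_essential hH F hF hcore hP hx
  obtain ⟨x, hxP, hxZ⟩ := mid_exists_not_mem hmid
  have hxS : x ∈ S := hmid.2.1 hxP
  obtain ⟨z, hzZ, hz1⟩ := exists_ne_one_of_card_prime hcardZ
  have hz2 : z ^ 2 = 1 := pow_prime_eq_one_of_card_prime hcardZ hzZ
  have hZpair : ∀ w ∈ ZS S, w = 1 ∨ w = z := fun w hw => pair_of_card_two' hcardZ hzZ hz1 hw
  have hconj : ∀ g ∈ S, g ∉ P → g * x * g⁻¹ = x * z := by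
    intro g hg hgP
    have h1 := hH.hcomm x hxS g hg
    rcases hZpair _ h1 with h | h
    · exfalso
      apply hxZ
      apply mem_Z_of_comm hH hmid hg hgP hxP
      have h2 : g * x * g⁻¹ = x := by
        calc g * x * g⁻¹ = x * (x⁻¹ * (g * x * g⁻¹)) := by group
          _ = x := by rw [h, mul_one]
      calc g * x = (g * x * g⁻¹) * g := by group
        _ = x * g := by rw [h2]
    · calc g * x * g⁻¹ = x * (x⁻¹ * (g * x * g⁻¹)) := by group
        _ = x * z := by rw [h]
  have hexa : ∃ a ∈ S, a ∉ P ∧ a ^ 2 ≠ 1 := by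
    by_contra hcon
    push Not at hcon
    apply hH.hna
    have hall : ∀ a ∈ S, a * a = 1 := by
      intro a ha
      rw [← pow_two]
      by_cases h : a ∈ P
      · exact hexp a h
      · exact hcon a ha h
    intro a ha b hb
    have h1 := hall (a * b) (S.mul_mem ha hb)
    have ha2 := hall a ha
    have hb2 := hall b hb
    calc a * b = a * (a * b * (a * b)) * b := by rw [h1, mul_one]
      _ = (a * a) * (b * a) * (b * b) := by group
      _ = b * a := by rw [ha2, hb2, one_mul, mul_one]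
  obtain ⟨a, haS, haP, ha2⟩ := hexa
  have ha2Z : a ^ 2 ∈ ZS S := by
    have := pow_mem_center hH hcardZ (⟨a, haS⟩ : ↥S)
    exact (mem_ZS_iff_center _).mpr this
  have ha2z : a ^ 2 = z := (hZpair _ ha2Z).resolve_left ha2
  have hx2 : x * x = 1 := by rw [← pow_two]; exact hexp x hxP
  have hzz : z * z = 1 := by rw [← pow_two]; exact hz2
  have hxa : (x * a) * (x * a) = 1 := by
    have h1 := hconj a haS haP
    calc x * a * (x * a) = x * (a * x * a⁻¹) * (a * a) := by group
      _ = x * (x * z) * (a * a) := by rw [h1]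
      _ = (x * x) * z * a ^ 2 := by rw [pow_two]; group
      _ = 1 := by rw [hx2, ha2z, one_mul, hzz]
  obtain ⟨aS, haSdef⟩ : ∃ aS : ↥S, aS = ⟨a, haS⟩ := ⟨_, rfl⟩
  obtain ⟨bS, hbSdef⟩ : ∃ bS : ↥S, bS = ⟨x, hxS⟩ := ⟨_, rfl⟩
  have haS2 : aS ^ 2 ≠ 1 := by
    intro h
    apply ha2
    have := congrArg Subtype.val h
    rw [haSdef] at this
    exact this
  have haS4 : aS ^ 4 = 1 := by
    apply Subtype.ext
    rw [haSdef]
    show a ^ 4 = 1
    have : a ^ 4 = (a ^ 2) ^ 2 := by rw [← pow_mul]
    rw [this, ha2z, hz2]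
  apply Cfsg.Agent.Helper11.nonempty_mulEquiv_dihedralGroup 4 ?_ aS bS
  · have := orderOf_eq_prime_pow (p := 2) (n := 1) (x := aS) (by simpa using haS2)
      (by simpa using haS4)
    simpa using this
  · rw [hbSdef]
    exact Subtype.ext hx2
  · have h1 : (bS * aS) * (bS * aS) = 1 := by
      rw [hbSdef, haSdef]
      exact Subtype.ext hxa
    have h2 : (bS * aS * bS) * aS = 1 := by
      rw [← h1]; group
    exact eq_inv_of_mul_eq_one_left h2
  · intro h
    obtain ⟨k, hk⟩ := Subgroup.mem_zpowers_iff.mp h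
    have hcom : aS * bS = bS * aS := by
      rw [← hk]
      exact ((Commute.refl aS).zpow_right k).eq
    apply hxZ
    apply mem_Z_of_comm hH hmid haS haP hxP
    have := congrArg Subtype.val hcom
    rw [haSdef, hbSdef] at this
    exact this
  · rw [hH.hcard, hcardZ]; norm_num

end Cfsg.Agent.Helper26.ZI
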